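import Cfsg.Agent.Lib.Tails.Cert
import Cfsg.Agent.Lib.Schur.Trivial

/-!
# From certificates at the primes to the Schur multiplier
-/

set_option autoImplicit false

namespace CfsgLib.Schur.Tails

open Subgroup

variable {E : Type*} [Group E] {G : Type*} [Group G]

theorem isStem_quotient {σ : E →* G} (hσ : Cfsg.IsStemExtension σ) (N : Subgroup E) [N.Normal]
    (hN : N ≤ σ.ker) : Cfsg.IsStemExtension (QuotientGroup.lift N σ hN) := by
  have hker : (QuotientGroup.lift N σ hN).ker = σ.ker.map (QuotientGroup.mk' N) :=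
    QuotientGroup.ker_lift N σ hN
  refine ⟨fun y => ?_, ?_, ?_⟩
  · obtain ⟨x, hx⟩ := hσ.1 y
    exact ⟨QuotientGroup.mk' N x, hx⟩
  · rw [hker]
    rintro _ ⟨x, hx, rfl⟩
    refine mem_center_iff.2 fun y => ?_
    obtain ⟨y, rfl⟩ := QuotientGroup.mk'_surjective N y
    rw [← map_mul, ← map_mul, mem_center_iff.1 (hσ.2.1 hx) y]
  · rw [hker]
    refine (map_mono hσ.2.2).trans ?_
    rw [commutator_def, commutator_def, map_commutator]
    exact commutator_mono le_top le_top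

/-- A prime dividing the group order at most once does not divide the kernel. -/
theorem not_dvd_of_sq [Finite E] [Finite G] {σ : E →* G} (hσ : Cfsg.IsStemExtension σ) {p : ℕ}
    [hp : Fact p.Prime] (hsq : ¬ p ^ 2 ∣ Nat.card G) : ¬ p ∣ Nat.card σ.ker := by
  obtain ⟨P⟩ : Nonempty (Sylow p E) := inferInstance
  refine CfsgLib.Recognition.CoverKernel.not_dvd_of_abelian_sylow hσ.2.1 hσ.2.2 P fun x hx y hy => ?_
  let Q : Subgroup G := (P : Subgroup E).map σ
  have hQp : IsPGroup p Q := P.2.map σ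
  obtain ⟨k, hk⟩ := IsPGroup.iff_card.1 hQp
  have hk1 : k ≤ 1 := by
    by_contra hcon
    exact hsq ((pow_dvd_pow p (by omega : 2 ≤ k)).trans (hk ▸ card_subgroup_dvd_card Q))
  have : IsCyclic Q := by
    interval_cases k
    · have : Subsingleton Q := (Nat.card_eq_one_iff_unique.1 (by simpa using hk)).1
      infer_instance
    · exact isCyclic_of_prime_card (p := p) (by simpa using hk)
  let τ := σ.subgroupMap (P : Subgroup E)
  have hτ : τ.ker ≤ center (P : Subgroup E) := fun z hz => mem_center_iff.2 fun g =>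
    Subtype.ext (mem_center_iff.1 (hσ.2.1 (show σ z.1 = 1 from congrArg Subtype.val hz)) g.1)
  exact congrArg Subtype.val
    ((τ.isMulCommutative_of_isCyclic_of_ker_le_center hτ).is_comm.comm ⟨x, hx⟩ ⟨y, hy⟩)

/-- The powers of the kernel, as a subgroup. -/
def kerPow {σ : E →* G} (hc : σ.ker ≤ center E) (q : ℕ) : Subgroup E where
  carrier := {x | ∃ y ∈ σ.ker, y ^ q = x}
  one_mem' := ⟨1, one_mem _, one_pow q⟩
  mul_mem' := by
    rintro _ _ ⟨a, ha, rfl⟩ ⟨b, hb, rfl⟩
    exact ⟨a * b, mul_mem ha hb, (show Commute a b from mem_center_iff.1 (hc hb) a).mul_pow q⟩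
  inv_mem' := by
    rintro _ ⟨a, ha, rfl⟩
    exact ⟨a⁻¹, inv_mem ha, inv_pow a q⟩

theorem kerPow_le {σ : E →* G} (hc : σ.ker ≤ center E) (q : ℕ) : kerPow hc q ≤ σ.ker := by
  rintro _ ⟨a, ha, rfl⟩
  exact pow_mem ha q

theorem kerPow_normal {σ : E →* G} (hc : σ.ker ≤ center E) (q : ℕ) : (kerPow hc q).Normal :=
  ⟨fun a ha x => by
    rwa [mem_center_iff.1 (hc (kerPow_le hc q ha)) x, mul_inv_cancel_right]⟩

/-- The kernel modulo its powers. -/
theorem card_powers_le [Finite E] {σ : E →* G} (hc : σ.ker ≤ center E) (q : ℕ) (H : Subgroup E)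
    (hH : H ≤ σ.ker) (hHq : ∀ x ∈ H, x ^ q = 1) [(kerPow hc q).Normal] :
    Nat.card H ≤ Nat.card (σ.ker.map (QuotientGroup.mk' (kerPow hc q))) := by
  let f : σ.ker →* σ.ker :=
    { toFun := fun x => ⟨x.1 ^ q, pow_mem x.2 q⟩
      map_one' := Subtype.ext (one_pow q)
      map_mul' := fun a b => Subtype.ext
        ((show Commute a.1 b.1 from mem_center_iff.1 (hc b.2) a.1).mul_pow q) }
  have h1 : Nat.card H ≤ Nat.card f.ker := by
    refine Nat.card_le_card_of_injective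
      (fun x : H => (⟨⟨x.1, hH x.2⟩, Subtype.ext (hHq _ x.2)⟩ : f.ker)) fun a b h => ?_
    exact Subtype.ext (congrArg (fun z : f.ker => (z.1.1 : E)) h)
  refine h1.trans ?_
  have h2 : Nat.card f.ker * Nat.card f.range = Nat.card σ.ker := by
    rw [← Subgroup.index_ker]; exact f.ker.card_mul_index
  have h3 : Nat.card f.range = Nat.card (kerPow hc q) := by
    refine Nat.card_congr (Equiv.ofBijective (fun x => ⟨x.1.1, ?_⟩) ⟨?_, ?_⟩)
    · obtain ⟨⟨y, hy⟩, e⟩ := x.2
      exact ⟨y, hy, congrArg Subtype.val e⟩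
    · intro a b h
      exact Subtype.ext (Subtype.ext (congrArg (fun z : kerPow hc q => (z.1 : E)) h))
    · rintro ⟨_, y, hy, rfl⟩
      exact ⟨⟨f ⟨y, hy⟩, ⟨_, rfl⟩⟩, rfl⟩
  let g := (QuotientGroup.mk' (kerPow hc q)).subgroupMap σ.ker
  have h4 : Nat.card g.ker * Nat.card (σ.ker.map (QuotientGroup.mk' (kerPow hc q))) = Nat.card σ.ker := by
    have e : g.ker.index = Nat.card (σ.ker.map (QuotientGroup.mk' (kerPow hc q))) := by
      rw [Subgroup.index_ker, MonoidHom.range_eq_top.2 (MonoidHom.subgroupMap_surjective _ _),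
        Subgroup.card_top]
    rw [← e]; exact g.ker.card_mul_index
  have h5 : Nat.card g.ker = Nat.card (kerPow hc q) := by
    refine Nat.card_congr (Equiv.ofBijective (fun x => ⟨x.1.1, ?_⟩) ⟨?_, ?_⟩)
    · exact (QuotientGroup.eq_one_iff (N := kerPow hc q) _).1 (congrArg Subtype.val x.2)
    · intro a b h
      exact Subtype.ext (Subtype.ext (congrArg (fun z : kerPow hc q => (z.1 : E)) h))
    · rintro ⟨y, hy⟩
      exact ⟨⟨⟨y, kerPow_le hc q hy⟩, Subtype.ext ((QuotientGroup.eq_one_iff _).2 hy)⟩, rfl⟩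
  rw [h5] at h4
  rw [h3] at h2
  have hpos : 0 < Nat.card (kerPow hc q) := Nat.card_pos
  refine le_of_eq (Nat.eq_of_mul_eq_mul_right hpos ?_)
  rw [h2, mul_comm _ (Nat.card (kerPow hc q)), h4]

/-- The hypotheses needed from the group for a certificate. -/
structure Cert.Realised (c : Cert) (G : Type*) [Group G] : Prop where
  ok : c.checkB = true
  exists_gens : ∃ g : ℕ → G, (∀ r ∈ c.rels, evW g r.1 = evW g r.2) ∧
    (∀ f ∈ c.fus, ∃ h : G, ∀ k < f.xs.length,
      h * evW g (f.xs.getD k []) = evW g (f.ys.getD k []) * h) ∧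
    c.p ^ c.n ≤ Nat.card (Subgroup.closure (g '' {k | k < c.n})) ∧
    ¬ c.p ^ (c.n + 1) ∣ Nat.card G

/-- The kernel modulo `q`-th powers is killed up to the remaining class. -/
theorem Cert.Realised.bound [Finite E] [Finite G] {c : Cert} (hc : c.Realised G) [Fact c.p.Prime]
    {σ : E →* G} (hσ : Cfsg.IsStemExtension σ) (H : Subgroup E) (hH : H ≤ σ.ker)
    (hHq : ∀ x ∈ H, x ^ c.q = 1) :
    Nat.card H ≤ c.p ∧ (c.tau = [] → Nat.card H ≤ 1) := by
  obtain ⟨g, hrel, hfus, hP, hG⟩ := hc.exists_gens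
  have := kerPow_normal hσ.2.1 c.q
  let N := kerPow hσ.2.1 c.q
  have hσ' := isStem_quotient hσ N (kerPow_le _ _)
  have hexp : ∀ z ∈ (QuotientGroup.lift N σ (kerPow_le _ _)).ker, z ^ c.q = 1 := by
    intro z hz
    rw [QuotientGroup.ker_lift] at hz
    obtain ⟨x, hx, rfl⟩ := hz
    rw [← map_pow]
    exact (QuotientGroup.eq_one_iff (N := N) _).2 ⟨x, hx, rfl⟩
  obtain ⟨τ, -, hτp, hle, htriv⟩ := c.kill hc.ok _ hσ' hexp g hrel hfus hP hG
  have h := card_powers_le hσ.2.1 c.q H hH hHq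
  rw [← QuotientGroup.ker_lift N σ (kerPow_le hσ.2.1 c.q)] at h
  have h2 := Subgroup.card_le_of_le hle
  rw [Nat.card_zpowers] at h2
  refine ⟨h.trans (h2.trans (Nat.le_of_dvd (Fact.out : c.p.Prime).pos (orderOf_dvd_of_pow_eq_one hτp))),
    fun ht => h.trans (h2.trans ?_)⟩
  rw [htriv ht, orderOf_one]

/-- A certificate with modulus the prime and no remaining class. -/
theorem Cert.Realised.not_dvd [Finite E] [Finite G] {c : Cert} (hc : c.Realised G) {p : ℕ}
    [Fact p.Prime] (hp : c.p = p) (hq : c.q = p) (ht : c.tau = [])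
    {σ : E →* G} (hσ : Cfsg.IsStemExtension σ) : ¬ p ∣ Nat.card σ.ker := by
  subst hp
  intro hdvd
  obtain ⟨a, ha⟩ := exists_prime_orderOf_dvd_card' c.p hdvd
  have h := (hc.bound hσ (zpowers (a : E)) (zpowers_le.2 a.2) fun x hx => by
    obtain ⟨k, rfl⟩ := mem_zpowers_iff.1 hx
    rw [← zpow_natCast, ← zpow_mul, mul_comm, zpow_mul, zpow_natCast, hq, ← ha,
      ← Subgroup.coe_pow, pow_orderOf_eq_one, Subgroup.coe_one, one_zpow]).2 ht
  rw [Nat.card_zpowers, Subgroup.orderOf_coe, ha] at h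
  exact absurd h (by have := (Fact.out : c.p.Prime).one_lt; omega)

/-- A certificate with modulus the square of the prime. -/
theorem Cert.Realised.sq_not_dvd [Finite E] [Finite G] {c : Cert} (hc : c.Realised G) {p : ℕ}
    [Fact p.Prime] (hp : c.p = p) (hq : c.q = p * p)
    {σ : E →* G} (hσ : Cfsg.IsStemExtension σ) : ¬ p ^ 2 ∣ Nat.card σ.ker := by
  subst hp
  intro hdvd
  obtain ⟨K, hK⟩ := Sylow.exists_subgroup_card_pow_prime c.p hdvd
  have h := (hc.bound hσ (K.map σ.ker.subtype) (map_subtype_le K) fun x hx => by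
    obtain ⟨y, hy, rfl⟩ := hx
    have h1 : (⟨y, hy⟩ : K) ^ (c.p ^ 2) = 1 := hK ▸ pow_card_eq_one'
    rw [hq, ← pow_two, ← map_pow, show y ^ (c.p ^ 2) = 1 from congrArg Subtype.val h1, map_one]).1
  rw [Subgroup.card_map_of_injective σ.ker.subtype_injective, hK, pow_two] at h
  have := Nat.le_of_mul_le_mul_left (h.trans (mul_one c.p).ge) (Fact.out : c.p.Prime).pos
  exact absurd this (by have := (Fact.out : c.p.Prime).one_lt; omega)

/-- A cyclic multiplier from a cover and a divisibility bound. -/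
theorem hasCyclic_of_bound.{u} {Q : Type u} [Group Q] [Finite Q] {n : ℕ} [NeZero n]
    (hcov : ∃ (Γ : Type u) (_ : Group Γ) (_ : Finite Γ) (σ : Γ →* Q),
      Cfsg.IsStemExtension σ ∧ Nonempty (σ.ker ≃* Multiplicative (ZMod n)))
    (h : ∀ (Γ : Type u) [Group Γ] [Finite Γ] (σ : Γ →* Q), Cfsg.IsStemExtension σ →
      IsCyclic σ.ker ∧ Nat.card σ.ker ∣ n) :
    Cfsg.HasCyclicSchurMultiplier Q n := by
  refine ⟨hcov, fun Γ _ _ σ hσ => ?_⟩
  obtain ⟨hcyc, hdvd⟩ := h Γ σ hσ
  obtain ⟨g, hg⟩ := hcyc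
  let π : Multiplicative (ZMod n) →* σ.ker :=
    AddMonoidHom.toMultiplicativeLeft (ZMod.lift n ⟨AddMonoidHom.mk' (fun k : ℤ => Additive.ofMul (g ^ k))
      (fun a b => by rw [zpow_add]; rfl), by
        show Additive.ofMul (g ^ (n : ℤ)) = 0
        obtain ⟨k, hk⟩ := hdvd
        rw [zpow_natCast, hk, pow_mul, pow_card_eq_one', one_pow]
        rfl⟩)
  refine ⟨π, fun x => ?_⟩
  obtain ⟨k, rfl⟩ := hg x
  refine ⟨Multiplicative.ofAdd (k : ZMod n), ?_⟩
  simp [π]

end CfsgLib.Schur.Tails
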