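import Cfsg.Agent.Lib.Tails.AltBasic

/-!
# The multiplier of the alternating group of degree 6
-/

set_option autoImplicit false
set_option maxRecDepth 100000

namespace CfsgLib.Schur.Tails.Alt

open CfsgLib.Golay CfsgLib.TailsData Equiv

theorem cover6_double : PermCover.coverB 6 80 (by norm_num) (by norm_num) doubleA6Levels doubleA6Low doubleA6Z doubleA6U doubleA6V 720 360 = true := by
  decide +kernel

theorem cover6_triple : PermCover.coverB 6 18 (by norm_num) (by norm_num) tripleA6Levels tripleA6Low tripleA6Z tripleA6U tripleA6V 1080 360 = true := by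
  decide +kernel

theorem low6 : Bsgs.check (PermCover.ops 6 (by norm_num)) [] doubleA6Low = true ∧
    (doubleA6Low.map fun l => l.reps.length).prod * 2 = Nat.factorial 6 ∧
    (Bsgs.allGens doubleA6Levels).all (fun r => (PermCover.lowC 6 r == (PermCover.ops 6 (by norm_num)).one) ||
      (Bsgs.allGens doubleA6Low).contains (PermCover.lowC 6 r)) = true ∧
    Bsgs.check (PermCover.ops 6 (by norm_num)) [] tripleA6Low = true ∧
    (tripleA6Low.map fun l => l.reps.length).prod * 2 = Nat.factorial 6 ∧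
    (Bsgs.allGens tripleA6Levels).all (fun r => (PermCover.lowC 6 r == (PermCover.ops 6 (by norm_num)).one) ||
      (Bsgs.allGens tripleA6Low).contains (PermCover.lowC 6 r)) = true := by
  refine ⟨?_, ?_, ?_, ?_, ?_, ?_⟩ <;> decide +kernel

theorem primes6 : primeB (n := 6) (by norm_num) twoA6Cert twoA6Gens twoA6Hs twoA6Base twoA6Slp twoA6Idx = true ∧
    primeB (n := 6) (by norm_num) threeA6Cert threeA6Gens threeA6Hs threeA6Base threeA6Slp threeA6Idx = true ∧
    (twoA6Cert.p = 2 ∧ twoA6Cert.q = 4 ∧ twoA6Cert.n = 3) ∧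
    (threeA6Cert.p = 3 ∧ threeA6Cert.q = 9 ∧ threeA6Cert.n = 2) := by
  refine ⟨?_, ?_, ⟨?_, ?_, ?_⟩, ?_, ?_, ?_⟩ <;> decide +kernel

theorem card6 : Nat.card (alternatingGroup (Fin 6)) = 360 := by
  rw [Nat.card_eq_fintype_card, card_alternatingGroup, Fintype.card_fin]
  rfl

theorem perfect6 : commutator (alternatingGroup (Fin 6)) = ⊤ := by
  haveI : IsSimpleGroup (alternatingGroup (Fin 6)) := alternatingGroup.isSimpleGroup (by simp)
  refine (Subgroup.Normal.eq_bot_or_eq_top inferInstance).resolve_left fun h => ?_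
  have hcomm : ∀ a b : alternatingGroup (Fin 6), a * b = b * a := fun a b => by
    rw [← commutatorElement_eq_one_iff_mul_comm, ← Subgroup.mem_bot, ← h]
    exact Subgroup.commutator_mem_commutator (Subgroup.mem_top _) (Subgroup.mem_top _)
  exact absurd (hcomm ⟨(Equiv.swap 0 1 * Equiv.swap 1 2), by simp⟩ ⟨(Equiv.swap 0 1 * Equiv.swap 2 3), by simp⟩) (by decide)

theorem multiplier6 : Cfsg.HasCyclicSchurMultiplier (alternatingGroup (Fin 6)) 6 := by
  obtain ⟨a1, a2, a3, b1, b2, b3⟩ := low6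
  obtain ⟨p2, p3, ⟨f1, f2, f3⟩, g1, g2, g3⟩ := primes6
  have : Fact (Nat.Prime 2) := ⟨Nat.prime_two⟩
  have : Fact (Nat.Prime 3) := ⟨Nat.prime_three⟩
  obtain ⟨A, iA, fA, σ₁, h₁, c₁⟩ := PermCover.exists_cover (p := 2) _ _ cover6_double
    (low_mem _ (by norm_num) a1 a2 a3) card6 rfl
  obtain ⟨B, iB, fB, σ₂, h₂, c₂⟩ := PermCover.exists_cover (p := 3) _ _ cover6_triple
    (low_mem _ (by norm_num) b1 b2 b3) card6 rfl
  refine hasCyclic_of_two perfect6 h₁ h₂ (by rw [c₁, c₂]; rfl) fun Γ _ _ σ hσ => ?_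
  refine bound_six hσ ?_ ?_ fun p hp h2 h3 => ?_
  · have : Fact twoA6Cert.p.Prime := ⟨f1 ▸ Nat.prime_two⟩
    exact (realised _ p2 (by rw [f1, f3, card6]; decide)).sq_not_dvd f1 f2 hσ
  · have : Fact threeA6Cert.p.Prime := ⟨g1 ▸ Nat.prime_three⟩
    exact (realised _ p3 (by rw [g1, g3, card6]; decide)).sq_not_dvd g1 g2 hσ
  · have := Fact.mk hp
    refine not_dvd_of_sq hσ fun hsq => ?_
    rw [card6] at hsq
    have hle := Nat.le_of_dvd (by norm_num) hsq
    have hp50 : p < 51 := by nlinarith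
    interval_cases p <;> first | omega | norm_num at hp | norm_num at hsq

end CfsgLib.Schur.Tails.Alt
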