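import Cfsg.Agent.Lib.Tails.AltSix
import Cfsg.Agent.Lib.Classical.SLBasic
import Cfsg.Agent.Lib.Classical.SL2Small
import Cfsg.Agent.S0497

/-!
# The multiplier of SL(2,9)
-/

set_option autoImplicit false

namespace CfsgLib.Schur.Tails

open Matrix Subgroup

universe u

/-- Stem extensions restrict along an isomorphism of the source. -/
theorem isStem_precomp {E E' : Type*} [Group E] [Group E'] {G : Type*} [Group G] (e : E' ≃* E)
    {σ : E →* G} (h : Cfsg.IsStemExtension σ) :
    Cfsg.IsStemExtension (σ.comp e.toMonoidHom) ∧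
      Nonempty ((σ.comp e.toMonoidHom).ker ≃* σ.ker) := by
  have hk : (σ.comp e.toMonoidHom).ker = σ.ker.comap e.toMonoidHom := by
    rw [MonoidHom.comap_ker]
  refine ⟨⟨h.1.comp e.surjective, fun x hx => mem_center_iff.2 fun y => e.injective ?_, fun x hx => ?_⟩,
    ⟨(MulEquiv.subgroupCongr hk).trans (MulEquiv.ofBijective (e.toMonoidHom.subgroupComap σ.ker)
      ⟨fun a b h => Subtype.ext (e.injective (congrArg Subtype.val h)),
        fun z => ⟨⟨e.symm z.1, by simp [z.2]⟩, Subtype.ext (e.apply_symm_apply z.1)⟩⟩)⟩⟩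
  · rw [map_mul, map_mul]
    exact mem_center_iff.1 (h.2.1 hx) _
  · have hc : e x ∈ (commutator E').map e.toMonoidHom := by
      rw [_root_.commutator_def, Subgroup.map_commutator, Subgroup.map_top_of_surjective _ e.surjective,
        ← _root_.commutator_def]
      exact h.2.2 hx
    obtain ⟨y, hy, hye⟩ := hc
    exact e.injective hye ▸ hy

/-- A cyclic multiplier along an isomorphism, between universes. -/
theorem hasCyclic_congr {G : Type} [Group G] [Finite G] {H : Type u} [Group H] (e : G ≃* H) {n : ℕ}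
    [NeZero n] (h : Cfsg.HasCyclicSchurMultiplier G n) : Cfsg.HasCyclicSchurMultiplier H n := by
  have : Finite H := Finite.of_equiv _ e.toEquiv
  obtain ⟨Γ, iΓ, fΓ, σ, hσ, ⟨f⟩⟩ := h.1
  refine hasCyclic_of_bound ⟨ULift.{u} Γ, inferInstance, inferInstance,
    e.toMonoidHom.comp (σ.comp MulEquiv.ulift.toMonoidHom), ?_⟩ fun E _ _ τ hτ => ?_
  · obtain ⟨h1, ⟨g⟩⟩ := isStem_precomp (MulEquiv.ulift : ULift.{u} Γ ≃* Γ) hσ
    have hk : (e.toMonoidHom.comp (σ.comp MulEquiv.ulift.toMonoidHom)).ker =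
        (σ.comp (MulEquiv.ulift : ULift.{u} Γ ≃* Γ).toMonoidHom).ker := by
      ext x; simp [MonoidHom.mem_ker]
    exact ⟨⟨e.surjective.comp h1.1, hk ▸ h1.2.1, hk ▸ h1.2.2⟩,
      ⟨(MulEquiv.subgroupCongr hk).trans (g.trans f)⟩⟩
  · haveI : Small.{0} E := Countable.toSmall E
    have hτ' : Cfsg.IsStemExtension (e.symm.toMonoidHom.comp τ) ∧
        (e.symm.toMonoidHom.comp τ).ker = τ.ker := by
      have hk : (e.symm.toMonoidHom.comp τ).ker = τ.ker := by
        ext x; simp [MonoidHom.mem_ker]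
      exact ⟨⟨e.symm.surjective.comp hτ.1, hk ▸ hτ.2.1, hk ▸ hτ.2.2⟩, hk⟩
    haveI : Finite (Shrink.{0} E) := Finite.of_equiv _ (equivShrink E)
    obtain ⟨h1, ⟨g⟩⟩ := isStem_precomp (Shrink.mulEquiv : Shrink.{0} E ≃* E) hτ'.1
    obtain ⟨hcyc, hdvd⟩ := bound_of_hasCyclic h _ _ h1
    rw [hτ'.2] at g
    exact ⟨g.isCyclic.1 hcyc, Nat.card_congr g.toEquiv ▸ hdvd⟩

variable {F : Type u} [Field F] [Fintype F]

theorem psl_nine (hF : Fintype.card F = 9) :
    Nonempty (alternatingGroup (Fin 6) ≃* ProjectiveSpecialLinearGroup (Fin 2) F) := by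
  haveI : IsSimpleGroup (ProjectiveSpecialLinearGroup (Fin 2) F) :=
    Matrix.ProjectiveSpecialLinearGroup.rank_two_simple (by rw [Nat.card_eq_fintype_card, hF]; norm_num)
  have h := CfsgLib.Classical.card_PSL_mul (F := F) hF 2 (by norm_num)
  norm_num [Fin.prod_univ_two] at h
  obtain ⟨e⟩ := Cfsg.Agent.S0497.result (G := ProjectiveSpecialLinearGroup (Fin 2) F)
    (by omega)
  exact ⟨e.symm⟩

theorem sl_nine_perfect (hF : Fintype.card F = 9) : commutator (SpecialLinearGroup (Fin 2) F) = ⊤ := by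
  classical
  obtain ⟨x, hx, hx2⟩ : ∃ x : F, x ≠ 0 ∧ x ^ 2 ≠ 1 := by
    by_contra hcon
    push Not at hcon
    have hs : (Finset.univ : Finset F) ⊆ {0, 1, -1} := fun x _ => by
      simp only [Finset.mem_insert, Finset.mem_singleton]
      by_cases hx : x = 0
      · exact Or.inl hx
      · exact Or.inr (sq_eq_one_iff.1 (hcon x hx))
    have := Finset.card_le_card hs
    have := Finset.card_le_three (a := (0 : F)) (b := 1) (c := -1)
    rw [Finset.card_univ] at *
    omega
  exact CfsgLib.Classical.SL_le_of_transvections _ fun i j hij c => by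
    rw [commutator_eq_closure]
    exact Subgroup.subset_closure (CfsgLib.Classical.transvection_mem_commutatorSet_of_sq hij hx hx2 c)

theorem multiplier_SLNine (hF : Fintype.card F = 9) :
    Cfsg.HasCyclicSchurMultiplier (SpecialLinearGroup (Fin 2) F) 3 := by
  classical
  obtain ⟨e⟩ := psl_nine hF
  let ρ : SpecialLinearGroup (Fin 2) F →* ProjectiveSpecialLinearGroup (Fin 2) F := QuotientGroup.mk' _
  have hρ : Cfsg.IsStemExtension ρ := ⟨QuotientGroup.mk'_surjective _,
    (QuotientGroup.ker_mk' _).le, le_top.trans (sl_nine_perfect hF).ge⟩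
  have hperf : commutator (ProjectiveSpecialLinearGroup (Fin 2) F) = ⊤ := by
    have h := Subgroup.map_commutator ⊤ ⊤ ρ
    rw [Subgroup.map_top_of_surjective ρ hρ.1, ← _root_.commutator_def, ← _root_.commutator_def,
      sl_nine_perfect hF, Subgroup.map_top_of_surjective ρ hρ.1] at h
    exact h.symm
  refine hasCyclic_of_quotient hperf (n := 6) (hasCyclic_congr e Alt.multiplier6) hρ ?_
  have h1 := ρ.ker.card_mul_index
  rw [Subgroup.index_ker, MonoidHom.range_eq_top.2 hρ.1, Subgroup.card_top] at h1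
  have h2 : Nat.card (SpecialLinearGroup (Fin 2) F) = 720 := by
    rw [CfsgLib.Classical.card_SL_two hF]
  rw [h2, ← Nat.card_congr e.toEquiv, Alt.card6] at h1
  omega

end CfsgLib.Schur.Tails
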