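import Cfsg.Agent.Lib.Tails.SpSixChecks

/-!
# The double cover of the symplectic group of dimension six over two elements

It acts on 240 points in 120 pairs; a chain on 63 + 120 points matches the pairs with the vectors.
-/

set_option autoImplicit false
set_option maxRecDepth 100000

namespace CfsgLib.Schur.Tails.SpSix

open CfsgLib.Golay CfsgLib.TailsData Subgroup
open scoped commutatorElement

attribute [local irreducible] spLowBase spLowLevels spLowSlp spPairBase spPairLevels spPairSlp
  spMidBase spHighBase spHighSlp spHighZ spHighU spHighV spNbLists spNbMasks spLink permOf PackPerm.pack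
  PackPerm.toL PackPerm.getP PackPerm.mulP validL

/-- A code as a permutation. -/
noncomputable def permC (n A : ℕ) : Equiv.Perm (Fin n) := permOf (Equiv.refl (Fin n)) (PackPerm.toL n A)

theorem val_eq {k : ℕ} [NeZero k] (hk : k ≤ 256) (A : ℕ) : (PermCover.ops k hk).val A = permC k A :=
  rfl

theorem permC_apply {n A : ℕ} (h : PackPerm.okP n A = true) (x : Fin n) :
    (permC n A x).val = PackPerm.getP A x.val := by
  have e := permOf_apply (Equiv.refl (Fin n)) (PackPerm.validL_of_okP h) x
  simp only [Equiv.refl_apply] at e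
  rw [permC, e, PackPerm.toL_getD _ x.isLt]

/-- The group generated by a list of codes. -/
noncomputable def gen (k : ℕ) (base : List ℕ) : Subgroup (Equiv.Perm (Fin k)) :=
  closure {g | ∃ b ∈ base, permC k b = g}

theorem chain_spec {k : ℕ} [NeZero k] {hk : k ≤ 256} {base : List ℕ} {levels : List Bsgs.Lvl}
    {stp : List (ℕ × Bool × ℕ × ℕ)} {total : ℕ} (h : chainB k hk base levels stp total = true) :
    Bsgs.grp (PermCover.ops k hk) levels = gen k base ∧ Nat.card (gen k base) = total ∧
      ∀ b ∈ base, PackPerm.okP k b = true := by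
  simp only [chainB, Bool.and_eq_true, List.all_eq_true, decide_eq_true_eq, List.contains_iff_mem] at h
  obtain ⟨⟨⟨⟨⟨hc, hs⟩, hok⟩, hb⟩, hg⟩, hp⟩ := h
  have hspec := Bsgs.spec (PermCover.ops k hk) (fun f hf => absurd hf List.not_mem_nil) hc
  have e : Bsgs.grp (PermCover.ops k hk) levels = gen k base := by
    refine le_antisymm ((closure_le _).2 ?_) ((closure_le _).2 ?_)
    · rintro _ ⟨r, hr, rfl⟩
      exact (Bsgs.slp_sound (PermCover.ops k hk) (gen k base) hs
        (fun c hcb => ⟨hok c hcb, subset_closure ⟨c, hcb, rfl⟩⟩) r (hg r hr)).2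
    · rintro _ ⟨b, hbm, rfl⟩
      exact subset_closure ⟨b, hb b hbm, rfl⟩
  exact ⟨e, by rw [← e, hspec.2.2.2.1, hp], hok⟩

theorem gen_low : gen 63 spLowBase = phi.range := by
  refine Subgroup.eq_of_le_of_card_ge ((closure_le _).2 ?_)
    (by rw [card_range, (chain_spec low_chain).2.1])
  rintro _ ⟨b, hb, rfl⟩
  exact mem_range_of_matB (List.all_eq_true.1 low_mats b hb)

/-- The paired group. -/
noncomputable def Pairs : Subgroup (Equiv.Perm (Fin 63) × Equiv.Perm (Fin 120)) :=
  closure {x | ∃ r ∈ spPairBase, PermCover.pair 63 120 r = x}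

theorem card_pairs : Nat.card Pairs = 1451520 := by
  obtain ⟨-, hc, -⟩ := chain_spec pair_chain
  have hm := pair_match
  simp only [pairsB, Bool.and_eq_true, List.all_eq_true] at hm
  have hmap : Pairs.map (PermCover.ι 63 120) = gen (63 + 120) spPairBase := by
    rw [Pairs, MonoidHom.map_closure, gen]
    congr 1
    ext g
    constructor
    · rintro ⟨_, ⟨r, hr, rfl⟩, rfl⟩
      exact ⟨r, hr, (PermCover.ι_pair (hm.1.1 r hr)).symm⟩
    · rintro ⟨r, hr, rfl⟩
      exact ⟨_, ⟨r, hr, rfl⟩, PermCover.ι_pair (hm.1.1 r hr)⟩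
  rw [← Subgroup.card_map_of_injective PermCover.ι_injective, hmap, hc]

theorem map_fst : Pairs.map (MonoidHom.fst _ _) = phi.range := by
  have hm := pair_match
  simp only [pairsB, Bool.and_eq_true, beq_iff_eq] at hm
  rw [← gen_low, Pairs, MonoidHom.map_closure, gen]
  congr 1
  ext g
  simp only [Set.mem_image, Set.mem_ofPred_eq, ← hm.1.2, List.mem_map]
  constructor
  · rintro ⟨_, ⟨r, hr, rfl⟩, rfl⟩
    exact ⟨_, ⟨r, hr, rfl⟩, rfl⟩
  · rintro ⟨_, ⟨r, hr, rfl⟩, rfl⟩
    exact ⟨_, ⟨r, hr, rfl⟩, rfl⟩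

theorem map_snd : Pairs.map (MonoidHom.snd _ _) = gen 120 spMidBase := by
  have hm := pair_match
  simp only [pairsB, Bool.and_eq_true, beq_iff_eq] at hm
  rw [Pairs, MonoidHom.map_closure, gen]
  congr 1
  ext g
  simp only [Set.mem_image, Set.mem_ofPred_eq]
  constructor
  · rintro ⟨_, ⟨r, hr, rfl⟩, rfl⟩
    have : PermCover.highL 63 120 r ∈ spMidBase.map (PackPerm.toL 120) :=
      hm.2 ▸ List.mem_map_of_mem hr
    obtain ⟨b, hb, e⟩ := List.mem_map.1 this
    exact ⟨b, hb, congrArg (permOf (Equiv.refl (Fin 120))) e⟩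
  · rintro ⟨b, hb, rfl⟩
    have : PackPerm.toL 120 b ∈ spPairBase.map (PermCover.highL 63 120) :=
      hm.2.symm ▸ List.mem_map_of_mem hb
    obtain ⟨r, hr, e⟩ := List.mem_map.1 this
    exact ⟨_, ⟨r, hr, rfl⟩, congrArg (permOf (Equiv.refl (Fin 120))) e⟩

theorem mid_equiv : Nonempty (gen 120 spMidBase ≃* phi.range) := by
  let f : Pairs →* Equiv.Perm (Fin 63) := (MonoidHom.fst _ _).comp Pairs.subtype
  let g : Pairs →* Equiv.Perm (Fin 120) := (MonoidHom.snd _ _).comp Pairs.subtype
  have hf : f.range = phi.range := by rw [MonoidHom.range_comp, range_subtype, map_fst]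
  have hg : g.range = gen 120 spMidBase := by rw [MonoidHom.range_comp, range_subtype, map_snd]
  let f' : Pairs →* phi.range := (MulEquiv.subgroupCongr hf).toMonoidHom.comp f.rangeRestrict
  have hf' : Function.Bijective f' := (Nat.bijective_iff_surjective_and_card f').2
    ⟨(MulEquiv.subgroupCongr hf).surjective.comp f.rangeRestrict_surjective, by
      rw [card_pairs, card_range]⟩
  have := range_simple.1
  have : IsSimpleGroup Pairs := (MulEquiv.ofBijective f' hf').isSimpleGroup
  have hinj : Function.Injective g := by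
    rw [← MonoidHom.ker_eq_bot_iff]
    refine (IsSimpleGroup.eq_bot_or_eq_top_of_normal g.ker inferInstance).resolve_right fun h => ?_
    obtain ⟨hne, hok⟩ := mid_nontrivial
    simp only [List.any_eq_true, Bool.not_eq_true', beq_eq_false_iff_ne] at hne
    obtain ⟨b, hb, hne⟩ := hne
    have hb1 : permC 120 b ∈ g.range := hg ▸ subset_closure ⟨b, hb, rfl⟩
    obtain ⟨x, hx⟩ := hb1
    rw [MonoidHom.mem_ker.1 (h.ge (mem_top x))] at hx
    have e := permC_apply (List.all_eq_true.1 hok b hb) (0 : Fin 120)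
    rw [Fin.val_zero] at e
    exact hne (by rw [← e, ← hx]; rfl)
  exact ⟨((MulEquiv.subgroupCongr hg).symm.trans (MonoidHom.ofInjective hinj).symm).trans
    (MulEquiv.ofBijective f' hf')⟩

/-- The lower point of a pair. -/
def dbl (i : Fin 120) : Fin 240 := ⟨2 * i.val, by omega⟩

/-- The pair of a point. -/
def half (x : Fin 240) : Fin 120 := ⟨x.val / 2, by omega⟩

/-- The swap. -/
noncomputable def swapP : Equiv.Perm (Fin 240) := permC 240 spHighZ

theorem half_swap (x : Fin 240) : half (swapP x) = half x := Fin.ext (by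
  show (swapP x).val / 2 = x.val / 2
  rw [swapP, permC_apply swap_ok.1, swap_ok.2]
  split_ifs <;> omega)

theorem half_comm {g : Equiv.Perm (Fin 240)} (hg : g ∈ centralizer {swapP}) (x : Fin 240) :
    half (g x) = half (g (dbl (half x))) := by
  by_cases hx : x.val % 2 = 0
  · rw [show dbl (half x) = x from Fin.ext (show 2 * (x.val / 2) = x.val by omega)]
  · have e : swapP x = dbl (half x) := Fin.ext (by
      rw [swapP, permC_apply swap_ok.1, swap_ok.2, if_neg hx]
      show x.val - 1 = 2 * (x.val / 2)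
      omega)
    have hc := Equiv.ext_iff.1 (mem_centralizer_singleton_iff.1 hg) x
    simp only [Equiv.Perm.mul_apply] at hc
    rw [← e, hc, half_swap]

theorem half_dbl (i : Fin 120) : half (dbl i) = i := Fin.ext (show 2 * i.val / 2 = i.val by omega)

/-- The action on the pairs. -/
noncomputable def onPairs : ↥(centralizer {swapP}) →* Equiv.Perm (Fin 120) :=
  MonoidHom.mk'
    (fun g =>
      { toFun := fun i => half (g.1 (dbl i))
        invFun := fun i => half ((g⁻¹).1 (dbl i))
        left_inv := fun i => by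
          beta_reduce; rw [← half_comm (g⁻¹).2]; simp [half_dbl]
        right_inv := fun i => by
          beta_reduce; rw [← half_comm g.2]; simp [half_dbl] })
    fun a b => Equiv.ext fun i => by
      show half (a.1 (b.1 (dbl i))) = half (a.1 (dbl (half (b.1 (dbl i)))))
      exact half_comm a.2 _

theorem high_facts : (∀ b ∈ spHighBase, PackPerm.okP 240 b = true ∧ keepB b = true ∧
      PackPerm.mulP 240 b spHighZ = PackPerm.mulP 240 spHighZ b) ∧
    spHighBase.map (fun g => (List.range 120).map fun i => PackPerm.getP g (2 * i) / 2) =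
      spMidBase.map (PackPerm.toL 120) ∧
    Bsgs.slpCheck ops240 spHighBase spHighSlp = true ∧
    (spHighU ∈ spHighBase ++ spHighSlp.map (·.1) ∧ spHighV ∈ spHighBase ++ spHighSlp.map (·.1)) ∧
    ops240.mul spHighZ (ops240.mul spHighV spHighU) = ops240.mul spHighU spHighV ∧
    PackPerm.getP spHighZ 0 ≠ 0 ∧ shapeB = true ∧ sidesB = true ∧ linkB = true := by
  have h := high_checks
  simp only [highB, Bool.and_eq_true, List.all_eq_true, beq_iff_eq, Bool.not_eq_true',
    beq_eq_false_iff_ne, List.contains_iff_mem] at h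
  obtain ⟨⟨⟨⟨⟨⟨⟨⟨⟨⟨h1, h2⟩, h3⟩, -⟩, -⟩, h6⟩, h7⟩, h8⟩, h9⟩, h10⟩, h11⟩ := h
  exact ⟨fun b hb => ⟨(h1 b hb).1.1, (h1 b hb).1.2, (h1 b hb).2⟩, h2, h3,
    ⟨h6 _ List.mem_cons_self, h6 _ (List.mem_cons_of_mem _ List.mem_cons_self)⟩, h7, h8, h9, h10, h11⟩

/-- The second point is a neighbour of the first. -/
def Adj (x y : Fin 240) : Prop := y.val ∈ spNbLists.getD x.val []

theorem adj_iff {x y : Fin 240} : Adj x y ↔ (nbMask x.val).testBit y.val = true := by
  have h := high_facts.2.2.2.2.2.2.1
  simp only [shapeB, List.all_eq_true, List.mem_range, Nat.beq_eq] at h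
  rw [← h x.val x.isLt]
  refine ⟨fun hm => ?_, fun hm => PackPerm.testBit_hits hm⟩
  have key : ∀ L : List ℕ, y.val ∈ L → (PackPerm.hits L).testBit y.val = true := by
    intro L
    induction L with
    | nil => intro ha; simp at ha
    | cons b L ih =>
      intro ha
      simp only [PackPerm.hits, Nat.testBit_or, Bool.or_eq_true, Nat.one_shiftLeft, Nat.testBit_two_pow,
        decide_eq_true_eq]
      rcases List.mem_cons.1 ha with e | ha
      · exact Or.inl e.symm
      · exact Or.inr (ih ha)
  exact key _ hm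

theorem adj_of_mem {g : Equiv.Perm (Fin 240)} (hg : g ∈ gen 240 spHighBase) :
    ∀ x y, Adj x y → Adj (g x) (g y) := by
  refine Subgroup.closure_induction (p := fun g _ => ∀ x y, Adj x y → Adj (g x) (g y)) ?_
    (fun x y h => h) (fun a b _ _ ha hb x y h => ha _ _ (hb _ _ h)) (fun a _ ha x y h => ?_) hg
  · rintro _ ⟨b, hb, rfl⟩ x y h
    obtain ⟨hok, hk, -⟩ := high_facts.1 b hb
    simp only [keepB, List.all_eq_true, List.mem_range] at hk
    rw [adj_iff, permC_apply hok, permC_apply hok]
    exact hk x.val x.isLt y.val h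
  · have hp : ∀ k : ℕ, Adj ((a ^ k) x) ((a ^ k) y) := fun k => by
      induction k with
      | zero => simpa using h
      | succ k ih => rw [pow_succ', Equiv.Perm.mul_apply, Equiv.Perm.mul_apply]; exact ha _ _ ih
    have e : a⁻¹ = a ^ (orderOf a - 1) := inv_eq_of_mul_eq_one_right (by
      rw [← pow_succ', Nat.sub_add_cancel (orderOf_pos a), pow_orderOf_eq_one])
    rw [e]
    exact hp _

theorem high_le : gen 240 spHighBase ≤ centralizer {swapP} := by
  refine (closure_le _).2 ?_
  rintro _ ⟨b, hb, rfl⟩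
  obtain ⟨h, -⟩ := high_facts
  have hbok := (h b hb).1
  refine mem_centralizer_singleton_iff.2 ?_
  rw [swapP, ← val_eq (k := 240) (by norm_num) b, ← val_eq (k := 240) (by norm_num) spHighZ,
    ← ops240.val_mul _ _ hbok swap_ok.1,
    ← ops240.val_mul _ _ swap_ok.1 hbok]
  exact congrArg ops240.val (h b hb).2.2

/-- The projection to the pairs. -/
noncomputable def down : ↥(gen 240 spHighBase) →* Equiv.Perm (Fin 120) :=
  onPairs.comp (Subgroup.inclusion high_le)

theorem down_range : down.range = gen 120 spMidBase := by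
  obtain ⟨h, hmap, -⟩ := high_facts
  have key : ∀ b ∈ spHighBase, ∀ hb : permC 240 b ∈ gen 240 spHighBase,
      down ⟨permC 240 b, hb⟩ =
        permOf (Equiv.refl (Fin 120)) ((List.range 120).map fun i => PackPerm.getP b (2 * i) / 2) := by
    intro b hbm hb
    have hm : ((List.range 120).map fun i => PackPerm.getP b (2 * i) / 2) ∈ spMidBase.map (PackPerm.toL 120) :=
      hmap ▸ List.mem_map_of_mem hbm
    obtain ⟨c, hc, e⟩ := List.mem_map.1 hm
    have hv : validL 120 ((List.range 120).map fun i => PackPerm.getP b (2 * i) / 2) = true :=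
      e ▸ PackPerm.validL_of_okP (List.all_eq_true.1 mid_nontrivial.2 c hc)
    refine Equiv.ext fun i => Fin.ext ?_
    have e2 := permOf_apply (Equiv.refl (Fin 120)) hv i
    simp only [Equiv.refl_apply] at e2
    show (permC 240 b (dbl i)).val / 2 = _
    rw [e2, permC_apply (h b hbm).1,
      List.getD_eq_getElem _ _ (by simp)]
    simp [dbl]
  refine le_antisymm ?_ ((closure_le _).2 ?_)
  · rintro _ ⟨⟨x, hx⟩, rfl⟩
    induction hx using closure_induction with
    | mem y hy =>
      obtain ⟨b, hbm, rfl⟩ := hy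
      refine (congrArg (· ∈ gen 120 spMidBase) (key b hbm (subset_closure ⟨b, hbm, rfl⟩))).mpr ?_
      have hm : ((List.range 120).map fun i => PackPerm.getP b (2 * i) / 2) ∈ spMidBase.map (PackPerm.toL 120) :=
        hmap ▸ List.mem_map_of_mem hbm
      obtain ⟨c, hc, e⟩ := List.mem_map.1 hm
      exact subset_closure ⟨c, hc, congrArg (permOf (Equiv.refl (Fin 120))) e⟩
    | one => exact (map_one down).symm ▸ one_mem _
    | mul a b ha hb i1 i2 =>
      have e : down (⟨a, ha⟩ * ⟨b, hb⟩) ∈ gen 120 spMidBase := by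
        rw [map_mul]; exact mul_mem i1 i2
      exact e
    | inv a ha i1 =>
      have e : down (⟨a, ha⟩⁻¹) ∈ gen 120 spMidBase := by
        rw [map_inv]; exact inv_mem i1
      exact e
  · rintro _ ⟨c, hc, rfl⟩
    have hm : PackPerm.toL 120 c ∈
        spHighBase.map (fun g => (List.range 120).map fun i => PackPerm.getP g (2 * i) / 2) :=
      hmap.symm ▸ List.mem_map_of_mem hc
    obtain ⟨b, hbm, e⟩ := List.mem_map.1 hm
    exact ⟨⟨permC 240 b, subset_closure ⟨b, hbm, rfl⟩⟩,
      (key b hbm _).trans (congrArg (permOf (Equiv.refl (Fin 120))) e)⟩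

theorem swap_mem : swapP ∈ ⁅gen 240 spHighBase, gen 240 spHighBase⁆ := by
  obtain ⟨h, -, hs, ⟨hu, hv⟩, hm, -⟩ := high_facts
  have hb : ∀ c ∈ spHighBase, ops240.ok c = true ∧ ops240.val c ∈ gen 240 spHighBase := fun c hc =>
    ⟨(h c hc).1, subset_closure ⟨c, hc, (val_eq (k := 240) (by norm_num) c).symm⟩⟩
  obtain ⟨okU, memU⟩ := Bsgs.slp_sound ops240 _ hs hb _ hu
  obtain ⟨okV, memV⟩ := Bsgs.slp_sound ops240 _ hs hb _ hv
  have e := congrArg ops240.val hm
  rw [ops240.val_mul _ _ swap_ok.1 (ops240.ok_mul _ _ okV okU), ops240.val_mul _ _ okV okU,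
    ops240.val_mul _ _ okU okV] at e
  have : swapP = ⁅ops240.val spHighU, ops240.val spHighV⁆ := by
    rw [swapP, ← val_eq (k := 240) (by norm_num) spHighZ, commutatorElement_def, eq_mul_inv_iff_mul_eq,
      eq_mul_inv_iff_mul_eq, mul_assoc]
    exact e
  rw [this]
  exact commutator_mem_commutator memU memV

theorem eq_or_swap (g x : Fin 240) (h : half g = half x) : g = x ∨ g = swapP x := by
  have e : g.val / 2 = x.val / 2 := congrArg Fin.val h
  by_cases hg : g = x
  · exact Or.inl hg
  · refine Or.inr (Fin.ext ?_)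
    have hg' : g.val ≠ x.val := fun e' => hg (Fin.ext e')
    rw [swapP, permC_apply swap_ok.1, swap_ok.2]
    split_ifs <;> omega

theorem down_ker {g : ↥(gen 240 spHighBase)} (hg : down g = 1) : g.1 = 1 ∨ g.1 = swapP := by
  obtain ⟨-, -, -, -, -, -, -, hsides, hlink⟩ := high_facts
  simp only [sidesB, List.all_eq_true, List.mem_range, Bool.and_eq_true, Bool.not_eq_true'] at hsides
  simp only [linkB, List.all_eq_true, List.mem_range, Bool.and_eq_true, Nat.blt_eq, Bool.or_eq_true] at hlink
  have hcase : ∀ x, g.1 x = x ∨ g.1 x = swapP x := fun x => eq_or_swap _ _ (by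
    rw [half_comm (high_le g.2) x]
    exact Equiv.ext_iff.1 hg (half x))
  have hz : ∀ x : Fin 240, (swapP x).val = PackPerm.getP spHighZ x.val := fun x =>
    permC_apply swap_ok.1 x
  have hne : ∀ x, swapP x ≠ x := fun x e => by
    have e1 : PackPerm.getP spHighZ x.val = x.val := (hz x).symm.trans (congrArg Fin.val e)
    rw [swap_ok.2] at e1
    split_ifs at e1 <;> omega
  have hflip : ∀ x y, Adj x y → (g.1 x = x ↔ g.1 y = y) := fun x y h => by
    have h' := adj_of_mem g.2 x y h
    obtain ⟨s1, s2⟩ := hsides x.val x.isLt y.val h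
    rcases hcase x with ex | ex <;> rcases hcase y with ey | ey
    · simp [ex, ey]
    · rw [ex, ey, adj_iff, hz] at h'
      rw [s1] at h'
      exact absurd h' Bool.false_ne_true
    · rw [ex, ey, adj_iff, hz] at h'
      rw [s2] at h'
      exact absurd h' Bool.false_ne_true
    · simp [ex, ey, hne]
  have hswap : ∀ x, g.1 (swapP x) = swapP x ↔ g.1 x = x := fun x => by
    have hc := Equiv.ext_iff.1 (mem_centralizer_singleton_iff.1 (high_le g.2)) x
    simp only [Equiv.Perm.mul_apply] at hc
    rw [hc]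
    exact swapP.injective.eq_iff
  have hall : ∀ x, g.1 x = x ↔ g.1 0 = 0 := fun x => by
    obtain ⟨⟨hy, h0⟩, h1⟩ := hlink x.val x.isLt
    have e0 := hflip 0 ⟨_, hy⟩ (adj_iff.2 h0)
    rcases h1 with h1 | h1
    · exact (hflip ⟨_, hy⟩ x (adj_iff.2 h1)).symm.trans e0.symm
    · exact ((hflip ⟨_, hy⟩ (swapP x) (adj_iff.2 (by rw [hz]; exact h1))).trans (hswap x)).symm.trans e0.symm
  by_cases h0 : g.1 0 = 0
  · exact Or.inl (Equiv.ext fun x => (hall x).2 h0)
  · exact Or.inr (Equiv.ext fun x => (hcase x).resolve_left fun e => h0 ((hall x).1 e))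

theorem exists_cover : ∃ (Γ : Type) (_ : Group Γ) (_ : Finite Γ) (σ : Γ →* phi.range),
    Cfsg.IsStemExtension σ ∧ Nonempty (σ.ker ≃* Multiplicative (ZMod 2)) := by
  obtain ⟨e⟩ := mid_equiv
  let σ : ↥(gen 240 spHighBase) →* phi.range :=
    (e.toMonoidHom.comp (MulEquiv.subgroupCongr down_range).toMonoidHom).comp down.rangeRestrict
  have hsurj : Function.Surjective σ :=
    (e.surjective.comp (MulEquiv.subgroupCongr down_range).surjective).comp down.rangeRestrict_surjective
  let z : ↥(gen 240 spHighBase) := ⟨swapP, commutator_le_self _ swap_mem⟩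
  have hz1 : z ≠ 1 := fun e1 => high_facts.2.2.2.2.2.1 (by
    have e2 := permC_apply swap_ok.1 (0 : Fin 240)
    rw [Fin.val_zero] at e2
    rw [← e2]
    show (swapP 0).val = 0
    rw [show swapP = 1 from congrArg Subtype.val e1]
    rfl)
  have hzker : z ∈ σ.ker := by
    have e1 : down z = 1 := Equiv.ext fun i => (half_swap (dbl i)).trans (half_dbl i)
    have e2 : down.rangeRestrict z = 1 := Subtype.ext e1
    rw [MonoidHom.mem_ker, MonoidHom.comp_apply, e2, map_one]
  have hmem : ∀ k ∈ σ.ker, k = 1 ∨ k = z := fun k hk => by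
    have e1 : down.rangeRestrict k = 1 := by
      apply (MulEquiv.subgroupCongr down_range).injective
      apply e.injective
      rw [map_one, map_one]
      exact hk
    rcases down_ker (congrArg Subtype.val e1) with h | h
    · exact Or.inl (Subtype.ext h)
    · exact Or.inr (Subtype.ext h)
  have hker : Nat.card σ.ker = 2 := by
    rw [Nat.card_eq_two_iff]
    refine ⟨⟨1, one_mem _⟩, ⟨z, hzker⟩, fun h => hz1 (congrArg Subtype.val h).symm, ?_⟩
    refine Set.eq_univ_of_forall fun k => ?_
    rcases hmem k.1 k.2 with h | h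
    · exact Or.inl (Subtype.ext h)
    · exact Or.inr (Subtype.ext h)
  have hzc : z ∈ center ↥(gen 240 spHighBase) := mem_center_iff.2 fun g =>
    Subtype.ext (mem_centralizer_singleton_iff.1 (high_le g.2))
  have hzm : z ∈ commutator ↥(gen 240 spHighBase) := by
    have e2 : (commutator ↥(gen 240 spHighBase)).map (gen 240 spHighBase).subtype =
        ⁅gen 240 spHighBase, gen 240 spHighBase⁆ := by
      rw [_root_.commutator_def, map_commutator, ← MonoidHom.range_eq_map, range_subtype]
    obtain ⟨y, hy, hye⟩ := e2.symm.le swap_mem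
    exact (show y = z from Subtype.ext hye) ▸ hy
  have : Fact (Nat.Prime 2) := ⟨Nat.prime_two⟩
  have hle : σ.ker ≤ zpowers z := fun k hk => by
    rcases hmem k hk with h | h <;> rw [h]
    · exact one_mem _
    · exact mem_zpowers z
  have hcyc : IsCyclic σ.ker := isCyclic_of_prime_card hker
  exact ⟨_, inferInstance, inferInstance, σ, ⟨hsurj, hle.trans (zpowers_le.2 hzc),
    hle.trans (zpowers_le.2 hzm)⟩, ⟨(zmodCyclicMulEquiv hcyc).symm.trans
    (AddEquiv.toMultiplicative (ZMod.ringEquivCongr hker).toAddEquiv)⟩⟩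

end CfsgLib.Schur.Tails.SpSix
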