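import Cfsg.Agent.Lib.Tails.SpSixBound
import Cfsg.Agent.Lib.Tails.SpSixCover
import Cfsg.Agent.Lib.Tails.SLNine

/-!
# The multiplier of the symplectic group of dimension six over two elements
-/

set_option autoImplicit false

namespace CfsgLib.Schur.Tails.SpSix

open CfsgLib.TailsData

attribute [local irreducible] twoSpSixCert threeSpSixCert twoSpSixGens threeSpSixGens twoSpSixHs
  threeSpSixHs spSixBase twoSpSixIdx threeSpSixIdx twoSpSixSlp threeSpSixSlp

theorem bound {Γ : Type} [Group Γ] [Finite Γ] (σ : Γ →* ↥phi.range)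
    (hσ : Cfsg.IsStemExtension σ) : IsCyclic σ.ker ∧ Nat.card σ.ker ∣ 2 := by
  obtain ⟨⟨a2, b2, n2⟩, a3, b3, t3, n3⟩ := sizes
  obtain ⟨d2, d3⟩ := prime_data
  have hne : ∀ p : ℕ, p.Prime → p ≠ 2 → ¬ p ∣ Nat.card σ.ker := by
    intro p hp hp2
    have := Fact.mk hp
    by_cases hsq : p ^ 2 ∣ Nat.card phi.range
    · obtain rfl : p = 3 := by
        by_contra hcon
        rw [card_range, show (1451520 : ℕ) = (2 ^ 9 * 3 ^ 4) * (5 * 7) by norm_num] at hsq
        have hco : Nat.Coprime (p ^ 2) (2 ^ 9 * 3 ^ 4) := Nat.Coprime.mul_right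
          (Nat.Coprime.pow 2 9 ((Nat.coprime_primes hp Nat.prime_two).2 hp2))
          (Nat.Coprime.pow 2 4 ((Nat.coprime_primes hp Nat.prime_three).2 hcon))
        have hsf : Squarefree (5 * 7) := by
          rw [Nat.squarefree_mul (by norm_num)]
          exact ⟨(by norm_num : Nat.Prime 5).squarefree, (by norm_num : Nat.Prime 7).squarefree⟩
        exact hp.not_isUnit (hsf p (by rw [← pow_two]; exact hco.dvd_of_dvd_mul_left hsq))
      have : Fact threeSpSixCert.p.Prime := ⟨a3 ▸ hp⟩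
      exact (realised three_cert d3 (by rw [a3, n3, card_range]; decide)).not_dvd a3 b3 t3 hσ
    · exact not_dvd_of_sq hσ hsq
  have h4 : ¬ 2 ^ 2 ∣ Nat.card σ.ker := by
    have : Fact (Nat.Prime 2) := ⟨Nat.prime_two⟩
    have : Fact twoSpSixCert.p.Prime := ⟨a2 ▸ Nat.prime_two⟩
    exact (realised two_cert d2 (by rw [a2, n2, card_range]; decide)).sq_not_dvd a2 b2 hσ
  have hdvd : Nat.card σ.ker ∣ 2 := by
    rw [Nat.dvd_iff_prime_pow_dvd_dvd]
    intro p k hp hpk
    rcases Nat.eq_zero_or_pos k with rfl | hk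
    · simp
    obtain rfl : p = 2 := by
      by_contra hne2
      exact hne p hp hne2 ((dvd_pow_self p hk.ne').trans hpk)
    have : k ≤ 1 := by
      by_contra hcon
      exact h4 ((pow_dvd_pow 2 (by omega)).trans hpk)
    exact (pow_dvd_pow 2 this).trans (by norm_num)
  refine ⟨?_, hdvd⟩
  rcases (Nat.dvd_prime Nat.prime_two).1 hdvd with h | h
  · have : Subsingleton σ.ker := (Nat.card_eq_one_iff_unique.1 h).1
    infer_instance
  · have : Fact (Nat.Prime 2) := ⟨Nat.prime_two⟩
    exact isCyclic_of_prime_card (p := 2) h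

universe u

theorem multiplier {F : Type u} [Field F] [Fintype F] (hF : Fintype.card F = 2) :
    Cfsg.HasCyclicSchurMultiplier (Cfsg.PSp 3 F) 2 := by
  obtain ⟨e⟩ := psp_equiv hF
  exact hasCyclic_congr e (hasCyclic_of_bound exists_cover fun _ _ _ σ hσ => bound σ hσ)

end CfsgLib.Schur.Tails.SpSix
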