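import Cfsg.Agent.Lib.Golay.PackPerm
import Cfsg.Agent.Lib.Classical.SpOrder
import Cfsg.Agent.Lib.Classical.SpSimple
import Cfsg.Prelude.Def_Classical

/-!
# The symplectic group of dimension six over two elements on the nonzero vectors
-/

set_option autoImplicit false
set_option maxRecDepth 100000

namespace CfsgLib.Schur.Tails.SpSix

open CfsgLib.Golay Matrix

/-- The index type. -/
abbrev I : Type := Fin 3 ⊕ Fin 3

/-- The group over two elements. -/
abbrev Sp2 : Type := ↥(symplecticGroup (Fin 3) (ZMod 2))

/-- The position of an index. -/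
def pos : I → ℕ := Sum.elim (fun i => i.val) (fun i => i.val + 3)

/-- The vector of a number. -/
def bits (x : ℕ) : I → ZMod 2 := fun i => if x.testBit (pos i) then 1 else 0

/-- The nonzero vector of a point. -/
def vec (x : Fin 63) : {v : I → ZMod 2 // v ≠ 0} :=
  ⟨bits (x.val + 1), by revert x; decide +kernel⟩

theorem vec_bijective : Function.Bijective vec := by
  rw [Fintype.bijective_iff_injective_and_card]
  refine ⟨?_, by decide +kernel⟩
  have h : ∀ x y : Fin 63, bits (x.val + 1) = bits (y.val + 1) → x = y := by decide +kernel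
  exact fun x y e => h x y (congrArg Subtype.val e)

/-- The points are the nonzero vectors. -/
noncomputable def pts : Fin 63 ≃ {v : I → ZMod 2 // v ≠ 0} := Equiv.ofBijective vec vec_bijective

/-- The permutation of the nonzero vectors by an element. -/
def onVec (g : Sp2) : Equiv.Perm {v : I → ZMod 2 // v ≠ 0} where
  toFun v := ⟨g.1 *ᵥ v.1, fun h => v.2 (by
    have := congrArg (fun w => (g⁻¹).1 *ᵥ w) h
    simpa [mulVec_mulVec, ← Submonoid.coe_mul] using this)⟩
  invFun v := ⟨(g⁻¹).1 *ᵥ v.1, fun h => v.2 (by
    have := congrArg (fun w => g.1 *ᵥ w) h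
    simpa [mulVec_mulVec, ← Submonoid.coe_mul] using this)⟩
  left_inv v := Subtype.ext (by simp [mulVec_mulVec, ← Submonoid.coe_mul])
  right_inv v := Subtype.ext (by simp [mulVec_mulVec, ← Submonoid.coe_mul])

/-- The action on the points. -/
noncomputable def phi : Sp2 →* Equiv.Perm (Fin 63) :=
  pts.symm.permCongrHom.toMonoidHom.comp
    { toFun := onVec
      map_one' := Equiv.ext fun v => Subtype.ext (by simp [onVec])
      map_mul' := fun a b => Equiv.ext fun v => Subtype.ext (by simp [onVec, mulVec_mulVec]) }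

theorem phi_injective : Function.Injective phi := by
  intro a b e
  have h : ∀ v : {v : I → ZMod 2 // v ≠ 0}, onVec a v = onVec b v := fun v => by
    have := congrArg (fun p : Equiv.Perm (Fin 63) => pts (p (pts.symm v))) e
    simpa [phi] using this
  refine Subtype.ext (Matrix.ext fun i j => ?_)
  have hne : (Pi.single j 1 : I → ZMod 2) ≠ 0 := fun h0 => by simpa using congrFun h0 j
  simpa [onVec] using congrFun (congrArg Subtype.val (h ⟨Pi.single j 1, hne⟩)) i

/-- The matrix of a code. -/
def matC (A : ℕ) : Matrix I I (ZMod 2) :=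
  Matrix.of fun i j => bits (PackPerm.getP A (2 ^ pos j - 1) + 1) i

/-- The code is that of a symplectic matrix. -/
def matB (A : ℕ) : Bool :=
  PackPerm.okP 63 A &&
    decide (∀ p : I × I, (matC A * Matrix.J (Fin 3) (ZMod 2) * (matC A)ᵀ) p.1 p.2 =
      Matrix.J (Fin 3) (ZMod 2) p.1 p.2) &&
    decide (∀ p : Fin 63 × I, (matC A *ᵥ bits (p.1.val + 1)) p.2 = bits (PackPerm.getP A p.1.val + 1) p.2)

theorem mem_range_of_matB {A : ℕ} (h : matB A = true) :
    permOf (Equiv.refl (Fin 63)) (PackPerm.toL 63 A) ∈ phi.range := by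
  simp only [matB, Bool.and_eq_true, decide_eq_true_eq] at h
  obtain ⟨⟨hok, hJ⟩, hact⟩ := h
  refine ⟨⟨matC A, SymplecticGroup.mem_iff.2 (Matrix.ext fun i j => hJ (i, j))⟩, Equiv.ext fun x => ?_⟩
  have e := permOf_apply (Equiv.refl (Fin 63)) (PackPerm.validL_of_okP hok) x
  simp only [Equiv.refl_apply, PackPerm.toL_getD _ x.isLt] at e
  refine pts.injective (Subtype.ext (funext fun i => ?_))
  show (pts (pts.symm _)).1 i = _
  rw [Equiv.apply_symm_apply]
  show (matC A *ᵥ bits (x.val + 1)) i = _
  exact (hact (x, i)).trans (by rw [← e]; rfl)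

theorem card_sp2 : Nat.card Sp2 = 1451520 := by
  rw [CfsgLib.Classical.card_sp 3, ZMod.card]
  norm_num [Finset.prod_range_succ]

theorem card_range : Nat.card phi.range = 1451520 := by
  rw [← card_sp2]
  exact (Nat.card_congr (MonoidHom.ofInjective phi_injective).toEquiv).symm

theorem center_trivial {F : Type*} [Field F] (h2 : (2 : F) = 0) :
    Subgroup.center (symplecticGroup (Fin 3) F) = ⊥ := by
  refine (Subgroup.eq_bot_iff_forall _).2 fun g hg => ?_
  rcases (CfsgLib.Classical.mem_center_sp_iff g).1 hg with h | h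
  · exact h
  · rw [h, CfsgLib.Classical.spNegOne_eq_one_iff (by norm_num)]
    exact h2

universe u

theorem psp_equiv {F : Type u} [Field F] [Fintype F] (hF : Fintype.card F = 2) :
    Nonempty (phi.range ≃* Cfsg.PSp 3 F) := by
  let e : ZMod 2 ≃+* F := FiniteField.ringEquivOfCardEq (by rw [ZMod.card, hF])
  have h2 : (2 : F) = 0 := by
    rw [← map_ofNat e 2, show (2 : ZMod 2) = 0 from rfl, map_zero]
  have mapJ : ∀ {K L : Type _} [Field K] [Field L] (f : K →+* L),
      (Matrix.J (Fin 3) K).map f = Matrix.J (Fin 3) L := fun f => by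
    ext i j; rcases i with i | i <;> rcases j with j | j <;>
      simp [Matrix.J, Matrix.one_apply, apply_ite f]
  have hmem : ∀ g : Sp2, g.1.map e ∈ symplecticGroup (Fin 3) F := fun g => by
    have h := congrArg (fun M : Matrix I I (ZMod 2) => M.map e.toRingHom) (SymplecticGroup.mem_iff.1 g.2)
    rw [Matrix.map_mul, Matrix.map_mul, Matrix.transpose_map, mapJ] at h
    exact SymplecticGroup.mem_iff.2 h
  let f : Sp2 →* symplecticGroup (Fin 3) F :=
    MonoidHom.mk' (fun g => ⟨g.1.map e, hmem g⟩) fun a b => Subtype.ext (Matrix.map_mul (f := e.toRingHom))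
  have hf : Function.Injective f := fun a b h => Subtype.ext
    (Matrix.map_injective e.injective (congrArg Subtype.val h))
  have hbij : Function.Bijective f := (Nat.bijective_iff_injective_and_card f).2
    ⟨hf, by rw [card_sp2, CfsgLib.Classical.card_sp 3, hF]; norm_num [Finset.prod_range_succ]⟩
  exact ⟨((MonoidHom.ofInjective phi_injective).symm.trans (MulEquiv.ofBijective f hbij)).trans
    ((QuotientGroup.quotientBot).symm.trans
      (QuotientGroup.quotientMulEquivOfEq (center_trivial h2).symm))⟩

theorem range_simple : IsSimpleGroup phi.range ∧ commutator phi.range = ⊤ := by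
  obtain ⟨e⟩ := psp_equiv (F := ZMod 2) (ZMod.card 2)
  have hs : IsSimpleGroup (Cfsg.PSp 3 (ZMod 2)) :=
    CfsgLib.Classical.isSimpleGroup_PSp (by norm_num) (by omega)
  have : IsSimpleGroup phi.range := e.isSimpleGroup
  refine ⟨inferInstance, ?_⟩
  refine (IsSimpleGroup.eq_bot_or_eq_top_of_normal (commutator phi.range) inferInstance).resolve_left
    fun h => ?_
  have hc := (commutator_eq_bot_iff_center_eq_top _).1 h
  have hcomm : IsMulCommutative phi.range :=
    ⟨⟨fun a b => (Subgroup.mem_center_iff.1 (hc.ge (Subgroup.mem_top a)) b).symm⟩⟩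
  have : (Nat.card phi.range).Prime := by
    open scoped IsMulCommutative in exact IsSimpleGroup.prime_card
  rw [card_range] at this
  norm_num at this

end CfsgLib.Schur.Tails.SpSix
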