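import Cfsg.Agent.Lib.Tails.JTwoBound
import Cfsg.Agent.Lib.Tails.SLNine

/-!
# The multiplier of J2
-/

set_option autoImplicit false

namespace CfsgLib.Schur.Tails.JTwo

open CfsgLib CfsgLib.Golay CfsgLib.TailsData Subgroup
open scoped commutatorElement

attribute [local irreducible] twoJTwoCert threeJTwoCert fiveJTwoCert twoJTwoGens threeJTwoGens
  fiveJTwoGens twoJTwoHs threeJTwoHs fiveJTwoHs twoJTwoSlp threeJTwoSlp fiveJTwoSlp twoJTwoIdx
  threeJTwoIdx fiveJTwoIdx jTwoWord base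

theorem bound {Γ : Type} [Group Γ] [Finite Γ] (σ : Γ →* ↥J2.grpJ2)
    (hσ : Cfsg.IsStemExtension σ) : IsCyclic σ.ker ∧ Nat.card σ.ker ∣ 2 := by
  obtain ⟨⟨a2, b2, n2⟩, ⟨a3, b3, t3, n3⟩, a5, b5, t5, n5⟩ := sizes
  obtain ⟨d2, d3, d5⟩ := prime_data
  have hne : ∀ p : ℕ, p.Prime → p ≠ 2 → ¬ p ∣ Nat.card σ.ker := by
    intro p hp hp2
    have := Fact.mk hp
    by_cases hsq : p ^ 2 ∣ Nat.card J2.grpJ2
    · have h35 : p = 3 ∨ p = 5 := by
        by_contra hcon
        push Not at hcon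
        rw [J2.card_grpJ2, show (604800 : ℕ) = (2 ^ 7 * 3 ^ 3 * 5 ^ 2) * 7 by norm_num] at hsq
        have hco : Nat.Coprime (p ^ 2) (2 ^ 7 * 3 ^ 3 * 5 ^ 2) :=
          Nat.Coprime.mul_right (Nat.Coprime.mul_right
            (Nat.Coprime.pow 2 7 ((Nat.coprime_primes hp Nat.prime_two).2 hp2))
            (Nat.Coprime.pow 2 3 ((Nat.coprime_primes hp Nat.prime_three).2 hcon.1)))
            (Nat.Coprime.pow 2 2 ((Nat.coprime_primes hp (by norm_num)).2 hcon.2))
        exact hp.not_isUnit ((by norm_num : Nat.Prime 7).squarefree p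
          (by rw [← pow_two]; exact hco.dvd_of_dvd_mul_left hsq))
      rcases h35 with rfl | rfl
      · have : Fact threeJTwoCert.p.Prime := ⟨a3 ▸ hp⟩
        exact (realised odd_certs.1 d3 (by rw [a3, n3, J2.card_grpJ2]; decide)).not_dvd a3 b3 t3 hσ
      · have : Fact fiveJTwoCert.p.Prime := ⟨a5 ▸ hp⟩
        exact (realised odd_certs.2 d5 (by rw [a5, n5, J2.card_grpJ2]; decide)).not_dvd a5 b5 t5 hσ
    · exact not_dvd_of_sq hσ hsq
  have h4 : ¬ 2 ^ 2 ∣ Nat.card σ.ker := by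
    have : Fact (Nat.Prime 2) := ⟨Nat.prime_two⟩
    have : Fact twoJTwoCert.p.Prime := ⟨a2 ▸ Nat.prime_two⟩
    exact (realised two_cert d2 (by rw [a2, n2, J2.card_grpJ2]; decide)).sq_not_dvd a2 b2 hσ
  have hdvd : Nat.card σ.ker ∣ 2 := by
    rw [Nat.dvd_iff_prime_pow_dvd_dvd]
    intro p k hp hpk
    rcases Nat.eq_zero_or_pos k with rfl | hk
    · simp
    obtain rfl : p = 2 := by
      by_contra hne2
      exact hne p hp hne2 ((dvd_pow_self p hk.ne').trans hpk)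
    have : k ≤ 1 := by
      by_contra hcon
      exact h4 ((pow_dvd_pow 2 (by omega)).trans hpk)
    exact (pow_dvd_pow 2 this).trans (by norm_num)
  refine ⟨?_, hdvd⟩
  rcases (Nat.dvd_prime Nat.prime_two).1 hdvd with h | h
  · have : Subsingleton σ.ker := (Nat.card_eq_one_iff_unique.1 h).1
    infer_instance
  · have : Fact (Nat.Prime 2) := ⟨Nat.prime_two⟩
    exact isCyclic_of_prime_card (p := 2) h

theorem gen_in_twoJ2 (k : Fin 4) : (Ico.genSim k : Equiv.Perm Ico.Pt) ∈ Cfsg.Spor.twoJ2 := by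
  rw [Ico.twoJ2_eq]
  exact ⟨Ico.genSim k, Ico.genSim_mem k, rfl⟩

/-- A generating reflection. -/
noncomputable def refl (k : ℕ) : ↥Cfsg.Spor.twoJ2 :=
  if h : k < 4 then ⟨(Ico.genSim ⟨k, h⟩ : Equiv.Perm Ico.Pt), gen_in_twoJ2 ⟨k, h⟩⟩ else 1

theorem refl_sq (k : ℕ) : refl k * refl k = 1 := by
  unfold refl
  split_ifs with h
  · refine Subtype.ext (Equiv.ext fun x => ?_)
    show Ico.genRefl ⟨k, h⟩ (Ico.genRefl ⟨k, h⟩ x) = x
    exact Subtype.ext (Ico.qrefl_qrefl (Ico.gen_isRoot ⟨k, h⟩).norm _)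
  · rw [one_mul]

theorem refl_act {k : ℕ} (h : k < 4) :
    Ico.act2 (refl k) = Ico.cj (Ico.invEl (Ico.genIx ⟨k, h⟩)) := by
  rw [Ico.cj_gen, refl, dif_pos h]
  rfl

theorem refl_apply {k : ℕ} (h : k < 4) {v : Ico.IV} (hv : Ico.inL v = true) :
    ∃ h' : Ico.inL (Ico.reflV (Ico.lineV (Ico.genLine k)) v) = true,
      (refl k : Equiv.Perm Ico.Pt) (Ico.mkPt v hv) = Ico.mkPt _ h' := by
  refine ⟨((Ico.gen_isRoot ⟨k, h⟩).pres v hv).2, ?_⟩
  rw [refl, dif_pos h]
  exact Subtype.ext (Ico.qrefl_psi ((Ico.gen_isRoot ⟨k, h⟩).pres v hv).1)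

theorem app_nil (v : Ico.IV) : app [] v = v := rfl

theorem app_cons (k : ℕ) (w : List ℕ) (v : Ico.IV) :
    app (k :: w) v = Ico.reflV (Ico.lineV (Ico.genLine k)) (app w v) := rfl

theorem mkPt_congr {v w : Ico.IV} (h : Ico.inL v = true) (e : v = w) (h' : Ico.inL w = true) :
    Ico.mkPt v h = Ico.mkPt w h' := by
  subst e; rfl

attribute [local irreducible] app Ico.reflV Ico.inL

theorem word_apply : ∀ (w : List ℕ), (∀ k ∈ w, k < 4) → ∀ {v : Ico.IV} (hv : Ico.inL v = true),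
    ∃ h' : Ico.inL (app w v) = true,
      (((w.map refl).prod : ↥Cfsg.Spor.twoJ2) : Equiv.Perm Ico.Pt) (Ico.mkPt v hv) = Ico.mkPt _ h'
  | [], _, v, hv => ⟨by rw [app_nil]; exact hv, mkPt_congr hv (app_nil v).symm _⟩
  | k :: w, hw, v, hv => by
    obtain ⟨h1, e1⟩ := word_apply w (fun j hj => hw j (List.mem_cons_of_mem _ hj)) hv
    obtain ⟨h2, e2⟩ := refl_apply (hw k List.mem_cons_self) h1
    refine ⟨by rw [app_cons]; exact h2, ?_⟩
    rw [List.map_cons, List.prod_cons, Subgroup.coe_mul, Equiv.Perm.mul_apply, e1, e2]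
    exact mkPt_congr h2 (app_cons k w v).symm _

theorem word_act : ∀ (w : List ℕ), (∀ k ∈ w, k < 4) →
    ∃ g : ↥J2.grpJ2, (g : Equiv.Perm (Fin 100)) = ops.val (Coded.evO ops base w) ∧
      Ico.act2 (w.map refl).prod = Ico.cj g
  | [], _ => ⟨1, by rw [Coded.evO, ops.val_one]; rfl, by simp⟩
  | k :: w, hw => by
    have hk := hw k List.mem_cons_self
    obtain ⟨g, hg, hact⟩ := word_act w fun j hj => hw j (List.mem_cons_of_mem _ hj)
    refine ⟨Ico.invEl (Ico.genIx ⟨k, hk⟩) * g, ?_, ?_⟩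
    · have hok : ∀ b ∈ base, ops.ok b = true := fun b hb => (base_spec b hb).1
      have hb : base.getD k ops.one = Ico.invCode (Ico.genLine k) := by
        simp [base, List.getD_eq_getElem?_getD, hk]
      rw [Coded.evO, ops.val_mul _ _ (Bsgs.getD_ok ops hok k) (Coded.evO_spec hok w).1, hb,
        Subgroup.coe_mul, hg]
      rfl
    · rw [List.map_cons, List.prod_cons, map_mul, map_mul, hact, refl_act hk]

theorem negOne_mem_commutator : Ico.negOne ∈ commutator ↥Cfsg.Spor.twoJ2 := by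
  have hw := word_ok
  simp only [wordB, Bool.and_eq_true, List.all_eq_true, Nat.blt_eq, beq_iff_eq, Bool.not_eq_true',
    beq_eq_false_iff_ne] at hw
  obtain ⟨⟨hlt, hone⟩, hne⟩ := hw
  set z := ((jTwoWord ++ jTwoWord).map refl).prod with hz
  have hlt2 : ∀ k ∈ jTwoWord ++ jTwoWord, k < 4 := fun k hk => (List.mem_append.1 hk).elim (hlt k) (hlt k)
  have hker : z ∈ Ico.act2.ker := by
    obtain ⟨g, hg, hact⟩ := word_act _ hlt2
    rw [hone, ops.val_one] at hg
    rw [MonoidHom.mem_ker, hact, show g = 1 from Subtype.ext hg, map_one]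
  have hz1 : z ≠ 1 := fun e => hne (by
    obtain ⟨h', e'⟩ := word_apply _ hlt2 (Ico.line_spec (j := 0) (by norm_num)).1
    rw [← hz, e] at e'
    exact (Ico.mkPt_injective (h := (Ico.line_spec (j := 0) (by norm_num)).1) e').symm)
  have : Fact (Nat.Prime 2) := ⟨Nat.prime_two⟩
  have hzeq : z = Ico.negOne := by
    rw [Ico.act2_ker] at hker
    obtain ⟨j, hj⟩ := hker
    have h2 : Ico.negOne ^ (2 : ℤ) = 1 := by
      have hk : orderOf Ico.negOne = 2 := by
        rw [← Nat.card_zpowers, ← Ico.act2_ker, Ico.card_ker]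
      rw [zpow_ofNat, ← hk, pow_orderOf_eq_one]
    rcases Int.even_or_odd j with ⟨m, rfl⟩ | ⟨m, rfl⟩
    · exact absurd (by rw [← hj]; show Ico.negOne ^ (m + m) = 1; rw [← two_mul, zpow_mul, h2, one_zpow]) hz1
    · rw [← hj]
      show Ico.negOne ^ (2 * m + 1) = _
      rw [zpow_add, zpow_mul, h2, one_zpow, one_mul, zpow_one]
  rw [← hzeq]
  let π : ↥Cfsg.Spor.twoJ2 →* Abelianization ↥Cfsg.Spor.twoJ2 := Abelianization.of
  have key : ∀ w : List ℕ, π (w.map refl).prod * π (w.map refl).prod = 1 := by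
    intro w
    induction w with
    | nil => simp
    | cons k w ih =>
      rw [List.map_cons, List.prod_cons, map_mul, mul_mul_mul_comm, ih, mul_one, ← map_mul, refl_sq,
        map_one]
  have h : π z = 1 := by rw [hz, List.map_append, List.prod_append, map_mul, key]
  rwa [← MonoidHom.mem_ker, Abelianization.ker_of] at h

theorem multiplier_J2 : Cfsg.HasCyclicSchurMultiplier Cfsg.Spor.J2 2 := by
  obtain ⟨e⟩ := Ico.j2_equiv
  have : Finite ↥J2.grpJ2 := inferInstance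
  have : Finite Cfsg.Spor.J2 := Finite.of_equiv _ e.symm.toEquiv
  have : Finite ↥Cfsg.Spor.twoJ2 := Nat.finite_of_card_ne_zero (by rw [Ico.card_twoJ2]; norm_num)
  have : Fact (Nat.Prime 2) := ⟨Nat.prime_two⟩
  refine hasCyclic_congr e.symm (hasCyclic_of_bound ⟨↥Cfsg.Spor.twoJ2, inferInstance, inferInstance,
    e.toMonoidHom.comp (QuotientGroup.mk' (center ↥Cfsg.Spor.twoJ2)), ?_, ?_⟩ fun _ _ _ σ hσ => bound σ hσ)
  · have hk : (e.toMonoidHom.comp (QuotientGroup.mk' (center ↥Cfsg.Spor.twoJ2))).ker =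
        center ↥Cfsg.Spor.twoJ2 := by
      ext x
      simp [MonoidHom.mem_ker]
    refine ⟨e.surjective.comp (QuotientGroup.mk'_surjective _), hk.le, hk.le.trans ?_⟩
    rw [Ico.center_eq_ker, Ico.act2_ker]
    exact zpowers_le.2 negOne_mem_commutator
  · have hc : Nat.card (e.toMonoidHom.comp (QuotientGroup.mk' (center ↥Cfsg.Spor.twoJ2))).ker = 2 := by
      have hk : (e.toMonoidHom.comp (QuotientGroup.mk' (center ↥Cfsg.Spor.twoJ2))).ker =
          center ↥Cfsg.Spor.twoJ2 := by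
        ext x
        simp [MonoidHom.mem_ker]
      rw [hk, Ico.card_center]
    exact ⟨(zmodCyclicMulEquiv (isCyclic_of_prime_card hc)).symm.trans
      (AddEquiv.toMultiplicative (ZMod.ringEquivCongr hc).toAddEquiv)⟩

end CfsgLib.Schur.Tails.JTwo
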