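import Cfsg.Agent.Lib.Golay.PackPerm
import Cfsg.Agent.Lib.Tails.Finish

/-!
# Covers of permutation groups given on extra points

The cover consists of pairs of a permutation of `n` points in the group and one of `m` further
points; it is given by a chain on `n + m` points.
-/

set_option autoImplicit false

namespace CfsgLib.Schur.Tails.PermCover

open CfsgLib.Golay Subgroup

variable {n m : ℕ}

theorem validL_range (n : ℕ) : validL n (List.range n) = true :=
  validL_iff.2 ⟨by simp, fun a ha => List.mem_range.1 ha, fun j hj => List.mem_range.2 hj⟩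

/-- The embedding of pairs. -/
def ι (n m : ℕ) : Equiv.Perm (Fin n) × Equiv.Perm (Fin m) →* Equiv.Perm (Fin (n + m)) :=
  (finSumFinEquiv (m := n) (n := m)).permCongrHom.toMonoidHom.comp
    (Equiv.Perm.sumCongrHom (Fin n) (Fin m))

theorem ι_injective : Function.Injective (ι n m) :=
  (finSumFinEquiv (m := n) (n := m)).permCongrHom.injective.comp Equiv.Perm.sumCongrHom_injective

/-- The images of the first points, packed. -/
def lowC (n A : ℕ) : ℕ := PackPerm.pack ((List.range n).map (PackPerm.getP A))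

/-- The images of the further points. -/
def highL (n m A : ℕ) : List ℕ := (List.range m).map fun i => PackPerm.getP A (n + i) - n

/-- A code respects the two parts. -/
def splitB (n m A : ℕ) : Bool :=
  PackPerm.okP (n + m) A && PackPerm.okP n (lowC n A) &&
    ((List.range n).all fun i => PackPerm.getP (lowC n A) i == PackPerm.getP A i) &&
    validL m (highL n m A) &&
    (List.range m).all fun i => Nat.ble n (PackPerm.getP A (n + i))

/-- The pair of a code. -/
noncomputable def pair (n m A : ℕ) : Equiv.Perm (Fin n) × Equiv.Perm (Fin m) :=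
  (permOf (Equiv.refl (Fin n)) (PackPerm.toL n (lowC n A)),
    permOf (Equiv.refl (Fin m)) (highL n m A))

theorem ι_pair {A : ℕ} (h : splitB n m A = true) :
    ι n m (pair n m A) = permOf (Equiv.refl (Fin (n + m))) (PackPerm.toL (n + m) A) := by
  simp only [splitB, Bool.and_eq_true, List.all_eq_true, List.mem_range, Nat.ble_eq,
    beq_iff_eq] at h
  obtain ⟨⟨⟨⟨hok, hlow⟩, hlowv⟩, hhigh⟩, hbig⟩ := h
  refine Equiv.ext fun x => Fin.ext ?_
  have e := permOf_apply (Equiv.refl (Fin (n + m))) (PackPerm.validL_of_okP hok) x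
  simp only [Equiv.refl_apply] at e
  rw [e, PackPerm.toL_getD A x.isLt]
  obtain ⟨y, rfl⟩ := (finSumFinEquiv (m := n) (n := m)).surjective x
  rcases y with i | i
  · have h1 := permOf_apply (Equiv.refl (Fin n)) (PackPerm.validL_of_okP hlow) i
    simp only [Equiv.refl_apply] at h1
    show (finSumFinEquiv (Sum.map (permOf (Equiv.refl (Fin n)) (PackPerm.toL n (lowC n A)))
      (permOf (Equiv.refl (Fin m)) (highL n m A))
      ((finSumFinEquiv (m := n) (n := m)).symm (finSumFinEquiv (Sum.inl i))))).val =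
      PackPerm.getP A ((finSumFinEquiv (m := n) (n := m)) (Sum.inl i)).val
    rw [Equiv.symm_apply_apply, Sum.map_inl, finSumFinEquiv_apply_left, finSumFinEquiv_apply_left,
      Fin.val_castAdd, Fin.val_castAdd, h1, PackPerm.toL_getD _ i.isLt, hlowv _ i.isLt]
  · have h1 := permOf_apply (Equiv.refl (Fin m)) hhigh i
    simp only [Equiv.refl_apply] at h1
    show (finSumFinEquiv (Sum.map (permOf (Equiv.refl (Fin n)) (PackPerm.toL n (lowC n A)))
      (permOf (Equiv.refl (Fin m)) (highL n m A))
      ((finSumFinEquiv (m := n) (n := m)).symm (finSumFinEquiv (Sum.inr i))))).val =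
      PackPerm.getP A ((finSumFinEquiv (m := n) (n := m)) (Sum.inr i)).val
    rw [Equiv.symm_apply_apply, Sum.map_inr, finSumFinEquiv_apply_right, finSumFinEquiv_apply_right,
      Fin.val_natAdd, Fin.val_natAdd, h1, highL, List.getD_eq_getElem _ _ (by simp)]
    simp only [List.getElem_map, List.getElem_range]
    have := hbig i.val i.isLt
    omega

/-- The coded symmetric group. -/
noncomputable def ops (k : ℕ) [NeZero k] (hk : k ≤ 256) : Bsgs.Ops (Equiv.Perm (Fin k)) (Fin k) :=
  PackPerm.ops k hk (validL_range k)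

variable [NeZero n] [NeZero (n + m)]

/-- The checks of a cover with central element `z` of prime order. -/
noncomputable def coverB (n m : ℕ) [NeZero n] [NeZero (n + m)] (hn : n ≤ 256) (hk : n + m ≤ 256)
    (levels low : List Bsgs.Lvl) (z : ℕ) (u v : List ℕ) (total below : ℕ) : Bool :=
  Bsgs.check (ops (n + m) hk) [] levels && Bsgs.check (ops n hn) [] low &&
    (Bsgs.allGens levels).all (splitB n m) &&
    decide ((levels.map fun l => l.reps.length).prod = total) &&
    decide ((low.map fun l => l.reps.length).prod = below) &&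
    ((Bsgs.allGens low).all fun a => ((Bsgs.allGens levels).map (lowC n)).contains a) &&
    splitB n m z && (lowC n z == (ops n hn).one) &&
    !((List.range (n + m)).all fun i => PackPerm.getP z i == i) &&
    ((Bsgs.allGens levels).all fun g => PackPerm.mulP (n + m) z g == PackPerm.mulP (n + m) g z) &&
    Bsgs.commCheck (ops (n + m) hk) levels z u v

/-- A stem cover of prime degree from the checks. -/
theorem exists_cover (hn : n ≤ 256) (hk : n + m ≤ 256) {G : Subgroup (Equiv.Perm (Fin n))}
    {p total below : ℕ} [hp : Fact p.Prime] {levels low : List Bsgs.Lvl} {z : ℕ} {u v : List ℕ}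
    (h : coverB n m hn hk levels low z u v total below = true)
    (hG : ∀ r ∈ Bsgs.allGens levels, permOf (Equiv.refl (Fin n)) (PackPerm.toL n (lowC n r)) ∈ G)
    (hcard : Nat.card G = below) (htot : total = p * below) :
    ∃ (Γ : Type) (_ : Group Γ) (_ : Finite Γ) (σ : Γ →* G),
      Cfsg.IsStemExtension σ ∧ Nat.card σ.ker = p := by
  simp only [coverB, Bool.and_eq_true, List.all_eq_true, decide_eq_true_eq, beq_iff_eq,
    Bool.not_eq_true'] at h
  obtain ⟨⟨⟨⟨⟨⟨⟨⟨⟨⟨hc, hcl⟩, hs⟩, hprod⟩, hprodl⟩, hlow⟩, hz⟩, hzlow⟩, hzne⟩, hzc⟩, hcomm⟩ := h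
  simp only [List.contains_iff_mem, List.mem_map] at hlow
  set O := ops (n + m) hk
  set L := ops n hn
  let S : Set (Equiv.Perm (Fin n) × Equiv.Perm (Fin m)) :=
    {x | ∃ r ∈ Bsgs.allGens levels, pair n m r = x}
  let Γ : Subgroup (Equiv.Perm (Fin n) × Equiv.Perm (Fin m)) := Subgroup.closure S
  have hmap : Γ.map (ι n m) = Bsgs.grp O levels := by
    rw [MonoidHom.map_closure, Bsgs.grp]
    congr 1
    ext g
    constructor
    · rintro ⟨_, ⟨r, hr, rfl⟩, rfl⟩
      exact ⟨r, hr, (ι_pair (hs r hr)).symm⟩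
    · rintro ⟨r, hr, rfl⟩
      exact ⟨_, ⟨r, hr, rfl⟩, ι_pair (hs r hr)⟩
  have hnil : ∀ (k : ℕ), ∀ f ∈ ([] : List ℕ), decide (f < k) = true := fun _ f hf =>
    absurd hf List.not_mem_nil
  have cardΓ : Nat.card Γ = total := by
    rw [← Subgroup.card_map_of_injective ι_injective, hmap, ← hprod]
    exact (Bsgs.spec O (hnil _) hc).2.2.2.1
  let f : Γ →* Equiv.Perm (Fin n) := (MonoidHom.fst _ _).comp Γ.subtype
  have hrange : f.range = G := by
    refine Subgroup.eq_of_le_of_card_ge ?_ ?_
    · rw [MonoidHom.range_comp, Subgroup.range_subtype, MonoidHom.map_closure, Subgroup.closure_le]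
      rintro _ ⟨_, ⟨r, hr, rfl⟩, rfl⟩
      exact hG r hr
    · rw [hcard, ← hprodl, ← (Bsgs.spec L (hnil _) hcl).2.2.2.1]
      refine Subgroup.card_le_of_le ((Subgroup.closure_le _).2 ?_)
      rintro _ ⟨a, ha, rfl⟩
      obtain ⟨r, hr, rfl⟩ := hlow a ha
      exact ⟨⟨pair n m r, Subgroup.subset_closure ⟨r, hr, rfl⟩⟩, rfl⟩
  let σ : Γ →* G := (MulEquiv.subgroupCongr hrange).toMonoidHom.comp f.rangeRestrict
  have hsurj : Function.Surjective σ :=
    (MulEquiv.subgroupCongr hrange).surjective.comp f.rangeRestrict_surjective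
  have hker : Nat.card σ.ker = p := by
    have e := σ.ker.card_mul_index
    rw [Subgroup.index_ker, MonoidHom.range_eq_top.2 hsurj, Subgroup.card_top, hcard, cardΓ, htot] at e
    exact Nat.eq_of_mul_eq_mul_right (hcard ▸ Nat.card_pos) e
  have hzok : O.ok z = true := by
    simp only [splitB, Bool.and_eq_true] at hz; exact hz.1.1.1.1
  have hzs := ι_pair hz
  have h1 := Bsgs.comm_sound O hc hzok hcomm
  rw [← hmap, ← Subgroup.map_commutator] at h1
  obtain ⟨x, hx, hxe⟩ := h1
  obtain rfl : x = pair n m z := ι_injective (hxe.trans hzs.symm)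
  let zz : Γ := ⟨pair n m z, Subgroup.commutator_le_self Γ hx⟩
  have hzker : zz ∈ σ.ker := Subtype.ext (by
    show permOf (Equiv.refl (Fin n)) (PackPerm.toL n (lowC n z)) = 1
    rw [hzlow]
    exact L.val_one)
  have hz1 : zz ≠ 1 := by
    intro e
    have e2 : permOf (Equiv.refl (Fin (n + m))) (PackPerm.toL (n + m) z) = 1 := by
      rw [← hzs, show pair n m z = 1 from congrArg Subtype.val e, map_one]
    rw [List.all_eq_false] at hzne
    obtain ⟨i, hi, hne⟩ := hzne
    rw [List.mem_range] at hi
    have h' := permOf_apply (Equiv.refl (Fin (n + m))) (PackPerm.validL_of_okP hzok) ⟨i, hi⟩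
    rw [e2] at h'
    simp only [Equiv.Perm.one_apply, Equiv.refl_apply] at h'
    rw [PackPerm.toL_getD _ hi] at h'
    exact hne (by simpa using h'.symm)
  have hzcent : zz ∈ center Γ := by
    refine mem_center_iff.2 fun g => Subtype.ext (ι_injective ?_)
    have hall : Γ.map (ι n m) ≤ Subgroup.centralizer {(ι n m (pair n m z))} := by
      rw [hmap, Bsgs.grp, Subgroup.closure_le]
      rintro _ ⟨r, hr, rfl⟩
      rw [SetLike.mem_coe, Subgroup.mem_centralizer_singleton_iff, hzs]
      have hrok : O.ok r = true := ((Bsgs.spec O (hnil _) hc).2.1 r hr)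
      show O.val r * O.val z = O.val z * O.val r
      rw [← O.val_mul _ _ hrok hzok, ← O.val_mul _ _ hzok hrok]
      exact congrArg O.val (hzc r hr).symm
    have hg := Subgroup.mem_centralizer_singleton_iff.1 (hall ⟨g.1, g.2, rfl⟩)
    show ι n m (g.1 * zz.1) = ι n m (zz.1 * g.1)
    rw [map_mul, map_mul]
    exact hg
  have hzcomm : zz ∈ commutator Γ := by
    have e : (commutator Γ).map Γ.subtype = ⁅Γ, Γ⁆ := by
      rw [_root_.commutator_def, Subgroup.map_commutator, ← MonoidHom.range_eq_map,
        Subgroup.range_subtype]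
    obtain ⟨y, hy, hye⟩ := e.symm.le hx
    exact (show y = zz from Subtype.ext hye) ▸ hy
  have hle : σ.ker ≤ Subgroup.zpowers zz := by
    intro k hk
    have := mem_zpowers_of_prime_card hker (g := (⟨zz, hzker⟩ : σ.ker)) (g' := ⟨k, hk⟩)
      (fun e => hz1 (congrArg Subtype.val e))
    obtain ⟨j, hj⟩ := this
    exact ⟨j, congrArg Subtype.val hj⟩
  exact ⟨Γ, inferInstance, inferInstance, σ, ⟨hsurj, hle.trans (Subgroup.zpowers_le.2 hzcent),
    hle.trans (Subgroup.zpowers_le.2 hzcomm)⟩, hker⟩

end CfsgLib.Schur.Tails.PermCover
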