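import Cfsg.Agent.Lib.Tails.OEightData
import Cfsg.Agent.Lib.Tails.PermCover
import Cfsg.Agent.Lib.Classical.QuadPOmega
import Cfsg.Agent.Lib.Classical.SmallIso.PlusSixTwo
import Cfsg.Agent.Lib.Classical.QuadSiegel

/-!
# The orthogonal group of plus type in dimension eight over two elements on its 120 vectors of value one
-/

set_option autoImplicit false
set_option maxRecDepth 100000

namespace CfsgLib.Schur.Tails.OEight

open CfsgLib.Golay CfsgLib.TailsData CfsgLib.Classical Cfsg

/-- The index type. -/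
abbrev I : Type := Fin 4 ⊕ Fin 4

/-- The form over two elements. -/
abbrev Q2 : QuadraticForm (ZMod 2) (I → ZMod 2) := qPlus 4 (ZMod 2)

/-- Its automorphisms. -/
abbrev Aut2 : Type := ↥(qAut Q2)

/-- The position of an index. -/
def pos : I → ℕ := Sum.elim (fun i => i.val) (fun i => i.val + 4)

/-- The vector of a number. -/
def bits (x : ℕ) : I → ZMod 2 := fun i => if x.testBit (pos i) then 1 else 0

/-- The value of the form. -/
def qv (v : I → ZMod 2) : ZMod 2 := ∑ i : Fin 4, v (.inl i) * v (.inr i)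

/-- The bilinear form. -/
def bl (u v : I → ZMod 2) : ZMod 2 := ∑ i : Fin 4, (u (.inl i) * v (.inr i) + v (.inl i) * u (.inr i))

theorem Q2_apply (v : I → ZMod 2) : Q2 v = qv v := congrFun (coe_qPlus 4) v

theorem polar_Q2 (u v : I → ZMod 2) : QuadraticMap.polar Q2 u v = bl u v := by
  simp only [QuadraticMap.polar, Q2_apply, qv, bl, Pi.add_apply, ← Finset.sum_sub_distrib]
  exact Finset.sum_congr rfl fun i _ => by ring

/-- A vector of value one. -/
abbrev Pt : Type := {v : I → ZMod 2 // qv v ≠ 0}

/-- The number of a point. -/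
def num (x : ℕ) : ℕ := oEightPts.getD x 0

theorem num_ne (x : Fin 120) : qv (bits (num x.val)) ≠ 0 := by
  revert x
  decide +kernel

/-- The vector of a point. -/
def vec (x : Fin 120) : Pt := ⟨bits (num x.val), num_ne x⟩

theorem vec_bijective : Function.Bijective vec := by
  rw [Fintype.bijective_iff_injective_and_card]
  refine ⟨?_, by decide +kernel⟩
  have h : ∀ x y : Fin 120, bits (num x.val) = bits (num y.val) → x = y := by decide +kernel
  exact fun x y e => h x y (congrArg Subtype.val e)

/-- The points are the vectors of value one. -/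
noncomputable def pts : Fin 120 ≃ Pt := Equiv.ofBijective vec vec_bijective

/-- The permutation of the vectors of value one by an element. -/
def onVec (g : Aut2) : Equiv.Perm Pt where
  toFun v := ⟨g.1 v.1, by rw [← Q2_apply, qAut_map, Q2_apply]; exact v.2⟩
  invFun v := ⟨(g⁻¹).1 v.1, by rw [← Q2_apply, qAut_map, Q2_apply]; exact v.2⟩
  left_inv v := Subtype.ext (g.1.symm_apply_apply v.1)
  right_inv v := Subtype.ext (g.1.apply_symm_apply v.1)

/-- The action on the points. -/
noncomputable def phi : Aut2 →* Equiv.Perm (Fin 120) :=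
  pts.symm.permCongrHom.toMonoidHom.comp
    { toFun := onVec
      map_one' := Equiv.ext fun v => Subtype.ext rfl
      map_mul' := fun a b => Equiv.ext fun v => Subtype.ext rfl }

theorem phi_apply (g : Aut2) (x : Fin 120) : (pts (phi g x)).1 = g.1 (pts x).1 := by
  show (pts (pts.symm _)).1 = _
  rw [Equiv.apply_symm_apply]
  rfl

theorem basis_sum : ∀ i : I, ∃ x y : Fin 120,
    (Pi.single i 1 : I → ZMod 2) = bits (num x.val) + bits (num y.val) := by
  decide +kernel

theorem phi_injective : Function.Injective phi := by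
  intro a b e
  have h : ∀ x : Fin 120, a.1 (bits (num x.val)) = b.1 (bits (num x.val)) := fun x => by
    have h1 := phi_apply a x
    rw [e, phi_apply b x] at h1
    exact h1.symm
  refine Subtype.ext (LinearEquiv.toLinearMap_injective ((Pi.basisFun (ZMod 2) I).ext fun i => ?_))
  obtain ⟨x, y, hxy⟩ := basis_sum i
  rw [Pi.basisFun_apply, hxy, LinearEquiv.coe_coe, LinearEquiv.coe_coe, map_add, map_add, h, h]

/-- A code as a permutation. -/
noncomputable def permC (n A : ℕ) : Equiv.Perm (Fin n) := permOf (Equiv.refl (Fin n)) (PackPerm.toL n A)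

theorem val_eq {k : ℕ} [NeZero k] (hk : k ≤ 256) (A : ℕ) : (PermCover.ops k hk).val A = permC k A :=
  rfl

theorem permC_apply {n A : ℕ} (h : PackPerm.okP n A = true) (x : Fin n) :
    (permC n A x).val = PackPerm.getP A x.val := by
  have e := permOf_apply (Equiv.refl (Fin n)) (PackPerm.validL_of_okP h) x
  simp only [Equiv.refl_apply] at e
  rw [permC, e, PackPerm.toL_getD _ x.isLt]

/-- The group generated by a list of codes. -/
noncomputable def gen (k : ℕ) (base : List ℕ) : Subgroup (Equiv.Perm (Fin k)) :=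
  Subgroup.closure {g | ∃ b ∈ base, permC k b = g}

/-- A chain with its program from the generators. -/
noncomputable def chainB (k : ℕ) [NeZero k] (hk : k ≤ 256) (base : List ℕ) (levels : List Bsgs.Lvl)
    (stp : List (ℕ × Bool × ℕ × ℕ)) (total : ℕ) : Bool :=
  let O := PermCover.ops k hk
  Bsgs.check O [] levels && Bsgs.slpCheck O base stp && base.all O.ok &&
    (base.all fun b => (Bsgs.allGens levels).contains b) &&
    ((Bsgs.allGens levels).all fun g => (base ++ stp.map (·.1)).contains g) &&
    decide ((levels.map fun l => l.reps.length).prod = total)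

theorem chain_spec {k : ℕ} [NeZero k] {hk : k ≤ 256} {base : List ℕ} {levels : List Bsgs.Lvl}
    {stp : List (ℕ × Bool × ℕ × ℕ)} {total : ℕ} (h : chainB k hk base levels stp total = true) :
    Nat.card (gen k base) = total ∧ ∀ b ∈ base, PackPerm.okP k b = true := by
  simp only [chainB, Bool.and_eq_true, List.all_eq_true, decide_eq_true_eq, List.contains_iff_mem] at h
  obtain ⟨⟨⟨⟨⟨hc, hs⟩, hok⟩, hb⟩, hg⟩, hp⟩ := h
  have hspec := Bsgs.spec (PermCover.ops k hk) (fun f hf => absurd hf List.not_mem_nil) hc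
  have e : Bsgs.grp (PermCover.ops k hk) levels = gen k base := by
    refine le_antisymm ((Subgroup.closure_le _).2 ?_) ((Subgroup.closure_le _).2 ?_)
    · rintro _ ⟨r, hr, rfl⟩
      exact (Bsgs.slp_sound (PermCover.ops k hk) (gen k base) hs
        (fun c hcb => ⟨hok c hcb, Subgroup.subset_closure ⟨c, hcb, rfl⟩⟩) r (hg r hr)).2
    · rintro _ ⟨b, hbm, rfl⟩
      exact Subgroup.subset_closure ⟨b, hb b hbm, rfl⟩
  exact ⟨by rw [← e, hspec.2.2.2.1, hp], hok⟩

theorem low_chain :
    chainB 120 (by norm_num) oEightLowBase oEightLowLevels oEightLowSlp 174182400 = true := by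
  decide +kernel

/-- The reflection on coordinates. -/
def rfl2 (a v : I → ZMod 2) : I → ZMod 2 := v + bl v a • a

/-- A generator is the product of two reflections. -/
def reflB (k : ℕ) : Bool :=
  let ab := oEightRefl.getD k (0, 0)
  Nat.blt ab.1 120 && Nat.blt ab.2 120 && decide (∀ x : Fin 120,
    bits (num (PackPerm.getP (oEightLowBase.getD k 0) x.val)) =
      rfl2 (bits (num ab.1)) (rfl2 (bits (num ab.2)) (bits (num x.val))))

theorem refl_checks : (List.range 6).all reflB = true ∧ oEightLowBase.length = 6 := by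
  constructor <;> decide +kernel

theorem qRefl_eq {a : I → ZMod 2} (ha : Q2 a ≠ 0) (v : I → ZMod 2) :
    (qRefl Q2 ha).1 v = rfl2 a v := by
  have h1 : ∀ z : ZMod 2, z ≠ 0 → z = 1 := by decide
  have h2 : ∀ u w : ZMod 2, u - w = u + w := by decide
  rw [qRefl_apply, polar_Q2, h1 _ ha, inv_one, one_mul, rfl2]
  funext i
  simp only [Pi.sub_apply, Pi.add_apply, h2]

theorem gen_le : gen 120 oEightLowBase ≤ (commutator Aut2).map phi := by
  refine (Subgroup.closure_le _).2 ?_
  rintro _ ⟨b, hb, rfl⟩
  obtain ⟨k, hk, rfl⟩ := List.getElem_of_mem hb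
  have h := List.all_eq_true.1 refl_checks.1 k (List.mem_range.2 (refl_checks.2 ▸ hk))
  simp only [reflB, Bool.and_eq_true, Nat.blt_eq, decide_eq_true_eq,
    List.getD_eq_getElem _ _ hk] at h
  obtain ⟨⟨ha, hb'⟩, hx⟩ := h
  have hA : Q2 (bits (num (oEightRefl.getD k (0, 0)).1)) ≠ 0 := by
    rw [Q2_apply]; exact num_ne ⟨_, ha⟩
  have hB : Q2 (bits (num (oEightRefl.getD k (0, 0)).2)) ≠ 0 := by
    rw [Q2_apply]; exact num_ne ⟨_, hb'⟩
  have h1 : ∀ z : ZMod 2, z ≠ 0 → z = 1 := by decide
  refine ⟨_, refl_mul_refl_mem_commutator Q2 (polarNondeg_qPlus 4) hA hB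
    ((h1 _ hA).trans (h1 _ hB).symm), Equiv.ext fun x => pts.injective (Subtype.ext ?_)⟩
  rw [phi_apply, qAut_mul_apply, qRefl_eq, qRefl_eq]
  show rfl2 _ (rfl2 _ (bits (num x.val))) = bits (num (permC 120 oEightLowBase[k] x).val)
  rw [permC_apply ((chain_spec low_chain).2 _ hb), hx x]

theorem card_aut : Nat.card Aut2 = 2 * 174182400 := by
  rw [card_qAut_qPlus, card_qAut_plus, ZMod.card]
  norm_num [Finset.prod_range_succ]

theorem card_derived : Nat.card (commutator Aut2) = 174182400 := by
  have hi : (commutator Aut2).index = 2 := index_commutator_two Q2 (polarNondeg_qPlus 4)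
    (by rw [Module.finrank_pi]; simp [I]) (Or.inr (by rw [Module.finrank_pi]; simp [I]))
  have h := Subgroup.card_mul_index (commutator Aut2)
  rw [hi, card_aut] at h
  omega

/-- The group. -/
noncomputable abbrev H8 : Subgroup (Equiv.Perm (Fin 120)) := gen 120 oEightLowBase

theorem card_H8 : Nat.card H8 = 174182400 := (chain_spec low_chain).1

theorem H8_eq : (commutator Aut2).map phi = H8 :=
  (Subgroup.eq_of_le_of_card_ge gen_le
    (by rw [Subgroup.card_map_of_injective phi_injective, card_derived, card_H8])).symm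

universe u

theorem pomega_equiv {F : Type u} [Field F] [Fintype F] (hF : Fintype.card F = 2) :
    Nonempty (↥H8 ≃* Cfsg.POmega F (Cfsg.quadFormPlus 4 F)) := by
  let e : ZMod 2 ≃+* F := ZMod.ringEquivOfPrime F Nat.prime_two hF
  obtain ⟨E⟩ := SmallIso.nonempty_isometryGroup_congr e (quadFormPlus 4 (ZMod 2)) (quadFormPlus 4 F)
    fun v => by simp [quadFormPlus]
  rw [← coe_qPlus, ← coe_qPlus] at E
  let E2 : Aut2 ≃* isometryGroup F ⇑(qPlus 4 F) := (isoEquiv Q2).symm.trans E
  let d1 : ↥(commutator Aut2) ≃* ↥H8 :=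
    ((commutator Aut2).equivMapOfInjective phi phi_injective).trans (MulEquiv.subgroupCongr H8_eq)
  let d2 : ↥(commutator Aut2) ≃* ↥(Omega F ⇑(qPlus 4 F)) :=
    (E2.subgroupMap (commutator Aut2)).trans (MulEquiv.subgroupCongr (map_commutator_equiv E2))
  have hc : Subgroup.center (Omega F ⇑(qPlus 4 F)) = ⊥ :=
    Subgroup.card_eq_one.1 (card_center_Omega_one _ (polarNondeg_qPlus 4) (by simp) fun _ => by
      rw [← map_ofNat e 2, show (2 : ZMod 2) = 0 from rfl, map_zero])
  rw [← coe_qPlus]
  exact ⟨(d1.symm.trans d2).trans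
    (QuotientGroup.quotientBot.symm.trans (QuotientGroup.quotientMulEquivOfEq hc.symm))⟩

theorem H8_simple : IsSimpleGroup ↥H8 ∧ commutator ↥H8 = ⊤ := by
  obtain ⟨e⟩ := pomega_equiv (F := ZMod 2) (ZMod.card 2)
  have hs : IsSimpleGroup (Cfsg.POmega (ZMod 2) (Cfsg.quadFormPlus 4 (ZMod 2))) := by
    rw [← coe_qPlus]
    exact isSimpleGroup_POmega _ (polarNondeg_qPlus 4) (by simp)
  have : IsSimpleGroup ↥H8 := e.isSimpleGroup
  refine ⟨inferInstance, ?_⟩
  refine (IsSimpleGroup.eq_bot_or_eq_top_of_normal (commutator ↥H8) inferInstance).resolve_left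
    fun h => ?_
  have hc := (commutator_eq_bot_iff_center_eq_top _).1 h
  have hcomm : IsMulCommutative ↥H8 :=
    ⟨⟨fun a b => (Subgroup.mem_center_iff.1 (hc.ge (Subgroup.mem_top a)) b).symm⟩⟩
  have : (Nat.card ↥H8).Prime := by
    open scoped IsMulCommutative in exact IsSimpleGroup.prime_card
  rw [card_H8] at this
  norm_num at this

end CfsgLib.Schur.Tails.OEight
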