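import Cfsg.Agent.Lib.Tails.UFourData
import Cfsg.Agent.Lib.Tails.UFourCoverData
import Cfsg.Agent.Lib.Tails.OEightModel
import Cfsg.Agent.Lib.LeechPSU.U43Main
import Cfsg.Agent.Lib.Classical.UnitaryPSU

/-!
# The unitary group of dimension four over nine elements on 126 sets of forty isotropic points
-/

set_option autoImplicit false
set_option maxRecDepth 100000

namespace CfsgLib.Schur.Tails.UFour

open CfsgLib.Golay CfsgLib.TailsData CfsgLib.LeechPSU Cfsg
open CfsgLib.Schur.Tails.OEight (permC gen chainB chain_spec permC_apply)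

universe u

/-- The group on the isotropic points. -/
abbrev K280 : Subgroup (Equiv.Perm (Fin 280)) := permGroup 280 U43.codes

/-- The group on the sets. -/
noncomputable abbrev H4 : Subgroup (Equiv.Perm (Fin 126)) := gen 126 uFourBase

/-- The field with nine elements. -/
abbrev F9 : Type := GaloisField 3 2

noncomputable instance : Fintype F9 := Fintype.ofFinite F9

theorem card_F9 : Fintype.card F9 = 9 := by
  rw [← Nat.card_eq_fintype_card, GaloisField.card 3 2 (by norm_num)]
  norm_num

theorem psu_equiv_any (F : Type u) [Field F] [Fintype F] (hF : Fintype.card F = 9) :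
    Nonempty (PSU 4 F 3 ≃* ↥K280) := by
  obtain ⟨hc, a, ha⟩ := exists_gen_nine hF
  have : CharP F U43.par.p := hc
  exact UPar.nonempty_psu_equiv (U := U43.par) ha hF (by decide) (by decide) U43.pts U43.pts_length
    U43.codes U43.words U43.pts_ok U43.pts_iso U43.cert U43.cert_ok (by decide)

theorem card_su_four {F : Type u} [Field F] [Fintype F] (hF : Fintype.card F = 9) :
    Nat.card (SU 4 F 3) = 4 * 3265920 ∧ Nat.card (Subgroup.center (SU 4 F 3)) = 4 := by
  have h1 := CfsgLib.Classical.card_su (n := 4) (q := 3) (F := F) (by rw [hF]; norm_num) (by norm_num)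
  have h2 := CfsgLib.Classical.card_center_su (n := 4) (q := 3) (F := F) (by rw [hF]; norm_num) (by norm_num)
  refine ⟨?_, h2.trans (by decide)⟩
  have e : CfsgLib.Classical.unitaryOrder 3 4 = 4 * (4 * 3265920) := by decide
  rw [e] at h1
  omega

theorem card_psu_four {F : Type u} [Field F] [Fintype F] (hF : Fintype.card F = 9) :
    Nat.card (PSU 4 F 3) = 3265920 := by
  obtain ⟨h1, h2⟩ := card_su_four hF
  have h := (Subgroup.center (SU 4 F 3)).index_mul_card
  rw [h1, h2, Subgroup.index_eq_card] at h
  show Nat.card (SU 4 F 3 ⧸ Subgroup.center (SU 4 F 3)) = _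
  omega

theorem card_K280 : Nat.card ↥K280 = 3265920 := by
  obtain ⟨e⟩ := psu_equiv_any F9 card_F9
  rw [← Nat.card_congr e.toEquiv, card_psu_four card_F9]

/-- The certificate of the order on the sets. -/
def cert126 : CfsgLib.LeechPSU.Cert := ⟨uFourOps, uFourLevels⟩

theorem cert126_ok : cert126.ok 126 uFourCodes 3265920 = true := by decide +kernel

/-- A generator maps the sets as given. -/
noncomputable def setsB (k : ℕ) : Bool :=
  (List.range 126).all fun a => (List.range 280).all fun y =>
    ((uFourMasks.getD a 0).testBit y ==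
      (uFourMasks.getD (fieldAt (uFourCodes.getD k 0) a) 0).testBit (fieldAt (U43.codes.getD k 0) y)) &&
      Nat.blt (fieldAt (uFourCodes.getD k 0) a) 126

/-- The two codings of the generators agree. -/
noncomputable def agreeB : Bool :=
  Nat.beq uFourBase.length 2 && Nat.beq uFourCodes.length 2 && Nat.beq U43.codes.length 2 &&
    uFourBase.all (PackPerm.okP 126) &&
    (List.range 2).all fun k => (List.range 126).all fun a =>
      Nat.beq (PackPerm.getP (uFourBase.getD k 0) a) (fieldAt (uFourCodes.getD k 0) a)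

/-- The sets differ. -/
def masksB : Bool :=
  (List.range 126).all fun a => (List.range a).all fun b =>
    (List.range 280).any fun y => (uFourMasks.getD a 0).testBit y != (uFourMasks.getD b 0).testBit y

theorem agree_checks : agreeB = true := by decide +kernel

theorem sets_checks : setsB 0 = true ∧ setsB 1 = true := by
  constructor <;> decide +kernel

theorem masks_checks : masksB = true := by decide +kernel

/-- The action on sets of points. -/
def setAct : Equiv.Perm (Fin 280) →* Equiv.Perm (Set (Fin 280)) where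
  toFun σ := Equiv.Set.congr σ
  map_one' := Equiv.ext fun s => by simp
  map_mul' σ τ := Equiv.ext fun s => by simp [Equiv.Set.congr, Set.image_image]

/-- The set of a number. -/
def setOf126 (a : Fin 126) : Set (Fin 280) := {y | (uFourMasks.getD a.val 0).testBit y.val = true}

theorem setOf_injective : Function.Injective setOf126 := by
  intro a b e
  have h := masks_checks
  simp only [masksB, List.all_eq_true, List.mem_range, List.any_eq_true, bne_iff_ne] at h
  by_contra hne
  rcases lt_or_gt_of_ne (fun e' : a.val = b.val => hne (Fin.ext e')) with hl | hl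
  · obtain ⟨y, hy, hd⟩ := h b.val b.isLt a.val hl
    exact hd (Bool.eq_iff_iff.2 (Set.ext_iff.1 e ⟨y, hy⟩).symm)
  · obtain ⟨y, hy, hd⟩ := h a.val a.isLt b.val hl
    exact hd (Bool.eq_iff_iff.2 (Set.ext_iff.1 e ⟨y, hy⟩))

theorem code_perm {k : ℕ} (hk : k < 2) :
    IsCode (uFourCodes.getD k 0) (permC 126 (uFourBase.getD k 0)) := by
  have h := agree_checks
  simp only [agreeB, Bool.and_eq_true, List.all_eq_true, List.mem_range, Nat.beq_eq] at h
  obtain ⟨⟨⟨⟨hl, -⟩, -⟩, hok⟩, hall⟩ := h
  intro a
  have hmem : uFourBase.getD k 0 ∈ uFourBase := by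
    rw [List.getD_eq_getElem _ _ (by omega)]; exact List.getElem_mem _
  rw [permC_apply (hok _ hmem), hall k hk a.val a.isLt]

theorem permGroup_eq : permGroup 126 uFourCodes = H4 := by
  have h := agree_checks
  simp only [agreeB, Bool.and_eq_true, List.all_eq_true, List.mem_range, Nat.beq_eq] at h
  obtain ⟨⟨⟨⟨hl, hl'⟩, -⟩, -⟩, -⟩ := h
  refine le_antisymm ((Subgroup.closure_le _).2 ?_) ((Subgroup.closure_le _).2 ?_)
  · rintro σ ⟨P, hP, hσ⟩
    obtain ⟨k, hk, rfl⟩ := List.getElem_of_mem hP
    have e := code_perm (k := k) (by omega)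
    rw [List.getD_eq_getElem _ _ hk] at e
    rw [isCode_unique hσ e]
    exact Subgroup.subset_closure ⟨_, by
      rw [List.getD_eq_getElem _ _ (by omega : k < uFourBase.length)]; exact List.getElem_mem _, rfl⟩
  · rintro _ ⟨b, hb, rfl⟩
    obtain ⟨k, hk, rfl⟩ := List.getElem_of_mem hb
    have e := code_perm (k := k) (by omega)
    rw [List.getD_eq_getElem uFourBase _ hk] at e
    exact Subgroup.subset_closure ⟨_, by
      rw [List.getD_eq_getElem _ _ (by omega : k < uFourCodes.length)]; exact List.getElem_mem _, e⟩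

theorem gen_of_code {k : ℕ} (hk : k < 2) : ∃ g : ↥K280, ∀ y : Fin 280,
    ((g : Equiv.Perm (Fin 280)) y).val = fieldAt (U43.codes.getD k 0) y := by
  obtain ⟨e⟩ := psu_equiv_any F9 card_F9
  have hlen : k < U43.codes.length := by
    have h := agree_checks
    simp only [agreeB, Bool.and_eq_true, Nat.beq_eq] at h
    omega
  have hok : ∃ σ : Equiv.Perm (Fin 280), IsCode (U43.codes.getD k 0) σ := by
    have h : ((List.range 280).map (fieldAt (U43.codes.getD k 0))).Nodup ∧
        ∀ y : Fin 280, fieldAt (U43.codes.getD k 0) y.val < 280 := by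
      interval_cases k <;> exact ⟨by decide +kernel, by decide +kernel⟩
    let f : Fin 280 → Fin 280 := fun y => ⟨_, h.2 y⟩
    have hf : Function.Injective f := fun a b e => Fin.ext (List.inj_on_of_nodup_map h.1
      (List.mem_range.2 a.isLt) (List.mem_range.2 b.isLt) (congrArg Fin.val e))
    exact ⟨Equiv.ofBijective f (Finite.injective_iff_bijective.1 hf), fun y => rfl⟩
  obtain ⟨σ, hσ⟩ := hok
  exact ⟨⟨σ, Subgroup.subset_closure ⟨_, by
    rw [List.getD_eq_getElem _ _ hlen]; exact List.getElem_mem _, hσ⟩⟩, hσ⟩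

theorem equiv_K280 : Nonempty (↥K280 ≃* ↥H4) := by
  have hgen : ∀ P ∈ uFourCodes, ∃ g : ↥K280, ∀ a : Fin 126, ∃ b : Fin 126,
      (b : ℕ) = fieldAt P a ∧ (setAct.comp K280.subtype) g (setOf126 a) = setOf126 b := by
    intro P hP
    obtain ⟨k, hk, rfl⟩ := List.getElem_of_mem hP
    have hk2 : k < 2 := by
      have h := agree_checks
      simp only [agreeB, Bool.and_eq_true, Nat.beq_eq] at h
      omega
    have hs : setsB k = true := by
      interval_cases k
      · exact sets_checks.1
      · exact sets_checks.2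
    simp only [setsB, List.all_eq_true, List.mem_range, Bool.and_eq_true, beq_iff_eq, Nat.blt_eq] at hs
    obtain ⟨g, hg⟩ := gen_of_code hk2
    refine ⟨g, fun a => ⟨⟨_, (hs a.val a.isLt 0 (by norm_num)).2⟩, ?_, ?_⟩⟩
    · show fieldAt (uFourCodes.getD k 0) a.val = _
      rw [List.getD_eq_getElem _ _ hk]
    · show Equiv.Set.congr (g : Equiv.Perm (Fin 280)) (setOf126 a) = _
      refine Set.ext fun z => ?_
      obtain ⟨y, rfl⟩ := (g : Equiv.Perm (Fin 280)).surjective z
      rw [Equiv.Set.congr_apply, (g : Equiv.Perm (Fin 280)).injective.mem_set_image]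
      show (uFourMasks.getD a.val 0).testBit y.val = true ↔ (uFourMasks.getD _ 0).testBit _ = true
      rw [(hs a.val a.isLt y.val y.isLt).1, hg]
  obtain ⟨⟨e⟩, -⟩ := nonempty_equiv_permGroup (setAct.comp K280.subtype) (⊥ : Subgroup ↥K280) setOf126
    setOf_injective (fun z hz a => by rw [(Subgroup.mem_bot).1 hz, map_one]; rfl) cert126 cert126_ok hgen
    (by rw [card_K280, Subgroup.card_bot, mul_one])
  exact ⟨(QuotientGroup.quotientBot.symm.trans e).trans (MulEquiv.subgroupCongr permGroup_eq)⟩

theorem psu_equiv_H4 (F : Type u) [Field F] [Fintype F] (hF : Fintype.card F = 9) :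
    Nonempty (↥H4 ≃* PSU 4 F 3) := by
  obtain ⟨e⟩ := equiv_K280
  obtain ⟨d⟩ := psu_equiv_any F hF
  exact ⟨e.symm.trans d.symm⟩

theorem card_H4 : Nat.card ↥H4 = 3265920 := by
  obtain ⟨e⟩ := equiv_K280
  rw [← Nat.card_congr e.toEquiv, card_K280]

theorem H4_perfect : commutator ↥H4 = ⊤ := by
  obtain ⟨e⟩ := psu_equiv_H4 F9 card_F9
  have : IsSimpleGroup (PSU 4 F9 3) :=
    CfsgLib.Classical.Unitary.isSimpleGroup_PSU (by rw [card_F9]; norm_num) (by norm_num) (by norm_num)
  have : IsSimpleGroup ↥H4 := e.isSimpleGroup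
  refine (IsSimpleGroup.eq_bot_or_eq_top_of_normal (commutator ↥H4) inferInstance).resolve_left
    fun h => ?_
  have hc := (commutator_eq_bot_iff_center_eq_top _).1 h
  have hcomm : IsMulCommutative ↥H4 :=
    ⟨⟨fun a b => (Subgroup.mem_center_iff.1 (hc.ge (Subgroup.mem_top a)) b).symm⟩⟩
  have : (Nat.card ↥H4).Prime := by
    open scoped IsMulCommutative in exact IsSimpleGroup.prime_card
  rw [card_H4] at this
  norm_num at this

end CfsgLib.Schur.Tails.UFour
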