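import Cfsg.Agent.Lib.Tails.SpSixModel
import Cfsg.Agent.Lib.Tails.SpSixCoverData
import Cfsg.Agent.Lib.Tails.PermCover

/-!
# The chains of the double cover of the symplectic group of dimension six over two elements
-/

set_option autoImplicit false
set_option maxRecDepth 100000

namespace CfsgLib.Schur.Tails.SpSix

open CfsgLib.Golay CfsgLib.TailsData Subgroup
open scoped commutatorElement

/-- A chain with its program from two generators. -/
noncomputable def chainB (k : ℕ) [NeZero k] (hk : k ≤ 256) (base : List ℕ) (levels : List Bsgs.Lvl)
    (stp : List (ℕ × Bool × ℕ × ℕ)) (total : ℕ) : Bool :=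
  let O := PermCover.ops k hk
  Bsgs.check O [] levels && Bsgs.slpCheck O base stp && base.all O.ok &&
    (base.all fun b => (Bsgs.allGens levels).contains b) &&
    ((Bsgs.allGens levels).all fun g => (base ++ stp.map (·.1)).contains g) &&
    decide ((levels.map fun l => l.reps.length).prod = total)

theorem low_chain : chainB 63 (by norm_num) spLowBase spLowLevels spLowSlp 1451520 = true := by
  decide +kernel

end CfsgLib.Schur.Tails.SpSix
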