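import Cfsg.Agent.Lib.Tails.SpSixPairCheck
import Cfsg.Agent.Lib.Tails.SpSixCoverData
import Cfsg.Agent.Lib.Tails.PermCover

/-!
# Checks of the double cover of the symplectic group of dimension six over two elements
-/

set_option autoImplicit false
set_option maxRecDepth 100000

namespace CfsgLib.Schur.Tails.SpSix

open CfsgLib.Golay CfsgLib.TailsData Subgroup
open scoped commutatorElement

/-- The pairs match the two actions. -/
def pairsB : Bool :=
  spPairBase.all (PermCover.splitB 63 120) &&
    (spPairBase.map (PermCover.lowC 63) == spLowBase) &&
    (spPairBase.map (PermCover.highL 63 120) == spMidBase.map (PackPerm.toL 120))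

/-- The coded permutations of the 240 points. -/
noncomputable abbrev ops240 : Bsgs.Ops (Equiv.Perm (Fin 240)) (Fin 240) := PermCover.ops 240 (by norm_num)

/-- The neighbours of a point as bits. -/
def nbMask (x : ℕ) : ℕ := spNbMasks.getD x 0

/-- The lists and the bits agree. -/
def shapeB : Bool :=
  (List.range 240).all fun x => Nat.beq (PackPerm.hits (spNbLists.getD x [])) (nbMask x)

/-- The neighbours go to neighbours. -/
def keepB (g : ℕ) : Bool :=
  (List.range 240).all fun x =>
    (spNbLists.getD x []).all fun y => (nbMask (PackPerm.getP g x)).testBit (PackPerm.getP g y)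

/-- A point and its partner have no common neighbour, nor a neighbour and its partner. -/
def sidesB : Bool :=
  (List.range 240).all fun x => (spNbLists.getD x []).all fun y =>
    !(nbMask x).testBit (PackPerm.getP spHighZ y) && !(nbMask (PackPerm.getP spHighZ x)).testBit y

/-- Every pair is near the first point. -/
def linkB : Bool :=
  (List.range 240).all fun x =>
    Nat.blt (spLink.getD x 0) 240 && (nbMask 0).testBit (spLink.getD x 0) &&
      ((nbMask (spLink.getD x 0)).testBit x || (nbMask (spLink.getD x 0)).testBit (PackPerm.getP spHighZ x))

/-- The checks of the cover. -/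
noncomputable def highB : Bool :=
  spHighBase.all (fun g => PackPerm.okP 240 g && keepB g &&
      PackPerm.mulP 240 g spHighZ == PackPerm.mulP 240 spHighZ g) &&
    (spHighBase.map (fun g => (List.range 120).map fun i => PackPerm.getP g (2 * i) / 2) ==
      spMidBase.map (PackPerm.toL 120)) &&
    Bsgs.slpCheck ops240 spHighBase spHighSlp && ops240.ok spHighU && ops240.ok spHighV &&
    ([spHighU, spHighV].all fun c => (spHighBase ++ spHighSlp.map (·.1)).contains c) &&
    (ops240.mul spHighZ (ops240.mul spHighV spHighU) == ops240.mul spHighU spHighV) &&
    !(PackPerm.getP spHighZ 0 == 0) && shapeB && sidesB && linkB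

theorem low_mats : spLowBase.all matB = true := by decide +kernel

theorem pair_match : pairsB = true := by decide +kernel

theorem mid_nontrivial : (spMidBase.any fun b => !(PackPerm.getP b 0 == 0)) = true ∧
    spMidBase.all (PackPerm.okP 120) = true := by
  constructor <;> decide +kernel

theorem swap_ok : PackPerm.okP 240 spHighZ = true ∧
    (∀ x : Fin 240, PackPerm.getP spHighZ x.val = if x.val % 2 = 0 then x.val + 1 else x.val - 1) := by
  constructor <;> decide +kernel

theorem high_checks : highB = true := by decide +kernel

end CfsgLib.Schur.Tails.SpSix
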