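import Cfsg.Agent.Lib.Tails.Finish

/-!
# Checking a certificate with its equations listed, in parts
-/

set_option autoImplicit false

namespace CfsgLib.Schur.Tails.EqsSplit

/-- A stretch of the equations equals the listed ones. -/
def eqsPartB (c : Cert) (L : List (List ℕ)) (lo n : ℕ) : Bool :=
  ((c.eqs.drop lo).take n == ((L.map some).drop lo).take n)

/-- The combination for one relation, with the equations listed. -/
def comboB (c : Cert) (L : List (List ℕ)) (r : ℕ) : Bool :=
  let e := c.combos.getD r ([], 0)
  sameB c.q (subV c.q (addV c.q (unitV r) (c.muV (c.rels.getD r ([], [])).1))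
    (c.muV (c.rels.getD r ([], [])).2)) (addV c.q (combV c.q L e.1) (smulV c.q e.2 c.tau))

/-- The combinations of a stretch of relations. -/
def combosPartB (c : Cert) (L : List (List ℕ)) (lo n : ℕ) : Bool :=
  (List.range n).all fun k => comboB c L (lo + k)

/-- The remaining conditions. -/
def restB (c : Cert) (L : List (List ℕ)) : Bool :=
  (c.q == c.p || c.q == c.p * c.p) && c.shapeB &&
    sameB c.q (smulV c.q c.p c.tau) (combV c.q L c.tauCombo) &&
    (c.combos.length == c.rels.length) && (c.eqs.length == L.length)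

/-- The check from its parts; the parts are given by their first places and lengths. -/
theorem checkB_of_parts {c : Cert} {L : List (List ℕ)} (hrest : restB c L = true) {P Q : List (ℕ × ℕ)}
    (hP : ∀ a ∈ P, eqsPartB c L a.1 a.2 = true)
    (hPc : ∀ k < L.length, ∃ a ∈ P, a.1 ≤ k ∧ k < a.1 + a.2)
    (hQ : ∀ a ∈ Q, combosPartB c L a.1 a.2 = true)
    (hQc : ∀ k < c.rels.length, ∃ a ∈ Q, a.1 ≤ k ∧ k < a.1 + a.2) : c.checkB = true := by
  simp only [restB, Bool.and_eq_true, beq_iff_eq] at hrest
  obtain ⟨⟨⟨⟨hqp, hshape⟩, htau⟩, hlen⟩, hel⟩ := hrest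
  have he : c.eqs = L.map some := by
    refine List.ext_getElem (by simpa using hel) fun k h1 h2 => ?_
    obtain ⟨a, ha, hlo, hhi⟩ := hPc k (by simpa using h2)
    have h := hP a ha
    simp only [eqsPartB, beq_iff_eq] at h
    have e := congrArg (fun l => l[k - a.1]?) h
    simp only [List.getElem?_take, if_pos (show k - a.1 < a.2 by omega), List.getElem?_drop,
      Nat.add_sub_cancel' hlo, List.getElem?_eq_getElem h1, List.getElem?_eq_getElem h2,
      Option.some.injEq] at e
    exact e
  have hget : ((L.map some).map fun e => e.getD []) = L := by simp [List.map_map, Function.comp_def]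
  simp only [Cert.checkB, Bool.and_eq_true, he, hget, List.all_eq_true, List.mem_range, beq_iff_eq]
  refine ⟨⟨⟨⟨⟨hqp, ?_⟩, hshape⟩, htau⟩, hlen⟩, fun r hr => ?_⟩
  · intro e hm
    obtain ⟨x, -, rfl⟩ := List.mem_map.1 hm
    rfl
  · obtain ⟨a, ha, hlo, hhi⟩ := hQc r hr
    have h := hQ a ha
    simp only [combosPartB, List.all_eq_true, List.mem_range] at h
    have e := h (r - a.1) (by omega)
    rwa [Nat.add_sub_cancel' hlo] at e

end CfsgLib.Schur.Tails.EqsSplit
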