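import Cfsg.Agent.Lib.Tails.RigidCert

/-!
# Long programs and relations checked in parts
-/

set_option autoImplicit false

namespace CfsgLib.Schur.Tails.RigidCert

open CfsgLib.Rigid

/-- The listed codes stand at the given places of the known ones. -/
noncomputable def refsB (one : List ℕ) (known : List (List ℕ)) : List ℕ → List (List ℕ) → Bool
  | [], [] => true
  | i :: is, M :: Ms => Nat.blt i known.length && eqL (known.getD i one) M && refsB one known is Ms
  | _, _ => false

variable {G : Type} [Group G] (c : Cod G)

/-- All listed codes come from the group. -/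
def AllCoded (L : List (List ℕ)) : Prop := ∀ M ∈ L, ∃ g, c.C g = M

theorem allCoded_refs {one : List ℕ} {known : List (List ℕ)} (h : AllCoded c known) :
    ∀ {is : List ℕ} {Ms : List (List ℕ)}, refsB one known is Ms = true → AllCoded c Ms
  | [], [], _ => fun M hM => absurd hM List.not_mem_nil
  | [], _ :: _, e => absurd e (by simp [refsB])
  | _ :: _, [], e => absurd e (by simp [refsB])
  | i :: is, M :: Ms, e => by
    simp only [refsB, Bool.and_eq_true, Nat.blt_eq, eqL_iff] at e
    intro N hN
    rcases List.mem_cons.1 hN with rfl | hN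
    · rw [← e.1.2, List.getD_eq_getElem _ _ e.1.1]
      exact h _ (List.getElem_mem _)
    · exact allCoded_refs h e.2 N hN

/-- A stretch of a program whose inputs are known. -/
theorem allCoded_part {one : List ℕ} (h1 : c.C 1 = one) {known inp : List (List ℕ)} {is : List ℕ}
    {os : List Op} (h : AllCoded c known) (hin : refsB one known is inp = true)
    (hos : slpOk one os inp = true) : AllCoded c (known ++ os.map Op.M) := by
  have h2 := c.slp_sound (K := ⊤) h1 os inp
    (fun M hM => (allCoded_refs c h hin M hM).imp fun x hx => ⟨trivial, hx⟩) hos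
  intro M hM
  rcases List.mem_append.1 hM with hM | hM
  · exact h M hM
  · exact (h2 M (List.mem_append_right _ hM)).imp fun x hx => hx.2

theorem realised_parts [Finite G] (hinj : Function.Injective c.C) {one : List ℕ} (h1 : c.C 1 = one)
    {gens hs : List (List ℕ)} (hgens : AllCoded c gens) (hhs : AllCoded c hs) {cert : Cert}
    (hc : cert.checkB = true) {Ls : List Layer} (hr : relsB one gens hs cert = true)
    (hlay : layersB cert.p one gens [] Ls = true) (hbig : cert.p ^ cert.n ≤ layersM Ls)
    (hdiv : ¬ cert.p ^ (cert.n + 1) ∣ Nat.card G) : cert.Realised G := by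
  refine ⟨hc, ?_⟩
  simp only [relsB, Bool.and_eq_true, List.all_eq_true, Nat.beq_eq, eqL_iff, List.mem_range] at hr
  obtain ⟨⟨⟨hlen, hhlen⟩, hrel⟩, hfus⟩ := hr
  have hcode : ∀ {L : List (List ℕ)}, AllCoded c L → ∀ i, ∃ g : G, c.C g = L.getD i one := by
    intro L hL i
    by_cases hi : i < L.length
    · rw [List.getD_eq_getElem _ _ hi]
      exact hL _ (List.getElem_mem hi)
    · rw [List.getD_eq_default _ _ (by omega)]
      exact ⟨1, h1⟩
  choose g hg using hcode hgens
  choose h hh using hcode hhs
  refine ⟨g, fun r hr' => hinj ?_, fun f hf => ?_, ?_, hdiv⟩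
  · rw [← evC_spec c h1 hg, ← evC_spec c h1 hg]
    exact hrel r hr'
  · obtain ⟨i, hi', rfl⟩ := List.getElem_of_mem hf
    refine ⟨h i, fun k hk => hinj ?_⟩
    have e := hfus i hi'
    simp only [List.getD_eq_getElem _ _ hi'] at e
    have e := e k hk
    rw [← hh i] at e
    rw [c.mul, c.mul, ← evC_spec c h1 hg, ← evC_spec c h1 hg]
    exact e
  · refine hbig.trans ((layers_card c h1 hg (K := Subgroup.closure (g '' {k | k < cert.n}))
      (fun i hi' => Subgroup.subset_closure ⟨i, hlen ▸ hi', rfl⟩) Ls [] (by simp) hlay).trans ?_)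
    exact Nat.card_le_card_of_injective (fun x => ⟨x.1, x.2.1⟩) fun a b e =>
      Subtype.ext (congrArg (fun y => y.1) e)

end CfsgLib.Schur.Tails.RigidCert
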