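import Cfsg.Agent.Lib.Tails.Finish

/-!
# Combining covers of perfect groups

Two covers give a cover surjecting onto both; a central quotient inherits a cyclic multiplier.
-/

set_option autoImplicit false

namespace CfsgLib.Schur.Tails

open Subgroup
open scoped commutatorElement IsMulCommutative

universe u

variable {G : Type u} [Group G]

/-- A central extension of a perfect group is its derived group times the kernel. -/
theorem commutator_mul_ker {E : Type*} [Group E] (hG : commutator G = ⊤) {σ : E →* G}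
    (hσ : Function.Surjective σ) : (commutator E).map σ = ⊤ := by
  rw [_root_.commutator_def, map_commutator, Subgroup.map_top_of_surjective σ hσ, ← _root_.commutator_def, hG]

theorem stem_perfect {E : Type*} [Group E] (hG : commutator G = ⊤) {σ : E →* G}
    (hσ : Cfsg.IsStemExtension σ) : commutator E = ⊤ := by
  refine eq_top_iff.2 fun x _ => ?_
  obtain ⟨y, hy, e⟩ := (commutator_mul_ker hG hσ.1).ge (mem_top (σ x))
  have h : y⁻¹ * x ∈ σ.ker := by rw [MonoidHom.mem_ker, map_mul, map_inv, e, inv_mul_cancel]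
  simpa using mul_mem hy (hσ.2.2 h)

/-- The derived group of a central extension of a perfect group is perfect. -/
theorem derived_perfect {E : Type*} [Group E] (hG : commutator G = ⊤) {σ : E →* G}
    (hσ : Function.Surjective σ) (hc : σ.ker ≤ center E) :
    commutator ↥(commutator E) = ⊤ := by
  have key : ∀ a b : E, ∃ a' ∈ commutator E, ∃ b' ∈ commutator E, ⁅a, b⁆ = ⁅a', b'⁆ := by
    intro a b
    obtain ⟨a', ha', ea⟩ := (commutator_mul_ker hG hσ).ge (mem_top (σ a))
    obtain ⟨b', hb', eb⟩ := (commutator_mul_ker hG hσ).ge (mem_top (σ b))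
    refine ⟨a', ha', b', hb', ?_⟩
    have hza : a'⁻¹ * a ∈ center E := hc (by rw [MonoidHom.mem_ker, map_mul, map_inv, ea, inv_mul_cancel])
    have hzb : b'⁻¹ * b ∈ center E := hc (by rw [MonoidHom.mem_ker, map_mul, map_inv, eb, inv_mul_cancel])
    obtain ⟨za, rfl⟩ : ∃ z, a = a' * z := ⟨_, (mul_inv_cancel_left a' a).symm⟩
    obtain ⟨zb, rfl⟩ : ∃ z, b = b' * z := ⟨_, (mul_inv_cancel_left b' b).symm⟩
    rw [inv_mul_cancel_left] at hza hzb
    have e1 : za * (b' * zb) * za⁻¹ = b' * zb := by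
      rw [← mem_center_iff.1 hza, mul_inv_cancel_right]
    have e2 : zb * (a'⁻¹) * zb⁻¹ = a'⁻¹ := by
      rw [← mem_center_iff.1 hzb, mul_inv_cancel_right]
    rw [commutatorElement_def, commutatorElement_def, mul_inv_rev, mul_inv_rev]
    calc a' * za * (b' * zb) * (za⁻¹ * a'⁻¹) * (zb⁻¹ * b'⁻¹)
        = a' * (za * (b' * zb) * za⁻¹) * a'⁻¹ * zb⁻¹ * b'⁻¹ := by group
      _ = a' * b' * (zb * a'⁻¹ * zb⁻¹) * b'⁻¹ := by rw [e1]; group
      _ = a' * b' * a'⁻¹ * b'⁻¹ := by rw [e2]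
  refine Subgroup.map_injective (commutator E).subtype_injective ?_
  rw [← MonoidHom.range_eq_map, Subgroup.range_subtype]
  refine le_antisymm (Subgroup.map_subtype_le _) ?_
  refine ((_root_.commutator_def E).le).trans (Subgroup.commutator_le.2 ?_)
  intro a _ b _
  obtain ⟨a', ha', b', hb', e⟩ := key a b
  rw [e]
  refine ⟨⁅(⟨a', ha'⟩ : ↥(commutator E)), (⟨b', hb'⟩ : ↥(commutator E))⁆, ?_, rfl⟩
  exact Subgroup.commutator_mem_commutator (mem_top _) (mem_top _)

/-- In a perfect group the preimage of the centre under a map with central kernel is central. -/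
theorem central_of_map_central {E C : Type*} [Group E] [Group C] (hE : commutator E = ⊤)
    {σ : E →* C} (hc : σ.ker ≤ center E) {x : E} (hx : σ x ∈ center C) : x ∈ center E := by
  have hk : ∀ g : E, ⁅g, x⁆ ∈ center E := fun g => hc (by
    rw [MonoidHom.mem_ker, map_commutatorElement, commutatorElement_eq_one_iff_mul_comm]
    exact mem_center_iff.1 hx _)
  let f : E →* ↥(center E) :=
    { toFun := fun g => ⟨⁅g, x⁆, hk g⟩
      map_one' := Subtype.ext (commutatorElement_one_left x)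
      map_mul' := fun g h => Subtype.ext (by
        show ⁅g * h, x⁆ = ⁅g, x⁆ * ⁅h, x⁆
        calc ⁅g * h, x⁆ = g * ⁅h, x⁆ * g⁻¹ * ⁅g, x⁆ := by
              simp only [commutatorElement_def]; group
          _ = ⁅h, x⁆ * ⁅g, x⁆ := by rw [mem_center_iff.1 (hk h) g, mul_inv_cancel_right]
          _ = ⁅g, x⁆ * ⁅h, x⁆ := (mem_center_iff.1 (hk h) _).symm) }
  refine mem_center_iff.2 fun g => ?_
  have h : commutator E ≤ f.ker := Abelianization.commutator_subset_ker (G := E) (A := ↥(center E)) f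
  rw [hE] at h
  exact commutatorElement_eq_one_iff_mul_comm.1 (congrArg Subtype.val (MonoidHom.mem_ker.1 (h (mem_top g))))

theorem dvd_of_onto {P X : Type*} [Group P] [Group X] [Finite P] [Finite X] [Finite G]
    {τ : P →* G} {f : P →* X} {σ : X →* G} (hf : Function.Surjective f) (hσ : Function.Surjective σ)
    (e : σ.comp f = τ) : Nat.card σ.ker ∣ Nat.card τ.ker := by
  have hτ : Function.Surjective τ := e ▸ hσ.comp hf
  have h1 := σ.ker.card_mul_index
  have h2 := τ.ker.card_mul_index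
  rw [Subgroup.index_ker, MonoidHom.range_eq_top.2 hσ, Subgroup.card_top] at h1
  rw [Subgroup.index_ker, MonoidHom.range_eq_top.2 hτ, Subgroup.card_top] at h2
  refine Nat.dvd_of_mul_dvd_mul_right (Nat.card_pos (α := G)) ?_
  rw [h1, h2]
  exact Subgroup.card_dvd_of_surjective f hf

/-- A perfect stem extension covering two given ones. -/
theorem exists_join [Finite G] (hG : commutator G = ⊤)
    {A : Type u} [Group A] [Finite A] {σ₁ : A →* G} (h₁ : Cfsg.IsStemExtension σ₁)
    {B : Type u} [Group B] [Finite B] {σ₂ : B →* G} (h₂ : Cfsg.IsStemExtension σ₂) :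
    ∃ (P : Type u) (_ : Group P) (_ : Finite P) (τ : P →* G) (f₁ : P →* A) (f₂ : P →* B),
      Cfsg.IsStemExtension τ ∧ Function.Surjective f₁ ∧ Function.Surjective f₂ ∧
        σ₁.comp f₁ = τ ∧ σ₂.comp f₂ = τ ∧ commutator P = ⊤ := by
  let F : Subgroup (A × B) := MonoidHom.eqLocus (σ₁.comp (MonoidHom.fst A B)) (σ₂.comp (MonoidHom.snd A B))
  let π : ↥F →* G := (σ₁.comp (MonoidHom.fst A B)).comp F.subtype
  have hπ : Function.Surjective π := fun g => by
    obtain ⟨a, ha⟩ := h₁.1 g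
    obtain ⟨b, hb⟩ := h₂.1 g
    exact ⟨⟨(a, b), ha.trans hb.symm⟩, ha⟩
  have hc : π.ker ≤ center ↥F := fun x hx => mem_center_iff.2 fun y => by
    have e1 : σ₁ x.1.1 = 1 := hx
    have e2 : σ₂ x.1.2 = 1 := x.2.symm.trans e1
    exact Subtype.ext (Prod.ext (mem_center_iff.1 (h₁.2.1 e1) _) (mem_center_iff.1 (h₂.2.1 e2) _))
  have hperf := derived_perfect hG hπ hc
  let τ : ↥(commutator ↥F) →* G := π.comp (commutator ↥F).subtype
  have hτ : Function.Surjective τ := fun g => by
    obtain ⟨y, hy, e⟩ := (commutator_mul_ker hG hπ).ge (mem_top g)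
    exact ⟨⟨y, hy⟩, e⟩
  have surj : ∀ {X : Type u} [Group X] (σ : X →* G), Cfsg.IsStemExtension σ → ∀ f : ↥F →* X,
      Function.Surjective f → Function.Surjective (f.comp (commutator ↥F).subtype) := by
    intro X _ σ hσ f hf x
    have h : (commutator ↥F).map f = ⊤ := by
      rw [_root_.commutator_def, map_commutator, Subgroup.map_top_of_surjective f hf,
        ← _root_.commutator_def, stem_perfect hG hσ]
    obtain ⟨y, hy, e⟩ := h.ge (mem_top x)
    exact ⟨⟨y, hy⟩, e⟩
  let f1 : ↥F →* A := (MonoidHom.fst A B).comp F.subtype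
  let f2 : ↥F →* B := (MonoidHom.snd A B).comp F.subtype
  have hf1 : Function.Surjective f1 := fun a => by
    obtain ⟨b, hb⟩ := h₂.1 (σ₁ a)
    exact ⟨⟨(a, b), hb.symm⟩, rfl⟩
  have hf2 : Function.Surjective f2 := fun b => by
    obtain ⟨a, ha⟩ := h₁.1 (σ₂ b)
    exact ⟨⟨(a, b), ha⟩, rfl⟩
  refine ⟨↥(commutator ↥F), inferInstance, inferInstance, τ, f1.comp (commutator ↥F).subtype,
    f2.comp (commutator ↥F).subtype, ⟨hτ, fun x hx => mem_center_iff.2 fun y =>
      Subtype.ext (mem_center_iff.1 (hc (show π x.1 = 1 from hx)) y.1), hperf.ge.trans' le_top⟩,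
    surj σ₁ h₁ f1 hf1, surj σ₂ h₂ f2 hf2, rfl, ?_, hperf⟩
  exact MonoidHom.ext fun x => x.1.2.symm

/-- A cyclic multiplier from two covers and the bound. -/
theorem hasCyclic_of_two [Finite G] (hG : commutator G = ⊤) {n : ℕ} [NeZero n]
    {A : Type u} [Group A] [Finite A] {σ₁ : A →* G} (h₁ : Cfsg.IsStemExtension σ₁)
    {B : Type u} [Group B] [Finite B] {σ₂ : B →* G} (h₂ : Cfsg.IsStemExtension σ₂)
    (hn : Nat.lcm (Nat.card σ₁.ker) (Nat.card σ₂.ker) = n)
    (h : ∀ (Γ : Type u) [Group Γ] [Finite Γ] (σ : Γ →* G), Cfsg.IsStemExtension σ →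
      IsCyclic σ.ker ∧ Nat.card σ.ker ∣ n) : Cfsg.HasCyclicSchurMultiplier G n := by
  refine hasCyclic_of_bound ?_ h
  obtain ⟨P, iP, fP, τ, f₁, f₂, hτ, s1, s2, e1, e2, -⟩ := exists_join hG h₁ h₂
  obtain ⟨hcyc, hdvd⟩ := h P τ hτ
  have hc : Nat.card τ.ker = n := Nat.dvd_antisymm hdvd (hn ▸
    Nat.lcm_dvd (dvd_of_onto s1 h₁.1 e1) (dvd_of_onto s2 h₂.1 e2))
  exact ⟨P, iP, fP, τ, hτ, ⟨(zmodCyclicMulEquiv hcyc).symm.trans
    (AddEquiv.toMultiplicative (ZMod.ringEquivCongr hc).toAddEquiv)⟩⟩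

/-- The kernels of stem extensions under a cyclic multiplier. -/
theorem bound_of_hasCyclic {n : ℕ} (h : Cfsg.HasCyclicSchurMultiplier G n) (Γ : Type u) [Group Γ]
    [Finite Γ] (σ : Γ →* G) (hσ : Cfsg.IsStemExtension σ) :
    IsCyclic σ.ker ∧ Nat.card σ.ker ∣ n := by
  obtain ⟨π, hπ⟩ := h.2 Γ σ hσ
  refine ⟨isCyclic_of_surjective π hπ, ?_⟩
  refine (Subgroup.card_dvd_of_surjective π hπ).trans ?_
  rw [Nat.card_congr Multiplicative.toAdd, Nat.card_zmod]

/-- The multiplier of a perfect central extension. -/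
theorem hasCyclic_of_quotient [Finite G] (hG : commutator G = ⊤) {n m : ℕ} [NeZero m]
    (h : Cfsg.HasCyclicSchurMultiplier G n) {C : Type u} [Group C] [Finite C] {ρ : C →* G}
    (hρ : Cfsg.IsStemExtension ρ) (hm : Nat.card ρ.ker * m = n) :
    Cfsg.HasCyclicSchurMultiplier C m := by
  have hC := stem_perfect hG hρ
  have hbound : ∀ (E : Type u) [Group E] [Finite E] (σ : E →* C), Cfsg.IsStemExtension σ →
      IsCyclic σ.ker ∧ Nat.card σ.ker ∣ m := by
    intro E _ _ σ hσ
    have hE := stem_perfect hC hσ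
    have hst : Cfsg.IsStemExtension (ρ.comp σ) := ⟨fun y => by
        obtain ⟨c, rfl⟩ := hρ.1 y
        obtain ⟨e, rfl⟩ := hσ.1 c
        exact ⟨e, rfl⟩,
      fun x hx => central_of_map_central hE hσ.2.1 (hρ.2.1 hx), le_top.trans hE.ge⟩
    obtain ⟨hcyc, hdvd⟩ := bound_of_hasCyclic h E (ρ.comp σ) hst
    have hle : σ.ker ≤ (ρ.comp σ).ker := fun x hx => by
      rw [MonoidHom.mem_ker, MonoidHom.comp_apply, MonoidHom.mem_ker.1 hx, map_one]
    refine ⟨isCyclic_of_injective (Subgroup.inclusion hle) (Subgroup.inclusion_injective hle), ?_⟩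
    have key : Nat.card (ρ.comp σ).ker = Nat.card ρ.ker * Nat.card σ.ker := by
      have a := (ρ.comp σ).ker.card_mul_index
      have b := ρ.ker.card_mul_index
      have c := σ.ker.card_mul_index
      rw [Subgroup.index_ker, MonoidHom.range_eq_top.2 hst.1, Subgroup.card_top] at a
      rw [Subgroup.index_ker, MonoidHom.range_eq_top.2 hρ.1, Subgroup.card_top] at b
      rw [Subgroup.index_ker, MonoidHom.range_eq_top.2 hσ.1, Subgroup.card_top] at c
      refine Nat.eq_of_mul_eq_mul_right (Nat.card_pos (α := G)) ?_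
      rw [a, ← c, ← b]
      ring
    rw [key, ← hm] at hdvd
    exact Nat.dvd_of_mul_dvd_mul_left Nat.card_pos hdvd
  refine hasCyclic_of_bound ?_ hbound
  obtain ⟨Γ, iΓ, fΓ, σ, hσ, ⟨e⟩⟩ := h.1
  obtain ⟨P, iP, fP, τ, f₁, f₂, hτ, s1, s2, e1, e2, hP⟩ := exists_join hG hσ hρ
  have hn : Nat.card σ.ker = n := by
    rw [Nat.card_congr e.toEquiv, Nat.card_congr Multiplicative.toAdd, Nat.card_zmod]
  have hτn : Nat.card τ.ker = n :=
    Nat.dvd_antisymm (bound_of_hasCyclic h P τ hτ).2 (hn ▸ dvd_of_onto s1 hσ.1 e1)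
  have hst : Cfsg.IsStemExtension f₂ := ⟨s2, fun x hx => hτ.2.1 (by
    rw [MonoidHom.mem_ker, ← e2, MonoidHom.comp_apply, MonoidHom.mem_ker.1 hx, map_one]),
    le_top.trans hP.ge⟩
  refine ⟨P, iP, fP, f₂, hst, ?_⟩
  obtain ⟨hcyc, hdvd⟩ := hbound P f₂ hst
  have a := τ.ker.card_mul_index
  have b := ρ.ker.card_mul_index
  have c := f₂.ker.card_mul_index
  rw [Subgroup.index_ker, MonoidHom.range_eq_top.2 hτ.1, Subgroup.card_top, hτn, ← hm] at a
  rw [Subgroup.index_ker, MonoidHom.range_eq_top.2 hρ.1, Subgroup.card_top] at b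
  rw [Subgroup.index_ker, MonoidHom.range_eq_top.2 s2, Subgroup.card_top] at c
  have hc : Nat.card f₂.ker = m := by
    refine Nat.eq_of_mul_eq_mul_left (Nat.card_pos (α := ρ.ker)) (Nat.eq_of_mul_eq_mul_right
      (Nat.card_pos (α := G)) ?_)
    rw [a, ← c, ← b]
    ring
  exact ⟨(zmodCyclicMulEquiv hcyc).symm.trans
    (AddEquiv.toMultiplicative (ZMod.ringEquivCongr hc).toAddEquiv)⟩

end CfsgLib.Schur.Tails
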