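import Cfsg.Agent.Lib.Tails.HSBound
import Cfsg.Agent.Lib.Leech.HSSpor
import Cfsg.Agent.Lib.Known.SLLift.Congr

/-!
# The multiplier of HS
-/

set_option autoImplicit false

namespace CfsgLib.Schur.Tails.HS

open CfsgLib.Golay CfsgLib.TailsData

attribute [local irreducible] twoHSCert threeHSCert fiveHSCert twoHSGens threeHSGens fiveHSGens
  twoHSHs threeHSHs fiveHSHs twoHSSlp threeHSSlp fiveHSSlp twoHSIdx threeHSIdx fiveHSIdx

theorem bound {Γ : Type} [Group Γ] [Finite Γ] (σ : Γ →* ↥HS.hsGroup)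
    (hσ : Cfsg.IsStemExtension σ) : IsCyclic σ.ker ∧ Nat.card σ.ker ∣ 2 := by
  obtain ⟨⟨a2, b2, n2⟩, ⟨a3, b3, t3, n3⟩, a5, b5, t5, n5⟩ := sizes
  obtain ⟨d3, d5⟩ := odd_data
  have hne : ∀ p : ℕ, p.Prime → p ≠ 2 → ¬ p ∣ Nat.card σ.ker := by
    intro p hp hp2
    have := Fact.mk hp
    by_cases hsq : p ^ 2 ∣ Nat.card HS.hsGroup
    · have h35 : p = 3 ∨ p = 5 := by
        by_contra hcon
        push Not at hcon
        rw [HS.card_hsGroup, show (44352000 : ℕ) = (2 ^ 9 * 3 ^ 2 * 5 ^ 3) * (7 * 11) by norm_num] at hsq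
        have hco : Nat.Coprime (p ^ 2) (2 ^ 9 * 3 ^ 2 * 5 ^ 3) :=
          Nat.Coprime.mul_right (Nat.Coprime.mul_right
            (Nat.Coprime.pow 2 9 ((Nat.coprime_primes hp Nat.prime_two).2 hp2))
            (Nat.Coprime.pow 2 2 ((Nat.coprime_primes hp Nat.prime_three).2 hcon.1)))
            (Nat.Coprime.pow 2 3 ((Nat.coprime_primes hp (by norm_num)).2 hcon.2))
        have hsf : Squarefree (7 * 11) := by
          rw [Nat.squarefree_mul (by norm_num)]
          exact ⟨(by norm_num : Nat.Prime 7).squarefree, (by norm_num : Nat.Prime 11).squarefree⟩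
        exact hp.not_isUnit (hsf p (by rw [← pow_two]; exact hco.dvd_of_dvd_mul_left hsq))
      rcases h35 with rfl | rfl
      · have : Fact threeHSCert.p.Prime := ⟨a3 ▸ hp⟩
        exact (realised odd_certs.1 d3 (by rw [a3, n3, HS.card_hsGroup]; decide)).not_dvd a3 b3 t3 hσ
      · have : Fact fiveHSCert.p.Prime := ⟨a5 ▸ hp⟩
        exact (realised odd_certs.2 d5 (by rw [a5, n5, HS.card_hsGroup]; decide)).not_dvd a5 b5 t5 hσ
    · exact not_dvd_of_sq hσ hsq
  have h4 : ¬ 2 ^ 2 ∣ Nat.card σ.ker := by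
    have : Fact (Nat.Prime 2) := ⟨Nat.prime_two⟩
    have : Fact twoHSCert.p.Prime := ⟨a2 ▸ Nat.prime_two⟩
    exact (realised two_cert two_data (by rw [a2, n2, HS.card_hsGroup]; decide)).sq_not_dvd a2 b2 hσ
  have hdvd : Nat.card σ.ker ∣ 2 := by
    rw [Nat.dvd_iff_prime_pow_dvd_dvd]
    intro p k hp hpk
    rcases Nat.eq_zero_or_pos k with rfl | hk
    · simp
    obtain rfl : p = 2 := by
      by_contra hne2
      exact hne p hp hne2 ((dvd_pow_self p hk.ne').trans hpk)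
    have : k ≤ 1 := by
      by_contra hcon
      exact h4 ((pow_dvd_pow 2 (by omega)).trans hpk)
    exact (pow_dvd_pow 2 this).trans (by norm_num)
  refine ⟨?_, hdvd⟩
  rcases (Nat.dvd_prime Nat.prime_two).1 hdvd with h | h
  · have : Subsingleton σ.ker := (Nat.card_eq_one_iff_unique.1 h).1
    infer_instance
  · have : Fact (Nat.Prime 2) := ⟨Nat.prime_two⟩
    exact isCyclic_of_prime_card (p := 2) h

theorem multiplier_hsGroup : Cfsg.HasCyclicSchurMultiplier ↥HS.hsGroup 2 := by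
  refine hasCyclic_of_bound ⟨Cov, inferInstance, inferInstance, sigma, stem, ?_⟩
    fun _ _ _ σ hσ => bound σ hσ
  obtain ⟨hcyc, hdvd⟩ := bound sigma stem
  have hne : Nat.card sigma.ker ≠ 1 := fun h => ker_nontrivial (Subgroup.eq_bot_of_card_eq _ h)
  have hcard : Nat.card sigma.ker = 2 := ((Nat.dvd_prime Nat.prime_two).1 hdvd).resolve_left hne
  exact ⟨(zmodCyclicMulEquiv hcyc).symm.trans
    (AddEquiv.toMultiplicative (ZMod.ringEquivCongr hcard).toAddEquiv)⟩

theorem multiplier_HS : Cfsg.HasCyclicSchurMultiplier ↥Cfsg.Spor.HS 2 := by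
  obtain ⟨e⟩ := CfsgLib.Leech.HSVec.sporHS_equiv
  exact CfsgLib.Known.SLLift.hasSchurMultiplier_congr e.symm multiplier_hsGroup

end CfsgLib.Schur.Tails.HS
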