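import Cfsg.Agent.Lib.Tails.Finish
import Cfsg.Agent.Lib.Golay.Bsgs

/-!
# Certificates for groups of coded elements, or quotients of such
-/

set_option autoImplicit false

namespace CfsgLib.Schur.Tails.Coded

open CfsgLib.Golay

variable {G₀ : Type*} [Group G₀] {α : Type*} [MulAction G₀ α] (O : Bsgs.Ops G₀ α)

/-- The coded value of a word. -/
def evO (gs : List ℕ) : List ℕ → ℕ
  | [] => O.one
  | i :: w => O.mul (gs.getD i O.one) (evO gs w)

/-- A coded power. -/
def powO (g : ℕ) : ℕ → ℕ
  | 0 => O.one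
  | k + 1 => O.mul g (powO g k)

/-- The products of powers of the generators in order. -/
def expandO (p : ℕ) : List ℕ → List ℕ
  | [] => [O.one]
  | g :: gs => (List.range p).flatMap fun k => (expandO p gs).map fun e => O.mul (powO O g k) e

/-- Two codes agree up to one of the listed codes. -/
def sameUpB (Z : List ℕ) (a b : ℕ) : Bool := Z.any fun z => a == O.mul b z

/-- The relations and the conjugations of a certificate, up to the listed codes. -/
def relsB (Z gens : List ℕ) (c : Cert) (hs : List ℕ) : Bool :=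
  gens.all O.ok && hs.all O.ok && Z.all O.ok && decide (gens.length = c.n) &&
    decide (hs.length = c.fus.length) &&
    (c.rels.all fun r => sameUpB O Z (evO O gens r.1) (evO O gens r.2)) &&
    (List.range c.fus.length).all fun i =>
      let f := c.fus.getD i ⟨[], [], []⟩
      (List.range f.xs.length).all fun k =>
        sameUpB O Z (O.mul (hs.getD i O.one) (evO O gens (f.xs.getD k [])))
          (O.mul (evO O gens (f.ys.getD k [])) (hs.getD i O.one))

/-- The list is strictly increasing. -/
def increasingB : List ℕ → Bool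
  | a :: b :: l => Nat.blt a b && increasingB (b :: l)
  | _ => true

/-- The expansion has at least `m` different members, shown by an increasing selection. -/
def manyB (p : ℕ) (gens idx : List ℕ) (m : ℕ) : Bool :=
  let E := expandO O p gens
  increasingB (idx.map fun i => O.mul (E.getD i O.one) O.one) && Nat.ble m idx.length &&
    idx.all fun i => Nat.blt i E.length

variable {O}

theorem evO_spec {gs : List ℕ} (hg : ∀ g ∈ gs, O.ok g = true) :
    ∀ w, O.ok (evO O gs w) = true ∧
      O.val (evO O gs w) = evW (fun i => O.val (gs.getD i O.one)) w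
  | [] => ⟨O.ok_one, by simp [evO, evW, O.val_one]⟩
  | i :: w => by
    obtain ⟨h1, h2⟩ := evO_spec hg w
    refine ⟨O.ok_mul _ _ (Bsgs.getD_ok O hg i) h1, ?_⟩
    rw [evO, O.val_mul _ _ (Bsgs.getD_ok O hg i) h1, h2]
    simp [evW]

theorem powO_spec {g : ℕ} (hg : O.ok g = true) :
    ∀ k, O.ok (powO O g k) = true ∧ O.val (powO O g k) = O.val g ^ k
  | 0 => ⟨O.ok_one, by rw [powO, O.val_one, pow_zero]⟩
  | k + 1 => by
    obtain ⟨h1, h2⟩ := powO_spec hg k
    exact ⟨O.ok_mul _ _ hg h1, by rw [powO, O.val_mul _ _ hg h1, h2, pow_succ']⟩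

theorem expandO_spec {p : ℕ} {K : Subgroup G₀} : ∀ {gs : List ℕ},
    (∀ g ∈ gs, O.ok g = true ∧ O.val g ∈ K) →
      ∀ e ∈ expandO O p gs, O.ok e = true ∧ O.val e ∈ K
  | [], _, e, he => by
    rw [expandO, List.mem_singleton] at he
    subst he
    exact ⟨O.ok_one, by rw [O.val_one]; exact one_mem K⟩
  | g :: gs, hg, e, he => by
    simp only [expandO, List.mem_flatMap, List.mem_map] at he
    obtain ⟨k, -, d, hd, rfl⟩ := he
    obtain ⟨h1, h2⟩ := expandO_spec (fun x hx => hg x (List.mem_cons_of_mem _ hx)) d hd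
    obtain ⟨h3, h4⟩ := powO_spec (hg g List.mem_cons_self).1 k
    refine ⟨O.ok_mul _ _ h3 h1, ?_⟩
    rw [O.val_mul _ _ h3 h1, h4]
    exact mul_mem (pow_mem (hg g List.mem_cons_self).2 k) h2

theorem increasingB_nodup : ∀ {l : List ℕ}, increasingB l = true → l.Nodup := by
  intro l h
  have hp : l.Pairwise (· < ·) := by
    induction l with
    | nil => exact List.Pairwise.nil
    | cons a l ih =>
      cases l with
      | nil => simp
      | cons b l =>
        simp only [increasingB, Bool.and_eq_true, Nat.blt_eq] at h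
        have h' := ih h.2
        refine List.pairwise_cons.2 ⟨fun x hx => ?_, h'⟩
        rcases List.mem_cons.1 hx with rfl | hx
        · exact h.1
        · exact h.1.trans ((List.pairwise_cons.1 h').1 x hx)
  exact hp.imp fun h => Nat.ne_of_lt h

/-- A lower bound for the order of the group generated by the codes. -/
theorem le_card_of_manyB [Finite G₀]
    (hinj : ∀ a b, O.ok a = true → O.ok b = true → O.val a = O.val b → O.mul a O.one = O.mul b O.one)
    {p m : ℕ} {gens idx : List ℕ} (h : manyB O p gens idx m = true) {K : Subgroup G₀}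
    (hg : ∀ g ∈ gens, O.ok g = true ∧ O.val g ∈ K) : m ≤ Nat.card K := by
  simp only [manyB, Bool.and_eq_true, Nat.ble_eq, List.all_eq_true, Nat.blt_eq] at h
  obtain ⟨⟨hinc, hlen⟩, hidx⟩ := h
  have hnd := increasingB_nodup hinc
  set E := expandO O p gens
  have hE : ∀ i : Fin idx.length, O.ok (E.getD idx[i] O.one) = true ∧ O.val (E.getD idx[i] O.one) ∈ K := by
    intro i
    show O.ok (E.getD idx[i.val] O.one) = true ∧ O.val (E.getD idx[i.val] O.one) ∈ K
    rw [List.getD_eq_getElem _ _ (hidx _ (List.getElem_mem i.isLt))]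
    exact expandO_spec hg _ (List.getElem_mem _)
  refine hlen.trans ?_
  rw [← Nat.card_fin idx.length]
  refine Nat.card_le_card_of_injective (fun i : Fin idx.length => (⟨_, (hE i).2⟩ : K)) fun i j e => ?_
  have e' := hinj _ _ (hE i).1 (hE j).1 (congrArg Subtype.val e)
  refine Fin.ext ?_
  have := hnd.getElem_inj_iff (i := i.val) (j := j.val) (hi := by simp) (hj := by simp)
  exact this.1 (by simpa using e')

/-- Realisation in a quotient of a group of coded elements. -/
theorem realised {H : Subgroup G₀} {Q : Type*} [Group Q] (π : ↥H →* Q) {c : Cert}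
    (hc : c.checkB = true) {Z gens hs : List ℕ}
    (hgens : ∀ g ∈ gens, O.val g ∈ H) (hhs : ∀ g ∈ hs, O.val g ∈ H)
    (hZ : ∀ z ∈ Z, ∃ hz : O.val z ∈ H, π ⟨O.val z, hz⟩ = 1)
    (h : relsB O Z gens c hs = true)
    (hP : ∀ g : ℕ → ↥H, (∀ i < gens.length, (g i : G₀) = O.val (gens.getD i O.one)) →
      c.p ^ c.n ≤ Nat.card (Subgroup.closure ((fun i => π (g i)) '' {k | k < c.n})))
    (hdiv : ¬ c.p ^ (c.n + 1) ∣ Nat.card Q) : c.Realised Q := by
  refine ⟨hc, ?_⟩
  simp only [relsB, Bool.and_eq_true, List.all_eq_true, decide_eq_true_eq, List.mem_range] at h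
  obtain ⟨⟨⟨⟨⟨⟨hgok, hhok⟩, hZok⟩, hlen⟩, hhlen⟩, hrel⟩, hfus⟩ := h
  let g : ℕ → ↥H := fun i =>
    if h : i < gens.length then ⟨O.val gens[i], hgens _ (List.getElem_mem h)⟩ else 1
  have hgi : ∀ i, (g i : G₀) = O.val (gens.getD i O.one) := fun i => by
    simp only [g]
    split_ifs with hi
    · rw [List.getD_eq_getElem _ _ hi]
    · rw [List.getD_eq_default _ _ (by omega), O.val_one]; rfl
  have hev : ∀ w, ((evW g w : ↥H) : G₀) = O.val (evO O gens w) := fun w => by
    rw [(evO_spec hgok w).2]
    show H.subtype (evW g w) = _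
    rw [map_evW]
    congr 1
    funext i
    exact hgi i
  have hup : ∀ {a b : ℕ} {x y : ↥H}, O.ok b = true → (x : G₀) = O.val a → (y : G₀) = O.val b →
      sameUpB O Z a b = true → π x = π y := by
    intro a b x y hb hx hy hs
    simp only [sameUpB, List.any_eq_true, beq_iff_eq] at hs
    obtain ⟨z, hz, rfl⟩ := hs
    obtain ⟨hzH, hz1⟩ := hZ z hz
    have e : x = y * ⟨O.val z, hzH⟩ := Subtype.ext (by
      rw [Subgroup.coe_mul, hx, hy, O.val_mul _ _ hb (hZok z hz)])
    rw [e, map_mul, hz1, mul_one]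
  have hπ : ∀ w, evW (fun i => π (g i)) w = π (evW g w) := fun w => (map_evW π g w).symm
  refine ⟨fun i => π (g i), fun r hr => ?_, fun f hf => ?_, hP g fun i _ => hgi i, hdiv⟩
  · rw [hπ, hπ]
    exact hup (evO_spec hgok _).1 (hev _) (hev _) (hrel r hr)
  · obtain ⟨i, hi, rfl⟩ := List.getElem_of_mem hf
    have hi' : i < hs.length := by omega
    refine ⟨π ⟨O.val hs[i], hhs _ (List.getElem_mem hi')⟩, fun k hk => ?_⟩
    have h1 := hfus i hi
    simp only [List.getD_eq_getElem _ _ hi, List.getD_eq_getElem _ _ hi'] at h1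
    rw [hπ, hπ, ← map_mul, ← map_mul]
    have ok1 := (evO_spec hgok ((c.fus[i]).ys.getD k [])).1
    have ok2 := hhok _ (List.getElem_mem hi')
    have ok3 := (evO_spec hgok ((c.fus[i]).xs.getD k [])).1
    refine hup (O.ok_mul _ _ ok1 ok2) ?_ ?_ (h1 k hk)
    · rw [Subgroup.coe_mul, hev, O.val_mul _ _ ok2 ok3]
    · rw [Subgroup.coe_mul, hev, O.val_mul _ _ ok1 ok2]

end CfsgLib.Schur.Tails.Coded
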