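import Cfsg.Agent.Lib.Tails.HSCheck
import Cfsg.Agent.Lib.Tails.Coded
import Cfsg.Agent.Lib.Tails.Combine
import Cfsg.Agent.Lib.Tails.PermCover
import Cfsg.Agent.Lib.Golay.HSSimple

/-!
# A perfect double cover of HS
-/

set_option autoImplicit false
set_option maxRecDepth 100000

namespace CfsgLib.Schur.Tails.HS

open CfsgLib.Golay CfsgLib.TailsData Subgroup
open scoped commutatorElement

/-- Triples of a permutation of the hundred points and one on each class with phases. -/
abbrev Amb : Type :=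
  Equiv.Perm (Fin 100) × Equiv.Perm (Fin 176 × ZMod 4) × Equiv.Perm (Fin 176 × ZMod 4)

/-- The coded permutations of the hundred points. -/
noncomputable abbrev ops : Bsgs.Ops (Equiv.Perm (Fin 100)) (Fin 100) := PermCover.ops 100 (by norm_num)

/-- A permutation with phases. -/
def mono {m : ℕ} (π : Equiv.Perm (Fin m)) (s : Fin m → ZMod 4) : Equiv.Perm (Fin m × ZMod 4) where
  toFun z := (π z.1, z.2 + s z.1)
  invFun z := (π.symm z.1, z.2 - s (π.symm z.1))
  left_inv z := by simp
  right_inv z := by simp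

/-- The permutation of a code. -/
noncomputable def permC (n A : ℕ) : Equiv.Perm (Fin n) := permOf (Equiv.refl (Fin n)) (PackPerm.toL n A)

theorem permC_apply {n A : ℕ} (h : PackPerm.okP n A = true) (x : Fin n) :
    (permC n A x).val = PackPerm.getP A x.val := by
  have e := permOf_apply (Equiv.refl (Fin n)) (PackPerm.validL_of_okP h) x
  simp only [Equiv.refl_apply] at e
  rw [permC, e, PackPerm.toL_getD _ x.isLt]

/-- The lift of a generator. -/
noncomputable def lift (i : ℕ) : Amb :=
  (permC 100 (baseC i),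
    mono (permC 176 (hsActsZero.getD i 0)) (fun x => (PackPerm.getP (hsPhaseZero.getD i 0) x.val : ZMod 4)),
    mono (permC 176 (hsActsOne.getD i 0)) (fun x => (PackPerm.getP (hsPhaseOne.getD i 0) x.val : ZMod 4)))

/-- The halvings are carried to one another. -/
def MaskRel (M : List ℕ) (g : Equiv.Perm (Fin 100)) (π : Fin 176 → Fin 176) : Prop :=
  ∀ x, ∃ b : Bool, ∀ i : Fin 100,
    (M.getD (π x).val 0).testBit (g i).val = xor b ((M.getD x.val 0).testBit i.val)

/-- A joined pair. -/
def Joined (x y : Fin 176) : Prop := (hsFlags.getD x.val 0).testBit y.val = true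

/-- The invariant of the cover. -/
def Good (g : Amb) : Prop :=
  ∃ (π ρ : Fin 176 → Fin 176) (s t : Fin 176 → ZMod 4),
    (∀ x k, g.2.1 (x, k) = (π x, k + s x)) ∧ (∀ y k, g.2.2 (y, k) = (ρ y, k + t y)) ∧
    MaskRel hsMasksZero g.1 π ∧ MaskRel hsMasksOne g.1 ρ ∧
    ∀ x y, Joined x y → Joined (π x) (ρ y) ∧
      (value (π x).val (ρ y).val : ZMod 4) + t y = (value x.val y.val : ZMod 4) + s x

theorem good_one : Good 1 :=
  ⟨id, id, 0, 0, fun x k => by simp, fun y k => by simp, fun x => ⟨false, fun i => by simp⟩,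
    fun x => ⟨false, fun i => by simp⟩, fun x y h => ⟨h, by simp⟩⟩

theorem MaskRel.mul {M : List ℕ} {g h : Equiv.Perm (Fin 100)} {π ρ : Fin 176 → Fin 176}
    (hg : MaskRel M g π) (hh : MaskRel M h ρ) : MaskRel M (g * h) (π ∘ ρ) := fun x => by
  obtain ⟨b, hb⟩ := hg (ρ x)
  obtain ⟨c, hc⟩ := hh x
  refine ⟨xor b c, fun i => ?_⟩
  rw [Function.comp_apply, Equiv.Perm.mul_apply, hb, hc]
  cases b <;> cases c <;> cases ((M.getD x.val 0).testBit i.val) <;> rfl

theorem good_mul {g h : Amb} (hg : Good g) (hh : Good h) : Good (g * h) := by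
  obtain ⟨π, ρ, s, t, e1, e2, m1, m2, hf⟩ := hg
  obtain ⟨π', ρ', s', t', e1', e2', m1', m2', hf'⟩ := hh
  refine ⟨π ∘ π', ρ ∘ ρ', fun x => s' x + s (π' x), fun y => t' y + t (ρ' y), fun x k => ?_,
    fun y k => ?_, m1.mul m1', m2.mul m2', fun x y hxy => ?_⟩
  · rw [Prod.snd_mul, Prod.fst_mul, Equiv.Perm.mul_apply, e1', e1, Function.comp_apply, add_assoc]
  · rw [Prod.snd_mul, Prod.snd_mul, Equiv.Perm.mul_apply, e2', e2, Function.comp_apply, add_assoc]
  · obtain ⟨j1, v1⟩ := hf' x y hxy
    obtain ⟨j2, v2⟩ := hf (π' x) (ρ' y) j1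
    refine ⟨j2, ?_⟩
    simp only [Function.comp_apply]
    linear_combination v1 + v2

theorem maskRel_of {M : List ℕ} {A P : ℕ} (hA : PackPerm.okP 100 A = true)
    (hP : PackPerm.okP 176 P = true) (h : maskB M A P = true) :
    MaskRel M (permC 100 A) (permC 176 P) := fun x => by
  simp only [maskB, halveB, List.all_eq_true, List.mem_range, beq_iff_eq] at h
  refine ⟨xor ((M.getD (PackPerm.getP P x.val) 0).testBit (PackPerm.getP A 0))
    ((M.getD x.val 0).testBit 0), fun i => ?_⟩
  rw [permC_apply hA, permC_apply hP]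
  exact h x.val x.isLt i.val i.isLt

theorem base_ok : hsBase.all (fun c => ops.ok c) = true ∧ hsBase.length = 2 := by
  constructor <;> decide +kernel

theorem baseC_ok {i : ℕ} (hi : i < 2) : PackPerm.okP 100 (baseC i) = true := by
  have h := base_ok.1
  rw [List.all_eq_true] at h
  have hi' : i < hsBase.length := by rw [base_ok.2]; exact hi
  rw [baseC, List.getD_eq_getElem _ _ hi']
  exact h _ (List.getElem_mem hi')

theorem good_lift {i : ℕ} (hi : i < 2) : Good (lift i) := by
  have hg : genB i = true := by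
    interval_cases i
    exacts [gen_checks.1, gen_checks.2]
  simp only [genB, Bool.and_eq_true] at hg
  obtain ⟨⟨⟨⟨h0, h1⟩, m0⟩, m1⟩, hf⟩ := hg
  refine ⟨permC 176 (hsActsZero.getD i 0), permC 176 (hsActsOne.getD i 0),
    fun x => (PackPerm.getP (hsPhaseZero.getD i 0) x.val : ZMod 4),
    fun y => (PackPerm.getP (hsPhaseOne.getD i 0) y.val : ZMod 4),
    fun x k => rfl, fun y k => rfl, maskRel_of (baseC_ok hi) h0 m0, maskRel_of (baseC_ok hi) h1 m1,
    fun x y hxy => ?_⟩
  simp only [flagsB, pairB, List.all_eq_true, List.mem_range, Bool.or_eq_true, Bool.not_eq_true',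
    Bool.and_eq_true, Nat.beq_eq] at hf
  rcases hf x.val x.isLt y.val y.isLt with h | ⟨ha, hb⟩
  · exact absurd hxy (by rw [Joined, h]; exact Bool.false_ne_true)
  · refine ⟨?_, ?_⟩
    · rw [Joined, permC_apply h0, permC_apply h1]; exact ha
    · rw [permC_apply h0, permC_apply h1]
      have e := congrArg (Nat.cast : ℕ → ZMod 4) hb
      rw [ZMod.natCast_mod, ZMod.natCast_mod, Nat.cast_add, Nat.cast_add] at e
      exact e

theorem masks_inj {M : List ℕ} (h : masksB M = true) {x y : Fin 176} {b : Bool}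
    (e : ∀ i : Fin 100, (M.getD x.val 0).testBit i.val = xor b ((M.getD y.val 0).testBit i.val)) :
    x = y := by
  simp only [masksB, Bool.and_eq_true, decide_eq_true_eq, List.all_eq_true, Nat.blt_eq] at h
  obtain ⟨⟨hnd, hlen⟩, hlt⟩ := h
  have hx : x.val < M.length := by rw [hlen]; exact x.isLt
  have hy : y.val < M.length := by rw [hlen]; exact y.isLt
  rw [List.getD_eq_getElem _ _ hx, List.getD_eq_getElem _ _ hy] at e
  have top : ∀ m ∈ M, ∀ j, 99 ≤ j → m.testBit j = false := fun m hm j hj =>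
    Nat.testBit_lt_two_pow ((hlt m hm).trans_le (Nat.pow_le_pow_right (by norm_num) hj))
  have hb : b = false := by
    have h99 := e ⟨99, by norm_num⟩
    rw [top _ (List.getElem_mem hx) 99 le_rfl, top _ (List.getElem_mem hy) 99 le_rfl] at h99
    cases b
    · rfl
    · exact absurd h99 (by decide)
  subst hb
  refine Fin.ext ((hnd.getElem_inj_iff (hi := hx) (hj := hy)).1 ?_)
  refine Nat.eq_of_testBit_eq fun j => ?_
  by_cases hj : j < 100
  · simpa using e ⟨j, hj⟩
  · rw [top _ (List.getElem_mem hx) j (by omega), top _ (List.getElem_mem hy) j (by omega)]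

/-- The cover before taking the derived group. -/
noncomputable def Big : Subgroup Amb := closure {g | ∃ i < 2, lift i = g}

theorem good_of_mem {g : Amb} (hg : g ∈ Big) : Good g := by
  refine Subgroup.closure_induction ?_ good_one (fun a b _ _ ha hb => good_mul ha hb)
    (fun a _ ha => ?_) hg
  · rintro _ ⟨i, hi, rfl⟩
    exact good_lift hi
  · have hp : ∀ k : ℕ, Good (a ^ k) := fun k => by
      induction k with
      | zero => rw [pow_zero]; exact good_one
      | succ k ih => rw [pow_succ]; exact good_mul ih ha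
    have e : a⁻¹ = a ^ (orderOf a - 1) := inv_eq_of_mul_eq_one_right (by
      rw [← pow_succ', Nat.sub_add_cancel (orderOf_pos a), pow_orderOf_eq_one])
    rw [e]
    exact hp _

/-- The map to the hundred points. -/
noncomputable def proj : ↥Big →* Equiv.Perm (Fin 100) :=
  (MonoidHom.fst _ _).comp Big.subtype

theorem ker_shift {g : ↥Big} (hg : proj g = 1) :
    ∃ c : ZMod 4, (∀ x k, g.1.2.1 (x, k) = (x, k + c)) ∧ ∀ y k, g.1.2.2 (y, k) = (y, k + c) := by
  obtain ⟨π, ρ, s, t, e1, e2, m1, m2, hf⟩ := good_of_mem g.2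
  have h1 : g.1.1 = 1 := hg
  obtain ⟨k0, k1, kl, -⟩ := shape_checks
  have hπ : ∀ x, π x = x := fun x => by
    obtain ⟨b, hb⟩ := m1 x
    refine masks_inj k0 (b := b) fun i => ?_
    have := hb i
    rwa [h1, Equiv.Perm.one_apply] at this
  have hρ : ∀ x, ρ x = x := fun x => by
    obtain ⟨b, hb⟩ := m2 x
    refine masks_inj k1 (b := b) fun i => ?_
    have := hb i
    rwa [h1, Equiv.Perm.one_apply] at this
  have hst : ∀ x y, Joined x y → s x = t y := fun x y hxy => by
    have h := (hf x y hxy).2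
    rw [hπ, hρ] at h
    exact (add_left_cancel h).symm
  simp only [linkB, List.all_eq_true, List.mem_range, Bool.and_eq_true, Nat.blt_eq] at kl
  have hs : ∀ x, s x = s 0 := fun x => by
    obtain ⟨⟨⟨⟨hy, -⟩, j1⟩, j2⟩, -⟩ := kl x.val x.isLt
    rw [hst x ⟨_, hy⟩ j1, hst 0 ⟨_, hy⟩ j2]
  have ht : ∀ y, t y = s 0 := fun y => by
    obtain ⟨⟨⟨⟨-, hz⟩, -⟩, -⟩, j⟩ := kl y.val y.isLt
    rw [← hst ⟨_, hz⟩ y j, hs]
  exact ⟨s 0, fun x k => by rw [e1, hπ, hs], fun y k => by rw [e2, hρ, ht]⟩

theorem ker_central : proj.ker ≤ center ↥Big := fun g hg => mem_center_iff.2 fun h => by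
  obtain ⟨c, c1, c2⟩ := ker_shift hg
  obtain ⟨π, ρ, s, t, e1, e2, -, -, -⟩ := good_of_mem h.2
  have h1 : g.1.1 = 1 := hg
  refine Subtype.ext (Prod.ext ?_ (Prod.ext ?_ ?_))
  · show h.1.1 * g.1.1 = g.1.1 * h.1.1
    rw [h1, mul_one, one_mul]
  · refine Equiv.ext fun ⟨x, k⟩ => ?_
    show h.1.2.1 (g.1.2.1 (x, k)) = g.1.2.1 (h.1.2.1 (x, k))
    rw [c1, e1, e1, c1, add_right_comm]
  · refine Equiv.ext fun ⟨x, k⟩ => ?_
    show h.1.2.2 (g.1.2.2 (x, k)) = g.1.2.2 (h.1.2.2 (x, k))
    rw [c2, e2, e2, c2, add_right_comm]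

theorem chain_checks : Bsgs.check ops [] hsLevels = true ∧
    (hsLevels.map fun l => l.reps.length).prod = 44352000 ∧
    Bsgs.slpCheck ops hsBase hsSlp = true ∧
    (Bsgs.allGens hsLevels).all (fun g => (hsBase ++ hsSlp.map (·.1)).contains g) = true ∧
    HS.autOk (PackPerm.toL 100 (baseC 0)) = true ∧ HS.autOk (PackPerm.toL 100 (baseC 1)) = true := by
  refine ⟨?_, ?_, ?_, ?_, ?_, ?_⟩ <;> decide +kernel

theorem order_checks : Coded.powO ops (baseC 0) 7 = ops.one ∧ Coded.powO ops (baseC 1) 5 = ops.one := by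
  constructor <;> decide +kernel

theorem base_mem {i : ℕ} (hi : i < 2) : permC 100 (baseC i) ∈ HS.hsGroup := by
  have hodd : ∀ k : ℕ, Odd k → Coded.powO ops (baseC i) k = ops.one →
      Equiv.Perm.sign (permC 100 (baseC i)) = 1 := fun k hk hp => by
    have e := (Coded.powO_spec (O := ops) (baseC_ok hi) k).2
    rw [hp, ops.val_one] at e
    have e2 := congrArg Equiv.Perm.sign e
    rw [map_one, map_pow] at e2
    rcases Int.units_eq_one_or (Equiv.Perm.sign (permC 100 (baseC i))) with h | h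
    · exact h
    · have h' : Equiv.Perm.sign (ops.val (baseC i)) = -1 := h
      rw [h', hk.neg_one_pow] at e2
      exact absurd e2 (by decide)
  refine HS.mem_hsGroup.2 ⟨HS.permOf_mem ?_, ?_⟩ <;> interval_cases i
  exacts [chain_checks.2.2.2.2.1, chain_checks.2.2.2.2.2, hodd 7 (by decide) order_checks.1,
    hodd 5 (by decide) order_checks.2]

theorem range_proj : proj.range = HS.hsGroup := by
  have hr : proj.range = closure {g | ∃ i < 2, permC 100 (baseC i) = g} := by
    rw [proj, MonoidHom.range_comp, Subgroup.range_subtype, Big, MonoidHom.map_closure]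
    congr 1
    ext g
    exact ⟨fun ⟨_, ⟨i, hi, e⟩, e'⟩ => ⟨i, hi, by rw [← e', ← e]; rfl⟩,
      fun ⟨i, hi, e⟩ => ⟨_, ⟨i, hi, rfl⟩, e⟩⟩
  have hle : proj.range ≤ HS.hsGroup := by
    rw [hr, closure_le]
    rintro _ ⟨i, hi, rfl⟩
    exact base_mem hi
  refine Subgroup.eq_of_le_of_card_ge hle ?_
  obtain ⟨hc, hprod, hslp, hall, -⟩ := chain_checks
  simp only [List.all_eq_true, List.contains_iff_mem] at hall
  rw [HS.card_hsGroup, ← hprod,
    ← (Bsgs.spec ops (fun f hf => absurd hf List.not_mem_nil) hc).2.2.2.1]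
  refine Subgroup.card_le_of_le (closure_le _ |>.2 ?_)
  rintro _ ⟨r, hr', rfl⟩
  refine (Bsgs.slp_sound ops proj.range hslp (fun c hcb => ?_) r (hall r hr')).2
  obtain ⟨i, hi, rfl⟩ := List.getElem_of_mem hcb
  have hi2 : i < 2 := base_ok.2 ▸ hi
  have e : baseC i = hsBase[i] := List.getD_eq_getElem _ _ hi
  refine ⟨e ▸ baseC_ok hi2, ?_⟩
  rw [hr]
  exact subset_closure ⟨i, hi2, congrArg (permC 100) e⟩

/-- The map onto the group. -/
noncomputable def toHS : ↥Big →* ↥HS.hsGroup :=
  (MulEquiv.subgroupCongr range_proj).toMonoidHom.comp proj.rangeRestrict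

theorem toHS_surjective : Function.Surjective toHS :=
  (MulEquiv.subgroupCongr range_proj).surjective.comp proj.rangeRestrict_surjective

theorem toHS_ker : toHS.ker ≤ center ↥Big := fun g hg => ker_central (congrArg Subtype.val hg)

theorem hs_perfect : commutator ↥HS.hsGroup = ⊤ := by
  have := HS.hs_simple
  refine (IsSimpleGroup.eq_bot_or_eq_top_of_normal (commutator ↥HS.hsGroup) inferInstance).resolve_left
    fun h => ?_
  have hc := (commutator_eq_bot_iff_center_eq_top _).1 h
  have hcomm : IsMulCommutative ↥HS.hsGroup :=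
    ⟨⟨fun a b => (mem_center_iff.1 (hc.ge (mem_top a)) b).symm⟩⟩
  have : (Nat.card ↥HS.hsGroup).Prime := by
    open scoped IsMulCommutative in exact IsSimpleGroup.prime_card
  rw [HS.card_hsGroup] at this
  norm_num at this

/-- A lift of a word. -/
noncomputable def word (w : List ℕ) : Amb := (w.map lift).prod

theorem word_mem {w : List ℕ} (h : ∀ i ∈ w, i < 2) : word w ∈ Big :=
  list_prod_mem fun g hg => by
    obtain ⟨i, hi, rfl⟩ := List.mem_map.1 hg
    exact subset_closure ⟨i, h i hi, rfl⟩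

theorem walk_spec {w : List ℕ} (h : ∀ i ∈ w, i < 2) (p : Fin 100) :
    ((word w).1 p).val = walk w p.val := by
  induction w with
  | nil => rfl
  | cons i w ih =>
    rw [word, List.map_cons, List.prod_cons, Prod.fst_mul, Equiv.Perm.mul_apply, ← word]
    show (permC 100 (baseC i) _).val = PackPerm.getP (baseC i) (walk w p.val)
    rw [permC_apply (baseC_ok (h i List.mem_cons_self)), ih fun j hj => h j (List.mem_cons_of_mem _ hj)]

theorem walkPh_spec {w : List ℕ} (h : ∀ i ∈ w, i < 2) (x : Fin 176) (k : ℕ) :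
    ((word w).2.1 (x, (k : ZMod 4))).1.val = (walkPh w (x.val, k)).1 ∧
      ((word w).2.1 (x, (k : ZMod 4))).2 = ((walkPh w (x.val, k)).2 : ZMod 4) := by
  induction w with
  | nil => exact ⟨rfl, rfl⟩
  | cons i w ih =>
    obtain ⟨ih1, ih2⟩ := ih fun j hj => h j (List.mem_cons_of_mem _ hj)
    have hok : PackPerm.okP 176 (hsActsZero.getD i 0) = true := by
      have hg : genB i = true := by
        have := h i List.mem_cons_self
        interval_cases i
        exacts [gen_checks.1, gen_checks.2]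
      simp only [genB, Bool.and_eq_true] at hg
      exact hg.1.1.1.1
    rw [word, List.map_cons, List.prod_cons, Prod.snd_mul, Prod.fst_mul, Equiv.Perm.mul_apply, ← word]
    show (permC 176 (hsActsZero.getD i 0) ((word w).2.1 (x, (k : ZMod 4))).1).val =
        PackPerm.getP (hsActsZero.getD i 0) (walkPh w (x.val, k)).1 ∧
      ((word w).2.1 (x, (k : ZMod 4))).2 +
          (PackPerm.getP (hsPhaseZero.getD i 0) ((word w).2.1 (x, (k : ZMod 4))).1.val : ZMod 4) =
        (((walkPh w (x.val, k)).2 + PackPerm.getP (hsPhaseZero.getD i 0) (walkPh w (x.val, k)).1 : ℕ) : ZMod 4)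
    rw [permC_apply hok, ih1, ih2, Nat.cast_add]
    exact ⟨rfl, rfl⟩

/-- The cover. -/
abbrev Cov : Type := ↥(commutator ↥Big)

/-- The covering map. -/
noncomputable def sigma : Cov →* ↥HS.hsGroup := toHS.comp (commutator ↥Big).subtype

theorem stem : Cfsg.IsStemExtension sigma := by
  have hperf := derived_perfect hs_perfect toHS_surjective toHS_ker
  refine ⟨fun g => ?_, fun x hx => mem_center_iff.2 fun y =>
    Subtype.ext (mem_center_iff.1 (toHS_ker (show toHS x.1 = 1 from hx)) y.1), le_top.trans hperf.ge⟩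
  obtain ⟨y, hy, e⟩ := (commutator_mul_ker hs_perfect toHS_surjective).ge (mem_top g)
  exact ⟨⟨y, hy⟩, e⟩

attribute [local irreducible] hsU hsV hsBase hsActsZero hsPhaseZero walk walkPh in
theorem ker_nontrivial : sigma.ker ≠ ⊥ := by
  obtain ⟨-, -, -, hw⟩ := shape_checks
  simp only [wordsB, Bool.and_eq_true, List.all_eq_true, Nat.blt_eq, List.mem_range, beq_iff_eq,
    Bool.not_eq_true', beq_eq_false_iff_ne, List.mem_append] at hw
  obtain ⟨⟨hlt, hpts⟩, hne⟩ := hw
  let U : ↥Big := ⟨word hsU, word_mem fun i hi => hlt i (Or.inl hi)⟩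
  let V : ↥Big := ⟨word hsV, word_mem fun i hi => hlt i (Or.inr hi)⟩
  have eUV : (U * V).1 = word (hsU ++ hsV) := by simp [U, V, word]
  have eVU : (V * U).1 = word (hsV ++ hsU) := by simp [U, V, word]
  have h1 : ∀ i ∈ hsU ++ hsV, i < 2 := fun i hi => hlt i (List.mem_append.1 hi)
  have h2 : ∀ i ∈ hsV ++ hsU, i < 2 := fun i hi => hlt i (List.mem_append.1 hi).symm
  have hlow : proj (U * V) = proj (V * U) := Equiv.ext fun p => Fin.ext (by
    show ((U * V).1.1 p).val = ((V * U).1.1 p).val
    rw [eUV, eVU, walk_spec h1, walk_spec h2, hpts p.val p.isLt])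
  have hhigh : U * V ≠ V * U := fun e => hne (by
    have a := (walkPh_spec h1 0 0).2
    have b := (walkPh_spec h2 0 0).2
    rw [← eUV, e, eVU, b] at a
    exact ((ZMod.natCast_eq_natCast_iff' _ _ 4).1 a).symm)
  intro hbot
  let z : Cov := ⟨⁅U, V⁆, commutator_mem_commutator (mem_top U) (mem_top V)⟩
  have hz : z ∈ sigma.ker := by
    refine Subtype.ext ?_
    show proj ⁅U, V⁆ = 1
    rw [map_commutatorElement, commutatorElement_eq_one_iff_mul_comm, ← map_mul, ← map_mul, hlow]
  rw [hbot, mem_bot] at hz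
  exact hhigh (commutatorElement_eq_one_iff_mul_comm.1 (congrArg Subtype.val hz))

end CfsgLib.Schur.Tails.HS
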