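import Cfsg.Agent.Lib.Tails.M24Data

/-!
# The checks of the certificates for M24
-/

set_option autoImplicit false
set_option maxRecDepth 100000

namespace CfsgLib.Schur.Tails

open Cfsg CfsgLib.Golay CfsgLib.MathieuOut CfsgLib.TailsData

set_option maxHeartbeats 4000000 in
theorem check_M24 : twoM24Cert.checkB = true ∧ threeM24Cert.checkB = true ∧
    Perm.realisedB [] twoM24Gens twoM24Cert twoM24Hs twoM24Steps twoM24Levels = true ∧
    Perm.realisedB [] threeM24Gens threeM24Cert threeM24Hs threeM24Steps threeM24Levels = true := by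
  refine ⟨?_, ?_, ?_, ?_⟩ <;> decide +kernel

end CfsgLib.Schur.Tails
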