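import Cfsg.Agent.Lib.Tails.M23Data
import Cfsg.Agent.Lib.Tails.M24Check
import Cfsg.Agent.Lib.MathieuOut.Groups

/-!
# The multipliers of M23 and M24
-/

set_option autoImplicit false
set_option maxRecDepth 100000

namespace CfsgLib.Schur.Tails

open Cfsg CfsgLib.Golay CfsgLib.MathieuOut CfsgLib.TailsData

theorem trivial_of_checks {Q : Type} [Group Q] [Finite Q]
    (h : ∀ p : ℕ, p.Prime → ∀ (E : Type) [Group E] [Finite E] (σ : E →* Q),
      Cfsg.IsStemExtension σ → ¬ p ∣ Nat.card σ.ker) :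
    Cfsg.HasCyclicSchurMultiplier Q 1 := by
  refine CfsgLib.Schur.hasCyclicSchurMultiplier_one fun Γ _ _ σ hσ => ?_
  rw [← MonoidHom.ker_eq_bot_iff, ← Subgroup.card_eq_one]
  by_contra hne
  obtain ⟨p, hp, hdvd⟩ := Nat.exists_prime_and_dvd hne
  exact h p hp Γ σ hσ hdvd

set_option maxHeartbeats 4000000 in
theorem check_M23 : twoM23Cert.checkB = true ∧ threeM23Cert.checkB = true ∧
    Perm.realisedB [8388608] twoM23Gens twoM23Cert twoM23Hs twoM23Steps twoM23Levels = true ∧
    Perm.realisedB [8388608] threeM23Gens threeM23Cert threeM23Hs threeM23Steps threeM23Levels = true := by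
  refine ⟨?_, ?_, ?_, ?_⟩ <;> decide +kernel

/-- A prime whose square divides the order is two or three. -/
theorem two_or_three {p N : ℕ} (hp : p.Prime) (a b M : ℕ) (hN : N = 2 ^ a * 3 ^ b * M)
    (hM : Squarefree M) (hsq : p ^ 2 ∣ N) : p = 2 ∨ p = 3 := by
  by_contra hcon
  push Not at hcon
  rw [hN] at hsq
  have h2 : Nat.Coprime (p ^ 2) (2 ^ a * 3 ^ b) := Nat.Coprime.mul_right
    (Nat.Coprime.pow 2 a ((Nat.coprime_primes hp Nat.prime_two).2 hcon.1))
    (Nat.Coprime.pow 2 b ((Nat.coprime_primes hp Nat.prime_three).2 hcon.2))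
  have h3 := h2.dvd_of_dvd_mul_left hsq
  exact hp.not_isUnit (hM p (by rwa [← pow_two]))

theorem squarefree_facts : Squarefree (5 * 7 * 11 * 23) ∧ Squarefree (5 * 11) := by
  refine ⟨?_, ?_⟩ <;>
  · rw [Nat.squarefree_iff_prime_squarefree]
    intro q hq h
    have hle := Nat.le_of_dvd (by norm_num) h
    have hq2 := hq.two_le
    have : q < 95 := by nlinarith
    interval_cases q <;> first | omega | norm_num at hq

theorem multiplier_M23 : Cfsg.HasCyclicSchurMultiplier ↥Cfsg.Spor.M23 1 := by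
  obtain ⟨h2, h3, r2, r3⟩ := check_M23
  refine trivial_of_checks fun p hp E _ _ σ hσ => ?_
  have := Fact.mk hp
  by_cases hsq : p ^ 2 ∣ Nat.card Cfsg.Spor.M23
  · rcases two_or_three hp 7 2 (5 * 7 * 11 * 23) (by rw [card_sporM23]; norm_num)
      squarefree_facts.1 hsq with rfl | rfl
    · have : Fact twoM23Cert.p.Prime := ⟨hp⟩
      exact (Perm.realised m23_cut h2 r2 (by rw [card_sporM23]; decide)).not_dvd rfl rfl rfl hσ
    · have : Fact threeM23Cert.p.Prime := ⟨hp⟩
      exact (Perm.realised m23_cut h3 r3 (by rw [card_sporM23]; decide)).not_dvd rfl rfl rfl hσ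
  · exact not_dvd_of_sq hσ hsq

theorem multiplier_M24 : Cfsg.HasCyclicSchurMultiplier ↥Cfsg.M24 1 := by
  obtain ⟨h2, h3, r2, r3⟩ := check_M24
  refine trivial_of_checks fun p hp E _ _ σ hσ => ?_
  have := Fact.mk hp
  by_cases hsq : p ^ 2 ∣ Nat.card Cfsg.M24
  · rcases two_or_three hp 10 3 (5 * 7 * 11 * 23) (by rw [card_M24]; norm_num)
      squarefree_facts.1 hsq with rfl | rfl
    · have : Fact twoM24Cert.p.Prime := ⟨hp⟩
      exact (Perm.realised m24_cut h2 r2 (by rw [card_M24]; decide)).not_dvd rfl rfl rfl hσ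
    · have : Fact threeM24Cert.p.Prime := ⟨hp⟩
      exact (Perm.realised m24_cut h3 r3 (by rw [card_M24]; decide)).not_dvd rfl rfl rfl hσ
  · exact not_dvd_of_sq hσ hsq

end CfsgLib.Schur.Tails
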