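import Cfsg.Agent.Lib.Tails.AltData
import Cfsg.Agent.Lib.Tails.Coded
import Cfsg.Agent.Lib.Tails.Combine
import Cfsg.Agent.Lib.Tails.PermCover

/-!
# The multiplier of an alternating group from certificates
-/

set_option autoImplicit false

namespace CfsgLib.Schur.Tails.Alt

open CfsgLib.Golay Subgroup Equiv

variable {n : ℕ} [NeZero n] (hn : n ≤ 256)

theorem mul_one_inj : ∀ a b, (PermCover.ops n hn).ok a = true → (PermCover.ops n hn).ok b = true →
    (PermCover.ops n hn).val a = (PermCover.ops n hn).val b →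
    (PermCover.ops n hn).mul a (PermCover.ops n hn).one =
      (PermCover.ops n hn).mul b (PermCover.ops n hn).one := by
  intro a b ha hb e
  have hv := PackPerm.validL_of_okP ha
  have hw := PackPerm.validL_of_okP hb
  show PackPerm.mulP n a _ = PackPerm.mulP n b _
  rw [PackPerm.mulP, PackPerm.mulP, PackPerm.mulAux_eq, PackPerm.mulAux_eq]
  congr 1
  refine List.map_congr_left fun i hi => ?_
  have hi' : i < n := by simpa using hi
  have hone : PackPerm.getP (PermCover.ops n hn).one i = i := by
    show PackPerm.getP (PackPerm.pack (List.range n)) i = i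
    rw [PackPerm.getP_pack fun a ha => lt_of_lt_of_le (List.mem_range.1 ha) hn,
      List.getD_eq_getElem _ _ (by simpa using hi')]
    simp
  simp only [hone]
  have h1 := permOf_apply (Equiv.refl (Fin n)) hv ⟨i, hi'⟩
  have h2 := permOf_apply (Equiv.refl (Fin n)) hw ⟨i, hi'⟩
  simp only [Equiv.refl_apply, PackPerm.toL_getD _ hi'] at h1 h2
  rw [← h1, ← h2]
  exact congrArg (fun g : Equiv.Perm (Fin n) => (g ⟨i, hi'⟩).val) e

/-- The data at one prime. -/
noncomputable def primeB (c : Cert) (gens hs base : List ℕ) (stp : List (ℕ × Bool × ℕ × ℕ))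
    (idx : List ℕ) : Bool :=
  let O := PermCover.ops n hn
  c.checkB && Coded.relsB O [O.one] gens c hs && Coded.manyB O c.p gens idx (c.p ^ c.n) &&
    Bsgs.slpCheck O base stp &&
    (base.all fun b => O.ok b && (O.mul b (O.mul b b) == O.one)) &&
    ((gens ++ hs).all fun g => (base ++ stp.map (·.1)).contains g)

theorem realised {c : Cert} {gens hs base idx : List ℕ} {stp : List (ℕ × Bool × ℕ × ℕ)}
    (h : primeB hn c gens hs base stp idx = true)
    (hdiv : ¬ c.p ^ (c.n + 1) ∣ Nat.card (alternatingGroup (Fin n))) :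
    c.Realised (alternatingGroup (Fin n)) := by
  simp only [primeB, Bool.and_eq_true, List.all_eq_true, List.contains_iff_mem, beq_iff_eq] at h
  obtain ⟨⟨⟨⟨⟨hc, hr⟩, hm⟩, hslp⟩, hbase⟩, hall⟩ := h
  set O := PermCover.ops n hn
  have hb : ∀ b ∈ base, O.ok b = true ∧ O.val b ∈ alternatingGroup (Fin n) := fun b hb => by
    obtain ⟨hok, h3⟩ := hbase b hb
    refine ⟨hok, Equiv.Perm.mem_alternatingGroup.2 ?_⟩
    have e := congrArg O.val h3
    rw [O.val_mul _ _ hok (O.ok_mul _ _ hok hok), O.val_mul _ _ hok hok, O.val_one] at e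
    have e2 := congrArg Perm.sign e
    rw [map_mul, map_mul, map_one] at e2
    rcases Int.units_eq_one_or (Perm.sign (O.val b)) with s | s
    · exact s
    · rw [s] at e2; simp at e2
  have hmem : ∀ g ∈ gens ++ hs, O.ok g = true ∧ O.val g ∈ alternatingGroup (Fin n) :=
    fun g hg => Bsgs.slp_sound O _ hslp hb g (hall g hg)
  refine Coded.realised (O := O) (MonoidHom.id _) hc
    (fun g hg => (hmem g (List.mem_append_left _ hg)).2)
    (fun g hg => (hmem g (List.mem_append_right _ hg)).2) (fun z hz => ?_) hr (fun g hg => ?_) hdiv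
  · rw [List.mem_singleton.1 hz]
    exact ⟨by rw [O.val_one]; exact one_mem _, Subtype.ext O.val_one⟩
  · show c.p ^ c.n ≤ Nat.card (Subgroup.closure (g '' {k | k < c.n}))
    rw [← Subgroup.card_map_of_injective (alternatingGroup (Fin n)).subtype_injective]
    refine Coded.le_card_of_manyB (mul_one_inj hn) hm fun x hx => ?_
    obtain ⟨i, hi, rfl⟩ := List.getElem_of_mem hx
    refine ⟨(hmem _ (List.mem_append_left _ (List.getElem_mem hi))).1, ⟨g i, ?_, ?_⟩⟩
    · have hlen : gens.length = c.n := by
        simp only [Coded.relsB, Bool.and_eq_true, decide_eq_true_eq] at hr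
        exact hr.1.1.1.2
      exact Subgroup.subset_closure ⟨i, show i < c.n by omega, rfl⟩
    · show (g i : Equiv.Perm (Fin n)) = _
      rw [hg i hi, List.getD_eq_getElem _ _ hi]

theorem card_alt : Nat.card (alternatingGroup (Fin n)) * 2 = n.factorial ∨ n < 2 := by
  rcases Nat.lt_or_ge n 2 with h | h
  · exact Or.inr h
  · have : Nontrivial (Fin n) := Fin.nontrivial_iff_two_le.2 h
    refine Or.inl ?_
    rw [mul_comm, Nat.card_eq_fintype_card, two_mul_card_alternatingGroup, Fintype.card_perm,
      Fintype.card_fin]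

/-- The alternating group is the group of a chain of the same order. -/
theorem low_mem (h2 : 2 ≤ n) {low levels : List Bsgs.Lvl}
    (hc : Bsgs.check (PermCover.ops n hn) [] low = true)
    (hsize : (low.map fun l => l.reps.length).prod * 2 = n.factorial)
    (hsub : (Bsgs.allGens levels).all (fun r =>
      (PermCover.lowC n r == (PermCover.ops n hn).one) || (Bsgs.allGens low).contains (PermCover.lowC n r))
        = true) :
    ∀ r ∈ Bsgs.allGens levels,
      permOf (Equiv.refl (Fin n)) (PackPerm.toL n (PermCover.lowC n r)) ∈ alternatingGroup (Fin n) := by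
  set O := PermCover.ops n hn
  obtain ⟨-, -, -, hcard, -⟩ := Bsgs.spec O (fun f hf => absurd hf List.not_mem_nil) hc
  have : Nontrivial (Fin n) := Fin.nontrivial_iff_two_le.2 h2
  have e : Bsgs.grp O low = alternatingGroup (Fin n) := by
    refine Perm.eq_alternatingGroup_of_index_eq_two ?_
    have h := (Bsgs.grp O low).card_mul_index
    rw [hcard, Nat.card_perm, Nat.card_fin, ← hsize] at h
    exact Nat.eq_of_mul_eq_mul_left (by
      rcases Nat.eq_zero_or_pos (low.map fun l => l.reps.length).prod with h0 | h0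
      · have := Nat.factorial_pos n; rw [h0] at hsize; omega
      · exact h0) h
  intro r hr
  simp only [List.all_eq_true, Bool.or_eq_true, beq_iff_eq, List.contains_iff_mem] at hsub
  rw [← e]
  rcases hsub r hr with h | h
  · show O.val (PermCover.lowC n r) ∈ _
    rw [h, O.val_one]
    exact one_mem _
  · exact Subgroup.subset_closure ⟨_, h, rfl⟩

/-- Kernels are cyclic of order dividing six. -/
theorem bound_six {G : Type*} [Group G] [Finite G] {E : Type*} [Group E] [Finite E] {σ : E →* G}
    (hσ : Cfsg.IsStemExtension σ) (h2 : ¬ 2 ^ 2 ∣ Nat.card σ.ker) (h3 : ¬ 3 ^ 2 ∣ Nat.card σ.ker)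
    (hne : ∀ p : ℕ, p.Prime → p ≠ 2 → p ≠ 3 → ¬ p ∣ Nat.card σ.ker) :
    IsCyclic σ.ker ∧ Nat.card σ.ker ∣ 6 := by
  have hdvd : Nat.card σ.ker ∣ 6 := by
    rw [Nat.dvd_iff_prime_pow_dvd_dvd]
    intro p k hp hpk
    rcases Nat.eq_zero_or_pos k with rfl | hk
    · simp
    have hk1 : p = 2 ∨ p = 3 := by
      by_contra hcon
      push Not at hcon
      exact hne p hp hcon.1 hcon.2 ((dvd_pow_self p hk.ne').trans hpk)
    have : k ≤ 1 := by
      by_contra hcon
      rcases hk1 with rfl | rfl
      exacts [h2 ((pow_dvd_pow 2 (by omega)).trans hpk), h3 ((pow_dvd_pow 3 (by omega)).trans hpk)]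
    refine (pow_dvd_pow p this).trans ?_
    rcases hk1 with rfl | rfl <;> norm_num
  have hsf : Squarefree (Nat.card σ.ker) :=
    Squarefree.squarefree_of_dvd hdvd (by
      rw [show (6 : ℕ) = 2 * 3 from rfl, Nat.squarefree_mul (by norm_num)]
      exact ⟨Nat.prime_two.squarefree, Nat.prime_three.squarefree⟩)
  have : IsMulCommutative σ.ker := ⟨⟨fun a b => Subtype.ext (Subgroup.mem_center_iff.1 (hσ.2.1 b.2) a.1)⟩⟩
  have : IsZGroup σ.ker := IsZGroup.of_squarefree hsf
  open scoped IsMulCommutative in
  exact ⟨inferInstance, hdvd⟩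

end CfsgLib.Schur.Tails.Alt
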