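import Cfsg.Agent.Lib.Tails.Vec
import Cfsg.Agent.Lib.Recognition.Suzuki.CoverKernel
import Cfsg.Prelude.Def_KGroupFacts

/-!
# Certificates bounding the kernels of stem extensions at one prime

The relations of a polycyclic presentation of a Sylow subgroup hold in a stem extension up to central
elements (the tails).  Overlaps of rewritings and conjugations inside the group give linear equations
between the tails; when these make the tails a coboundary the Sylow subgroup lifts to a complement of
the kernel.
-/

set_option autoImplicit false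

namespace CfsgLib.Schur.Tails

open scoped IsMulCommutative

/-- A conjugation between words: the images of the conjugated words, and rewritings of their relations. -/
structure Fus where
  /-- The words conjugated. -/
  xs : List (List ℕ)
  /-- The images. -/
  ys : List (List ℕ)
  /-- Relations among the words, each with rewritings for the words and for the images. -/
  rels : List (List ℕ × List ℕ × List Step × List Step)

/-- The certificate. -/
structure Cert where
  /-- The prime. -/
  p : ℕ
  /-- The modulus for the exponents: the prime or its square. -/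
  q : ℕ
  /-- The number of generators. -/
  n : ℕ
  /-- The relations. -/
  rels : List (List ℕ × List ℕ)
  /-- Words with two rewritings. -/
  overlaps : List (List ℕ × List Step × List Step)
  /-- The conjugations. -/
  fus : List Fus
  /-- The corrections of the lifts. -/
  mu : List (List ℕ)
  /-- For each relation, the combination of equations killing its corrected tail, and the multiple of
  the remaining class. -/
  combos : List (List (ℕ × ℕ) × ℕ)
  /-- The remaining class. -/
  tau : List ℕ
  /-- The combination killing the prime multiple of the remaining class. -/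
  tauCombo : List (ℕ × ℕ)

/-- Substitute words for letters. -/
def subW (xs : List (List ℕ)) : List ℕ → List ℕ
  | [] => []
  | i :: w => xs.getD i [] ++ subW xs w

/-- The equation of an overlap, if the rewritings agree. -/
def ovlEq (q : ℕ) (rels : List (List ℕ × List ℕ)) (o : List ℕ × List Step × List Step) :
    Option (List ℕ) :=
  match runW q rels o.2.1 (o.1, []), runW q rels o.2.2 (o.1, []) with
  | some a, some b => if a.1 = b.1 then some (subV q a.2 b.2) else none
  | _, _ => none

/-- The vector of the correction of a word. -/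
def lamV (q b : ℕ) (w : List ℕ) : List ℕ := wordV q (fun k => unitV (b + k)) w

/-- The equation of a conjugated relation, if the rewritings reach it. -/
def fusEq (q : ℕ) (rels : List (List ℕ × List ℕ)) (f : Fus) (b : ℕ)
    (e : List ℕ × List ℕ × List Step × List Step) : Option (List ℕ) :=
  match runW q rels e.2.2.1 (subW f.xs e.1, []), runW q rels e.2.2.2 (subW f.ys e.1, []) with
  | some x, some y =>
    if x.1 = subW f.xs e.2.1 ∧ y.1 = subW f.ys e.2.1 ∧
        (∀ k ∈ e.1 ++ e.2.1, k < f.xs.length) then
      some (subV q (addV q x.2 (lamV q b e.2.1)) (addV q y.2 (lamV q b e.1)))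
    else none
  | _, _ => none

/-- The equations of the conjugations, the corrections being numbered from the given index. -/
def fusEqs (q : ℕ) (rels : List (List ℕ × List ℕ)) : ℕ → List Fus → List (Option (List ℕ))
  | _, [] => []
  | b, f :: fs => f.rels.map (fusEq q rels f b) ++ fusEqs q rels (b + f.xs.length) fs

/-- All equations. -/
def Cert.eqs (c : Cert) : List (Option (List ℕ)) :=
  c.overlaps.map (ovlEq c.q c.rels) ++ fusEqs c.q c.rels c.rels.length c.fus

/-- The vector of a word under the corrections. -/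
def Cert.muV (c : Cert) (w : List ℕ) : List ℕ := wordV c.q (fun i => c.mu.getD i []) w

/-- The shape of a polycyclic presentation. -/
def Cert.shapeB (c : Cert) : Bool :=
  (List.range c.n).all fun i =>
    (c.rels.any fun r => (r.1 == List.replicate c.p i) &&
      r.2.all fun k => decide (i < k) && decide (k < c.n)) &&
    (List.range c.n).all fun j => decide (j ≤ i) ||
      c.rels.any fun r => (r.1 == [i, j]) && (r.2.getLast? == some i) &&
        r.2.dropLast.all fun k => decide (i < k) && decide (k < c.n)

/-- The check of the certificate. -/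
def Cert.checkB (c : Cert) : Bool :=
  let eqs := c.eqs
  let vs := eqs.map fun e => e.getD []
  (c.q == c.p || c.q == c.p * c.p) && eqs.all Option.isSome && c.shapeB &&
    sameB c.q (smulV c.q c.p c.tau) (combV c.q vs c.tauCombo) &&
    (c.combos.length == c.rels.length) &&
    (List.range c.rels.length).all fun r =>
      let e := c.combos.getD r ([], 0)
      sameB c.q (subV c.q (addV c.q (unitV r) (c.muV (c.rels.getD r ([], [])).1))
        (c.muV (c.rels.getD r ([], [])).2)) (addV c.q (combV c.q vs e.1) (smulV c.q e.2 c.tau))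

variable {E : Type*} [Group E]

theorem evW_subW (s : ℕ → E) (xs : List (List ℕ)) :
    ∀ w, evW s (subW xs w) = evW (fun k => evW s (xs.getD k [])) w
  | [] => rfl
  | i :: w => by
    rw [subW, evW_append, evW_subW s xs w]
    simp [evW]

theorem evW_cons {M : Type*} [Monoid M] (s : ℕ → M) (i : ℕ) (w : List ℕ) :
    evW s (i :: w) = s i * evW s w := by simp [evW]

theorem evW_mul_central (s : ℕ → E) (z : ℕ → Subgroup.center E) :
    ∀ w, evW (fun i => s i * (z i : E)) w =
      evW s w * (((w.map z).prod : Subgroup.center E) : E)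
  | [] => by simp [evW]
  | i :: w => by
    rw [evW_cons, evW_cons, evW_mul_central s z w, List.map_cons, List.prod_cons, Subgroup.coe_mul,
      mul_assoc, ← mul_assoc (z i : E), ← Subgroup.mem_center_iff.1 (z i).2 (evW s w)]
    simp only [mul_assoc]

/-- The conjugations hold up to the given central elements. -/
def FusHolds (s : ℕ → E) (t : ℕ → Subgroup.center E) : ℕ → List Fus → Prop
  | _, [] => True
  | b, f :: fs => (∃ h : E, ∀ k < f.xs.length,
      h * evW s (f.xs.getD k []) = evW s (f.ys.getD k []) * (t (b + k) : E) * h) ∧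
      FusHolds s t (b + f.xs.length) fs

variable {G : Type*} [Group G]

theorem exists_fusHolds {σ : E →* G} (hs : Function.Surjective σ) (hc : σ.ker ≤ Subgroup.center E)
    (s : ℕ → E) :
    ∀ (fs : List Fus) (b : ℕ) (t : ℕ → Subgroup.center E), (∀ i, (t i : E) ∈ σ.ker) →
      (∀ f ∈ fs, ∃ h : G, ∀ k < f.xs.length,
        h * σ (evW s (f.xs.getD k [])) = σ (evW s (f.ys.getD k [])) * h) →
      ∃ t' : ℕ → Subgroup.center E, (∀ i, (t' i : E) ∈ σ.ker) ∧ (∀ i < b, t' i = t i) ∧
        FusHolds s t' b fs
  | [], b, t, ht, _ => ⟨t, ht, fun _ _ => rfl, trivial⟩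
  | f :: fs, b, t, ht, hf => by
    obtain ⟨h, hh⟩ := hf f List.mem_cons_self
    obtain ⟨h', rfl⟩ := hs h
    let lam : ℕ → E := fun k => (evW s (f.ys.getD k []))⁻¹ * (h' * evW s (f.xs.getD k []) * h'⁻¹)
    have hl : ∀ k < f.xs.length, lam k ∈ σ.ker := fun k hk => by
      simp only [MonoidHom.mem_ker, lam, map_mul, map_inv, hh k hk]
      group
    classical
    let t1 : ℕ → Subgroup.center E := fun i =>
      if hi : b ≤ i ∧ i - b < f.xs.length then ⟨lam (i - b), hc (hl _ hi.2)⟩ else t i
    have ht1 : ∀ i, (t1 i : E) ∈ σ.ker := fun i => by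
      simp only [t1]
      split_ifs with hi
      · exact hl _ hi.2
      · exact ht i
    obtain ⟨t', ht', hagree, hrest⟩ := exists_fusHolds hs hc s fs (b + f.xs.length) t1 ht1
      fun g hg => hf g (List.mem_cons_of_mem _ hg)
    refine ⟨t', ht', fun i hi => ?_, ⟨h', fun k hk => ?_⟩, hrest⟩
    · rw [hagree i (by omega)]
      simp only [t1]
      rw [dif_neg (by omega)]
    · rw [hagree (b + k) (by omega)]
      simp only [t1]
      rw [dif_pos ⟨by omega, by omega⟩]
      simp only [Nat.add_sub_cancel_left, lam]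
      group

theorem evV_mem_ker {σ : E →* G} : ∀ {t : ℕ → Subgroup.center E}, (∀ i, (t i : E) ∈ σ.ker) →
    ∀ v, ((evV t v : Subgroup.center E) : E) ∈ σ.ker
  | t, _, [] => by simp [evV]
  | t, ht, a :: v => by
    rw [evV, Subgroup.coe_mul, Subgroup.coe_pow]
    exact mul_mem (pow_mem (ht 0) a) (evV_mem_ker (fun i => ht (i + 1)) v)

variable {q : ℕ} {rels : List (List ℕ × List ℕ)} {s : ℕ → E} {t : ℕ → Subgroup.center E}

theorem ovlEq_spec (hq : 1 ≤ q) (ht : ∀ i, t i ^ q = 1)
    (hrel : ∀ r < rels.length,
      evW s (rels.getD r ([], [])).1 = evW s (rels.getD r ([], [])).2 * (t r : E))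
    {o : List ℕ × List Step × List Step} {v : List ℕ} (h : ovlEq q rels o = some v) :
    evV t v = 1 := by
  unfold ovlEq at h
  split at h
  · rename_i a b ha hb
    split at h
    · rename_i hab
      rw [Option.some.injEq] at h
      subst h
      have e := (runW_spec hq ht hrel ha).symm.trans (runW_spec hq ht hrel hb)
      simp only [evX, hab, mul_right_inj] at e
      rw [evV_subV ht hq, mul_inv_eq_one]
      exact Subtype.ext e
    · exact absurd h (by simp)
  · exact absurd h (by simp)

theorem fusEq_spec (hq : 1 ≤ q) (ht : ∀ i, t i ^ q = 1)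
    (hrel : ∀ r < rels.length,
      evW s (rels.getD r ([], [])).1 = evW s (rels.getD r ([], [])).2 * (t r : E))
    {f : Fus} {b : ℕ} {h' : E} (hh : ∀ k < f.xs.length,
      h' * evW s (f.xs.getD k []) = evW s (f.ys.getD k []) * (t (b + k) : E) * h')
    {e : List ℕ × List ℕ × List Step × List Step} {v : List ℕ}
    (h : fusEq q rels f b e = some v) : evV t v = 1 := by
  unfold fusEq at h
  split at h
  · rename_i x y hx hy
    split at h
    · rename_i hxy
      obtain ⟨hx1, hy1, hk⟩ := hxy
      rw [Option.some.injEq] at h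
      subst h
      have ex := runW_spec hq ht hrel hx
      have ey := runW_spec hq ht hrel hy
      simp only [evX, hx1, hy1, evV, Subgroup.coe_one, mul_one, evW_subW] at ex ey
      have hconj : ∀ w : List ℕ, (∀ k ∈ w, k < f.xs.length) →
          h' * evW (fun k => evW s (f.xs.getD k [])) w * h'⁻¹ =
            evW (fun k => evW s (f.ys.getD k [])) w *
              (((evV t (lamV q b w)) : Subgroup.center E) : E) := by
        intro w hw
        rw [lamV, evV_wordV ht, ← evW_mul_central]
        induction w with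
        | nil => simp [evW]
        | cons i w ih =>
          simp only [evV_unitV] at ih ⊢
          rw [evW_cons, evW_cons, ← ih fun k hk' => hw k (List.mem_cons_of_mem _ hk'),
            show evW s (f.ys.getD i []) * (t (b + i) : E) =
              h' * evW s (f.xs.getD i []) * h'⁻¹ from
              (eq_mul_inv_of_mul_eq (hh i (hw i List.mem_cons_self)).symm)]
          group
      have e1 := hconj e.1 fun k hk' => hk k (List.mem_append_left _ hk')
      have e2 := hconj e.2.1 fun k hk' => hk k (List.mem_append_right _ hk')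
      rw [ex, ey] at e1
      have hz : ∀ (z : Subgroup.center E) (g : E), g * (z : E) = (z : E) * g := fun z g =>
        Subgroup.mem_center_iff.1 z.2 g
      rw [← mul_assoc, mul_assoc (h' * _) ((evV t x.2 : Subgroup.center E) : E), ← hz (evV t x.2) h'⁻¹, ← mul_assoc, e2,
        mul_assoc, mul_assoc, mul_right_inj, ← Subgroup.coe_mul, ← Subgroup.coe_mul] at e1
      rw [evV_subV ht hq, evV_addV ht, evV_addV ht, mul_inv_eq_one, mul_comm (evV t x.2)]
      exact Subtype.ext e1
    · exact absurd h (by simp)
  · exact absurd h (by simp)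

theorem fusEqs_spec (hq : 1 ≤ q) (ht : ∀ i, t i ^ q = 1)
    (hrel : ∀ r < rels.length,
      evW s (rels.getD r ([], [])).1 = evW s (rels.getD r ([], [])).2 * (t r : E)) :
    ∀ (fs : List Fus) (b : ℕ), FusHolds s t b fs →
      ∀ e ∈ fusEqs q rels b fs, ∀ v, e = some v → evV t v = 1
  | [], _, _, e, he => absurd he List.not_mem_nil
  | f :: fs, b, ⟨⟨h', hh⟩, hrest⟩, e, he => by
    intro v hv
    rw [fusEqs, List.mem_append] at he
    rcases he with he | he
    · obtain ⟨r, -, rfl⟩ := List.mem_map.1 he
      exact fusEq_spec hq ht hrel hh hv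
    · exact fusEqs_spec hq ht hrel fs _ hrest e he v hv

/-- A closure of generators satisfying polycyclic relations has at most `p ^ (number)` elements. -/
theorem card_closure_le [Finite E] {p : ℕ} (hp : p.Prime) {n : ℕ} (u : ℕ → E)
    (hpow : ∀ i < n, u i ^ p ∈ Subgroup.closure (u '' {k | i < k ∧ k < n}))
    (hcomm : ∀ i < n, ∀ j < n, i < j →
      u i * u j * (u i)⁻¹ ∈ Subgroup.closure (u '' {k | i < k ∧ k < n})) :
    ∀ m, m ≤ n → Nat.card (Subgroup.closure (u '' {k | n - m ≤ k ∧ k < n})) ≤ p ^ m
  | 0, _ => by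
    have : {k | n ≤ k ∧ k < n} = (∅ : Set ℕ) := by
      ext k; simp only [Set.mem_ofPred_eq, Set.mem_empty_iff_false, iff_false]; omega
    simp [this]
  | m + 1, hm => by
    have ih := card_closure_le hp u hpow hcomm m (by omega)
    set i := n - (m + 1) with hi
    have hset : {k | n - m ≤ k ∧ k < n} = {k | i < k ∧ k < n} := by
      ext k; simp only [Set.mem_ofPred_eq]; omega
    rw [hset] at ih
    set C := Subgroup.closure (u '' {k | i < k ∧ k < n}) with hC
    set D := Subgroup.closure (u '' {k | i ≤ k ∧ k < n}) with hD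
    have hCD : C ≤ D := Subgroup.closure_mono (Set.image_mono fun k hk => ⟨hk.1.le, hk.2⟩)
    have hiD : u i ∈ D := Subgroup.subset_closure ⟨i, ⟨le_rfl, by omega⟩, rfl⟩
    have hn : u i ∈ Subgroup.normalizer (C : Set E) := by
      have hmap : C.map (MulAut.conj (u i)).toMonoidHom ≤ C := by
        rw [hC, MonoidHom.map_closure, Subgroup.closure_le]
        rintro _ ⟨_, ⟨k, hk, rfl⟩, rfl⟩
        exact hcomm i (by omega) k hk.2 hk.1
      have heq : C.map (MulAut.conj (u i)).toMonoidHom = C :=
        Subgroup.eq_of_le_of_card_ge hmap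
          (Subgroup.card_map_of_injective (MulAut.conj (u i)).injective).ge
      rw [Subgroup.mem_normalizer_iff]
      intro w
      constructor
      · intro hw
        rw [← heq]
        exact ⟨w, hw, rfl⟩
      · intro hw
        rw [← heq] at hw
        obtain ⟨v, hv, e⟩ := hw
        have : v = w := (MulAut.conj (u i)).injective e
        exact this ▸ hv
    have hDn : D ≤ Subgroup.normalizer (C : Set E) := by
      rw [hD, Subgroup.closure_le]
      rintro _ ⟨k, hk, rfl⟩
      rcases Nat.lt_or_ge i k with h | h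
      · exact Subgroup.le_normalizer (Subgroup.subset_closure ⟨k, ⟨h, hk.2⟩, rfl⟩)
      · rw [show k = i by have := hk.1; omega]; exact hn
    let Q : Subgroup D := C.subgroupOf D
    have : Q.Normal := (Subgroup.normal_subgroupOf_iff_le_normalizer hCD).mpr hDn
    let x : D ⧸ Q := QuotientGroup.mk' Q ⟨u i, hiD⟩
    have hxp : x ^ p = 1 := by
      rw [← map_pow]
      exact (QuotientGroup.eq_one_iff (N := Q) _).mpr
        (Subgroup.mem_subgroupOf.mpr (hpow i (by omega)))
    have htop : Subgroup.zpowers x = ⊤ := by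
      rw [eq_top_iff]
      rintro y -
      obtain ⟨⟨y, hy⟩, rfl⟩ := QuotientGroup.mk'_surjective Q y
      suffices h : ∀ y (hy : y ∈ D), QuotientGroup.mk' Q ⟨y, hy⟩ ∈ Subgroup.zpowers x from h y hy
      intro y hy
      induction hy using Subgroup.closure_induction with
      | mem z hz =>
        obtain ⟨k, hk, rfl⟩ := hz
        rcases Nat.lt_or_ge i k with h | h
        · rw [show QuotientGroup.mk' Q ⟨u k, _⟩ = 1 from (QuotientGroup.eq_one_iff (N := Q) _).mpr
            (Subgroup.mem_subgroupOf.mpr (Subgroup.subset_closure ⟨k, ⟨h, hk.2⟩, rfl⟩))]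
          exact one_mem _
        · obtain rfl : k = i := by have := hk.1; omega
          exact Subgroup.mem_zpowers x
      | one => exact (map_one (QuotientGroup.mk' Q)).symm ▸ one_mem _
      | mul a b ha hb i1 i2 =>
        have e : QuotientGroup.mk' Q (⟨a, ha⟩ * ⟨b, hb⟩ : D) ∈ Subgroup.zpowers x := by
          rw [map_mul]; exact mul_mem i1 i2
        exact e
      | inv a ha i1 =>
        have e : QuotientGroup.mk' Q (⟨a, ha⟩⁻¹ : D) ∈ Subgroup.zpowers x := by
          rw [map_inv]; exact inv_mem i1
        exact e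
    have hidx : Q.index ≤ p := by
      rw [Subgroup.index_eq_card, ← Subgroup.card_top, ← htop, Nat.card_zpowers]
      exact Nat.le_of_dvd hp.pos (orderOf_dvd_of_pow_eq_one hxp)
    have hset' : {k | n - (m + 1) ≤ k ∧ k < n} = {k | i ≤ k ∧ k < n} := rfl
    rw [← Q.card_mul_index,
      Nat.card_congr (Subgroup.subgroupOfEquivOfLe hCD).toEquiv, pow_succ]
    exact Nat.mul_le_mul ih hidx

theorem evW_mem {M : Type*} [Group M] {u : ℕ → M} {n i : ℕ} : ∀ {w : List ℕ},
    (∀ k ∈ w, i < k ∧ k < n) → evW u w ∈ Subgroup.closure (u '' {k | i < k ∧ k < n})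
  | [], _ => by simp [evW]
  | k :: w, h => by
    rw [evW_cons]
    exact mul_mem (Subgroup.subset_closure ⟨k, h k List.mem_cons_self, rfl⟩)
      (evW_mem fun j hj => h j (List.mem_cons_of_mem _ hj))

/-- Exact relations give a complement, so the kernel is trivial. -/
theorem ker_eq_bot_of_exact [Finite E] [Finite G] {p : ℕ} [hp : Fact p.Prime] {n : ℕ} {σ : E →* G}
    (hσ : Cfsg.IsStemExtension σ) (hA : IsPGroup p σ.ker)
    {rels : List (List ℕ × List ℕ)} (u : ℕ → E)
    (hex : ∀ r ∈ rels, evW u r.1 = evW u r.2)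
    (hshape : ∀ i < n,
      (∃ r ∈ rels, r.1 = List.replicate p i ∧ ∀ k ∈ r.2, i < k ∧ k < n) ∧
      ∀ j < n, i < j → ∃ r ∈ rels, r.1 = [i, j] ∧ r.2.getLast? = some i ∧
        ∀ k ∈ r.2.dropLast, i < k ∧ k < n)
    (hP : p ^ n ≤ Nat.card (Subgroup.closure ((fun i => σ (u i)) '' {k | k < n})))
    (hG : ¬ p ^ (n + 1) ∣ Nat.card G) : σ.ker = ⊥ := by
  set B := Subgroup.closure (u '' {k | k < n}) with hB
  have hB' : B.map σ = Subgroup.closure ((fun i => σ (u i)) '' {k | k < n}) := by
    rw [hB, MonoidHom.map_closure, Set.image_image]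
  have hle : Nat.card B ≤ p ^ n := by
    have h := card_closure_le hp.out (n := n) u (fun i hi => ?_) (fun i hi j hj hij => ?_) n le_rfl
    · simpa using h
    · obtain ⟨⟨r, hr, e1, e2⟩, -⟩ := hshape i hi
      have e := hex r hr
      rw [e1] at e
      simp only [evW, List.map_replicate, List.prod_replicate] at e
      rw [e]
      exact evW_mem e2
    · obtain ⟨r, hr, e1, e2, e3⟩ := (hshape i hi).2 j hj hij
      have e := hex r hr
      have hr2 : r.2 = r.2.dropLast ++ [i] := (List.dropLast_append_getLast? i e2).symm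
      rw [e1, hr2, evW_append] at e
      simp only [evW, List.map_cons, List.map_nil, List.prod_cons, List.prod_nil, mul_one] at e
      have e' : u i * u j * (u i)⁻¹ = evW u r.2.dropLast := by
        rw [mul_inv_eq_iff_eq_mul]; simpa [evW] using e
      rw [e']
      exact evW_mem e3
  rw [← hB'] at hP
  have hmapdvd : Nat.card (B.map σ) ∣ Nat.card B := Subgroup.card_map_dvd B σ
  have heq : Nat.card (B.map σ) = Nat.card B :=
    le_antisymm (Nat.le_of_dvd Nat.card_pos hmapdvd) (le_trans hle hP)
  have hPc : Nat.card (B.map σ) = p ^ n := le_antisymm (heq ▸ hle) hP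
  have hinj : Function.Injective (σ.subgroupMap B) :=
    ((σ.subgroupMap_surjective B).bijective_of_nat_card_le heq.ge).1
  have hdisj : B ⊓ σ.ker = ⊥ := by
    rw [eq_bot_iff]
    rintro x ⟨hxB, hxk⟩
    have h : σ.subgroupMap B ⟨x, hxB⟩ = σ.subgroupMap B 1 := by
      rw [map_one]; exact Subtype.ext hxk
    exact congrArg Subtype.val (hinj h)
  refine CfsgLib.Recognition.CoverKernel.eq_bot_of_complement (p := p) hσ.2.1 hσ.2.2 hA
    (U := (B.map σ).comap σ) (B := B) ?_ (fun x hx => ?_) (Subgroup.le_comap_map _ _) hdisj ?_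
  · rw [Subgroup.index_comap_of_surjective _ hσ.1]
    intro h
    have h2 := mul_dvd_mul_left (p ^ n) h
    have h3 : p ^ n * (B.map σ).index = Nat.card G := by rw [← hPc, Subgroup.card_mul_index]
    rw [← pow_succ, h3] at h2
    exact hG h2
  · rw [Subgroup.mem_comap, MonoidHom.mem_ker.1 hx]
    exact one_mem _
  · rw [Subgroup.comap_map_eq, sup_comm]

/-- The bound given by a certificate. -/
theorem Cert.kill [Finite E] [Finite G] (c : Cert) (hc : c.checkB = true) [hp : Fact c.p.Prime]
    (σ : E →* G) (hσ : Cfsg.IsStemExtension σ) (hker : ∀ z ∈ σ.ker, z ^ c.q = 1) (g : ℕ → G)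
    (hrel : ∀ r ∈ c.rels, evW g r.1 = evW g r.2)
    (hfus : ∀ f ∈ c.fus, ∃ h : G, ∀ k < f.xs.length,
      h * evW g (f.xs.getD k []) = evW g (f.ys.getD k []) * h)
    (hP : c.p ^ c.n ≤ Nat.card (Subgroup.closure (g '' {k | k < c.n})))
    (hG : ¬ c.p ^ (c.n + 1) ∣ Nat.card G) :
    ∃ τ ∈ σ.ker, τ ^ c.p = 1 ∧ σ.ker ≤ Subgroup.zpowers τ ∧ (c.tau = [] → τ = 1) := by
  simp only [Cert.checkB, Bool.and_eq_true, Bool.or_eq_true, beq_iff_eq, List.all_eq_true] at hc
  obtain ⟨⟨⟨⟨⟨hqp, hsome⟩, hshape⟩, htau⟩, -⟩, hcomb⟩ := hc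
  have hq : 1 ≤ c.q := by
    rcases hqp with h | h <;> rw [h]
    · exact hp.out.one_le
    · exact Nat.one_le_iff_ne_zero.2 (Nat.mul_ne_zero hp.out.ne_zero hp.out.ne_zero)
  choose lift hlift using hσ.1
  let s : ℕ → E := fun i => lift (g i)
  have hsg : ∀ w, σ (evW s w) = evW g w := fun w => by
    rw [map_evW]
    simp only [s, hlift]
  classical
  let t0 : ℕ → Subgroup.center E := fun r =>
    if h : r < c.rels.length then
      ⟨(evW s (c.rels.getD r ([], [])).2)⁻¹ * evW s (c.rels.getD r ([], [])).1, hσ.2.1 (by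
        have hm : c.rels.getD r ([], []) ∈ c.rels := by
          rw [List.getD_eq_getElem _ _ h]; exact List.getElem_mem h
        rw [MonoidHom.mem_ker, map_mul, map_inv, hsg, hsg, hrel _ hm, inv_mul_cancel])⟩
    else 1
  have ht0 : ∀ i, (t0 i : E) ∈ σ.ker := fun i => by
    simp only [t0]
    split_ifs with h
    · have hm : c.rels.getD i ([], []) ∈ c.rels := by
        rw [List.getD_eq_getElem _ _ h]; exact List.getElem_mem h
      rw [MonoidHom.mem_ker, map_mul, map_inv, hsg, hsg, hrel _ hm, inv_mul_cancel]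
    · exact one_mem _
  obtain ⟨t, htk, hagree, hfh⟩ := exists_fusHolds hσ.1 hσ.2.1 s c.fus c.rels.length t0 ht0
    fun f hf => by
      obtain ⟨h, hh⟩ := hfus f hf
      exact ⟨h, fun k hk => by rw [hsg, hsg]; exact hh k hk⟩
  have ht : ∀ i, t i ^ c.q = 1 := fun i => Subtype.ext (by
    rw [Subgroup.coe_pow]; exact hker _ (htk i))
  have htrel : ∀ r < c.rels.length,
      evW s (c.rels.getD r ([], [])).1 = evW s (c.rels.getD r ([], [])).2 * (t r : E) := fun r hr => by
    rw [hagree r hr]
    simp only [t0, dif_pos hr, mul_inv_cancel_left]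
  have hvs : ∀ e ∈ c.eqs.map (fun e => e.getD []), evV t e = 1 := by
    intro e he
    obtain ⟨o, ho, rfl⟩ := List.mem_map.1 he
    obtain ⟨v, rfl⟩ := Option.isSome_iff_exists.1 (hsome o ho)
    rw [Option.getD_some]
    rw [Cert.eqs, List.mem_append] at ho
    rcases ho with ho | ho
    · obtain ⟨x, -, hx⟩ := List.mem_map.1 ho
      exact ovlEq_spec hq ht htrel hx
    · exact fusEqs_spec hq ht htrel _ _ hfh _ ho v rfl
  let τc : Subgroup.center E := evV t c.tau
  have hτk : (τc : E) ∈ σ.ker := evV_mem_ker htk _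
  have hτp : τc ^ c.p = 1 := by
    rw [← evV_smulV ht, evV_sameB ht hq htau, evV_combV ht hvs]
  let τ : E := τc
  let N := Subgroup.zpowers τ
  have hNk : N ≤ σ.ker := Subgroup.zpowers_le.2 hτk
  refine ⟨τ, hτk, by rw [← Subgroup.coe_pow, hτp, Subgroup.coe_one], ?_, fun h => ?_⟩
  swap
  · show ((evV t c.tau : Subgroup.center E) : E) = 1
    rw [h]; rfl
  have hNc : N ≤ Subgroup.center E := hNk.trans hσ.2.1
  have : N.Normal := ⟨fun a ha x => by
    rwa [Subgroup.mem_center_iff.1 (hNc ha) x, mul_inv_cancel_right]⟩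
  let π : E →* E ⧸ N := QuotientGroup.mk' N
  have hπ : Function.Surjective π := QuotientGroup.mk'_surjective N
  let σ' : E ⧸ N →* G := QuotientGroup.lift N σ hNk
  have hσπ : ∀ x, σ' (π x) = σ x := fun x => rfl
  have hker' : σ'.ker = σ.ker.map π := QuotientGroup.ker_lift N σ hNk
  have hσ' : Cfsg.IsStemExtension σ' := by
    refine ⟨fun y => ?_, ?_, ?_⟩
    · obtain ⟨x, hx⟩ := hσ.1 y
      exact ⟨π x, hx⟩
    · rw [hker']
      rintro _ ⟨x, hx, rfl⟩
      refine Subgroup.mem_center_iff.2 fun y => ?_
      obtain ⟨y, rfl⟩ := hπ y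
      rw [← map_mul, ← map_mul, Subgroup.mem_center_iff.1 (hσ.2.1 hx) y]
    · rw [hker']
      refine (Subgroup.map_mono hσ.2.2).trans ?_
      rw [commutator_def, commutator_def, Subgroup.map_commutator]
      exact Subgroup.commutator_mono le_top le_top
  have hA : IsPGroup c.p σ'.ker := by
    rintro ⟨x, hx⟩
    rw [hker'] at hx
    obtain ⟨z, hz, rfl⟩ := hx
    rcases hqp with h | h
    · refine ⟨1, Subtype.ext ?_⟩
      rw [pow_one, Subgroup.coe_pow, ← map_pow, ← h, hker z hz, map_one, Subgroup.coe_one]
    · refine ⟨2, Subtype.ext ?_⟩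
      rw [pow_two, Subgroup.coe_pow, ← map_pow, ← h, hker z hz, map_one, Subgroup.coe_one]
  let z : ℕ → Subgroup.center E := fun i => evV t (c.mu.getD i [])
  let u : ℕ → E ⧸ N := fun i => π (s i * (z i : E))
  have hu : ∀ w, evW u w = π (evW s w * ((evV t (c.muV w) : Subgroup.center E) : E)) := fun w => by
    rw [show u = fun i => π ((fun j => s j * (z j : E)) i) from rfl, ← map_evW π, evW_mul_central,
      Cert.muV, evV_wordV ht]
  have hex : ∀ r ∈ c.rels, evW u r.1 = evW u r.2 := by
    intro r hr
    obtain ⟨k, hk, rfl⟩ := List.getElem_of_mem hr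
    have e := htrel k hk
    rw [List.getD_eq_getElem _ _ hk] at e
    have h := evV_sameB ht hq (hcomb k (List.mem_range.2 hk))
    rw [evV_subV ht hq, evV_addV ht, evV_addV ht, evV_combV ht hvs, evV_smulV ht, evV_unitV, one_mul,
      List.getD_eq_getElem _ _ hk, mul_inv_eq_iff_eq_mul] at h
    rw [hu, hu, e, mul_assoc, ← Subgroup.coe_mul, h, Subgroup.coe_mul, Subgroup.coe_pow]
    have h2 : π ((τc : E) ^ (c.combos.getD k ([], 0)).2) = 1 :=
      (QuotientGroup.eq_one_iff (N := N) _).2 (pow_mem (Subgroup.mem_zpowers τ) _)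
    rw [map_mul, map_mul, map_mul, h2, one_mul]
  have hbot := ker_eq_bot_of_exact (p := c.p) (n := c.n) hσ' hA u hex
    (fun i hi => by
      have h := hshape
      simp only [Cert.shapeB, List.all_eq_true, Bool.and_eq_true, List.any_eq_true, Bool.or_eq_true,
        beq_iff_eq, decide_eq_true_eq, List.mem_range] at h
      obtain ⟨⟨r, hr, e1, e2⟩, h2⟩ := h i hi
      refine ⟨⟨r, hr, e1, e2⟩, fun j hj hij => ?_⟩
      obtain ⟨r, hr, ⟨e1, e2⟩, e3⟩ := (h2 j hj).resolve_left (by omega)
      exact ⟨r, hr, e1, e2, e3⟩)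
    (by
      have himg : (fun i => σ' (u i)) '' {k | k < c.n} = g '' {k | k < c.n} :=
        Set.image_congr fun i _ => show σ' (u i) = g i from ?_
      · rw [himg]; exact hP
      show σ (s i * (z i : E)) = g i
      rw [map_mul, MonoidHom.mem_ker.1 (evV_mem_ker htk _), mul_one]
      exact hlift _)
    hG
  intro x hx
  have h : π x ∈ σ'.ker := by rw [hker']; exact ⟨x, hx, rfl⟩
  rw [hbot, Subgroup.mem_bot] at h
  exact (QuotientGroup.eq_one_iff (N := N) x).1 h

end CfsgLib.Schur.Tails
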