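import Cfsg.Agent.Lib.Tails.Finish

/-!
# Certificates leaving a cyclic class

The modulus is one power of the prime above the order allowed for the remaining class.
-/

set_option autoImplicit false

namespace CfsgLib.Schur.Tails

open scoped IsMulCommutative

/-- A certificate whose remaining class has order dividing the given power of the prime. -/
structure CyclicCert where
  /-- The data. -/
  base : Cert
  /-- The exponent. -/
  e : ℕ

/-- The check of the certificate. -/
def CyclicCert.checkB (d : CyclicCert) : Bool :=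
  let c := d.base
  let eqs := c.eqs
  let vs := eqs.map fun e => e.getD []
  (c.q == c.p ^ (d.e + 1)) && eqs.all Option.isSome && c.shapeB &&
    sameB c.q (smulV c.q (c.p ^ d.e) c.tau) (combV c.q vs c.tauCombo) &&
    (c.combos.length == c.rels.length) &&
    (List.range c.rels.length).all fun r =>
      let e := c.combos.getD r ([], 0)
      sameB c.q (subV c.q (addV c.q (unitV r) (c.muV (c.rels.getD r ([], [])).1))
        (c.muV (c.rels.getD r ([], [])).2)) (addV c.q (combV c.q vs e.1) (smulV c.q e.2 c.tau))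

variable {E : Type*} [Group E] {G : Type*} [Group G]

/-- The bound given by a certificate. -/
theorem kill_cyclic [Finite E] [Finite G] (d : CyclicCert) (hc : d.checkB = true) [hp : Fact d.base.p.Prime]
    (σ : E →* G) (hσ : Cfsg.IsStemExtension σ) (hker : ∀ z ∈ σ.ker, z ^ d.base.q = 1) (g : ℕ → G)
    (hrel : ∀ r ∈ d.base.rels, evW g r.1 = evW g r.2)
    (hfus : ∀ f ∈ d.base.fus, ∃ h : G, ∀ k < f.xs.length,
      h * evW g (f.xs.getD k []) = evW g (f.ys.getD k []) * h)
    (hP : d.base.p ^ d.base.n ≤ Nat.card (Subgroup.closure (g '' {k | k < d.base.n})))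
    (hG : ¬ d.base.p ^ (d.base.n + 1) ∣ Nat.card G) :
    ∃ τ ∈ σ.ker, τ ^ (d.base.p ^ d.e) = 1 ∧ σ.ker ≤ Subgroup.zpowers τ := by
  set c := d.base with hcdef
  simp only [CyclicCert.checkB, ← hcdef, Bool.and_eq_true, beq_iff_eq, List.all_eq_true] at hc
  obtain ⟨⟨⟨⟨⟨hqp, hsome⟩, hshape⟩, htau⟩, -⟩, hcomb⟩ := hc
  have hq : 1 ≤ c.q := by
    rw [hqp]
    exact Nat.one_le_pow _ _ hp.out.pos
  choose lift hlift using hσ.1
  let s : ℕ → E := fun i => lift (g i)
  have hsg : ∀ w, σ (evW s w) = evW g w := fun w => by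
    rw [map_evW]
    simp only [s, hlift]
  classical
  let t0 : ℕ → Subgroup.center E := fun r =>
    if h : r < c.rels.length then
      ⟨(evW s (c.rels.getD r ([], [])).2)⁻¹ * evW s (c.rels.getD r ([], [])).1, hσ.2.1 (by
        have hm : c.rels.getD r ([], []) ∈ c.rels := by
          rw [List.getD_eq_getElem _ _ h]; exact List.getElem_mem h
        rw [MonoidHom.mem_ker, map_mul, map_inv, hsg, hsg, hrel _ hm, inv_mul_cancel])⟩
    else 1
  have ht0 : ∀ i, (t0 i : E) ∈ σ.ker := fun i => by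
    simp only [t0]
    split_ifs with h
    · have hm : c.rels.getD i ([], []) ∈ c.rels := by
        rw [List.getD_eq_getElem _ _ h]; exact List.getElem_mem h
      rw [MonoidHom.mem_ker, map_mul, map_inv, hsg, hsg, hrel _ hm, inv_mul_cancel]
    · exact one_mem _
  obtain ⟨t, htk, hagree, hfh⟩ := exists_fusHolds hσ.1 hσ.2.1 s c.fus c.rels.length t0 ht0
    fun f hf => by
      obtain ⟨h, hh⟩ := hfus f hf
      exact ⟨h, fun k hk => by rw [hsg, hsg]; exact hh k hk⟩
  have ht : ∀ i, t i ^ c.q = 1 := fun i => Subtype.ext (by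
    rw [Subgroup.coe_pow]; exact hker _ (htk i))
  have htrel : ∀ r < c.rels.length,
      evW s (c.rels.getD r ([], [])).1 = evW s (c.rels.getD r ([], [])).2 * (t r : E) := fun r hr => by
    rw [hagree r hr]
    simp only [t0, dif_pos hr, mul_inv_cancel_left]
  have hvs : ∀ e ∈ c.eqs.map (fun e => e.getD []), evV t e = 1 := by
    intro e he
    obtain ⟨o, ho, rfl⟩ := List.mem_map.1 he
    obtain ⟨v, rfl⟩ := Option.isSome_iff_exists.1 (hsome o ho)
    rw [Option.getD_some]
    rw [Cert.eqs, List.mem_append] at ho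
    rcases ho with ho | ho
    · obtain ⟨x, -, hx⟩ := List.mem_map.1 ho
      exact ovlEq_spec hq ht htrel hx
    · exact fusEqs_spec hq ht htrel _ _ hfh _ ho v rfl
  let τc : Subgroup.center E := evV t c.tau
  have hτk : (τc : E) ∈ σ.ker := evV_mem_ker htk _
  have hτp : τc ^ (c.p ^ d.e) = 1 := by
    rw [← evV_smulV ht, evV_sameB ht hq htau, evV_combV ht hvs]
  let τ : E := τc
  let N := Subgroup.zpowers τ
  have hNk : N ≤ σ.ker := Subgroup.zpowers_le.2 hτk
  refine ⟨τ, hτk, by rw [← Subgroup.coe_pow, hτp, Subgroup.coe_one], ?_⟩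
  have hNc : N ≤ Subgroup.center E := hNk.trans hσ.2.1
  have : N.Normal := ⟨fun a ha x => by
    rwa [Subgroup.mem_center_iff.1 (hNc ha) x, mul_inv_cancel_right]⟩
  let π : E →* E ⧸ N := QuotientGroup.mk' N
  have hπ : Function.Surjective π := QuotientGroup.mk'_surjective N
  let σ' : E ⧸ N →* G := QuotientGroup.lift N σ hNk
  have hσπ : ∀ x, σ' (π x) = σ x := fun x => rfl
  have hker' : σ'.ker = σ.ker.map π := QuotientGroup.ker_lift N σ hNk
  have hσ' : Cfsg.IsStemExtension σ' := by
    refine ⟨fun y => ?_, ?_, ?_⟩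
    · obtain ⟨x, hx⟩ := hσ.1 y
      exact ⟨π x, hx⟩
    · rw [hker']
      rintro _ ⟨x, hx, rfl⟩
      refine Subgroup.mem_center_iff.2 fun y => ?_
      obtain ⟨y, rfl⟩ := hπ y
      rw [← map_mul, ← map_mul, Subgroup.mem_center_iff.1 (hσ.2.1 hx) y]
    · rw [hker']
      refine (Subgroup.map_mono hσ.2.2).trans ?_
      rw [commutator_def, commutator_def, Subgroup.map_commutator]
      exact Subgroup.commutator_mono le_top le_top
  have hA : IsPGroup c.p σ'.ker := by
    rintro ⟨x, hx⟩
    rw [hker'] at hx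
    obtain ⟨z, hz, rfl⟩ := hx
    refine ⟨d.e + 1, Subtype.ext ?_⟩
    rw [Subgroup.coe_pow, ← map_pow, ← hqp, hker z hz, map_one, Subgroup.coe_one]
  let z : ℕ → Subgroup.center E := fun i => evV t (c.mu.getD i [])
  let u : ℕ → E ⧸ N := fun i => π (s i * (z i : E))
  have hu : ∀ w, evW u w = π (evW s w * ((evV t (c.muV w) : Subgroup.center E) : E)) := fun w => by
    rw [show u = fun i => π ((fun j => s j * (z j : E)) i) from rfl, ← map_evW π, evW_mul_central,
      Cert.muV, evV_wordV ht]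
  have hex : ∀ r ∈ c.rels, evW u r.1 = evW u r.2 := by
    intro r hr
    obtain ⟨k, hk, rfl⟩ := List.getElem_of_mem hr
    have e := htrel k hk
    rw [List.getD_eq_getElem _ _ hk] at e
    have h := evV_sameB ht hq (hcomb k (List.mem_range.2 hk))
    rw [evV_subV ht hq, evV_addV ht, evV_addV ht, evV_combV ht hvs, evV_smulV ht, evV_unitV, one_mul,
      List.getD_eq_getElem _ _ hk, mul_inv_eq_iff_eq_mul] at h
    rw [hu, hu, e, mul_assoc, ← Subgroup.coe_mul, h, Subgroup.coe_mul, Subgroup.coe_pow]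
    have h2 : π (((evV t c.tau : Subgroup.center E) : E) ^ (c.combos.getD k ([], 0)).2) = 1 :=
      (QuotientGroup.eq_one_iff (N := N) _).2
        (pow_mem (Subgroup.mem_zpowers τ) _)
    simp only [map_mul, h2, one_mul]
  have hbot := ker_eq_bot_of_exact (p := c.p) (n := c.n) hσ' hA u hex
    (fun i hi => by
      have h := hshape
      simp only [Cert.shapeB, List.all_eq_true, Bool.and_eq_true, List.any_eq_true, Bool.or_eq_true,
        beq_iff_eq, decide_eq_true_eq, List.mem_range] at h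
      obtain ⟨⟨r, hr, e1, e2⟩, h2⟩ := h i hi
      refine ⟨⟨r, hr, e1, e2⟩, fun j hj hij => ?_⟩
      obtain ⟨r, hr, ⟨e1, e2⟩, e3⟩ := (h2 j hj).resolve_left (by omega)
      exact ⟨r, hr, e1, e2, e3⟩)
    (by
      have himg : (fun i => σ' (u i)) '' {k | k < c.n} = g '' {k | k < c.n} :=
        Set.image_congr fun i _ => show σ' (u i) = g i from ?_
      · rw [himg]; exact hP
      show σ (s i * (z i : E)) = g i
      rw [map_mul, MonoidHom.mem_ker.1 (evV_mem_ker htk _), mul_one]
      exact hlift _)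
    hG
  intro x hx
  have h : π x ∈ σ'.ker := by rw [hker']; exact ⟨x, hx, rfl⟩
  rw [hbot, Subgroup.mem_bot] at h
  exact (QuotientGroup.eq_one_iff (N := N) x).1 h

/-- The hypotheses needed from the group for a certificate with a cyclic class. -/
structure CyclicCert.Realised (d : CyclicCert) (G : Type*) [Group G] : Prop where
  ok : d.checkB = true
  exists_gens : ∃ g : ℕ → G, (∀ r ∈ d.base.rels, evW g r.1 = evW g r.2) ∧
    (∀ f ∈ d.base.fus, ∃ h : G, ∀ k < f.xs.length,
      h * evW g (f.xs.getD k []) = evW g (f.ys.getD k []) * h) ∧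
    d.base.p ^ d.base.n ≤ Nat.card (Subgroup.closure (g '' {k | k < d.base.n})) ∧
    ¬ d.base.p ^ (d.base.n + 1) ∣ Nat.card G

/-- The kernel is generated by one element and the powers of the modulus, and the power of the prime
above the exponent does not divide its order. -/
theorem CyclicCert.Realised.bound [Finite E] [Finite G] {d : CyclicCert} (hd : d.Realised G)
    [hp : Fact d.base.p.Prime] {σ : E →* G} (hσ : Cfsg.IsStemExtension σ) :
    ¬ d.base.p ^ (d.e + 1) ∣ Nat.card σ.ker ∧
      ∃ a : σ.ker, ∀ x : σ.ker, ∃ (k : ℤ) (y : σ.ker), x = a ^ k * y ^ d.base.q := by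
  obtain ⟨g, hrel, hfus, hP, hG⟩ := hd.exists_gens
  have hqp : d.base.q = d.base.p ^ (d.e + 1) := by
    have h := hd.ok
    simp only [CyclicCert.checkB, Bool.and_eq_true, beq_iff_eq] at h
    exact h.1.1.1.1.1
  have := kerPow_normal hσ.2.1 d.base.q
  let N := kerPow hσ.2.1 d.base.q
  have hσ' := isStem_quotient hσ N (kerPow_le _ _)
  have hker' := QuotientGroup.ker_lift N σ (kerPow_le hσ.2.1 d.base.q)
  have hexp : ∀ z ∈ (QuotientGroup.lift N σ (kerPow_le _ _)).ker, z ^ d.base.q = 1 := by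
    intro z hz
    rw [hker'] at hz
    obtain ⟨x, hx, rfl⟩ := hz
    rw [← map_pow]
    exact (QuotientGroup.eq_one_iff (N := N) _).2 ⟨x, hx, rfl⟩
  obtain ⟨τ, hτk, hτ, hle⟩ := kill_cyclic d hd.ok _ hσ' hexp g hrel hfus hP hG
  refine ⟨fun hdvd => ?_, ?_⟩
  · obtain ⟨K, hK⟩ := Sylow.exists_subgroup_card_pow_prime d.base.p hdvd
    have h := card_powers_le hσ.2.1 d.base.q (K.map σ.ker.subtype) (Subgroup.map_subtype_le K)
      fun x hx => by
        obtain ⟨y, hy, rfl⟩ := hx
        have h1 : (⟨y, hy⟩ : K) ^ (d.base.p ^ (d.e + 1)) = 1 := hK ▸ pow_card_eq_one'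
        rw [hqp, ← map_pow, show y ^ (d.base.p ^ (d.e + 1)) = 1 from congrArg Subtype.val h1, map_one]
    rw [← hker', Subgroup.card_map_of_injective σ.ker.subtype_injective, hK] at h
    have h2 := Subgroup.card_le_of_le hle
    rw [Nat.card_zpowers] at h2
    have h3 := (h.trans h2).trans (Nat.le_of_dvd (pow_pos hp.out.pos _) (orderOf_dvd_of_pow_eq_one hτ))
    exact absurd h3 (not_le.2 (Nat.pow_lt_pow_right hp.out.one_lt (Nat.lt_succ_self _)))
  · rw [hker'] at hτk
    obtain ⟨a, ha, ea⟩ := hτk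
    refine ⟨⟨a, ha⟩, fun x => ?_⟩
    obtain ⟨k, hk⟩ := Subgroup.mem_zpowers_iff.1 (hle (hker' ▸ ⟨x.1, x.2, rfl⟩ :
      QuotientGroup.mk' N x.1 ∈ (QuotientGroup.lift N σ (kerPow_le hσ.2.1 d.base.q)).ker))
    rw [← ea, ← map_zpow] at hk
    obtain ⟨y, hy, e⟩ := (QuotientGroup.eq (s := N)).1 hk
    refine ⟨k, ⟨y, hy⟩, Subtype.ext ?_⟩
    show x.1 = a ^ k * y ^ d.base.q
    rw [e, mul_inv_cancel_left]

end CfsgLib.Schur.Tails
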