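import Cfsg.Agent.Lib.Tails.Finish

/-!
# Certificates leaving several classes of given exponents

The equations show that, modulo the kernel raised to the modulus, the kernel is generated by the listed
classes, each of the stated exponent.
-/

set_option autoImplicit false

namespace CfsgLib.Schur.Tails

open scoped IsMulCommutative

/-- A certificate with any number of remaining classes. -/
structure MultiCert where
  /-- The data; its own class is unused. -/
  base : Cert
  /-- The modulus as an exponent of the prime. -/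
  e : ℕ
  /-- The classes, with exponents and the combinations killing those multiples. -/
  taus : List (List ℕ × ℕ × List (ℕ × ℕ))
  /-- For each relation, the multiples of the classes. -/
  mults : List (List ℕ)

/-- A combination of classes. -/
def linV (q : ℕ) : List (List ℕ) → List ℕ → List ℕ
  | [], _ => []
  | t :: ts, ms => addV q (smulV q (ms.headD 0) t) (linV q ts ms.tail)

/-- The conditions on the classes and the relations, the equations being given. -/
def MultiCert.restB (d : MultiCert) (vs : List (List ℕ)) : Bool :=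
  let c := d.base
  (c.q == c.p ^ d.e) && c.shapeB &&
    (d.taus.all fun t => sameB c.q (smulV c.q t.2.1 t.1) (combV c.q vs t.2.2)) &&
    (List.range c.rels.length).all fun r =>
      let e := c.combos.getD r ([], 0)
      sameB c.q (subV c.q (addV c.q (unitV r) (c.muV (c.rels.getD r ([], [])).1))
        (c.muV (c.rels.getD r ([], [])).2))
        (addV c.q (combV c.q vs e.1) (linV c.q (d.taus.map Prod.fst) (d.mults.getD r [])))

/-- The check of the certificate. -/
def MultiCert.checkB (d : MultiCert) : Bool :=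
  let eqs := d.base.eqs
  eqs.all Option.isSome && d.restB (eqs.map fun e => e.getD [])

variable {E : Type*} [Group E] {G : Type*} [Group G]

theorem evV_linV_mem {q : ℕ} {t : ℕ → Subgroup.center E} (ht : ∀ i, t i ^ q = 1)
    {N : Subgroup E} : ∀ (ts : List (List ℕ)), (∀ v ∈ ts, ((evV t v : Subgroup.center E) : E) ∈ N) →
      ∀ ms, ((evV t (linV q ts ms) : Subgroup.center E) : E) ∈ N
  | [], _, _ => by simp [linV, evV]
  | v :: ts, h, ms => by
    rw [linV, evV_addV ht, evV_smulV ht, Subgroup.coe_mul, Subgroup.coe_pow]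
    exact mul_mem (pow_mem (h v List.mem_cons_self) _)
      (evV_linV_mem ht ts (fun w hw => h w (List.mem_cons_of_mem _ hw)) _)

/-- The bound given by a certificate. -/
theorem kill_multi [Finite E] [Finite G] (d : MultiCert) (hc : d.checkB = true) [hp : Fact d.base.p.Prime]
    (σ : E →* G) (hσ : Cfsg.IsStemExtension σ) (hker : ∀ z ∈ σ.ker, z ^ d.base.q = 1) (g : ℕ → G)
    (hrel : ∀ r ∈ d.base.rels, evW g r.1 = evW g r.2)
    (hfus : ∀ f ∈ d.base.fus, ∃ h : G, ∀ k < f.xs.length,
      h * evW g (f.xs.getD k []) = evW g (f.ys.getD k []) * h)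
    (hP : d.base.p ^ d.base.n ≤ Nat.card (Subgroup.closure (g '' {k | k < d.base.n})))
    (hG : ¬ d.base.p ^ (d.base.n + 1) ∣ Nat.card G) :
    ∃ f : ℕ → E, (∀ i, f i ∈ σ.ker) ∧ (∀ i < d.taus.length, f i ^ (d.taus.getD i ([], 0, [])).2.1 = 1) ∧
      σ.ker ≤ Subgroup.closure (f '' {i | i < d.taus.length}) := by
  set c := d.base with hcdef
  simp only [MultiCert.checkB, MultiCert.restB, ← hcdef, Bool.and_eq_true, beq_iff_eq, List.all_eq_true] at hc
  obtain ⟨hsome, ⟨⟨hqp, hshape⟩, htau⟩, hcomb⟩ := hc
  have hq : 1 ≤ c.q := hqp ▸ Nat.one_le_pow _ _ hp.out.pos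
  set vs := c.eqs.map fun e => e.getD [] with hvseq
  choose lift hlift using hσ.1
  let s : ℕ → E := fun i => lift (g i)
  have hsg : ∀ w, σ (evW s w) = evW g w := fun w => by
    rw [map_evW]
    simp only [s, hlift]
  classical
  let t0 : ℕ → Subgroup.center E := fun r =>
    if h : r < c.rels.length then
      ⟨(evW s (c.rels.getD r ([], [])).2)⁻¹ * evW s (c.rels.getD r ([], [])).1, hσ.2.1 (by
        have hm : c.rels.getD r ([], []) ∈ c.rels := by
          rw [List.getD_eq_getElem _ _ h]; exact List.getElem_mem h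
        rw [MonoidHom.mem_ker, map_mul, map_inv, hsg, hsg, hrel _ hm, inv_mul_cancel])⟩
    else 1
  have ht0 : ∀ i, (t0 i : E) ∈ σ.ker := fun i => by
    simp only [t0]
    split_ifs with h
    · have hm : c.rels.getD i ([], []) ∈ c.rels := by
        rw [List.getD_eq_getElem _ _ h]; exact List.getElem_mem h
      rw [MonoidHom.mem_ker, map_mul, map_inv, hsg, hsg, hrel _ hm, inv_mul_cancel]
    · exact one_mem _
  obtain ⟨t, htk, hagree, hfh⟩ := exists_fusHolds hσ.1 hσ.2.1 s c.fus c.rels.length t0 ht0
    fun f hf => by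
      obtain ⟨h, hh⟩ := hfus f hf
      exact ⟨h, fun k hk => by rw [hsg, hsg]; exact hh k hk⟩
  have ht : ∀ i, t i ^ c.q = 1 := fun i => Subtype.ext (by
    rw [Subgroup.coe_pow]; exact hker _ (htk i))
  have htrel : ∀ r < c.rels.length,
      evW s (c.rels.getD r ([], [])).1 = evW s (c.rels.getD r ([], [])).2 * (t r : E) := fun r hr => by
    rw [hagree r hr]
    simp only [t0, dif_pos hr, mul_inv_cancel_left]
  have hvs : ∀ e ∈ vs, evV t e = 1 := by
    rw [hvseq]
    intro e he
    obtain ⟨o, ho, rfl⟩ := List.mem_map.1 he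
    obtain ⟨v, rfl⟩ := Option.isSome_iff_exists.1 (hsome o ho)
    rw [Option.getD_some]
    rw [Cert.eqs, List.mem_append] at ho
    rcases ho with ho | ho
    · obtain ⟨x, -, hx⟩ := List.mem_map.1 ho
      exact ovlEq_spec hq ht htrel hx
    · exact fusEqs_spec hq ht htrel _ _ hfh _ ho v rfl
  let τc : ℕ → Subgroup.center E := fun i => evV t (d.taus.getD i ([], 0, [])).1
  let N : Subgroup E := Subgroup.closure ((fun i => (τc i : E)) '' {i | i < d.taus.length})
  have hτk : ∀ i, (τc i : E) ∈ σ.ker := fun i => evV_mem_ker htk _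
  have hNk : N ≤ σ.ker := (Subgroup.closure_le _).2 (by rintro _ ⟨i, -, rfl⟩; exact hτk i)
  refine ⟨fun i => (τc i : E), hτk, fun i hi => ?_, ?_⟩
  · show (τc i : E) ^ _ = 1
    rw [List.getD_eq_getElem _ _ hi, ← Subgroup.coe_pow, ← evV_smulV ht,
      show d.taus.getD i ([], 0, []) = d.taus[i] from List.getD_eq_getElem _ _ hi,
      evV_sameB ht hq (htau _ (List.getElem_mem hi)), evV_combV ht hvs, Subgroup.coe_one]
  have hNc : N ≤ Subgroup.center E := hNk.trans hσ.2.1
  have : N.Normal := ⟨fun a ha x => by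
    rwa [Subgroup.mem_center_iff.1 (hNc ha) x, mul_inv_cancel_right]⟩
  let π : E →* E ⧸ N := QuotientGroup.mk' N
  have hπ : Function.Surjective π := QuotientGroup.mk'_surjective N
  let σ' : E ⧸ N →* G := QuotientGroup.lift N σ hNk
  have hσπ : ∀ x, σ' (π x) = σ x := fun x => rfl
  have hker' : σ'.ker = σ.ker.map π := QuotientGroup.ker_lift N σ hNk
  have hσ' : Cfsg.IsStemExtension σ' := by
    refine ⟨fun y => ?_, ?_, ?_⟩
    · obtain ⟨x, hx⟩ := hσ.1 y
      exact ⟨π x, hx⟩
    · rw [hker']
      rintro _ ⟨x, hx, rfl⟩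
      refine Subgroup.mem_center_iff.2 fun y => ?_
      obtain ⟨y, rfl⟩ := hπ y
      rw [← map_mul, ← map_mul, Subgroup.mem_center_iff.1 (hσ.2.1 hx) y]
    · rw [hker']
      refine (Subgroup.map_mono hσ.2.2).trans ?_
      rw [commutator_def, commutator_def, Subgroup.map_commutator]
      exact Subgroup.commutator_mono le_top le_top
  have hA : IsPGroup c.p σ'.ker := by
    rintro ⟨x, hx⟩
    rw [hker'] at hx
    obtain ⟨z, hz, rfl⟩ := hx
    refine ⟨d.e, Subtype.ext ?_⟩
    rw [Subgroup.coe_pow, ← hqp, ← map_pow, hker z hz, map_one, Subgroup.coe_one]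
  let z : ℕ → Subgroup.center E := fun i => evV t (c.mu.getD i [])
  let u : ℕ → E ⧸ N := fun i => π (s i * (z i : E))
  have hu : ∀ w, evW u w = π (evW s w * ((evV t (c.muV w) : Subgroup.center E) : E)) := fun w => by
    rw [show u = fun i => π ((fun j => s j * (z j : E)) i) from rfl, ← map_evW π, evW_mul_central,
      Cert.muV, evV_wordV ht]
  have hex : ∀ r ∈ c.rels, evW u r.1 = evW u r.2 := by
    intro r hr
    obtain ⟨k, hk, rfl⟩ := List.getElem_of_mem hr
    have e := htrel k hk
    rw [List.getD_eq_getElem _ _ hk] at e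
    have h := evV_sameB ht hq (hcomb k (List.mem_range.2 hk))
    rw [evV_subV ht hq, evV_addV ht, evV_addV ht, evV_combV ht hvs,
      evV_unitV, one_mul, List.getD_eq_getElem _ _ hk, mul_inv_eq_iff_eq_mul] at h
    rw [hu, hu, e, mul_assoc, ← Subgroup.coe_mul, h, Subgroup.coe_mul]
    have hmem : ∀ v ∈ d.taus.map Prod.fst, ((evV t v : Subgroup.center E) : E) ∈ N := by
      intro v hv
      obtain ⟨x, hx, rfl⟩ := List.mem_map.1 hv
      obtain ⟨i, hi, rfl⟩ := List.getElem_of_mem hx
      refine Subgroup.subset_closure ⟨i, hi, ?_⟩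
      show ((evV t (d.taus.getD i ([], 0, [])).1 : Subgroup.center E) : E) = _
      rw [List.getD_eq_getElem _ _ hi]
    have h2 : π ((evV t (linV c.q (d.taus.map Prod.fst) (d.mults.getD k [])) : Subgroup.center E) : E) = 1 :=
      (QuotientGroup.eq_one_iff (N := N) _).2 (evV_linV_mem ht _ hmem _)
    simp only [map_mul, h2, one_mul, mul_one]
  have hbot := ker_eq_bot_of_exact (p := c.p) (n := c.n) hσ' hA u hex
    (fun i hi => by
      have h := hshape
      simp only [Cert.shapeB, List.all_eq_true, Bool.and_eq_true, List.any_eq_true, Bool.or_eq_true,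
        beq_iff_eq, decide_eq_true_eq, List.mem_range] at h
      obtain ⟨⟨r, hr, e1, e2⟩, h2⟩ := h i hi
      refine ⟨⟨r, hr, e1, e2⟩, fun j hj hij => ?_⟩
      obtain ⟨r, hr, ⟨e1, e2⟩, e3⟩ := (h2 j hj).resolve_left (by omega)
      exact ⟨r, hr, e1, e2, e3⟩)
    (by
      have himg : (fun i => σ' (u i)) '' {k | k < c.n} = g '' {k | k < c.n} :=
        Set.image_congr fun i _ => show σ' (u i) = g i from ?_
      · rw [himg]; exact hP
      show σ (s i * (z i : E)) = g i
      rw [map_mul, MonoidHom.mem_ker.1 (evV_mem_ker htk _), mul_one]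
      exact hlift _)
    hG
  intro x hx
  have h : π x ∈ σ'.ker := by rw [hker']; exact ⟨x, hx, rfl⟩
  rw [hbot, Subgroup.mem_bot] at h
  exact (QuotientGroup.eq_one_iff (N := N) x).1 h

end CfsgLib.Schur.Tails
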