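import Cfsg.Agent.Lib.Tails.Co1FiveData
import Cfsg.Agent.Lib.Tails.EqsSplit
import Cfsg.Agent.Lib.Tails.RigidSplit
import Cfsg.Agent.Lib.Rigid.Co1Data

/-!
# The checks of the certificate at 5 for the multiplier of Co1
-/

set_option autoImplicit false
set_option maxRecDepth 100000
set_option maxHeartbeats 0

namespace CfsgLib.Schur.Tails.RigidCert.CoOne

open CfsgLib.TailsData EqsSplit

theorem five_rest : restB fiveCo1TailCert fiveCo1TailEqs = true := by decide +kernel

theorem five_eqs0 : eqsPartB fiveCo1TailCert fiveCo1TailEqs 0 25 = true := by decide +kernel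

theorem five_combos0 : combosPartB fiveCo1TailCert fiveCo1TailEqs 0 10 = true := by decide +kernel

theorem five_lengths : fiveCo1TailCert.rels.length ≤ 10 ∧ fiveCo1TailEqs.length ≤ 25 := by
  constructor <;> decide +kernel

theorem five_cert : fiveCo1TailCert.checkB = true := by
  obtain ⟨h1, h2⟩ := five_lengths
  refine checkB_of_parts five_rest (P := (List.range 1).map fun k => (25 * k, 25))
    (Q := (List.range 1).map fun k => (10 * k, 10)) ?_ ?_ ?_ ?_
  · intro a ha
    obtain ⟨k, hk, rfl⟩ := List.mem_map.1 ha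
    have hk' := List.mem_range.1 hk
    interval_cases k
    exacts [five_eqs0]
  · intro k hk
    exact ⟨(25 * (k / 25), 25), List.mem_map.2 ⟨k / 25, List.mem_range.2 (by omega), rfl⟩, by
      simp only; omega, by simp only; omega⟩
  · intro a ha
    obtain ⟨k, hk, rfl⟩ := List.mem_map.1 ha
    have hk' := List.mem_range.1 hk
    interval_cases k
    exacts [five_combos0]
  · intro k hk
    exact ⟨(10 * (k / 10), 10), List.mem_map.2 ⟨k / 10, List.mem_range.2 (by omega), rfl⟩, by
      simp only; omega, by simp only; omega⟩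

/-- The codes known after 0 parts. -/
noncomputable def fiveKnown0 : List (List ℕ) := [CfsgLib.Rigid.Co1.cU, CfsgLib.Rigid.Co1.cV, CfsgLib.Rigid.Co1.cW]

/-- The codes known after 1 parts. -/
noncomputable def fiveKnown1 : List (List ℕ) := fiveKnown0 ++ fiveCo1TailPart0.map CfsgLib.Rigid.Op.M

/-- The codes known after 2 parts. -/
noncomputable def fiveKnown2 : List (List ℕ) := fiveKnown1 ++ fiveCo1TailPart1.map CfsgLib.Rigid.Op.M

/-- The codes known after 3 parts. -/
noncomputable def fiveKnown3 : List (List ℕ) := fiveKnown2 ++ fiveCo1TailPart2.map CfsgLib.Rigid.Op.M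

/-- The codes known after 4 parts. -/
noncomputable def fiveKnown4 : List (List ℕ) := fiveKnown3 ++ fiveCo1TailPart3.map CfsgLib.Rigid.Op.M

/-- The codes known after 5 parts. -/
noncomputable def fiveKnown5 : List (List ℕ) := fiveKnown4 ++ fiveCo1TailPart4.map CfsgLib.Rigid.Op.M

theorem five_refs0 : refsB CfsgLib.Rigid.Co1.one fiveKnown0 fiveCo1TailRef0 fiveCo1TailInp0 = true := by decide +kernel

theorem five_part0 : CfsgLib.Rigid.slpOk CfsgLib.Rigid.Co1.one fiveCo1TailPart0 fiveCo1TailInp0 = true := by decide +kernel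

theorem five_refs1 : refsB CfsgLib.Rigid.Co1.one fiveKnown1 fiveCo1TailRef1 fiveCo1TailInp1 = true := by decide +kernel

theorem five_part1 : CfsgLib.Rigid.slpOk CfsgLib.Rigid.Co1.one fiveCo1TailPart1 fiveCo1TailInp1 = true := by decide +kernel

theorem five_refs2 : refsB CfsgLib.Rigid.Co1.one fiveKnown2 fiveCo1TailRef2 fiveCo1TailInp2 = true := by decide +kernel

theorem five_part2 : CfsgLib.Rigid.slpOk CfsgLib.Rigid.Co1.one fiveCo1TailPart2 fiveCo1TailInp2 = true := by decide +kernel

theorem five_refs3 : refsB CfsgLib.Rigid.Co1.one fiveKnown3 fiveCo1TailRef3 fiveCo1TailInp3 = true := by decide +kernel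

theorem five_part3 : CfsgLib.Rigid.slpOk CfsgLib.Rigid.Co1.one fiveCo1TailPart3 fiveCo1TailInp3 = true := by decide +kernel

theorem five_refs4 : refsB CfsgLib.Rigid.Co1.one fiveKnown4 fiveCo1TailRef4 fiveCo1TailInp4 = true := by decide +kernel

theorem five_part4 : CfsgLib.Rigid.slpOk CfsgLib.Rigid.Co1.one fiveCo1TailPart4 fiveCo1TailInp4 = true := by decide +kernel

theorem five_gens : refsB CfsgLib.Rigid.Co1.one fiveKnown5 fiveCo1TailGi fiveCo1TailGens = true := by decide +kernel

theorem five_hs : refsB CfsgLib.Rigid.Co1.one fiveKnown5 fiveCo1TailHi fiveCo1TailHs = true := by decide +kernel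

theorem five_coded {G : Type} [Group G] (c : CfsgLib.Rigid.Cod G) (h1 : c.C 1 = CfsgLib.Rigid.Co1.one)
    (h0 : AllCoded c fiveKnown0) : AllCoded c fiveCo1TailGens ∧ AllCoded c fiveCo1TailHs := by
  have h1' : AllCoded c fiveKnown1 := allCoded_part c h1 h0 five_refs0 five_part0
  have h2' : AllCoded c fiveKnown2 := allCoded_part c h1 h1' five_refs1 five_part1
  have h3' : AllCoded c fiveKnown3 := allCoded_part c h1 h2' five_refs2 five_part2
  have h4' : AllCoded c fiveKnown4 := allCoded_part c h1 h3' five_refs3 five_part3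
  have h5' : AllCoded c fiveKnown5 := allCoded_part c h1 h4' five_refs4 five_part4
  exact ⟨allCoded_refs c h5' five_gens, allCoded_refs c h5' five_hs⟩

theorem five_rels : relsB CfsgLib.Rigid.Co1.one fiveCo1TailGens fiveCo1TailHs fiveCo1TailCert = true := by decide +kernel

theorem five_layers : layersB fiveCo1TailCert.p CfsgLib.Rigid.Co1.one fiveCo1TailGens [] fiveCo1TailLayers = true ∧
    fiveCo1TailCert.p ^ fiveCo1TailCert.n ≤ layersM fiveCo1TailLayers := by
  constructor <;> decide +kernel

theorem five_sizes : fiveCo1TailCert.p = 5 ∧ fiveCo1TailCert.q = 5 ∧ fiveCo1TailCert.tau = [] ∧ fiveCo1TailCert.n = 4 := by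
  refine ⟨?_, ?_, ?_, ?_⟩ <;> decide +kernel

end CfsgLib.Schur.Tails.RigidCert.CoOne
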