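import Cfsg.Agent.Lib.Tails.Co1SevenData
import Cfsg.Agent.Lib.Tails.EqsSplit
import Cfsg.Agent.Lib.Tails.RigidSplit
import Cfsg.Agent.Lib.Rigid.Co1Data

/-!
# The checks of the certificate at 7 for the multiplier of Co1
-/

set_option autoImplicit false
set_option maxRecDepth 100000
set_option maxHeartbeats 0

namespace CfsgLib.Schur.Tails.RigidCert.CoOne

open CfsgLib.TailsData EqsSplit

theorem seven_rest : restB sevenCo1TailCert sevenCo1TailEqs = true := by decide +kernel

theorem seven_eqs0 : eqsPartB sevenCo1TailCert sevenCo1TailEqs 0 25 = true := by decide +kernel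

theorem seven_combos0 : combosPartB sevenCo1TailCert sevenCo1TailEqs 0 3 = true := by decide +kernel

theorem seven_lengths : sevenCo1TailCert.rels.length ≤ 3 ∧ sevenCo1TailEqs.length ≤ 25 := by
  constructor <;> decide +kernel

theorem seven_cert : sevenCo1TailCert.checkB = true := by
  obtain ⟨h1, h2⟩ := seven_lengths
  refine checkB_of_parts seven_rest (P := (List.range 1).map fun k => (25 * k, 25))
    (Q := (List.range 1).map fun k => (3 * k, 3)) ?_ ?_ ?_ ?_
  · intro a ha
    obtain ⟨k, hk, rfl⟩ := List.mem_map.1 ha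
    have hk' := List.mem_range.1 hk
    interval_cases k
    exacts [seven_eqs0]
  · intro k hk
    exact ⟨(25 * (k / 25), 25), List.mem_map.2 ⟨k / 25, List.mem_range.2 (by omega), rfl⟩, by
      simp only; omega, by simp only; omega⟩
  · intro a ha
    obtain ⟨k, hk, rfl⟩ := List.mem_map.1 ha
    have hk' := List.mem_range.1 hk
    interval_cases k
    exacts [seven_combos0]
  · intro k hk
    exact ⟨(3 * (k / 3), 3), List.mem_map.2 ⟨k / 3, List.mem_range.2 (by omega), rfl⟩, by
      simp only; omega, by simp only; omega⟩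

/-- The codes known after 0 parts. -/
noncomputable def sevenKnown0 : List (List ℕ) := [CfsgLib.Rigid.Co1.cU, CfsgLib.Rigid.Co1.cV, CfsgLib.Rigid.Co1.cW]

/-- The codes known after 1 parts. -/
noncomputable def sevenKnown1 : List (List ℕ) := sevenKnown0 ++ sevenCo1TailPart0.map CfsgLib.Rigid.Op.M

/-- The codes known after 2 parts. -/
noncomputable def sevenKnown2 : List (List ℕ) := sevenKnown1 ++ sevenCo1TailPart1.map CfsgLib.Rigid.Op.M

/-- The codes known after 3 parts. -/
noncomputable def sevenKnown3 : List (List ℕ) := sevenKnown2 ++ sevenCo1TailPart2.map CfsgLib.Rigid.Op.M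

/-- The codes known after 4 parts. -/
noncomputable def sevenKnown4 : List (List ℕ) := sevenKnown3 ++ sevenCo1TailPart3.map CfsgLib.Rigid.Op.M

/-- The codes known after 5 parts. -/
noncomputable def sevenKnown5 : List (List ℕ) := sevenKnown4 ++ sevenCo1TailPart4.map CfsgLib.Rigid.Op.M

theorem seven_refs0 : refsB CfsgLib.Rigid.Co1.one sevenKnown0 sevenCo1TailRef0 sevenCo1TailInp0 = true := by decide +kernel

theorem seven_part0 : CfsgLib.Rigid.slpOk CfsgLib.Rigid.Co1.one sevenCo1TailPart0 sevenCo1TailInp0 = true := by decide +kernel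

theorem seven_refs1 : refsB CfsgLib.Rigid.Co1.one sevenKnown1 sevenCo1TailRef1 sevenCo1TailInp1 = true := by decide +kernel

theorem seven_part1 : CfsgLib.Rigid.slpOk CfsgLib.Rigid.Co1.one sevenCo1TailPart1 sevenCo1TailInp1 = true := by decide +kernel

theorem seven_refs2 : refsB CfsgLib.Rigid.Co1.one sevenKnown2 sevenCo1TailRef2 sevenCo1TailInp2 = true := by decide +kernel

theorem seven_part2 : CfsgLib.Rigid.slpOk CfsgLib.Rigid.Co1.one sevenCo1TailPart2 sevenCo1TailInp2 = true := by decide +kernel

theorem seven_refs3 : refsB CfsgLib.Rigid.Co1.one sevenKnown3 sevenCo1TailRef3 sevenCo1TailInp3 = true := by decide +kernel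

theorem seven_part3 : CfsgLib.Rigid.slpOk CfsgLib.Rigid.Co1.one sevenCo1TailPart3 sevenCo1TailInp3 = true := by decide +kernel

theorem seven_refs4 : refsB CfsgLib.Rigid.Co1.one sevenKnown4 sevenCo1TailRef4 sevenCo1TailInp4 = true := by decide +kernel

theorem seven_part4 : CfsgLib.Rigid.slpOk CfsgLib.Rigid.Co1.one sevenCo1TailPart4 sevenCo1TailInp4 = true := by decide +kernel

theorem seven_gens : refsB CfsgLib.Rigid.Co1.one sevenKnown5 sevenCo1TailGi sevenCo1TailGens = true := by decide +kernel

theorem seven_hs : refsB CfsgLib.Rigid.Co1.one sevenKnown5 sevenCo1TailHi sevenCo1TailHs = true := by decide +kernel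

theorem seven_coded {G : Type} [Group G] (c : CfsgLib.Rigid.Cod G) (h1 : c.C 1 = CfsgLib.Rigid.Co1.one)
    (h0 : AllCoded c sevenKnown0) : AllCoded c sevenCo1TailGens ∧ AllCoded c sevenCo1TailHs := by
  have h1' : AllCoded c sevenKnown1 := allCoded_part c h1 h0 seven_refs0 seven_part0
  have h2' : AllCoded c sevenKnown2 := allCoded_part c h1 h1' seven_refs1 seven_part1
  have h3' : AllCoded c sevenKnown3 := allCoded_part c h1 h2' seven_refs2 seven_part2
  have h4' : AllCoded c sevenKnown4 := allCoded_part c h1 h3' seven_refs3 seven_part3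
  have h5' : AllCoded c sevenKnown5 := allCoded_part c h1 h4' seven_refs4 seven_part4
  exact ⟨allCoded_refs c h5' seven_gens, allCoded_refs c h5' seven_hs⟩

theorem seven_rels : relsB CfsgLib.Rigid.Co1.one sevenCo1TailGens sevenCo1TailHs sevenCo1TailCert = true := by decide +kernel

theorem seven_layers : layersB sevenCo1TailCert.p CfsgLib.Rigid.Co1.one sevenCo1TailGens [] sevenCo1TailLayers = true ∧
    sevenCo1TailCert.p ^ sevenCo1TailCert.n ≤ layersM sevenCo1TailLayers := by
  constructor <;> decide +kernel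

theorem seven_sizes : sevenCo1TailCert.p = 7 ∧ sevenCo1TailCert.q = 7 ∧ sevenCo1TailCert.tau = [] ∧ sevenCo1TailCert.n = 2 := by
  refine ⟨?_, ?_, ?_, ?_⟩ <;> decide +kernel

end CfsgLib.Schur.Tails.RigidCert.CoOne
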