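import Cfsg.Agent.Lib.Tails.Co1ThreeData
import Cfsg.Agent.Lib.Tails.EqsSplit
import Cfsg.Agent.Lib.Tails.RigidSplit
import Cfsg.Agent.Lib.Rigid.Co1Data

/-!
# The checks of the certificate at 3 for the multiplier of Co1
-/

set_option autoImplicit false
set_option maxRecDepth 100000
set_option maxHeartbeats 0

namespace CfsgLib.Schur.Tails.RigidCert.CoOne

open CfsgLib.TailsData EqsSplit

theorem three_rest : restB threeCo1TailCert threeCo1TailEqs = true := by decide +kernel

theorem three_eqs0 : eqsPartB threeCo1TailCert threeCo1TailEqs 0 25 = true := by decide +kernel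

theorem three_eqs1 : eqsPartB threeCo1TailCert threeCo1TailEqs 25 25 = true := by decide +kernel

theorem three_combos0 : combosPartB threeCo1TailCert threeCo1TailEqs 0 15 = true := by decide +kernel

theorem three_combos1 : combosPartB threeCo1TailCert threeCo1TailEqs 15 15 = true := by decide +kernel

theorem three_combos2 : combosPartB threeCo1TailCert threeCo1TailEqs 30 15 = true := by decide +kernel

theorem three_lengths : threeCo1TailCert.rels.length ≤ 45 ∧ threeCo1TailEqs.length ≤ 50 := by
  constructor <;> decide +kernel

theorem three_cert : threeCo1TailCert.checkB = true := by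
  obtain ⟨h1, h2⟩ := three_lengths
  refine checkB_of_parts three_rest (P := (List.range 2).map fun k => (25 * k, 25))
    (Q := (List.range 3).map fun k => (15 * k, 15)) ?_ ?_ ?_ ?_
  · intro a ha
    obtain ⟨k, hk, rfl⟩ := List.mem_map.1 ha
    have hk' := List.mem_range.1 hk
    interval_cases k
    exacts [three_eqs0, three_eqs1]
  · intro k hk
    exact ⟨(25 * (k / 25), 25), List.mem_map.2 ⟨k / 25, List.mem_range.2 (by omega), rfl⟩, by
      simp only; omega, by simp only; omega⟩
  · intro a ha
    obtain ⟨k, hk, rfl⟩ := List.mem_map.1 ha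
    have hk' := List.mem_range.1 hk
    interval_cases k
    exacts [three_combos0, three_combos1, three_combos2]
  · intro k hk
    exact ⟨(15 * (k / 15), 15), List.mem_map.2 ⟨k / 15, List.mem_range.2 (by omega), rfl⟩, by
      simp only; omega, by simp only; omega⟩

/-- The codes known after 0 parts. -/
noncomputable def threeKnown0 : List (List ℕ) := [CfsgLib.Rigid.Co1.cU, CfsgLib.Rigid.Co1.cV, CfsgLib.Rigid.Co1.cW]

/-- The codes known after 1 parts. -/
noncomputable def threeKnown1 : List (List ℕ) := threeKnown0 ++ threeCo1TailPart0.map CfsgLib.Rigid.Op.M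

/-- The codes known after 2 parts. -/
noncomputable def threeKnown2 : List (List ℕ) := threeKnown1 ++ threeCo1TailPart1.map CfsgLib.Rigid.Op.M

/-- The codes known after 3 parts. -/
noncomputable def threeKnown3 : List (List ℕ) := threeKnown2 ++ threeCo1TailPart2.map CfsgLib.Rigid.Op.M

/-- The codes known after 4 parts. -/
noncomputable def threeKnown4 : List (List ℕ) := threeKnown3 ++ threeCo1TailPart3.map CfsgLib.Rigid.Op.M

/-- The codes known after 5 parts. -/
noncomputable def threeKnown5 : List (List ℕ) := threeKnown4 ++ threeCo1TailPart4.map CfsgLib.Rigid.Op.M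

/-- The codes known after 6 parts. -/
noncomputable def threeKnown6 : List (List ℕ) := threeKnown5 ++ threeCo1TailPart5.map CfsgLib.Rigid.Op.M

theorem three_refs0 : refsB CfsgLib.Rigid.Co1.one threeKnown0 threeCo1TailRef0 threeCo1TailInp0 = true := by decide +kernel

theorem three_part0 : CfsgLib.Rigid.slpOk CfsgLib.Rigid.Co1.one threeCo1TailPart0 threeCo1TailInp0 = true := by decide +kernel

theorem three_refs1 : refsB CfsgLib.Rigid.Co1.one threeKnown1 threeCo1TailRef1 threeCo1TailInp1 = true := by decide +kernel

theorem three_part1 : CfsgLib.Rigid.slpOk CfsgLib.Rigid.Co1.one threeCo1TailPart1 threeCo1TailInp1 = true := by decide +kernel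

theorem three_refs2 : refsB CfsgLib.Rigid.Co1.one threeKnown2 threeCo1TailRef2 threeCo1TailInp2 = true := by decide +kernel

theorem three_part2 : CfsgLib.Rigid.slpOk CfsgLib.Rigid.Co1.one threeCo1TailPart2 threeCo1TailInp2 = true := by decide +kernel

theorem three_refs3 : refsB CfsgLib.Rigid.Co1.one threeKnown3 threeCo1TailRef3 threeCo1TailInp3 = true := by decide +kernel

theorem three_part3 : CfsgLib.Rigid.slpOk CfsgLib.Rigid.Co1.one threeCo1TailPart3 threeCo1TailInp3 = true := by decide +kernel

theorem three_refs4 : refsB CfsgLib.Rigid.Co1.one threeKnown4 threeCo1TailRef4 threeCo1TailInp4 = true := by decide +kernel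

theorem three_part4 : CfsgLib.Rigid.slpOk CfsgLib.Rigid.Co1.one threeCo1TailPart4 threeCo1TailInp4 = true := by decide +kernel

theorem three_refs5 : refsB CfsgLib.Rigid.Co1.one threeKnown5 threeCo1TailRef5 threeCo1TailInp5 = true := by decide +kernel

theorem three_part5 : CfsgLib.Rigid.slpOk CfsgLib.Rigid.Co1.one threeCo1TailPart5 threeCo1TailInp5 = true := by decide +kernel

theorem three_gens : refsB CfsgLib.Rigid.Co1.one threeKnown6 threeCo1TailGi threeCo1TailGens = true := by decide +kernel

theorem three_hs : refsB CfsgLib.Rigid.Co1.one threeKnown6 threeCo1TailHi threeCo1TailHs = true := by decide +kernel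

theorem three_coded {G : Type} [Group G] (c : CfsgLib.Rigid.Cod G) (h1 : c.C 1 = CfsgLib.Rigid.Co1.one)
    (h0 : AllCoded c threeKnown0) : AllCoded c threeCo1TailGens ∧ AllCoded c threeCo1TailHs := by
  have h1' : AllCoded c threeKnown1 := allCoded_part c h1 h0 three_refs0 three_part0
  have h2' : AllCoded c threeKnown2 := allCoded_part c h1 h1' three_refs1 three_part1
  have h3' : AllCoded c threeKnown3 := allCoded_part c h1 h2' three_refs2 three_part2
  have h4' : AllCoded c threeKnown4 := allCoded_part c h1 h3' three_refs3 three_part3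
  have h5' : AllCoded c threeKnown5 := allCoded_part c h1 h4' three_refs4 three_part4
  have h6' : AllCoded c threeKnown6 := allCoded_part c h1 h5' three_refs5 three_part5
  exact ⟨allCoded_refs c h6' three_gens, allCoded_refs c h6' three_hs⟩

theorem three_rels : relsB CfsgLib.Rigid.Co1.one threeCo1TailGens threeCo1TailHs threeCo1TailCert = true := by decide +kernel

theorem three_layers : layersB threeCo1TailCert.p CfsgLib.Rigid.Co1.one threeCo1TailGens [] threeCo1TailLayers = true ∧
    threeCo1TailCert.p ^ threeCo1TailCert.n ≤ layersM threeCo1TailLayers := by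
  constructor <;> decide +kernel

theorem three_sizes : threeCo1TailCert.p = 3 ∧ threeCo1TailCert.q = 3 ∧ threeCo1TailCert.tau = [] ∧ threeCo1TailCert.n = 9 := by
  refine ⟨?_, ?_, ?_, ?_⟩ <;> decide +kernel

end CfsgLib.Schur.Tails.RigidCert.CoOne
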