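import Cfsg.Agent.Lib.Tails.Finish

/-!
# Checking a certificate with packed vectors

A vector of exponents is packed into one number with 32 bits for each entry and added without reduction.
-/

set_option autoImplicit false

namespace CfsgLib.Schur.Tails.Pack

/-- The base of the packing. -/
def B : ℕ := 4294967296

/-- The number of a vector. -/
def packN : List ℕ → ℕ
  | [] => 0
  | a :: v => a + B * packN v

/-- The sum without reduction. -/
def addN : List ℕ → List ℕ → List ℕ
  | [], w => w
  | v, [] => v
  | a :: v, b :: w => (a + b) :: addN v w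

theorem packN_addN : ∀ u w, packN (addN u w) = packN u + packN w
  | [], w => by simp [addN, packN]
  | a :: u, [] => by simp [addN, packN]
  | a :: u, b :: w => by simp only [addN, packN, packN_addN u w]; ring

theorem getD_addN : ∀ u w i, (addN u w).getD i 0 = u.getD i 0 + w.getD i 0
  | [], w, i => by simp [addN]
  | a :: u, [], i => by simp [addN]
  | a :: u, b :: w, 0 => by simp [addN]
  | a :: u, b :: w, i + 1 => by simpa [addN] using getD_addN u w i

theorem packN_map (c : ℕ) : ∀ u : List ℕ, packN (u.map (c * ·)) = c * packN u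
  | [] => by simp [packN]
  | a :: u => by simp only [List.map_cons, packN, packN_map c u]; ring

theorem getD_map_mul (c : ℕ) : ∀ (u : List ℕ) i, (u.map (c * ·)).getD i 0 = c * u.getD i 0
  | [], i => by simp
  | a :: u, 0 => by simp
  | a :: u, i + 1 => by simpa using getD_map_mul c u i

theorem getD_addV (q : ℕ) : ∀ v w i,
    (addV q v w).getD i 0 % q = (v.getD i 0 + w.getD i 0) % q
  | [], w, i => by simp [addV]
  | a :: v, [], i => by simp [addV]
  | a :: v, b :: w, 0 => by simp [addV]
  | a :: v, b :: w, i + 1 => by simpa [addV] using getD_addV q v w i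

theorem getD_smulV (q c : ℕ) : ∀ v i, (smulV q c v).getD i 0 % q = c * v.getD i 0 % q
  | [], i => by simp [smulV]
  | a :: v, 0 => by simp [smulV]
  | a :: v, i + 1 => by simpa [smulV] using getD_smulV q c v i

theorem packN_unitV : ∀ i, packN (unitV i) = B ^ i
  | 0 => by simp [unitV, packN]
  | i + 1 => by simp only [unitV, packN, packN_unitV i]; ring

theorem getD_unitV_le : ∀ i j, (unitV i).getD j 0 ≤ 1
  | 0, 0 => by simp [unitV]
  | 0, j + 1 => by simp [unitV]
  | i + 1, 0 => by simp [unitV]
  | i + 1, j + 1 => by simpa [unitV] using getD_unitV_le i j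

/-- The vectors have the same entries modulo `q`. -/
def Sim (q : ℕ) (v w : List ℕ) : Prop := ∀ i, v.getD i 0 % q = w.getD i 0 % q

theorem Sim.add {q : ℕ} {v v' w w' : List ℕ} (h : Sim q v v') (h' : Sim q w w') :
    Sim q (addV q v w) (addV q v' w') := fun i => by
  rw [getD_addV, getD_addV, Nat.add_mod, h i, h' i, ← Nat.add_mod]

theorem Sim.smul {q : ℕ} {v v' : List ℕ} (c : ℕ) (h : Sim q v v') :
    Sim q (smulV q c v) (smulV q c v') := fun i => by
  rw [getD_smulV, getD_smulV, Nat.mul_mod, h i, ← Nat.mul_mod]

/-- The number represents the vector with entries up to the bound. -/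
def Rep (q : ℕ) (PN : ℕ × ℕ) (v : List ℕ) : Prop :=
  ∃ u : List ℕ, packN u = PN.1 ∧ (∀ i, u.getD i 0 ≤ PN.2) ∧ Sim q u v

theorem Rep.nil {q : ℕ} : Rep q (0, 0) [] := ⟨[], rfl, fun i => by simp, fun _ => rfl⟩

/-- The sum of two numbers with bounds. -/
def plusP (a b : ℕ × ℕ) : ℕ × ℕ := (a.1 + b.1, a.2 + b.2)

/-- A multiple of a number with a bound. -/
def timesP (c : ℕ) (a : ℕ × ℕ) : ℕ × ℕ := (c * a.1, c * a.2)

theorem Rep.add {q : ℕ} {a b : ℕ × ℕ} {v w : List ℕ} (h : Rep q a v) (h' : Rep q b w) :
    Rep q (plusP a b) (addV q v w) := by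
  obtain ⟨u, hu, hb, hs⟩ := h
  obtain ⟨u', hu', hb', hs'⟩ := h'
  refine ⟨addN u u', by rw [packN_addN, hu, hu']; rfl, fun i => ?_, fun i => ?_⟩
  · rw [getD_addN]; exact Nat.add_le_add (hb i) (hb' i)
  · rw [getD_addN, getD_addV, Nat.add_mod, hs i, hs' i, ← Nat.add_mod]

theorem Rep.smul {q : ℕ} {a : ℕ × ℕ} {v : List ℕ} (c : ℕ) (h : Rep q a v) :
    Rep q (timesP c a) (smulV q c v) := by
  obtain ⟨u, hu, hb, hs⟩ := h
  refine ⟨u.map (c * ·), by rw [packN_map, hu]; rfl, fun i => ?_, fun i => ?_⟩
  · rw [getD_map_mul]; exact Nat.mul_le_mul_left c (hb i)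
  · rw [getD_map_mul, getD_smulV, Nat.mul_mod, hs i, ← Nat.mul_mod]

theorem Rep.unit (q i : ℕ) : Rep q (B ^ i, 1) (unitV i) :=
  ⟨unitV i, packN_unitV i, getD_unitV_le i, fun _ => rfl⟩

/-- Entries modulo `q` agree in the first places and there is nothing after them. -/
def cmpP (q : ℕ) : ℕ → ℕ → ℕ → Bool
  | 0, x, y => Nat.beq x 0 && Nat.beq y 0
  | n + 1, x, y => Nat.beq (x % B % q) (y % B % q) && cmpP q n (x / B) (y / B)

theorem packN_split : ∀ {u : List ℕ}, (∀ i, u.getD i 0 < B) →
    packN u % B = u.getD 0 0 ∧ packN u / B = packN u.tail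
  | [], _ => by simp [packN]
  | a :: u, h => by
    have ha : a < B := by simpa using h 0
    constructor
    · simp [packN, Nat.mod_eq_of_lt ha]
    · simp only [packN, List.tail_cons]
      rw [Nat.add_mul_div_left _ _ (by decide : 0 < B), Nat.div_eq_of_lt ha, Nat.zero_add]

theorem getD_tail (u : List ℕ) (i : ℕ) : u.tail.getD i 0 = u.getD (i + 1) 0 := by
  cases u <;> simp

theorem getD_eq_zero : ∀ {u : List ℕ}, packN u = 0 → ∀ i, u.getD i 0 = 0
  | [], _, i => by simp
  | a :: u, h, i => by
    simp only [packN, Nat.add_eq_zero_iff, Nat.mul_eq_zero] at h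
    have hu := getD_eq_zero (h.2.resolve_left (by decide))
    cases i with
    | zero => simpa using h.1
    | succ i => simpa using hu i

theorem cmpP_sound {q : ℕ} : ∀ (n : ℕ) {u w : List ℕ}, (∀ i, u.getD i 0 < B) → (∀ i, w.getD i 0 < B) →
    cmpP q n (packN u) (packN w) = true → Sim q u w
  | 0, u, w, _, _, h => fun i => by
    simp only [cmpP, Bool.and_eq_true, Nat.beq_eq] at h
    rw [getD_eq_zero h.1, getD_eq_zero h.2]
  | n + 1, u, w, hu, hw, h => by
    simp only [cmpP, Bool.and_eq_true, Nat.beq_eq] at h
    obtain ⟨a1, a2⟩ := packN_split hu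
    obtain ⟨b1, b2⟩ := packN_split hw
    rw [a1, a2, b1, b2] at h
    have ih := cmpP_sound n (fun i => by rw [getD_tail]; exact hu _)
      (fun i => by rw [getD_tail]; exact hw _) h.2
    intro i
    cases i with
    | zero => exact h.1
    | succ i => simpa [getD_tail] using ih i

/-- Two represented vectors agree. -/
def sameP (q n : ℕ) (a b : ℕ × ℕ) : Bool :=
  Nat.blt a.2 B && Nat.blt b.2 B && cmpP q n a.1 b.1

theorem sameP_sound {q n : ℕ} {a b : ℕ × ℕ} {v w : List ℕ} (ha : Rep q a v) (hb : Rep q b w)
    (h : sameP q n a b = true) : Sim q v w := by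
  simp only [sameP, Bool.and_eq_true, Nat.blt_eq] at h
  obtain ⟨u, hu, hub, hus⟩ := ha
  obtain ⟨u', hu', hub', hus'⟩ := hb
  rw [← hu, ← hu'] at h
  have e := cmpP_sound n (fun i => lt_of_le_of_lt (hub i) h.1.1) (fun i => lt_of_le_of_lt (hub' i) h.1.2) h.2
  exact fun i => by rw [← hus i, e i, hus' i]

theorem zeroB_of_getD {q : ℕ} {v : List ℕ} (h : ∀ i, v.getD i 0 % q = 0) : zeroB q v = true := by
  simp only [zeroB, List.all_eq_true, beq_iff_eq]
  intro a ha
  obtain ⟨i, hi, rfl⟩ := List.getElem_of_mem ha
  have := h i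
  rwa [List.getD_eq_getElem _ _ hi] at this

theorem sameB_of_sim {q : ℕ} (hq : 1 ≤ q) {v w : List ℕ} (h : Sim q v w) : sameB q v w = true := by
  refine zeroB_of_getD fun i => ?_
  rw [getD_addV, Nat.add_mod, getD_smulV, ← Nat.add_mod, Nat.add_mod, h i, ← Nat.add_mod]
  have e : w.getD i 0 + (q - 1) * w.getD i 0 = q * w.getD i 0 := by
    conv_rhs => rw [← Nat.sub_add_cancel hq]
    ring
  rw [e, Nat.mul_mod_right]

/-! ### Packed rewriting -/

/-- The equality of words. -/
def eqW : List ℕ → List ℕ → Bool
  | [], [] => true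
  | a :: v, b :: w => Nat.beq a b && eqW v w
  | _, _ => false

theorem eqW_iff : ∀ v w, eqW v w = true ↔ v = w
  | [], [] => by simp [eqW]
  | [], _ :: _ => by simp [eqW]
  | _ :: _, [] => by simp [eqW]
  | a :: v, b :: w => by simp [eqW, eqW_iff v w]

/-- The number of a word: the digits are the letters plus one. -/
def enc : List ℕ → ℕ
  | [] => 0
  | a :: w => a + 1 + 64 * enc w

/-- The letters fit. -/
def fitsB (w : List ℕ) : Bool := w.all fun a => Nat.blt a 63

theorem enc_append : ∀ u v, enc (u ++ v) = enc u + 64 ^ u.length * enc v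
  | [], v => by simp [enc]
  | a :: u, v => by simp only [List.cons_append, enc, enc_append u v, List.length_cons, pow_succ]; ring

theorem enc_lt : ∀ {w : List ℕ}, (∀ a ∈ w, a < 63) → enc w < 64 ^ w.length
  | [], _ => by simp [enc]
  | a :: w, h => by
    have := enc_lt fun b hb => h b (List.mem_cons_of_mem _ hb)
    have := h a List.mem_cons_self
    simp only [enc, List.length_cons, pow_succ]
    omega

theorem enc_inj : ∀ {u v : List ℕ}, (∀ a ∈ u, a < 63) → (∀ a ∈ v, a < 63) → enc u = enc v → u = v
  | [], [], _, _, _ => rfl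
  | [], b :: v, _, _, h => by simp only [enc] at h; omega
  | a :: u, [], _, _, h => by simp only [enc] at h; omega
  | a :: u, b :: v, hu, hv, h => by
    have := hu a List.mem_cons_self
    have := hv b List.mem_cons_self
    simp only [enc] at h
    rw [show a = b by omega, enc_inj (fun x hx => hu x (List.mem_cons_of_mem _ hx))
      (fun x hx => hv x (List.mem_cons_of_mem _ hx)) (by omega)]

/-- A relation in a table with rows of sixteen. -/
def lookR (T : List (List (List ℕ × List ℕ))) (r : ℕ) : List ℕ × List ℕ :=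
  (T.getD (r / 16) []).getD (r % 16) ([], [])

/-- The table lists the relations and their letters fit. -/
def tableB (c : Cert) (T : List (List (List ℕ × List ℕ))) : Bool :=
  (List.range c.rels.length).all fun r =>
    eqW (lookR T r).1 (c.rels.getD r ([], [])).1 && eqW (lookR T r).2 (c.rels.getD r ([], [])).2 &&
      fitsB (lookR T r).1 && fitsB (lookR T r).2

/-- Evaluate a number before use. -/
noncomputable def forceN {α : Type} (x : ℕ) (k : ℕ → α) : α :=
  Nat.rec (k 0) (fun n _ => k (Nat.succ n)) x

theorem forceN_eq {α : Type} (x : ℕ) (k : ℕ → α) : forceN x k = k x := by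
  cases x <;> rfl

/-- Rewriting with the words and the tails packed. -/
noncomputable def runP (q nr : ℕ) (look : ℕ → List ℕ × List ℕ) :
    List Step → ℕ → ℕ × ℕ → Option (ℕ × (ℕ × ℕ))
  | [], x, a => some (x, a)
  | st :: sts, x, a =>
    if Nat.blt st.2.1 nr then
      let rel := look st.2.1
      let old := if st.2.2 then rel.1 else rel.2
      let new := if st.2.2 then rel.2 else rel.1
      let m := 64 ^ st.1
      let ko := 64 ^ old.length
      if (Nat.beq st.1 0 || Nat.ble m (64 * x)) && Nat.beq (x / m % ko) (enc old) then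
        forceN (x % m + m * (enc new + 64 ^ new.length * (x / m / ko))) fun x' =>
          runP q nr look sts x'
            (plusP a (if st.2.2 then (B ^ st.2.1, 1) else timesP (q - 1) (B ^ st.2.1, 1)))
      else none
    else none

/-- One packed step does what the step on lists does. -/
theorem step_enc {w old new : List ℕ} (hw : ∀ a ∈ w, a < 63) (ho : ∀ a ∈ old, a < 63) {pos : ℕ}
    (hpos : pos = 0 ∨ 64 ^ pos ≤ 64 * enc w) (he : enc w / 64 ^ pos % 64 ^ old.length = enc old) :
    (w.drop pos).take old.length = old ∧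
      enc w % 64 ^ pos + 64 ^ pos * (enc new + 64 ^ new.length * (enc w / 64 ^ pos / 64 ^ old.length)) =
        enc (w.take pos ++ new ++ (w.drop pos).drop old.length) := by
  have hlen : pos ≤ w.length := by
    rcases hpos with rfl | h
    · exact Nat.zero_le _
    · by_contra hlt
      have h1 := enc_lt hw
      have h2 : 64 ^ (w.length + 1) ≤ 64 ^ pos := Nat.pow_le_pow_right (by norm_num) (by omega)
      rw [pow_succ] at h2
      omega
  have htl : (w.take pos).length = pos := by simp [List.length_take, hlen]
  have htk : ∀ a ∈ w.take pos, a < 63 := fun a ha => hw a (List.mem_of_mem_take ha)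
  have hdr : ∀ a ∈ w.drop pos, a < 63 := fun a ha => hw a (List.mem_of_mem_drop ha)
  have hw' : enc w = enc (w.take pos) + 64 ^ pos * enc (w.drop pos) := by
    conv_lhs => rw [← List.take_append_drop pos w, enc_append, htl]
  have hlt1 := enc_lt htk
  rw [htl] at hlt1
  have hmod : enc w % 64 ^ pos = enc (w.take pos) := by
    rw [hw', Nat.add_mul_mod_self_left, Nat.mod_eq_of_lt hlt1]
  have hdiv : enc w / 64 ^ pos = enc (w.drop pos) := by
    rw [hw', Nat.add_mul_div_left _ _ (by positivity), Nat.div_eq_of_lt hlt1, Nat.zero_add]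
  rw [hdiv] at he
  set d := w.drop pos with hd
  have hol : old.length ≤ d.length := by
    by_contra hlt
    have h1 : 64 ^ d.length ≤ 64 ^ old.length := Nat.pow_le_pow_right (by norm_num) (by omega)
    rw [Nat.mod_eq_of_lt ((enc_lt hdr).trans_le h1)] at he
    have := enc_inj hdr ho he
    rw [this] at hlt
    exact hlt le_rfl
  have hdl : (d.take old.length).length = old.length := by simp [List.length_take, hol]
  have htd : ∀ a ∈ d.take old.length, a < 63 := fun a ha => hdr a (List.mem_of_mem_take ha)
  have hlt2 := enc_lt htd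
  rw [hdl] at hlt2
  have hd' : enc d = enc (d.take old.length) + 64 ^ old.length * enc (d.drop old.length) := by
    conv_lhs => rw [← List.take_append_drop old.length d, enc_append, hdl]
  rw [hd', Nat.add_mul_mod_self_left, Nat.mod_eq_of_lt hlt2] at he
  refine ⟨enc_inj htd ho he, ?_⟩
  rw [hmod, hdiv, hd', Nat.add_mul_div_left _ _ (by positivity), Nat.div_eq_of_lt hlt2, Nat.zero_add,
    enc_append, enc_append, List.length_append, htl, pow_add]
  ring

theorem runP_sound {q : ℕ} {rels : List (List ℕ × List ℕ)} {look : ℕ → List ℕ × List ℕ}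
    (hlook : ∀ r < rels.length, look r = rels.getD r ([], []) ∧
      (∀ a ∈ (look r).1, a < 63) ∧ ∀ a ∈ (look r).2, a < 63) :
    ∀ (sts : List Step) (w : List ℕ) (a : ℕ × ℕ) (v : List ℕ) {x' : ℕ} {a' : ℕ × ℕ},
      (∀ l ∈ w, l < 63) → Rep q a v → runP q rels.length look sts (enc w) a = some (x', a') →
      ∃ w' v', runW q rels sts (w, v) = some (w', v') ∧ enc w' = x' ∧ (∀ l ∈ w', l < 63) ∧ Rep q a' v'
  | [], w, a, v, x', a', hw, hr, h => by
    simp only [runP, Option.some.injEq, Prod.mk.injEq] at h
    obtain ⟨rfl, rfl⟩ := h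
    exact ⟨w, v, rfl, rfl, hw, hr⟩
  | (pos, r, fwd) :: sts, w, a, v, x', a', hw, hr, h => by
    simp only [runP, forceN_eq, Nat.blt_eq] at h
    by_cases hlt : r < rels.length
    · obtain ⟨hl, h1, h2⟩ := hlook r hlt
      rw [if_pos hlt] at h
      rw [hl] at h h1 h2
      have key : ∀ old new : List ℕ, (∀ l ∈ old, l < 63) → (∀ l ∈ new, l < 63) →
          ((Nat.beq pos 0 || Nat.ble (64 ^ pos) (64 * enc w)) &&
            Nat.beq (enc w / 64 ^ pos % 64 ^ old.length) (enc old)) = true →
          (w.drop pos).take old.length = old ∧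
          (enc w % 64 ^ pos + 64 ^ pos * (enc new + 64 ^ new.length * (enc w / 64 ^ pos / 64 ^ old.length))) =
            enc (w.take pos ++ new ++ (w.drop pos).drop old.length) ∧
          ∀ l ∈ w.take pos ++ new ++ (w.drop pos).drop old.length, l < 63 := by
        intro old new ho hn hc
        simp only [Bool.and_eq_true, Bool.or_eq_true, Nat.beq_eq, Nat.ble_eq] at hc
        obtain ⟨e1, e2⟩ := step_enc (new := new) hw ho hc.1 hc.2
        refine ⟨e1, e2, fun l hl' => ?_⟩
        simp only [List.mem_append] at hl'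
        rcases hl' with (hl' | hl') | hl'
        · exact hw l (List.mem_of_mem_take hl')
        · exact hn l hl'
        · exact hw l (List.mem_of_mem_drop (List.mem_of_mem_drop hl'))
      cases fwd
      · simp only [Bool.false_eq_true, ↓reduceIte] at h
        split at h
        · rename_i heq
          obtain ⟨e1, e2, e3⟩ := key _ _ h2 h1 heq
          rw [e2] at h
          obtain ⟨w', v', hv', hx, hw', hrep⟩ := runP_sound hlook sts _ _
            (addV q v (smulV q (q - 1) (unitV r))) e3 (hr.add ((Rep.unit q r).smul _)) h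
          refine ⟨w', v', ?_, hx, hw', hrep⟩
          simp only [runW, stepW, hlt, ↓reduceIte, Bool.false_eq_true, e1]
          exact hv'
        · exact absurd h (by simp)
      · simp only [↓reduceIte] at h
        split at h
        · rename_i heq
          obtain ⟨e1, e2, e3⟩ := key _ _ h1 h2 heq
          rw [e2] at h
          obtain ⟨w', v', hv', hx, hw', hrep⟩ := runP_sound hlook sts _ _
            (addV q v (unitV r)) e3 (hr.add (Rep.unit q r)) h
          refine ⟨w', v', ?_, hx, hw', hrep⟩
          simp only [runW, stepW, hlt, ↓reduceIte, e1]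
          exact hv'
        · exact absurd h (by simp)
    · rw [if_neg hlt] at h
      exact absurd h (by simp)

/-- The packed vector of the correction of a word. -/
def lamP (b : ℕ) : List ℕ → ℕ × ℕ
  | [] => (0, 0)
  | k :: w => plusP (B ^ (b + k), 1) (lamP b w)

theorem lamP_rep (q b : ℕ) : ∀ w, Rep q (lamP b w) (lamV q b w)
  | [] => Rep.nil
  | k :: w => (Rep.unit q (b + k)).add (lamP_rep q b w)

/-- The equation of an overlap. -/
noncomputable def ovlP (q nr : ℕ) (look : ℕ → List ℕ × List ℕ) (o : List ℕ × List Step × List Step) :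
    Option (ℕ × ℕ) :=
  if fitsB o.1 then
    match runP q nr look o.2.1 (enc o.1) (0, 0), runP q nr look o.2.2 (enc o.1) (0, 0) with
    | some a, some b => if Nat.beq a.1 b.1 then some (plusP a.2 (timesP (q - 1) b.2)) else none
    | _, _ => none
  else none

/-- The equation of a conjugated relation. -/
noncomputable def fusP (q nr : ℕ) (look : ℕ → List ℕ × List ℕ) (f : Fus) (b : ℕ)
    (e : List ℕ × List ℕ × List Step × List Step) : Option (ℕ × ℕ) :=
  if fitsB (subW f.xs e.1) && fitsB (subW f.ys e.1) && fitsB (subW f.xs e.2.1) &&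
      fitsB (subW f.ys e.2.1) && (e.1 ++ e.2.1).all (fun k => Nat.blt k f.xs.length) then
    match runP q nr look e.2.2.1 (enc (subW f.xs e.1)) (0, 0),
      runP q nr look e.2.2.2 (enc (subW f.ys e.1)) (0, 0) with
    | some x, some y =>
      if Nat.beq x.1 (enc (subW f.xs e.2.1)) && Nat.beq y.1 (enc (subW f.ys e.2.1)) then
        some (plusP (plusP x.2 (lamP b e.2.1)) (timesP (q - 1) (plusP y.2 (lamP b e.1))))
      else none
    | _, _ => none
  else none

/-- The equations of the conjugations. -/
noncomputable def fusPs (q nr : ℕ) (look : ℕ → List ℕ × List ℕ) : ℕ → List Fus → List (Option (ℕ × ℕ))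
  | _, [] => []
  | b, f :: fs => f.rels.map (fusP q nr look f b) ++ fusPs q nr look (b + f.xs.length) fs

/-- All equations. -/
noncomputable def eqsP (c : Cert) (T : List (List (List ℕ × List ℕ))) : List (Option (ℕ × ℕ)) :=
  c.overlaps.map (ovlP c.q c.rels.length (lookR T)) ++
    fusPs c.q c.rels.length (lookR T) c.rels.length c.fus

/-- A packed equation is faithful to the equation. -/
def Faith (q : ℕ) (p : Option (ℕ × ℕ)) (e : Option (List ℕ)) : Prop :=
  ∀ a, p = some a → ∃ v, e = some v ∧ Rep q a v

theorem fitsB_spec {w : List ℕ} (h : fitsB w = true) : ∀ a ∈ w, a < 63 := by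
  simpa [fitsB] using h

theorem ovlP_faith {q : ℕ} {rels : List (List ℕ × List ℕ)} {look : ℕ → List ℕ × List ℕ}
    (hlook : ∀ r < rels.length, look r = rels.getD r ([], []) ∧
      (∀ a ∈ (look r).1, a < 63) ∧ ∀ a ∈ (look r).2, a < 63)
    (o : List ℕ × List Step × List Step) :
    Faith q (ovlP q rels.length look o) (ovlEq q rels o) := by
  intro p h
  unfold ovlP at h
  split at h
  · rename_i hf
    split at h
    · rename_i a b ha hb
      split at h
      · rename_i hab
        rw [Nat.beq_eq] at hab
        rw [Option.some.injEq] at h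
        subst h
        obtain ⟨wa, va, hva, xa, la, ra⟩ := runP_sound hlook _ _ _ [] (fitsB_spec hf) Rep.nil ha
        obtain ⟨wb, vb, hvb, xb, lb, rb⟩ := runP_sound hlook _ _ _ [] (fitsB_spec hf) Rep.nil hb
        have e := enc_inj la lb (xa.trans (hab.trans xb.symm))
        refine ⟨subV q va vb, ?_, ra.add (rb.smul _)⟩
        simp [ovlEq, hva, hvb, e]
      · exact absurd h (by simp)
    · exact absurd h (by simp)
  · exact absurd h (by simp)

theorem fusP_faith {q : ℕ} {rels : List (List ℕ × List ℕ)} {look : ℕ → List ℕ × List ℕ}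
    (hlook : ∀ r < rels.length, look r = rels.getD r ([], []) ∧
      (∀ a ∈ (look r).1, a < 63) ∧ ∀ a ∈ (look r).2, a < 63)
    (f : Fus) (b : ℕ) (e : List ℕ × List ℕ × List Step × List Step) :
    Faith q (fusP q rels.length look f b e) (fusEq q rels f b e) := by
  intro p h
  unfold fusP at h
  split at h
  · rename_i hf
    simp only [Bool.and_eq_true, List.all_eq_true, Nat.blt_eq] at hf
    obtain ⟨⟨⟨⟨f1, f2⟩, f3⟩, f4⟩, f5⟩ := hf
    split at h
    · rename_i x y hx hy
      split at h
      · rename_i hxy
        simp only [Bool.and_eq_true, Nat.beq_eq] at hxy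
        rw [Option.some.injEq] at h
        subst h
        obtain ⟨wx, vx, hvx, xx, lx, rx⟩ := runP_sound hlook _ _ _ [] (fitsB_spec f1) Rep.nil hx
        obtain ⟨wy, vy, hvy, xy, ly, ry⟩ := runP_sound hlook _ _ _ [] (fitsB_spec f2) Rep.nil hy
        have ex := enc_inj lx (fitsB_spec f3) (xx.trans hxy.1)
        have ey := enc_inj ly (fitsB_spec f4) (xy.trans hxy.2)
        refine ⟨_, ?_, (rx.add (lamP_rep q b e.2.1)).add ((ry.add (lamP_rep q b e.1)).smul _)⟩
        simp only [fusEq, hvx, hvy]
        rw [if_pos ⟨ex, ey, f5⟩]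
        rfl
      · exact absurd h (by simp)
    · exact absurd h (by simp)
  · exact absurd h (by simp)

theorem fusPs_faith {q : ℕ} {rels : List (List ℕ × List ℕ)} {look : ℕ → List ℕ × List ℕ}
    (hlook : ∀ r < rels.length, look r = rels.getD r ([], []) ∧
      (∀ a ∈ (look r).1, a < 63) ∧ ∀ a ∈ (look r).2, a < 63) :
    ∀ (fs : List Fus) (b : ℕ),
      List.Forall₂ (Faith q) (fusPs q rels.length look b fs) (fusEqs q rels b fs)
  | [], _ => List.Forall₂.nil
  | f :: fs, b => List.rel_append
      (List.forall₂_map_left_iff.2 (List.forall₂_map_right_iff.2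
        (List.forall₂_same.2 fun e _ => fusP_faith hlook f b e)))
      (fusPs_faith hlook fs (b + f.xs.length))

theorem eqsP_faith {c : Cert} {T : List (List (List ℕ × List ℕ))} (hT : tableB c T = true) :
    List.Forall₂ (Faith c.q) (eqsP c T) c.eqs := by
  have hlook : ∀ r < c.rels.length, lookR T r = c.rels.getD r ([], []) ∧
      (∀ a ∈ (lookR T r).1, a < 63) ∧ ∀ a ∈ (lookR T r).2, a < 63 := by
    intro r hr
    simp only [tableB, List.all_eq_true, List.mem_range, Bool.and_eq_true, eqW_iff] at hT
    obtain ⟨⟨⟨a1, a2⟩, a3⟩, a4⟩ := hT r hr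
    exact ⟨Prod.ext a1 a2, fitsB_spec a3, fitsB_spec a4⟩
  exact List.rel_append (List.forall₂_map_left_iff.2 (List.forall₂_map_right_iff.2
    (List.forall₂_same.2 fun o _ => ovlP_faith hlook o))) (fusPs_faith hlook c.fus _)

/-! ### The listed equations -/

/-- The entries of a number. -/
def lanes : ℕ → ℕ → List ℕ
  | 0, _ => []
  | n + 1, x => x % B :: lanes n (x / B)

/-- The entries of a number are below `q` and there are at most `n`. -/
def smallP (q : ℕ) : ℕ → ℕ → Bool
  | 0, x => Nat.beq x 0
  | n + 1, x => Nat.blt (x % B) q && smallP q n (x / B)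

theorem smallP_rep {q : ℕ} : ∀ (n x : ℕ), smallP q n x = true →
    packN (lanes n x) = x ∧ ∀ i, (lanes n x).getD i 0 ≤ q - 1
  | 0, x, h => by
    simp only [smallP, Nat.beq_eq] at h
    simp [lanes, packN, h]
  | n + 1, x, h => by
    simp only [smallP, Bool.and_eq_true, Nat.blt_eq] at h
    obtain ⟨h1, h2⟩ := smallP_rep n _ h.2
    refine ⟨?_, fun i => ?_⟩
    · simp only [lanes, packN, h1]
      exact Nat.mod_add_div x B
    · cases i with
      | zero => simp only [lanes, List.getD_cons_zero]; omega
      | succ i => simpa [lanes] using h2 i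

/-- The vectors of the listed numbers. -/
def lanesL (n : ℕ) (LP : List ℕ) : List (List ℕ) := LP.map (lanes n)

/-- A stretch of the equations agrees with the listed numbers. -/
noncomputable def eqsPartB (c : Cert) (T : List (List (List ℕ × List ℕ))) (n : ℕ) (LP : List ℕ) (lo k : ℕ) : Bool :=
  (((eqsP c T).drop lo).take k).zip ((LP.drop lo).take k) |>.all fun z =>
    match z.1 with
    | some a => smallP c.q n z.2 && sameP c.q n a (z.2, c.q - 1)
    | none => false

/-- The packed combination; the indices increase and the list starts at the offset. -/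
def combP (q : ℕ) : ℕ → List ℕ → List (ℕ × ℕ) → Option (ℕ × ℕ)
  | _, _, [] => some (0, 0)
  | off, L, (k, c) :: cs =>
    if Nat.ble off k then
      match L.drop (k - off) with
      | [] => none
      | x :: L' =>
        match combP q k (x :: L') cs with
        | some r => some (plusP (timesP c (x, q - 1)) r)
        | none => none
    else none

theorem combP_sound {q n : ℕ} {LP : List ℕ} (hs : ∀ x ∈ LP, smallP q n x = true) :
    ∀ (cs : List (ℕ × ℕ)) (off : ℕ) {r : ℕ × ℕ}, combP q off (LP.drop off) cs = some r →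
      Rep q r (combV q (lanesL n LP) cs)
  | [], _, r, h => by
    simp only [combP, Option.some.injEq] at h
    subst h
    exact Rep.nil
  | (k, c) :: cs, off, r, h => by
    simp only [combP, Nat.ble_eq] at h
    split at h
    · rename_i hle
      rw [List.drop_drop, Nat.add_sub_cancel' hle] at h
      split at h
      · exact absurd h (by simp)
      · rename_i x L' hd
        split at h
        · rename_i r' hr'
          rw [Option.some.injEq] at h
          subst h
          rw [← hd] at hr'
          have ih := combP_sound hs cs k hr'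
          have hk : k < LP.length := by
            by_contra hk
            rw [List.drop_eq_nil_of_le (by omega)] at hd
            exact absurd hd (by simp)
          have hx : LP[k] = x := by
            rw [List.drop_eq_getElem_cons hk] at hd
            exact (List.cons_eq_cons.1 hd).1
          obtain ⟨e1, e2⟩ := smallP_rep n x (hs x (hx ▸ List.getElem_mem hk))
          have he : (lanesL n LP).getD k [] = lanes n x := by
            rw [List.getD_eq_getElem _ _ (by simpa [lanesL] using hk)]
            simp [lanesL, hx]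
          refine Rep.add (Rep.smul c ⟨lanes n x, e1, e2, fun i => ?_⟩) ih
          rw [he]
        · exact absurd h (by simp)
    · exact absurd h (by simp)

/-- The packed vector of a word under the corrections. -/
def muP (q : ℕ) (M : List ℕ) : List ℕ → ℕ × ℕ
  | [] => (0, 0)
  | i :: w => plusP (M.getD i 0, q - 1) (muP q M w)

/-- The packed corrections are those of the certificate. -/
def muOkB (c : Cert) (n : ℕ) (M : List ℕ) : Bool :=
  (List.range (max c.mu.length M.length)).all fun i =>
    Nat.beq (packN (c.mu.getD i [])) (M.getD i 0) && smallP c.q n (M.getD i 0) &&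
      ((c.mu.getD i []).all fun a => Nat.blt a c.q)

theorem muP_rep {c : Cert} {n : ℕ} {M : List ℕ} (h : muOkB c n M = true) :
    ∀ w, Rep c.q (muP c.q M w) (c.muV w)
  | [] => Rep.nil
  | i :: w => by
    refine Rep.add ⟨c.mu.getD i [], ?_, fun j => ?_, fun _ => rfl⟩ (muP_rep h w)
    · simp only [muOkB, List.all_eq_true, List.mem_range, Bool.and_eq_true, Nat.beq_eq] at h
      by_cases hi : i < max c.mu.length M.length
      · exact (h i hi).1.1
      · rw [List.getD_eq_default _ _ (by omega), List.getD_eq_default _ _ (by omega)]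
        rfl
    · simp only [muOkB, List.all_eq_true, List.mem_range, Bool.and_eq_true, Nat.blt_eq] at h
      by_cases hi : i < max c.mu.length M.length
      · by_cases hj : j < (c.mu.getD i []).length
        · rw [List.getD_eq_getElem _ _ hj]
          have := (h i hi).2 _ (List.getElem_mem hj)
          omega
        · rw [List.getD_eq_default _ _ (by omega)]; exact Nat.zero_le _
      · rw [List.getD_eq_default _ _ (show c.mu.length ≤ i by omega)]; simp

/-- The combination for one relation. -/
def comboB (c : Cert) (n : ℕ) (LP M : List ℕ) (tau : ℕ) (r : ℕ) : Bool :=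
  let e := c.combos.getD r ([], 0)
  let rel := c.rels.getD r ([], [])
  match combP c.q 0 LP e.1 with
  | some a =>
    sameP c.q n (plusP (plusP (B ^ r, 1) (muP c.q M rel.1)) (timesP (c.q - 1) (muP c.q M rel.2)))
      (plusP a (timesP e.2 (tau, c.q - 1)))
  | none => false

/-- The combinations of a stretch of relations. -/
def combosPartB (c : Cert) (n : ℕ) (LP M : List ℕ) (tau lo k : ℕ) : Bool :=
  (List.range k).all fun j => Nat.ble c.rels.length (lo + j) || comboB c n LP M tau (lo + j)

/-- The remaining conditions. -/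
noncomputable def restB (c : Cert) (T : List (List (List ℕ × List ℕ))) (n : ℕ) (LP M : List ℕ) (tau : ℕ) : Bool :=
  (c.q == c.p || c.q == c.p * c.p) && c.shapeB && Nat.ble 1 c.q &&
    sameB c.q (smulV c.q c.p c.tau) (combV c.q (lanesL n LP) c.tauCombo) &&
    (c.combos.length == c.rels.length) && Nat.beq (eqsP c T).length LP.length &&
    tableB c T && muOkB c n M &&
    Nat.beq (packN c.tau) tau && (c.tau.all fun a => Nat.blt a c.q)

theorem combV_sim {q : ℕ} {L L' : List (List ℕ)} (h : ∀ k, Sim q (L.getD k []) (L'.getD k [])) :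
    ∀ cs, Sim q (combV q L cs) (combV q L' cs)
  | [] => fun _ => rfl
  | (k, c) :: cs => ((h k).smul c).add (combV_sim h cs)

theorem sim_of_sameB {q : ℕ} {v w : List ℕ} (h : sameB q v w = true) (i : ℕ) :
    (v.getD i 0 + (q - 1) * w.getD i 0) % q = 0 := by
  have hz : ∀ u : List ℕ, zeroB q u = true → ∀ i, u.getD i 0 % q = 0 := by
    intro u hu i
    simp only [zeroB, List.all_eq_true, beq_iff_eq] at hu
    by_cases hi : i < u.length
    · rw [List.getD_eq_getElem _ _ hi]; exact hu _ (List.getElem_mem hi)
    · rw [List.getD_eq_default _ _ (by omega)]; exact Nat.zero_mod q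
  have := hz _ h i
  rwa [getD_addV, Nat.add_mod, getD_smulV, ← Nat.add_mod] at this

/-- The check from its parts; the parts are given by their first places and lengths. -/
theorem checkB_of_parts {c : Cert} {T : List (List (List ℕ × List ℕ))} {n : ℕ} {LP M : List ℕ} {tau : ℕ}
    (hrest : restB c T n LP M tau = true) {P Q : List (ℕ × ℕ)}
    (hP : ∀ a ∈ P, eqsPartB c T n LP a.1 a.2 = true)
    (hPc : ∀ k < LP.length, ∃ a ∈ P, a.1 ≤ k ∧ k < a.1 + a.2)
    (hQ : ∀ a ∈ Q, combosPartB c n LP M tau a.1 a.2 = true)
    (hQc : ∀ k < c.rels.length, ∃ a ∈ Q, a.1 ≤ k ∧ k < a.1 + a.2) : c.checkB = true := by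
  simp only [restB, Bool.and_eq_true, beq_iff_eq, Nat.beq_eq, Nat.ble_eq, List.all_eq_true,
    Nat.blt_eq] at hrest
  obtain ⟨⟨⟨⟨⟨⟨⟨⟨⟨hqp, hshape⟩, hq⟩, htau⟩, hlen⟩, hel⟩, hT⟩, hM⟩, htp⟩, htb⟩ := hrest
  have hsmall : ∀ x ∈ LP, smallP c.q n x = true := by
    intro x hx
    obtain ⟨k, hk, rfl⟩ := List.getElem_of_mem hx
    obtain ⟨a, ha, hlo, hhi⟩ := hPc k hk
    have h := hP a ha
    simp only [eqsPartB, List.all_eq_true] at h
    have hkP : k < (eqsP c T).length := by omega
    have hmem : ((eqsP c T)[k], LP[k]) ∈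
        (((eqsP c T).drop a.1).take a.2).zip ((LP.drop a.1).take a.2) := by
      refine List.mem_iff_getElem.2 ⟨k - a.1, ?_, ?_⟩
      · simp only [List.length_zip, List.length_take, List.length_drop]; omega
      · simp [List.getElem_zip, List.getElem_take, List.getElem_drop, Nat.add_sub_cancel' hlo]
    have h' := h _ hmem
    cases hp : (eqsP c T)[k] with
    | none => simp [hp] at h'
    | some p =>
      simp only [hp, Bool.and_eq_true] at h'
      exact h'.1
  have hf := eqsP_faith hT
  have hl := hf.length_eq
  -- each equation exists and agrees with the listed one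
  have key : ∀ k, ∀ hk : k < c.eqs.length, ∃ v, c.eqs[k] = some v ∧
      Sim c.q v ((lanesL n LP).getD k []) := by
    intro k hk
    obtain ⟨a, ha, hlo, hhi⟩ := hPc k (by omega)
    have h := hP a ha
    simp only [eqsPartB, List.all_eq_true] at h
    have hkP : k < (eqsP c T).length := by omega
    have hkL : k < LP.length := by omega
    have hmem : ((eqsP c T)[k], LP[k]) ∈
        (((eqsP c T).drop a.1).take a.2).zip ((LP.drop a.1).take a.2) := by
      refine List.mem_iff_getElem.2 ⟨k - a.1, ?_, ?_⟩
      · simp only [List.length_zip, List.length_take, List.length_drop]; omega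
      · simp [List.getElem_zip, List.getElem_take, List.getElem_drop, Nat.add_sub_cancel' hlo]
    have h' := h _ hmem
    cases hp : (eqsP c T)[k] with
    | none => simp [hp] at h'
    | some p =>
      simp only [hp, Bool.and_eq_true] at h'
      obtain ⟨v, hv, hr⟩ := (List.forall₂_iff_get.1 hf).2 k hkP hk p hp
      refine ⟨v, hv, ?_⟩
      obtain ⟨e1, e2⟩ := smallP_rep n _ h'.1
      rw [List.getD_eq_getElem _ _ (by simpa [lanesL] using hkL)]
      simp only [lanesL, List.getElem_map]
      exact sameP_sound hr ⟨_, e1, e2, fun _ => rfl⟩ h'.2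
  set vs := c.eqs.map fun e => e.getD [] with hvs
  have hsim : ∀ k, Sim c.q (vs.getD k []) ((lanesL n LP).getD k []) := by
    intro k
    by_cases hk : k < c.eqs.length
    · obtain ⟨v, hv, hs⟩ := key k hk
      rw [List.getD_eq_getElem _ _ (by simpa [hvs] using hk)]
      simpa [hvs, hv] using hs
    · rw [List.getD_eq_default _ _ (by simp [hvs]; omega),
        List.getD_eq_default _ _ (by simp [lanesL]; omega)]
      exact fun _ => rfl
  have htauR : Rep c.q (tau, c.q - 1) c.tau := ⟨c.tau, htp, fun i => by
    by_cases hi : i < c.tau.length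
    · rw [List.getD_eq_getElem _ _ hi]
      have := htb _ (List.getElem_mem hi)
      show _ ≤ c.q - 1
      omega
    · rw [List.getD_eq_default _ _ (by omega)]; exact Nat.zero_le _, fun _ => rfl⟩
  simp only [Cert.checkB, Bool.and_eq_true, List.all_eq_true, List.mem_range, beq_iff_eq]
  refine ⟨⟨⟨⟨⟨hqp, fun e he => ?_⟩, hshape⟩, ?_⟩, hlen⟩, fun r hr => ?_⟩
  · obtain ⟨k, hk, rfl⟩ := List.getElem_of_mem he
    obtain ⟨v, hv, -⟩ := key k hk
    rw [hv]; rfl
  · refine zeroB_of_getD fun i => ?_
    rw [getD_addV, Nat.add_mod, getD_smulV c.q (c.q - 1), Nat.mul_mod, combV_sim hsim c.tauCombo i,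
      ← Nat.mul_mod, ← Nat.add_mod]
    exact sim_of_sameB htau i
  · obtain ⟨a, ha, hlo, hhi⟩ := hQc r hr
    have h := hQ a ha
    simp only [combosPartB, List.all_eq_true, List.mem_range, Bool.or_eq_true, Nat.ble_eq] at h
    have e := (h (r - a.1) (by omega)).resolve_left (by omega)
    rw [Nat.add_sub_cancel' hlo] at e
    simp only [comboB] at e
    split at e
    · rename_i p hp
      have hcomb := combP_sound (LP := LP) hsmall _ 0 (by simpa using hp)
      have hs := sameP_sound
        (((Rep.unit c.q r).add (muP_rep hM _)).add ((muP_rep hM _).smul (c.q - 1)))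
        (hcomb.add (htauR.smul _)) e
      refine sameB_of_sim hq fun i => ?_
      rw [getD_addV c.q (combV c.q vs _), Nat.add_mod, combV_sim hsim _ i, ← Nat.add_mod, ← getD_addV]
      exact hs i
    · exact absurd e (by simp)

end CfsgLib.Schur.Tails.Pack
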