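import Cfsg.Agent.Lib.Tails.Co1TwoData
import Cfsg.Agent.Lib.Tails.PackCheck
import Cfsg.Agent.Lib.Tails.RigidSplit
import Cfsg.Agent.Lib.Rigid.Co1Data

/-!
# The checks of the certificate at 2 for the multiplier of Co1
-/

set_option autoImplicit false
set_option maxRecDepth 100000
set_option maxHeartbeats 0

namespace CfsgLib.Schur.Tails.RigidCert.CoOne

open CfsgLib.TailsData Pack

theorem two_rest : Pack.restB twoCo1TailCert twoCo1TailTable 289 twoCo1TailPacked twoCo1TailPackedMu twoCo1TailPackedTau = true := by decide +kernel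

theorem two_eqs0 : Pack.eqsPartB twoCo1TailCert twoCo1TailTable 289 twoCo1TailPacked 0 25 = true := by decide +kernel

theorem two_eqs1 : Pack.eqsPartB twoCo1TailCert twoCo1TailTable 289 twoCo1TailPacked 25 25 = true := by decide +kernel

theorem two_eqs2 : Pack.eqsPartB twoCo1TailCert twoCo1TailTable 289 twoCo1TailPacked 50 25 = true := by decide +kernel

theorem two_eqs3 : Pack.eqsPartB twoCo1TailCert twoCo1TailTable 289 twoCo1TailPacked 75 25 = true := by decide +kernel

theorem two_eqs4 : Pack.eqsPartB twoCo1TailCert twoCo1TailTable 289 twoCo1TailPacked 100 25 = true := by decide +kernel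

theorem two_eqs5 : Pack.eqsPartB twoCo1TailCert twoCo1TailTable 289 twoCo1TailPacked 125 25 = true := by decide +kernel

theorem two_eqs6 : Pack.eqsPartB twoCo1TailCert twoCo1TailTable 289 twoCo1TailPacked 150 25 = true := by decide +kernel

theorem two_eqs7 : Pack.eqsPartB twoCo1TailCert twoCo1TailTable 289 twoCo1TailPacked 175 25 = true := by decide +kernel

theorem two_eqs8 : Pack.eqsPartB twoCo1TailCert twoCo1TailTable 289 twoCo1TailPacked 200 25 = true := by decide +kernel

theorem two_eqs9 : Pack.eqsPartB twoCo1TailCert twoCo1TailTable 289 twoCo1TailPacked 225 25 = true := by decide +kernel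

theorem two_eqs10 : Pack.eqsPartB twoCo1TailCert twoCo1TailTable 289 twoCo1TailPacked 250 25 = true := by decide +kernel

theorem two_eqs11 : Pack.eqsPartB twoCo1TailCert twoCo1TailTable 289 twoCo1TailPacked 275 25 = true := by decide +kernel

theorem two_eqs12 : Pack.eqsPartB twoCo1TailCert twoCo1TailTable 289 twoCo1TailPacked 300 25 = true := by decide +kernel

theorem two_eqs13 : Pack.eqsPartB twoCo1TailCert twoCo1TailTable 289 twoCo1TailPacked 325 25 = true := by decide +kernel

theorem two_combos0 : Pack.combosPartB twoCo1TailCert 289 twoCo1TailPacked twoCo1TailPackedMu twoCo1TailPackedTau 0 21 = true := by decide +kernel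

theorem two_combos1 : Pack.combosPartB twoCo1TailCert 289 twoCo1TailPacked twoCo1TailPackedMu twoCo1TailPackedTau 21 21 = true := by decide +kernel

theorem two_combos2 : Pack.combosPartB twoCo1TailCert 289 twoCo1TailPacked twoCo1TailPackedMu twoCo1TailPackedTau 42 21 = true := by decide +kernel

theorem two_combos3 : Pack.combosPartB twoCo1TailCert 289 twoCo1TailPacked twoCo1TailPackedMu twoCo1TailPackedTau 63 21 = true := by decide +kernel

theorem two_combos4 : Pack.combosPartB twoCo1TailCert 289 twoCo1TailPacked twoCo1TailPackedMu twoCo1TailPackedTau 84 21 = true := by decide +kernel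

theorem two_combos5 : Pack.combosPartB twoCo1TailCert 289 twoCo1TailPacked twoCo1TailPackedMu twoCo1TailPackedTau 105 21 = true := by decide +kernel

theorem two_combos6 : Pack.combosPartB twoCo1TailCert 289 twoCo1TailPacked twoCo1TailPackedMu twoCo1TailPackedTau 126 21 = true := by decide +kernel

theorem two_combos7 : Pack.combosPartB twoCo1TailCert 289 twoCo1TailPacked twoCo1TailPackedMu twoCo1TailPackedTau 147 21 = true := by decide +kernel

theorem two_combos8 : Pack.combosPartB twoCo1TailCert 289 twoCo1TailPacked twoCo1TailPackedMu twoCo1TailPackedTau 168 21 = true := by decide +kernel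

theorem two_combos9 : Pack.combosPartB twoCo1TailCert 289 twoCo1TailPacked twoCo1TailPackedMu twoCo1TailPackedTau 189 21 = true := by decide +kernel

theorem two_combos10 : Pack.combosPartB twoCo1TailCert 289 twoCo1TailPacked twoCo1TailPackedMu twoCo1TailPackedTau 210 21 = true := by decide +kernel

theorem two_lengths : twoCo1TailCert.rels.length ≤ 231 ∧ twoCo1TailPacked.length ≤ 350 := by
  constructor <;> decide +kernel

theorem two_cert : twoCo1TailCert.checkB = true := by
  obtain ⟨h1, h2⟩ := two_lengths
  refine Pack.checkB_of_parts two_rest (P := (List.range 14).map fun k => (25 * k, 25))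
    (Q := (List.range 11).map fun k => (21 * k, 21)) ?_ ?_ ?_ ?_
  · intro a ha
    obtain ⟨k, hk, rfl⟩ := List.mem_map.1 ha
    have hk' := List.mem_range.1 hk
    interval_cases k
    exacts [two_eqs0, two_eqs1, two_eqs2, two_eqs3, two_eqs4, two_eqs5, two_eqs6, two_eqs7, two_eqs8, two_eqs9, two_eqs10, two_eqs11, two_eqs12, two_eqs13]
  · intro k hk
    exact ⟨(25 * (k / 25), 25), List.mem_map.2 ⟨k / 25, List.mem_range.2 (by omega), rfl⟩, by
      simp only; omega, by simp only; omega⟩
  · intro a ha
    obtain ⟨k, hk, rfl⟩ := List.mem_map.1 ha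
    have hk' := List.mem_range.1 hk
    interval_cases k
    exacts [two_combos0, two_combos1, two_combos2, two_combos3, two_combos4, two_combos5, two_combos6, two_combos7, two_combos8, two_combos9, two_combos10]
  · intro k hk
    exact ⟨(21 * (k / 21), 21), List.mem_map.2 ⟨k / 21, List.mem_range.2 (by omega), rfl⟩, by
      simp only; omega, by simp only; omega⟩

/-- The codes known after 0 parts. -/
noncomputable def twoKnown0 : List (List ℕ) := [CfsgLib.Rigid.Co1.cU, CfsgLib.Rigid.Co1.cV, CfsgLib.Rigid.Co1.cW]

/-- The codes known after 1 parts. -/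
noncomputable def twoKnown1 : List (List ℕ) := twoKnown0 ++ twoCo1TailPart0.map CfsgLib.Rigid.Op.M

/-- The codes known after 2 parts. -/
noncomputable def twoKnown2 : List (List ℕ) := twoKnown1 ++ twoCo1TailPart1.map CfsgLib.Rigid.Op.M

/-- The codes known after 3 parts. -/
noncomputable def twoKnown3 : List (List ℕ) := twoKnown2 ++ twoCo1TailPart2.map CfsgLib.Rigid.Op.M

/-- The codes known after 4 parts. -/
noncomputable def twoKnown4 : List (List ℕ) := twoKnown3 ++ twoCo1TailPart3.map CfsgLib.Rigid.Op.M

/-- The codes known after 5 parts. -/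
noncomputable def twoKnown5 : List (List ℕ) := twoKnown4 ++ twoCo1TailPart4.map CfsgLib.Rigid.Op.M

/-- The codes known after 6 parts. -/
noncomputable def twoKnown6 : List (List ℕ) := twoKnown5 ++ twoCo1TailPart5.map CfsgLib.Rigid.Op.M

/-- The codes known after 7 parts. -/
noncomputable def twoKnown7 : List (List ℕ) := twoKnown6 ++ twoCo1TailPart6.map CfsgLib.Rigid.Op.M

/-- The codes known after 8 parts. -/
noncomputable def twoKnown8 : List (List ℕ) := twoKnown7 ++ twoCo1TailPart7.map CfsgLib.Rigid.Op.M

theorem two_refs0 : refsB CfsgLib.Rigid.Co1.one twoKnown0 twoCo1TailRef0 twoCo1TailInp0 = true := by decide +kernel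

theorem two_part0 : CfsgLib.Rigid.slpOk CfsgLib.Rigid.Co1.one twoCo1TailPart0 twoCo1TailInp0 = true := by decide +kernel

theorem two_refs1 : refsB CfsgLib.Rigid.Co1.one twoKnown1 twoCo1TailRef1 twoCo1TailInp1 = true := by decide +kernel

theorem two_part1 : CfsgLib.Rigid.slpOk CfsgLib.Rigid.Co1.one twoCo1TailPart1 twoCo1TailInp1 = true := by decide +kernel

theorem two_refs2 : refsB CfsgLib.Rigid.Co1.one twoKnown2 twoCo1TailRef2 twoCo1TailInp2 = true := by decide +kernel

theorem two_part2 : CfsgLib.Rigid.slpOk CfsgLib.Rigid.Co1.one twoCo1TailPart2 twoCo1TailInp2 = true := by decide +kernel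

theorem two_refs3 : refsB CfsgLib.Rigid.Co1.one twoKnown3 twoCo1TailRef3 twoCo1TailInp3 = true := by decide +kernel

theorem two_part3 : CfsgLib.Rigid.slpOk CfsgLib.Rigid.Co1.one twoCo1TailPart3 twoCo1TailInp3 = true := by decide +kernel

theorem two_refs4 : refsB CfsgLib.Rigid.Co1.one twoKnown4 twoCo1TailRef4 twoCo1TailInp4 = true := by decide +kernel

theorem two_part4 : CfsgLib.Rigid.slpOk CfsgLib.Rigid.Co1.one twoCo1TailPart4 twoCo1TailInp4 = true := by decide +kernel

theorem two_refs5 : refsB CfsgLib.Rigid.Co1.one twoKnown5 twoCo1TailRef5 twoCo1TailInp5 = true := by decide +kernel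

theorem two_part5 : CfsgLib.Rigid.slpOk CfsgLib.Rigid.Co1.one twoCo1TailPart5 twoCo1TailInp5 = true := by decide +kernel

theorem two_refs6 : refsB CfsgLib.Rigid.Co1.one twoKnown6 twoCo1TailRef6 twoCo1TailInp6 = true := by decide +kernel

theorem two_part6 : CfsgLib.Rigid.slpOk CfsgLib.Rigid.Co1.one twoCo1TailPart6 twoCo1TailInp6 = true := by decide +kernel

theorem two_refs7 : refsB CfsgLib.Rigid.Co1.one twoKnown7 twoCo1TailRef7 twoCo1TailInp7 = true := by decide +kernel

theorem two_part7 : CfsgLib.Rigid.slpOk CfsgLib.Rigid.Co1.one twoCo1TailPart7 twoCo1TailInp7 = true := by decide +kernel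

theorem two_gens : refsB CfsgLib.Rigid.Co1.one twoKnown8 twoCo1TailGi twoCo1TailGens = true := by decide +kernel

theorem two_hs : refsB CfsgLib.Rigid.Co1.one twoKnown8 twoCo1TailHi twoCo1TailHs = true := by decide +kernel

theorem two_coded {G : Type} [Group G] (c : CfsgLib.Rigid.Cod G) (h1 : c.C 1 = CfsgLib.Rigid.Co1.one)
    (h0 : AllCoded c twoKnown0) : AllCoded c twoCo1TailGens ∧ AllCoded c twoCo1TailHs := by
  have h1' : AllCoded c twoKnown1 := allCoded_part c h1 h0 two_refs0 two_part0
  have h2' : AllCoded c twoKnown2 := allCoded_part c h1 h1' two_refs1 two_part1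
  have h3' : AllCoded c twoKnown3 := allCoded_part c h1 h2' two_refs2 two_part2
  have h4' : AllCoded c twoKnown4 := allCoded_part c h1 h3' two_refs3 two_part3
  have h5' : AllCoded c twoKnown5 := allCoded_part c h1 h4' two_refs4 two_part4
  have h6' : AllCoded c twoKnown6 := allCoded_part c h1 h5' two_refs5 two_part5
  have h7' : AllCoded c twoKnown7 := allCoded_part c h1 h6' two_refs6 two_part6
  have h8' : AllCoded c twoKnown8 := allCoded_part c h1 h7' two_refs7 two_part7
  exact ⟨allCoded_refs c h8' two_gens, allCoded_refs c h8' two_hs⟩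

theorem two_rels : relsB CfsgLib.Rigid.Co1.one twoCo1TailGens twoCo1TailHs twoCo1TailCert = true := by decide +kernel

theorem two_layers : layersB twoCo1TailCert.p CfsgLib.Rigid.Co1.one twoCo1TailGens [] twoCo1TailLayers = true ∧
    twoCo1TailCert.p ^ twoCo1TailCert.n ≤ layersM twoCo1TailLayers := by
  constructor <;> decide +kernel

theorem two_sizes : twoCo1TailCert.p = 2 ∧ twoCo1TailCert.q = 4 ∧ twoCo1TailCert.n = 21 := by
  refine ⟨?_, ?_, ?_⟩ <;> decide +kernel

end CfsgLib.Schur.Tails.RigidCert.CoOne
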