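import Cfsg.Agent.Lib.Rigid.Co1Out
import Cfsg.Agent.Lib.Tails.Co1TwoCheck
import Cfsg.Agent.Lib.Tails.Co1ThreeCheck
import Cfsg.Agent.Lib.Tails.Co1FiveCheck
import Cfsg.Agent.Lib.Tails.Co1SevenCheck
import Cfsg.Agent.Lib.Tails.SLNine

/-!
# The multiplier of the first Conway group
-/

set_option autoImplicit false
set_option maxRecDepth 100000

namespace CfsgLib.Schur.Tails.RigidCert.CoOne

open Cfsg CfsgLib.Golay CfsgLib.Leech CfsgLib.Leech.ConwaySimple CfsgLib.Rigid CfsgLib.TailsData
open scoped commutatorElement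

attribute [local irreducible] twoCo1TailCert threeCo1TailCert fiveCo1TailCert sevenCo1TailCert
  twoCo1TailHs threeCo1TailHs fiveCo1TailHs sevenCo1TailHs twoCo1TailGens threeCo1TailGens
  fiveCo1TailGens sevenCo1TailGens twoCo1TailLayers threeCo1TailLayers fiveCo1TailLayers sevenCo1TailLayers

theorem signAut_univ (h : CodeSet (Finset.univ : Finset GolayPt)) : signAut Finset.univ h = negAut :=
  co_ext fun v => Subtype.ext (funext fun i => by
    simp [coe_signAut_smul, signFlip_apply, coe_negAut_smul])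

theorem commutator_co1 : commutator (Co0 ⧸ Subgroup.center Co0) = ⊤ := by
  have := finite_co1
  have := isCo1.1
  rcases (inferInstance : (commutator (Co0 ⧸ Subgroup.center Co0)).Normal).eq_bot_or_eq_top with h | h
  · exfalso
    have hab : ∀ x y : Co0 ⧸ Subgroup.center Co0, x * y = y * x := fun x y => by
      have hm : ⁅x, y⁆ ∈ commutator (Co0 ⧸ Subgroup.center Co0) :=
        Subgroup.commutator_mem_commutator (Subgroup.mem_top x) (Subgroup.mem_top y)
      rw [h, Subgroup.mem_bot] at hm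
      exact commutatorElement_eq_one_iff_mul_comm.1 hm
    have htop : Subgroup.zpowers (mk1 s23) = ⊤ := eq_top_iff.2 fun x _ => cent_co1 x (hab _ _)
    have := Nat.card_zpowers (mk1 s23)
    rw [htop, Subgroup.card_top, card_co1, orderOf_mk_s23] at this
    norm_num at this
  · exact h

theorem stem_cover : Cfsg.IsStemExtension (mk1 : Co0 →* Co0 ⧸ Subgroup.center Co0) := by
  have := CfsgLib.Leech.ConwaySimple.finite_co0
  have := finite_co1
  refine ⟨QuotientGroup.mk'_surjective _, (QuotientGroup.ker_mk' _).le, ?_⟩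
  rw [QuotientGroup.ker_mk']
  intro z hz
  rcases mem_center_iff_neg.1 hz with rfl | rfl
  · exact one_mem _
  set K := commutator Co0 with hK
  have hmap : K.map mk1 = ⊤ := by
    rw [hK, commutator_def, Subgroup.map_commutator,
      Subgroup.map_top_of_surjective _ (QuotientGroup.mk'_surjective _), ← commutator_def, commutator_co1]
  have h1 : Nat.card (Co0 ⧸ Subgroup.center Co0) ≤ Nat.card K := by
    rw [← Subgroup.card_top, ← hmap]
    exact Nat.le_of_dvd Nat.card_pos (K.card_map_dvd mk1)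
  have h2 := K.card_mul_index
  have h3 : Nat.card Co0 = 2 * Nat.card (Co0 ⧸ Subgroup.center Co0) := by
    rw [card_co0, card_co1]
  have hidx : K.index ≤ 2 := by
    have h4 : Nat.card K * K.index ≤ Nat.card K * 2 := by
      rw [h2, h3, mul_comm _ 2]
      exact Nat.mul_le_mul_left 2 h1
    exact Nat.le_of_mul_le_mul_left h4 Nat.card_pos
  have hlt : K.index < 244823040 := lt_of_le_of_lt hidx (by norm_num)
  have hu : CodeSet (Finset.univ : Finset GolayPt) := codeSet_univ
  rw [← signAut_univ hu]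
  exact sign_le (perm_le hlt) hu

theorem bound {E : Type} [Group E] [Finite E] (σ : E →* Co0 ⧸ Subgroup.center Co0)
    (hσ : Cfsg.IsStemExtension σ) : IsCyclic σ.ker ∧ Nat.card σ.ker ∣ 2 := by
  have := finite_co1
  obtain ⟨U, hU⟩ := CfsgLib.Rigid.Co1.exists_gen CfsgLib.Rigid.Co1.autU_ok
  obtain ⟨V, hV⟩ := CfsgLib.Rigid.Co1.exists_gen CfsgLib.Rigid.Co1.autV_ok
  obtain ⟨W, hW⟩ := CfsgLib.Rigid.Co1.exists_gen CfsgLib.Rigid.Co1.autW_ok
  obtain ⟨cu, cv, cw, -⟩ := CfsgLib.Rigid.Co1.code_ok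
  simp only [eqL_iff] at cu cv cw
  let c := CfsgLib.Rigid.Co1.act
  have h1 : c.C 1 = CfsgLib.Rigid.Co1.one := CfsgLib.Rigid.Co1.one_eq
  have hinj : Function.Injective c.C := CfsgLib.Rigid.Co1.injective_act
  have hb : AllCoded c [CfsgLib.Rigid.Co1.cU, CfsgLib.Rigid.Co1.cV, CfsgLib.Rigid.Co1.cW] := by
    intro M hM
    simp only [List.mem_cons, List.not_mem_nil, or_false] at hM
    rcases hM with rfl | rfl | rfl
    exacts [⟨U, hU.trans cu⟩, ⟨V, hV.trans cv⟩, ⟨W, hW.trans cw⟩]
  obtain ⟨a2, b2, n2⟩ := two_sizes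
  obtain ⟨a3, b3, t3, n3⟩ := three_sizes
  obtain ⟨a5, b5, t5, n5⟩ := five_sizes
  obtain ⟨a7, b7, t7, n7⟩ := seven_sizes
  have hne : ∀ p : ℕ, p.Prime → p ≠ 2 → ¬ p ∣ Nat.card σ.ker := by
    intro p hp hp2
    have := Fact.mk hp
    by_cases hsq : p ^ 2 ∣ Nat.card (Co0 ⧸ Subgroup.center Co0)
    · have h357 : p = 3 ∨ p = 5 ∨ p = 7 := by
        by_contra hcon
        push Not at hcon
        obtain ⟨e3, e5, e7⟩ := hcon
        rw [card_co1, show (4157776806543360000 : ℕ) =
          (2 ^ 21 * 3 ^ 9 * 5 ^ 4 * 7 ^ 2) * (11 * (13 * 23)) by norm_num] at hsq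
        have hco : Nat.Coprime (p ^ 2) (2 ^ 21 * 3 ^ 9 * 5 ^ 4 * 7 ^ 2) :=
          ((Nat.Coprime.mul_right
            (Nat.Coprime.pow 2 21 ((Nat.coprime_primes hp Nat.prime_two).2 hp2))
            (Nat.Coprime.pow 2 9 ((Nat.coprime_primes hp Nat.prime_three).2 e3))).mul_right
            (Nat.Coprime.pow 2 4 ((Nat.coprime_primes hp Nat.prime_five).2 e5))).mul_right
            (Nat.Coprime.pow 2 2 ((Nat.coprime_primes hp (by norm_num)).2 e7))
        have hsf : Squarefree (11 * (13 * 23)) := by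
          rw [Nat.squarefree_mul (by norm_num), Nat.squarefree_mul (by norm_num)]
          exact ⟨(by norm_num : Nat.Prime 11).squarefree, (by norm_num : Nat.Prime 13).squarefree,
            (by norm_num : Nat.Prime 23).squarefree⟩
        exact hp.not_isUnit (hsf p (by rw [← pow_two]; exact hco.dvd_of_dvd_mul_left hsq))
      rcases h357 with rfl | rfl | rfl
      · have : Fact threeCo1TailCert.p.Prime := ⟨a3 ▸ hp⟩
        exact (realised_parts c hinj h1 (three_coded c h1 hb).1 (three_coded c h1 hb).2 three_cert three_rels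
          three_layers.1 three_layers.2 (by rw [a3, n3, card_co1]; decide)).not_dvd a3 b3 t3 hσ
      · have : Fact fiveCo1TailCert.p.Prime := ⟨a5 ▸ hp⟩
        exact (realised_parts c hinj h1 (five_coded c h1 hb).1 (five_coded c h1 hb).2 five_cert five_rels
          five_layers.1 five_layers.2 (by rw [a5, n5, card_co1]; decide)).not_dvd a5 b5 t5 hσ
      · have : Fact sevenCo1TailCert.p.Prime := ⟨a7 ▸ hp⟩
        exact (realised_parts c hinj h1 (seven_coded c h1 hb).1 (seven_coded c h1 hb).2 seven_cert seven_rels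
          seven_layers.1 seven_layers.2 (by rw [a7, n7, card_co1]; decide)).not_dvd a7 b7 t7 hσ
    · exact not_dvd_of_sq hσ hsq
  have h4 : ¬ 2 ^ 2 ∣ Nat.card σ.ker := by
    have : Fact (Nat.Prime 2) := ⟨Nat.prime_two⟩
    have : Fact twoCo1TailCert.p.Prime := ⟨a2 ▸ Nat.prime_two⟩
    exact (realised_parts c hinj h1 (two_coded c h1 hb).1 (two_coded c h1 hb).2 two_cert two_rels
      two_layers.1 two_layers.2 (by rw [a2, n2, card_co1]; decide)).sq_not_dvd a2 b2 hσ
  have hdvd : Nat.card σ.ker ∣ 2 := by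
    rw [Nat.dvd_iff_prime_pow_dvd_dvd]
    intro p k hp hpk
    rcases Nat.eq_zero_or_pos k with rfl | hk
    · simp
    obtain rfl : p = 2 := by
      by_contra hne2
      exact hne p hp hne2 ((dvd_pow_self p hk.ne').trans hpk)
    have : k ≤ 1 := by
      by_contra hcon
      exact h4 ((pow_dvd_pow 2 (by omega)).trans hpk)
    exact (pow_dvd_pow 2 this).trans (by norm_num)
  refine ⟨?_, hdvd⟩
  rcases (Nat.dvd_prime Nat.prime_two).1 hdvd with h | h
  · have : Subsingleton σ.ker := (Nat.card_eq_one_iff_unique.1 h).1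
    infer_instance
  · have : Fact (Nat.Prime 2) := ⟨Nat.prime_two⟩
    exact isCyclic_of_prime_card (p := 2) h

theorem multiplier : Cfsg.HasCyclicSchurMultiplier (Co0 ⧸ Subgroup.center Co0) 2 := by
  have := CfsgLib.Leech.ConwaySimple.finite_co0
  have := finite_co1
  refine hasCyclic_of_bound ⟨↥Co0, inferInstance, inferInstance, mk1, stem_cover, ?_⟩
    (fun Γ _ _ σ hσ => bound σ hσ)
  have hc : Nat.card (mk1 : Co0 →* Co0 ⧸ Subgroup.center Co0).ker = 2 := by
    rw [QuotientGroup.ker_mk', card_center_co0]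
  have : Fact (Nat.Prime 2) := ⟨Nat.prime_two⟩
  exact ⟨mulEquivOfPrimeCardEq (p := 2) hc (by rw [Nat.card_congr Multiplicative.toAdd, Nat.card_zmod])⟩

end CfsgLib.Schur.Tails.RigidCert.CoOne
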