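import Cfsg.Agent.Lib.Tails.Co2ThreeData
import Cfsg.Agent.Lib.Rigid.Co2Data

/-!
# The checks of the certificate at 3 for the multiplier of Co2
-/

set_option autoImplicit false
set_option maxRecDepth 100000
set_option maxHeartbeats 0

namespace CfsgLib.Schur.Tails.RigidCert.Co2

open CfsgLib.TailsData

theorem three_cert : threeCo2TailCert.checkB = true := by decide +kernel

theorem three_data : primeB CfsgLib.Rigid.Co2.data.one
    [CfsgLib.Rigid.Co2.data.u, CfsgLib.Rigid.Co2.data.v, CfsgLib.Rigid.Co2.data.w]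
    threeCo2TailOps threeCo2TailGi threeCo2TailHi threeCo2TailLayers threeCo2TailCert = true := by decide +kernel

theorem three_sizes : threeCo2TailCert.p = 3 ∧ threeCo2TailCert.q = 3 ∧ threeCo2TailCert.tau = [] ∧
    threeCo2TailCert.n = 6 := by
  refine ⟨?_, ?_, ?_, ?_⟩ <;> decide +kernel

end CfsgLib.Schur.Tails.RigidCert.Co2
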