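import Cfsg.Agent.Lib.Tails.Co2TwoData
import Cfsg.Agent.Lib.Tails.EqsSplit
import Cfsg.Agent.Lib.Tails.RigidSplit
import Cfsg.Agent.Lib.Rigid.Co2Data

/-!
# The checks of the certificate at 2 for the multiplier of Co2
-/

set_option autoImplicit false
set_option maxRecDepth 100000
set_option maxHeartbeats 0

namespace CfsgLib.Schur.Tails.RigidCert.Co2

open CfsgLib.TailsData EqsSplit

theorem two_rest : restB twoCo2TailCert twoCo2TailEqs = true := by decide +kernel

theorem two_eqs_0 : eqsPartB twoCo2TailCert twoCo2TailEqs 0 20 = true := by decide +kernel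

theorem two_eqs_1 : eqsPartB twoCo2TailCert twoCo2TailEqs 20 20 = true := by decide +kernel

theorem two_eqs_2 : eqsPartB twoCo2TailCert twoCo2TailEqs 40 20 = true := by decide +kernel

theorem two_eqs_3 : eqsPartB twoCo2TailCert twoCo2TailEqs 60 20 = true := by decide +kernel

theorem two_eqs_4 : eqsPartB twoCo2TailCert twoCo2TailEqs 80 20 = true := by decide +kernel

theorem two_eqs_5 : eqsPartB twoCo2TailCert twoCo2TailEqs 100 20 = true := by decide +kernel

theorem two_eqs_6 : eqsPartB twoCo2TailCert twoCo2TailEqs 120 20 = true := by decide +kernel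

theorem two_eqs_7 : eqsPartB twoCo2TailCert twoCo2TailEqs 140 20 = true := by decide +kernel

theorem two_eqs_8 : eqsPartB twoCo2TailCert twoCo2TailEqs 160 20 = true := by decide +kernel

theorem two_eqs : ∀ k < 9, eqsPartB twoCo2TailCert twoCo2TailEqs (20 * k) 20 = true := by
  intro k hk
  interval_cases k
  exacts [two_eqs_0, two_eqs_1, two_eqs_2, two_eqs_3, two_eqs_4, two_eqs_5, two_eqs_6, two_eqs_7, two_eqs_8]

theorem two_combos_0 : combosPartB twoCo2TailCert twoCo2TailEqs 0 19 = true := by decide +kernel

theorem two_combos_1 : combosPartB twoCo2TailCert twoCo2TailEqs 19 19 = true := by decide +kernel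

theorem two_combos_2 : combosPartB twoCo2TailCert twoCo2TailEqs 38 19 = true := by decide +kernel

theorem two_combos_3 : combosPartB twoCo2TailCert twoCo2TailEqs 57 19 = true := by decide +kernel

theorem two_combos_4 : combosPartB twoCo2TailCert twoCo2TailEqs 76 19 = true := by decide +kernel

theorem two_combos_5 : combosPartB twoCo2TailCert twoCo2TailEqs 95 19 = true := by decide +kernel

theorem two_combos_6 : combosPartB twoCo2TailCert twoCo2TailEqs 114 19 = true := by decide +kernel

theorem two_combos_7 : combosPartB twoCo2TailCert twoCo2TailEqs 133 19 = true := by decide +kernel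

theorem two_combos_8 : combosPartB twoCo2TailCert twoCo2TailEqs 152 19 = true := by decide +kernel

theorem two_combos : ∀ k < 9, combosPartB twoCo2TailCert twoCo2TailEqs (19 * k) 19 = true := by
  intro k hk
  interval_cases k
  exacts [two_combos_0, two_combos_1, two_combos_2, two_combos_3, two_combos_4, two_combos_5, two_combos_6, two_combos_7, two_combos_8]

theorem two_lengths : twoCo2TailCert.rels.length = 171 ∧ twoCo2TailEqs.length ≤ 180 := by
  constructor <;> decide +kernel

theorem two_cert : twoCo2TailCert.checkB = true := by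
  obtain ⟨h1, h2⟩ := two_lengths
  refine checkB_of_parts two_rest (P := (List.range 9).map fun k => (20 * k, 20))
    (Q := (List.range 9).map fun k => (19 * k, 19)) ?_ ?_ ?_ ?_
  · intro a ha
    obtain ⟨k, hk, rfl⟩ := List.mem_map.1 ha
    exact two_eqs k (List.mem_range.1 hk)
  · intro k hk
    exact ⟨(20 * (k / 20), 20), List.mem_map.2 ⟨k / 20, List.mem_range.2 (by omega), rfl⟩, by
      simp only; omega, by simp only; omega⟩
  · intro a ha
    obtain ⟨k, hk, rfl⟩ := List.mem_map.1 ha
    exact two_combos k (List.mem_range.1 hk)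
  · intro k hk
    exact ⟨(19 * (k / 19), 19), List.mem_map.2 ⟨k / 19, List.mem_range.2 (by omega), rfl⟩, by
      simp only; omega, by simp only; omega⟩

/-- The codes known after 0 parts. -/
noncomputable def twoKnown0 : List (List ℕ) := [CfsgLib.Rigid.Co2.data.u, CfsgLib.Rigid.Co2.data.v, CfsgLib.Rigid.Co2.data.w]

/-- The codes known after 1 parts. -/
noncomputable def twoKnown1 : List (List ℕ) := twoKnown0 ++ twoCo2TailPart0.map CfsgLib.Rigid.Op.M

/-- The codes known after 2 parts. -/
noncomputable def twoKnown2 : List (List ℕ) := twoKnown1 ++ twoCo2TailPart1.map CfsgLib.Rigid.Op.M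

/-- The codes known after 3 parts. -/
noncomputable def twoKnown3 : List (List ℕ) := twoKnown2 ++ twoCo2TailPart2.map CfsgLib.Rigid.Op.M

/-- The codes known after 4 parts. -/
noncomputable def twoKnown4 : List (List ℕ) := twoKnown3 ++ twoCo2TailPart3.map CfsgLib.Rigid.Op.M

/-- The codes known after 5 parts. -/
noncomputable def twoKnown5 : List (List ℕ) := twoKnown4 ++ twoCo2TailPart4.map CfsgLib.Rigid.Op.M

/-- The codes known after 6 parts. -/
noncomputable def twoKnown6 : List (List ℕ) := twoKnown5 ++ twoCo2TailPart5.map CfsgLib.Rigid.Op.M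

/-- The codes known after 7 parts. -/
noncomputable def twoKnown7 : List (List ℕ) := twoKnown6 ++ twoCo2TailPart6.map CfsgLib.Rigid.Op.M

/-- The codes known after 8 parts. -/
noncomputable def twoKnown8 : List (List ℕ) := twoKnown7 ++ twoCo2TailPart7.map CfsgLib.Rigid.Op.M

/-- The codes known after 9 parts. -/
noncomputable def twoKnown9 : List (List ℕ) := twoKnown8 ++ twoCo2TailPart8.map CfsgLib.Rigid.Op.M

/-- The codes known after 10 parts. -/
noncomputable def twoKnown10 : List (List ℕ) := twoKnown9 ++ twoCo2TailPart9.map CfsgLib.Rigid.Op.M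

/-- The codes known after 11 parts. -/
noncomputable def twoKnown11 : List (List ℕ) := twoKnown10 ++ twoCo2TailPart10.map CfsgLib.Rigid.Op.M

/-- The codes known after 12 parts. -/
noncomputable def twoKnown12 : List (List ℕ) := twoKnown11 ++ twoCo2TailPart11.map CfsgLib.Rigid.Op.M

theorem two_refs0 : refsB CfsgLib.Rigid.Co2.data.one twoKnown0 twoCo2TailRef0 twoCo2TailInp0 = true := by decide +kernel

theorem two_part0 : CfsgLib.Rigid.slpOk CfsgLib.Rigid.Co2.data.one twoCo2TailPart0 twoCo2TailInp0 = true := by decide +kernel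

theorem two_refs1 : refsB CfsgLib.Rigid.Co2.data.one twoKnown1 twoCo2TailRef1 twoCo2TailInp1 = true := by decide +kernel

theorem two_part1 : CfsgLib.Rigid.slpOk CfsgLib.Rigid.Co2.data.one twoCo2TailPart1 twoCo2TailInp1 = true := by decide +kernel

theorem two_refs2 : refsB CfsgLib.Rigid.Co2.data.one twoKnown2 twoCo2TailRef2 twoCo2TailInp2 = true := by decide +kernel

theorem two_part2 : CfsgLib.Rigid.slpOk CfsgLib.Rigid.Co2.data.one twoCo2TailPart2 twoCo2TailInp2 = true := by decide +kernel

theorem two_refs3 : refsB CfsgLib.Rigid.Co2.data.one twoKnown3 twoCo2TailRef3 twoCo2TailInp3 = true := by decide +kernel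

theorem two_part3 : CfsgLib.Rigid.slpOk CfsgLib.Rigid.Co2.data.one twoCo2TailPart3 twoCo2TailInp3 = true := by decide +kernel

theorem two_refs4 : refsB CfsgLib.Rigid.Co2.data.one twoKnown4 twoCo2TailRef4 twoCo2TailInp4 = true := by decide +kernel

theorem two_part4 : CfsgLib.Rigid.slpOk CfsgLib.Rigid.Co2.data.one twoCo2TailPart4 twoCo2TailInp4 = true := by decide +kernel

theorem two_refs5 : refsB CfsgLib.Rigid.Co2.data.one twoKnown5 twoCo2TailRef5 twoCo2TailInp5 = true := by decide +kernel

theorem two_part5 : CfsgLib.Rigid.slpOk CfsgLib.Rigid.Co2.data.one twoCo2TailPart5 twoCo2TailInp5 = true := by decide +kernel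

theorem two_refs6 : refsB CfsgLib.Rigid.Co2.data.one twoKnown6 twoCo2TailRef6 twoCo2TailInp6 = true := by decide +kernel

theorem two_part6 : CfsgLib.Rigid.slpOk CfsgLib.Rigid.Co2.data.one twoCo2TailPart6 twoCo2TailInp6 = true := by decide +kernel

theorem two_refs7 : refsB CfsgLib.Rigid.Co2.data.one twoKnown7 twoCo2TailRef7 twoCo2TailInp7 = true := by decide +kernel

theorem two_part7 : CfsgLib.Rigid.slpOk CfsgLib.Rigid.Co2.data.one twoCo2TailPart7 twoCo2TailInp7 = true := by decide +kernel

theorem two_refs8 : refsB CfsgLib.Rigid.Co2.data.one twoKnown8 twoCo2TailRef8 twoCo2TailInp8 = true := by decide +kernel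

theorem two_part8 : CfsgLib.Rigid.slpOk CfsgLib.Rigid.Co2.data.one twoCo2TailPart8 twoCo2TailInp8 = true := by decide +kernel

theorem two_refs9 : refsB CfsgLib.Rigid.Co2.data.one twoKnown9 twoCo2TailRef9 twoCo2TailInp9 = true := by decide +kernel

theorem two_part9 : CfsgLib.Rigid.slpOk CfsgLib.Rigid.Co2.data.one twoCo2TailPart9 twoCo2TailInp9 = true := by decide +kernel

theorem two_refs10 : refsB CfsgLib.Rigid.Co2.data.one twoKnown10 twoCo2TailRef10 twoCo2TailInp10 = true := by decide +kernel

theorem two_part10 : CfsgLib.Rigid.slpOk CfsgLib.Rigid.Co2.data.one twoCo2TailPart10 twoCo2TailInp10 = true := by decide +kernel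

theorem two_refs11 : refsB CfsgLib.Rigid.Co2.data.one twoKnown11 twoCo2TailRef11 twoCo2TailInp11 = true := by decide +kernel

theorem two_part11 : CfsgLib.Rigid.slpOk CfsgLib.Rigid.Co2.data.one twoCo2TailPart11 twoCo2TailInp11 = true := by decide +kernel

theorem two_gens : refsB CfsgLib.Rigid.Co2.data.one twoKnown12 twoCo2TailGi twoCo2TailGens = true := by decide +kernel

theorem two_hs : refsB CfsgLib.Rigid.Co2.data.one twoKnown12 twoCo2TailHi twoCo2TailHs = true := by decide +kernel

theorem two_coded {G : Type} [Group G] (c : CfsgLib.Rigid.Cod G) (h1 : c.C 1 = CfsgLib.Rigid.Co2.data.one)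
    (h0 : AllCoded c twoKnown0) : AllCoded c twoCo2TailGens ∧ AllCoded c twoCo2TailHs := by
  have h1' : AllCoded c twoKnown1 := allCoded_part c h1 h0 two_refs0 two_part0
  have h2' : AllCoded c twoKnown2 := allCoded_part c h1 h1' two_refs1 two_part1
  have h3' : AllCoded c twoKnown3 := allCoded_part c h1 h2' two_refs2 two_part2
  have h4' : AllCoded c twoKnown4 := allCoded_part c h1 h3' two_refs3 two_part3
  have h5' : AllCoded c twoKnown5 := allCoded_part c h1 h4' two_refs4 two_part4
  have h6' : AllCoded c twoKnown6 := allCoded_part c h1 h5' two_refs5 two_part5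
  have h7' : AllCoded c twoKnown7 := allCoded_part c h1 h6' two_refs6 two_part6
  have h8' : AllCoded c twoKnown8 := allCoded_part c h1 h7' two_refs7 two_part7
  have h9' : AllCoded c twoKnown9 := allCoded_part c h1 h8' two_refs8 two_part8
  have h10' : AllCoded c twoKnown10 := allCoded_part c h1 h9' two_refs9 two_part9
  have h11' : AllCoded c twoKnown11 := allCoded_part c h1 h10' two_refs10 two_part10
  have h12' : AllCoded c twoKnown12 := allCoded_part c h1 h11' two_refs11 two_part11
  exact ⟨allCoded_refs c h12' two_gens, allCoded_refs c h12' two_hs⟩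

theorem two_rels : relsB CfsgLib.Rigid.Co2.data.one twoCo2TailGens twoCo2TailHs twoCo2TailCert = true := by decide +kernel

theorem two_layers : layersB twoCo2TailCert.p CfsgLib.Rigid.Co2.data.one twoCo2TailGens [] twoCo2TailLayers = true ∧
    twoCo2TailCert.p ^ twoCo2TailCert.n ≤ layersM twoCo2TailLayers := by
  constructor <;> decide +kernel

theorem two_sizes : twoCo2TailCert.p = 2 ∧ twoCo2TailCert.q = 2 ∧ twoCo2TailCert.tau = [] ∧
    twoCo2TailCert.n = 18 := by
  refine ⟨?_, ?_, ?_, ?_⟩ <;> decide +kernel

end CfsgLib.Schur.Tails.RigidCert.Co2
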