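import Cfsg.Agent.Lib.Tails.Co3FiveData
import Cfsg.Agent.Lib.Rigid.Co3Data

/-!
# The checks of the certificate at 5 for the multiplier of Co3
-/

set_option autoImplicit false
set_option maxRecDepth 100000
set_option maxHeartbeats 0

namespace CfsgLib.Schur.Tails.RigidCert.Co3

open CfsgLib.TailsData

theorem five_cert : fiveCo3TailCert.checkB = true := by decide +kernel

theorem five_data : primeB CfsgLib.Rigid.Co3.data.one
    [CfsgLib.Rigid.Co3.data.u, CfsgLib.Rigid.Co3.data.v, CfsgLib.Rigid.Co3.data.w]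
    fiveCo3TailOps fiveCo3TailGi fiveCo3TailHi fiveCo3TailLayers fiveCo3TailCert = true := by decide +kernel

theorem five_sizes : fiveCo3TailCert.p = 5 ∧ fiveCo3TailCert.q = 5 ∧ fiveCo3TailCert.tau = [] ∧
    fiveCo3TailCert.n = 3 := by
  refine ⟨?_, ?_, ?_, ?_⟩ <;> decide +kernel

end CfsgLib.Schur.Tails.RigidCert.Co3
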