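import Cfsg.Agent.Lib.Rigid.Co3Out
import Cfsg.Agent.Lib.Tails.Co3TwoCheck
import Cfsg.Agent.Lib.Tails.Co3ThreeCheck
import Cfsg.Agent.Lib.Tails.Co3FiveCheck
import Cfsg.Agent.Lib.Tails.SLNine

/-!
# The multiplier of Co3
-/

set_option autoImplicit false
set_option maxRecDepth 100000

namespace CfsgLib.Schur.Tails.RigidCert.Co3

open Cfsg CfsgLib.Rigid CfsgLib.Rigid.Co3 CfsgLib.TailsData

attribute [local irreducible] twoCo3TailCert threeCo3TailCert fiveCo3TailCert twoCo3TailOps threeCo3TailOps fiveCo3TailOps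
  twoCo3TailGi threeCo3TailGi fiveCo3TailGi twoCo3TailHi threeCo3TailHi fiveCo3TailHi twoCo3TailLayers threeCo3TailLayers fiveCo3TailLayers

theorem multiplier_grp : Cfsg.HasCyclicSchurMultiplier ↥grp 1 := by
  have := finite_co0
  obtain ⟨U, hU⟩ := exists_gen autU_ok fun k => (ent_row k).1
  obtain ⟨V, hV⟩ := exists_gen autV_ok fun k => (ent_row k).2.1
  obtain ⟨W, hW⟩ := exists_gen autW_ok fun k => (ent_row k).2.2
  obtain ⟨cu, cv, cw, c1⟩ := code_ok
  simp only [eqL_iff] at cu cv cw c1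
  let c := basis.cod grp grp_fix
  have h1 : c.C 1 = data.one := by
    show basis.cols ((1 : grp) : Co0) = _
    rw [show ((1 : grp) : Co0) = 1 from rfl, basis.cols_one, c1]
  have hlev : c.Levels data.one data.known [] data.levels := by
    refine levels_of_checks basis grp grp_fix _ _ _ baseCoef [] base_ok ?_
    intro i hi
    have hi' : i < 6 := hi
    interval_cases i
    exacts [level0_ok, level1_ok, level2_ok, level3_ok, level4_ok, level5_ok]
  have hbase : ∀ M ∈ [data.u, data.v, data.w], c.Mem ⊤ M := by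
    intro M hM
    simp only [List.mem_cons, List.not_mem_nil, or_false] at hM
    rcases hM with rfl | rfl | rfl
    exacts [⟨U, trivial, hU.trans cu⟩, ⟨V, trivial, hV.trans cv⟩, ⟨W, trivial, hW.trans cw⟩]
  have hchain := c.chain_of_levels h1 (c.slp_sound h1 data.ops _ hbase ops_ok) data.levels [] hlev
  have hinj : Function.Injective c.C := c.injective_of_full hchain
    (c.full_of_card hchain (by rw [prod_ok, card_grp])).1
  have hb : ∀ M ∈ [data.u, data.v, data.w], ∃ g, c.C g = M := fun M hM => (hbase M hM).imp fun g hg => hg.2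
  obtain ⟨a2, b2, t2, n2⟩ := two_sizes
  obtain ⟨a3, b3, t3, n3⟩ := three_sizes
  obtain ⟨a5, b5, t5, n5⟩ := five_sizes
  refine trivial_of_primes fun p hp hsq E _ _ σ hσ => ?_
  have := Fact.mk hp
  have h235 : p = 2 ∨ p = 3 ∨ p = 5 := by
    by_contra hcon
    push Not at hcon
    obtain ⟨e2, e3, e5⟩ := hcon
    rw [card_grp, show (495766656000 : ℕ) = (2 ^ 10 * 3 ^ 7 * 5 ^ 3) * (7 * (11 * 23)) by norm_num] at hsq
    have hco : Nat.Coprime (p ^ 2) (2 ^ 10 * 3 ^ 7 * 5 ^ 3) := (Nat.Coprime.mul_right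
      (Nat.Coprime.pow 2 10 ((Nat.coprime_primes hp Nat.prime_two).2 e2))
      (Nat.Coprime.pow 2 7 ((Nat.coprime_primes hp Nat.prime_three).2 e3))).mul_right
      (Nat.Coprime.pow 2 3 ((Nat.coprime_primes hp Nat.prime_five).2 e5))
    have hsf : Squarefree (7 * (11 * 23)) := by
      rw [Nat.squarefree_mul (by norm_num), Nat.squarefree_mul (by norm_num)]
      exact ⟨(by norm_num : Nat.Prime 7).squarefree, (by norm_num : Nat.Prime 11).squarefree,
        (by norm_num : Nat.Prime 23).squarefree⟩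
    exact hp.not_isUnit (hsf p (by rw [← pow_two]; exact hco.dvd_of_dvd_mul_left hsq))
  rcases h235 with rfl | rfl | rfl
  · have : Fact twoCo3TailCert.p.Prime := ⟨a2 ▸ hp⟩
    exact (realised c hinj h1 hb two_cert two_data (by rw [a2, n2, card_grp]; decide)).not_dvd a2 b2 t2 hσ
  · have : Fact threeCo3TailCert.p.Prime := ⟨a3 ▸ hp⟩
    exact (realised c hinj h1 hb three_cert three_data (by rw [a3, n3, card_grp]; decide)).not_dvd a3 b3 t3 hσ
  · have : Fact fiveCo3TailCert.p.Prime := ⟨a5 ▸ hp⟩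
    exact (realised c hinj h1 hb five_cert five_data (by rw [a5, n5, card_grp]; decide)).not_dvd a5 b5 t5 hσ

theorem multiplier_spor : Cfsg.HasCyclicSchurMultiplier ↥Cfsg.Spor.Co3 1 := by
  have := finite_co0
  exact hasCyclic_congr (stabEquiv Spor.leechV).symm multiplier_grp

end CfsgLib.Schur.Tails.RigidCert.Co3
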