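import Cfsg.Agent.Lib.Tails.RigidCert

/-!
Generated data: the certificate at 3 for the Schur multiplier of Co3.
-/

set_option autoImplicit false
set_option maxRecDepth 100000

namespace CfsgLib.TailsData

open CfsgLib

/-- The overlaps. -/
def threeCo3TailOverlaps : List (List ℕ × List Schur.Tails.Step × List Schur.Tails.Step) := [
  ([0, 1, 2], [(0, 7, true), (3, 8, true), (2, 13, true), (1, 26, true), (2, 25, true), (3, 25, true), (4, 4, true)], [(1, 13, true), (0, 12, true), (1, 11, true), (2, 11, true), (3, 10, true), (4, 10, true), (5, 8, true), (6, 7, true), (5, 21, true), (4, 26, true), (3, 26, true), (2, 27, true), (1, 27, true), (6, 19, true), (4, 4, true)]),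
  ([0, 1, 3], [(0, 7, true), (3, 9, true), (2, 16, true), (1, 26, true), (2, 25, true), (4, 16, true), (3, 26, true), (2, 27, true), (0, 6, true), (1, 25, true), (3, 15, true), (2, 26, true), (1, 27, true), (0, 27, true), (5, 14, true), (4, 26, true), (3, 26, true), (2, 27, true), (1, 27, true), (4, 4, true)], [(1, 14, true), (0, 12, true), (1, 10, true), (2, 9, true), (1, 25, true), (2, 25, true), (6, 7, true), (5, 24, true), (4, 26, true), (3, 26, true), (2, 27, true), (1, 27, true), (6, 22, true), (4, 4, true)]),
  ([0, 1, 4], [(0, 7, true), (3, 10, true), (2, 15, true), (1, 26, true)], [(1, 15, true), (0, 12, true), (1, 10, true), (2, 7, true), (1, 26, true)]),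
  ([0, 1, 5], [(0, 7, true), (3, 11, true), (2, 16, true), (1, 26, true), (2, 25, true)], [(1, 16, true), (0, 12, true), (1, 11, true), (2, 7, true), (1, 27, true)]),
  ([0, 1, 6], [(0, 7, true), (3, 12, true), (2, 17, true), (1, 26, true)], [(1, 17, true), (0, 12, true), (1, 7, true)]),
  ([0, 2, 3], [(0, 8, true), (1, 9, true), (0, 20, true), (1, 20, true), (2, 19, true), (3, 18, true), (2, 25, true), (0, 5, true)], [(1, 18, true), (0, 11, true), (1, 9, true), (0, 5, true), (2, 8, true)]),
  ([0, 3, 4], [(0, 9, true), (4, 10, true), (3, 22, true)], [(1, 22, true), (0, 10, true), (1, 9, true), (0, 25, true), (1, 25, true)]),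
  ([1, 2, 3], [(0, 13, true), (6, 14, true), (5, 21, true), (4, 26, true), (3, 26, true), (2, 27, true), (1, 27, true), (6, 19, true), (4, 4, true), (4, 18, true), (2, 5, true)], [(1, 18, true), (0, 16, true), (2, 14, true), (1, 27, true), (5, 13, true), (4, 24, true), (3, 26, true), (2, 27, true), (0, 6, true), (2, 23, true), (1, 26, true), (0, 27, true), (2, 25, true), (4, 23, true), (3, 26, true), (2, 27, true), (1, 27, true), (4, 25, true), (2, 5, true), (3, 22, true), (4, 22, true), (2, 4, true)]),
  ([1, 2, 4], [(0, 13, true), (6, 15, true), (5, 21, true), (4, 26, true), (3, 26, true), (2, 27, true), (1, 27, true), (6, 19, true), (4, 4, true)], [(1, 19, true), (0, 15, true), (2, 13, true), (1, 26, true), (2, 25, true), (3, 25, true), (4, 4, true)]),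
  ([1, 3, 4], [(0, 14, true), (3, 15, true), (2, 24, true), (1, 26, true), (3, 22, true)], [(1, 22, true), (0, 15, true), (2, 14, true), (1, 26, true)]),
  ([1, 3, 5], [(0, 14, true), (3, 16, true), (2, 24, true), (1, 26, true), (3, 23, true), (2, 26, true), (0, 6, true), (0, 25, true)], [(1, 23, true), (0, 17, true), (1, 16, true), (3, 14, true), (2, 27, true), (0, 6, true)]),
  ([0, 0, 0, 1], [(0, 0, true)], [(2, 7, true), (1, 12, true), (0, 12, true), (2, 10, true), (1, 10, true), (3, 7, true), (2, 12, true), (1, 26, true), (3, 10, true), (4, 7, true), (3, 26, true), (2, 26, true), (0, 6, true), (0, 4, true), (1, 0, true)]),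
  ([0, 1, 1, 1], [(0, 7, true), (3, 7, true), (2, 17, true), (1, 26, true), (3, 15, true), (2, 26, true), (0, 6, true), (4, 7, true), (3, 17, true), (2, 17, true), (1, 26, true), (0, 26, true), (4, 15, true), (3, 17, true), (2, 26, true), (1, 26, true), (4, 15, true), (3, 26, true), (2, 26, true), (0, 6, true), (0, 4, true), (0, 1, true)], [(1, 1, true)]),
  ([0, 0, 0, 3], [(0, 0, true)], [(2, 9, true), (1, 11, true), (0, 11, true), (2, 11, true), (1, 11, true), (3, 10, true), (2, 10, true), (4, 9, true), (3, 11, true), (2, 25, true), (0, 5, true), (1, 11, true), (0, 25, true), (2, 10, true), (3, 9, true), (2, 25, true), (1, 25, true), (3, 25, true), (2, 25, true), (0, 5, true), (0, 4, true), (1, 0, true)])]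

/-- A conjugation. -/
def threeCo3TailFus0 : Schur.Tails.Fus where
  xs := [[6, 5, 5, 4, 4, 3, 1, 1, 0], [6, 5, 4, 4, 1], [5, 4, 3, 0], [6, 5, 5, 3, 1, 1, 0], [6, 4, 4, 3, 1, 0]]
  ys := [[5, 1, 1], [6, 6, 5], [5, 4, 3, 1, 0], [5, 4, 4, 3, 0], [6, 5, 3, 1, 1, 0]]
  rels := [
    ([0, 0, 0], [], [(8, 12, true), (7, 17, true), (6, 17, true), (5, 24, true), (4, 26, true), (3, 26, true), (2, 27, true), (1, 27, true), (9, 11, true), (8, 16, true), (7, 17, true), (6, 24, true), (5, 26, true), (4, 26, true), (3, 27, true), (2, 27, true), (0, 6, true), (5, 16, true), (4, 24, true), (3, 26, true), (2, 26, true), (1, 27, true), (0, 27, true), (5, 23, true), (4, 26, true), (3, 26, true), (2, 27, true), (1, 27, true), (5, 25, true), (4, 25, true), (2, 5, true), (7, 11, true), (6, 16, true), (5, 17, true), (4, 24, true), (3, 26, true), (2, 26, true), (0, 6, true), (3, 16, true), (2, 24, true), (1, 26, true), (0, 26, true), (3, 23, true), (2, 26, true), (1, 26, true), (3, 25, true), (2, 25, true), (8, 10, true), (7, 15, true), (6, 17, true), (5, 24, true), (4, 26, true), (3, 26, true), (2, 27, true), (0, 6, true), (4, 15, true), (3,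 24, true), (2, 26, true), (1, 26, true), (0, 27, true), (4, 22, true), (2, 4, true), (5, 10, true), (4, 15, true), (3, 17, true), (2, 24, true), (1, 27, true), (4, 15, true), (3, 24, true), (2, 27, true), (0, 6, true), (1, 22, true), (5, 9, true), (4, 16, true), (3, 17, true), (2, 24, true), (1, 26, true), (0, 27, true), (4, 16, true), (3, 24, true), (2, 26, true), (1, 27, true), (4, 23, true), (3, 26, true), (2, 27, true), (0, 6, true), (1, 25, true), (5, 16, true), (4, 17, true), (3, 24, true), (2, 26, true), (1, 27, true), (0, 27, true), (5, 16, true), (4, 24, true), (3, 26, true), (2, 27, true), (1, 27, true), (5, 23, true), (4, 26, true), (3, 27, true), (2, 27, true), (0, 6, true), (2, 25, true), (0, 5, true), (3, 15, true), (2, 17, true), (1, 24, true), (0, 26, true), (3, 15, true), (2, 24, true), (1, 26, true), (3, 22, true), (6, 14, true), (5, 17, true), (4, 24, true), (3, 26, true), (2, 26, true), (0, 6, true), (3, 15, true), (2, 24, true), (1, 26, true), (0, 26, true), (3, 22, true), (1, 4, true), (2, 14, true), (1, 24, true), (2, 22, true), (7, 7, true), (6, 17, true), (5, 17, true), (4, 24, true), (3, 24, true),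 (2, 26, true), (0, 6, true), (4, 15, true), (3, 17, true), (2, 24, true), (1, 24, true), (0, 26, true), (4, 15, true), (3, 24, true), (2, 24, true), (1, 26, true), (4, 22, true), (3, 22, true), (6, 1, true), (6, 7, true), (5, 24, true), (4, 24, true), (3, 26, true), (2, 26, true), (0, 6, true), (3, 22, true), (2, 22, true), (0, 4, true), (4, 12, true), (3, 12, true), (2, 17, true), (1, 24, true), (0, 24, true), (5, 11, true), (4, 11, true), (3, 16, true), (2, 24, true), (1, 24, true), (3, 23, true), (2, 24, true), (0, 6, true), (0, 23, true), (6, 11, true), (5, 11, true), (4, 16, true), (3, 24, true), (2, 24, true), (1, 27, true), (4, 23, true), (3, 24, true), (2, 27, true), (0, 6, true), (1, 23, true), (0, 27, true), (7, 10, true), (6, 10, true), (5, 15, true), (4, 24, true), (3, 24, true), (2, 27, true), (1, 27, true), (5, 22, true), (4, 22, true), (9, 10, true), (8, 10, true), (7, 15, true), (6, 24, true), (5, 24, true), (4, 26, true), (3, 27, true), (2, 27, true), (0, 6, true), (4, 22, true), (3, 22, true), (8, 9, true), (7, 11, true), (6, 16, true), (5, 24, true), (4, 24, true), (3, 26, true), (2, 26, true), (1, 27,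 true), (0, 27, true), (6, 23, true), (5, 24, true), (4, 26, true), (3, 26, true), (2, 27, true), (1, 27, true), (6, 23, true), (5, 26, true), (4, 26, true), (3, 27, true), (2, 27, true), (0, 6, true), (3, 25, true), (2, 25, true), (0, 5, true), (5, 11, true), (4, 16, true), (3, 24, true), (2, 24, true), (1, 26, true), (0, 26, true), (4, 23, true), (3, 24, true), (2, 26, true), (1, 26, true), (4, 23, true), (3, 26, true), (2, 26, true), (0, 6, true), (1, 25, true), (0, 25, true), (6, 10, true), (5, 15, true), (4, 24, true), (3, 24, true), (2, 26, true), (1, 26, true), (0, 27, true), (5, 22, true), (4, 22, true), (2, 4, true), (5, 9, true), (4, 16, true), (3, 24, true), (2, 24, true), (1, 27, true), (4, 23, true), (3, 24, true), (2, 27, true), (0, 6, true), (1, 23, true), (0, 27, true), (5, 16, true), (4, 24, true), (3, 24, true), (2, 27, true), (1, 27, true), (5, 23, true), (4, 24, true), (3, 27, true), (2, 27, true), (0, 6, true), (2, 23, true), (1, 27, true), (0, 27, true), (1, 5, true), (3, 15, true), (2, 24, true), (1, 24, true), (3, 22, true), (2, 22, true), (5, 14, true), (4, 24, true), (3, 24, true), (2, 26, true),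 (0, 6, true), (2, 22, true), (1, 22, true), (2, 3, true), (1, 26, true), (0, 26, true), (2, 26, true), (1, 26, true), (6, 7, true), (5, 12, true), (4, 17, true), (3, 26, true), (2, 26, true), (0, 6, true), (3, 10, true), (2, 15, true), (1, 26, true), (0, 26, true), (1, 4, true), (2, 7, true), (1, 17, true), (2, 15, true), (0, 6, true), (4, 7, true), (3, 12, true), (2, 17, true), (1, 17, true), (0, 26, true), (4, 10, true), (3, 15, true), (2, 17, true), (1, 26, true), (3, 15, true), (2, 26, true), (0, 6, true), (4, 7, true), (3, 17, true), (2, 17, true), (1, 26, true), (0, 26, true), (4, 15, true), (3, 17, true), (2, 26, true), (1, 26, true), (4, 15, true), (3, 26, true), (2, 26, true), (0, 6, true), (0, 4, true), (0, 1, true), (0, 0, true)], [(2, 16, true), (1, 17, true), (0, 27, true), (2, 16, true), (1, 27, true), (4, 1, true), (4, 16, true), (3, 27, true), (2, 27, true), (0, 6, true), (0, 5, true), (0, 1, true)]),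
    ([1, 1, 1], [], [(4, 17, true), (3, 26, true), (2, 26, true), (1, 27, true), (5, 16, true), (4, 26, true), (3, 26, true), (2, 27, true), (0, 6, true), (2, 25, true), (1, 25, true), (4, 15, true), (3, 26, true), (2, 26, true), (1, 27, true), (0, 27, true), (3, 4, true), (3, 15, true), (2, 27, true), (1, 27, true), (6, 17, true), (5, 17, true), (4, 26, true), (3, 27, true), (2, 27, true), (0, 6, true), (4, 16, true), (3, 17, true), (2, 26, true), (1, 27, true), (0, 27, true), (4, 16, true), (3, 26, true), (2, 27, true), (1, 27, true), (4, 25, true), (2, 5, true), (4, 15, true), (3, 17, true), (2, 26, true), (0, 6, true), (1, 15, true), (0, 26, true), (4, 15, true), (3, 17, true), (2, 26, true), (1, 26, true), (4, 15, true), (3, 26, true), (2, 26, true), (0, 6, true), (0, 4, true), (0, 1, true)], [(2, 27, true), (0, 6, true), (0, 27, true), (2, 27, true), (1, 27, true), (3, 27, true), (2, 27, true), (0, 6, true), (0, 5, true)]),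
    ([0, 1], [4, 3, 2, 1, 0], [(8, 12, true), (7, 17, true), (6, 17, true), (5, 24, true), (4, 26, true), (3, 26, true), (2, 27, true), (1, 27, true), (9, 11, true), (8, 16, true), (7, 17, true), (6, 24, true), (5, 26, true), (4, 26, true), (3, 27, true), (2, 27, true), (0, 6, true), (5, 16, true), (4, 24, true), (3, 26, true), (2, 26, true), (1, 27, true), (0, 27, true), (5, 23, true), (4, 26, true), (3, 26, true), (2, 27, true), (1, 27, true), (5, 25, true), (4, 25, true), (2, 5, true), (7, 10, true), (6, 15, true), (5, 17, true), (4, 24, true), (3, 26, true), (2, 26, true), (0, 6, true), (3, 15, true), (2, 24, true), (1, 26, true), (0, 26, true), (3, 22, true), (1, 4, true), (4, 10, true), (3, 15, true), (2, 17, true), (1, 24, true), (3, 15, true), (2, 24, true), (0, 6, true), (0, 22, true), (4, 7, true), (3, 17, true), (2, 17, true), (1, 24, true), (0, 26, true), (4, 15, true), (3, 17, true), (2, 24, true), (1, 26, true), (4, 15, true), (3, 24, true), (2, 26, true), (0, 6, true), (1, 22, true), (3, 1, true), (3, 1, false), (0, 6, false), (2, 26, false), (3, 14, false), (1, 15, false), (1, 4, false), (0, 26, false), (1,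 26, false), (2, 15, false), (0, 5, false), (2, 25, false), (3, 25, false), (0, 6, false), (2, 27, false), (3, 27, false), (4, 26, false), (5, 26, false), (6, 16, false), (3, 25, false), (4, 25, false), (1, 27, false), (2, 26, false), (3, 26, false), (4, 16, false), (0, 27, false), (1, 26, false), (2, 26, false), (3, 17, false), (0, 6, false), (2, 0, false), (0, 3, false), (0, 4, false), (2, 22, false), (3, 22, false), (0, 5, false), (2, 25, false), (3, 25, false), (0, 6, false), (2, 27, false), (3, 27, false), (4, 26, false), (5, 26, false), (6, 23, false), (1, 27, false), (2, 27, false), (3, 26, false), (4, 26, false), (5, 24, false), (6, 23, false), (2, 25, false), (3, 25, false), (0, 27, false), (1, 26, false), (2, 26, false), (3, 23, false), (0, 6, false), (2, 27, false), (3, 26, false), (4, 26, false), (5, 24, false), (6, 23, false), (7, 9, false), (4, 22, false), (5, 22, false), (6, 10, false), (2, 25, false), (1, 26, false), (2, 23, false), (0, 26, false), (1, 24, false), (2, 23, false), (3, 11, false), (0, 5, false), (2, 25, false), (0, 6, false), (2, 27, false), (3, 27, false), (4, 26, false), (5, 23, false), (1,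 27, false), (2, 27, false), (3, 26, false), (4, 24, false), (5, 23, false), (6, 11, false), (7, 9, false), (3, 22, false), (4, 22, false), (5, 10, false), (6, 10, false), (0, 27, false), (1, 23, false), (0, 6, false), (2, 27, false), (3, 24, false), (4, 23, false), (5, 11, false), (6, 11, false), (5, 1, false), (3, 4, false), (5, 22, false), (6, 22, false), (1, 27, false), (2, 26, false), (3, 26, false), (4, 24, false), (5, 24, false), (6, 15, false), (0, 27, false), (1, 26, false), (2, 26, false), (3, 24, false), (4, 24, false), (5, 17, false), (6, 15, false), (0, 6, false), (2, 27, false), (3, 26, false), (4, 26, false), (5, 24, false), (6, 24, false), (7, 17, false), (8, 17, false), (9, 7, false), (4, 22, false), (5, 22, false), (1, 27, false), (2, 26, false), (3, 24, false), (4, 24, false), (5, 15, false), (0, 27, false), (1, 26, false), (2, 24, false), (3, 24, false), (4, 17, false), (5, 7, false), (1, 22, false), (0, 6, false), (2, 27, false), (3, 24, false), (4, 14, false), (3, 4, false), (5, 22, false), (1, 27, false), (2, 26, false), (3, 26, false), (4, 24, false), (5, 15, false), (1, 25, false), (2, 25, false),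 (0, 26, false), (1, 26, false), (2, 23, false), (0, 6, false), (2, 26, false), (3, 26, false), (4, 24, false), (5, 16, false), (2, 5, false), (4, 25, false), (5, 25, false), (1, 27, false), (2, 27, false), (3, 26, false), (4, 26, false), (5, 23, false), (0, 27, false), (1, 27, false), (2, 26, false), (3, 26, false), (4, 24, false), (5, 16, false), (6, 9, false), (1, 25, false), (2, 25, false), (0, 6, false), (2, 27, false), (3, 26, false), (4, 26, false), (5, 23, false), (1, 27, false), (2, 26, false), (3, 26, false), (4, 24, false), (5, 16, false), (6, 11, false), (1, 25, false), (2, 25, false), (0, 26, false), (1, 26, false), (2, 23, false), (0, 6, false), (2, 26, false), (3, 26, false), (4, 24, false), (5, 16, false), (6, 11, false), (1, 26, false), (2, 26, false), (3, 24, false), (4, 17, false), (5, 12, false)], [(2, 17, true), (1, 17, true), (0, 27, true), (3, 17, true), (2, 17, true), (1, 27, true), (4, 16, true), (3, 17, true), (2, 27, true), (0, 6, true), (1, 16, true), (0, 27, true), (0, 6, false), (2, 0, false), (2, 1, false), (2, 4, false), (1, 26, false), (2, 26, false), (3, 15, false), (0, 26, false), (1, 26,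 false), (2, 17, false), (3, 15, false), (0, 6, false), (2, 26, false), (3, 26, false), (4, 17, false), (5, 17, false), (6, 7, false), (1, 26, false), (2, 15, false), (0, 26, false), (1, 17, false), (2, 15, false), (3, 10, false), (0, 6, false), (2, 26, false), (3, 17, false), (4, 17, false), (5, 12, false), (6, 7, false), (1, 26, false), (0, 26, false), (1, 3, false), (0, 22, false), (1, 22, false), (0, 6, false), (2, 24, false), (3, 24, false), (4, 14, false), (2, 4, false), (4, 22, false), (5, 22, false), (1, 26, false), (2, 26, false), (3, 24, false), (4, 24, false), (5, 15, false), (0, 26, false), (1, 26, false), (2, 24, false), (3, 24, false), (4, 17, false), (5, 14, false), (1, 22, false), (2, 22, false), (0, 6, false), (2, 26, false), (3, 24, false), (4, 24, false), (5, 15, false), (1, 26, false), (2, 24, false), (3, 24, false), (4, 17, false), (5, 15, false), (1, 5, false), (3, 25, false), (0, 27, false), (1, 27, false), (2, 26, false), (3, 23, false), (0, 6, false), (2, 27, false), (3, 27, false), (4, 26, false), (5, 24, false), (6, 23, false), (1, 27, false), (2, 27, false), (3, 26, false), (4, 24, false), (5,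 24, false), (6, 16, false), (0, 27, false), (1, 27, false), (2, 26, false), (3, 24, false), (4, 24, false), (5, 17, false), (6, 16, false), (1, 25, false), (0, 6, false), (2, 27, false), (3, 26, false), (4, 23, false), (1, 27, false), (2, 26, false), (3, 24, false), (4, 23, false), (0, 27, false), (1, 26, false), (2, 24, false), (3, 24, false), (4, 16, false), (0, 6, false), (2, 27, false), (3, 26, false), (4, 24, false), (5, 24, false), (6, 17, false), (7, 16, false), (8, 9, false), (3, 22, false), (4, 22, false), (1, 27, false), (2, 24, false), (3, 24, false), (4, 15, false), (0, 27, false), (1, 24, false), (2, 24, false), (3, 17, false), (4, 15, false), (5, 10, false), (0, 6, false), (2, 23, false), (1, 24, false), (2, 23, false), (0, 24, false), (1, 24, false), (2, 16, false), (0, 6, false), (2, 24, false), (3, 24, false), (4, 17, false), (5, 16, false), (6, 11, false), (2, 5, false), (1, 27, false), (2, 27, false), (3, 23, false), (0, 27, false), (1, 27, false), (2, 24, false), (3, 23, false), (0, 6, false), (2, 27, false), (3, 27, false), (4, 24, false), (5, 24, false), (6, 16, false), (1, 27, false), (2, 27, false),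 (3, 24, false), (4, 24, false), (5, 17, false), (6, 16, false), (7, 11, false), (8, 9, false), (3, 4, false), (5, 22, false), (6, 22, false), (0, 27, false), (1, 27, false), (2, 26, false), (3, 26, false), (4, 24, false), (5, 24, false), (6, 15, false), (0, 6, false), (2, 27, false), (3, 27, false), (4, 26, false), (5, 26, false), (6, 24, false), (7, 24, false), (8, 17, false), (9, 15, false), (10, 10, false), (11, 10, false), (3, 25, false), (4, 25, false), (1, 27, false), (2, 26, false), (3, 26, false), (4, 23, false), (0, 27, false), (1, 26, false), (2, 26, false), (3, 24, false), (4, 23, false), (0, 6, false), (2, 27, false), (3, 26, false), (4, 26, false), (5, 24, false), (6, 24, false), (7, 16, false), (1, 27, false), (2, 26, false), (3, 26, false), (4, 24, false), (5, 24, false), (6, 17, false), (7, 16, false), (8, 11, false), (9, 11, false), (3, 22, false), (0, 27, false), (1, 26, false), (2, 24, false), (3, 14, false), (1, 22, false), (0, 6, false), (2, 27, false), (3, 24, false), (4, 15, false), (1, 27, false), (2, 24, false), (3, 17, false), (4, 14, false), (2, 4, false), (4, 22, false), (0, 27, false), (1, 26,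 false), (2, 26, false), (3, 24, false), (4, 15, false), (0, 6, false), (2, 27, false), (3, 26, false), (4, 26, false), (5, 24, false), (6, 17, false), (7, 15, false), (2, 25, false), (3, 25, false), (1, 26, false), (2, 26, false), (3, 23, false), (0, 26, false), (1, 26, false), (2, 24, false), (3, 16, false), (0, 6, false), (2, 26, false), (3, 26, false), (4, 24, false), (5, 17, false), (6, 16, false), (2, 5, false), (4, 25, false), (5, 25, false), (1, 27, false), (2, 27, false), (3, 26, false), (4, 26, false), (5, 23, false), (0, 27, false), (1, 27, false), (2, 26, false), (3, 26, false), (4, 24, false), (5, 16, false), (0, 6, false), (2, 27, false), (3, 27, false), (4, 26, false), (5, 26, false), (6, 24, false), (7, 17, false), (8, 16, false), (9, 9, false), (5, 22, false), (1, 27, false), (2, 27, false), (3, 26, false), (4, 24, false), (5, 15, false), (0, 27, false), (1, 27, false), (2, 26, false), (3, 24, false), (4, 17, false), (5, 15, false), (6, 10, false), (2, 22, false), (0, 6, false), (2, 27, false), (3, 27, false), (4, 24, false), (5, 15, false), (1, 27, false), (2, 27, false), (3, 24, false), (4, 17, false),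 (5, 15, false), (6, 10, false), (0, 27, false), (1, 23, false), (0, 6, false), (2, 27, false), (3, 24, false), (4, 16, false), (1, 27, false), (2, 24, false), (3, 17, false), (4, 16, false), (5, 11, false)]),
    ([0, 3], [4, 3, 3, 2, 0], [(8, 12, true), (7, 17, true), (6, 17, true), (5, 24, true), (4, 26, true), (3, 26, true), (2, 27, true), (1, 27, true), (9, 11, true), (8, 16, true), (7, 17, true), (6, 24, true), (5, 26, true), (4, 26, true), (3, 27, true), (2, 27, true), (0, 6, true), (5, 16, true), (4, 24, true), (3, 26, true), (2, 26, true), (1, 27, true), (0, 27, true), (5, 23, true), (4, 26, true), (3, 26, true), (2, 27, true), (1, 27, true), (5, 25, true), (4, 25, true), (2, 5, true), (7, 11, true), (6, 16, true), (5, 17, true), (4, 24, true), (3, 26, true), (2, 26, true), (0, 6, true), (3, 16, true), (2, 24, true), (1, 26, true), (0, 26, true), (3, 23, true), (2, 26, true), (1, 26, true), (3, 25, true), (2, 25, true), (8, 9, true), (7, 16, true), (6, 17, true), (5, 24, true), (4, 26, true), (3, 26, true), (2, 27, true), (0, 6, true), (4, 16, true), (3, 24, true), (2, 26, true), (1, 26, true), (0, 27, true), (4,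 23, true), (3, 26, true), (2, 26, true), (1, 27, true), (4, 25, true), (3, 25, true), (8, 16, true), (7, 17, true), (6, 24, true), (5, 26, true), (4, 26, true), (3, 27, true), (2, 27, true), (0, 6, true), (5, 16, true), (4, 24, true), (3, 26, true), (2, 26, true), (1, 27, true), (0, 27, true), (5, 23, true), (4, 26, true), (3, 26, true), (2, 27, true), (1, 27, true), (5, 25, true), (4, 25, true), (2, 5, true), (6, 15, true), (5, 17, true), (4, 24, true), (3, 26, true), (2, 26, true), (0, 6, true), (3, 15, true), (2, 24, true), (1, 26, true), (0, 26, true), (3, 22, true), (1, 4, true), (3, 14, true), (2, 17, true), (1, 24, true), (3, 15, true), (2, 24, true), (0, 6, true), (0, 22, true), (2, 14, true), (1, 24, true), (0, 26, true), (2, 22, true), (7, 7, true), (6, 17, true), (5, 17, true), (4, 24, true), (3, 24, true), (2, 26, true), (1, 26, true), (7, 15, true), (6, 17, true), (5, 24, true), (4, 24, true), (3, 26, true), (2, 26, true), (0, 6, true), (4, 15, true), (3, 24, true), (2, 24, true), (1, 26, true), (0, 26, true), (4, 22, true), (3, 22, true), (1, 4, true), (3, 1, true), (3, 7, true), (2, 24, true), (1, 24, true),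 (3, 22, true), (2, 22, true), (2, 22, false), (3, 22, false), (1, 24, false), (2, 24, false), (3, 7, false), (3, 1, false), (1, 4, false), (3, 22, false), (4, 22, false), (0, 26, false), (1, 26, false), (2, 24, false), (3, 24, false), (4, 15, false), (0, 6, false), (2, 26, false), (3, 26, false), (4, 24, false), (5, 24, false), (6, 17, false), (7, 15, false), (1, 26, false), (2, 26, false), (3, 24, false), (4, 24, false), (5, 17, false), (6, 17, false), (7, 7, false), (2, 22, false), (0, 26, false), (1, 24, false), (2, 14, false), (0, 22, false), (0, 6, false), (2, 24, false), (3, 15, false), (1, 24, false), (2, 17, false), (3, 14, false), (1, 4, false), (3, 22, false), (0, 26, false), (1, 26, false), (2, 24, false), (3, 15, false), (0, 6, false), (2, 26, false), (3, 26, false), (4, 24, false), (5, 17, false), (6, 15, false), (2, 5, false), (4, 25, false), (5, 25, false), (1, 27, false), (2, 27, false), (3, 26, false), (4, 26, false), (5, 23, false), (0, 27, false), (1, 27, false), (2, 26, false), (3, 26, false), (4, 24, false), (5, 16, false), (0, 6, false), (2, 27, false), (3, 27, false), (4, 26, false), (5, 26, false),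 (6, 24, false), (7, 17, false), (8, 16, false), (3, 25, false), (4, 25, false), (1, 27, false), (2, 26, false), (3, 26, false), (4, 23, false), (0, 27, false), (1, 26, false), (2, 26, false), (3, 24, false), (4, 16, false), (0, 6, false), (2, 27, false), (3, 26, false), (4, 26, false), (5, 24, false), (6, 17, false), (7, 16, false), (8, 9, false), (4, 22, false), (1, 27, false), (2, 26, false), (3, 24, false), (4, 15, false), (0, 27, false), (1, 26, false), (2, 24, false), (3, 17, false), (4, 15, false), (5, 10, false), (1, 22, false), (0, 6, false), (2, 27, false), (3, 24, false), (4, 15, false), (1, 27, false), (2, 24, false), (3, 17, false), (4, 15, false), (5, 10, false), (0, 23, false), (0, 6, false), (2, 24, false), (3, 16, false), (1, 24, false), (2, 17, false), (3, 16, false), (4, 11, false), (1, 5, false), (0, 27, false), (1, 27, false), (2, 23, false), (0, 6, false), (2, 27, false), (3, 27, false), (4, 24, false), (5, 16, false), (1, 27, false), (2, 27, false), (3, 24, false), (4, 17, false), (5, 16, false), (6, 11, false), (0, 27, false), (1, 27, false), (2, 24, false), (3, 17, false), (4, 17, false), (5, 12,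 false), (2, 4, false), (0, 6, false), (2, 27, false), (3, 27, false), (4, 26, false), (5, 26, false), (6, 14, false), (1, 27, false), (2, 27, false), (3, 26, false), (4, 15, false), (0, 27, false), (1, 27, false), (2, 26, false), (3, 17, false), (4, 14, false), (0, 6, false), (2, 27, false), (3, 27, false), (4, 15, false), (1, 27, false), (2, 27, false), (3, 17, false), (4, 15, false), (0, 27, false), (1, 16, false), (0, 6, false), (2, 27, false), (3, 17, false), (4, 16, false), (5, 0, false), (3, 4, false), (1, 27, false), (2, 26, false), (3, 26, false), (4, 15, false), (0, 27, false), (1, 26, false), (2, 26, false), (3, 17, false), (4, 7, false), (0, 6, false), (2, 27, false), (3, 26, false), (4, 15, false), (5, 10, false), (1, 27, false), (2, 26, false), (3, 17, false), (4, 12, false), (5, 7, false), (0, 27, false), (1, 7, false), (1, 4, false), (3, 10, false), (0, 6, false), (2, 27, false), (3, 26, false), (4, 26, false), (5, 12, false), (6, 7, false), (1, 27, false), (2, 26, false), (3, 26, false), (0, 27, false), (1, 26, false), (2, 26, false), (3, 3, false), (2, 22, false), (3, 22, false), (0, 25, false), (0, 6, false),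 (2, 26, false), (3, 23, false), (1, 26, false), (2, 24, false), (3, 23, false), (1, 5, false), (3, 25, false), (0, 27, false), (1, 27, false), (2, 26, false), (3, 23, false), (0, 6, false), (2, 27, false), (3, 27, false), (4, 26, false), (5, 24, false), (6, 23, false), (7, 9, false), (4, 22, false), (5, 22, false), (6, 10, false), (1, 27, false), (2, 23, false), (0, 27, false), (1, 24, false), (2, 23, false), (3, 11, false), (0, 6, false), (2, 23, false), (1, 24, false), (2, 23, false), (3, 11, false), (4, 9, false), (1, 5, false), (0, 27, false), (1, 27, false), (2, 23, false), (0, 6, false), (2, 27, false), (3, 27, false), (4, 24, false), (5, 23, false), (6, 11, false), (7, 11, false), (1, 27, false), (2, 23, false), (0, 27, false), (1, 24, false), (2, 23, false), (3, 11, false), (4, 11, false), (0, 6, false), (2, 27, false), (3, 24, false), (4, 24, false), (5, 12, false), (6, 12, false), (5, 1, false), (3, 4, false), (5, 22, false), (6, 22, false), (1, 27, false), (2, 26, false), (3, 26, false), (4, 24, false), (5, 24, false), (6, 15, false), (0, 27, false), (1, 26, false), (2, 26, false), (3, 24, false), (4, 24, false),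 (5, 17, false), (6, 15, false), (0, 6, false), (2, 27, false), (3, 26, false), (4, 26, false), (5, 24, false), (6, 24, false), (7, 17, false), (8, 17, false), (9, 7, false), (4, 22, false), (5, 22, false), (1, 27, false), (2, 26, false), (3, 24, false), (4, 24, false), (5, 15, false), (0, 27, false), (1, 26, false), (2, 24, false), (3, 24, false), (4, 17, false), (5, 7, false), (1, 22, false), (0, 6, false), (2, 27, false), (3, 24, false), (4, 14, false), (3, 4, false), (5, 22, false), (1, 27, false), (2, 26, false), (3, 26, false), (4, 24, false), (5, 15, false), (1, 25, false), (2, 25, false), (0, 26, false), (1, 26, false), (2, 23, false), (0, 6, false), (2, 26, false), (3, 26, false), (4, 24, false), (5, 16, false), (2, 5, false), (4, 25, false), (5, 25, false), (1, 27, false), (2, 27, false), (3, 26, false), (4, 26, false), (5, 23, false), (0, 27, false), (1, 27, false), (2, 26, false), (3, 26, false), (4, 24, false), (5, 16, false), (6, 9, false), (1, 25, false), (2, 25, false), (0, 6, false), (2, 27, false), (3, 26, false), (4, 26, false), (5, 23, false), (1, 27, false), (2, 26, false), (3, 26, false), (4, 24, false),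 (5, 16, false), (6, 11, false), (1, 25, false), (2, 25, false), (0, 26, false), (1, 26, false), (2, 23, false), (0, 6, false), (2, 26, false), (3, 26, false), (4, 24, false), (5, 16, false), (6, 11, false), (1, 26, false), (2, 26, false), (3, 24, false), (4, 17, false), (5, 12, false)], [(2, 16, true), (1, 17, true), (0, 27, true), (2, 16, true), (1, 27, true), (5, 15, true), (4, 17, true), (3, 27, true), (2, 27, true), (0, 6, true), (2, 15, true), (1, 27, true), (0, 27, true), (5, 15, true), (4, 17, true), (3, 26, true), (2, 27, true), (1, 27, true), (5, 15, true), (4, 26, true), (3, 27, true), (2, 27, true), (0, 6, true), (5, 14, true), (4, 17, true), (3, 26, true), (2, 26, true), (1, 27, true), (0, 27, true), (5, 15, true), (4, 26, true), (3, 26, true), (2, 27, true), (1, 27, true), (4, 4, true), (4, 14, true), (3, 27, true), (2, 27, true), (0, 6, true), (2, 22, false), (0, 6, false), (2, 27, false), (3, 27, false), (4, 24, false), (5, 15, false), (1, 27, false), (2, 27, false), (3, 24, false), (4, 17, false), (5, 7, false), (3, 4, false), (5, 22, false), (0, 27, false), (1, 27, false), (2, 26, false), (3, 26, false),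 (4, 24, false), (5, 7, false), (1, 25, false), (2, 25, false), (0, 6, false), (2, 27, false), (3, 26, false), (4, 26, false), (5, 23, false), (6, 11, false), (6, 1, false), (1, 27, false), (2, 26, false), (3, 14, false), (0, 27, false), (1, 15, false), (0, 6, false), (2, 27, false), (3, 17, false), (4, 14, false), (3, 4, false), (1, 27, false), (2, 26, false), (3, 26, false), (4, 15, false), (0, 27, false), (1, 26, false), (2, 26, false), (3, 17, false), (4, 15, false), (0, 25, false), (1, 25, false), (0, 6, false), (2, 26, false), (3, 26, false), (4, 16, false), (1, 26, false), (2, 26, false), (3, 17, false), (4, 16, false), (5, 0, false), (0, 26, false), (1, 26, false), (0, 6, false), (2, 26, false), (3, 26, false), (4, 3, false), (3, 22, false), (4, 22, false), (1, 26, false), (2, 24, false), (3, 24, false), (4, 14, false), (1, 22, false), (2, 22, false), (0, 24, false), (1, 24, false), (2, 15, false), (0, 6, false), (2, 24, false), (3, 24, false), (4, 17, false), (5, 14, false), (2, 4, false), (4, 22, false), (5, 22, false), (1, 26, false), (2, 26, false), (3, 24, false), (4, 24, false), (5, 15, false), (0, 26, false),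 (1, 26, false), (2, 24, false), (3, 24, false), (4, 17, false), (5, 15, false), (0, 5, false), (2, 25, false), (3, 25, false), (0, 6, false), (2, 27, false), (3, 27, false), (4, 26, false), (5, 26, false), (6, 23, false), (1, 27, false), (2, 27, false), (3, 26, false), (4, 26, false), (5, 24, false), (6, 23, false), (0, 27, false), (1, 27, false), (2, 26, false), (3, 26, false), (4, 24, false), (5, 24, false), (6, 16, false), (0, 6, false), (2, 27, false), (3, 27, false), (4, 26, false), (5, 26, false), (6, 24, false), (7, 24, false), (8, 17, false), (9, 16, false), (3, 25, false), (4, 25, false), (1, 27, false), (2, 26, false), (3, 26, false), (4, 23, false), (0, 27, false), (1, 26, false), (2, 26, false), (3, 24, false), (4, 23, false), (0, 6, false), (2, 27, false), (3, 26, false), (4, 26, false), (5, 24, false), (6, 24, false), (7, 16, false), (1, 27, false), (2, 26, false), (3, 26, false), (4, 24, false), (5, 24, false), (6, 17, false), (7, 16, false), (8, 9, false), (3, 22, false), (4, 22, false), (0, 27, false), (1, 26, false), (2, 24, false), (3, 24, false), (4, 15, false), (0, 6, false), (2, 27, false), (3, 26,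 false), (4, 24, false), (5, 24, false), (6, 17, false), (7, 15, false), (8, 10, false), (2, 25, false), (1, 26, false), (2, 23, false), (0, 26, false), (1, 24, false), (2, 23, false), (0, 6, false), (2, 26, false), (3, 24, false), (4, 24, false), (5, 16, false), (1, 26, false), (2, 24, false), (3, 24, false), (4, 17, false), (5, 16, false), (6, 11, false), (1, 5, false), (3, 25, false), (0, 27, false), (1, 27, false), (2, 26, false), (3, 23, false), (0, 6, false), (2, 27, false), (3, 27, false), (4, 26, false), (5, 24, false), (6, 23, false), (1, 27, false), (2, 27, false), (3, 26, false), (4, 24, false), (5, 24, false), (6, 16, false), (0, 27, false), (1, 27, false), (2, 26, false), (3, 24, false), (4, 24, false), (5, 17, false), (6, 16, false), (7, 11, false), (8, 9, false), (2, 22, false), (3, 22, false), (0, 6, false), (2, 27, false), (3, 27, false), (4, 24, false), (5, 24, false), (6, 15, false), (1, 27, false), (2, 27, false), (3, 24, false), (4, 24, false), (5, 17, false), (6, 15, false), (7, 10, false), (8, 10, false), (3, 4, false), (5, 22, false), (6, 22, false), (0, 27, false), (1, 27, false), (2, 26, false),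 (3, 26, false), (4, 24, false), (5, 24, false), (6, 15, false), (0, 6, false), (2, 27, false), (3, 27, false), (4, 26, false), (5, 26, false), (6, 24, false), (7, 24, false), (8, 17, false), (9, 15, false), (10, 10, false), (11, 10, false), (3, 25, false), (4, 25, false), (1, 27, false), (2, 26, false), (3, 26, false), (4, 23, false), (0, 27, false), (1, 26, false), (2, 26, false), (3, 24, false), (4, 23, false), (0, 6, false), (2, 27, false), (3, 26, false), (4, 26, false), (5, 24, false), (6, 24, false), (7, 16, false), (1, 27, false), (2, 26, false), (3, 26, false), (4, 24, false), (5, 24, false), (6, 17, false), (7, 16, false), (8, 11, false), (9, 11, false), (3, 22, false), (0, 27, false), (1, 26, false), (2, 24, false), (3, 14, false), (1, 22, false), (0, 6, false), (2, 27, false), (3, 24, false), (4, 15, false), (1, 27, false), (2, 24, false), (3, 17, false), (4, 14, false), (2, 4, false), (4, 22, false), (0, 27, false), (1, 26, false), (2, 26, false), (3, 24, false), (4, 15, false), (0, 6, false), (2, 27, false), (3, 26, false), (4, 26, false), (5, 24, false), (6, 17, false), (7, 15, false), (2, 25, false), (3, 25,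 false), (1, 26, false), (2, 26, false), (3, 23, false), (0, 26, false), (1, 26, false), (2, 24, false), (3, 16, false), (0, 6, false), (2, 26, false), (3, 26, false), (4, 24, false), (5, 17, false), (6, 16, false), (2, 5, false), (4, 25, false), (5, 25, false), (1, 27, false), (2, 27, false), (3, 26, false), (4, 26, false), (5, 23, false), (0, 27, false), (1, 27, false), (2, 26, false), (3, 26, false), (4, 24, false), (5, 16, false), (0, 6, false), (2, 27, false), (3, 27, false), (4, 26, false), (5, 26, false), (6, 24, false), (7, 17, false), (8, 16, false), (9, 9, false), (5, 22, false), (1, 27, false), (2, 27, false), (3, 26, false), (4, 24, false), (5, 15, false), (0, 27, false), (1, 27, false), (2, 26, false), (3, 24, false), (4, 17, false), (5, 15, false), (6, 10, false), (2, 22, false), (0, 6, false), (2, 27, false), (3, 27, false), (4, 24, false), (5, 15, false), (1, 27, false), (2, 27, false), (3, 24, false), (4, 17, false), (5, 15, false), (6, 10, false), (0, 27, false), (1, 23, false), (0, 6, false), (2, 27, false), (3, 24, false), (4, 16, false), (1, 27, false), (2, 24, false), (3, 17, false), (4, 16, false),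 (5, 11, false)]),
    ([0, 4], [3, 3, 2, 2, 0], [(8, 12, true), (7, 17, true), (6, 17, true), (5, 24, true), (4, 26, true), (3, 26, true), (2, 27, true), (1, 27, true), (9, 10, true), (8, 15, true), (7, 17, true), (6, 24, true), (5, 26, true), (4, 26, true), (3, 27, true), (2, 27, true), (0, 6, true), (5, 15, true), (4, 24, true), (3, 26, true), (2, 26, true), (1, 27, true), (0, 27, true), (5, 22, true), (3, 4, true), (6, 10, true), (5, 15, true), (4, 17, true), (3, 24, true), (2, 27, true), (1, 27, true), (5, 15, true), (4, 24, true), (3, 27, true), (2, 27, true), (0, 6, true), (2, 22, true), (6, 9, true), (5, 16, true), (4, 17, true), (3, 24, true), (2, 26, true), (1, 27, true), (0, 27, true), (5, 16, true), (4, 24, true), (3, 26, true), (2, 27, true), (1, 27, true), (5, 23, true), (4, 26, true), (3, 27, true), (2, 27, true), (0, 6, true), (2, 25, true), (0, 5, true), (3, 16, true), (2, 17, true), (1, 24, true), (0, 26, true), (3, 16, true), (2, 24, true), (1, 26, true), (3, 23, true), (2, 26, true), (0, 6, true), (0, 25, true), (4, 15, true), (3, 17, true), (2, 24, true), (1, 26, true), (0, 27, true), (4, 15, true), (3,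 24, true), (2, 26, true), (1, 27, true), (4, 22, true), (7, 14, true), (6, 17, true), (5, 24, true), (4, 26, true), (3, 26, true), (2, 27, true), (0, 6, true), (4, 15, true), (3, 24, true), (2, 26, true), (1, 26, true), (0, 27, true), (4, 22, true), (2, 4, true), (3, 14, true), (2, 24, true), (1, 27, true), (3, 22, true), (8, 7, true), (7, 17, true), (6, 17, true), (5, 24, true), (4, 24, true), (3, 26, true), (2, 27, true), (0, 6, true), (5, 15, true), (4, 17, true), (3, 24, true), (2, 24, true), (1, 26, true), (0, 27, true), (5, 15, true), (4, 24, true), (3, 24, true), (2, 26, true), (1, 27, true), (5, 22, true), (4, 22, true), (7, 1, true), (7, 1, false), (4, 22, false), (5, 22, false), (1, 27, false), (2, 26, false), (3, 24, false), (4, 24, false), (5, 15, false), (0, 27, false), (1, 26, false), (2, 24, false), (3, 24, false), (4, 17, false), (5, 15, false), (0, 6, false), (2, 27, false), (3, 26, false), (4, 24, false), (5, 24, false), (6, 17, false), (7, 17, false), (8, 7, false), (3, 22, false), (4, 22, false), (1, 27, false), (2, 24, false), (3, 24, false), (4, 15, false), (0, 27, false), (1, 24, false), (2, 24, false),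 (3, 17, false), (4, 7, false), (1, 4, false), (3, 22, false), (0, 6, false), (2, 27, false), (3, 26, false), (4, 26, false), (5, 24, false), (6, 14, false), (4, 22, false), (1, 27, false), (2, 26, false), (3, 24, false), (4, 15, false), (1, 25, false), (0, 26, false), (1, 23, false), (0, 6, false), (2, 26, false), (3, 24, false), (4, 16, false), (2, 5, false), (4, 25, false), (1, 27, false), (2, 27, false), (3, 26, false), (4, 23, false), (0, 27, false), (1, 27, false), (2, 26, false), (3, 24, false), (4, 16, false), (5, 9, false), (2, 22, false), (0, 6, false), (2, 27, false), (3, 27, false), (4, 24, false), (5, 15, false), (6, 10, false), (4, 4, false), (6, 22, false), (1, 27, false), (2, 27, false), (3, 26, false), (4, 26, false), (5, 24, false), (6, 15, false), (7, 10, false), (2, 25, false), (3, 25, false), (0, 27, false), (1, 26, false), (2, 26, false), (3, 23, false), (0, 6, false), (2, 27, false), (3, 26, false), (4, 26, false), (5, 24, false), (6, 16, false), (7, 11, false), (2, 25, false), (3, 25, false), (1, 26, false), (2, 26, false), (3, 23, false), (0, 26, false), (1, 26, false), (2, 24, false), (3, 16, false),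 (4, 11, false), (0, 6, false), (2, 26, false), (3, 26, false), (4, 24, false), (5, 17, false), (6, 12, false), (1, 26, false), (2, 14, false), (0, 15, false), (0, 5, false), (0, 6, false), (2, 27, false), (3, 27, false), (4, 16, false), (5, 0, false), (1, 27, false), (2, 27, false), (0, 27, false), (1, 27, false), (2, 3, false), (2, 4, false), (4, 22, false), (5, 22, false), (0, 6, false), (2, 27, false), (3, 27, false), (4, 26, false), (5, 26, false), (6, 24, false), (7, 24, false), (8, 14, false), (5, 22, false), (6, 22, false), (1, 27, false), (2, 27, false), (3, 26, false), (4, 24, false), (5, 24, false), (6, 15, false), (2, 25, false), (0, 27, false), (1, 26, false), (2, 23, false), (0, 6, false), (2, 27, false), (3, 26, false), (4, 24, false), (5, 23, false), (1, 27, false), (2, 26, false), (3, 24, false), (4, 24, false), (5, 16, false), (1, 25, false), (0, 26, false), (1, 23, false), (0, 6, false), (2, 26, false), (3, 24, false), (4, 23, false), (1, 26, false), (2, 24, false), (3, 24, false), (4, 16, false), (5, 9, false), (1, 22, false), (2, 22, false), (0, 24, false), (1, 24, false), (2, 15, false), (3, 10, false),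 (0, 5, false), (0, 6, false), (2, 27, false), (3, 27, false), (4, 23, false), (1, 27, false), (2, 27, false), (3, 24, false), (4, 23, false), (0, 27, false), (1, 27, false), (2, 24, false), (3, 24, false), (4, 16, false), (5, 11, false), (0, 6, false), (2, 27, false), (3, 23, false), (1, 27, false), (2, 24, false), (3, 23, false), (0, 27, false), (1, 24, false), (2, 24, false), (3, 16, false), (4, 11, false), (5, 9, false), (1, 4, false), (3, 22, false), (4, 22, false), (0, 6, false), (2, 27, false), (3, 26, false), (4, 26, false), (5, 24, false), (6, 24, false), (7, 15, false), (8, 10, false), (9, 10, false), (2, 25, false), (3, 25, false), (1, 26, false), (2, 26, false), (3, 23, false), (0, 26, false), (1, 26, false), (2, 24, false), (3, 23, false), (0, 6, false), (2, 26, false), (3, 26, false), (4, 24, false), (5, 24, false), (6, 16, false), (7, 11, false), (8, 11, false), (3, 22, false), (4, 22, false), (1, 26, false), (2, 24, false), (3, 24, false), (4, 7, false), (4, 1, false), (1, 22, false), (2, 22, false), (0, 24, false), (1, 24, false), (2, 15, false), (0, 6, false), (2, 24, false), (3, 24, false), (4, 17, false),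 (5, 15, false), (1, 24, false), (2, 24, false), (3, 17, false), (4, 17, false), (5, 7, false), (1, 4, false), (3, 22, false), (0, 26, false), (1, 26, false), (2, 24, false), (3, 14, false), (1, 22, false), (0, 6, false), (2, 26, false), (3, 24, false), (4, 15, false), (1, 26, false), (2, 24, false), (3, 17, false), (4, 14, false), (1, 22, false), (0, 24, false), (1, 15, false), (0, 6, false), (2, 24, false), (3, 17, false), (4, 15, false), (2, 5, false), (1, 27, false), (2, 27, false), (3, 23, false), (0, 27, false), (1, 27, false), (2, 24, false), (3, 16, false), (0, 6, false), (2, 27, false), (3, 27, false), (4, 24, false), (5, 17, false), (6, 16, false), (1, 27, false), (2, 23, false), (0, 27, false), (1, 24, false), (2, 16, false), (0, 6, false), (2, 27, false), (3, 24, false), (4, 17, false), (5, 16, false), (6, 9, false), (1, 23, false), (0, 24, false), (1, 16, false), (0, 6, false), (2, 24, false), (3, 17, false), (4, 16, false), (5, 11, false), (2, 5, false), (1, 27, false), (2, 27, false), (3, 23, false), (0, 27, false), (1, 27, false), (2, 24, false), (3, 16, false), (0, 6, false), (2, 27, false), (3, 27, false),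 (4, 24, false), (5, 17, false), (6, 16, false), (7, 11, false), (1, 27, false), (2, 27, false), (3, 24, false), (4, 17, false), (5, 17, false), (6, 12, false)], [(2, 17, true), (1, 17, true), (0, 27, true), (3, 16, true), (2, 17, true), (1, 27, true), (3, 16, true), (2, 27, true), (0, 6, true), (3, 14, true), (2, 17, true), (1, 27, true), (0, 27, true), (3, 15, true), (2, 27, true), (1, 27, true), (5, 14, true), (4, 26, true), (3, 27, true), (2, 27, true), (0, 6, true), (5, 1, true), (3, 22, false), (0, 6, false), (2, 27, false), (3, 27, false), (4, 26, false), (5, 24, false), (6, 7, false), (6, 1, false), (4, 22, false), (1, 27, false), (2, 27, false), (3, 24, false), (4, 15, false), (0, 27, false), (1, 27, false), (2, 24, false), (3, 17, false), (4, 15, false), (0, 6, false), (2, 27, false), (3, 27, false), (4, 24, false), (5, 17, false), (6, 17, false), (7, 7, false), (1, 27, false), (2, 23, false), (0, 27, false), (1, 24, false), (2, 16, false), (0, 6, false), (2, 27, false), (3, 24, false), (4, 17, false), (5, 16, false), (6, 11, false), (3, 4, false), (1, 27, false), (2, 26, false), (3, 26, false), (4, 14, false),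 (0, 27, false), (1, 26, false), (2, 15, false), (0, 25, false), (0, 6, false), (2, 26, false), (3, 16, false), (4, 0, false), (1, 7, false), (1, 4, false), (3, 10, false), (0, 26, false), (1, 26, false), (2, 12, false), (3, 7, false), (0, 6, false), (2, 26, false), (3, 26, false), (1, 26, false), (2, 26, false), (3, 3, false), (2, 22, false), (3, 22, false), (1, 5, false), (3, 25, false), (0, 27, false), (1, 27, false), (2, 26, false), (3, 23, false), (0, 6, false), (2, 27, false), (3, 27, false), (4, 26, false), (5, 24, false), (6, 23, false), (3, 25, false), (1, 27, false), (2, 26, false), (3, 23, false), (0, 27, false), (1, 26, false), (2, 24, false), (3, 23, false), (4, 9, false), (1, 22, false), (2, 22, false), (3, 10, false), (0, 6, false), (2, 23, false), (1, 24, false), (2, 23, false), (3, 11, false), (1, 5, false), (0, 27, false), (1, 27, false), (2, 23, false), (0, 6, false), (2, 27, false), (3, 27, false), (4, 24, false), (5, 23, false), (6, 11, false), (7, 9, false), (4, 4, false), (6, 22, false), (7, 22, false), (8, 10, false), (9, 10, false), (3, 25, false), (4, 25, false), (1, 27, false), (2, 26, false), (3,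 26, false), (4, 23, false), (0, 27, false), (1, 26, false), (2, 26, false), (3, 24, false), (4, 23, false), (5, 11, false), (6, 11, false), (2, 22, false), (0, 25, false), (0, 6, false), (2, 26, false), (3, 23, false), (2, 5, false), (4, 25, false), (1, 27, false), (2, 27, false), (3, 26, false), (4, 23, false), (5, 9, false), (3, 22, false), (4, 10, false), (3, 4, false), (5, 22, false), (6, 10, false), (2, 25, false), (3, 25, false), (0, 27, false), (1, 26, false), (2, 26, false), (3, 23, false), (4, 11, false)])]

/-- A conjugation. -/
def threeCo3TailFus1 : Schur.Tails.Fus where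
  xs := [[6, 3, 2, 1, 1, 0, 0], [6, 6, 5, 5, 4, 3, 3, 2, 2], [5, 5, 4, 0], [5, 5, 4, 0, 0], [5, 5, 4, 2], [6, 5, 5, 2, 0, 0], [6, 4, 2, 0]]
  ys := [[6, 6, 5, 3, 3, 2, 2, 1, 1, 0], [6, 6, 4, 4, 3, 2, 0], [5, 5, 4, 4, 0], [4, 4, 0, 0], [6, 5, 5, 2, 2, 0], [5, 4, 4, 2, 2], [6, 5, 5, 4, 4, 2, 2, 0, 0]]
  rels := [
    ([0, 0, 0], [6, 5, 4, 3, 3, 2, 2], [(6, 12, true), (5, 12, true), (4, 17, true), (3, 17, true), (2, 21, true), (1, 24, true), (7, 9, true), (6, 11, true), (5, 16, true), (4, 17, true), (3, 21, true), (2, 24, true), (0, 6, true), (2, 16, true), (1, 21, true), (0, 24, true), (2, 20, true), (1, 23, true), (7, 11, true), (6, 16, true), (5, 17, true), (4, 21, true), (3, 24, true), (2, 27, true), (0, 6, true), (3, 16, true), (2, 21, true), (1, 24, true), (0, 27, true), (3, 20, true), (2, 23, true), (1, 27, true), (8, 10, true), (7, 15, true), (6, 17, true), (5, 21, true), (4, 24, true), (3, 27, true), (2, 27, true), (0, 6, true), (4, 15, true), (3, 21, true), (2, 24, true), (1, 27, true), (0, 27, true), (4, 19, true), (3, 22, true), (8, 9, true), (7, 16, true), (6, 17, true), (5, 21, true), (4, 24, true), (3, 26, true),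 (2, 27, true), (1, 27, true), (7, 16, true), (6, 21, true), (5, 24, true), (4, 26, true), (3, 27, true), (2, 27, true), (0, 6, true), (4, 20, true), (3, 23, true), (2, 26, true), (1, 27, true), (0, 27, true), (3, 25, true), (1, 5, true), (5, 16, true), (4, 17, true), (3, 21, true), (2, 24, true), (1, 26, true), (5, 16, true), (4, 21, true), (3, 24, true), (2, 26, true), (0, 6, true), (2, 20, true), (1, 23, true), (0, 26, true), (1, 25, true), (6, 15, true), (5, 17, true), (4, 21, true), (3, 24, true), (2, 26, true), (1, 27, true), (6, 15, true), (5, 21, true), (4, 24, true), (3, 26, true), (2, 27, true), (0, 6, true), (3, 19, true), (2, 22, true), (6, 14, true), (5, 17, true), (4, 21, true), (3, 24, true), (2, 26, true), (1, 26, true), (0, 27, true), (6, 15, true), (5, 21, true), (4, 24, true), (3, 26, true), (2, 26, true), (1, 27, true), (6, 19, true), (5, 22, true), (3, 4, true), (5, 14, true), (4, 21, true), (3, 24, true), (2, 27, true), (0, 6, true), (2, 19, true), (1, 22, true), (3, 18, true), (2, 23, true), (1, 26, true), (0, 27, true), (2, 25, true), (10, 8, true), (9, 8, true), (8, 13, true), (7, 17, true), (6, 21,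 true), (5, 24, true), (4, 24, true), (3, 26, true), (2, 27, true), (1, 27, true), (8, 16, true), (7, 21, true), (6, 24, true), (5, 24, true), (4, 26, true), (3, 27, true), (2, 27, true), (0, 6, true), (5, 20, true), (4, 23, true), (3, 24, true), (2, 26, true), (1, 27, true), (0, 27, true), (4, 23, true), (3, 26, true), (2, 27, true), (1, 27, true), (4, 25, true), (2, 5, true), (6, 16, true), (5, 21, true), (4, 24, true), (3, 24, true), (2, 26, true), (0, 6, true), (3, 20, true), (2, 23, true), (1, 24, true), (0, 26, true), (2, 23, true), (1, 26, true), (2, 25, true), (7, 15, true), (6, 21, true), (5, 24, true), (4, 24, true), (3, 26, true), (2, 27, true), (0, 6, true), (4, 19, true), (3, 22, true), (2, 22, true), (6, 15, true), (5, 21, true), (4, 24, true), (3, 24, true), (2, 26, true), (1, 26, true), (0, 27, true), (6, 19, true), (5, 22, true), (4, 22, true), (2, 4, true), (5, 13, true), (4, 21, true), (3, 24, true), (2, 24, true), (1, 27, true), (5, 20, true), (4, 23, true), (3, 24, true), (2, 27, true), (0, 6, true), (1, 23, true), (0, 27, true), (5, 20, true), (4, 23, true), (3, 24, true), (2, 27, true), (1, 27, true),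 (4, 23, true), (3, 27, true), (2, 27, true), (0, 6, true), (0, 5, true), (2, 19, true), (1, 22, true), (0, 22, true), (3, 19, true), (2, 22, true), (1, 22, true), (9, 7, true), (8, 12, true), (7, 17, true), (6, 17, true), (5, 21, true), (4, 21, true), (3, 24, true), (2, 24, true), (1, 26, true), (0, 26, true), (9, 10, true), (8, 15, true), (7, 17, true), (6, 21, true), (5, 21, true), (4, 24, true), (3, 24, true), (2, 26, true), (1, 26, true), (8, 15, true), (7, 21, true), (6, 21, true), (5, 24, true), (4, 24, true), (3, 26, true), (2, 26, true), (0, 6, true), (5, 19, true), (4, 19, true), (3, 22, true), (2, 22, true), (0, 4, true), (6, 7, true), (5, 17, true), (4, 17, true), (3, 21, true), (2, 21, true), (1, 24, true), (0, 24, true), (6, 15, true), (5, 17, true), (4, 21, true), (3, 21, true), (2, 24, true), (1, 24, true), (6, 15, true), (5, 21, true), (4, 21, true), (3, 24, true), (2, 24, true), (0, 6, true), (3, 19, true), (2, 19, true), (1, 22, true), (0, 22, true), (5, 1, true), (6, 7, true), (5, 12, true), (4, 21, true), (3, 21, true), (2, 24, true), (1, 24, true), (0, 26, true), (6, 10, true), (5, 19, true), (4, 19,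 true), (3, 22, true), (2, 22, true), (7, 7, true), (6, 21, true), (5, 21, true), (4, 24, true), (3, 24, true), (2, 26, true), (1, 26, true), (7, 19, true), (6, 19, true), (5, 22, true), (4, 22, true), (2, 4, true), (7, 0, true), (7, 12, true), (6, 17, true), (5, 21, true), (4, 21, true), (3, 24, true), (2, 24, true), (0, 6, true), (5, 9, true), (4, 16, true), (3, 21, true), (2, 21, true), (1, 24, true), (0, 24, true), (4, 20, true), (3, 20, true), (2, 23, true), (1, 24, true), (2, 23, true), (0, 6, true), (5, 16, true), (4, 21, true), (3, 21, true), (2, 24, true), (1, 24, true), (0, 27, true), (5, 20, true), (4, 20, true), (3, 23, true), (2, 24, true), (1, 27, true), (3, 23, true), (2, 27, true), (0, 6, true), (6, 15, true), (5, 21, true), (4, 21, true), (3, 24, true), (2, 24, true), (1, 27, true), (0, 27, true), (6, 19, true), (5, 19, true), (4, 22, true), (3, 22, true), (8, 14, true), (7, 21, true), (6, 21, true), (5, 24, true), (4, 24, true), (3, 26, true), (2, 27, true), (1, 27, true), (8, 19, true), (7, 19, true), (6, 22, true), (5, 22, true), (9, 18, true), (8, 20, true), (7, 23, true), (6, 24, true), (5, 26, true),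 (4, 26, true), (3, 27, true), (2, 27, true), (0, 6, true), (4, 23, true), (3, 26, true), (2, 26, true), (1, 27, true), (0, 27, true), (4, 25, true), (3, 25, true), (1, 5, true), (5, 18, true), (4, 23, true), (3, 24, true), (2, 26, true), (1, 26, true), (4, 23, true), (3, 26, true), (2, 26, true), (0, 6, true), (1, 25, true), (0, 25, true), (3, 3, true), (2, 26, true), (1, 26, true), (0, 27, true), (3, 26, true), (2, 26, true), (1, 27, true), (8, 8, true), (7, 13, true), (6, 21, true), (5, 21, true), (4, 26, true), (3, 26, true), (2, 27, true), (0, 6, true), (4, 20, true), (3, 20, true), (2, 25, true), (1, 25, true), (5, 20, true), (4, 20, true), (3, 25, true), (2, 25, true), (0, 5, true), (3, 19, true), (2, 19, true), (0, 4, true), (1, 19, true), (0, 19, true), (1, 2, true), (2, 7, true), (1, 17, true), (0, 26, true), (2, 15, true), (1, 26, true), (6, 7, true), (5, 17, true), (4, 17, true), (3, 26, true), (2, 26, true), (0, 6, true), (3, 15, true), (2, 17, true), (1, 26, true), (0, 26, true), (3, 15, true), (2, 26, true), (1, 26, true), (2, 4, true), (2, 1, true), (2, 0, true), (2, 0, false), (2, 4, false), (4, 10, false),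 (5, 10, false), (2, 5, false), (4, 25, false), (5, 25, false), (6, 11, false), (7, 11, false), (3, 25, false), (4, 25, false), (5, 11, false), (6, 11, false), (4, 10, false), (2, 25, false), (3, 11, false), (2, 5, false), (4, 25, false), (5, 11, false), (5, 0, false), (4, 10, false), (5, 10, false), (3, 11, false), (4, 11, false), (2, 11, false), (3, 11, false), (2, 4, false), (2, 5, false), (4, 25, false), (5, 25, false), (3, 25, false), (4, 25, false), (5, 2, false), (4, 19, false), (5, 19, false), (2, 25, false), (3, 20, false), (4, 20, false), (2, 5, false), (4, 25, false), (5, 20, false), (6, 20, false), (7, 0, false), (6, 8, false), (3, 25, false), (4, 20, false), (5, 11, false), (2, 25, false), (3, 20, false), (4, 11, false), (1, 26, false), (2, 21, false), (3, 12, false)], [(9, 12, true), (8, 17, true), (7, 17, true), (6, 21, true), (5, 21, true), (4, 24, true), (3, 24, true), (2, 27, true), (0, 6, true), (7, 12, true), (6, 17, true), (5, 17, true), (4, 21, true), (3, 21, true), (2, 24, true), (1, 24, true), (0, 27, true), (8, 11, true), (7, 16, true), (6, 17, true), (5, 21, true), (4, 21, true), (3, 24, true), (2,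 24, true), (1, 27, true), (7, 16, true), (6, 21, true), (5, 21, true), (4, 24, true), (3, 24, true), (2, 27, true), (0, 6, true), (4, 20, true), (3, 20, true), (2, 23, true), (1, 24, true), (0, 27, true), (2, 23, true), (1, 27, true), (10, 9, true), (9, 16, true), (8, 17, true), (7, 21, true), (6, 21, true), (5, 24, true), (4, 24, true), (3, 27, true), (2, 27, true), (0, 6, true), (6, 16, true), (5, 21, true), (4, 21, true), (3, 24, true), (2, 24, true), (1, 27, true), (0, 27, true), (6, 20, true), (5, 20, true), (4, 23, true), (3, 24, true), (2, 27, true), (1, 27, true), (4, 23, true), (3, 27, true), (2, 27, true), (0, 6, true), (0, 5, true), (5, 16, true), (4, 17, true), (3, 21, true), (2, 21, true), (1, 24, true), (0, 24, true), (5, 16, true), (4, 21, true), (3, 21, true), (2, 24, true), (1, 24, true), (5, 20, true), (4, 20, true), (3, 23, true), (2, 24, true), (0, 6, true), (0, 23, true), (7, 15, true), (6, 17, true), (5, 21, true), (4, 21, true), (3, 24, true), (2, 24, true), (1, 27, true), (7, 15, true), (6, 21, true), (5, 21, true), (4, 24, true), (3, 24, true), (2, 27, true), (0, 6, true), (4, 19, true), (3, 19,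 true), (2, 22, true), (1, 22, true), (7, 14, true), (6, 17, true), (5, 21, true), (4, 21, true), (3, 24, true), (2, 24, true), (1, 26, true), (0, 27, true), (7, 15, true), (6, 21, true), (5, 21, true), (4, 24, true), (3, 24, true), (2, 26, true), (1, 27, true), (7, 19, true), (6, 19, true), (5, 22, true), (4, 22, true), (9, 14, true), (8, 21, true), (7, 21, true), (6, 24, true), (5, 24, true), (4, 26, true), (3, 26, true), (2, 27, true), (0, 6, true), (6, 19, true), (5, 19, true), (4, 22, true), (3, 22, true), (1, 4, true), (4, 18, true), (3, 20, true), (2, 23, true), (1, 24, true), (0, 27, true), (2, 23, true), (1, 27, true), (6, 18, true), (5, 23, true), (4, 24, true), (3, 27, true), (2, 27, true), (0, 6, true), (2, 23, true), (1, 27, true), (0, 27, true), (1, 5, true), (1, 3, true), (0, 6, true), (4, 9, true), (3, 16, true), (2, 17, true), (1, 21, true), (0, 21, true), (3, 16, true), (2, 21, true), (1, 21, true), (3, 20, true), (2, 20, true), (6, 16, true), (5, 17, true), (4, 21, true), (3, 21, true), (2, 27, true), (0, 6, true), (3, 16, true), (2, 21, true), (1, 21, true), (0, 27, true), (3, 20, true), (2, 20, true),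 (6, 15, true), (5, 17, true), (4, 21, true), (3, 21, true), (2, 27, true), (1, 27, true), (6, 15, true), (5, 21, true), (4, 21, true), (3, 27, true), (2, 27, true), (0, 6, true), (3, 19, true), (2, 19, true), (6, 14, true), (5, 17, true), (4, 21, true), (3, 21, true), (2, 26, true), (1, 27, true), (0, 27, true), (6, 15, true), (5, 21, true), (4, 21, true), (3, 26, true), (2, 27, true), (1, 27, true), (6, 19, true), (5, 19, true), (8, 14, true), (7, 21, true), (6, 21, true), (5, 26, true), (4, 26, true), (3, 27, true), (2, 27, true), (0, 6, true), (5, 19, true), (4, 19, true), (2, 4, true), (3, 18, true), (2, 20, true), (0, 5, true), (0, 18, true), (6, 8, true), (5, 13, true), (4, 17, true), (3, 21, true), (2, 21, true), (1, 24, true), (0, 27, true), (5, 16, true), (4, 21, true), (3, 21, true), (2, 24, true), (1, 27, true), (5, 20, true), (4, 20, true), (3, 23, true), (2, 27, true), (0, 6, true), (5, 16, true), (4, 21, true), (3, 21, true), (2, 24, true), (1, 27, true), (0, 27, true), (5, 20, true), (4, 20, true), (3, 23, true), (2, 27, true), (1, 27, true), (2, 5, true), (5, 15, true), (4, 21, true), (3, 21, true), (2, 24,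 true), (0, 6, true), (2, 19, true), (1, 19, true), (0, 22, true), (4, 15, true), (3, 21, true), (2, 21, true), (1, 24, true), (0, 26, true), (4, 19, true), (3, 19, true), (2, 22, true), (6, 13, true), (5, 21, true), (4, 21, true), (3, 24, true), (2, 26, true), (1, 26, true), (6, 20, true), (5, 20, true), (4, 23, true), (3, 26, true), (2, 26, true), (0, 6, true), (1, 25, true), (0, 25, true), (5, 20, true), (4, 20, true), (3, 23, true), (2, 26, true), (1, 26, true), (0, 27, true), (3, 25, true), (2, 25, true), (7, 19, true), (6, 19, true), (5, 22, true), (3, 4, true), (5, 19, true), (4, 19, true), (3, 22, true), (5, 2, true), (7, 8, true), (6, 13, true), (5, 17, true), (4, 24, true), (3, 26, true), (2, 27, true), (1, 27, true), (6, 16, true), (5, 24, true), (4, 26, true), (3, 27, true), (2, 27, true), (0, 6, true), (3, 23, true), (2, 26, true), (1, 27, true), (0, 27, true), (3, 25, true), (1, 5, true), (3, 16, true), (2, 24, true), (1, 26, true), (3, 23, true), (2, 26, true), (0, 6, true), (0, 25, true), (3, 15, true), (2, 24, true), (1, 26, true), (0, 27, true), (3, 22, true), (5, 15, true), (4, 24, true), (3, 26, true),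 (2, 26, true), (1, 27, true), (5, 22, true), (3, 4, true), (4, 13, true), (3, 24, true), (2, 27, true), (0, 6, true), (1, 23, true), (0, 27, true), (3, 23, true), (2, 27, true), (1, 27, true), (2, 5, true), (2, 22, true), (3, 22, true), (8, 7, true), (7, 17, true), (6, 17, true), (5, 21, true), (4, 24, true), (3, 26, true), (2, 26, true), (0, 6, true), (5, 15, true), (4, 17, true), (3, 21, true), (2, 24, true), (1, 26, true), (0, 26, true), (5, 15, true), (4, 21, true), (3, 24, true), (2, 26, true), (1, 26, true), (5, 19, true), (4, 22, true), (2, 4, true), (4, 1, true), (4, 7, true), (3, 21, true), (2, 24, true), (0, 6, true), (1, 19, true), (0, 22, true), (5, 12, true), (4, 12, true), (3, 17, true), (2, 21, true), (1, 24, true), (0, 26, true), (6, 12, true), (5, 12, true), (4, 17, true), (3, 21, true), (2, 24, true), (1, 26, true), (7, 11, true), (6, 11, true), (5, 16, true), (4, 21, true), (3, 24, true), (2, 26, true), (0, 6, true), (2, 20, true), (1, 23, true), (0, 26, true), (1, 25, true), (7, 9, true), (6, 11, true), (5, 16, true), (4, 21, true), (3, 24, true), (2, 26, true), (1, 27, true), (5, 20, true), (4, 23, true),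 (3, 26, true), (2, 27, true), (0, 6, true), (1, 25, true), (6, 11, true), (5, 16, true), (4, 21, true), (3, 24, true), (2, 26, true), (1, 27, true), (0, 27, true), (5, 20, true), (4, 23, true), (3, 26, true), (2, 27, true), (1, 27, true), (4, 25, true), (2, 5, true), (6, 10, true), (5, 15, true), (4, 21, true), (3, 24, true), (2, 26, true), (0, 6, true), (2, 19, true), (1, 22, true), (5, 9, true), (4, 16, true), (3, 21, true), (2, 24, true), (1, 26, true), (0, 26, true), (4, 20, true), (3, 23, true), (2, 26, true), (1, 26, true), (3, 25, true), (2, 25, true), (7, 16, true), (6, 21, true), (5, 24, true), (4, 26, true), (3, 26, true), (2, 27, true), (0, 6, true), (4, 20, true), (3, 23, true), (2, 26, true), (1, 26, true), (0, 27, true), (3, 25, true), (2, 25, true), (7, 15, true), (6, 21, true), (5, 24, true), (4, 26, true), (3, 26, true), (2, 27, true), (1, 27, true), (7, 19, true), (6, 22, true), (4, 4, true), (6, 14, true), (5, 21, true), (4, 24, true), (3, 27, true), (2, 27, true), (0, 6, true), (3, 19, true), (2, 22, true), (4, 18, true), (3, 23, true), (2, 26, true), (1, 27, true), (0, 27, true), (3, 25, true), (1, 5,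 true), (7, 9, true), (6, 11, true), (5, 16, true), (4, 21, true), (3, 24, true), (2, 24, true), (1, 26, true), (5, 20, true), (4, 23, true), (3, 24, true), (2, 26, true), (0, 6, true), (1, 23, true), (0, 26, true), (1, 25, true), (7, 11, true), (6, 16, true), (5, 21, true), (4, 24, true), (3, 24, true), (2, 26, true), (1, 27, true), (6, 20, true), (5, 23, true), (4, 24, true), (3, 26, true), (2, 27, true), (0, 6, true), (2, 23, true), (1, 26, true), (0, 27, true), (2, 25, true), (8, 10, true), (7, 15, true), (6, 21, true), (5, 24, true), (4, 24, true), (3, 26, true), (2, 27, true), (1, 27, true), (7, 19, true), (6, 22, true), (5, 22, true), (10, 9, true), (9, 16, true), (8, 21, true), (7, 24, true), (6, 24, true), (5, 26, true), (4, 26, true), (3, 27, true), (2, 27, true), (0, 6, true), (6, 20, true), (5, 23, true), (4, 24, true), (3, 26, true), (2, 26, true), (1, 27, true), (0, 27, true), (5, 23, true), (4, 26, true), (3, 26, true), (2, 27, true), (1, 27, true), (5, 25, true), (4, 25, true), (2, 5, true), (7, 16, true), (6, 21, true), (5, 24, true), (4, 24, true), (3, 26, true), (2, 26, true), (0, 6, true), (4, 20, true),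 (3, 23, true), (2, 24, true), (1, 26, true), (0, 26, true), (3, 23, true), (2, 26, true), (1, 26, true), (3, 25, true), (2, 25, true), (8, 15, true), (7, 21, true), (6, 24, true), (5, 24, true), (4, 26, true), (3, 26, true), (2, 27, true), (0, 6, true), (5, 19, true), (4, 22, true), (3, 22, true), (1, 4, true), (4, 14, true), (3, 21, true), (2, 24, true), (1, 24, true), (0, 27, true), (4, 19, true), (3, 22, true), (2, 22, true), (5, 18, true), (4, 23, true), (3, 24, true), (2, 26, true), (1, 27, true), (4, 23, true), (3, 26, true), (2, 27, true), (0, 6, true), (1, 25, true), (3, 3, true), (2, 26, true), (1, 27, true), (0, 27, true), (3, 26, true), (2, 27, true), (1, 27, true), (8, 8, true), (7, 8, true), (6, 13, true), (5, 21, true), (4, 26, true), (3, 27, true), (2, 27, true), (0, 6, true), (3, 20, true), (2, 25, true), (0, 5, true), (1, 20, true), (0, 25, true), (2, 19, true), (3, 19, true), (1, 4, true), (5, 8, true), (4, 8, true), (3, 13, true), (2, 21, true), (1, 21, true), (0, 27, true), (3, 20, true), (2, 20, true), (4, 20, true), (3, 20, true), (1, 5, true), (2, 19, true), (1, 19, true), (3, 19, true), (2, 19, true),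 (3, 2, true), (5, 7, true), (4, 12, true), (3, 17, true), (2, 26, true), (1, 26, true), (5, 10, true), (4, 15, true), (3, 26, true), (2, 26, true), (0, 6, true), (0, 4, true), (1, 7, true), (0, 17, true), (1, 15, true), (6, 7, true), (5, 12, true), (4, 17, true), (3, 17, true), (2, 26, true), (0, 6, true), (3, 10, true), (2, 15, true), (1, 17, true), (0, 26, true), (2, 15, true), (1, 26, true), (6, 7, true), (5, 17, true), (4, 17, true), (3, 26, true), (2, 26, true), (0, 6, true), (3, 15, true), (2, 17, true), (1, 26, true), (0, 26, true), (3, 15, true), (2, 26, true), (1, 26, true), (2, 4, true), (2, 1, true), (2, 0, true), (2, 0, false), (2, 4, false), (4, 10, false), (5, 10, false), (3, 10, false), (4, 10, false), (2, 5, false), (4, 25, false), (5, 11, false), (6, 11, false), (3, 25, false), (4, 11, false), (5, 11, false), (3, 10, false), (3, 4, false), (5, 10, false), (2, 25, false), (3, 25, false), (4, 11, false), (2, 5, false), (4, 25, false), (5, 25, false), (6, 11, false), (6, 0, false), (5, 10, false), (6, 10, false), (4, 10, false), (5, 10, false), (4, 4, false), (5, 0, false), (5, 2, false), (7, 8, false), (8,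 8, false), (6, 8, false), (7, 8, false), (3, 25, false), (4, 20, false), (5, 11, false), (6, 11, false), (2, 25, false), (3, 20, false), (4, 11, false), (5, 11, false), (1, 26, false), (2, 21, false), (3, 12, false), (4, 12, false), (2, 8, false), (3, 8, false), (2, 2, false), (4, 8, false), (5, 8, false), (1, 19, false), (2, 19, false), (3, 10, false), (4, 10, false), (1, 4, false), (3, 19, false), (4, 19, false), (5, 10, false), (6, 10, false), (1, 5, false), (3, 25, false), (4, 25, false), (5, 20, false), (6, 20, false), (7, 11, false), (8, 11, false)]),
    ([1, 1, 1], [6, 5, 4, 3, 3, 2, 2], [(8, 21, true), (7, 21, true), (6, 24, true), (5, 24, true), (4, 26, true), (3, 27, true), (2, 27, true), (0, 6, true), (6, 21, true), (5, 21, true), (4, 24, true), (3, 24, true), (2, 26, true), (1, 27, true), (0, 27, true), (7, 20, true), (6, 20, true), (5, 23, true), (4, 24, true), (3, 26, true), (2, 27, true), (1, 27, true), (5, 23, true), (4, 26, true), (3, 27, true), (2, 27, true), (0, 6, true), (2, 25, true), (0, 5, true), (4, 20, true), (3, 20, true), (2, 23, true), (1, 24, true), (0, 26, true), (2, 23, true), (1, 26, true),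 (2, 25, true), (7, 19, true), (6, 19, true), (5, 22, true), (4, 22, true), (8, 18, true), (7, 20, true), (6, 23, true), (5, 24, true), (4, 26, true), (3, 26, true), (2, 27, true), (0, 6, true), (3, 23, true), (2, 26, true), (1, 26, true), (0, 27, true), (3, 25, true), (2, 25, true), (7, 18, true), (6, 23, true), (5, 24, true), (4, 26, true), (3, 26, true), (2, 27, true), (1, 27, true), (6, 23, true), (5, 26, true), (4, 26, true), (3, 27, true), (2, 27, true), (0, 6, true), (3, 25, true), (2, 25, true), (0, 5, true), (2, 3, true), (1, 26, true), (0, 26, true), (2, 26, true), (1, 26, true), (5, 18, true), (4, 20, true), (3, 25, true), (2, 25, true), (5, 18, true), (4, 25, true), (3, 25, true), (7, 2, true), (7, 21, true), (6, 24, true), (5, 26, true), (4, 26, true), (3, 27, true), (2, 27, true), (0, 6, true), (5, 21, true), (4, 24, true), (3, 26, true), (2, 26, true), (1, 27, true), (0, 27, true), (6, 20, true), (5, 23, true), (4, 26, true), (3, 26, true), (2, 27, true), (1, 27, true), (5, 25, true), (4, 25, true), (2, 5, true), (5, 20, true), (4, 23, true), (3, 26, true), (2, 26, true), (0, 6, true), (1, 25, true), (0, 25,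 true), (4, 19, true), (3, 22, true), (1, 4, true), (2, 18, true), (1, 23, true), (0, 27, true), (5, 18, true), (4, 23, true), (3, 24, true), (2, 27, true), (1, 27, true), (4, 23, true), (3, 27, true), (2, 27, true), (0, 6, true), (0, 5, true), (0, 3, true), (2, 2, true), (2, 0, false), (2, 4, false), (4, 10, false), (5, 10, false), (2, 5, false), (4, 25, false), (5, 25, false), (6, 11, false), (7, 11, false), (3, 25, false), (4, 25, false), (5, 11, false), (6, 11, false), (4, 10, false), (2, 25, false), (3, 11, false), (2, 5, false), (4, 25, false), (5, 11, false), (5, 0, false), (4, 10, false), (5, 10, false), (3, 11, false), (4, 11, false), (2, 11, false), (3, 11, false), (2, 4, false), (2, 5, false), (4, 25, false), (5, 25, false), (3, 25, false), (4, 25, false), (5, 2, false), (4, 19, false), (5, 19, false), (2, 25, false), (3, 20, false), (4, 20, false), (2, 5, false), (4, 25, false), (5, 20, false), (6, 20, false), (7, 0, false), (6, 8, false), (3, 25, false), (4, 20, false), (5, 11, false), (2, 25, false), (3, 20, false), (4, 11, false), (1, 26, false), (2, 21, false), (3, 12, false)], [(6, 12, true), (5, 21, true),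 (4, 24, true), (3, 26, true), (2, 26, true), (0, 6, true), (4, 12, true), (3, 21, true), (2, 24, true), (1, 26, true), (0, 26, true), (5, 10, true), (4, 19, true), (3, 22, true), (1, 4, true), (3, 10, true), (2, 19, true), (1, 22, true), (4, 9, true), (3, 20, true), (2, 23, true), (1, 26, true), (2, 25, true), (5, 20, true), (4, 23, true), (3, 26, true), (2, 27, true), (0, 6, true), (1, 25, true), (4, 19, true), (3, 22, true), (5, 18, true), (4, 23, true), (3, 26, true), (2, 26, true), (1, 27, true), (0, 27, true), (4, 25, true), (3, 25, true), (1, 5, true), (6, 8, true), (8, 12, true), (7, 12, true), (6, 21, true), (5, 21, true), (4, 24, true), (3, 24, true), (2, 26, true), (1, 26, true), (9, 12, true), (8, 12, true), (7, 21, true), (6, 21, true), (5, 24, true), (4, 24, true), (3, 26, true), (2, 26, true), (0, 6, true), (7, 10, true), (6, 10, true), (5, 19, true), (4, 19, true), (3, 22, true), (2, 22, true), (0, 4, true), (5, 10, true), (4, 10, true), (3, 19, true), (2, 19, true), (1, 22, true), (0, 22, true), (6, 9, true), (5, 11, true), (4, 20, true), (3, 20, true), (2, 23, true), (1, 24, true), (0, 26, true), (2, 23,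 true), (1, 26, true), (2, 25, true), (8, 11, true), (7, 20, true), (6, 20, true), (5, 23, true), (4, 24, true), (3, 26, true), (2, 27, true), (0, 6, true), (2, 23, true), (1, 26, true), (0, 27, true), (2, 25, true), (8, 10, true), (7, 19, true), (6, 19, true), (5, 22, true), (4, 22, true), (9, 9, true), (8, 20, true), (7, 20, true), (6, 23, true), (5, 24, true), (4, 26, true), (3, 26, true), (2, 27, true), (1, 27, true), (6, 23, true), (5, 26, true), (4, 26, true), (3, 27, true), (2, 27, true), (0, 6, true), (3, 25, true), (2, 25, true), (0, 5, true), (5, 20, true), (4, 20, true), (3, 23, true), (2, 24, true), (1, 26, true), (0, 26, true), (3, 23, true), (2, 26, true), (1, 26, true), (3, 25, true), (2, 25, true), (8, 19, true), (7, 19, true), (6, 22, true), (5, 22, true), (3, 4, true), (6, 18, true), (5, 20, true), (4, 23, true), (3, 24, true), (2, 27, true), (0, 6, true), (1, 23, true), (0, 27, true), (5, 18, true), (4, 23, true), (3, 24, true), (2, 27, true), (1, 27, true), (4, 23, true), (3, 27, true), (2, 27, true), (0, 6, true), (0, 5, true), (0, 3, true), (5, 8, true), (4, 8, true), (2, 2, true), (2, 0, true), (2,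 0, false), (2, 4, false), (4, 10, false), (5, 10, false), (3, 10, false), (4, 10, false), (2, 5, false), (4, 25, false), (5, 11, false), (6, 11, false), (3, 25, false), (4, 11, false), (5, 11, false), (3, 10, false), (3, 4, false), (5, 10, false), (2, 25, false), (3, 25, false), (4, 11, false), (2, 5, false), (4, 25, false), (5, 25, false), (6, 11, false), (6, 0, false), (5, 10, false), (6, 10, false), (4, 10, false), (5, 10, false), (4, 4, false), (5, 0, false), (5, 2, false), (7, 8, false), (8, 8, false), (6, 8, false), (7, 8, false), (3, 25, false), (4, 20, false), (5, 11, false), (6, 11, false), (2, 25, false), (3, 20, false), (4, 11, false), (5, 11, false), (1, 26, false), (2, 21, false), (3, 12, false), (4, 12, false), (2, 8, false), (3, 8, false), (2, 2, false), (4, 8, false), (5, 8, false), (1, 19, false), (2, 19, false), (3, 10, false), (4, 10, false), (1, 4, false), (3, 19, false), (4, 19, false), (5, 10, false), (6, 10, false), (1, 5, false), (3, 25, false), (4, 25, false), (5, 20, false), (6, 20, false), (7, 11, false), (8, 11, false)]),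
    ([4, 4, 4], [], [(3, 20, true), (2, 25, true), (0, 5, true), (1, 20, true), (0, 25, true), (2, 19, true), (4, 20, true), (3, 20, true), (2, 25, true), (1, 25, true), (5, 20, true), (4, 20, true), (3, 25, true), (2, 25, true), (0, 5, true), (3, 19, true), (2, 19, true), (0, 4, true), (0, 2, true)], [(5, 12, true), (4, 21, true), (3, 21, true), (2, 27, true), (1, 27, true), (6, 11, true), (5, 20, true), (4, 20, true), (2, 5, true), (4, 11, true), (3, 20, true), (2, 20, true), (5, 8, true), (3, 2, true), (3, 8, true), (5, 12, true), (4, 12, true), (3, 21, true), (2, 27, true), (0, 6, true), (3, 11, true), (2, 11, true), (1, 20, true), (4, 11, true), (3, 11, true), (2, 20, true), (0, 5, true), (2, 8, true), (1, 8, true), (3, 8, true), (2, 8, true), (0, 2, true), (0, 0, true)]),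
    ([0, 1], [5, 4, 4, 3, 3, 1, 0], [(6, 12, true), (5, 12, true), (4, 17, true), (3, 17, true), (2, 21, true), (1, 24, true), (7, 12, true), (6, 12, true), (5, 17, true), (4, 17, true), (3, 21, true), (2, 24, true), (0, 6, true), (5, 11, true), (4, 11, true), (3, 16, true), (2, 17, true), (1, 21, true), (0, 24, true), (3, 16, true), (2, 21, true), (1, 24, true), (3, 20, true), (2, 23, true), (0, 6, true), (6, 11, true), (5, 11, true), (4, 16, true), (3, 17, true), (2, 21, true), (1, 24, true), (0, 27, true), (4, 16, true), (3, 21, true), (2, 24, true), (1, 27, true), (4, 20, true), (3, 23, true), (2, 27, true), (0, 6, true), (7, 10, true), (6, 10, true), (5, 15, true), (4, 17, true), (3, 21, true), (2, 24, true), (1, 27, true), (0, 27, true), (5, 15, true), (4, 21, true), (3, 24, true), (2, 27, true), (1, 27, true), (5, 19, true), (4, 22, true), (10, 9, true), (9, 11, true), (8, 16, true), (7, 17, true), (6, 21, true), (5, 24, true), (4, 26, true), (3, 27, true), (2, 27, true), (0, 6, true), (5, 16, true), (4, 21, true), (3, 24, true), (2, 26, true), (1, 27, true), (0, 27, true), (5, 20, true), (4, 23, true), (3, 26, true),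 (2, 27, true), (1, 27, true), (4, 25, true), (2, 5, true), (7, 11, true), (6, 16, true), (5, 17, true), (4, 21, true), (3, 24, true), (2, 26, true), (0, 6, true), (3, 16, true), (2, 21, true), (1, 24, true), (0, 26, true), (3, 20, true), (2, 23, true), (1, 26, true), (2, 25, true), (8, 10, true), (7, 15, true), (6, 17, true), (5, 21, true), (4, 24, true), (3, 26, true), (2, 27, true), (0, 6, true), (4, 15, true), (3, 21, true), (2, 24, true), (1, 26, true), (0, 27, true), (4, 19, true), (3, 22, true), (8, 9, true), (7, 16, true), (6, 17, true), (5, 21, true), (4, 24, true), (3, 26, true), (2, 26, true), (1, 27, true), (7, 16, true), (6, 21, true), (5, 24, true), (4, 26, true), (3, 26, true), (2, 27, true), (0, 6, true), (4, 20, true), (3, 23, true), (2, 26, true), (1, 26, true), (0, 27, true), (3, 25, true), (2, 25, true), (8, 16, true), (7, 17, true), (6, 21, true), (5, 24, true), (4, 26, true), (3, 26, true), (2, 27, true), (1, 27, true), (8, 16, true), (7, 21, true), (6, 24, true), (5, 26, true), (4, 26, true), (3, 27, true), (2, 27, true), (0, 6, true), (5, 20, true), (4, 23, true), (3, 26, true), (2, 26, true), (1,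 27, true), (0, 27, true), (4, 25, true), (3, 25, true), (1, 5, true), (6, 15, true), (5, 17, true), (4, 21, true), (3, 24, true), (2, 26, true), (1, 26, true), (6, 15, true), (5, 21, true), (4, 24, true), (3, 26, true), (2, 26, true), (0, 6, true), (3, 19, true), (2, 22, true), (0, 4, true), (3, 14, true), (2, 17, true), (1, 21, true), (0, 24, true), (3, 15, true), (2, 21, true), (1, 24, true), (3, 19, true), (2, 22, true), (5, 14, true), (4, 21, true), (3, 24, true), (2, 26, true), (0, 6, true), (2, 19, true), (1, 22, true), (3, 18, true), (2, 23, true), (1, 26, true), (0, 26, true), (2, 25, true), (1, 25, true), (10, 9, true), (9, 11, true), (8, 16, true), (7, 17, true), (6, 21, true), (5, 24, true), (4, 24, true), (3, 26, true), (2, 26, true), (1, 27, true), (8, 16, true), (7, 21, true), (6, 24, true), (5, 24, true), (4, 26, true), (3, 26, true), (2, 27, true), (0, 6, true), (5, 20, true), (4, 23, true), (3, 24, true), (2, 26, true), (1, 26, true), (0, 27, true), (4, 23, true), (3, 26, true), (2, 26, true), (1, 27, true), (4, 25, true), (3, 25, true), (11, 11, true), (10, 16, true), (9, 17, true), (8, 21, true), (7, 24,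 true), (6, 24, true), (5, 26, true), (4, 26, true), (3, 27, true), (2, 27, true), (0, 6, true), (7, 16, true), (6, 21, true), (5, 24, true), (4, 24, true), (3, 26, true), (2, 26, true), (1, 27, true), (0, 27, true), (7, 20, true), (6, 23, true), (5, 24, true), (4, 26, true), (3, 26, true), (2, 27, true), (1, 27, true), (6, 23, true), (5, 26, true), (4, 26, true), (3, 27, true), (2, 27, true), (0, 6, true), (3, 25, true), (2, 25, true), (0, 5, true), (7, 10, true), (6, 15, true), (5, 17, true), (4, 21, true), (3, 24, true), (2, 24, true), (1, 26, true), (0, 26, true), (6, 15, true), (5, 21, true), (4, 24, true), (3, 24, true), (2, 26, true), (1, 26, true), (6, 19, true), (5, 22, true), (4, 22, true), (2, 4, true), (7, 9, true), (6, 16, true), (5, 17, true), (4, 21, true), (3, 24, true), (2, 24, true), (0, 6, true), (3, 16, true), (2, 21, true), (1, 24, true), (0, 24, true), (3, 20, true), (2, 23, true), (1, 24, true), (2, 23, true), (0, 6, true), (5, 16, true), (4, 17, true), (3, 21, true), (2, 24, true), (1, 24, true), (0, 27, true), (5, 16, true), (4, 21, true), (3, 24, true), (2, 24, true), (1, 27, true), (5, 20, true),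 (4, 23, true), (3, 24, true), (2, 27, true), (0, 6, true), (1, 23, true), (0, 27, true), (7, 15, true), (6, 17, true), (5, 21, true), (4, 24, true), (3, 24, true), (2, 27, true), (1, 27, true), (7, 15, true), (6, 21, true), (5, 24, true), (4, 24, true), (3, 27, true), (2, 27, true), (0, 6, true), (4, 19, true), (3, 22, true), (2, 22, true), (7, 14, true), (6, 17, true), (5, 21, true), (4, 24, true), (3, 24, true), (2, 26, true), (1, 27, true), (0, 27, true), (7, 15, true), (6, 21, true), (5, 24, true), (4, 24, true), (3, 26, true), (2, 27, true), (1, 27, true), (7, 19, true), (6, 22, true), (5, 22, true), (9, 14, true), (8, 21, true), (7, 24, true), (6, 24, true), (5, 26, true), (4, 26, true), (3, 27, true), (2, 27, true), (0, 6, true), (6, 19, true), (5, 22, true), (4, 22, true), (2, 4, true), (4, 18, true), (3, 23, true), (2, 24, true), (1, 27, true), (0, 27, true), (3, 23, true), (2, 27, true), (1, 27, true), (2, 5, true), (2, 3, true), (0, 6, true), (5, 8, true), (4, 8, true), (3, 13, true), (2, 17, true), (1, 21, true), (3, 16, true), (2, 21, true), (0, 6, true), (0, 20, true), (2, 16, true), (1, 21, true), (0, 27,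 true), (2, 20, true), (4, 15, true), (3, 21, true), (2, 27, true), (1, 27, true), (4, 19, true), (6, 15, true), (5, 21, true), (4, 26, true), (3, 27, true), (2, 27, true), (0, 6, true), (3, 19, true), (5, 13, true), (4, 21, true), (3, 26, true), (2, 26, true), (1, 27, true), (0, 27, true), (5, 20, true), (4, 25, true), (3, 25, true), (1, 5, true), (3, 20, true), (2, 25, true), (1, 25, true), (4, 19, true), (2, 4, true), (2, 19, true), (8, 8, true), (7, 8, true), (6, 13, true), (5, 17, true), (4, 21, true), (3, 21, true), (2, 26, true), (1, 27, true), (6, 16, true), (5, 21, true), (4, 21, true), (3, 26, true), (2, 27, true), (0, 6, true), (3, 20, true), (2, 20, true), (1, 25, true), (5, 16, true), (4, 21, true), (3, 21, true), (2, 26, true), (1, 27, true), (0, 27, true), (5, 20, true), (4, 20, true), (3, 25, true), (1, 5, true), (4, 15, true), (3, 21, true), (2, 21, true), (1, 26, true), (4, 19, true), (3, 19, true), (6, 15, true), (5, 21, true), (4, 21, true), (3, 26, true), (2, 26, true), (0, 6, true), (3, 19, true), (2, 19, true), (0, 4, true), (2, 13, true), (1, 21, true), (0, 21, true), (2, 20, true), (1, 20, true),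 (3, 20, true), (2, 20, true), (4, 19, true), (3, 19, true), (5, 19, true), (4, 19, true), (5, 2, true), (5, 2, false), (0, 27, false), (1, 27, false), (2, 26, false), (3, 26, false), (0, 6, false), (2, 27, false), (3, 27, false), (4, 26, false), (5, 26, false), (6, 3, false), (3, 25, false), (4, 25, false), (1, 27, false), (2, 26, false), (3, 26, false), (4, 23, false), (0, 27, false), (1, 26, false), (2, 26, false), (3, 24, false), (4, 23, false), (5, 18, false), (0, 25, false), (1, 25, false), (0, 6, false), (2, 26, false), (3, 26, false), (4, 23, false), (1, 26, false), (2, 26, false), (3, 24, false), (4, 23, false), (5, 20, false), (6, 18, false), (0, 26, false), (1, 26, false), (2, 24, false), (3, 24, false), (4, 21, false), (5, 21, false), (0, 5, false), (2, 25, false), (1, 25, false), (0, 6, false), (2, 27, false), (3, 26, false), (1, 27, false), (2, 26, false), (3, 0, false), (2, 10, false), (1, 11, false), (1, 5, false), (3, 11, false), (3, 0, false), (3, 4, false), (5, 10, false), (6, 10, false), (2, 25, false), (3, 25, false), (4, 11, false), (5, 11, false), (1, 25, false), (2, 25, false), (3, 11, false), (4,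 11, false), (3, 2, false), (5, 8, false), (6, 8, false), (2, 19, false), (3, 19, false), (4, 10, false), (5, 10, false), (1, 5, false), (3, 25, false), (4, 20, false), (5, 20, false), (6, 11, false), (7, 11, false), (2, 25, false), (3, 20, false), (4, 20, false), (5, 11, false), (6, 11, false), (4, 8, false), (5, 8, false), (2, 19, false), (3, 10, false), (4, 10, false), (1, 20, false), (2, 11, false), (3, 11, false), (1, 5, false), (3, 20, false), (4, 11, false), (5, 11, false)], [(9, 12, true), (8, 17, true), (7, 17, true), (6, 21, true), (5, 21, true), (4, 24, true), (3, 24, true), (2, 27, true), (0, 6, true), (7, 12, true), (6, 17, true), (5, 17, true), (4, 21, true), (3, 21, true), (2, 24, true), (1, 24, true), (0, 27, true), (8, 10, true), (7, 15, true), (6, 17, true), (5, 21, true), (4, 21, true), (3, 24, true), (2, 24, true), (1, 27, true), (7, 15, true), (6, 21, true), (5, 21, true), (4, 24, true), (3, 24, true), (2, 27, true), (0, 6, true), (4, 19, true), (3, 19, true), (2, 22, true), (1, 22, true), (8, 10, true), (7, 15, true), (6, 17, true), (5, 21, true), (4, 21, true), (3, 24, true), (2, 24, true), (1, 26,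 true), (0, 27, true), (7, 15, true), (6, 21, true), (5, 21, true), (4, 24, true), (3, 24, true), (2, 26, true), (1, 27, true), (7, 19, true), (6, 19, true), (5, 22, true), (4, 22, true), (11, 9, true), (10, 16, true), (9, 17, true), (8, 21, true), (7, 21, true), (6, 24, true), (5, 24, true), (4, 26, true), (3, 26, true), (2, 27, true), (0, 6, true), (7, 16, true), (6, 21, true), (5, 21, true), (4, 24, true), (3, 24, true), (2, 26, true), (1, 26, true), (0, 27, true), (7, 20, true), (6, 20, true), (5, 23, true), (4, 24, true), (3, 26, true), (2, 26, true), (1, 27, true), (5, 23, true), (4, 26, true), (3, 26, true), (2, 27, true), (0, 6, true), (2, 25, true), (1, 25, true), (9, 16, true), (8, 17, true), (7, 21, true), (6, 21, true), (5, 24, true), (4, 24, true), (3, 26, true), (2, 26, true), (1, 27, true), (0, 27, true), (9, 16, true), (8, 21, true), (7, 21, true), (6, 24, true), (5, 24, true), (4, 26, true), (3, 26, true), (2, 27, true), (1, 27, true), (9, 20, true), (8, 20, true), (7, 23, true), (6, 24, true), (5, 26, true), (4, 26, true), (3, 27, true), (2, 27, true), (0, 6, true), (4, 23, true), (3, 26, true), (2, 26,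 true), (1, 27, true), (0, 27, true), (4, 25, true), (3, 25, true), (1, 5, true), (8, 15, true), (7, 17, true), (6, 21, true), (5, 21, true), (4, 24, true), (3, 24, true), (2, 26, true), (1, 26, true), (8, 15, true), (7, 21, true), (6, 21, true), (5, 24, true), (4, 24, true), (3, 26, true), (2, 26, true), (0, 6, true), (5, 19, true), (4, 19, true), (3, 22, true), (2, 22, true), (0, 4, true), (5, 14, true), (4, 17, true), (3, 21, true), (2, 21, true), (1, 24, true), (0, 24, true), (5, 15, true), (4, 21, true), (3, 21, true), (2, 24, true), (1, 24, true), (5, 19, true), (4, 19, true), (3, 22, true), (2, 22, true), (7, 14, true), (6, 21, true), (5, 21, true), (4, 24, true), (3, 24, true), (2, 26, true), (0, 6, true), (4, 19, true), (3, 19, true), (2, 22, true), (1, 22, true), (5, 18, true), (4, 20, true), (3, 23, true), (2, 24, true), (1, 26, true), (0, 26, true), (3, 23, true), (2, 26, true), (1, 26, true), (3, 25, true), (2, 25, true), (7, 18, true), (6, 23, true), (5, 24, true), (4, 26, true), (3, 26, true), (2, 27, true), (0, 6, true), (3, 23, true), (2, 26, true), (1, 26, true), (0, 27, true), (3, 25, true), (2, 25, true),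 (5, 3, true), (4, 26, true), (3, 26, true), (2, 27, true), (1, 27, true), (5, 26, true), (4, 26, true), (3, 27, true), (2, 27, true), (0, 6, true), (8, 8, true), (7, 13, true), (6, 17, true), (5, 21, true), (4, 21, true), (3, 26, true), (2, 26, true), (1, 27, true), (0, 27, true), (7, 16, true), (6, 21, true), (5, 21, true), (4, 26, true), (3, 26, true), (2, 27, true), (1, 27, true), (7, 20, true), (6, 20, true), (5, 25, true), (4, 25, true), (2, 5, true), (6, 16, true), (5, 21, true), (4, 21, true), (3, 26, true), (2, 26, true), (0, 6, true), (3, 20, true), (2, 20, true), (1, 25, true), (0, 25, true), (5, 15, true), (4, 21, true), (3, 21, true), (2, 26, true), (1, 26, true), (0, 27, true), (5, 19, true), (4, 19, true), (2, 4, true), (4, 15, true), (3, 21, true), (2, 21, true), (1, 27, true), (4, 19, true), (3, 19, true), (6, 13, true), (5, 21, true), (4, 21, true), (3, 26, true), (2, 27, true), (0, 6, true), (3, 20, true), (2, 20, true), (1, 25, true), (4, 20, true), (3, 20, true), (2, 25, true), (0, 5, true), (2, 19, true), (1, 19, true), (3, 19, true), (2, 19, true), (0, 4, true), (0, 2, true), (0, 4, false), (0, 6, false),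 (2, 26, false), (3, 26, false), (4, 15, false), (1, 26, false), (2, 26, false), (3, 17, false), (4, 7, false), (0, 26, false), (1, 7, false), (1, 2, false), (3, 8, false), (2, 8, false), (0, 6, false), (2, 26, false), (1, 26, false), (2, 3, false), (1, 5, false), (3, 25, false), (0, 27, false), (1, 27, false), (2, 26, false), (3, 23, false), (0, 6, false), (2, 27, false), (3, 27, false), (4, 26, false), (5, 24, false), (6, 23, false), (7, 18, false), (4, 22, false), (5, 22, false), (6, 19, false), (1, 27, false), (2, 23, false), (0, 27, false), (1, 24, false), (2, 23, false), (3, 20, false), (0, 6, false), (2, 23, false), (1, 24, false), (2, 23, false), (3, 20, false), (4, 9, false), (1, 5, false), (0, 27, false), (1, 27, false), (2, 23, false), (3, 18, false), (2, 4, false), (4, 22, false), (5, 19, false), (1, 25, false), (2, 25, false), (0, 6, false), (2, 27, false), (3, 26, false), (4, 26, false), (5, 23, false), (6, 20, false), (2, 25, false), (3, 25, false), (1, 26, false), (2, 26, false), (3, 23, false), (4, 20, false), (5, 9, false), (1, 5, false), (3, 25, false), (4, 25, false), (0, 27, false), (1, 27, false), (2,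 26, false), (3, 26, false), (4, 23, false), (5, 20, false), (6, 11, false), (0, 6, false), (2, 27, false), (3, 27, false), (4, 26, false), (5, 26, false), (6, 24, false), (7, 21, false), (8, 12, false), (1, 27, false), (2, 27, false), (3, 26, false), (4, 26, false), (5, 24, false), (6, 21, false), (7, 12, false), (0, 27, false), (1, 27, false), (0, 6, false), (2, 27, false), (3, 27, false), (4, 0, false), (4, 4, false), (6, 10, false), (5, 10, false), (5, 0, false), (4, 10, false), (5, 10, false), (4, 4, false), (6, 10, false), (7, 10, false), (6, 2, false), (8, 8, false), (7, 8, false), (3, 25, false), (4, 25, false), (5, 20, false), (6, 11, false), (2, 25, false), (3, 25, false), (4, 20, false), (5, 11, false), (1, 26, false), (2, 26, false), (3, 21, false), (4, 12, false), (3, 2, false), (1, 5, false), (3, 25, false), (4, 25, false), (5, 20, false), (6, 20, false), (2, 25, false), (3, 25, false), (4, 20, false), (5, 20, false), (0, 27, false), (1, 26, false), (2, 26, false), (3, 21, false), (4, 21, false)]),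
    ([0, 2], [5, 5, 4, 0], [(6, 11, true), (5, 11, true), (4, 16, true), (3, 17, true), (2, 21, true), (1, 24, true), (4, 16, true), (3, 21, true), (2, 24, true), (0, 6, true), (1, 20, true), (0, 23, true), (7, 11, true), (6, 11, true), (5, 16, true), (4, 17, true), (3, 21, true), (2, 24, true), (1, 27, true), (5, 16, true), (4, 21, true), (3, 24, true), (2, 27, true), (0, 6, true), (2, 20, true), (1, 23, true), (0, 27, true), (8, 10, true), (7, 10, true), (6, 15, true), (5, 17, true), (4, 21, true), (3, 24, true), (2, 27, true), (1, 27, true), (6, 15, true), (5, 21, true), (4, 24, true), (3, 27, true), (2, 27, true), (0, 6, true), (3, 19, true), (2, 22, true), (7, 0, true), (7, 0, false), (2, 22, false), (3, 19, false), (0, 6, false), (2, 27, false), (3, 27, false), (4, 24, false), (5, 21, false), (6, 15, false), (1, 27, false), (2, 27, false), (3, 24, false), (4, 21, false), (5, 17, false), (6, 7, false), (3, 4, false), (5, 22, false), (6, 19, false), (0, 27, false), (1, 27, false), (2, 26, false), (3, 26, false), (4, 24, false), (5, 21, false), (6, 7, false), (5, 8, false), (1, 25, false), (0, 25, false), (1, 9, false),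 (0, 6, false), (2, 26, false), (3, 12, false), (3, 2, false), (5, 8, false), (2, 19, false), (3, 19, false), (4, 10, false), (2, 5, false), (4, 20, false), (5, 20, false), (6, 11, false), (3, 20, false), (4, 20, false), (5, 11, false), (5, 0, false), (4, 8, false), (5, 8, false), (2, 20, false), (3, 11, false), (4, 11, false), (2, 5, false), (4, 20, false), (5, 11, false), (6, 11, false), (1, 27, false), (2, 27, false), (3, 21, false), (4, 12, false), (5, 12, false)], [(9, 11, true), (8, 16, true), (7, 17, true), (6, 21, true), (5, 21, true), (4, 24, true), (3, 24, true), (2, 27, true), (0, 6, true), (5, 16, true), (4, 21, true), (3, 21, true), (2, 24, true), (1, 24, true), (0, 27, true), (5, 20, true), (4, 20, true), (3, 23, true), (2, 24, true), (1, 27, true), (3, 23, true), (2, 27, true), (0, 6, true), (8, 11, true), (7, 16, true), (6, 17, true), (5, 21, true), (4, 21, true), (3, 24, true), (2, 24, true), (1, 27, true), (0, 27, true), (7, 16, true), (6, 21, true), (5, 21, true), (4, 24, true), (3, 24, true), (2, 27, true), (1, 27, true), (7, 20, true), (6, 20, true), (5, 23, true), (4, 24, true), (3, 27, true), (2, 27,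 true), (0, 6, true), (2, 23, true), (1, 27, true), (0, 27, true), (1, 5, true), (7, 10, true), (6, 15, true), (5, 17, true), (4, 21, true), (3, 21, true), (2, 24, true), (1, 24, true), (6, 15, true), (5, 21, true), (4, 21, true), (3, 24, true), (2, 24, true), (0, 6, true), (3, 19, true), (2, 19, true), (1, 22, true), (0, 22, true), (7, 10, true), (6, 15, true), (5, 17, true), (4, 21, true), (3, 21, true), (2, 24, true), (1, 24, true), (0, 26, true), (6, 15, true), (5, 21, true), (4, 21, true), (3, 24, true), (2, 24, true), (1, 26, true), (6, 19, true), (5, 19, true), (4, 22, true), (3, 22, true), (3, 22, false), (4, 22, false), (5, 19, false), (6, 19, false), (1, 26, false), (2, 24, false), (3, 24, false), (4, 21, false), (5, 21, false), (6, 15, false), (0, 26, false), (1, 24, false), (2, 24, false), (3, 21, false), (4, 21, false), (5, 17, false), (6, 7, false), (0, 22, false), (1, 22, false), (2, 19, false), (3, 19, false), (0, 6, false), (2, 24, false), (3, 24, false), (4, 21, false), (5, 21, false), (6, 7, false), (5, 8, false), (4, 8, false), (2, 4, false), (4, 22, false), (2, 5, false), (4, 25, false), (5, 25, false),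 (1, 27, false), (2, 27, false), (3, 26, false), (4, 26, false), (5, 23, false), (2, 25, false), (3, 25, false), (0, 27, false), (1, 26, false), (2, 26, false), (3, 23, false), (4, 9, false), (0, 25, false), (0, 5, false), (2, 25, false), (3, 9, false), (1, 25, false), (2, 11, false), (0, 6, false), (2, 27, false), (3, 26, false), (4, 12, false), (1, 27, false), (2, 26, false), (3, 12, false), (3, 2, false), (1, 25, false), (2, 20, false), (1, 5, false), (3, 25, false), (4, 20, false), (0, 27, false), (1, 27, false), (2, 26, false), (3, 21, false), (3, 2, false), (2, 19, false), (3, 19, false), (2, 4, false), (4, 19, false), (5, 19, false), (1, 25, false), (2, 25, false), (3, 20, false), (4, 20, false)]),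
    ([0, 3], [6, 6, 4, 3, 3, 2, 2, 0], [(6, 11, true), (5, 11, true), (4, 16, true), (3, 17, true), (2, 21, true), (1, 24, true), (4, 16, true), (3, 21, true), (2, 24, true), (0, 6, true), (1, 20, true), (0, 23, true), (7, 11, true), (6, 11, true), (5, 16, true), (4, 17, true), (3, 21, true), (2, 24, true), (1, 27, true), (5, 16, true), (4, 21, true), (3, 24, true), (2, 27, true), (0, 6, true), (2, 20, true), (1, 23, true), (0, 27, true), (8, 10, true), (7, 10, true), (6, 15, true), (5, 17, true), (4, 21, true), (3, 24, true), (2, 27, true), (1, 27, true), (6, 15, true), (5, 21, true), (4, 24, true), (3, 27, true), (2, 27, true), (0, 6, true), (3, 19, true), (2, 22, true), (7, 0, true), (7, 0, false), (2, 22, false), (3, 19, false), (0, 6, false), (2, 27, false), (3, 27, false), (4, 24, false), (5, 21, false), (6, 15, false), (1, 27, false), (2, 27, false), (3, 24, false), (4, 21, false), (5, 17, false), (6, 7, false), (3, 4, false), (5, 22, false), (6, 19, false), (0, 27, false), (1, 27, false), (2, 26, false), (3, 26, false), (4, 24, false), (5, 21, false), (6, 15, false), (7, 10, false), (0, 6, false), (2, 27, false),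 (3, 27, false), (4, 26, false), (5, 26, false), (6, 24, false), (7, 21, false), (8, 17, false), (9, 12, false), (10, 7, false), (5, 22, false), (6, 19, false), (1, 27, false), (2, 27, false), (3, 26, false), (4, 24, false), (5, 21, false), (6, 7, false), (3, 22, false), (4, 19, false), (5, 10, false), (0, 27, false), (1, 27, false), (2, 24, false), (3, 21, false), (4, 12, false), (5, 7, false), (3, 8, false), (4, 8, false), (2, 4, false), (1, 25, false), (2, 25, false), (0, 25, false), (1, 25, false), (2, 9, false), (1, 10, false), (0, 5, false), (2, 25, false), (3, 11, false), (1, 25, false), (2, 11, false), (3, 9, false), (0, 6, false), (2, 27, false), (3, 26, false), (4, 12, false), (5, 12, false), (3, 10, false), (2, 11, false), (2, 5, false), (4, 11, false), (4, 4, false), (3, 25, false), (4, 25, false), (2, 25, false), (3, 25, false), (4, 0, false), (3, 10, false), (2, 5, false), (4, 25, false), (5, 11, false), (3, 25, false), (4, 11, false), (4, 0, false), (3, 10, false), (4, 10, false), (2, 11, false), (3, 11, false), (2, 5, false), (4, 11, false), (5, 11, false), (4, 2, false), (6, 8, false), (7, 8, false), (4,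 4, false), (6, 19, false), (7, 19, false), (8, 10, false), (9, 10, false), (3, 25, false), (4, 25, false), (5, 20, false), (6, 20, false), (7, 11, false), (8, 11, false), (2, 25, false), (3, 25, false), (4, 20, false), (5, 20, false), (6, 11, false), (7, 11, false), (5, 8, false), (3, 19, false), (4, 10, false), (1, 26, false), (2, 21, false), (3, 12, false)], [(9, 10, true), (8, 15, true), (7, 17, true), (6, 21, true), (5, 21, true), (4, 24, true), (3, 24, true), (2, 27, true), (0, 6, true), (5, 15, true), (4, 21, true), (3, 21, true), (2, 24, true), (1, 24, true), (0, 27, true), (5, 19, true), (4, 19, true), (3, 22, true), (2, 22, true), (9, 10, true), (8, 15, true), (7, 17, true), (6, 21, true), (5, 21, true), (4, 24, true), (3, 24, true), (2, 26, true), (1, 27, true), (8, 15, true), (7, 21, true), (6, 21, true), (5, 24, true), (4, 24, true), (3, 26, true), (2, 27, true), (0, 6, true), (5, 19, true), (4, 19, true), (3, 22, true), (2, 22, true), (9, 0, true), (9, 0, false), (2, 22, false), (3, 22, false), (4, 19, false), (5, 19, false), (0, 6, false), (2, 27, false), (3, 26, false), (4, 24, false), (5, 24, false), (6,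 21, false), (7, 21, false), (8, 15, false), (1, 27, false), (2, 26, false), (3, 24, false), (4, 24, false), (5, 21, false), (6, 21, false), (7, 17, false), (8, 7, false), (2, 22, false), (3, 22, false), (4, 19, false), (5, 19, false), (0, 27, false), (1, 24, false), (2, 24, false), (3, 21, false), (4, 21, false), (5, 15, false), (6, 10, false), (0, 6, false), (2, 27, false), (3, 24, false), (4, 24, false), (5, 21, false), (6, 21, false), (7, 17, false), (8, 12, false), (9, 7, false), (3, 4, false), (5, 22, false), (6, 22, false), (7, 19, false), (8, 19, false), (1, 27, false), (2, 26, false), (3, 26, false), (4, 24, false), (5, 24, false), (6, 21, false), (7, 21, false), (8, 7, false), (3, 22, false), (4, 22, false), (5, 19, false), (6, 19, false), (7, 10, false), (0, 27, false), (1, 26, false), (2, 24, false), (3, 24, false), (4, 21, false), (5, 21, false), (6, 12, false), (7, 7, false), (5, 8, false), (6, 8, false), (4, 8, false), (5, 8, false), (1, 22, false), (0, 6, false), (2, 23, false), (2, 5, false), (1, 27, false), (2, 27, false), (3, 23, false), (4, 9, false), (3, 4, false), (5, 22, false), (6, 10, false), (2,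 25, false), (3, 25, false), (0, 27, false), (1, 26, false), (2, 26, false), (3, 23, false), (4, 11, false), (0, 25, false), (1, 25, false), (0, 6, false), (2, 26, false), (3, 26, false), (4, 23, false), (5, 11, false), (6, 9, false), (2, 5, false), (4, 25, false), (3, 25, false), (4, 9, false), (3, 10, false), (2, 11, false), (2, 5, false), (4, 11, false), (5, 9, false), (3, 11, false), (4, 11, false), (1, 27, false), (2, 12, false), (3, 12, false), (0, 27, false), (1, 12, false), (2, 12, false), (1, 4, false), (3, 10, false), (2, 10, false), (0, 25, false), (1, 11, false), (0, 5, false), (2, 25, false), (3, 11, false), (2, 4, false), (1, 25, false), (2, 25, false), (0, 25, false), (1, 25, false), (2, 0, false), (1, 10, false), (0, 10, false), (0, 0, false), (0, 4, false), (2, 10, false), (3, 10, false), (1, 10, false), (2, 10, false), (1, 2, false), (3, 8, false), (2, 8, false), (0, 5, false), (2, 25, false), (3, 20, false), (4, 11, false), (1, 25, false), (2, 20, false), (3, 11, false), (0, 6, false), (2, 27, false), (3, 26, false), (4, 21, false), (5, 12, false), (5, 0, false), (4, 8, false), (5, 8, false), (4, 2, false),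 (6, 8, false), (7, 8, false), (3, 19, false), (4, 19, false), (5, 10, false), (6, 10, false), (3, 4, false), (5, 19, false), (6, 19, false), (7, 10, false), (8, 10, false), (2, 25, false), (3, 25, false), (4, 20, false), (5, 20, false), (6, 11, false), (7, 11, false), (2, 5, false), (4, 25, false), (5, 25, false), (6, 20, false), (7, 20, false), (8, 11, false), (9, 11, false), (1, 27, false), (2, 27, false), (3, 26, false), (4, 26, false), (5, 21, false), (6, 21, false), (7, 12, false), (8, 12, false)]),
    ([0, 4], [6, 6, 5, 4, 2, 2, 0], [(6, 11, true), (5, 11, true), (4, 16, true), (3, 17, true), (2, 21, true), (1, 24, true), (4, 16, true), (3, 21, true), (2, 24, true), (0, 6, true), (1, 20, true), (0, 23, true), (7, 11, true), (6, 11, true), (5, 16, true), (4, 17, true), (3, 21, true), (2, 24, true), (1, 27, true), (5, 16, true), (4, 21, true), (3, 24, true), (2, 27, true), (0, 6, true), (2, 20, true), (1, 23, true), (0, 27, true), (8, 10, true), (7, 10, true), (6, 15, true), (5, 17, true), (4, 21, true), (3, 24, true), (2, 27, true), (1, 27, true), (6, 15, true), (5, 21, true), (4, 24, true), (3, 27, true), (2, 27,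 true), (0, 6, true), (3, 19, true), (2, 22, true), (8, 8, true), (7, 8, true), (6, 13, true), (5, 17, true), (4, 21, true), (3, 24, true), (2, 26, true), (1, 27, true), (0, 27, true), (6, 16, true), (5, 21, true), (4, 24, true), (3, 26, true), (2, 27, true), (1, 27, true), (6, 20, true), (5, 23, true), (4, 26, true), (3, 27, true), (2, 27, true), (0, 6, true), (2, 25, true), (0, 5, true), (3, 16, true), (2, 21, true), (1, 24, true), (0, 26, true), (3, 20, true), (2, 23, true), (1, 26, true), (2, 25, true), (6, 15, true), (5, 21, true), (4, 24, true), (3, 26, true), (2, 27, true), (0, 6, true), (3, 19, true), (2, 22, true), (5, 15, true), (4, 21, true), (3, 24, true), (2, 26, true), (1, 26, true), (0, 27, true), (5, 19, true), (4, 22, true), (2, 4, true), (4, 13, true), (3, 21, true), (2, 24, true), (1, 27, true), (4, 20, true), (3, 23, true), (2, 27, true), (0, 6, true), (3, 20, true), (2, 23, true), (1, 27, true), (0, 27, true), (1, 5, true), (2, 19, true), (1, 22, true), (3, 19, true), (2, 22, true), (1, 5, false), (3, 25, false), (4, 25, false), (5, 18, false), (0, 27, false), (1, 27, false), (2, 26, false), (3, 26, false),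 (4, 21, false), (5, 0, false), (3, 19, false), (4, 10, false), (5, 10, false), (1, 25, false), (2, 20, false), (3, 11, false), (4, 11, false), (0, 25, false), (1, 20, false), (2, 11, false), (3, 11, false), (0, 19, false), (1, 10, false), (0, 5, false), (2, 20, false), (3, 11, false), (1, 20, false), (2, 11, false), (1, 8, false), (1, 4, false), (3, 10, false), (0, 25, false), (1, 25, false), (2, 11, false), (0, 5, false), (2, 25, false), (3, 25, false), (4, 11, false), (4, 0, false), (4, 2, false), (6, 8, false), (7, 8, false), (1, 25, false), (2, 25, false), (3, 20, false), (4, 20, false), (5, 11, false), (6, 11, false), (0, 25, false), (1, 25, false), (2, 20, false), (3, 20, false), (4, 11, false), (5, 11, false), (0, 6, false), (2, 26, false), (3, 26, false), (4, 21, false), (5, 21, false), (6, 12, false), (7, 12, false), (5, 8, false), (3, 19, false), (4, 10, false), (1, 26, false), (2, 21, false), (3, 12, false)], [(9, 12, true), (8, 17, true), (7, 17, true), (6, 21, true), (5, 21, true), (4, 24, true), (3, 24, true), (2, 27, true), (0, 6, true), (7, 11, true), (6, 16, true), (5, 17, true), (4, 21, true), (3, 21, true),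 (2, 24, true), (1, 24, true), (0, 27, true), (6, 16, true), (5, 21, true), (4, 21, true), (3, 24, true), (2, 24, true), (1, 27, true), (6, 20, true), (5, 20, true), (4, 23, true), (3, 24, true), (2, 27, true), (0, 6, true), (1, 23, true), (0, 27, true), (9, 11, true), (8, 16, true), (7, 17, true), (6, 21, true), (5, 21, true), (4, 24, true), (3, 24, true), (2, 27, true), (1, 27, true), (8, 16, true), (7, 21, true), (6, 21, true), (5, 24, true), (4, 24, true), (3, 27, true), (2, 27, true), (0, 6, true), (5, 20, true), (4, 20, true), (3, 23, true), (2, 24, true), (1, 27, true), (0, 27, true), (3, 23, true), (2, 27, true), (1, 27, true), (2, 5, true), (8, 8, true), (7, 13, true), (6, 17, true), (5, 21, true), (4, 21, true), (3, 24, true), (2, 24, true), (0, 6, true), (4, 16, true), (3, 21, true), (2, 21, true), (1, 24, true), (0, 24, true), (4, 20, true), (3, 20, true), (2, 23, true), (1, 24, true), (2, 23, true), (0, 6, true), (5, 16, true), (4, 21, true), (3, 21, true), (2, 24, true), (1, 24, true), (0, 27, true), (5, 20, true), (4, 20, true), (3, 23, true), (2, 24, true), (1, 27, true), (3, 23, true), (2, 27, true), (0,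 6, true), (6, 15, true), (5, 21, true), (4, 21, true), (3, 24, true), (2, 24, true), (1, 27, true), (0, 27, true), (6, 19, true), (5, 19, true), (4, 22, true), (3, 22, true), (8, 15, true), (7, 21, true), (6, 21, true), (5, 24, true), (4, 24, true), (3, 26, true), (2, 27, true), (1, 27, true), (8, 19, true), (7, 19, true), (6, 22, true), (5, 22, true), (10, 13, true), (9, 21, true), (8, 21, true), (7, 24, true), (6, 24, true), (5, 26, true), (4, 26, true), (3, 27, true), (2, 27, true), (0, 6, true), (7, 20, true), (6, 20, true), (5, 23, true), (4, 24, true), (3, 26, true), (2, 26, true), (1, 27, true), (0, 27, true), (5, 23, true), (4, 26, true), (3, 26, true), (2, 27, true), (1, 27, true), (5, 25, true), (4, 25, true), (2, 5, true), (7, 20, true), (6, 20, true), (5, 23, true), (4, 24, true), (3, 26, true), (2, 26, true), (0, 6, true), (2, 23, true), (1, 26, true), (0, 26, true), (2, 25, true), (1, 25, true), (7, 19, true), (6, 19, true), (5, 22, true), (4, 22, true), (2, 4, true), (5, 19, true), (4, 19, true), (3, 22, true), (2, 22, true), (5, 2, true), (7, 8, true), (6, 13, true), (5, 17, true), (4, 24, true), (3, 24,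 true), (2, 26, true), (1, 27, true), (6, 16, true), (5, 24, true), (4, 24, true), (3, 26, true), (2, 27, true), (0, 6, true), (3, 23, true), (2, 24, true), (1, 26, true), (0, 27, true), (3, 23, true), (2, 26, true), (1, 27, true), (3, 25, true), (7, 16, true), (6, 24, true), (5, 24, true), (4, 26, true), (3, 27, true), (2, 27, true), (0, 6, true), (4, 23, true), (3, 24, true), (2, 26, true), (1, 27, true), (0, 27, true), (4, 23, true), (3, 26, true), (2, 27, true), (1, 27, true), (4, 25, true), (2, 5, true), (5, 15, true), (4, 24, true), (3, 24, true), (2, 26, true), (0, 6, true), (2, 22, true), (1, 22, true), (4, 15, true), (3, 24, true), (2, 24, true), (1, 26, true), (0, 26, true), (4, 22, true), (3, 22, true), (1, 4, true), (3, 13, true), (2, 24, true), (1, 24, true), (3, 23, true), (2, 24, true), (0, 6, true), (0, 23, true), (3, 23, true), (2, 24, true), (1, 27, true), (3, 23, true), (2, 27, true), (0, 6, true), (3, 22, true), (2, 22, true), (4, 22, true), (3, 22, true), (3, 22, false), (4, 22, false), (5, 19, false), (0, 6, false), (2, 27, false), (3, 27, false), (4, 26, false), (5, 24, false), (6, 24, false), (7, 21,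 false), (8, 15, false), (1, 27, false), (2, 27, false), (3, 26, false), (4, 24, false), (5, 24, false), (6, 21, false), (7, 17, false), (8, 7, false), (3, 22, false), (4, 22, false), (5, 19, false), (0, 27, false), (1, 27, false), (2, 24, false), (3, 24, false), (4, 21, false), (5, 7, false), (4, 8, false), (4, 2, false), (6, 8, false), (0, 6, false), (2, 27, false), (3, 23, false), (4, 18, false), (1, 23, false), (2, 20, false), (3, 18, false), (1, 4, false), (3, 22, false), (4, 19, false), (5, 19, false), (1, 5, false), (3, 25, false), (4, 25, false), (0, 27, false), (1, 27, false), (2, 26, false), (3, 26, false), (4, 23, false), (5, 20, false), (6, 20, false), (1, 25, false), (2, 25, false), (0, 6, false), (2, 27, false), (3, 26, false), (4, 26, false), (5, 23, false), (6, 20, false), (7, 20, false), (8, 9, false), (2, 25, false), (3, 25, false), (4, 18, false), (2, 5, false), (4, 25, false), (5, 25, false), (6, 20, false), (7, 18, false), (5, 19, false), (6, 19, false), (3, 25, false), (4, 20, false), (5, 20, false), (2, 25, false), (3, 20, false), (4, 20, false), (5, 9, false), (2, 5, false), (4, 25, false), (5, 20,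 false), (6, 20, false), (7, 11, false), (1, 27, false), (2, 27, false), (3, 26, false), (4, 21, false), (5, 21, false), (6, 12, false), (0, 27, false), (1, 27, false), (2, 26, false), (3, 21, false), (4, 21, false), (5, 12, false), (2, 19, false), (3, 19, false), (2, 4, false), (4, 19, false), (5, 19, false), (1, 25, false), (2, 25, false), (3, 20, false), (4, 20, false), (0, 25, false), (1, 25, false), (2, 20, false), (3, 20, false), (4, 0, false), (1, 19, false), (2, 19, false), (3, 10, false), (4, 10, false), (0, 19, false), (1, 19, false), (2, 10, false), (3, 10, false), (0, 5, false), (2, 20, false), (3, 20, false), (4, 11, false), (5, 11, false), (1, 20, false), (2, 20, false), (3, 11, false), (4, 11, false), (2, 8, false), (1, 8, false), (0, 11, false), (0, 5, false), (2, 11, false), (0, 6, false), (2, 27, false), (3, 27, false), (4, 12, false), (4, 2, false), (6, 8, false), (5, 8, false), (4, 4, false), (6, 19, false), (7, 10, false), (5, 19, false), (6, 10, false), (3, 25, false), (4, 20, false), (5, 11, false), (5, 0, false), (4, 8, false), (5, 8, false), (4, 2, false), (6, 8, false), (7, 8, false), (3, 19, false),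 (4, 19, false), (5, 10, false), (6, 10, false), (3, 4, false), (5, 19, false), (6, 19, false), (7, 10, false), (8, 10, false), (2, 25, false), (3, 25, false), (4, 20, false), (5, 20, false), (6, 11, false), (7, 11, false), (2, 5, false), (4, 25, false), (5, 25, false), (6, 20, false), (7, 20, false), (8, 11, false), (9, 11, false), (1, 27, false), (2, 27, false), (3, 26, false), (4, 26, false), (5, 21, false), (6, 21, false), (7, 12, false), (8, 12, false)])]

/-- A conjugation. -/
def threeCo3TailFus2 : Schur.Tails.Fus where
  xs := [[6, 6, 4, 3], [5, 5, 4, 4, 2, 2, 1, 1, 0, 0], [6, 5, 5, 4, 3, 1, 1, 0], [6, 6, 4, 3, 0], [6, 6, 5, 5, 4, 3, 3, 1, 1, 0, 0], [5, 5, 4, 3, 3, 1, 1, 0, 0], [6, 6, 5, 5, 4, 3, 3, 1, 0, 0]]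
  ys := [[5, 4, 3, 2, 1, 1, 0, 0], [6, 6, 5, 5, 4, 3, 3, 1, 1, 0], [6, 6, 4, 4, 1], [3, 1, 1, 0], [5, 5, 4, 4, 3, 0], [6, 5, 5, 4, 4, 3, 0], [6, 5, 5, 4, 4, 1, 1]]
  rels := [
    ([0, 0, 0], [5, 5, 4], [(3, 24, true), (2, 26, true), (0, 6, true), (1, 24, true), (0, 26, true), (2, 22, true), (4, 24, true), (3, 24, true), (2, 26, true), (1, 26, true), (5, 24, true), (4, 24, true), (3, 26, true), (2, 26, true), (0, 6, true), (3, 22, true), (2, 22, true), (0, 4, true), (0, 3, true), (2, 0, false), (2, 1, false), (2, 4, false), (1, 26, false), (2, 26, false), (3, 15, false), (0, 26, false), (1, 26, false), (2, 17, false), (3, 15, false), (0, 6, false), (2, 26, false), (3, 26, false), (4, 17, false), (5, 17, false), (6, 7, false), (1, 26, false), (2, 15, false), (0, 26, false), (1, 17, false), (2, 7, false), (0, 6, false), (2, 26, false), (1, 26, false), (2, 3, false), (1, 22, false), (2, 22, false), (0, 24, false), (1, 24, false), (2, 14, false), (0, 4, false), (2, 22, false), (3, 22, false), (0, 6, false), (2, 26, false), (3, 26, false), (4, 24, false), (5, 24, false), (6, 15, false), (2, 5, false), (4, 25, false), (5, 25,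 false), (1, 27, false), (2, 27, false), (3, 26, false), (4, 26, false), (5, 23, false), (0, 27, false), (1, 27, false), (2, 26, false), (3, 26, false), (4, 24, false), (5, 23, false), (0, 6, false), (2, 27, false), (3, 27, false), (4, 26, false), (5, 26, false), (6, 24, false), (7, 24, false), (8, 16, false), (3, 25, false), (4, 25, false), (1, 27, false), (2, 26, false), (3, 26, false), (4, 23, false), (0, 27, false), (1, 26, false), (2, 26, false), (3, 24, false), (4, 23, false), (0, 6, false), (2, 27, false), (3, 26, false), (4, 26, false), (5, 24, false), (6, 24, false), (7, 16, false), (8, 9, false), (4, 22, false), (1, 27, false), (2, 26, false), (3, 24, false), (4, 14, false), (2, 22, false), (0, 27, false), (1, 24, false), (2, 15, false), (0, 6, false), (2, 23, false), (1, 24, false), (2, 16, false), (1, 5, false), (0, 27, false), (1, 27, false), (2, 23, false), (0, 6, false), (2, 27, false), (3, 27, false), (4, 24, false), (5, 16, false), (6, 9, false), (4, 4, false), (6, 22, false), (1, 27, false), (2, 27, false), (3, 26, false), (4, 26, false), (5, 24, false), (6, 15, false), (7, 10, false), (2, 25, false), (3,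 25, false), (0, 27, false), (1, 26, false), (2, 26, false), (3, 23, false), (0, 6, false), (2, 27, false), (3, 26, false), (4, 26, false), (5, 24, false), (6, 16, false), (7, 11, false), (2, 25, false), (3, 25, false), (1, 26, false), (2, 26, false), (3, 23, false), (0, 26, false), (1, 26, false), (2, 24, false), (3, 16, false), (4, 11, false), (0, 6, false), (2, 26, false), (3, 26, false), (4, 24, false), (5, 17, false), (6, 12, false), (1, 26, false), (2, 26, false), (3, 24, false), (4, 17, false), (5, 12, false), (5, 0, false), (2, 22, false), (0, 26, false), (1, 24, false), (2, 7, false), (0, 22, false), (1, 10, false), (0, 6, false), (2, 24, false), (3, 12, false), (4, 7, false), (3, 1, false), (2, 4, false), (4, 22, false), (1, 26, false), (2, 26, false), (3, 24, false), (4, 15, false), (0, 26, false), (1, 26, false), (2, 24, false), (3, 17, false), (4, 15, false), (0, 6, false), (2, 26, false), (3, 26, false), (4, 24, false), (5, 17, false), (6, 17, false), (7, 7, false), (3, 22, false), (1, 26, false), (2, 24, false), (3, 15, false), (0, 26, false), (1, 24, false), (2, 17, false), (3, 15, false), (4, 10, false),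 (0, 6, false), (2, 26, false), (3, 24, false), (4, 17, false), (5, 17, false), (6, 12, false), (7, 7, false), (1, 14, false), (1, 4, false), (0, 26, false), (1, 26, false), (2, 15, false), (0, 6, false), (2, 26, false), (3, 26, false), (4, 17, false), (5, 14, false), (1, 26, false), (2, 15, false), (0, 26, false), (1, 17, false), (2, 15, false), (0, 5, false), (2, 25, false), (0, 6, false), (2, 27, false), (3, 27, false), (4, 26, false), (5, 16, false), (1, 27, false), (2, 27, false), (3, 26, false), (4, 17, false), (5, 16, false), (2, 25, false), (0, 27, false), (1, 26, false), (2, 16, false), (0, 6, false), (2, 27, false), (3, 26, false), (4, 17, false), (5, 16, false), (6, 9, false), (1, 27, false), (2, 15, false), (0, 27, false), (1, 17, false), (2, 15, false), (3, 10, false), (0, 6, false), (2, 16, false), (1, 17, false), (2, 16, false), (3, 11, false), (1, 5, false), (0, 27, false), (1, 27, false), (2, 16, false), (0, 6, false), (2, 27, false), (3, 27, false), (4, 17, false), (5, 16, false), (6, 11, false), (7, 9, false), (1, 27, false), (2, 27, false), (0, 27, false), (1, 27, false), (2, 3, false), (2, 4, false),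 (4, 22, false), (5, 22, false), (0, 6, false), (2, 27, false), (3, 27, false), (4, 26, false), (5, 26, false), (6, 24, false), (7, 24, false), (8, 14, false), (5, 22, false), (6, 22, false), (1, 27, false), (2, 27, false), (3, 26, false), (4, 24, false), (5, 24, false), (6, 15, false), (0, 27, false), (1, 27, false), (2, 26, false), (3, 24, false), (4, 24, false), (5, 17, false), (6, 14, false), (2, 22, false), (3, 22, false), (0, 6, false), (2, 27, false), (3, 27, false), (4, 24, false), (5, 24, false), (6, 15, false), (1, 27, false), (2, 27, false), (3, 24, false), (4, 24, false), (5, 17, false), (6, 15, false), (0, 27, false), (1, 23, false), (0, 6, false), (2, 27, false), (3, 24, false), (4, 23, false), (1, 27, false), (2, 24, false), (3, 24, false), (4, 16, false), (0, 27, false), (1, 24, false), (2, 24, false), (3, 17, false), (4, 16, false), (0, 6, false), (2, 23, false), (1, 24, false), (2, 23, false), (0, 24, false), (1, 24, false), (2, 16, false), (0, 6, false), (2, 24, false), (3, 24, false), (4, 17, false), (5, 16, false), (6, 9, false), (2, 4, false), (4, 22, false), (5, 22, false), (1, 26, false), (2, 26, false),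 (3, 24, false), (4, 24, false), (5, 15, false), (0, 26, false), (1, 26, false), (2, 24, false), (3, 24, false), (4, 17, false), (5, 15, false), (6, 10, false), (0, 5, false), (2, 25, false), (3, 25, false), (0, 6, false), (2, 27, false), (3, 27, false), (4, 26, false), (5, 26, false), (6, 23, false), (1, 27, false), (2, 27, false), (3, 26, false), (4, 26, false), (5, 24, false), (6, 23, false), (0, 27, false), (1, 27, false), (2, 26, false), (3, 26, false), (4, 24, false), (5, 24, false), (6, 16, false), (0, 6, false), (2, 27, false), (3, 27, false), (4, 26, false), (5, 26, false), (6, 24, false), (7, 24, false), (8, 17, false), (9, 16, false), (10, 11, false), (3, 25, false), (4, 25, false), (1, 27, false), (2, 26, false), (3, 26, false), (4, 23, false), (0, 27, false), (1, 26, false), (2, 26, false), (3, 24, false), (4, 23, false), (0, 6, false), (2, 27, false), (3, 26, false), (4, 26, false), (5, 24, false), (6, 24, false), (7, 16, false), (1, 27, false), (2, 26, false), (3, 26, false), (4, 24, false), (5, 24, false), (6, 17, false), (7, 16, false), (8, 11, false), (9, 9, false), (3, 22, false), (4, 22, false), (0, 27,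 false), (1, 26, false), (2, 24, false), (3, 24, false), (4, 15, false), (0, 6, false), (2, 27, false), (3, 26, false), (4, 24, false), (5, 24, false), (6, 17, false), (7, 15, false), (8, 10, false), (9, 10, false), (2, 25, false), (1, 26, false), (2, 23, false), (0, 26, false), (1, 24, false), (2, 23, false), (0, 6, false), (2, 26, false), (3, 24, false), (4, 24, false), (5, 16, false), (1, 26, false), (2, 24, false), (3, 24, false), (4, 17, false), (5, 16, false), (6, 11, false), (7, 11, false), (1, 5, false), (3, 25, false), (0, 27, false), (1, 27, false), (2, 26, false), (3, 23, false), (0, 6, false), (2, 27, false), (3, 27, false), (4, 26, false), (5, 24, false), (6, 23, false), (1, 27, false), (2, 27, false), (3, 26, false), (4, 24, false), (5, 24, false), (6, 16, false), (0, 27, false), (1, 27, false), (2, 26, false), (3, 24, false), (4, 24, false), (5, 17, false), (6, 16, false), (7, 11, false), (8, 11, false)], [(7, 11, true), (6, 11, true), (5, 16, true), (4, 17, true), (3, 21, true), (2, 24, true), (1, 26, true), (0, 27, true), (5, 16, true), (4, 21, true), (3, 24, true), (2, 26, true), (1, 27, true), (5, 20, true),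 (4, 23, true), (3, 26, true), (2, 27, true), (0, 6, true), (1, 25, true), (8, 10, true), (7, 10, true), (6, 15, true), (5, 17, true), (4, 21, true), (3, 24, true), (2, 26, true), (1, 27, true), (0, 27, true), (6, 15, true), (5, 21, true), (4, 24, true), (3, 26, true), (2, 27, true), (1, 27, true), (6, 19, true), (5, 22, true), (11, 9, true), (10, 11, true), (9, 16, true), (8, 17, true), (7, 21, true), (6, 24, true), (5, 26, true), (4, 26, true), (3, 27, true), (2, 27, true), (0, 6, true), (6, 16, true), (5, 21, true), (4, 24, true), (3, 26, true), (2, 26, true), (1, 27, true), (0, 27, true), (6, 20, true), (5, 23, true), (4, 26, true), (3, 26, true), (2, 27, true), (1, 27, true), (5, 25, true), (4, 25, true), (2, 5, true), (8, 11, true), (7, 16, true), (6, 17, true), (5, 21, true), (4, 24, true), (3, 26, true), (2, 26, true), (0, 6, true), (4, 16, true), (3, 21, true), (2, 24, true), (1, 26, true), (0, 26, true), (4, 20, true), (3, 23, true), (2, 26, true), (1, 26, true), (3, 25, true), (2, 25, true), (9, 10, true), (8, 15, true), (7, 17, true), (6, 21, true), (5, 24, true), (4, 26, true), (3, 26, true), (2, 27, true), (0,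 6, true), (5, 15, true), (4, 21, true), (3, 24, true), (2, 26, true), (1, 26, true), (0, 27, true), (5, 19, true), (4, 22, true), (2, 4, true), (6, 9, true), (5, 16, true), (4, 17, true), (3, 21, true), (2, 24, true), (1, 27, true), (5, 16, true), (4, 21, true), (3, 24, true), (2, 27, true), (0, 6, true), (2, 20, true), (1, 23, true), (0, 27, true), (6, 16, true), (5, 17, true), (4, 21, true), (3, 24, true), (2, 27, true), (1, 27, true), (6, 16, true), (5, 21, true), (4, 24, true), (3, 27, true), (2, 27, true), (0, 6, true), (3, 20, true), (2, 23, true), (1, 27, true), (0, 27, true), (1, 5, true), (4, 15, true), (3, 17, true), (2, 21, true), (1, 24, true), (4, 15, true), (3, 21, true), (2, 24, true), (0, 6, true), (1, 19, true), (0, 22, true), (4, 14, true), (3, 17, true), (2, 21, true), (1, 24, true), (0, 26, true), (4, 15, true), (3, 21, true), (2, 24, true), (1, 26, true), (4, 19, true), (3, 22, true), (6, 14, true), (5, 21, true), (4, 24, true), (3, 26, true), (2, 26, true), (0, 6, true), (3, 19, true), (2, 22, true), (0, 4, true), (1, 18, true), (0, 23, true), (8, 8, true), (7, 8, true), (6, 13, true), (5, 17, true),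 (4, 21, true), (3, 24, true), (2, 24, true), (1, 27, true), (6, 16, true), (5, 21, true), (4, 24, true), (3, 24, true), (2, 27, true), (0, 6, true), (3, 20, true), (2, 23, true), (1, 24, true), (0, 27, true), (2, 23, true), (1, 27, true), (7, 16, true), (6, 21, true), (5, 24, true), (4, 24, true), (3, 27, true), (2, 27, true), (0, 6, true), (4, 20, true), (3, 23, true), (2, 24, true), (1, 27, true), (0, 27, true), (3, 23, true), (2, 27, true), (1, 27, true), (2, 5, true), (5, 15, true), (4, 21, true), (3, 24, true), (2, 24, true), (0, 6, true), (2, 19, true), (1, 22, true), (0, 22, true), (4, 15, true), (3, 21, true), (2, 24, true), (1, 24, true), (0, 26, true), (4, 19, true), (3, 22, true), (2, 22, true), (6, 13, true), (5, 21, true), (4, 24, true), (3, 24, true), (2, 26, true), (1, 26, true), (6, 20, true), (5, 23, true), (4, 24, true), (3, 26, true), (2, 26, true), (0, 6, true), (2, 23, true), (1, 26, true), (0, 26, true), (2, 25, true), (1, 25, true), (6, 20, true), (5, 23, true), (4, 24, true), (3, 26, true), (2, 26, true), (1, 27, true), (5, 23, true), (4, 26, true), (3, 26, true), (2, 27, true), (0, 6, true), (2,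 25, true), (1, 25, true), (6, 19, true), (5, 22, true), (4, 22, true), (2, 4, true), (4, 19, true), (3, 22, true), (2, 22, true), (10, 7, true), (9, 12, true), (8, 17, true), (7, 17, true), (6, 21, true), (5, 21, true), (4, 24, true), (3, 24, true), (2, 26, true), (1, 27, true), (0, 27, true), (10, 10, true), (9, 15, true), (8, 17, true), (7, 21, true), (6, 21, true), (5, 24, true), (4, 24, true), (3, 26, true), (2, 27, true), (1, 27, true), (9, 15, true), (8, 21, true), (7, 21, true), (6, 24, true), (5, 24, true), (4, 26, true), (3, 27, true), (2, 27, true), (0, 6, true), (6, 19, true), (5, 19, true), (4, 22, true), (3, 22, true), (10, 7, true), (9, 17, true), (8, 17, true), (7, 21, true), (6, 21, true), (5, 24, true), (4, 24, true), (3, 26, true), (2, 26, true), (1, 27, true), (0, 27, true), (10, 15, true), (9, 17, true), (8, 21, true), (7, 21, true), (6, 24, true), (5, 24, true), (4, 26, true), (3, 26, true), (2, 27, true), (1, 27, true), (10, 15, true), (9, 21, true), (8, 21, true), (7, 24, true), (6, 24, true), (5, 26, true), (4, 26, true), (3, 27, true), (2, 27, true), (0, 6, true), (7, 19, true), (6, 19, true), (5,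 22, true), (4, 22, true), (2, 4, true), (6, 1, true), (7, 7, true), (6, 12, true), (5, 21, true), (4, 21, true), (3, 24, true), (2, 24, true), (1, 27, true), (0, 27, true), (7, 10, true), (6, 19, true), (5, 19, true), (4, 22, true), (3, 22, true), (8, 7, true), (7, 21, true), (6, 21, true), (5, 24, true), (4, 24, true), (3, 26, true), (2, 27, true), (1, 27, true), (8, 19, true), (7, 19, true), (6, 22, true), (5, 22, true), (11, 0, true), (11, 11, true), (10, 16, true), (9, 21, true), (8, 21, true), (7, 24, true), (6, 24, true), (5, 26, true), (4, 26, true), (3, 27, true), (2, 27, true), (0, 6, true), (7, 20, true), (6, 20, true), (5, 23, true), (4, 24, true), (3, 26, true), (2, 26, true), (1, 27, true), (0, 27, true), (5, 23, true), (4, 26, true), (3, 26, true), (2, 27, true), (1, 27, true), (5, 25, true), (4, 25, true), (2, 5, true), (9, 10, true), (8, 15, true), (7, 21, true), (6, 21, true), (5, 24, true), (4, 24, true), (3, 26, true), (2, 26, true), (0, 6, true), (5, 19, true), (4, 19, true), (3, 22, true), (2, 22, true), (0, 4, true), (5, 9, true), (4, 16, true), (3, 21, true), (2, 21, true), (1, 24, true), (0, 24, true),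 (4, 20, true), (3, 20, true), (2, 23, true), (1, 24, true), (2, 23, true), (0, 6, true), (5, 16, true), (4, 21, true), (3, 21, true), (2, 24, true), (1, 24, true), (0, 27, true), (5, 20, true), (4, 20, true), (3, 23, true), (2, 24, true), (1, 27, true), (3, 23, true), (2, 27, true), (0, 6, true), (6, 15, true), (5, 21, true), (4, 21, true), (3, 24, true), (2, 24, true), (1, 27, true), (0, 27, true), (6, 19, true), (5, 19, true), (4, 22, true), (3, 22, true), (8, 14, true), (7, 21, true), (6, 21, true), (5, 24, true), (4, 24, true), (3, 26, true), (2, 27, true), (1, 27, true), (8, 19, true), (7, 19, true), (6, 22, true), (5, 22, true), (9, 18, true), (8, 20, true), (7, 23, true), (6, 24, true), (5, 26, true), (4, 26, true), (3, 27, true), (2, 27, true), (0, 6, true), (4, 23, true), (3, 26, true), (2, 26, true), (1, 27, true), (0, 27, true), (4, 25, true), (3, 25, true), (1, 5, true), (5, 18, true), (4, 23, true), (3, 24, true), (2, 26, true), (1, 26, true), (4, 23, true), (3, 26, true), (2, 26, true), (0, 6, true), (1, 25, true), (0, 25, true), (3, 3, true), (2, 26, true), (1, 26, true), (0, 27, true), (3, 26, true), (2,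 26, true), (1, 27, true), (8, 8, true), (7, 13, true), (6, 21, true), (5, 21, true), (4, 26, true), (3, 26, true), (2, 27, true), (0, 6, true), (4, 20, true), (3, 20, true), (2, 25, true), (1, 25, true), (5, 20, true), (4, 20, true), (3, 25, true), (2, 25, true), (0, 5, true), (3, 19, true), (2, 19, true), (0, 4, true), (1, 19, true), (0, 19, true), (1, 2, true), (2, 7, true), (1, 17, true), (0, 26, true), (2, 15, true), (1, 26, true), (6, 7, true), (5, 17, true), (4, 17, true), (3, 26, true), (2, 26, true), (0, 6, true), (3, 15, true), (2, 17, true), (1, 26, true), (0, 26, true), (3, 15, true), (2, 26, true), (1, 26, true), (2, 4, true), (2, 1, true), (2, 0, true), (2, 0, false), (0, 3, false), (0, 4, false), (2, 22, false), (3, 22, false), (0, 5, false), (2, 25, false), (3, 25, false), (0, 6, false), (2, 27, false), (3, 27, false), (4, 26, false), (5, 26, false), (6, 23, false), (1, 27, false), (2, 27, false), (3, 26, false), (4, 26, false), (5, 24, false), (6, 23, false), (2, 25, false), (3, 25, false), (0, 27, false), (1, 26, false), (2, 26, false), (3, 23, false), (0, 6, false), (2, 27, false), (3, 26, false), (4, 26,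 false), (5, 24, false), (6, 23, false), (7, 9, false), (4, 22, false), (5, 22, false), (6, 10, false), (2, 25, false), (1, 26, false), (2, 23, false), (0, 26, false), (1, 24, false), (2, 23, false), (3, 11, false), (0, 5, false), (2, 25, false), (0, 6, false), (2, 27, false), (3, 27, false), (4, 26, false), (5, 23, false), (1, 27, false), (2, 27, false), (3, 26, false), (4, 24, false), (5, 23, false), (6, 11, false), (7, 9, false), (3, 22, false), (4, 22, false), (5, 10, false), (6, 10, false), (3, 4, false), (5, 22, false), (6, 22, false), (7, 10, false), (8, 10, false), (2, 25, false), (3, 25, false), (0, 27, false), (1, 26, false), (2, 26, false), (3, 23, false), (0, 6, false), (2, 27, false), (3, 26, false), (4, 26, false), (5, 24, false), (6, 23, false), (7, 11, false), (8, 11, false), (2, 25, false), (3, 25, false), (1, 26, false), (2, 26, false), (3, 23, false), (0, 26, false), (1, 26, false), (2, 24, false), (3, 23, false), (4, 11, false), (5, 11, false), (1, 22, false), (0, 5, false), (2, 25, false), (0, 6, false), (2, 27, false), (3, 27, false), (4, 26, false), (5, 23, false), (3, 25, false), (1, 27, false), (2,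 26, false), (3, 23, false), (4, 9, false), (2, 22, false), (3, 10, false), (2, 4, false), (4, 22, false), (5, 10, false), (1, 25, false), (2, 25, false), (0, 26, false), (1, 26, false), (2, 23, false), (3, 11, false), (0, 5, false), (2, 25, false), (3, 25, false), (0, 6, false), (2, 27, false), (3, 27, false), (4, 26, false), (5, 26, false), (6, 23, false), (7, 11, false), (1, 27, false), (2, 27, false), (3, 26, false), (4, 26, false), (5, 24, false), (6, 12, false)]),
    ([1, 1, 1], [], [(9, 11, true), (8, 11, true), (7, 16, true), (6, 17, true), (5, 21, true), (4, 21, true), (3, 26, true), (2, 26, true), (1, 27, true), (0, 27, true), (7, 16, true), (6, 21, true), (5, 21, true), (4, 26, true), (3, 26, true), (2, 27, true), (1, 27, true), (7, 20, true), (6, 20, true), (5, 25, true), (4, 25, true), (2, 5, true), (9, 11, true), (8, 11, true), (7, 16, true), (6, 17, true), (5, 21, true), (4, 21, true), (3, 26, true), (2, 26, true), (0, 6, true), (4, 16, true), (3, 21, true), (2, 21, true), (1, 26, true), (0, 26, true), (4, 20, true), (3, 20, true), (2, 25, true), (1, 25, true), (9, 10, true), (8, 10, true), (7, 15, true),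 (6, 17, true), (5, 21, true), (4, 21, true), (3, 26, true), (2, 26, true), (1, 27, true), (7, 15, true), (6, 21, true), (5, 21, true), (4, 26, true), (3, 26, true), (2, 27, true), (0, 6, true), (4, 19, true), (3, 19, true), (1, 4, true), (6, 10, true), (5, 10, true), (4, 15, true), (3, 17, true), (2, 21, true), (1, 21, true), (0, 27, true), (4, 15, true), (3, 21, true), (2, 21, true), (1, 27, true), (4, 19, true), (3, 19, true), (9, 8, true), (8, 8, true), (7, 13, true), (6, 17, true), (5, 21, true), (4, 21, true), (3, 26, true), (2, 27, true), (0, 6, true), (4, 16, true), (3, 21, true), (2, 21, true), (1, 26, true), (0, 27, true), (4, 20, true), (3, 20, true), (2, 25, true), (6, 16, true), (5, 21, true), (4, 21, true), (3, 26, true), (2, 27, true), (1, 27, true), (6, 20, true), (5, 20, true), (4, 25, true), (2, 5, true), (5, 15, true), (4, 21, true), (3, 21, true), (2, 26, true), (0, 6, true), (2, 19, true), (1, 19, true), (4, 15, true), (3, 21, true), (2, 21, true), (1, 26, true), (0, 26, true), (4, 19, true), (3, 19, true), (1, 4, true), (3, 13, true), (2, 21, true), (1, 21, true), (3, 20, true), (2, 20, true), (4, 20,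 true), (3, 20, true), (5, 19, true), (4, 19, true), (6, 19, true), (5, 19, true), (6, 2, true), (9, 8, true), (8, 8, true), (7, 13, true), (6, 17, true), (5, 26, true), (4, 26, true), (3, 27, true), (2, 27, true), (0, 6, true), (4, 16, true), (3, 26, true), (2, 26, true), (1, 27, true), (0, 27, true), (4, 25, true), (3, 25, true), (1, 5, true), (3, 16, true), (2, 26, true), (1, 26, true), (3, 25, true), (2, 25, true), (5, 15, true), (4, 26, true), (3, 26, true), (2, 27, true), (0, 6, true), (1, 4, true), (1, 15, true), (0, 27, true), (3, 13, true), (2, 26, true), (1, 27, true), (3, 25, true), (4, 25, true), (2, 5, true), (2, 4, true), (6, 7, true), (5, 12, true), (4, 17, true), (3, 17, true), (2, 21, true), (0, 6, true), (3, 10, true), (2, 15, true), (1, 17, true), (0, 21, true), (2, 15, true), (1, 21, true), (2, 19, true), (6, 7, true), (5, 17, true), (4, 17, true), (3, 21, true), (2, 26, true), (0, 6, true), (3, 15, true), (2, 17, true), (1, 21, true), (0, 26, true), (3, 15, true), (2, 21, true), (1, 26, true), (3, 19, true), (5, 1, true), (6, 7, true), (5, 12, true), (4, 21, true), (3, 26, true), (2, 26, true), (0, 6,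 true), (3, 10, true), (2, 19, true), (0, 4, true), (1, 7, true), (0, 21, true), (1, 19, true), (4, 0, true), (4, 11, true), (3, 16, true), (2, 21, true), (1, 26, true), (3, 20, true), (2, 25, true), (6, 11, true), (5, 16, true), (4, 21, true), (3, 26, true), (2, 27, true), (0, 6, true), (2, 20, true), (1, 25, true), (5, 10, true), (4, 15, true), (3, 21, true), (2, 26, true), (1, 27, true), (0, 27, true), (4, 19, true), (7, 10, true), (6, 15, true), (5, 21, true), (4, 26, true), (3, 26, true), (2, 27, true), (1, 27, true), (6, 19, true), (4, 4, true), (6, 8, true), (5, 13, true), (4, 21, true), (3, 27, true), (2, 27, true), (0, 6, true), (2, 20, true), (0, 5, true), (0, 20, true), (1, 19, true), (2, 19, true), (6, 8, true), (5, 13, true), (4, 21, true), (3, 21, true), (2, 26, true), (1, 26, true), (0, 27, true), (5, 20, true), (4, 20, true), (3, 25, true), (2, 25, true), (6, 20, true), (5, 20, true), (4, 25, true), (3, 25, true), (1, 5, true), (4, 19, true), (3, 19, true), (1, 4, true), (2, 19, true), (1, 19, true), (2, 2, true), (3, 7, true), (2, 17, true), (1, 26, true), (3, 15, true), (2, 26, true), (0, 6, true), (4, 7,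 true), (3, 17, true), (2, 17, true), (1, 26, true), (0, 26, true), (4, 15, true), (3, 17, true), (2, 26, true), (1, 26, true), (4, 15, true), (3, 26, true), (2, 26, true), (0, 6, true), (0, 4, true), (0, 1, true), (0, 0, true)], [(9, 12, true), (8, 17, true), (7, 17, true), (6, 24, true), (5, 24, true), (4, 26, true), (3, 27, true), (2, 27, true), (0, 6, true), (7, 12, true), (6, 17, true), (5, 17, true), (4, 24, true), (3, 24, true), (2, 26, true), (1, 27, true), (0, 27, true), (8, 11, true), (7, 16, true), (6, 17, true), (5, 24, true), (4, 24, true), (3, 26, true), (2, 27, true), (1, 27, true), (7, 16, true), (6, 24, true), (5, 24, true), (4, 26, true), (3, 27, true), (2, 27, true), (0, 6, true), (4, 23, true), (3, 24, true), (2, 26, true), (1, 27, true), (0, 27, true), (4, 23, true), (3, 26, true), (2, 27, true), (1, 27, true), (4, 25, true), (2, 5, true), (7, 11, true), (6, 16, true), (5, 17, true), (4, 24, true), (3, 24, true), (2, 26, true), (0, 6, true), (3, 16, true), (2, 24, true), (1, 24, true), (0, 26, true), (3, 23, true), (2, 24, true), (1, 26, true), (3, 23, true), (2, 26, true), (0, 6, true), (0, 25, true),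 (6, 10, true), (5, 15, true), (4, 17, true), (3, 24, true), (2, 24, true), (1, 26, true), (0, 27, true), (5, 15, true), (4, 24, true), (3, 24, true), (2, 26, true), (1, 27, true), (5, 22, true), (4, 22, true), (9, 9, true), (8, 16, true), (7, 17, true), (6, 24, true), (5, 24, true), (4, 26, true), (3, 26, true), (2, 27, true), (0, 6, true), (5, 16, true), (4, 24, true), (3, 24, true), (2, 26, true), (1, 26, true), (0, 27, true), (5, 23, true), (4, 24, true), (3, 26, true), (2, 26, true), (1, 27, true), (5, 23, true), (4, 26, true), (3, 26, true), (2, 27, true), (0, 6, true), (2, 25, true), (1, 25, true), (7, 16, true), (6, 17, true), (5, 24, true), (4, 24, true), (3, 26, true), (2, 26, true), (1, 27, true), (0, 27, true), (7, 16, true), (6, 24, true), (5, 24, true), (4, 26, true), (3, 26, true), (2, 27, true), (1, 27, true), (7, 23, true), (6, 24, true), (5, 26, true), (4, 26, true), (3, 27, true), (2, 27, true), (0, 6, true), (4, 23, true), (3, 26, true), (2, 26, true), (1, 27, true), (0, 27, true), (4, 25, true), (3, 25, true), (1, 5, true), (6, 15, true), (5, 17, true), (4, 24, true), (3, 24, true), (2, 26, true), (1,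 26, true), (6, 15, true), (5, 24, true), (4, 24, true), (3, 26, true), (2, 26, true), (0, 6, true), (3, 22, true), (2, 22, true), (0, 4, true), (3, 14, true), (2, 17, true), (1, 24, true), (0, 24, true), (3, 15, true), (2, 24, true), (1, 24, true), (3, 22, true), (2, 22, true), (5, 14, true), (4, 24, true), (3, 24, true), (2, 26, true), (0, 6, true), (2, 22, true), (1, 22, true), (2, 3, true), (1, 26, true), (0, 26, true), (2, 26, true), (1, 26, true), (6, 9, true), (5, 16, true), (4, 17, true), (3, 26, true), (2, 26, true), (0, 6, true), (2, 16, true), (1, 26, true), (0, 26, true), (2, 25, true), (1, 25, true), (5, 16, true), (4, 17, true), (3, 26, true), (2, 26, true), (1, 27, true), (5, 16, true), (4, 26, true), (3, 26, true), (2, 27, true), (0, 6, true), (2, 25, true), (1, 25, true), (5, 15, true), (4, 17, true), (3, 26, true), (2, 26, true), (1, 27, true), (0, 27, true), (5, 15, true), (4, 26, true), (3, 26, true), (2, 27, true), (1, 27, true), (4, 4, true), (5, 14, true), (4, 17, true), (3, 27, true), (2, 27, true), (0, 6, true), (2, 15, true), (1, 27, true), (0, 27, true), (4, 14, true), (3, 26, true), (2, 27, true),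 (1, 27, true), (9, 7, true), (8, 17, true), (7, 17, true), (6, 24, true), (5, 26, true), (4, 26, true), (3, 27, true), (2, 27, true), (0, 6, true), (6, 15, true), (5, 17, true), (4, 24, true), (3, 26, true), (2, 26, true), (1, 27, true), (0, 27, true), (6, 15, true), (5, 24, true), (4, 26, true), (3, 26, true), (2, 27, true), (1, 27, true), (6, 22, true), (4, 4, true), (5, 1, true), (5, 7, true), (4, 24, true), (3, 27, true), (2, 27, true), (0, 6, true), (2, 22, true), (6, 12, true), (5, 12, true), (4, 17, true), (3, 24, true), (2, 26, true), (1, 27, true), (0, 27, true), (7, 12, true), (6, 12, true), (5, 17, true), (4, 24, true), (3, 26, true), (2, 27, true), (1, 27, true), (8, 11, true), (7, 11, true), (6, 16, true), (5, 24, true), (4, 26, true), (3, 27, true), (2, 27, true), (0, 6, true), (3, 23, true), (2, 26, true), (1, 27, true), (0, 27, true), (3, 25, true), (1, 5, true), (5, 11, true), (4, 11, true), (3, 16, true), (2, 24, true), (1, 26, true), (3, 23, true), (2, 26, true), (0, 6, true), (0, 25, true), (5, 10, true), (4, 10, true), (3, 15, true), (2, 24, true), (1, 26, true), (0, 27, true), (3, 22, true), (7, 9,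 true), (6, 11, true), (5, 16, true), (4, 24, true), (3, 26, true), (2, 26, true), (1, 27, true), (5, 23, true), (4, 26, true), (3, 26, true), (2, 27, true), (0, 6, true), (2, 25, true), (1, 25, true), (6, 11, true), (5, 16, true), (4, 24, true), (3, 26, true), (2, 26, true), (1, 27, true), (0, 27, true), (5, 23, true), (4, 26, true), (3, 26, true), (2, 27, true), (1, 27, true), (5, 25, true), (4, 25, true), (2, 5, true), (6, 10, true), (5, 15, true), (4, 24, true), (3, 26, true), (2, 26, true), (0, 6, true), (2, 22, true), (0, 4, true), (2, 9, true), (1, 16, true), (0, 24, true), (1, 23, true), (4, 16, true), (3, 24, true), (2, 27, true), (0, 6, true), (1, 23, true), (0, 27, true), (4, 15, true), (3, 24, true), (2, 27, true), (1, 27, true), (4, 22, true), (6, 14, true), (5, 24, true), (4, 26, true), (3, 27, true), (2, 27, true), (0, 6, true), (3, 22, true), (8, 9, true), (7, 11, true), (6, 16, true), (5, 24, true), (4, 24, true), (3, 26, true), (2, 26, true), (1, 27, true), (0, 27, true), (6, 23, true), (5, 24, true), (4, 26, true), (3, 26, true), (2, 27, true), (1, 27, true), (6, 23, true), (5, 26, true), (4, 26, true),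 (3, 27, true), (2, 27, true), (0, 6, true), (3, 25, true), (2, 25, true), (0, 5, true), (5, 11, true), (4, 16, true), (3, 24, true), (2, 24, true), (1, 26, true), (0, 26, true), (4, 23, true), (3, 24, true), (2, 26, true), (1, 26, true), (4, 23, true), (3, 26, true), (2, 26, true), (0, 6, true), (1, 25, true), (0, 25, true), (6, 10, true), (5, 15, true), (4, 24, true), (3, 24, true), (2, 26, true), (1, 26, true), (0, 27, true), (5, 22, true), (4, 22, true), (2, 4, true), (5, 9, true), (4, 16, true), (3, 24, true), (2, 24, true), (1, 27, true), (4, 23, true), (3, 24, true), (2, 27, true), (0, 6, true), (1, 23, true), (0, 27, true), (5, 16, true), (4, 24, true), (3, 24, true), (2, 27, true), (1, 27, true), (5, 23, true), (4, 24, true), (3, 27, true), (2, 27, true), (0, 6, true), (2, 23, true), (1, 27, true), (0, 27, true), (1, 5, true), (3, 15, true), (2, 24, true), (1, 24, true), (3, 22, true), (2, 22, true), (5, 14, true), (4, 24, true), (3, 24, true), (2, 26, true), (0, 6, true), (2, 22, true), (1, 22, true), (2, 3, true), (1, 26, true), (0, 26, true), (2, 26, true), (1, 26, true), (6, 7, true), (5, 12, true), (4, 17, true),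 (3, 26, true), (2, 26, true), (0, 6, true), (3, 10, true), (2, 15, true), (1, 26, true), (0, 26, true), (1, 4, true), (2, 7, true), (1, 17, true), (2, 15, true), (0, 6, true), (4, 7, true), (3, 12, true), (2, 17, true), (1, 17, true), (0, 26, true), (4, 10, true), (3, 15, true), (2, 17, true), (1, 26, true), (3, 15, true), (2, 26, true), (0, 6, true), (4, 7, true), (3, 17, true), (2, 17, true), (1, 26, true), (0, 26, true), (4, 15, true), (3, 17, true), (2, 26, true), (1, 26, true), (4, 15, true), (3, 26, true), (2, 26, true), (0, 6, true), (0, 4, true), (0, 1, true), (0, 0, true)]),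
    ([0, 1], [6, 5, 5, 4, 4, 3, 3, 1, 0], [(3, 23, true), (2, 26, true), (0, 6, true), (0, 25, true), (2, 23, true), (1, 26, true), (0, 27, true), (2, 25, true), (4, 22, true), (5, 22, true), (3, 4, true), (2, 18, false), (1, 20, false), (2, 18, false), (1, 4, false), (3, 19, false), (4, 19, false), (0, 26, false), (1, 26, false), (2, 21, false), (3, 21, false), (4, 14, false), (1, 19, false), (2, 19, false), (0, 6, false), (2, 26, false), (3, 21, false), (4, 21, false), (5, 15, false), (1, 26, false), (2, 21, false), (3, 21, false), (4, 17, false), (5, 14, false), (1, 19, false), (2, 19, false), (0, 21, false), (1, 21, false), (2, 15, false), (0, 6, false), (2, 21, false), (3, 21, false), (4, 17, false), (5, 15, false), (2, 5, false), (4, 20, false), (5, 20, false), (1, 27, false), (2, 27, false), (3, 21, false), (4, 21, false), (5, 16, false), (0, 27, false), (1, 27, false), (2, 21, false), (3, 21, false), (4, 17, false), (5, 16, false), (1, 20, false), (2, 20, false), (0, 6, false), (2, 27, false), (3, 21, false), (4, 21, false), (5, 16, false), (1, 27, false), (2, 21, false), (3, 21, false), (4, 17, false), (5, 16, false),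 (6, 9, false), (2, 4, false), (4, 19, false), (5, 19, false), (0, 27, false), (1, 26, false), (2, 26, false), (3, 21, false), (4, 21, false), (5, 15, false), (0, 6, false), (2, 27, false), (3, 26, false), (4, 26, false), (5, 21, false), (6, 21, false), (7, 17, false), (8, 15, false), (9, 10, false), (2, 25, false), (3, 25, false), (4, 20, false), (5, 20, false), (1, 26, false), (2, 26, false), (3, 21, false), (4, 21, false), (5, 16, false), (0, 26, false), (1, 26, false), (2, 21, false), (3, 21, false), (4, 17, false), (5, 16, false), (6, 11, false), (0, 5, false), (2, 25, false), (3, 25, false), (4, 20, false), (5, 20, false), (0, 6, false), (2, 27, false), (3, 27, false), (4, 26, false), (5, 26, false), (6, 21, false), (7, 21, false), (8, 16, false), (1, 27, false), (2, 27, false), (3, 26, false), (4, 26, false), (5, 21, false), (6, 21, false), (7, 17, false), (8, 16, false), (9, 11, false), (10, 9, false), (4, 19, false), (5, 19, false), (0, 27, false), (1, 27, false), (2, 26, false), (3, 21, false), (4, 21, false), (5, 15, false), (0, 6, false), (2, 27, false), (3, 27, false), (4, 26, false), (5, 21, false), (6, 21,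 false), (7, 17, false), (8, 15, false), (9, 10, false), (10, 10, false), (1, 27, false), (2, 27, false), (3, 26, false), (4, 21, false), (5, 21, false), (6, 17, false), (7, 17, false), (8, 12, false), (9, 12, false), (0, 27, false), (1, 27, false), (2, 26, false), (3, 21, false), (4, 21, false), (5, 17, false), (6, 17, false), (7, 12, false), (8, 12, false), (2, 4, false), (1, 25, false), (2, 25, false), (0, 25, false), (1, 25, false), (2, 0, false), (0, 6, false), (2, 26, false), (3, 26, false), (1, 26, false), (2, 26, false), (3, 3, false), (2, 22, false), (3, 22, false), (1, 5, false), (3, 25, false), (0, 27, false), (1, 27, false), (2, 26, false), (3, 23, false), (0, 6, false), (2, 27, false), (3, 27, false), (4, 26, false), (5, 24, false), (6, 23, false), (3, 25, false), (1, 27, false), (2, 26, false), (3, 23, false), (0, 27, false), (1, 26, false), (2, 24, false), (3, 23, false), (4, 9, false), (1, 22, false), (2, 22, false), (3, 10, false), (0, 6, false), (2, 23, false), (1, 24, false), (2, 23, false), (3, 11, false), (1, 5, false), (0, 27, false), (1, 27, false), (2, 23, false), (0, 6, false), (2, 27, false), (3,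 27, false), (4, 24, false), (5, 23, false), (6, 11, false), (7, 9, false), (4, 4, false), (6, 22, false), (7, 22, false), (8, 10, false), (9, 10, false), (1, 27, false), (2, 27, false), (3, 26, false), (4, 26, false), (5, 24, false), (6, 24, false), (7, 12, false), (8, 12, false), (0, 27, false), (1, 27, false), (2, 26, false), (3, 26, false), (4, 24, false), (5, 24, false), (6, 12, false), (7, 12, false), (3, 22, false), (1, 25, false), (0, 6, false), (2, 27, false), (3, 26, false), (4, 23, false), (2, 25, false), (1, 26, false), (2, 23, false), (3, 9, false), (1, 22, false), (2, 10, false), (0, 24, false), (1, 12, false), (0, 6, false), (2, 24, false), (3, 12, false), (3, 0, false), (3, 1, false), (2, 4, false), (4, 22, false), (1, 26, false), (2, 26, false), (3, 24, false), (4, 15, false), (0, 26, false), (1, 26, false), (2, 24, false), (3, 17, false), (4, 15, false), (0, 6, false), (2, 26, false), (3, 26, false), (4, 24, false), (5, 17, false), (6, 17, false), (7, 7, false), (3, 22, false), (1, 26, false), (2, 24, false), (3, 15, false), (0, 26, false), (1, 24, false), (2, 17, false), (3, 15, false), (4, 10, false),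 (0, 6, false), (2, 26, false), (3, 24, false), (4, 17, false), (5, 17, false), (6, 12, false), (7, 7, false), (2, 22, false), (1, 24, false), (2, 15, false), (0, 24, false), (1, 17, false), (2, 7, false), (0, 4, false), (2, 22, false), (0, 6, false), (2, 26, false), (3, 26, false), (4, 24, false), (5, 15, false), (6, 10, false), (1, 26, false), (2, 26, false), (3, 24, false), (4, 17, false), (5, 12, false), (6, 7, false), (0, 26, false), (1, 14, false), (0, 6, false), (2, 15, false), (2, 5, false), (1, 27, false), (2, 27, false), (3, 16, false), (0, 27, false), (1, 16, false), (2, 9, false), (1, 4, false), (0, 6, false), (2, 27, false), (3, 26, false), (4, 26, false), (5, 15, false), (6, 10, false), (2, 25, false), (3, 25, false), (1, 26, false), (2, 26, false), (3, 16, false), (4, 11, false), (1, 5, false), (3, 25, false), (4, 25, false), (0, 27, false), (1, 27, false), (2, 26, false), (3, 26, false), (4, 16, false), (5, 11, false), (6, 9, false), (0, 6, false), (2, 27, false), (3, 27, false), (4, 26, false), (5, 26, false), (1, 27, false), (2, 27, false), (3, 26, false), (4, 26, false), (5, 3, false), (4, 22, false), (5,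 22, false), (0, 27, false), (1, 27, false), (2, 26, false), (3, 24, false), (4, 24, false), (5, 14, false), (2, 22, false), (3, 22, false), (0, 6, false), (2, 27, false), (3, 27, false), (4, 24, false), (5, 24, false), (6, 15, false), (1, 27, false), (2, 23, false), (0, 27, false), (1, 24, false), (2, 23, false), (0, 6, false), (2, 27, false), (3, 24, false), (4, 24, false), (5, 16, false), (1, 23, false), (0, 24, false), (1, 23, false), (0, 6, false), (2, 24, false), (3, 24, false), (4, 16, false), (5, 9, false), (2, 4, false), (4, 22, false), (5, 22, false), (1, 26, false), (2, 26, false), (3, 24, false), (4, 24, false), (5, 15, false), (6, 10, false), (1, 5, false), (3, 25, false), (4, 25, false), (0, 27, false), (1, 27, false), (2, 26, false), (3, 26, false), (4, 23, false), (0, 6, false), (2, 27, false), (3, 27, false), (4, 26, false), (5, 26, false), (6, 24, false), (7, 23, false), (1, 27, false), (2, 27, false), (3, 26, false), (4, 26, false), (5, 24, false), (6, 24, false), (7, 16, false), (8, 11, false), (2, 25, false), (3, 25, false), (0, 27, false), (1, 26, false), (2, 26, false), (3, 23, false), (0, 6, false),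 (2, 27, false), (3, 26, false), (4, 26, false), (5, 24, false), (6, 23, false), (1, 27, false), (2, 26, false), (3, 26, false), (4, 24, false), (5, 24, false), (6, 16, false), (7, 11, false), (8, 9, false), (3, 22, false), (4, 22, false), (0, 27, false), (1, 26, false), (2, 24, false), (3, 24, false), (4, 15, false), (5, 10, false), (6, 10, false), (0, 25, false), (0, 6, false), (2, 26, false), (3, 23, false), (1, 26, false), (2, 24, false), (3, 23, false), (0, 26, false), (1, 24, false), (2, 24, false), (3, 16, false), (4, 11, false), (5, 11, false), (0, 5, false), (2, 25, false), (0, 6, false), (2, 27, false), (3, 27, false), (4, 26, false), (5, 23, false), (1, 27, false), (2, 27, false), (3, 26, false), (4, 24, false), (5, 23, false), (0, 27, false), (1, 27, false), (2, 26, false), (3, 24, false), (4, 24, false), (5, 16, false), (6, 11, false), (7, 11, false), (0, 6, false), (2, 27, false), (3, 27, false), (4, 26, false), (5, 24, false), (6, 24, false), (7, 17, false), (8, 12, false), (9, 12, false), (1, 27, false), (2, 27, false), (3, 26, false), (4, 24, false), (5, 24, false), (6, 17, false), (7, 12, false), (8, 12,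 false), (6, 1, false), (3, 22, false), (0, 27, false), (1, 27, false), (2, 24, false), (3, 14, false), (2, 4, false), (4, 22, false), (0, 6, false), (2, 27, false), (3, 27, false), (4, 26, false), (5, 26, false), (6, 24, false), (7, 15, false), (1, 27, false), (2, 27, false), (3, 26, false), (4, 26, false), (5, 24, false), (6, 17, false), (7, 14, false), (0, 27, false), (1, 27, false), (2, 26, false), (3, 14, false), (0, 6, false), (2, 27, false), (3, 27, false), (4, 15, false), (1, 27, false), (2, 27, false), (3, 17, false), (4, 14, false), (3, 4, false), (0, 27, false), (1, 27, false), (2, 26, false), (3, 26, false), (4, 15, false), (0, 6, false), (2, 27, false), (3, 27, false), (4, 26, false), (5, 26, false), (6, 17, false), (7, 15, false), (3, 25, false), (4, 25, false), (1, 27, false), (2, 26, false), (3, 26, false), (4, 16, false), (0, 27, false), (1, 26, false), (2, 26, false), (3, 17, false), (4, 16, false), (0, 25, false), (1, 25, false), (0, 6, false), (2, 26, false), (3, 26, false), (4, 16, false), (1, 26, false), (2, 26, false), (3, 17, false), (4, 16, false), (0, 26, false), (1, 26, false), (2, 17, false), (3,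 17, false), (0, 6, false), (2, 26, false), (3, 26, false), (4, 17, false), (5, 17, false), (6, 0, false), (1, 26, false), (2, 15, false), (0, 26, false), (1, 17, false), (2, 7, false), (0, 6, false), (2, 7, false), (0, 3, false), (0, 4, false), (2, 22, false), (3, 22, false), (0, 5, false), (2, 25, false), (3, 25, false), (0, 6, false), (2, 27, false), (3, 27, false), (4, 26, false), (5, 26, false), (6, 23, false), (1, 27, false), (2, 27, false), (3, 26, false), (4, 26, false), (5, 24, false), (6, 23, false), (2, 25, false), (3, 25, false), (0, 27, false), (1, 26, false), (2, 26, false), (3, 23, false), (0, 6, false), (2, 27, false), (3, 26, false), (4, 26, false), (5, 24, false), (6, 23, false), (7, 9, false), (4, 22, false), (2, 25, false), (1, 26, false), (2, 23, false), (1, 5, false), (3, 25, false), (0, 27, false), (1, 27, false), (2, 26, false), (3, 23, false), (4, 9, false), (2, 22, false), (3, 10, false), (0, 6, false), (2, 27, false), (3, 23, false), (4, 11, false), (1, 23, false), (2, 11, false), (2, 0, false), (2, 1, false), (1, 4, false), (3, 22, false), (0, 26, false), (1, 26, false), (2, 24, false), (3, 15,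 false), (0, 6, false), (2, 26, false), (3, 26, false), (4, 24, false), (5, 17, false), (6, 15, false), (1, 26, false), (2, 26, false), (3, 24, false), (4, 17, false), (5, 17, false), (6, 7, false), (2, 22, false), (0, 26, false), (1, 24, false), (2, 15, false), (0, 6, false), (2, 26, false), (3, 24, false), (4, 17, false), (5, 15, false), (6, 10, false), (1, 26, false), (2, 24, false), (3, 17, false), (4, 17, false), (5, 12, false), (6, 7, false), (1, 22, false), (0, 24, false), (1, 15, false), (0, 6, false), (2, 24, false), (3, 17, false), (4, 7, false), (2, 4, false), (4, 22, false), (1, 26, false), (2, 26, false), (3, 24, false), (4, 15, false), (5, 10, false), (0, 26, false), (1, 26, false), (2, 24, false), (3, 17, false), (4, 12, false), (5, 7, false), (0, 6, false), (2, 26, false), (3, 14, false), (1, 15, false), (1, 5, false), (0, 27, false), (1, 27, false), (2, 16, false), (0, 6, false), (2, 27, false), (3, 16, false), (4, 9, false), (3, 4, false), (1, 27, false), (2, 26, false), (3, 26, false), (4, 15, false), (5, 10, false), (1, 25, false), (2, 25, false), (0, 26, false), (1, 26, false), (2, 16, false), (3, 11,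 false), (0, 5, false), (2, 25, false), (3, 25, false), (0, 6, false), (2, 27, false), (3, 27, false), (4, 26, false), (5, 26, false), (6, 16, false), (7, 11, false), (8, 9, false), (1, 27, false), (2, 27, false), (3, 26, false), (4, 26, false), (0, 27, false), (1, 27, false), (2, 26, false), (3, 26, false), (4, 3, false), (3, 22, false), (4, 22, false), (0, 6, false), (2, 27, false), (3, 27, false), (4, 26, false), (5, 24, false), (6, 24, false), (7, 14, false), (4, 22, false), (5, 22, false), (1, 27, false), (2, 27, false), (3, 24, false), (4, 24, false), (5, 15, false), (0, 27, false), (1, 23, false), (0, 6, false), (2, 27, false), (3, 24, false), (4, 23, false), (1, 27, false), (2, 24, false), (3, 24, false), (4, 16, false), (0, 23, false), (0, 6, false), (2, 24, false), (3, 23, false), (1, 24, false), (2, 24, false), (3, 16, false), (4, 9, false), (1, 4, false), (3, 22, false), (4, 22, false), (0, 26, false), (1, 26, false), (2, 24, false), (3, 24, false), (4, 15, false), (5, 10, false), (0, 5, false), (2, 25, false), (3, 25, false), (0, 6, false), (2, 27, false), (3, 27, false), (4, 26, false), (5, 26, false), (6, 23,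 false), (1, 27, false), (2, 27, false), (3, 26, false), (4, 26, false), (5, 24, false), (6, 23, false), (0, 27, false), (1, 27, false), (2, 26, false), (3, 26, false), (4, 24, false), (5, 24, false), (6, 16, false), (7, 11, false), (1, 25, false), (2, 25, false), (0, 6, false), (2, 27, false), (3, 26, false), (4, 26, false), (5, 23, false), (1, 27, false), (2, 26, false), (3, 26, false), (4, 24, false), (5, 23, false), (0, 27, false), (1, 26, false), (2, 26, false), (3, 24, false), (4, 24, false), (5, 16, false), (6, 11, false), (7, 9, false), (2, 22, false), (3, 22, false), (0, 6, false), (2, 27, false), (3, 26, false), (4, 24, false), (5, 24, false), (6, 15, false), (7, 10, false), (8, 10, false), (2, 25, false), (1, 26, false), (2, 23, false), (0, 26, false), (1, 24, false), (2, 23, false), (0, 6, false), (2, 26, false), (3, 24, false), (4, 24, false), (5, 16, false), (6, 11, false), (7, 11, false), (2, 5, false), (4, 25, false), (1, 27, false), (2, 27, false), (3, 26, false), (4, 23, false), (0, 27, false), (1, 27, false), (2, 26, false), (3, 24, false), (4, 23, false), (0, 6, false), (2, 27, false), (3, 27, false),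 (4, 26, false), (5, 24, false), (6, 24, false), (7, 16, false), (8, 11, false), (9, 11, false)], [(7, 12, true), (6, 12, true), (5, 17, true), (4, 17, true), (3, 21, true), (2, 24, true), (1, 26, true), (0, 27, true), (8, 12, true), (7, 12, true), (6, 17, true), (5, 17, true), (4, 21, true), (3, 24, true), (2, 26, true), (1, 27, true), (9, 11, true), (8, 11, true), (7, 16, true), (6, 17, true), (5, 21, true), (4, 24, true), (3, 26, true), (2, 27, true), (0, 6, true), (4, 16, true), (3, 21, true), (2, 24, true), (1, 26, true), (0, 27, true), (4, 20, true), (3, 23, true), (2, 26, true), (1, 27, true), (3, 25, true), (10, 11, true), (9, 11, true), (8, 16, true), (7, 17, true), (6, 21, true), (5, 24, true), (4, 26, true), (3, 27, true), (2, 27, true), (0, 6, true), (5, 16, true), (4, 21, true), (3, 24, true), (2, 26, true), (1, 27, true), (0, 27, true), (5, 20, true), (4, 23, true), (3, 26, true), (2, 27, true), (1, 27, true), (4, 25, true), (2, 5, true), (8, 10, true), (7, 10, true), (6, 15, true), (5, 17, true), (4, 21, true), (3, 24, true), (2, 26, true), (0, 6, true), (3, 15, true), (2, 21, true), (1, 24, true), (0, 26,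 true), (3, 19, true), (2, 22, true), (8, 9, true), (7, 11, true), (6, 16, true), (5, 17, true), (4, 21, true), (3, 24, true), (2, 26, true), (1, 26, true), (6, 16, true), (5, 21, true), (4, 24, true), (3, 26, true), (2, 26, true), (0, 6, true), (3, 20, true), (2, 23, true), (1, 26, true), (0, 26, true), (2, 25, true), (1, 25, true), (8, 11, true), (7, 16, true), (6, 17, true), (5, 21, true), (4, 24, true), (3, 26, true), (2, 26, true), (1, 27, true), (7, 16, true), (6, 21, true), (5, 24, true), (4, 26, true), (3, 26, true), (2, 27, true), (0, 6, true), (4, 20, true), (3, 23, true), (2, 26, true), (1, 26, true), (0, 27, true), (3, 25, true), (2, 25, true), (9, 10, true), (8, 15, true), (7, 17, true), (6, 21, true), (5, 24, true), (4, 26, true), (3, 26, true), (2, 27, true), (1, 27, true), (8, 15, true), (7, 21, true), (6, 24, true), (5, 26, true), (4, 26, true), (3, 27, true), (2, 27, true), (0, 6, true), (5, 19, true), (4, 22, true), (2, 4, true), (6, 9, true), (5, 16, true), (4, 17, true), (3, 21, true), (2, 24, true), (1, 27, true), (0, 27, true), (5, 16, true), (4, 21, true), (3, 24, true), (2, 27, true), (1, 27, true),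 (5, 20, true), (4, 23, true), (3, 27, true), (2, 27, true), (0, 6, true), (0, 5, true), (3, 16, true), (2, 17, true), (1, 21, true), (0, 24, true), (3, 16, true), (2, 21, true), (1, 24, true), (3, 20, true), (2, 23, true), (0, 6, true), (4, 15, true), (3, 17, true), (2, 21, true), (1, 24, true), (0, 27, true), (4, 15, true), (3, 21, true), (2, 24, true), (1, 27, true), (4, 19, true), (3, 22, true), (7, 14, true), (6, 17, true), (5, 21, true), (4, 24, true), (3, 26, true), (2, 27, true), (0, 6, true), (4, 15, true), (3, 21, true), (2, 24, true), (1, 26, true), (0, 27, true), (4, 19, true), (3, 22, true), (6, 14, true), (5, 21, true), (4, 24, true), (3, 26, true), (2, 26, true), (1, 27, true), (6, 19, true), (5, 22, true), (3, 4, true), (4, 18, true), (3, 23, true), (2, 27, true), (0, 6, true), (8, 9, true), (7, 11, true), (6, 16, true), (5, 17, true), (4, 21, true), (3, 24, true), (2, 24, true), (1, 27, true), (0, 27, true), (6, 16, true), (5, 21, true), (4, 24, true), (3, 24, true), (2, 27, true), (1, 27, true), (6, 20, true), (5, 23, true), (4, 24, true), (3, 27, true), (2, 27, true), (0, 6, true), (2, 23, true), (1, 27,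 true), (0, 27, true), (1, 5, true), (6, 11, true), (5, 16, true), (4, 17, true), (3, 21, true), (2, 24, true), (1, 24, true), (5, 16, true), (4, 21, true), (3, 24, true), (2, 24, true), (0, 6, true), (2, 20, true), (1, 23, true), (0, 24, true), (1, 23, true), (8, 10, true), (7, 15, true), (6, 17, true), (5, 21, true), (4, 24, true), (3, 24, true), (2, 27, true), (0, 6, true), (4, 15, true), (3, 21, true), (2, 24, true), (1, 24, true), (0, 27, true), (4, 19, true), (3, 22, true), (2, 22, true), (8, 9, true), (7, 16, true), (6, 17, true), (5, 21, true), (4, 24, true), (3, 24, true), (2, 26, true), (1, 27, true), (7, 16, true), (6, 21, true), (5, 24, true), (4, 24, true), (3, 26, true), (2, 27, true), (0, 6, true), (4, 20, true), (3, 23, true), (2, 24, true), (1, 26, true), (0, 27, true), (3, 23, true), (2, 26, true), (1, 27, true), (3, 25, true), (9, 16, true), (8, 17, true), (7, 21, true), (6, 24, true), (5, 24, true), (4, 26, true), (3, 27, true), (2, 27, true), (0, 6, true), (6, 16, true), (5, 21, true), (4, 24, true), (3, 24, true), (2, 26, true), (1, 27, true), (0, 27, true), (6, 20, true), (5, 23, true), (4, 24, true),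 (3, 26, true), (2, 27, true), (1, 27, true), (5, 23, true), (4, 26, true), (3, 27, true), (2, 27, true), (0, 6, true), (2, 25, true), (0, 5, true), (5, 15, true), (4, 17, true), (3, 21, true), (2, 24, true), (1, 24, true), (0, 26, true), (5, 15, true), (4, 21, true), (3, 24, true), (2, 24, true), (1, 26, true), (5, 19, true), (4, 22, true), (3, 22, true), (8, 14, true), (7, 17, true), (6, 21, true), (5, 24, true), (4, 24, true), (3, 26, true), (2, 26, true), (0, 6, true), (5, 15, true), (4, 21, true), (3, 24, true), (2, 24, true), (1, 26, true), (0, 26, true), (5, 19, true), (4, 22, true), (3, 22, true), (1, 4, true), (4, 14, true), (3, 21, true), (2, 24, true), (1, 24, true), (4, 19, true), (3, 22, true), (2, 22, true), (5, 18, true), (4, 23, true), (3, 24, true), (2, 26, true), (0, 6, true), (1, 23, true), (0, 26, true), (1, 25, true), (3, 3, true), (2, 26, true), (1, 27, true), (3, 26, true), (2, 27, true), (0, 6, true), (6, 7, true), (5, 12, true), (4, 17, true), (3, 17, true), (2, 21, true), (1, 26, true), (0, 27, true), (6, 10, true), (5, 15, true), (4, 17, true), (3, 21, true), (2, 26, true), (1, 27, true), (5, 15,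 true), (4, 21, true), (3, 26, true), (2, 27, true), (0, 6, true), (2, 19, true), (6, 7, true), (5, 17, true), (4, 17, true), (3, 21, true), (2, 26, true), (1, 26, true), (0, 27, true), (6, 15, true), (5, 17, true), (4, 21, true), (3, 26, true), (2, 26, true), (1, 27, true), (6, 15, true), (5, 21, true), (4, 26, true), (3, 26, true), (2, 27, true), (0, 6, true), (3, 19, true), (1, 4, true), (2, 1, true), (3, 7, true), (2, 12, true), (1, 21, true), (0, 27, true), (3, 10, true), (2, 19, true), (4, 7, true), (3, 21, true), (2, 26, true), (1, 27, true), (4, 19, true), (7, 0, true), (7, 0, false), (4, 19, false), (1, 27, false), (2, 26, false), (3, 21, false), (4, 7, false), (4, 1, false), (2, 19, false), (0, 27, false), (1, 21, false), (2, 15, false), (0, 6, false), (2, 27, false), (3, 21, false), (4, 17, false), (5, 15, false), (1, 27, false), (2, 21, false), (3, 17, false), (4, 17, false), (5, 7, false), (2, 4, false), (1, 25, false), (1, 5, false), (3, 25, false), (0, 27, false), (1, 27, false), (2, 26, false), (3, 13, false), (0, 6, false), (2, 27, false), (3, 27, false), (4, 15, false), (4, 4, false), (1, 27, false), (2,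 27, false), (3, 26, false), (4, 26, false), (5, 15, false), (2, 25, false), (3, 25, false), (0, 27, false), (1, 26, false), (2, 26, false), (3, 16, false), (0, 25, false), (1, 25, false), (0, 6, false), (2, 26, false), (3, 26, false), (4, 16, false), (1, 26, false), (2, 26, false), (3, 17, false), (4, 13, false), (5, 8, false), (0, 26, false), (1, 26, false), (0, 6, false), (2, 26, false), (3, 26, false), (4, 3, false), (3, 22, false), (4, 22, false), (1, 26, false), (2, 24, false), (3, 24, false), (4, 14, false), (1, 22, false), (2, 22, false), (0, 24, false), (1, 24, false), (2, 15, false), (0, 6, false), (2, 24, false), (3, 24, false), (4, 17, false), (5, 14, false), (2, 4, false), (4, 22, false), (5, 22, false), (1, 26, false), (2, 26, false), (3, 24, false), (4, 24, false), (5, 15, false), (0, 26, false), (1, 26, false), (2, 24, false), (3, 24, false), (4, 17, false), (5, 15, false), (0, 5, false), (2, 25, false), (3, 25, false), (0, 6, false), (2, 27, false), (3, 27, false), (4, 26, false), (5, 26, false), (6, 23, false), (1, 27, false), (2, 27, false), (3, 26, false), (4, 26, false), (5, 24, false), (6, 23, false),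 (0, 27, false), (1, 27, false), (2, 26, false), (3, 26, false), (4, 24, false), (5, 24, false), (6, 16, false), (0, 6, false), (2, 27, false), (3, 27, false), (4, 26, false), (5, 26, false), (6, 24, false), (7, 24, false), (8, 17, false), (9, 16, false), (3, 25, false), (4, 25, false), (1, 27, false), (2, 26, false), (3, 26, false), (4, 23, false), (0, 27, false), (1, 26, false), (2, 26, false), (3, 24, false), (4, 23, false), (0, 6, false), (2, 27, false), (3, 26, false), (4, 26, false), (5, 24, false), (6, 24, false), (7, 16, false), (1, 27, false), (2, 26, false), (3, 26, false), (4, 24, false), (5, 24, false), (6, 17, false), (7, 16, false), (8, 9, false), (3, 22, false), (4, 22, false), (0, 27, false), (1, 26, false), (2, 24, false), (3, 24, false), (4, 15, false), (0, 6, false), (2, 27, false), (3, 26, false), (4, 24, false), (5, 24, false), (6, 17, false), (7, 15, false), (8, 10, false), (2, 25, false), (1, 26, false), (2, 23, false), (0, 26, false), (1, 24, false), (2, 23, false), (0, 6, false), (2, 26, false), (3, 24, false), (4, 24, false), (5, 16, false), (1, 26, false), (2, 24, false), (3, 24, false), (4, 17,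 false), (5, 16, false), (6, 11, false), (1, 5, false), (0, 27, false), (0, 6, false), (2, 27, false), (3, 0, false), (3, 1, false), (3, 4, false), (1, 27, false), (2, 26, false), (3, 26, false), (4, 15, false), (0, 27, false), (1, 26, false), (2, 26, false), (3, 17, false), (4, 15, false), (0, 6, false), (2, 27, false), (3, 26, false), (4, 26, false), (5, 17, false), (6, 17, false), (7, 7, false), (1, 27, false), (2, 26, false), (3, 15, false), (0, 27, false), (1, 26, false), (2, 17, false), (3, 15, false), (4, 10, false), (0, 6, false), (2, 27, false), (3, 26, false), (4, 17, false), (5, 17, false), (6, 12, false), (7, 7, false), (1, 27, false), (2, 15, false), (0, 27, false), (1, 17, false), (2, 7, false), (1, 4, false), (0, 6, false), (2, 27, false), (3, 26, false), (4, 26, false), (5, 15, false), (6, 10, false), (1, 27, false), (2, 26, false), (3, 26, false), (4, 17, false), (5, 12, false), (6, 7, false), (0, 27, false), (1, 26, false), (2, 26, false), (0, 6, false), (2, 27, false), (3, 26, false), (4, 26, false), (5, 3, false), (4, 22, false), (5, 22, false), (1, 27, false), (2, 26, false), (3, 24, false), (4, 24, false),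 (5, 14, false), (2, 22, false), (3, 22, false), (0, 27, false), (1, 24, false), (2, 24, false), (3, 15, false), (0, 6, false), (2, 23, false), (1, 24, false), (2, 23, false), (0, 24, false), (1, 24, false), (2, 16, false), (0, 5, false), (0, 6, false), (2, 27, false), (3, 27, false), (4, 23, false), (1, 27, false), (2, 27, false), (3, 24, false), (4, 23, false), (0, 27, false), (1, 27, false), (2, 24, false), (3, 24, false), (4, 16, false), (5, 9, false), (2, 4, false), (4, 22, false), (5, 22, false), (0, 6, false), (2, 27, false), (3, 27, false), (4, 26, false), (5, 26, false), (6, 24, false), (7, 24, false), (8, 15, false), (9, 10, false), (3, 25, false), (4, 25, false), (1, 27, false), (2, 26, false), (3, 26, false), (4, 23, false), (0, 27, false), (1, 26, false), (2, 26, false), (3, 24, false), (4, 23, false), (0, 6, false), (2, 27, false), (3, 26, false), (4, 26, false), (5, 24, false), (6, 24, false), (7, 16, false), (8, 11, false), (2, 25, false), (3, 25, false), (1, 26, false), (2, 26, false), (3, 23, false), (0, 26, false), (1, 26, false), (2, 24, false), (3, 23, false), (0, 6, false), (2, 26, false), (3, 26, false),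 (4, 24, false), (5, 24, false), (6, 16, false), (7, 11, false), (8, 9, false), (3, 22, false), (4, 22, false), (1, 26, false), (2, 24, false), (3, 24, false), (4, 7, false), (4, 1, false), (1, 22, false), (2, 22, false), (0, 24, false), (1, 24, false), (2, 15, false), (0, 6, false), (2, 24, false), (3, 24, false), (4, 17, false), (5, 15, false), (1, 24, false), (2, 24, false), (3, 17, false), (4, 17, false), (5, 7, false), (1, 4, false), (3, 22, false), (0, 26, false), (1, 26, false), (2, 24, false), (3, 14, false), (1, 22, false), (0, 6, false), (2, 26, false), (3, 24, false), (4, 15, false), (1, 26, false), (2, 24, false), (3, 17, false), (4, 14, false), (1, 22, false), (0, 24, false), (1, 15, false), (0, 6, false), (2, 24, false), (3, 17, false), (4, 15, false), (2, 5, false), (1, 27, false), (2, 27, false), (3, 23, false), (0, 27, false), (1, 27, false), (2, 24, false), (3, 16, false), (0, 6, false), (2, 27, false), (3, 27, false), (4, 24, false), (5, 17, false), (6, 16, false), (1, 27, false), (2, 23, false), (0, 27, false), (1, 24, false), (2, 16, false), (0, 6, false), (2, 27, false), (3, 24, false), (4, 17, false),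 (5, 16, false), (6, 9, false), (3, 4, false), (1, 27, false), (2, 26, false), (3, 26, false), (4, 14, false), (0, 27, false), (1, 26, false), (2, 15, false), (0, 6, false), (2, 27, false), (3, 26, false), (4, 17, false), (5, 14, false), (1, 27, false), (2, 15, false), (0, 27, false), (1, 17, false), (2, 15, false), (1, 4, false), (0, 6, false), (2, 27, false), (3, 26, false), (4, 26, false), (5, 15, false), (1, 27, false), (2, 26, false), (3, 26, false), (4, 17, false), (5, 15, false), (1, 25, false), (2, 25, false), (0, 26, false), (1, 26, false), (2, 16, false), (0, 6, false), (2, 26, false), (3, 26, false), (4, 17, false), (5, 16, false), (2, 5, false), (4, 25, false), (5, 25, false), (1, 27, false), (2, 27, false), (3, 26, false), (4, 26, false), (5, 16, false), (0, 27, false), (1, 27, false), (2, 26, false), (3, 26, false), (4, 17, false), (5, 16, false), (6, 0, false), (0, 6, false), (2, 27, false), (3, 27, false), (4, 26, false), (5, 26, false), (1, 27, false), (2, 27, false), (3, 26, false), (4, 26, false), (5, 3, false), (4, 22, false), (5, 22, false), (0, 27, false), (1, 27, false), (2, 26, false), (3, 24, false),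 (4, 24, false), (5, 14, false), (2, 22, false), (3, 22, false), (0, 6, false), (2, 27, false), (3, 27, false), (4, 24, false), (5, 24, false), (6, 15, false), (1, 27, false), (2, 27, false), (3, 24, false), (4, 24, false), (5, 17, false), (6, 14, false), (3, 4, false), (5, 22, false), (6, 22, false), (0, 27, false), (1, 27, false), (2, 26, false), (3, 26, false), (4, 24, false), (5, 24, false), (6, 15, false), (0, 6, false), (2, 27, false), (3, 27, false), (4, 26, false), (5, 26, false), (6, 24, false), (7, 24, false), (8, 17, false), (9, 15, false), (3, 25, false), (4, 25, false), (1, 27, false), (2, 26, false), (3, 26, false), (4, 23, false), (0, 27, false), (1, 26, false), (2, 26, false), (3, 24, false), (4, 23, false), (0, 6, false), (2, 27, false), (3, 26, false), (4, 26, false), (5, 24, false), (6, 24, false), (7, 16, false), (1, 27, false), (2, 26, false), (3, 26, false), (4, 24, false), (5, 24, false), (6, 17, false), (7, 16, false), (1, 25, false), (2, 25, false), (0, 26, false), (1, 26, false), (2, 23, false), (0, 6, false), (2, 26, false), (3, 26, false), (4, 24, false), (5, 23, false), (1, 26, false), (2, 26,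 false), (3, 24, false), (4, 24, false), (5, 16, false), (0, 26, false), (1, 26, false), (2, 24, false), (3, 24, false), (4, 17, false), (5, 16, false), (6, 9, false), (1, 22, false), (2, 22, false), (0, 6, false), (2, 26, false), (3, 24, false), (4, 24, false), (5, 15, false), (1, 26, false), (2, 24, false), (3, 24, false), (4, 17, false), (5, 15, false), (6, 10, false), (1, 5, false), (3, 25, false), (0, 27, false), (1, 27, false), (2, 26, false), (3, 23, false), (0, 6, false), (2, 27, false), (3, 27, false), (4, 26, false), (5, 24, false), (6, 23, false), (1, 27, false), (2, 27, false), (3, 26, false), (4, 24, false), (5, 24, false), (6, 16, false), (0, 27, false), (1, 27, false), (2, 26, false), (3, 24, false), (4, 24, false), (5, 17, false), (6, 16, false), (7, 11, false), (1, 25, false), (0, 6, false), (2, 27, false), (3, 26, false), (4, 23, false), (1, 27, false), (2, 26, false), (3, 24, false), (4, 23, false), (0, 27, false), (1, 26, false), (2, 24, false), (3, 24, false), (4, 16, false), (0, 6, false), (2, 27, false), (3, 26, false), (4, 24, false), (5, 24, false), (6, 17, false), (7, 16, false), (8, 11, false),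 (9, 9, false), (3, 22, false), (4, 22, false), (1, 27, false), (2, 24, false), (3, 24, false), (4, 15, false), (0, 27, false), (1, 24, false), (2, 24, false), (3, 17, false), (4, 15, false), (5, 10, false), (6, 10, false), (1, 4, false), (3, 22, false), (4, 22, false), (0, 6, false), (2, 27, false), (3, 26, false), (4, 26, false), (5, 24, false), (6, 24, false), (7, 15, false), (1, 27, false), (2, 26, false), (3, 26, false), (4, 24, false), (5, 24, false), (6, 17, false), (7, 15, false), (8, 10, false), (9, 10, false), (1, 25, false), (2, 25, false), (0, 26, false), (1, 26, false), (2, 23, false), (0, 6, false), (2, 26, false), (3, 26, false), (4, 24, false), (5, 23, false), (1, 26, false), (2, 26, false), (3, 24, false), (4, 24, false), (5, 16, false), (0, 26, false), (1, 26, false), (2, 24, false), (3, 24, false), (4, 17, false), (5, 16, false), (6, 11, false), (7, 11, false), (0, 5, false), (2, 25, false), (3, 25, false), (0, 6, false), (2, 27, false), (3, 27, false), (4, 26, false), (5, 26, false), (6, 23, false), (1, 27, false), (2, 27, false), (3, 26, false), (4, 26, false), (5, 24, false), (6, 23, false), (0, 27,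 false), (1, 27, false), (2, 26, false), (3, 26, false), (4, 24, false), (5, 24, false), (6, 16, false), (0, 6, false), (2, 27, false), (3, 27, false), (4, 26, false), (5, 26, false), (6, 24, false), (7, 24, false), (8, 17, false), (9, 16, false), (10, 11, false), (11, 11, false), (5, 22, false), (1, 27, false), (2, 27, false), (3, 26, false), (4, 24, false), (5, 14, false), (3, 22, false), (0, 27, false), (1, 27, false), (2, 24, false), (3, 15, false), (0, 6, false), (2, 27, false), (3, 27, false), (4, 24, false), (5, 17, false), (6, 14, false), (4, 4, false), (6, 22, false), (1, 27, false), (2, 27, false), (3, 26, false), (4, 26, false), (5, 24, false), (6, 15, false), (0, 27, false), (1, 27, false), (2, 26, false), (3, 26, false), (4, 24, false), (5, 17, false), (6, 15, false), (1, 25, false), (2, 25, false), (0, 6, false), (2, 27, false), (3, 26, false), (4, 26, false), (5, 23, false), (1, 27, false), (2, 26, false), (3, 26, false), (4, 24, false), (5, 16, false), (0, 27, false), (1, 26, false), (2, 26, false), (3, 24, false), (4, 17, false), (5, 16, false), (0, 25, false), (1, 25, false), (0, 6, false), (2, 26, false),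 (3, 26, false), (4, 23, false), (1, 26, false), (2, 26, false), (3, 24, false), (4, 16, false), (0, 26, false), (1, 26, false), (2, 24, false), (3, 17, false), (4, 16, false), (5, 9, false), (1, 22, false), (0, 6, false), (2, 26, false), (3, 24, false), (4, 15, false), (1, 26, false), (2, 24, false), (3, 17, false), (4, 15, false), (5, 10, false), (1, 22, false), (0, 24, false), (1, 15, false), (0, 6, false), (2, 24, false), (3, 17, false), (4, 15, false), (5, 10, false), (2, 5, false), (1, 27, false), (2, 27, false), (3, 23, false), (0, 27, false), (1, 27, false), (2, 24, false), (3, 16, false), (0, 6, false), (2, 27, false), (3, 27, false), (4, 24, false), (5, 17, false), (6, 16, false), (7, 11, false), (1, 27, false), (2, 23, false), (0, 27, false), (1, 24, false), (2, 16, false), (0, 6, false), (2, 27, false), (3, 24, false), (4, 17, false), (5, 16, false), (6, 11, false), (1, 27, false), (2, 24, false), (3, 17, false), (4, 17, false), (5, 12, false), (2, 4, false), (0, 27, false), (1, 26, false), (2, 26, false), (3, 14, false), (0, 6, false), (2, 27, false), (3, 26, false), (4, 15, false), (1, 27, false), (2, 26, false),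 (3, 17, false), (4, 14, false), (0, 27, false), (1, 15, false), (0, 6, false), (2, 27, false), (3, 17, false), (4, 15, false), (3, 4, false), (1, 27, false), (2, 26, false), (3, 26, false), (4, 15, false), (0, 27, false), (1, 26, false), (2, 26, false), (3, 17, false), (4, 15, false), (0, 25, false), (1, 25, false), (0, 6, false), (2, 26, false), (3, 26, false), (4, 16, false), (1, 26, false), (2, 26, false), (3, 17, false), (4, 16, false), (1, 5, false), (3, 25, false), (4, 25, false), (0, 27, false), (1, 27, false), (2, 26, false), (3, 26, false), (4, 16, false), (0, 6, false), (2, 27, false), (3, 27, false), (4, 26, false), (5, 26, false), (6, 17, false), (7, 16, false), (1, 27, false), (2, 27, false), (3, 26, false), (4, 26, false), (5, 17, false), (6, 17, false)]),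
    ([0, 2], [6, 6, 5, 5, 4, 0], [(3, 24, true), (2, 26, true), (0, 6, true), (1, 23, true), (0, 26, true), (1, 25, true), (3, 23, true), (2, 26, true), (1, 27, true), (3, 25, true), (5, 22, true), (5, 22, false), (1, 27, false), (2, 27, false), (3, 26, false), (4, 24, false), (5, 14, false), (3, 22, false), (0, 27, false), (1, 27, false), (2, 24, false), (3, 15, false), (0, 6, false), (2, 27, false), (3, 27, false), (4, 24, false), (5, 17, false), (6, 14, false), (4, 4, false), (6, 22, false), (1, 27, false), (2, 27, false), (3, 26, false), (4, 26, false), (5, 24, false), (6, 15, false), (0, 27, false), (1, 27, false), (2, 26, false), (3, 26, false), (4, 24, false), (5, 17, false), (6, 15, false), (1, 25, false), (2, 25, false), (0, 6, false), (2, 27, false), (3, 26, false), (4, 26, false), (5, 23, false), (1, 27, false), (2, 26, false), (3, 26, false), (4, 24, false), (5, 16, false), (0, 27, false), (1, 26, false), (2, 26, false), (3, 24, false), (4, 17, false), (5, 16, false), (0, 25, false), (1, 25, false), (0, 6, false), (2, 26, false), (3, 26, false), (4, 23, false), (1, 26, false), (2, 26, false), (3, 24, false),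 (4, 16, false), (0, 26, false), (1, 26, false), (2, 24, false), (3, 17, false), (4, 16, false), (5, 9, false), (1, 22, false), (0, 6, false), (2, 26, false), (3, 24, false), (4, 15, false), (1, 26, false), (2, 24, false), (3, 17, false), (4, 15, false), (5, 10, false), (0, 26, false), (1, 24, false), (2, 17, false), (3, 17, false), (4, 12, false), (0, 6, false), (2, 26, false), (3, 24, false), (4, 17, false), (5, 17, false), (6, 12, false), (6, 0, false), (2, 22, false), (1, 24, false), (2, 15, false), (0, 24, false), (1, 17, false), (2, 7, false), (0, 4, false), (2, 22, false), (0, 6, false), (2, 26, false), (3, 26, false), (4, 24, false), (5, 15, false), (6, 10, false), (1, 26, false), (2, 26, false), (3, 24, false), (4, 17, false), (5, 12, false), (6, 7, false), (2, 22, false), (0, 26, false), (1, 24, false), (2, 7, false), (0, 22, false), (1, 10, false), (0, 6, false), (2, 24, false), (3, 12, false), (4, 7, false), (2, 4, false), (2, 5, false), (4, 25, false), (5, 25, false), (3, 25, false), (4, 25, false), (5, 9, false), (4, 10, false), (2, 25, false), (3, 11, false), (2, 5, false), (4, 25, false), (5, 11, false), (6,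 9, false), (1, 27, false), (2, 27, false), (3, 26, false), (0, 27, false), (1, 27, false), (2, 26, false), (3, 3, false), (2, 22, false), (3, 22, false), (0, 6, false), (2, 27, false), (3, 23, false), (1, 27, false), (2, 24, false), (3, 23, false), (0, 23, false), (0, 6, false), (2, 24, false), (3, 23, false), (4, 9, false), (2, 4, false), (4, 22, false), (5, 22, false), (6, 10, false), (2, 5, false), (4, 25, false), (5, 25, false), (1, 27, false), (2, 27, false), (3, 26, false), (4, 26, false), (5, 23, false), (0, 27, false), (1, 27, false), (2, 26, false), (3, 26, false), (4, 24, false), (5, 23, false), (6, 11, false), (1, 25, false), (2, 25, false), (0, 6, false), (2, 27, false), (3, 26, false), (4, 26, false), (5, 23, false), (1, 27, false), (2, 26, false), (3, 26, false), (4, 24, false), (5, 23, false), (6, 11, false), (7, 9, false), (3, 22, false), (4, 22, false), (5, 10, false), (6, 10, false), (1, 25, false), (0, 26, false), (1, 23, false), (0, 6, false), (2, 26, false), (3, 24, false), (4, 23, false), (5, 11, false), (6, 11, false), (2, 5, false), (4, 25, false), (1, 27, false), (2, 27, false), (3, 26, false), (4,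 23, false), (0, 27, false), (1, 27, false), (2, 26, false), (3, 24, false), (4, 23, false), (5, 11, false), (6, 11, false), (0, 6, false), (2, 27, false), (3, 27, false), (4, 26, false), (5, 24, false), (6, 24, false), (7, 12, false), (8, 12, false), (1, 27, false), (2, 27, false), (3, 26, false), (4, 24, false), (5, 24, false), (6, 12, false), (7, 12, false), (6, 1, false), (3, 22, false), (0, 27, false), (1, 27, false), (2, 24, false), (3, 14, false), (2, 4, false), (0, 6, false), (2, 27, false), (3, 27, false), (4, 26, false), (5, 26, false), (6, 14, false), (1, 27, false), (2, 27, false), (3, 26, false), (4, 15, false), (2, 25, false), (0, 27, false), (1, 26, false), (2, 16, false), (0, 25, false), (0, 6, false), (2, 26, false), (3, 16, false), (4, 0, false), (1, 7, false), (1, 1, false), (1, 4, false), (0, 26, false), (1, 26, false), (2, 15, false), (0, 6, false), (2, 26, false), (3, 26, false), (4, 17, false), (5, 15, false), (1, 26, false), (2, 26, false), (3, 17, false), (4, 17, false), (5, 7, false), (0, 26, false), (1, 26, false), (0, 6, false), (2, 26, false), (3, 26, false), (4, 3, false), (3, 22, false), (4,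 22, false), (1, 26, false), (2, 24, false), (3, 24, false), (4, 14, false), (1, 22, false), (2, 22, false), (0, 24, false), (1, 24, false), (2, 15, false), (0, 6, false), (2, 24, false), (3, 24, false), (4, 17, false), (5, 14, false), (2, 4, false), (4, 22, false), (5, 22, false), (1, 26, false), (2, 26, false), (3, 24, false), (4, 24, false), (5, 15, false), (0, 26, false), (1, 26, false), (2, 24, false), (3, 24, false), (4, 17, false), (5, 15, false), (0, 5, false), (2, 25, false), (3, 25, false), (0, 6, false), (2, 27, false), (3, 27, false), (4, 26, false), (5, 26, false), (6, 23, false), (1, 27, false), (2, 27, false), (3, 26, false), (4, 26, false), (5, 24, false), (6, 23, false), (0, 27, false), (1, 27, false), (2, 26, false), (3, 26, false), (4, 24, false), (5, 24, false), (6, 16, false), (0, 6, false), (2, 27, false), (3, 27, false), (4, 26, false), (5, 26, false), (6, 24, false), (7, 24, false), (8, 17, false), (9, 16, false), (3, 25, false), (4, 25, false), (1, 27, false), (2, 26, false), (3, 26, false), (4, 23, false), (0, 27, false), (1, 26, false), (2, 26, false), (3, 24, false), (4, 23, false), (0, 6, false),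 (2, 27, false), (3, 26, false), (4, 26, false), (5, 24, false), (6, 24, false), (7, 16, false), (1, 27, false), (2, 26, false), (3, 26, false), (4, 24, false), (5, 24, false), (6, 17, false), (7, 16, false), (8, 9, false), (3, 22, false), (0, 27, false), (1, 26, false), (2, 24, false), (3, 14, false), (1, 22, false), (0, 6, false), (2, 27, false), (3, 24, false), (4, 15, false), (1, 27, false), (2, 24, false), (3, 17, false), (4, 14, false), (2, 4, false), (4, 22, false), (0, 27, false), (1, 26, false), (2, 26, false), (3, 24, false), (4, 15, false), (0, 6, false), (2, 27, false), (3, 26, false), (4, 26, false), (5, 24, false), (6, 17, false), (7, 15, false), (2, 25, false), (3, 25, false), (1, 26, false), (2, 26, false), (3, 23, false), (0, 26, false), (1, 26, false), (2, 24, false), (3, 16, false), (0, 6, false), (2, 26, false), (3, 26, false), (4, 24, false), (5, 17, false), (6, 16, false), (2, 5, false), (4, 25, false), (5, 25, false), (1, 27, false), (2, 27, false), (3, 26, false), (4, 26, false), (5, 23, false), (0, 27, false), (1, 27, false), (2, 26, false), (3, 26, false), (4, 24, false), (5, 16, false), (0, 6, false),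 (2, 27, false), (3, 27, false), (4, 26, false), (5, 26, false), (6, 24, false), (7, 17, false), (8, 16, false), (9, 9, false), (5, 22, false), (1, 27, false), (2, 27, false), (3, 26, false), (4, 24, false), (5, 15, false), (0, 27, false), (1, 27, false), (2, 26, false), (3, 24, false), (4, 17, false), (5, 15, false), (6, 10, false), (1, 25, false), (0, 6, false), (2, 27, false), (3, 26, false), (4, 23, false), (1, 27, false), (2, 26, false), (3, 24, false), (4, 16, false), (0, 27, false), (1, 26, false), (2, 24, false), (3, 17, false), (4, 16, false), (5, 11, false), (0, 25, false), (0, 6, false), (2, 26, false), (3, 23, false), (1, 26, false), (2, 24, false), (3, 16, false), (0, 26, false), (1, 24, false), (2, 17, false), (3, 16, false), (4, 11, false), (4, 0, false), (0, 22, false), (0, 6, false), (2, 24, false), (3, 15, false), (1, 24, false), (2, 17, false), (3, 7, false), (1, 4, false), (3, 22, false), (0, 26, false), (1, 26, false), (2, 24, false), (3, 15, false), (4, 10, false), (0, 6, false), (2, 26, false), (3, 26, false), (4, 24, false), (5, 17, false), (6, 12, false), (7, 7, false), (1, 26, false), (2, 14, false),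 (0, 15, false), (0, 5, false), (0, 6, false), (2, 27, false), (3, 27, false), (4, 16, false), (1, 27, false), (2, 16, false), (3, 9, false), (2, 4, false), (0, 27, false), (1, 26, false), (2, 26, false), (3, 15, false), (4, 10, false), (0, 25, false), (1, 25, false), (0, 6, false), (2, 26, false), (3, 26, false), (4, 16, false), (5, 11, false), (2, 5, false), (4, 25, false), (5, 25, false), (1, 27, false), (2, 27, false), (3, 26, false), (4, 26, false), (5, 16, false), (6, 11, false), (7, 9, false), (0, 27, false), (1, 27, false), (2, 26, false), (3, 26, false), (0, 6, false), (2, 27, false), (3, 27, false), (4, 26, false), (5, 26, false), (6, 3, false), (5, 22, false), (6, 22, false), (1, 27, false), (2, 27, false), (3, 26, false), (4, 24, false), (5, 24, false), (6, 14, false), (3, 22, false), (4, 22, false), (0, 27, false), (1, 27, false), (2, 24, false), (3, 24, false), (4, 15, false), (0, 6, false), (2, 27, false), (3, 23, false), (1, 27, false), (2, 24, false), (3, 23, false), (0, 27, false), (1, 24, false), (2, 24, false), (3, 16, false), (0, 6, false), (2, 23, false), (1, 24, false), (2, 23, false), (0, 24, false),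 (1, 24, false), (2, 16, false), (3, 9, false), (0, 4, false), (2, 22, false), (3, 22, false), (0, 6, false), (2, 26, false), (3, 26, false), (4, 24, false), (5, 24, false), (6, 15, false), (7, 10, false), (2, 5, false), (4, 25, false), (5, 25, false), (1, 27, false), (2, 27, false), (3, 26, false), (4, 26, false), (5, 23, false), (0, 27, false), (1, 27, false), (2, 26, false), (3, 26, false), (4, 24, false), (5, 23, false), (0, 6, false), (2, 27, false), (3, 27, false), (4, 26, false), (5, 26, false), (6, 24, false), (7, 24, false), (8, 16, false), (9, 11, false), (3, 25, false), (4, 25, false), (1, 27, false), (2, 26, false), (3, 26, false), (4, 23, false), (0, 27, false), (1, 26, false), (2, 26, false), (3, 24, false), (4, 23, false), (0, 6, false), (2, 27, false), (3, 26, false), (4, 26, false), (5, 24, false), (6, 24, false), (7, 16, false), (8, 11, false), (9, 9, false), (4, 22, false), (5, 22, false), (1, 27, false), (2, 26, false), (3, 24, false), (4, 24, false), (5, 15, false), (6, 10, false), (7, 10, false), (1, 25, false), (0, 26, false), (1, 23, false), (0, 6, false), (2, 26, false), (3, 24, false), (4, 23, false),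 (1, 26, false), (2, 24, false), (3, 24, false), (4, 16, false), (5, 11, false), (6, 11, false), (1, 5, false), (3, 25, false), (0, 27, false), (1, 27, false), (2, 26, false), (3, 23, false), (0, 6, false), (2, 27, false), (3, 27, false), (4, 26, false), (5, 24, false), (6, 23, false), (1, 27, false), (2, 27, false), (3, 26, false), (4, 24, false), (5, 24, false), (6, 16, false), (7, 11, false), (8, 11, false), (0, 27, false), (1, 27, false), (2, 26, false), (3, 24, false), (4, 24, false), (5, 17, false), (6, 12, false), (7, 12, false), (0, 6, false), (2, 27, false), (3, 27, false), (4, 26, false), (5, 24, false), (6, 24, false), (7, 17, false), (8, 12, false), (9, 12, false)], [(7, 12, true), (6, 12, true), (5, 17, true), (4, 17, true), (3, 21, true), (2, 24, true), (1, 26, true), (0, 27, true), (8, 12, true), (7, 12, true), (6, 17, true), (5, 17, true), (4, 21, true), (3, 24, true), (2, 26, true), (1, 27, true), (9, 10, true), (8, 10, true), (7, 15, true), (6, 17, true), (5, 21, true), (4, 24, true), (3, 26, true), (2, 27, true), (0, 6, true), (4, 15, true), (3, 21, true), (2, 24, true), (1, 26, true), (0, 27, true), (4,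 19, true), (3, 22, true), (9, 10, true), (8, 10, true), (7, 15, true), (6, 17, true), (5, 21, true), (4, 24, true), (3, 26, true), (2, 26, true), (1, 27, true), (7, 15, true), (6, 21, true), (5, 24, true), (4, 26, true), (3, 26, true), (2, 27, true), (0, 6, true), (4, 19, true), (3, 22, true), (1, 4, true), (6, 7, true), (5, 12, true), (4, 17, true), (3, 17, true), (2, 21, true), (1, 24, true), (0, 27, true), (6, 10, true), (5, 15, true), (4, 17, true), (3, 21, true), (2, 24, true), (1, 27, true), (5, 15, true), (4, 21, true), (3, 24, true), (2, 27, true), (0, 6, true), (2, 19, true), (1, 22, true), (6, 7, true), (5, 17, true), (4, 17, true), (3, 21, true), (2, 24, true), (1, 26, true), (0, 27, true), (6, 15, true), (5, 17, true), (4, 21, true), (3, 24, true), (2, 26, true), (1, 27, true), (6, 15, true), (5, 21, true), (4, 24, true), (3, 26, true), (2, 27, true), (0, 6, true), (3, 19, true), (2, 22, true), (5, 1, true), (5, 1, false), (2, 22, false), (1, 22, false), (0, 6, false), (2, 23, false), (2, 5, false), (1, 27, false), (2, 27, false), (3, 23, false), (0, 27, false), (1, 27, false), (2, 24, false), (3, 13, false),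 (2, 4, false), (0, 6, false), (2, 27, false), (3, 27, false), (4, 26, false), (5, 26, false), (6, 14, false), (1, 27, false), (2, 27, false), (3, 26, false), (4, 15, false), (2, 25, false), (0, 27, false), (1, 26, false), (2, 16, false), (3, 0, false), (0, 6, false), (2, 27, false), (3, 26, false), (1, 27, false), (2, 26, false), (3, 3, false), (2, 22, false), (3, 22, false), (0, 27, false), (1, 24, false), (2, 24, false), (3, 14, false), (1, 4, false), (3, 22, false), (4, 22, false), (0, 6, false), (2, 27, false), (3, 26, false), (4, 26, false), (5, 24, false), (6, 24, false), (7, 15, false), (2, 25, false), (3, 25, false), (1, 26, false), (2, 26, false), (3, 23, false), (0, 26, false), (1, 26, false), (2, 24, false), (3, 23, false), (0, 6, false), (2, 26, false), (3, 26, false), (4, 24, false), (5, 24, false), (6, 16, false), (2, 5, false), (4, 25, false), (5, 25, false), (1, 27, false), (2, 27, false), (3, 26, false), (4, 26, false), (5, 23, false), (0, 27, false), (1, 27, false), (2, 26, false), (3, 26, false), (4, 24, false), (5, 23, false), (0, 6, false), (2, 27, false), (3, 27, false), (4, 26, false), (5, 26, false),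 (6, 24, false), (7, 24, false), (8, 16, false), (9, 9, false), (5, 22, false), (6, 22, false), (1, 27, false), (2, 27, false), (3, 26, false), (4, 24, false), (5, 24, false), (6, 15, false), (7, 10, false), (2, 25, false), (0, 27, false), (1, 26, false), (2, 23, false), (0, 6, false), (2, 27, false), (3, 26, false), (4, 24, false), (5, 23, false), (1, 27, false), (2, 26, false), (3, 24, false), (4, 24, false), (5, 16, false), (6, 11, false), (1, 25, false), (0, 26, false), (1, 23, false), (0, 6, false), (2, 26, false), (3, 24, false), (4, 23, false), (1, 26, false), (2, 24, false), (3, 24, false), (4, 16, false), (5, 11, false), (6, 9, false), (1, 22, false), (2, 22, false), (0, 24, false), (1, 24, false), (2, 15, false), (3, 10, false), (4, 10, false), (0, 4, false), (2, 22, false), (3, 22, false), (0, 6, false), (2, 26, false), (3, 26, false), (4, 24, false), (5, 24, false), (6, 15, false), (7, 10, false), (8, 10, false), (2, 5, false), (4, 25, false), (5, 25, false), (1, 27, false), (2, 27, false), (3, 26, false), (4, 26, false), (5, 23, false), (0, 27, false), (1, 27, false), (2, 26, false), (3, 26, false), (4, 24, false),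 (5, 23, false), (0, 6, false), (2, 27, false), (3, 27, false), (4, 26, false), (5, 26, false), (6, 24, false), (7, 24, false), (8, 16, false), (9, 11, false), (10, 11, false), (3, 25, false), (4, 25, false), (1, 27, false), (2, 26, false), (3, 26, false), (4, 23, false), (0, 27, false), (1, 26, false), (2, 26, false), (3, 24, false), (4, 23, false), (0, 6, false), (2, 27, false), (3, 26, false), (4, 26, false), (5, 24, false), (6, 24, false), (7, 16, false), (8, 11, false), (9, 11, false), (4, 22, false), (1, 27, false), (2, 26, false), (3, 24, false), (4, 14, false), (2, 22, false), (0, 27, false), (1, 24, false), (2, 15, false), (0, 6, false), (2, 23, false), (1, 24, false), (2, 16, false), (1, 5, false), (0, 27, false), (1, 27, false), (2, 23, false), (0, 6, false), (2, 27, false), (3, 27, false), (4, 24, false), (5, 16, false), (6, 9, false), (4, 4, false), (6, 22, false), (1, 27, false), (2, 27, false), (3, 26, false), (4, 26, false), (5, 24, false), (6, 15, false), (7, 10, false), (4, 22, false), (0, 27, false), (1, 27, false), (2, 26, false), (3, 24, false), (4, 15, false), (5, 10, false), (1, 25, false), (0, 6, false),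 (2, 27, false), (3, 26, false), (4, 23, false), (1, 27, false), (2, 26, false), (3, 24, false), (4, 16, false), (5, 11, false), (1, 25, false), (0, 26, false), (1, 23, false), (0, 6, false), (2, 26, false), (3, 24, false), (4, 16, false), (5, 11, false), (1, 26, false), (2, 24, false), (3, 17, false), (4, 12, false), (0, 14, false), (0, 4, false), (0, 6, false), (2, 26, false), (3, 26, false), (4, 15, false), (1, 26, false), (2, 15, false), (1, 5, false), (3, 25, false), (0, 27, false), (1, 27, false), (2, 26, false), (3, 16, false), (1, 25, false), (0, 6, false), (2, 27, false), (3, 26, false), (4, 16, false), (1, 27, false), (2, 26, false), (3, 17, false), (3, 1, false), (0, 27, false), (1, 15, false), (0, 6, false), (2, 27, false), (3, 17, false), (4, 15, false), (3, 4, false), (1, 27, false), (2, 26, false), (3, 26, false), (4, 15, false), (0, 27, false), (1, 26, false), (2, 26, false), (3, 17, false), (4, 15, false), (0, 25, false), (1, 25, false), (0, 6, false), (2, 26, false), (3, 26, false), (4, 16, false), (1, 26, false), (2, 26, false), (3, 17, false), (4, 16, false), (1, 5, false), (3, 25, false), (4, 25, false),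 (0, 27, false), (1, 27, false), (2, 26, false), (3, 26, false), (4, 16, false), (0, 6, false), (2, 27, false), (3, 27, false), (4, 26, false), (5, 26, false), (6, 17, false), (7, 16, false), (1, 27, false), (2, 27, false), (3, 26, false), (4, 26, false), (5, 17, false), (6, 17, false)]),
    ([0, 3], [4, 2, 2, 0], [(3, 24, true), (2, 26, true), (0, 6, true), (1, 24, true), (0, 26, true), (2, 22, true), (2, 22, false), (1, 5, false), (3, 25, false), (0, 27, false), (1, 27, false), (2, 26, false), (3, 23, false), (1, 25, false), (0, 6, false), (2, 27, false), (3, 26, false), (4, 23, false), (5, 9, false), (3, 22, false), (4, 10, false), (1, 27, false), (2, 24, false), (3, 12, false), (0, 27, false), (1, 24, false), (2, 12, false), (2, 1, false), (1, 4, false), (0, 6, false), (2, 27, false), (3, 26, false), (4, 26, false), (5, 14, false), (1, 27, false), (2, 26, false), (3, 15, false), (1, 25, false), (0, 26, false), (1, 16, false), (0, 5, false), (2, 25, false), (0, 6, false), (2, 27, false), (3, 27, false), (4, 26, false), (5, 16, false), (1, 27, false), (2, 27, false), (3, 26, false), (4, 17, false), (5, 0, false), (0, 27,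 false), (1, 27, false), (2, 7, false), (2, 4, false), (4, 10, false), (0, 6, false), (2, 27, false), (3, 27, false), (4, 26, false), (5, 26, false), (6, 12, false), (7, 7, false), (6, 1, false), (1, 27, false), (2, 27, false), (3, 26, false), (4, 15, false), (0, 27, false), (1, 27, false), (2, 26, false), (3, 17, false), (4, 15, false), (0, 6, false), (2, 27, false), (3, 27, false), (4, 26, false), (5, 17, false), (6, 17, false), (7, 7, false), (1, 27, false), (2, 27, false), (3, 15, false), (0, 27, false), (1, 27, false), (2, 17, false), (3, 15, false), (4, 10, false), (0, 6, false), (2, 27, false), (3, 27, false), (4, 17, false), (5, 17, false), (6, 12, false), (7, 7, false), (1, 27, false), (2, 27, false), (0, 27, false), (1, 27, false), (2, 3, false), (2, 4, false), (4, 22, false), (5, 22, false), (0, 6, false), (2, 27, false), (3, 27, false), (4, 26, false), (5, 26, false), (6, 24, false), (7, 24, false), (8, 14, false), (5, 22, false), (6, 22, false), (1, 27, false), (2, 27, false), (3, 26, false), (4, 24, false), (5, 24, false), (6, 15, false), (0, 27, false), (1, 27, false), (2, 26, false), (3, 24, false), (4, 24,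 false), (5, 17, false), (6, 14, false), (2, 22, false), (3, 22, false), (0, 6, false), (2, 27, false), (3, 27, false), (4, 24, false), (5, 24, false), (6, 15, false), (1, 27, false), (2, 27, false), (3, 24, false), (4, 24, false), (5, 17, false), (6, 15, false), (0, 27, false), (1, 23, false), (0, 6, false), (2, 27, false), (3, 24, false), (4, 23, false), (1, 27, false), (2, 24, false), (3, 24, false), (4, 16, false), (0, 27, false), (1, 24, false), (2, 24, false), (3, 17, false), (4, 16, false), (0, 6, false), (2, 23, false), (1, 24, false), (2, 23, false), (0, 24, false), (1, 24, false), (2, 16, false), (0, 6, false), (2, 24, false), (3, 24, false), (4, 17, false), (5, 16, false), (6, 9, false), (2, 4, false), (4, 22, false), (5, 22, false), (1, 26, false), (2, 26, false), (3, 24, false), (4, 24, false), (5, 15, false), (0, 26, false), (1, 26, false), (2, 24, false), (3, 24, false), (4, 17, false), (5, 15, false), (6, 10, false), (0, 5, false), (2, 25, false), (3, 25, false), (0, 6, false), (2, 27, false), (3, 27, false), (4, 26, false), (5, 26, false), (6, 23, false), (1, 27, false), (2, 27, false), (3, 26, false), (4,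 26, false), (5, 24, false), (6, 23, false), (0, 27, false), (1, 27, false), (2, 26, false), (3, 26, false), (4, 24, false), (5, 24, false), (6, 16, false), (0, 6, false), (2, 27, false), (3, 27, false), (4, 26, false), (5, 26, false), (6, 24, false), (7, 24, false), (8, 17, false), (9, 16, false), (10, 11, false), (3, 25, false), (4, 25, false), (1, 27, false), (2, 26, false), (3, 26, false), (4, 23, false), (0, 27, false), (1, 26, false), (2, 26, false), (3, 24, false), (4, 23, false), (0, 6, false), (2, 27, false), (3, 26, false), (4, 26, false), (5, 24, false), (6, 24, false), (7, 16, false), (1, 27, false), (2, 26, false), (3, 26, false), (4, 24, false), (5, 24, false), (6, 17, false), (7, 16, false), (8, 11, false), (9, 9, false), (3, 22, false), (4, 22, false), (0, 27, false), (1, 26, false), (2, 24, false), (3, 24, false), (4, 15, false), (0, 6, false), (2, 27, false), (3, 26, false), (4, 24, false), (5, 24, false), (6, 17, false), (7, 15, false), (8, 10, false), (9, 10, false), (2, 25, false), (1, 26, false), (2, 23, false), (0, 26, false), (1, 24, false), (2, 23, false), (0, 6, false), (2, 26, false), (3, 24, false),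 (4, 24, false), (5, 16, false), (1, 26, false), (2, 24, false), (3, 24, false), (4, 17, false), (5, 16, false), (6, 11, false), (7, 11, false), (1, 5, false), (3, 25, false), (0, 27, false), (1, 27, false), (2, 26, false), (3, 23, false), (0, 6, false), (2, 27, false), (3, 27, false), (4, 26, false), (5, 24, false), (6, 23, false), (1, 27, false), (2, 27, false), (3, 26, false), (4, 24, false), (5, 24, false), (6, 16, false), (0, 27, false), (1, 27, false), (2, 26, false), (3, 24, false), (4, 24, false), (5, 17, false), (6, 16, false), (7, 11, false), (8, 11, false), (0, 6, false), (2, 27, false), (3, 27, false), (4, 26, false), (5, 24, false), (6, 24, false), (7, 17, false), (8, 17, false), (9, 12, false), (10, 12, false)], [(7, 9, true), (6, 11, true), (5, 16, true), (4, 17, true), (3, 21, true), (2, 24, true), (1, 26, true), (0, 27, true), (5, 16, true), (4, 21, true), (3, 24, true), (2, 26, true), (1, 27, true), (5, 20, true), (4, 23, true), (3, 26, true), (2, 27, true), (0, 6, true), (1, 25, true), (7, 11, true), (6, 16, true), (5, 17, true), (4, 21, true), (3, 24, true), (2, 26, true), (1, 27, true), (0, 27, true),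 (6, 16, true), (5, 21, true), (4, 24, true), (3, 26, true), (2, 27, true), (1, 27, true), (6, 20, true), (5, 23, true), (4, 26, true), (3, 27, true), (2, 27, true), (0, 6, true), (2, 25, true), (0, 5, true), (5, 10, true), (4, 15, true), (3, 17, true), (2, 21, true), (1, 24, true), (0, 26, true), (4, 15, true), (3, 21, true), (2, 24, true), (1, 26, true), (4, 19, true), (3, 22, true), (8, 9, true), (7, 16, true), (6, 17, true), (5, 21, true), (4, 24, true), (3, 26, true), (2, 26, true), (0, 6, true), (4, 16, true), (3, 21, true), (2, 24, true), (1, 26, true), (0, 26, true), (4, 20, true), (3, 23, true), (2, 26, true), (1, 26, true), (3, 25, true), (2, 25, true), (8, 16, true), (7, 17, true), (6, 21, true), (5, 24, true), (4, 26, true), (3, 26, true), (2, 27, true), (0, 6, true), (5, 16, true), (4, 21, true), (3, 24, true), (2, 26, true), (1, 26, true), (0, 27, true), (5, 20, true), (4, 23, true), (3, 26, true), (2, 26, true), (1, 27, true), (4, 25, true), (3, 25, true), (9, 15, true), (8, 17, true), (7, 21, true), (6, 24, true), (5, 26, true), (4, 26, true), (3, 27, true), (2, 27, true), (0, 6, true), (6, 15, true), (5,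 21, true), (4, 24, true), (3, 26, true), (2, 26, true), (1, 27, true), (0, 27, true), (6, 19, true), (5, 22, true), (3, 4, true), (6, 14, true), (5, 17, true), (4, 21, true), (3, 24, true), (2, 27, true), (1, 27, true), (6, 15, true), (5, 21, true), (4, 24, true), (3, 27, true), (2, 27, true), (0, 6, true), (3, 19, true), (2, 22, true), (5, 14, true), (4, 21, true), (3, 24, true), (2, 26, true), (1, 27, true), (0, 27, true), (5, 19, true), (4, 22, true), (6, 18, true), (5, 23, true), (4, 26, true), (3, 26, true), (2, 27, true), (1, 27, true), (5, 25, true), (4, 25, true), (2, 5, true), (10, 7, true), (9, 12, true), (8, 17, true), (7, 17, true), (6, 21, true), (5, 24, true), (4, 24, true), (3, 26, true), (2, 26, true), (0, 6, true), (7, 10, true), (6, 15, true), (5, 17, true), (4, 21, true), (3, 24, true), (2, 24, true), (1, 26, true), (0, 26, true), (6, 15, true), (5, 21, true), (4, 24, true), (3, 24, true), (2, 26, true), (1, 26, true), (6, 19, true), (5, 22, true), (4, 22, true), (2, 4, true), (7, 7, true), (6, 17, true), (5, 17, true), (4, 21, true), (3, 24, true), (2, 24, true), (0, 6, true), (4, 15, true), (3, 17, true),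 (2, 21, true), (1, 24, true), (0, 24, true), (4, 15, true), (3, 21, true), (2, 24, true), (1, 24, true), (4, 19, true), (3, 22, true), (2, 22, true), (6, 1, true), (7, 7, true), (6, 12, true), (5, 21, true), (4, 24, true), (3, 24, true), (2, 26, true), (0, 6, true), (4, 10, true), (3, 19, true), (2, 22, true), (1, 22, true), (5, 7, true), (4, 21, true), (3, 24, true), (2, 24, true), (1, 26, true), (0, 26, true), (5, 19, true), (4, 22, true), (3, 22, true), (1, 4, true), (5, 0, true), (5, 0, false), (1, 4, false), (3, 22, false), (4, 22, false), (5, 19, false), (0, 26, false), (1, 26, false), (2, 24, false), (3, 24, false), (4, 21, false), (5, 7, false), (5, 1, false), (1, 22, false), (2, 22, false), (3, 19, false), (0, 6, false), (2, 26, false), (3, 24, false), (4, 24, false), (5, 21, false), (6, 15, false), (1, 26, false), (2, 24, false), (3, 24, false), (4, 21, false), (5, 17, false), (6, 15, false), (0, 26, false), (1, 24, false), (2, 24, false), (3, 21, false), (4, 17, false), (5, 17, false), (6, 7, false), (0, 22, false), (1, 22, false), (0, 4, false), (2, 22, false), (3, 22, false), (0, 5, false), (2, 25, false), (3,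 25, false), (0, 6, false), (2, 27, false), (3, 27, false), (4, 26, false), (5, 26, false), (6, 23, false), (1, 27, false), (2, 27, false), (3, 26, false), (4, 26, false), (5, 24, false), (6, 23, false), (2, 25, false), (3, 25, false), (0, 27, false), (1, 26, false), (2, 26, false), (3, 23, false), (0, 6, false), (2, 27, false), (3, 26, false), (4, 26, false), (5, 24, false), (6, 23, false), (1, 27, false), (2, 26, false), (3, 26, false), (4, 24, false), (5, 24, false), (6, 13, false), (3, 22, false), (4, 22, false), (0, 27, false), (1, 26, false), (2, 24, false), (3, 24, false), (4, 15, false), (1, 22, false), (2, 22, false), (0, 6, false), (2, 27, false), (3, 24, false), (4, 24, false), (5, 15, false), (1, 23, false), (0, 24, false), (1, 23, false), (0, 6, false), (2, 24, false), (3, 24, false), (4, 16, false), (2, 5, false), (1, 27, false), (2, 27, false), (3, 23, false), (0, 27, false), (1, 27, false), (2, 24, false), (3, 23, false), (0, 6, false), (2, 27, false), (3, 27, false), (4, 24, false), (5, 24, false), (6, 16, false), (1, 27, false), (2, 27, false), (3, 24, false), (4, 24, false), (5, 17, false), (6, 13, false),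 (7, 8, false), (3, 4, false), (5, 22, false), (0, 27, false), (1, 27, false), (2, 26, false), (3, 26, false), (4, 24, false), (5, 14, false), (3, 22, false), (0, 6, false), (2, 27, false), (3, 27, false), (4, 26, false), (5, 24, false), (6, 15, false), (1, 27, false), (2, 27, false), (3, 26, false), (4, 24, false), (5, 17, false), (6, 14, false), (3, 22, false), (0, 27, false), (1, 27, false), (2, 24, false), (3, 15, false), (0, 6, false), (2, 27, false), (3, 27, false), (4, 24, false), (5, 17, false), (6, 15, false), (1, 27, false), (2, 23, false), (0, 27, false), (1, 24, false), (2, 16, false), (0, 6, false), (2, 27, false), (3, 24, false), (4, 17, false), (5, 16, false), (1, 23, false), (0, 24, false), (1, 16, false), (0, 6, false), (2, 24, false), (3, 17, false), (4, 16, false), (5, 9, false), (2, 4, false), (4, 22, false), (1, 26, false), (2, 26, false), (3, 24, false), (4, 15, false), (0, 26, false), (1, 26, false), (2, 24, false), (3, 17, false), (4, 15, false), (5, 10, false), (0, 5, false), (2, 25, false), (3, 25, false), (0, 6, false), (2, 27, false), (3, 27, false), (4, 26, false), (5, 26, false), (6, 23, false),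 (1, 27, false), (2, 27, false), (3, 26, false), (4, 26, false), (5, 24, false), (6, 16, false), (0, 27, false), (1, 27, false), (2, 26, false), (3, 26, false), (4, 24, false), (5, 17, false), (6, 16, false), (7, 11, false), (3, 22, false), (0, 6, false), (2, 27, false), (3, 27, false), (4, 26, false), (5, 24, false), (6, 15, false), (1, 27, false), (2, 27, false), (3, 26, false), (4, 24, false), (5, 17, false), (6, 7, false), (3, 22, false), (0, 27, false), (1, 27, false), (2, 24, false), (3, 15, false), (4, 10, false), (2, 4, false), (4, 22, false), (0, 6, false), (2, 27, false), (3, 27, false), (4, 26, false), (5, 26, false), (6, 24, false), (7, 15, false), (8, 10, false), (1, 27, false), (2, 27, false), (3, 26, false), (4, 26, false), (5, 24, false), (6, 17, false), (7, 12, false), (0, 27, false), (1, 27, false), (2, 26, false), (3, 26, false), (4, 24, false), (5, 17, false), (6, 12, false), (3, 22, false), (0, 6, false), (2, 27, false), (3, 27, false), (4, 26, false), (5, 24, false), (6, 7, false), (4, 22, false), (5, 10, false), (4, 4, false), (6, 22, false), (7, 10, false), (1, 27, false), (2, 27, false), (3, 26, false),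 (4, 26, false), (5, 24, false), (6, 12, false), (0, 27, false), (1, 27, false), (2, 26, false), (3, 26, false), (4, 24, false), (5, 12, false)]),
    ([1, 2], [6, 5, 4, 3, 1], [(9, 12, true), (8, 12, true), (7, 17, true), (6, 17, true), (5, 21, true), (4, 21, true), (3, 26, true), (2, 26, true), (1, 27, true), (0, 27, true), (10, 11, true), (9, 11, true), (8, 16, true), (7, 17, true), (6, 21, true), (5, 21, true), (4, 26, true), (3, 26, true), (2, 27, true), (1, 27, true), (8, 16, true), (7, 21, true), (6, 21, true), (5, 26, true), (4, 26, true), (3, 27, true), (2, 27, true), (0, 6, true), (5, 20, true), (4, 20, true), (3, 25, true), (2, 25, true), (0, 5, true), (7, 11, true), (6, 11, true), (5, 16, true), (4, 17, true), (3, 21, true), (2, 21, true), (1, 26, true), (0, 26, true), (5, 16, true), (4, 21, true), (3, 21, true), (2, 26, true), (1, 26, true), (5, 20, true), (4, 20, true), (3, 25, true), (2, 25, true), (10, 10, true), (9, 10, true), (8, 15, true), (7, 17, true), (6, 21, true), (5, 21, true), (4, 26, true), (3, 26, true), (2, 27, true), (0, 6, true), (5, 15, true), (4, 21, true), (3, 21, true), (2, 26, true), (1,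 26, true), (0, 27, true), (5, 19, true), (4, 19, true), (2, 4, true), (7, 9, true), (6, 11, true), (5, 16, true), (4, 17, true), (3, 21, true), (2, 21, true), (1, 27, true), (5, 16, true), (4, 21, true), (3, 21, true), (2, 27, true), (0, 6, true), (2, 20, true), (1, 20, true), (6, 11, true), (5, 16, true), (4, 17, true), (3, 21, true), (2, 21, true), (1, 27, true), (0, 27, true), (5, 16, true), (4, 21, true), (3, 21, true), (2, 27, true), (1, 27, true), (5, 20, true), (4, 20, true), (2, 5, true), (6, 10, true), (5, 15, true), (4, 17, true), (3, 21, true), (2, 21, true), (0, 6, true), (2, 15, true), (1, 21, true), (0, 21, true), (2, 19, true), (1, 19, true), (6, 9, true), (5, 16, true), (4, 17, true), (3, 21, true), (2, 21, true), (1, 26, true), (5, 16, true), (4, 21, true), (3, 21, true), (2, 26, true), (0, 6, true), (2, 20, true), (1, 20, true), (0, 25, true), (5, 16, true), (4, 17, true), (3, 21, true), (2, 21, true), (1, 26, true), (0, 27, true), (5, 16, true), (4, 21, true), (3, 21, true), (2, 26, true), (1, 27, true), (5, 20, true), (4, 20, true), (3, 25, true), (8, 15, true), (7, 17, true), (6, 21, true), (5, 21, true),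 (4, 26, true), (3, 27, true), (2, 27, true), (0, 6, true), (5, 15, true), (4, 21, true), (3, 21, true), (2, 26, true), (1, 27, true), (0, 27, true), (5, 19, true), (4, 19, true), (8, 14, true), (7, 17, true), (6, 21, true), (5, 21, true), (4, 26, true), (3, 26, true), (2, 27, true), (1, 27, true), (8, 15, true), (7, 21, true), (6, 21, true), (5, 26, true), (4, 26, true), (3, 27, true), (2, 27, true), (0, 6, true), (5, 19, true), (4, 19, true), (2, 4, true), (4, 14, true), (3, 21, true), (2, 21, true), (1, 27, true), (0, 27, true), (4, 19, true), (3, 19, true), (5, 18, true), (4, 20, true), (3, 25, true), (1, 5, true), (2, 18, true), (1, 25, true), (9, 7, true), (8, 12, true), (7, 17, true), (6, 17, true), (5, 21, true), (4, 21, true), (3, 24, true), (2, 26, true), (1, 27, true), (9, 10, true), (8, 15, true), (7, 17, true), (6, 21, true), (5, 21, true), (4, 24, true), (3, 26, true), (2, 27, true), (0, 6, true), (5, 15, true), (4, 21, true), (3, 21, true), (2, 24, true), (1, 26, true), (0, 27, true), (5, 19, true), (4, 19, true), (3, 22, true), (9, 7, true), (8, 17, true), (7, 17, true), (6, 21, true), (5, 21, true), (4, 24,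 true), (3, 26, true), (2, 26, true), (1, 27, true), (9, 15, true), (8, 17, true), (7, 21, true), (6, 21, true), (5, 24, true), (4, 26, true), (3, 26, true), (2, 27, true), (0, 6, true), (6, 15, true), (5, 21, true), (4, 21, true), (3, 24, true), (2, 26, true), (1, 26, true), (0, 27, true), (6, 19, true), (5, 19, true), (4, 22, true), (2, 4, true), (5, 1, true), (6, 7, true), (5, 12, true), (4, 21, true), (3, 21, true), (2, 24, true), (1, 27, true), (6, 10, true), (5, 19, true), (4, 19, true), (3, 22, true), (7, 7, true), (6, 21, true), (5, 21, true), (4, 24, true), (3, 26, true), (2, 27, true), (0, 6, true), (4, 19, true), (3, 19, true), (2, 22, true), (7, 0, true), (7, 0, false), (2, 22, false), (3, 19, false), (4, 19, false), (0, 6, false), (2, 27, false), (3, 26, false), (4, 24, false), (5, 21, false), (6, 21, false), (7, 7, false), (7, 1, false), (3, 22, false), (4, 19, false), (5, 19, false), (1, 27, false), (2, 24, false), (3, 21, false), (4, 21, false), (5, 15, false), (0, 27, false), (1, 24, false), (2, 21, false), (3, 21, false), (4, 17, false), (5, 15, false), (0, 6, false), (2, 27, false), (3, 24, false), (4,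 21, false), (5, 21, false), (6, 17, false), (7, 17, false), (8, 7, false), (3, 4, false), (5, 22, false), (6, 19, false), (4, 22, false), (5, 19, false), (2, 25, false), (1, 26, false), (2, 23, false), (3, 20, false), (1, 5, false), (3, 25, false), (0, 27, false), (1, 27, false), (2, 26, false), (3, 23, false), (4, 20, false), (0, 6, false), (2, 27, false), (3, 27, false), (4, 26, false), (5, 24, false), (6, 21, false), (7, 13, false), (4, 22, false), (5, 19, false), (1, 27, false), (2, 27, false), (3, 24, false), (4, 21, false), (5, 15, false), (3, 4, false), (5, 22, false), (6, 19, false), (0, 27, false), (1, 27, false), (2, 26, false), (3, 26, false), (4, 24, false), (5, 21, false), (6, 15, false), (1, 25, false), (2, 25, false), (0, 6, false), (2, 27, false), (3, 26, false), (4, 26, false), (5, 23, false), (6, 20, false), (1, 27, false), (2, 26, false), (3, 26, false), (4, 24, false), (5, 21, false), (6, 16, false), (1, 25, false), (2, 25, false), (0, 26, false), (1, 26, false), (2, 23, false), (3, 20, false), (0, 6, false), (2, 26, false), (3, 26, false), (4, 24, false), (5, 21, false), (6, 16, false), (1, 26, false),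 (2, 26, false), (3, 24, false), (4, 21, false), (5, 17, false), (6, 13, false), (7, 8, false), (2, 22, false), (1, 22, false), (1, 5, false), (0, 27, false), (1, 27, false), (2, 23, false), (0, 6, false), (2, 27, false), (3, 23, false), (1, 27, false), (2, 24, false), (3, 13, false), (2, 4, false), (4, 22, false), (0, 27, false), (1, 26, false), (2, 26, false), (3, 24, false), (4, 15, false), (2, 22, false), (0, 6, false), (2, 27, false), (3, 26, false), (4, 24, false), (5, 15, false), (2, 25, false), (1, 26, false), (2, 23, false), (0, 26, false), (1, 24, false), (2, 16, false), (0, 5, false), (2, 25, false), (0, 6, false), (2, 27, false), (3, 27, false), (4, 26, false), (5, 23, false), (1, 27, false), (2, 27, false), (3, 26, false), (4, 24, false), (5, 16, false), (0, 27, false), (1, 27, false), (2, 26, false), (3, 24, false), (4, 17, false), (5, 13, false), (6, 8, false), (2, 22, false), (0, 6, false), (2, 27, false), (3, 27, false), (4, 24, false), (5, 15, false), (1, 27, false), (2, 27, false), (3, 24, false), (4, 17, false), (5, 15, false), (6, 10, false), (3, 4, false), (5, 22, false), (0, 27, false), (1, 27, false),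 (2, 26, false), (3, 26, false), (4, 24, false), (5, 15, false), (0, 6, false), (2, 27, false), (3, 27, false), (4, 26, false), (5, 26, false), (6, 24, false), (7, 17, false), (8, 15, false), (9, 10, false), (3, 25, false), (4, 25, false), (1, 27, false), (2, 26, false), (3, 26, false), (4, 23, false), (0, 27, false), (1, 26, false), (2, 26, false), (3, 24, false), (4, 16, false), (0, 6, false), (2, 27, false), (3, 26, false), (4, 26, false), (5, 24, false), (6, 17, false), (7, 16, false), (8, 11, false), (2, 25, false), (3, 25, false), (1, 26, false), (2, 26, false), (3, 23, false), (0, 26, false), (1, 26, false), (2, 24, false), (3, 16, false), (0, 6, false), (2, 26, false), (3, 26, false), (4, 24, false), (5, 17, false), (6, 16, false), (7, 11, false), (1, 26, false), (2, 14, false), (0, 15, false), (0, 6, false), (2, 17, false), (3, 14, false), (2, 4, false), (1, 26, false), (2, 26, false), (3, 15, false), (0, 26, false), (1, 26, false), (2, 17, false), (3, 15, false), (0, 6, false), (2, 26, false), (3, 26, false), (4, 17, false), (5, 17, false), (1, 26, false), (2, 26, false), (3, 17, false), (4, 17, false), (5, 0, false),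 (0, 26, false), (1, 15, false), (0, 6, false), (2, 26, false), (3, 17, false), (4, 7, false), (1, 7, false), (0, 6, false), (2, 3, false), (2, 4, false), (4, 22, false), (5, 22, false), (2, 5, false), (4, 25, false), (5, 25, false), (1, 27, false), (2, 27, false), (3, 26, false), (4, 26, false), (5, 23, false), (0, 27, false), (1, 27, false), (2, 26, false), (3, 26, false), (4, 24, false), (5, 23, false), (1, 25, false), (2, 25, false), (0, 6, false), (2, 27, false), (3, 26, false), (4, 26, false), (5, 23, false), (1, 27, false), (2, 26, false), (3, 26, false), (4, 24, false), (5, 23, false), (6, 9, false), (3, 22, false), (1, 25, false), (0, 26, false), (1, 23, false), (0, 5, false), (2, 25, false), (0, 6, false), (2, 27, false), (3, 27, false), (4, 26, false), (5, 23, false), (6, 9, false), (4, 22, false), (5, 10, false), (1, 27, false), (2, 23, false), (3, 11, false), (0, 23, false), (1, 11, false), (0, 6, false), (2, 24, false), (3, 12, false), (1, 24, false), (2, 12, false), (2, 0, false), (2, 1, false), (1, 4, false), (3, 22, false), (0, 26, false), (1, 26, false), (2, 24, false), (3, 15, false), (0, 6, false), (2,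 26, false), (3, 26, false), (4, 24, false), (5, 17, false), (6, 15, false), (1, 26, false), (2, 26, false), (3, 24, false), (4, 17, false), (5, 17, false), (6, 7, false), (2, 22, false), (0, 26, false), (1, 24, false), (2, 15, false), (0, 6, false), (2, 26, false), (3, 24, false), (4, 17, false), (5, 15, false), (6, 10, false), (1, 26, false), (2, 24, false), (3, 17, false), (4, 17, false), (5, 12, false), (6, 7, false), (1, 22, false), (0, 24, false), (1, 15, false), (0, 6, false), (2, 24, false), (3, 17, false), (4, 7, false), (2, 4, false), (4, 22, false), (1, 26, false), (2, 26, false), (3, 24, false), (4, 15, false), (5, 10, false), (0, 26, false), (1, 26, false), (2, 24, false), (3, 17, false), (4, 12, false), (5, 7, false), (0, 6, false), (2, 26, false), (3, 14, false), (1, 15, false), (1, 5, false), (0, 27, false), (1, 27, false), (2, 16, false), (0, 6, false), (2, 27, false), (3, 16, false), (4, 9, false), (3, 4, false), (1, 27, false), (2, 26, false), (3, 26, false), (4, 15, false), (5, 10, false), (1, 25, false), (2, 25, false), (0, 26, false), (1, 26, false), (2, 16, false), (3, 11, false), (0, 5, false), (2,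 25, false), (3, 25, false), (0, 6, false), (2, 27, false), (3, 27, false), (4, 26, false), (5, 26, false), (6, 16, false), (7, 11, false), (8, 9, false), (1, 27, false), (2, 27, false), (3, 26, false), (4, 26, false), (0, 27, false), (1, 27, false), (2, 26, false), (3, 26, false), (4, 3, false), (3, 22, false), (4, 22, false), (0, 6, false), (2, 27, false), (3, 27, false), (4, 26, false), (5, 24, false), (6, 24, false), (7, 14, false), (4, 22, false), (5, 22, false), (1, 27, false), (2, 27, false), (3, 24, false), (4, 24, false), (5, 15, false), (0, 27, false), (1, 23, false), (0, 6, false), (2, 27, false), (3, 24, false), (4, 23, false), (1, 27, false), (2, 24, false), (3, 24, false), (4, 16, false), (0, 23, false), (0, 6, false), (2, 24, false), (3, 23, false), (1, 24, false), (2, 24, false), (3, 16, false), (4, 9, false), (1, 4, false), (3, 22, false), (4, 22, false), (0, 26, false), (1, 26, false), (2, 24, false), (3, 24, false), (4, 15, false), (5, 10, false), (0, 5, false), (2, 25, false), (3, 25, false), (0, 6, false), (2, 27, false), (3, 27, false), (4, 26, false), (5, 26, false), (6, 23, false), (1, 27, false),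 (2, 27, false), (3, 26, false), (4, 26, false), (5, 24, false), (6, 23, false), (0, 27, false), (1, 27, false), (2, 26, false), (3, 26, false), (4, 24, false), (5, 24, false), (6, 16, false), (7, 11, false), (1, 25, false), (2, 25, false), (0, 6, false), (2, 27, false), (3, 26, false), (4, 26, false), (5, 23, false), (1, 27, false), (2, 26, false), (3, 26, false), (4, 24, false), (5, 23, false), (0, 27, false), (1, 26, false), (2, 26, false), (3, 24, false), (4, 24, false), (5, 16, false), (6, 11, false), (7, 9, false), (2, 22, false), (3, 22, false), (0, 6, false), (2, 27, false), (3, 26, false), (4, 24, false), (5, 24, false), (6, 15, false), (7, 10, false), (8, 10, false), (2, 25, false), (1, 26, false), (2, 23, false), (0, 26, false), (1, 24, false), (2, 23, false), (0, 6, false), (2, 26, false), (3, 24, false), (4, 24, false), (5, 16, false), (6, 11, false), (7, 11, false), (2, 5, false), (4, 25, false), (1, 27, false), (2, 27, false), (3, 26, false), (4, 23, false), (0, 27, false), (1, 27, false), (2, 26, false), (3, 24, false), (4, 23, false), (0, 6, false), (2, 27, false), (3, 27, false), (4, 26, false), (5, 24,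 false), (6, 24, false), (7, 16, false), (8, 11, false), (9, 11, false)], [(9, 12, true), (8, 17, true), (7, 17, true), (6, 24, true), (5, 24, true), (4, 26, true), (3, 27, true), (2, 27, true), (0, 6, true), (7, 12, true), (6, 17, true), (5, 17, true), (4, 24, true), (3, 24, true), (2, 26, true), (1, 27, true), (0, 27, true), (8, 10, true), (7, 15, true), (6, 17, true), (5, 24, true), (4, 24, true), (3, 26, true), (2, 27, true), (1, 27, true), (7, 15, true), (6, 24, true), (5, 24, true), (4, 26, true), (3, 27, true), (2, 27, true), (0, 6, true), (4, 22, true), (3, 22, true), (8, 10, true), (7, 15, true), (6, 17, true), (5, 24, true), (4, 24, true), (3, 26, true), (2, 26, true), (1, 27, true), (0, 27, true), (7, 15, true), (6, 24, true), (5, 24, true), (4, 26, true), (3, 26, true), (2, 27, true), (1, 27, true), (7, 22, true), (6, 22, true), (4, 4, true), (8, 7, true), (7, 17, true), (6, 17, true), (5, 24, true), (4, 24, true), (3, 27, true), (2, 27, true), (0, 6, true), (5, 15, true), (4, 17, true), (3, 24, true), (2, 24, true), (1, 27, true), (0, 27, true), (5, 15, true), (4, 24, true), (3, 24, true), (2, 27, true), (1,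 27, true), (5, 22, true), (4, 22, true), (7, 1, true), (7, 1, false), (4, 22, false), (1, 27, false), (2, 27, false), (3, 24, false), (4, 14, false), (3, 4, false), (0, 27, false), (1, 27, false), (2, 26, false), (3, 26, false), (4, 14, false), (0, 6, false), (2, 27, false), (3, 27, false), (4, 26, false), (5, 15, false), (3, 25, false), (1, 27, false), (2, 26, false), (3, 16, false), (1, 25, false), (0, 26, false), (1, 16, false), (0, 6, false), (2, 26, false), (3, 17, false), (1, 26, false), (2, 17, false), (3, 0, false), (0, 7, false), (0, 4, false), (2, 10, false), (0, 6, false), (2, 26, false), (3, 26, false), (4, 12, false), (5, 7, false), (4, 1, false), (1, 26, false), (2, 15, false), (0, 26, false), (1, 17, false), (2, 15, false), (0, 6, false), (2, 26, false), (3, 17, false), (4, 17, false), (5, 7, false), (1, 15, false), (0, 17, false), (1, 15, false), (2, 10, false), (0, 6, false), (2, 17, false), (3, 17, false), (4, 12, false), (5, 7, false), (0, 3, false), (0, 4, false), (2, 22, false), (3, 22, false), (0, 6, false), (2, 26, false), (3, 26, false), (4, 24, false), (5, 24, false), (6, 14, false), (3, 22, false),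 (4, 22, false), (1, 26, false), (2, 24, false), (3, 24, false), (4, 15, false), (0, 26, false), (1, 24, false), (2, 24, false), (3, 17, false), (4, 14, false), (0, 22, false), (1, 22, false), (0, 6, false), (2, 24, false), (3, 24, false), (4, 15, false), (1, 24, false), (2, 24, false), (3, 17, false), (4, 15, false), (1, 5, false), (0, 27, false), (1, 27, false), (2, 23, false), (0, 6, false), (2, 27, false), (3, 27, false), (4, 24, false), (5, 23, false), (1, 27, false), (2, 27, false), (3, 24, false), (4, 24, false), (5, 16, false), (0, 27, false), (1, 27, false), (2, 24, false), (3, 24, false), (4, 17, false), (5, 16, false), (0, 6, false), (2, 27, false), (3, 23, false), (1, 27, false), (2, 24, false), (3, 23, false), (0, 27, false), (1, 24, false), (2, 24, false), (3, 16, false), (0, 6, false), (2, 27, false), (3, 24, false), (4, 24, false), (5, 17, false), (6, 16, false), (7, 9, false), (3, 4, false), (5, 22, false), (6, 22, false), (1, 27, false), (2, 26, false), (3, 26, false), (4, 24, false), (5, 24, false), (6, 15, false), (0, 27, false), (1, 26, false), (2, 26, false), (3, 24, false), (4, 24, false), (5, 17, false),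 (6, 15, false), (7, 10, false), (0, 25, false), (1, 25, false), (0, 6, false), (2, 26, false), (3, 26, false), (4, 23, false), (1, 26, false), (2, 26, false), (3, 24, false), (4, 23, false), (0, 26, false), (1, 26, false), (2, 24, false), (3, 24, false), (4, 16, false), (0, 6, false), (2, 26, false), (3, 26, false), (4, 24, false), (5, 24, false), (6, 17, false), (7, 16, false), (8, 11, false), (2, 5, false), (4, 25, false), (5, 25, false), (1, 27, false), (2, 27, false), (3, 26, false), (4, 26, false), (5, 23, false), (0, 27, false), (1, 27, false), (2, 26, false), (3, 26, false), (4, 24, false), (5, 23, false), (0, 6, false), (2, 27, false), (3, 27, false), (4, 26, false), (5, 26, false), (6, 24, false), (7, 24, false), (8, 16, false), (1, 27, false), (2, 27, false), (3, 26, false), (4, 26, false), (5, 24, false), (6, 24, false), (7, 17, false), (8, 16, false), (9, 11, false), (10, 9, false), (4, 22, false), (0, 27, false), (1, 27, false), (2, 26, false), (3, 24, false), (4, 14, false), (2, 22, false), (0, 6, false), (2, 27, false), (3, 27, false), (4, 24, false), (5, 15, false), (1, 27, false), (2, 27, false), (3, 24,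 false), (4, 17, false), (5, 14, false), (3, 4, false), (5, 22, false), (0, 27, false), (1, 27, false), (2, 26, false), (3, 26, false), (4, 24, false), (5, 15, false), (0, 6, false), (2, 27, false), (3, 27, false), (4, 26, false), (5, 26, false), (6, 24, false), (7, 17, false), (8, 15, false), (3, 25, false), (4, 25, false), (1, 27, false), (2, 26, false), (3, 26, false), (4, 23, false), (0, 27, false), (1, 26, false), (2, 26, false), (3, 24, false), (4, 16, false), (0, 6, false), (2, 27, false), (3, 26, false), (4, 26, false), (5, 24, false), (6, 17, false), (7, 16, false), (2, 25, false), (3, 25, false), (1, 26, false), (2, 26, false), (3, 23, false), (0, 26, false), (1, 26, false), (2, 24, false), (3, 16, false), (0, 6, false), (2, 26, false), (3, 26, false), (4, 24, false), (5, 17, false), (6, 16, false), (7, 9, false), (3, 22, false), (1, 26, false), (2, 24, false), (3, 15, false), (0, 26, false), (1, 24, false), (2, 17, false), (3, 15, false), (4, 10, false), (0, 22, false), (0, 6, false), (2, 24, false), (3, 15, false), (1, 24, false), (2, 17, false), (3, 15, false), (4, 10, false), (1, 5, false), (0, 27, false), (1,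 27, false), (2, 23, false), (0, 6, false), (2, 27, false), (3, 27, false), (4, 24, false), (5, 16, false), (1, 27, false), (2, 27, false), (3, 24, false), (4, 17, false), (5, 16, false), (6, 11, false), (0, 27, false), (1, 23, false), (0, 6, false), (2, 27, false), (3, 24, false), (4, 16, false), (1, 27, false), (2, 24, false), (3, 17, false), (4, 16, false), (5, 11, false), (2, 4, false), (0, 27, false), (1, 26, false), (2, 26, false), (3, 14, false), (0, 6, false), (2, 27, false), (3, 26, false), (4, 15, false), (1, 27, false), (2, 26, false), (3, 17, false), (4, 14, false), (0, 27, false), (1, 15, false), (0, 6, false), (2, 27, false), (3, 17, false), (4, 15, false), (3, 4, false), (1, 27, false), (2, 26, false), (3, 26, false), (4, 15, false), (0, 27, false), (1, 26, false), (2, 26, false), (3, 17, false), (4, 15, false), (0, 25, false), (1, 25, false), (0, 6, false), (2, 26, false), (3, 26, false), (4, 16, false), (1, 26, false), (2, 26, false), (3, 17, false), (4, 16, false), (1, 5, false), (3, 25, false), (4, 25, false), (0, 27, false), (1, 27, false), (2, 26, false), (3, 26, false), (4, 16, false), (0, 6, false),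 (2, 27, false), (3, 27, false), (4, 26, false), (5, 26, false), (6, 17, false), (7, 16, false), (1, 27, false), (2, 27, false), (3, 26, false), (4, 26, false), (5, 17, false), (6, 17, false)])]

/-- The certificate. -/
def threeCo3TailCert : Schur.Tails.Cert where
  p := 3
  q := 3
  n := 7
  rels := [
    ([0, 0, 0], []),
    ([1, 1, 1], []),
    ([2, 2, 2], []),
    ([3, 3, 3], [6, 6]),
    ([4, 4, 4], []),
    ([5, 5, 5], []),
    ([6, 6, 6], []),
    ([0, 1], [6, 4, 1, 0]),
    ([0, 2], [2, 0]),
    ([0, 3], [5, 5, 4, 3, 0]),
    ([0, 4], [4, 0]),
    ([0, 5], [5, 0]),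
    ([0, 6], [6, 0]),
    ([1, 2], [6, 5, 5, 4, 4, 2, 1]),
    ([1, 3], [6, 4, 3, 1]),
    ([1, 4], [6, 4, 1]),
    ([1, 5], [6, 5, 1]),
    ([1, 6], [6, 1]),
    ([2, 3], [5, 3, 2]),
    ([2, 4], [4, 2]),
    ([2, 5], [5, 2]),
    ([2, 6], [6, 2]),
    ([3, 4], [4, 3]),
    ([3, 5], [6, 5, 3]),
    ([3, 6], [6, 3]),
    ([4, 5], [5, 4]),
    ([4, 6], [6, 4]),
    ([5, 6], [6, 5])]
  overlaps := threeCo3TailOverlaps
  fus := [threeCo3TailFus0, threeCo3TailFus1, threeCo3TailFus2]
  mu := [[], [], [], [], [0, 0, 0, 1, 0, 0, 0, 1], [0, 0, 0, 1, 0, 0, 0, 1, 0, 2], [0, 0, 0, 2]]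
  combos := [
    ([(0, 1), (2, 2), (3, 2), (7, 1), (8, 1), (9, 1), (10, 1), (12, 1), (13, 2), (14, 1), (15, 2), (20, 1), (22, 1), (23, 1), (24, 2), (25, 2), (26, 2), (28, 2), (29, 2), (30, 1)], 0),
    ([(11, 2), (15, 1)], 0),
    ([(0, 2), (2, 2), (7, 2), (8, 2), (9, 1), (13, 1), (14, 2), (15, 1), (20, 2), (21, 2), (22, 2), (23, 2), (24, 1), (25, 1), (26, 1), (28, 1), (29, 1), (30, 2)], 0),
    ([], 0),
    ([(2, 2), (3, 1), (9, 1), (10, 2), (11, 1), (12, 2)], 0),
    ([(2, 2), (3, 1), (9, 1), (10, 2), (11, 1), (12, 2), (13, 1)], 0),
    ([(2, 1), (3, 2), (9, 2), (10, 1), (11, 1), (12, 1)], 0),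
    ([], 0),
    ([(1, 1), (2, 2), (3, 2), (4, 2), (5, 2), (6, 1), (10, 2), (11, 1), (13, 2), (17, 1), (18, 1), (19, 1), (20, 1), (22, 1), (23, 2), (25, 2), (26, 2), (27, 2), (28, 2), (29, 2), (30, 1)], 0),
    ([], 0),
    ([(1, 1), (2, 2), (3, 1), (5, 1), (6, 1), (7, 1), (8, 1), (10, 1), (11, 1), (12, 2), (13, 2), (14, 1), (15, 1), (17, 2), (18, 2), (19, 1), (21, 2), (22, 1), (23, 1), (24, 2), (25, 2), (26, 2), (27, 2), (28, 2), (29, 2), (30, 1)], 0),
    ([(1, 1), (2, 2), (3, 1), (5, 1), (6, 1), (7, 2), (10, 2), (11, 1), (12, 2), (13, 2), (14, 2), (15, 2), (20, 1), (21, 1), (22, 1), (23, 1), (24, 2), (25, 2), (26, 2), (27, 2), (28, 2), (29, 2), (30, 1)], 0),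
    ([(2, 2)], 0),
    ([(3, 2), (4, 1), (5, 2), (6, 2), (7, 1), (8, 1), (9, 2), (10, 1), (11, 1), (15, 1), (16, 1), (17, 1), (18, 2), (19, 1), (20, 1), (21, 1), (22, 2), (23, 2), (24, 1), (25, 1), (26, 2), (27, 2), (28, 2), (29, 2), (30, 1)], 0),
    ([(1, 2), (2, 2), (4, 2), (5, 2), (7, 2), (8, 2), (9, 2), (10, 2), (11, 1), (12, 2), (14, 2), (15, 1), (16, 1), (17, 2), (19, 2), (21, 1), (22, 2), (23, 2), (24, 1), (25, 1), (26, 1), (27, 1), (28, 1), (29, 1), (30, 2)], 0),
    ([(0, 1), (2, 1), (3, 1), (4, 2), (6, 2), (9, 2), (10, 1), (12, 2), (13, 1), (14, 2), (17, 2), (18, 2), (19, 1), (20, 1), (21, 1), (22, 2), (23, 2), (24, 1), (25, 1), (26, 1), (28, 1), (29, 1), (30, 2)], 0),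
    ([(2, 2), (6, 2), (7, 2), (9, 1), (10, 1), (11, 2), (12, 2), (14, 2), (15, 2), (17, 1), (18, 1), (19, 1), (20, 1), (21, 1), (22, 2), (23, 2), (24, 1), (25, 1), (26, 1), (28, 1), (29, 1), (30, 2)], 0),
    ([(2, 2), (3, 1), (4, 1), (9, 1), (10, 2)], 0),
    ([(0, 2), (1, 1), (5, 2), (6, 2), (11, 1), (16, 1), (17, 1), (18, 2), (19, 1), (21, 2), (23, 1), (24, 1), (26, 1), (27, 2), (28, 1), (29, 2), (31, 1)], 0),
    ([(0, 2), (1, 2), (2, 2), (3, 2), (5, 2), (6, 2), (11, 2), (12, 1), (13, 1), (17, 2), (18, 2), (19, 1), (20, 1), (22, 2), (23, 2), (24, 1), (25, 1), (26, 1), (27, 1), (28, 1), (29, 1), (30, 2)], 0),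
    ([(0, 2), (1, 1), (3, 1), (6, 2), (7, 1), (10, 1), (11, 1), (12, 2), (13, 2), (14, 1), (15, 1), (17, 2), (18, 2), (19, 1), (21, 2), (22, 1), (23, 1), (24, 2), (25, 2), (26, 2), (27, 2), (28, 2), (29, 2), (30, 1)], 0),
    ([(2, 1), (3, 2), (8, 1)], 0),
    ([(0, 1), (1, 1), (2, 2), (3, 2), (4, 2), (5, 2), (6, 2), (8, 2), (9, 2), (11, 1), (12, 2), (13, 2), (14, 2), (17, 2), (18, 2), (19, 2), (21, 1), (22, 2), (23, 2), (24, 1), (25, 1), (26, 1), (27, 1), (28, 1), (29, 1), (30, 2)], 0),
    ([(2, 1), (3, 2), (4, 2), (5, 2), (9, 2), (10, 2), (15, 2), (19, 1), (22, 1), (23, 1), (24, 2), (25, 2), (26, 2), (27, 1), (28, 2), (29, 2), (30, 1)], 0),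
    ([(9, 1)], 0),
    ([(6, 1)], 0),
    ([(4, 1)], 0),
    ([(2, 1), (3, 2), (4, 1), (6, 1)], 0)]
  tau := []
  tauCombo := []

/-- The program. -/
def threeCo3TailOps0 : List CfsgLib.Rigid.Op := [
  ⟨true, 0, 0, [3982335,3423233,3363842,6558724,5732360,6901776,8258592,3981376,2717824,5293312,5292544,3264512,4196352,4198400,4202496,4210688,4227072,4259840,4325376,4456448,524288,5242880,4194304]⟩,
  ⟨false, 0, 3, [1,2,4,8,16,32,64,128,256,512,1024,2048,4096,8192,16384,32768,65536,131072,262144,524288,1048576,2097152,4194304]⟩,
  ⟨false, 1, 1, [2288234,2997414,1804390,341090,6766116,6761029,3157590,6341988,5764672,2616834,4698144,6969344,3563520,5826560,4202496,131072,2097152,3610624,1009664,3264512,4210688,262144,4194304]⟩,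
  ⟨false, 0, 5, [6915284,3713356,542515,6209339,2894775,3540106,7572307,2990792,4201343,586756,4497343,3610624,1009664,3264512,16384,4456448,6531072,5085184,2019328,2048,32768,4718592,4194304]⟩,
  ⟨false, 1, 6, [5868128,430305,6850139,961502,2150014,3842504,7972638,838081,1840878,6689121,4275903,7757824,4202496,6291456,1009664,4210688,6531072,6213632,4227072,2422784,8232960,65536,4194304]⟩,
  ⟨false, 0, 7, [213823,3285442,5012297,5441603,3622140,2538607,2201148,5815170,2952668,1312061,6550145,5203968,16384,2336768,2019328,32768,6617088,8232960,65536,6969344,5826560,4325376,4194304]⟩,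
  ⟨true, 8, 0, [2938442,3079256,3310389,5288030,5346032,7864194,3498522,1302738,2070162,4059800,234689,5085184,1009664,5826560,4096,32768,262144,6291456,2775040,1781760,6213632,7458816,4194304]⟩,
  ⟨false, 9, 2, [3799845,6989558,3127860,6327468,8231995,5459679,6802644,6709857,7963115,5805846,7194238,6932106,3882592,7283520,7864059,426657,4497343,2929808,5652405,114407,4061051,7512823,5951155]⟩,
  ⟨false, 0, 0, [2109445,5443593,8165358,5193760,4868031,239486,4524288,7654911,2618366,3473407,6742014,8192,16384,32768,65536,131072,262144,524288,5242880,6291456,2336768,6617088,4194304]⟩,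
  ⟨false, 10, 11, [3210950,7166734,4458027,4314346,1585522,2216979,5777880,8146645,4337109,2755152,3628909,7283520,7864059,426657,4497343,2929808,5652405,114407,6765000,2649156,1765043,3339265,5951155]⟩,
  ⟨false, 1, 12, [6002024,3196332,6023386,15817,4724552,5909066,6183828,813670,517671,5423892,3534323,7976976,7945179,4761874,4275903,807444,6622071,6181999,6888832,1105200,4086287,5166099,6646287]⟩,
  ⟨false, 10, 13, [7559667,5272677,994628,7423235,2875087,7972845,2906248,1020860,3847120,4833776,4327937,1474391,234689,3517465,4325376,1175760,4711918,1434543,5083138,2418362,5609986,2670301,994082]⟩,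
  ⟨false, 10, 14, [6100584,778103,6651586,6414397,1058585,5367506,445305,2393692,7201801,3698187,8310938,2571908,1024,1359649,7764515,2112304,1684130,3758435,2017897,5048815,1299049,7859008,2208099]⟩,
  ⟨true, 15, 0, [3369470,1537099,4442750,4265127,6499486,3857188,7227144,6274352,6091663,5643759,4096,113360,3302154,1237751,6890364,238602,4060438,827568,2670301,3314193,609600,7512823,6255349]⟩,
  ⟨false, 0, 1, [7742126,6891674,8267850,4213514,5315624,1024160,3270818,3314312,5470752,1542818,5631351,6969344,890880,7757824,2019328,5826560,4196352,8192,4227072,131072,524288,2097152,4194304]⟩,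
  ⟨false, 2, 1, [7175056,1410012,5424239,3585148,2564276,1762775,8084620,802390,4119055,1420911,6292447,7061486,3935659,7747555,6715626,1097967,6989100,2378687,5056559,6487766,374615,7467041,5373520]⟩,
  ⟨false, 17, 18, [4884002,7902656,4510721,5204509,4509258,1026859,664767,6730639,8240086,1121955,5767156,2223269,6569025,5346635,682266,6523902,8125623,1949686,7371220,3193095,3363585,7096846,8192863]⟩,
  ⟨false, 16, 19, [1656542,4903396,1855914,718482,7527301,7256337,805296,5864356,2973004,1054658,2445577,2317604,7957252,892982,3012103,6935054,879599,3819114,2189892,6444244,2653689,1888799,2228738]⟩,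
  ⟨false, 10, 20, [6544208,3759435,6304189,5006025,4955794,5629560,7899213,5488054,7866322,2167259,799748,5717175,3083679,1143082,879599,5900382,890880,1988665,5752719,7755403,5993740,1660021,7088007]⟩,
  ⟨false, 10, 21, [5801417,7284987,3902903,1432688,2304244,7800108,6971546,2990142,5136675,3891506,4317240,4024292,3611780,8023665,890880,1848756,4678822,1335749,2001057,4403959,7749334,430055,4627283]⟩,
  ⟨false, 20, 22, [5207868,7606066,2722424,3085398,5243810,7403593,2954181,7790864,7036846,3829434,7371220,6647168,1615104,7446398,8237393,5164164,5242880,5519776,3477058,7824743,1980616,4060438,1738115]⟩,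
  ⟨false, 20, 23, [1962505,5911155,3385466,1894780,4859428,1762823,4621194,1803068,7325317,6278848,8005762,4238658,2512720,8152154,1009664,6060242,688123,6691920,4730358,362080,5855123,6701612,1793426]⟩,
  ⟨true, 24, 0, [261988,1532473,6204524,7625574,4275717,7262520,5974224,2270280,218093,4282213,4362376,2203704,4497343,1740205,1755277,5099556,962531,4748292,8208834,1720125,5646529,7467041,8092733]⟩,
  ⟨false, 20, 0, [6965541,7929500,6431055,367705,5644862,6224379,2485235,6510946,233349,6109943,7074745,5990662,3121716,1045509,4968460,3107309,1590376,223302,4216534,2653689,4116509,5165700,2228738]⟩,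
  ⟨false, 1, 26, [5564466,3175141,3748347,7324627,6610680,2781918,6993418,7907676,7834931,8091455,3555219,1810808,3873584,6989878,2988448,8386722,7462080,5754937,6890364,2379735,1175267,6179888,4569372]⟩,
  ⟨false, 0, 27, [4356196,2232885,5618678,3985497,6340080,837052,8172564,6103736,5840281,7358078,89894,5028592,3882592,6459283,7859008,3645764,4144767,6563954,5523719,4212817,3694022,1192032,6193720]⟩,
  ⟨false, 1, 28, [1935396,2570855,8065912,5873303,7527173,7612148,1697653,5995476,5180374,5326829,1228093,5243392,4503572,7126863,2787344,4885860,1787578,1002072,5056559,8059666,7766313,3339265,1929872]⟩,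
  ⟨true, 29, 0, [8326430,3481610,4067197,7106695,3609812,1541117,385078,7738002,7204430,7501758,6374144,5682589,1590376,846988,4468384,6082208,100947,5729384,2970876,4708897,4780850,2988448,3837068]⟩,
  ⟨false, 18, 1, [5778193,6764256,3041791,1728241,1940261,4851306,4752800,4823608,4481515,6566062,6090746,7071149,7458271,6528346,1755277,409087,371108,7205883,6715626,3890044,1889919,5523719,5373520]⟩,
  ⟨false, 19, 31, [7110058,1509250,2671014,8026410,4417538,2397360,7171360,330794,3504360,5155575,3955850,8232960,2775040,131072,7458816,5085184,4718592,4198400,3563520,6291456,4210688,2019328,4194304]⟩,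
  ⟨false, 30, 32, [5227652,960925,7730135,6971056,4668684,7569711,7948448,5634882,4687418,5556690,4930053,6602940,3666108,5729384,6211621,4437847,8214189,2279652,5738538,1512748,8299052,7714287,3837068]⟩,
  ⟨false, 25, 33, [3365152,1062532,1492835,2735287,5529693,280476,4139462,7888447,4335539,667366,4468384,485640,3339265,3414471,4678822,8312328,890880,445816,1206565,2934796,2196216,5536856,5447695]⟩,
  ⟨false, 34, 21, [2319942,1418437,6802728,4800719,5111514,6834765,4235921,3023939,331894,3208029,6989100,3401213,5292544,1210756,5242880,1821248,7893544,2217296,3817918,8087359,2999332,8125623,4994484]⟩,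
  ⟨true, 35, 0, [7146550,3142796,1973460,3844306,735949,7539345,6013197,2815494,3015991,2698499,7019261,802313,2001057,4725689,310603,2998344,4317240,4499952,5075088,5378179,30287,6418832,13903]⟩,
  ⟨false, 36, 33, [7115448,7626199,3346111,7439595,7539146,7502602,2309886,793871,4887715,1282023,5767156,7583760,2106048,7444496,8310938,1966512,7829256,1849892,1927038,4482795,2174998,3611780,3381264]⟩,
  ⟨false, 37, 34, [6866013,780645,512589,4808700,8300586,5295557,304145,5496779,4554292,264015,1493368,3263104,4096,1484734,2371665,1411105,6548989,6068194,2525446,4193919,1191937,2445577,5388289]⟩,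
  ⟨false, 37, 38, [648057,628669,2650189,5241964,724149,7083421,3840600,139797,7558736,7010315,2775040,7184456,2106048,8038416,4678822,3698802,1055256,5401471,5652405,5950167,8794,5536856,4194906]⟩,
  ⟨true, 39, 0, [7113549,863403,1294180,561661,3786094,6013411,2882931,127384,5803037,4307151,3625611,5969323,3339265,4603268,8005762,3747867,5165700,4289676,5652405,8331268,1576438,2988448,1457540]⟩,
  ⟨false, 10, 10, [2279959,3405353,3124807,5305399,2243196,4465211,3181770,2086114,5146680,3107732,1298885,4532245,1755277,4079440,5166099,2640137,4227072,99328,3295312,6590545,5191127,5997294,8140113]⟩,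
  ⟨false, 10, 41, [2048125,4028391,6493626,8235983,4026995,2508491,4608822,1941470,57618,2703656,7467041,2446937,1632256,6241160,2670301,5100035,6048786,3136352,6785410,6309114,2485010,2607539,2222866]⟩,
  ⟨false, 20, 42, [7229993,5214654,8234143,3317535,7367792,1252673,1710971,3557474,6083346,1509868,6084351,3942917,2158646,4668736,6130799,1218696,5943584,2713868,6090746,4128997,6244928,5652405,8265732]⟩,
  ⟨false, 34, 43, [6171724,7333194,2829563,8137473,7989857,1389436,1298116,659341,4922109,113583,131455,5742563,4060438,7518281,5992532,4056585,6749282,8152154,6569025,2532567,3300392,6701612,3959898]⟩,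
  ⟨true, 44, 0, [3431699,3833548,4100012,1853448,6203816,944801,638640,2942001,1078159,7101277,2339480,2876939,980225,613026,3342470,5482421,896548,6680141,8040081,2878474,7814649,2445321,6940171]⟩,
  ⟨false, 10, 1, [8300072,4673369,6246432,4255938,6319765,2499404,2135928,7182814,6415329,7969464,310603,6830770,7960399,32659,5157196,7283763,1787578,6418643,7864059,1986828,848134,6765000,5951155]⟩,
  ⟨false, 20, 46, [5942894,5232414,4475132,855753,2501270,3013121,961828,1418061,6666392,1412753,4327937,1363401,7458271,1723533,7458816,3000217,6326818,7809634,3551193,4088436,527529,890880,1498281]⟩,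
  ⟨true, 47, 0, [7523763,2932355,1257706,6042881,7377079,7649812,4861454,333187,5115915,1689734,5165700,7852842,5872708,507380,4268257,5195121,7371220,6885461,4662592,7755403,6265418,890880,7717450]⟩,
  ⟨false, 0, 2, [6597104,6420427,5198385,5526732,4098392,8288749,7888619,4692130,7920998,3463214,8376393,848766,5651422,7825989,5132382,6317089,1732876,6523902,7096846,5242957,2702109,8125623,8192863]⟩,
  ⟨false, 32, 49, [6319440,2895005,54255,7023884,1694944,7045236,6797509,5410584,6962134,6450110,2988448,7769219,3583001,4844507,6701612,5879184,6166628,5703849,1037817,5498886,6641467,1189788,8185241]⟩,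
  ⟨false, 1, 49, [3972673,3076239,536130,4485617,7979728,8204450,4978127,4327769,538685,2191805,819331,7172025,8214189,7012466,5450664,5389379,4138160,5967613,3666108,2702502,2353826,2295675,3745470]⟩,
  ⟨false, 50, 51, [8060889,2921090,6875416,2558017,7803491,6542486,3377065,4357660,2354272,1327615,1787578,3905778,2371665,913922,7714623,4264418,6749282,3591182,8005762,3044609,7139322,816649,1808626]⟩,
  ⟨false, 48, 52, [1525845,1724792,1225266,1893462,5848873,3281862,4354966,1871674,1752145,5105685,5712641,3905778,6090746,2373690,896548,329931,2949192,2680841,6374144,3732979,1421930,5738538,3539186]⟩,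
  ⟨false, 45, 53, [2158635,5344263,4209978,4183571,7157124,6616463,3289928,7819611,403760,2320953,6749282,2658920,112629,344829,5438315,7067624,7096846,6599298,929906,5698090,1674450,7945179,182888]⟩,
  ⟨false, 40, 54, [2670404,6786383,3245799,4999611,5583102,5172476,3830019,1142519,3206022,170487,682266,6318108,1732876,1888462,2342416,7205916,6569025,7145459,5797869,3239469,6450531,6179888,6319132]⟩,
  ⟨false, 34, 34, [4862552,521764,1618432,5472523,7658972,4878272,7396243,8051963,6735135,1225855,4202496,439088,3873584,6484481,501719,7489696,7893544,6997080,3188101,7044355,1306681,2158646,5372472]⟩,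
  ⟨false, 34, 56, [3609463,8053644,8347612,5231911,1244494,4612382,7186843,5855735,6567834,6832281,6765000,7647495,8376393,506241,7957252,1837018,7096846,1191937,6617088,4409340,6245054,4060438,3455239]⟩,
  ⟨false, 34, 57, [5020009,941068,4298964,5928121,595045,914317,1902971,4314136,674576,5909256,3344441,3867440,4038656,7294519,2970876,3774899,6067046,1244006,2949906,3874248,672064,2949192,7293495]⟩,
  ⟨false, 34, 58, [4548185,3260554,1057737,7314474,4815540,3150815,3287166,7081194,7758290,680622,3342470,4869440,788550,5843688,8310938,5690436,7714623,7008008,7019261,998528,1077159,7458816,1901640]⟩,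
  ⟨false, 37, 59, [6263192,544387,3901152,5967503,7451966,6912534,1879307,2179874,4801053,797220,3551193,5831164,5166099,1886738,5943584,1362179,5623007,4278570,7074745,4959362,426985,1192032,656234]⟩,
  ⟨false, 34, 60, [5034441,7992447,2196991,7871618,2760419,3691375,6184726,4389043,6781162,1409023,5767156,807108,5450664,7307336,6749282,7108716,1615104,6381501,6622071,1400231,8105714,1756188,6350920]⟩,
  ⟨true, 61, 0, [5387657,7164709,3986696,2460848,6826532,4508596,8167195,5393429,3847216,3929960,4138160,4477937,5954565,183527,4678822,7205916,2445577,7027740,4362376,5056045,2526806,6895643,1844252]⟩,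
  ⟨false, 37, 22, [6787496,7598744,7306173,907344,4402726,8258777,2710824,4282106,5884909,652395,2445321,5742705,5992532,767554,6548989,688500,2371665,603319,1787578,2060522,5890648,1349985,7257397]⟩,
  ⟨true, 63, 0, [1732365,1723844,1967307,4558937,15200,3738552,6193170,3598416,5822810,716054,5493317,3686890,1873870,8071934,3835707,737931,5997294,5684417,7092497,8131345,4624451,5132382,2762959]⟩,
  ⟨false, 1, 11, [130418,6784210,2207149,7186512,6375103,6062845,1348880,3062719,6092541,649966,7074745,1781760,1009664,8232960,7458816,4198400,16384,4259840,262144,1048576,2336768,2775040,4194304]⟩,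
  ⟨false, 0, 65, [5501668,3398052,3505317,5494944,43649,4694533,7973408,8312961,5445114,5417507,1755277,7757824,2019328,5826560,4196352,8192,4227072,131072,4718592,6291456,2422784,7804928,4194304]⟩,
  ⟨false, 20, 66, [3829800,1793561,7686804,1344226,1508772,4536141,4199184,3275341,4539081,5910372,4295720,3004411,7096846,193076,89894,892982,4968460,3819114,4216534,4116509,3017284,5954565,2228738]⟩,
  ⟨true, 67, 0, [2568463,870865,2956015,2081751,2045326,1664414,7092256,6770378,4197959,7860544,7467041,872348,4307220,2410885,2022386,4078293,2970876,1640969,2001057,1027107,4725145,2339480,6910941]⟩,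
  ⟨false, 68, 50, [4157286,488273,6034854,6001364,6624700,555929,3624899,5106811,3651391,911251,5450664,715016,2990610,5565270,1037817,1138173,4060438,4205056,4196352,3932337,5479361,7960399,6726406]⟩,
  ⟨false, 64, 69, [924849,2809094,6333626,7797256,1053605,2257112,175472,6487706,6707218,3559504,3844682,4540535,6622071,8055048,3533440,1633192,1730819,6532813,1206565,875928,7217423,6067046,7923831]⟩,
  ⟨false, 62, 70, [6928881,3091401,1274460,5412532,357931,8259033,1423645,6199758,8896,7280453,5075088,2826213,262144,442188,2999069,3534750,310603,7436031,6084351,6911743,1036669,6989100,2193151]⟩,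
  ⟨false, 71, 71, [6528832,1594402,7035395,8044886,4157797,3735484,6749196,5590068,2263258,4362178,6617088,3451952,6084351,4716503,100947,2094622,816649,8028560,1206565,1844754,1765889,1192032,5514770]⟩,
  ⟨false, 71, 72, [1250324,5454367,8140573,6855246,1783325,8111429,5991297,5595632,3590189,573044,2525446,1568507,1206565,2821106,2295675,1898457,234689,3285013,8005762,3470342,781318,1549322,8188934]⟩,
  ⟨false, 71, 73, [2453038,2087713,8156101,2896942,2006941,6468486,6974663,7192966,2998263,2811566,6655490,1405028,8005762,2968303,4711918,7855642,2870680,7143524,4096,5380196,5773412,2445577,1710180]⟩,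
  ⟨false, 55, 74, [6381404,6438340,1056635,7287751,5810982,5072175,6458674,704888,3028994,1937369,6326818,4071941,688123,4532245,2525446,5199595,8040081,7741109,1732876,5244036,814426,1037817,67253]⟩,
  ⟨false, 71, 75, [4119723,394586,7882222,7926297,7534467,997052,4022076,3953176,2685107,7799013,7019261,3326218,1732876,2818148,6655490,4954117,5536856,3930895,7957252,3030144,1434543,1730819,7994127]⟩,
  ⟨false, 55, 76, [5962973,4945803,765685,1480538,2090725,1642228,3582951,7804733,139569,7457723,1787578,279518,5652405,2294455,6326818,5696812,3563520,2914360,5631351,2595888,5484832,2022386,2167767]⟩,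
  ⟨true, 77, 0, [6148675,4604927,7657963,4762160,4866341,1822739,523523,1702955,5388384,4550856,7125132,7162124,1228093,4387416,788550,1937614,430055,1869901,3487943,6782918,1980604,7893544,1050830]⟩,
  ⟨false, 55, 58, [4069462,2760565,6034620,2054755,2682406,3384017,1908169,4422402,7929181,6089657,2775040,3005119,4202496,7359569,2999069,783691,817545,3607908,5482097,2341135,7687499,2445577,8004939]⟩,
  ⟨true, 79, 0, [7163421,7451796,2935828,3491698,7473415,3581210,663145,6550588,1531757,3721562,5720328,5536605,6785410,4766018,7859008,3538927,310603,2004727,3487943,1325604,6797416,5157196,4761922]⟩,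
  ⟨false, 34, 10, [346182,3684213,5379211,7974784,4224757,7928243,6374859,6462711,7511150,5045949,234689,1075903,2525446,7442770,5527551,3087408,3295312,8058493,6701612,4870690,1073664,4327937,2320953]⟩,
  ⟨false, 20, 81, [7889782,3086295,7084432,8379872,146952,6068329,1708556,1357120,317652,864400,5157196,3885084,3583001,1204636,7074745,771255,8310938,5561448,6292447,1766024,1588234,3295312,3617173]⟩,
  ⟨false, 37, 82, [5414641,6061478,3907511,6586477,773148,4874580,543658,5093793,4261888,55432,1194184,388161,3321877,4540554,5482097,4107014,5943584,4962921,6025424,2494752,1405685,5720328,6004849]⟩,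
  ⟨true, 83, 0, [3206650,3707272,3378948,2930298,4501550,4259231,2650575,892580,3472529,1646419,823332,1336958,819331,3172433,3477058,836193,2445321,666695,2922004,5623671,2883578,5651422,3225463]⟩,
  ⟨false, 71, 0, [4880224,3069065,7646252,1106120,1418713,3008664,4562661,6502178,8008248,1476457,5165700,2455295,2607539,832994,1349985,2476980,5242880,8232960,4718592,1036669,4969427,2512720,2193151]⟩,
  ⟨false, 0, 85, [340287,6977810,294823,2376080,6407245,5691696,4079050,8351300,2247567,5091026,7512823,5431809,6067046,603076,1228093,4724887,2097152,5826560,5242880,264954,5724249,4468384,1761793]⟩,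
  ⟨false, 71, 86, [2552602,8245061,1018925,4226539,2610831,5203414,7589369,2139706,2872752,4931175,819331,4713478,1194184,5772274,8164366,6885476,6989100,7494999,3057538,5582851,3049026,5438315,1043462]⟩,
  ⟨true, 87, 0, [4573045,6320392,4354440,1464323,923283,1148697,7945158,5067484,4426282,392032,1009664,2587938,4317240,6546224,100947,4234887,7074745,2846681,3563520,1973798,798954,4216534,6166054]⟩,
  ⟨false, 52, 18, [4219748,5213672,2589788,3623025,1428756,5097317,7963151,4845111,2411517,4298864,4138160,6771976,6765000,7769219,2445321,5498886,5712641,4253746,6622071,4868480,2293245,1684130,8185241]⟩,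
  ⟨false, 88, 89, [5292888,3032047,5921007,4128788,3624852,8035333,5466004,6075488,7092228,7687246,1756188,7498962,817545,987335,929906,3485930,6550145,2391138,2339480,4409438,5875637,2236247,4505803]⟩,
  ⟨false, 84, 90, [5148919,5239938,1742074,6086179,300074,575013,7012536,3647273,349282,6755439,962531,164240,4317240,4503987,5976064,3792877,6895643,3907800,3533440,7621138,8208334,3321877,2443299]⟩,
  ⟨false, 80, 91, [3685358,6008274,106096,3811960,4346206,5147082,1709765,7155640,3908001,2097507,2999069,3001166,3625611,2086962,929906,1785136,3563520,7666225,1927038,5012597,4611787,2022386,7797582]⟩,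
  ⟨false, 78, 92, [5544588,7200922,1789801,6926470,7831962,7130823,6926542,6831709,4822645,3012324,100947,3862213,5797869,3130983,962531,3233635,65536,2545601,5482097,6332145,3061459,2097152,1698238]⟩,
  ⟨false, 55, 71, [4774070,4148714,6184533,2836323,6042591,7866389,6664301,1066017,3495629,6234265,788550,5820799,5797869,4319464,3084586,5545808,5292544,1548432,3534323,4498398,7352301,1756188,1417711]⟩,
  ⟨false, 55, 94, [3795056,7037005,2175231,4592416,1251665,4276771,4772793,3008977,5192418,6183733,6622071,4517762,2025723,2037808,7462080,1753352,5165700,416743,7859008,2039883,2649574,3321877,4777924]⟩,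
  ⟨false, 71, 95, [5503264,4323021,5997274,1697443,2904363,6260749,2481279,4848004,4039780,401503,7125132,1825592,5954565,1824478,7462080,6113674,5992532,2133011,2236247,4765716,4693672,6090746,2917461]⟩,
  ⟨true, 96, 0, [298618,871393,1790917,914379,7638363,2969106,2278607,6739846,2185013,4236122,1493368,4780850,688123,2878723,100947,1869724,3835707,4758274,2775040,1341401,796171,4060438,413457]⟩,
  ⟨false, 55, 34, [1227419,5035100,1762286,8277149,6236585,8012739,7160873,1398234,7086260,1825089,1298885,7530656,3873584,8064816,896548,4772138,1755277,4994088,3625611,6600892,2725847,3563520,2430804]⟩,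
  ⟨false, 37, 98, [317924,7284987,5943775,7017572,729162,7196429,7123006,5327466,1211489,3696846,3188101,2431369,3339265,7778597,3625611,670596,4718592,7283520,4730358,6948097,4399436,1587522,1110793]⟩,
  ⟨false, 37, 99, [716387,7598744,4830218,4077868,7885845,1664879,2464546,3122347,782544,3624593,3628909,5573085,4096,794902,4730358,1857275,7864059,4027783,112629,2957748,159013,5940151,5527291]⟩,
  ⟨true, 100, 0, [2291746,1817647,1043344,4247288,8302708,6862767,7891573,3072896,1031494,8245769,2371665,3930895,4096,290697,3339265,5772555,6531072,7555469,3625611,5654415,3381126,3563520,1492879]⟩,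
  ⟨false, 71, 20, [5056472,208874,5157322,5517366,4792529,8365825,1487876,1823820,4221754,5087090,2097152,4036533,5631351,4548606,3583001,3927168,7084192,6607136,501719,209413,4300371,4934208,6025055]⟩,
  ⟨false, 10, 102, [7773631,8049750,90612,972155,3474688,3586821,5742485,5971131,3029953,7520848,7512823,7591607,2342416,1478590,8164366,5963211,1587522,2023167,1814673,7528456,3569427,1194184,3399351]⟩,
  ⟨true, 103, 0, [2293718,1109888,3723074,7757136,4057367,5658099,5218927,2300754,5792872,989075,7125132,963043,4503572,197563,8164366,1791124,1587522,3405857,4930053,996811,4199936,2607539,5159395]⟩,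
  ⟨false, 34, 0, [2735263,1861510,3267155,5508915,2648123,2613615,1280371,4765884,4138110,6495472,1194184,6411278,6765000,1328297,3012103,6207503,5631351,4278570,8382467,2196216,482391,4304872,5447695]⟩,
  ⟨false, 20, 105, [419862,6092085,1754349,6268594,3706594,4819982,3882500,2993350,2363444,4180529,1730819,7852842,890880,2474570,1632256,553755,1787578,2228709,6025424,2873902,7701066,4268257,7717450]⟩,
  ⟨false, 55, 106, [6901130,1807436,4891835,7784584,679380,2656633,6015768,3495993,3543092,4447104,2022386,942185,1755277,4153744,6418832,7358656,5242880,8350446,823332,294315,2023167,5623007,4022511]⟩,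
  ⟨true, 107, 0, [4859864,152875,5126956,3369579,4781619,2572856,7999916,7570787,835335,2459608,2870680,14752,3342470,372244,823332,2050193,5752719,7084308,3844682,8100681,4227252,310603,4292788]⟩,
  ⟨false, 89, 7, [137969,2947762,5677979,3287084,535262,3630556,7296814,6974289,3592346,7823429,2970876,3249417,682266,6641467,788550,5879184,3188101,2110310,3083679,8184217,1746869,5712641,8185241]⟩,
  ⟨false, 108, 109, [5677302,5972052,2361036,7839776,6679989,5715514,5960150,671914,3676802,7600882,1927038,6393163,7074745,104780,7829256,1620746,929906,661141,5720328,1866509,5717175,6749282,3651221]⟩,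
  ⟨false, 104, 110, [4268019,6544586,2979718,499690,3557907,4673025,3345852,5481877,1966286,3444783,2236247,6004712,2525446,1060916,4138160,2931768,310603,2037808,3295312,694707,630503,5953586,3974688]⟩,
  ⟨false, 101, 111, [6361533,4753268,7257517,7822993,7521790,4415997,7512352,4130391,2350013,7632588,1632256,2664371,688123,3015748,7125132,4333051,8040081,7311323,7957252,4779286,483860,6090746,642551]⟩,
  ⟨false, 97, 112, [470857,1693184,5685543,7102506,5484387,7380281,4486326,7296277,6072061,3737026,6701612,6226963,5954565,6561727,1024,2236615,5527551,6318108,89894,3743748,6119085,2097152,4445708]⟩,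
  ⟨false, 113, 93, [5561996,35317,5441190,3276984,3940866,1759193,1709092,5120990,4174425,194035,1660021,1614333,8174802,3011081,493717,5906562,5527551,1449985,5482097,1332611,6145060,2097152,1745026]⟩,
  ⟨false, 93, 114, [992689,1522680,5155698,3317908,5398090,2211663,4621299,3059829,5395137,342325,2445321,2460670,4327937,4894052,3121716,5967613,430055,2136968,262144,3313857,5018768,2097152,7581728]⟩,
  ⟨true, 115, 0, [4560359,9640,3311785,2020476,3195314,2211663,1966552,6782010,372132,6295195,6701612,5921589,5738538,412934,4497343,3391590,7096846,4227083,262144,8322986,3160130,2097152,4149314]⟩,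
  ⟨false, 93, 73, [3953247,4990308,6805596,5365851,6542887,104400,3364188,1558307,3439234,5855888,6418832,1466536,7957252,5170736,4196352,8063128,1730819,4190986,4317240,6454280,1752242,4295720,1772359]⟩,
  ⟨false, 113, 117, [1408985,4684520,6041792,6923920,4780948,5752046,272194,2596812,5391605,7593208,4930053,2873902,5997294,2199550,1888799,3934473,8214189,8252420,2025723,6840255,7602872,1055256,6728382]⟩,
  ⟨true, 118, 0, [7302666,134789,2999715,4528878,5506050,850837,4663565,5797453,6925280,7870736,7084192,2122860,5720328,2514328,5976064,5542096,3555219,1263770,2019328,5370256,4074136,1192032,2048220]⟩,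
  ⟨false, 113, 38, [3458418,2982288,878391,1715718,8032231,2327401,7709272,5706304,6138351,6460103,1493368,162129,5954565,1484734,1009664,180432,4304872,2064584,3121716,3056708,318018,1587522,1575005]⟩,
  ⟨false, 37, 120, [2154616,3337167,354743,7892898,6827126,5708027,1180012,7606669,7173704,3272710,2775040,3594577,7462080,8038416,5159971,2146613,8058376,5495301,4930053,5927200,6996042,5940151,6865205]⟩,
  ⟨true, 121, 0, [633275,1605900,1762317,1138940,114854,5174913,1716484,5090232,2846542,695042,2970876,6064400,4678822,3404545,2990610,1047058,4295720,3458091,2189892,5718864,4253777,5623007,1557328]⟩,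
  ⟨false, 71, 10, [5425214,5172832,3249988,7941063,5105776,3602227,4303306,2104818,4007362,7165000,4227072,4159362,1684130,7834547,5940151,4095293,6785410,8309387,5751727,5918919,1470883,819331,4492085]⟩,
  ⟨false, 93, 123, [1101505,1037411,7439160,2372163,7601807,7623136,7396997,8234074,3619355,6062891,2670301,226302,5056559,4652284,5940151,2989862,682266,1221696,5751727,292287,5686771,5450664,7408704]⟩,
  ⟨true, 124, 0, [5924910,2126817,6094484,5512355,6044465,608280,674929,1831527,825449,6683258,5953586,5154207,1590376,6148169,6888832,3554369,7714623,6031460,5157196,240680,6647855,2001057,5275245]⟩,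
  ⟨false, 1, 0, [5552803,919243,3833707,2846228,5466192,6678207,2851140,3712272,822207,6647108,5997294,3610624,5976064,5203968,4038656,3264512,4096,4210688,65536,4456448,1048576,6531072,4194304]⟩,
  ⟨false, 10, 126, [3455245,8133472,6551901,875369,6576441,4528626,2900629,5148964,5048394,1566218,2607539,2341372,5943584,1343487,3533440,4294665,3882592,2961480,4497343,848134,4061051,4202496,5951155]⟩,
  ⟨false, 20, 127, [605456,5250939,4612376,7708475,4912618,8055201,5028383,1340933,222367,188346,5652405,6754678,823332,6753449,3873584,7755403,6420171,2159472,2670301,527529,1787049,3121716,1498281]⟩,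
  ⟨true, 128, 0, [1776934,1290430,7480437,745855,2165668,2056458,5749511,986430,2876410,432195,1587522,5975445,6326818,264954,5752719,193863,6715626,7496661,4468384,4916410,61733,7804928,6555941]⟩,
  ⟨false, 109, 0, [8199752,2837709,3311243,6994129,474237,1362432,276912,8130046,1739028,1273832,5493317,7769219,1684130,7400927,2445321,4997148,6084351,5498886,1024,1746869,2870936,3551193,8185241]⟩,
  ⟨false, 129, 130, [224830,408264,1384303,7704315,8136725,5003419,6358919,7869460,1606323,6684237,8208834,6548547,5159971,2259472,7503806,6597150,5767156,1794643,1587522,5404111,1957436,4325376,4215379]⟩,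
  ⟨false, 125, 131, [1120186,3788889,4902939,4059477,3097562,4936004,3534062,6976308,98493,4588768,4678822,102924,5631351,1666480,4196352,3432074,2988448,3291232,4934208,7374898,3582228,816649,6861168]⟩,
  ⟨false, 122, 132, [4316160,6680501,1110112,5741903,344188,7648496,2088399,826151,5162735,3560958,7462080,527727,2236247,1071367,4934208,6391000,6179888,6109591,5523719,402423,5259527,1055256,1067271]⟩,
  ⟨false, 119, 133, [4057691,1281576,740416,8279414,316996,2340371,3383927,3240045,5149601,342325,962531,3820518,5797869,3881264,3121716,886515,3321877,2914360,7200996,4026889,5461128,2097152,7106616]⟩,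
  ⟨false, 116, 134, [3698382,5000848,3453649,5776792,920117,1960453,1128063,4147066,494082,512,4930053,4149242,5652405,6117549,16384,952869,7698943,1723533,1228093,2654325,3098618,2097152,8341498]⟩,
  ⟨false, 135, 5, [5121165,4492619,2955033,6753077,7636870,6107266,4303011,2446195,7482120,3548072,1755277,310093,5943015,1334535,2236247,1723533,2097152,1818618,3628909,2280341,8325114,1228093,8341498]⟩,
  ⟨false, 37, 41, [7538791,6756110,5635760,6197016,8023533,2413021,430091,2979229,7072810,7119257,3188101,7814571,4718592,3130983,682266,2723861,2988448,4098380,5720328,1795350,3862213,5997294,835868]⟩,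
  ⟨false, 10, 137, [6034294,4458067,4513759,2263093,7987259,1941920,7661211,3877811,180967,2966735,4362376,323163,5992532,4276308,5383884,6414916,7957252,679874,6166628,6322276,3635367,2607539,7198272]⟩,
  ⟨false, 136, 138, [718666,5993809,2119542,6123927,7875970,5163633,1651118,2518515,768517,3911717,6701612,7048206,7200996,6643857,896548,3893256,4968460,3917860,6418832,3416581,5689476,5690244,5755012]⟩,
  ⟨false, 135, 34, [1254080,6614348,1913420,6313101,5529693,234812,6905809,7462680,2909897,5276907,6715626,4223106,6550145,1958656,5159971,1808840,2670301,3094463,4317240,4665310,4081015,8058376,8051400]⟩,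
  ⟨false, 113, 140, [2054800,4163371,4744627,890740,5347753,7320743,7814523,7409109,6507955,7589811,5056559,758435,1732876,1240631,5242880,7102191,4227072,7953763,2025723,1422779,3200960,4718592,4093987]⟩,
  ⟨false, 139, 141, [1911203,708932,2608134,1131090,4411316,6819843,7072703,7841356,3918128,7192985,2445577,1058685,2787344,5239428,65536,6279812,7125132,4743854,371108,4102336,3289497,6550145,2093700]⟩,
  ⟨false, 55, 72, [2268410,4834555,1210703,4706126,2380585,6990446,5535142,6139680,7027773,7634495,5166099,6598504,3534323,4279040,4934208,861919,2097152,1664258,3625611,3008817,6080960,8214189,8186624]⟩,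
  ⟨false, 142, 143, [4668829,522676,8346338,5544436,8364142,5806115,6300441,6358059,3585607,8223813,6888832,1592978,501719,3433948,1228093,3055368,6550145,3844652,4711918,3719984,8356675,5157196,2232108]⟩,
  ⟨false, 113, 114, [3315872,7897022,2437031,4010452,126450,7130823,2020482,4293759,2649189,5275904,3808253,4946577,4327937,165121,2445321,5594131,6989100,6248801,5482097,5083395,1088137,2097152,3451608]⟩,
  ⟨false, 144, 145, [225894,5906161,6445100,2707362,898806,1911845,944716,2777934,2172362,4564256,2988448,6176904,3844682,828286,7084192,2275007,5823834,4167300,682266,6394306,4270345,5157196,2294090]⟩,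
  ⟨false, 55, 55, [5763920,5308091,2514439,7569683,1207028,1172801,3837650,2084887,8111267,292451,5075088,4839756,5652405,7213636,100947,5863643,1587522,7663419,2025723,1341401,855157,5536856,4436054]⟩,
  ⟨true, 147, 0, [4744246,7584192,4321978,2543655,12473,4575409,6022267,4892306,6305307,4562111,4138160,5663131,7371220,4903006,4711918,2673732,5992532,3771321,2236247,1552599,3283814,8058376,5833115]⟩,
  ⟨false, 113, 34, [6325916,347851,3652741,7114136,5347753,319822,7509433,5921091,1498810,2736103,3743044,4110782,6339753,4613805,2371665,2965657,4968460,3003897,8125623,6291195,721193,6548989,7008441]⟩,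
  ⟨false, 93, 149, [4817474,1826787,2141860,4160511,1433027,8167768,6221582,293947,6159200,1509684,3625611,4368830,8237393,4397252,5159971,4063918,4968460,1720335,7503806,3629066,6241160,4216534,7975566]⟩,
  ⟨false, 37, 150, [5923981,7742223,2237853,5619007,5434451,7867339,872878,8287124,7754689,6048392,4730358,4370283,3295312,1532578,7859008,534850,2017897,6158712,5242880,6985590,2516191,3302154,7363434]⟩,
  ⟨true, 151, 0, [1478083,4204968,143539,1508832,3020480,3750442,2862977,721269,8257607,5393968,3121716,263135,3551193,5949601,1660021,1337873,6374144,2837012,1888799,4967696,3488536,430055,3226392]⟩]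

/-- The program. -/
def threeCo3TailOps1 : List CfsgLib.Rigid.Op := [
  ⟨false, 55, 10, [2381763,8213907,1937554,1808481,5524330,839281,298644,6981024,3311617,8374911,5132382,1532578,2019328,4903394,2017897,2957498,3121716,1193789,8005762,8173194,6496966,819331,4012706]⟩,
  ⟨false, 10, 153, [7765564,1483093,6426107,877014,3178656,692223,3698328,2265017,3497490,4155903,5438315,1843972,819331,8143241,7019261,4982149,8214189,5345553,3321877,4824255,3359050,6569025,6720917]⟩,
  ⟨true, 154, 0, [3770850,4361084,6984283,2154839,127672,850264,6706305,1463571,6933844,5860904,3994914,4678767,7764515,2919895,3302154,6220159,1927038,1487534,8174802,5181984,4528642,89894,2316334]⟩,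
  ⟨false, 37, 1, [2833032,1721935,1632723,2421800,1918822,2127244,4359475,2206134,6014591,379058,8125623,6858768,1024,6267137,5159971,6577087,1192032,1293008,8310938,4517656,3080046,1222662,3381264]⟩,
  ⟨false, 1, 156, [6968720,782590,1515275,4036753,5017964,159920,5252874,6012536,3219130,2013005,2295675,3651092,3743044,3068999,8164366,5958651,3339265,7782992,2339480,156308,4474089,1590376,3104276]⟩,
  ⟨true, 157, 0, [4706089,7696695,1408206,5702586,6211986,3921296,4686600,4919508,3385472,2736510,5132382,7758320,1009664,2187372,7194238,5377248,6715626,7193316,3083679,4520291,7092833,1615104,3871072]⟩,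
  ⟨false, 18, 0, [4642281,4242098,5138217,3158478,4081203,1911091,215605,1176314,4224957,7050813,6179888,7205883,2607539,3638970,4275903,3890044,7714287,1889919,3342470,374615,2100849,6531072,5373520]⟩,
  ⟨false, 130, 159, [7186606,7909085,3754972,6648305,7660462,3471202,1303333,5115592,2098629,8178288,890880,5390073,371108,3156374,2017897,262478,3342470,1626405,7804928,4466916,6999922,1037817,4097653]⟩,
  ⟨false, 158, 160, [7142925,4063533,4715938,3467120,2329493,1527299,664852,7817166,3898853,6721511,2525446,8147476,1730819,6677186,6749282,7088212,5519426,4370283,1192032,6367201,4256532,5527551,3610708]⟩,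
  ⟨false, 155, 161, [7786992,7837594,7295980,2094955,6756488,5893617,4945356,5683390,5613888,3193397,3344441,2270234,5767156,6832064,2999069,7828512,2339480,4059657,6550145,5950167,5170736,2017897,984584]⟩,
  ⟨false, 152, 162, [4686856,509594,2438834,1649788,5195623,906916,2192837,403417,6725558,2024931,7019261,3538943,89894,3661823,3935659,3637247,5527551,3667967,5482097,6674531,7362600,65536,7864319]⟩,
  ⟨false, 148, 163, [2678258,4885203,4159444,2383998,3614090,4567868,1772790,3411173,1129602,2857902,5166099,2144328,5738538,5497775,6701612,3276725,7096846,5200490,4662592,3557449,1251778,5992532,4207210]⟩,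
  ⟨false, 113, 164, [1441277,3721355,6453026,95608,796217,7736768,3015595,5182784,7868354,5503784,4730358,4977650,5652405,3325805,7462080,7635470,2022386,3281084,7092497,7098961,190470,7096846,348113]⟩,
  ⟨false, 135, 165, [5749066,327916,5454589,6823223,6289030,2457416,610686,2225677,4801053,4689962,3935659,4917351,4096,3882570,493717,5041345,2022386,197825,6339753,1332611,945598,8040081,814273]⟩,
  ⟨true, 166, 0, [108088,7756154,4737860,4174530,3567150,3400506,8206064,1641423,3276835,3985940,493717,2833376,4096,6423688,3935659,7825919,8040081,1752323,5933328,895041,3532928,2022386,3664383]⟩,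
  ⟨false, 93, 71, [2339412,7930859,3229476,3992316,3916024,100617,1600002,2521588,245264,3604219,5075088,4370283,5482097,7855231,1590376,1280752,6211621,1210756,2019328,6050214,7236777,3611780,2434793]⟩,
  ⟨false, 55, 168, [6323377,6153706,3986034,2645776,3585165,4046136,6885684,2090359,6276707,1743412,788550,5495301,8125623,2124608,4325376,5542096,8382467,5906120,3295312,7058822,5514547,4060438,7807560]⟩,
  ⟨false, 55, 169, [5452617,2689884,4569642,6008456,2913126,5713461,7057967,3493538,2045464,76451,6622071,2410885,3339265,608640,879599,5495944,4304872,4970259,8237393,1099694,2673353,4216534,6647953]⟩,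
  ⟨true, 170, 0, [1561619,7594329,7824372,2927154,4963014,432390,6620563,1363089,4740676,3362171,4144767,7391211,2775040,3233030,2295675,4206022,310603,3440418,6166628,771854,1405685,7458816,1826070]⟩,
  ⟨false, 135, 38, [7991906,2941458,6336551,5651012,3501498,1022146,3944779,1460700,4227390,5738066,4934208,7667360,5652405,3450966,2001057,6079020,7960399,126799,6701612,3273818,393889,7764515,4590241]⟩,
  ⟨true, 172, 0, [7988355,3466874,7741356,3810237,8046809,7102990,5253298,5651640,996028,5782941,6715626,46027,3882592,3011081,501719,3272907,7960399,7126624,6765000,4882391,3359050,2158646,5288907]⟩,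
  ⟨false, 20, 10, [2016809,2631326,4628974,7367603,740992,6579717,5310403,7211967,6289200,4510313,5093976,3789110,6420171,7757824,3551193,5008777,2670301,4981915,2019328,7480489,1787049,6166628,1498281]⟩,
  ⟨false, 93, 174, [7944552,4424851,4833374,2274219,3623676,2658073,7029034,4881490,1399993,3695173,896548,2937236,890880,4409177,4202496,2907662,4227072,6565434,6084351,2498056,6226115,6166628,4126216]⟩,
  ⟨true, 175, 0, [6262610,5769326,548248,1537784,7825906,8388024,3219971,1827796,2223724,1068520,3321877,5875169,2999069,7899840,3012103,7981760,3121716,7806777,2106048,146632,4140846,2019328,7916224]⟩,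
  ⟨true, 11, 0, [298496,4704767,4019713,7446018,1997828,4444168,6722064,2122784,1681472,3267200,1615104,5826560,7458816,2048,4096,8192,16384,32768,65536,131072,4456448,4718592,4194304]⟩,
  ⟨false, 160, 18, [3028383,208225,3531548,3737366,5530644,3410475,6460520,211413,3559710,5749692,896548,2215044,2295675,2924192,5450664,5251716,1888799,3133574,2189892,5066359,7308139,2001057,814742]⟩,
  ⟨false, 177, 178, [705176,7922008,7847623,5927994,4101893,1391477,3475738,5311093,7378360,3515119,817545,1380129,7467041,2675624,6715626,2678945,1493368,6347742,8040081,7858274,3410213,7893544,3541082]⟩,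
  ⟨false, 176, 179, [4894208,486468,5466705,4137740,7616153,6522081,7217971,5229392,1729324,7528961,7467041,4877120,5738538,2611202,688123,773105,6989100,7170132,6622071,4353552,5355793,5992532,2511441]⟩,
  ⟨false, 173, 180, [5539330,1595654,5760206,1965941,6521150,2199668,1109636,2307942,4752413,1425628,1009664,6009850,7957252,7027740,6418832,5703504,234689,5401471,4468384,5400080,3216449,7458816,1890140]⟩,
  ⟨false, 171, 181, [7276572,2881922,5559735,4211824,3653538,4218154,5772996,7939095,6860466,5064549,493717,7745746,2025723,1413091,112629,716795,234689,3441847,1732876,7293822,501825,3321877,3706097]⟩,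
  ⟨false, 167, 182, [7646342,2914699,345680,7657253,7996490,7294848,1611204,494184,4934139,2623872,16384,1765501,5493317,6350587,5166099,3533175,7698943,2255317,3743044,8322986,7888093,5992532,1922986]⟩,
  ⟨false, 183, 135, [241508,5985928,2446052,3752666,3396570,1183608,3326570,4946565,4547695,2623872,4497343,5636240,5738538,4038230,5166099,8142567,8214189,7477591,1927038,7098961,3451952,5992532,5351239]⟩,
  ⟨false, 183, 184, [619444,718444,5705029,7586311,140977,5950501,8193362,901572,2219973,7584784,1024,258500,5954565,957186,7512823,5625855,5527551,2194406,5751727,2291662,4244982,5690244,6519782]⟩,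
  ⟨false, 146, 185, [6257751,1494282,3323491,8121685,6455937,8216157,4899500,1769337,3150537,2163332,2988448,7903249,5953586,2927674,7804928,2845140,5308977,7855642,4096,7707092,7194163,1009664,7031252]⟩,
  ⟨false, 34, 174, [7405130,122599,2298139,1168841,5361315,906774,1508703,4472277,2361850,6400686,5738538,4921750,3555219,4261779,5767156,8202228,5690244,1000183,1222662,3594372,6531518,5438102,1825686]⟩,
  ⟨false, 113, 187, [1306301,4155444,3371803,752513,6916353,5713845,6379816,3197692,6248475,2818171,5652405,6576721,6048786,3564511,3487943,7048206,5992532,7694996,7019261,131444,8217659,7859008,6419445]⟩,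
  ⟨false, 86, 188, [8172578,4561441,6925259,8169282,4671101,7010710,3331028,61252,5724424,8054096,1469168,353937,2158646,5252,5132382,12575,2999069,6783868,3321877,7863455,6858444,7458816,6892703]⟩,
  ⟨false, 71, 34, [7095300,6480502,3487255,2513767,6397699,4807674,8381642,7457374,1540701,2014179,5438315,8112779,2775040,548668,7512823,7080371,2878768,7314797,8005762,3003042,5645609,7945179,5940650]⟩,
  ⟨false, 71, 190, [897538,1684188,5067059,1356017,3230158,7125610,6363115,6462417,4499138,4966914,8310938,5113476,7371220,7567368,819331,3553010,7714287,2096017,4096,2569343,901122,3477058,1410154]⟩,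
  ⟨false, 164, 191, [4831818,5520936,7158398,1375205,882708,6608262,7892821,1609924,6671949,4423403,5997294,1061253,8174802,5087751,1493368,3553010,5940151,2310474,5738538,6633517,4173,7829256,7800909]⟩,
  ⟨false, 189, 192, [6794182,7104785,6352620,5346060,2994268,2699435,1562735,6556705,8088728,3767652,5157196,715739,3551193,2876939,4325376,5912557,4307220,2717568,688123,2182281,8100681,2191137,5679049]⟩,
  ⟨false, 164, 55, [2622584,5477387,4653130,6698121,7355583,5420651,2105791,1029098,1562918,1574767,2422861,2255317,135520,1885202,4144767,3624214,371108,5101442,2775040,2231434,2228709,1549322,7126470]⟩,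
  ⟨false, 113, 194, [7619822,4624591,4682837,6191830,5321263,8074434,7374409,5966387,2944602,7810673,1787578,963043,5438315,7028231,819331,3236590,5872708,2253845,8164366,6540572,1481749,4060438,4627477]⟩,
  ⟨false, 193, 195, [879874,5299455,1590049,1164528,6012606,595069,18625,5794306,4405352,5034088,5940151,7336039,3012103,3508463,2017897,4990471,1228093,375440,5823834,2411042,5907687,2189892,7805031]⟩,
  ⟨false, 93, 165, [7999462,5491370,189577,2837850,1500935,1135277,374234,7659002,4500370,209331,4730358,370753,5652405,1218710,4930053,4671470,7698943,7444496,2949906,3888140,8038416,817545,2201616]⟩,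
  ⟨false, 196, 197, [931014,6000956,8175190,6350954,7380679,6480240,4532005,1468992,6650865,1781777,5383884,5315371,5075088,1766770,6989100,8072926,3339265,4945184,4934208,2661156,6342215,1222662,6703520]⟩,
  ⟨false, 135, 184, [7828652,7180373,1478822,6745160,728866,1836381,226336,4129658,1755901,983799,7512823,6929663,8174802,721193,3593153,4596768,5527551,5969925,5482097,1332611,2735488,3611780,7060864]⟩,
  ⟨false, 183, 199, [3441277,130181,4516173,3177068,4258760,1252277,4587271,388758,6449070,7289983,3593153,7527425,2922004,889432,1590376,641600,65536,7613465,3551193,4723025,22566,430055,4154969]⟩,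
  ⟨false, 198, 200, [1835174,1255206,4544613,4126172,3977844,915546,889946,2823898,5301700,2400946,890880,958594,135520,2693810,3666108,321736,3339265,5826399,5823834,6116545,3342477,2019328,662985]⟩,
  ⟨false, 201, 201, [4593877,5394702,147727,5524838,5938863,4012650,2156774,3497539,1947811,4597312,4138160,4762946,688123,5249090,6749282,5507138,8174802,4339746,1730819,826148,751638,6252381,5244994]⟩,
  ⟨false, 202, 202, [4323850,7089707,8075601,5865,3156674,7435233,899763,5982092,3922344,109367,4304872,4197343,7092497,7019269,501719,8064509,7764515,7311871,3302154,6606170,5023715,4930053,6382846]⟩,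
  ⟨false, 34, 126, [4899317,3918077,2392320,741949,6728317,7302099,6749746,4296749,3898098,4415149,5093976,5857268,5493317,1228855,788550,7544847,3339265,1328297,890880,4278570,2196216,4304872,5447695]⟩,
  ⟨false, 34, 204, [3178013,7850686,8053958,271872,3628248,4115770,2482025,1769326,1690598,1357769,5738538,2931706,6432835,8090152,4096,362080,3873584,5660143,7893544,6381501,1306681,7714287,5372472]⟩,
  ⟨false, 135, 187, [296885,2814495,3968822,16833,608516,2785110,1701103,3785997,2327288,4511185,8174802,2079166,3817918,254227,5438315,2592249,817545,2640256,2189892,7076235,5708651,3743044,4288923]⟩,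
  ⟨false, 205, 206, [8317978,4515522,525894,1476092,1425495,3278816,3830733,3764268,3888508,3698493,3593153,5525904,5438102,8028426,7462080,331446,1814673,3896608,5438315,5801839,5001616,6550145,283024]⟩,
  ⟨false, 55, 190, [5203969,7635523,2473922,704588,3856385,4582403,6572005,6408455,6716722,7732704,135520,5944944,5997294,3588376,819331,4340360,7714287,5406761,688123,4047874,3881264,2158646,6391824]⟩,
  ⟨false, 164, 208, [3115838,2900336,7656093,3060966,3748796,6502504,3362660,4985238,3555329,6625624,5720328,1269830,6765000,1430099,1493368,1070328,5940151,6586567,5523719,437704,1724482,1037817,5335623]⟩,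
  ⟨false, 207, 209, [6720668,4109123,2855404,3455435,4710675,2473341,2060315,512641,4791680,2760951,3302154,1137314,4678822,976117,3487943,7071149,8125623,88499,3551193,5918919,7475334,5093976,3976357]⟩,
  ⟨false, 183, 71, [6569220,5091426,6923553,2004962,5931070,7707046,1861008,7730602,5763287,1013782,3121716,5834605,3743044,876015,962531,2950519,5943015,4045807,89894,3872920,8108003,1730819,5812376]⟩,
  ⟨false, 93, 211, [7619535,371012,3583526,3617552,4460822,3014219,7029814,4525238,6249889,5648772,493717,1060916,3625611,3200960,16384,716362,3563520,140099,1228093,6121866,2564148,234689,6760500]⟩,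
  ⟨false, 71, 212, [1471690,4640002,3186943,2397688,4238718,4845065,7403378,442775,6842232,5009820,1493368,6647711,4202496,1064212,2999069,6811551,6531072,4970259,8164366,3989262,2950789,2870680,2584479]⟩,
  ⟨false, 210, 213, [1643872,102606,6767242,6434111,7290564,1447234,432649,1256225,545227,3829018,682266,4208916,3295312,4047874,5872708,2786570,8382467,4939803,5242880,2880439,570877,2964608,8244226]⟩,
  ⟨false, 93, 164, [2277931,3578579,7073113,4140819,7435107,30981,4126024,4514181,6733064,4917253,2422861,6031460,4362376,2859961,7467041,2383675,817545,5105861,6550145,1776769,5111878,816649,4358341]⟩,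
  ⟨false, 183, 215, [6906061,5329980,4653130,530935,8039747,6140925,2745714,178228,8298501,6267521,2964608,4883952,2775040,5663266,1632256,4182690,7096846,4198947,135520,7075723,4814478,1192032,6562418]⟩,
  ⟨false, 214, 216, [6912141,1534145,8152034,4361906,7571897,1488825,4973544,3160411,114737,1904643,8376393,5863643,6701612,6787104,2990610,1400955,799748,8092068,6420171,6473802,5773306,6084351,7960795]⟩,
  ⟨false, 135, 185, [4801291,1839859,4431314,5337048,1631649,607544,2131562,6080324,6085768,6334341,4930053,7852441,4362376,806205,4497343,435575,8214189,3014238,2019328,8256363,7884972,817545,4781353]⟩,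
  ⟨false, 217, 218, [1730635,4231083,4539460,1559567,5532654,1769110,2344172,5116856,2674334,1145904,3955850,6030364,234689,3891181,4468384,3850506,2787344,4234062,8310938,7324024,5042712,7092497,6418698]⟩,
  ⟨false, 219, 219, [3027580,1776889,2841346,5171531,2898517,4922295,6371558,1906438,281811,3428970,1009664,437727,1615104,295092,112629,979887,7458271,840063,2158646,5928456,6561727,2022386,2025911]⟩,
  ⟨false, 220, 220, [2314272,2736381,855088,8086588,191488,7591450,7079005,7913500,5093676,565767,262144,2839079,4144767,8351359,4327937,5486699,1549322,4173439,5954565,4460575,2823741,3344441,8334975]⟩,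
  ⟨false, 221, 186, [2523835,7313895,2996365,4696386,7537257,1002564,6356600,3017056,6517281,5882392,3873584,4540535,7512823,909003,100947,2079063,1660021,5034751,4144767,3866906,2356476,2158646,2095447]⟩,
  ⟨false, 186, 222, [4567783,5778339,179760,6210927,1914043,604289,1365016,7481831,4239737,4589702,1927038,1819322,7084192,3424491,4325376,7881691,7458816,7757824,6715626,941019,2658920,2017897,1006555]⟩,
  ⟨false, 203, 223, [2726567,6261838,5433397,3674643,1909259,5186356,2081809,6865467,2858444,3198242,2158646,3843605,8058376,3675437,980225,7664703,4096,5748543,8164366,6540572,4568895,7714623,1423167]⟩,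
  ⟨false, 186, 224, [2064012,4122349,721642,4710029,7782240,2673379,7505262,4279172,5368194,3170248,2017897,6619010,5690244,3874176,6989100,1137964,5953586,6218058,8376393,5261028,4520291,2512720,4355716]⟩,
  ⟨false, 186, 203, [2422003,394586,1269938,6271388,5335107,3835468,7118420,5111738,6521987,6001761,3084586,3183799,1222662,6946417,5519426,6715144,1192032,3791974,3339265,1585930,4284118,8005762,5470538]⟩,
  ⟨false, 221, 226, [5462224,1083338,1983181,3206010,3358353,2545241,8026117,1487822,4310169,7087707,5651422,8322811,3666108,5762686,2106048,1143082,4930053,7432873,5308977,3729864,43687,1684130,2499489]⟩,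
  ⟨false, 186, 227, [4699323,4668288,8360397,4441518,6358154,8275447,2072068,5877329,1527659,2851643,234689,2624449,2236247,3020123,5438315,1950913,8005762,1702751,3551193,307281,4389217,4468384,8242974]⟩,
  ⟨false, 183, 41, [1526287,8079578,6894200,6658618,302009,5631095,4965505,1845407,3561844,6604812,2236247,2149131,4698144,7271044,7512823,3840456,2670301,4247688,3666108,998528,5050512,8174802,1546624]⟩,
  ⟨false, 47, 229, [339757,2124501,3395654,5873932,4656418,828696,7212582,6387422,7654611,2946837,5519426,2950112,6090746,1560717,493717,7840520,1587522,2337643,4503572,3606586,3956514,7960399,1138538]⟩,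
  ⟨false, 34, 98, [7659217,7789414,2250885,3837286,5307886,6794869,2723187,6780926,3365412,4482942,89894,5687317,8376393,5909223,2236247,738480,4268257,178539,6418832,8218014,1283787,1189788,577649]⟩,
  ⟨false, 164, 231, [3824785,3232972,2549427,5543444,4496187,2534547,4460574,6635088,2837754,8307375,3743044,843519,5093976,4549144,6715626,8082497,4060438,5495301,3593153,2982399,5906120,6548989,7807560]⟩,
  ⟨false, 230, 232, [5276448,3622832,969579,5170845,3989348,266771,269881,219575,3556720,8017854,6742014,89230,3611780,4382463,1349985,3969842,6420171,875928,6067046,1734024,6707616,1194184,2610568]⟩,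
  ⟨false, 164, 71, [3146708,6507629,5152119,6732903,3118393,8199195,3707300,4483828,5732370,6716054,3935659,3172909,4662592,6890289,3121716,6367119,5292544,4700616,6550145,6481987,1653828,65536,1348192]⟩,
  ⟨false, 71, 234, [5727600,3560914,600224,594132,1454049,393783,926139,3274124,2720927,6992210,131455,6051936,5652405,6117549,2001057,3308511,5872708,897060,8174802,6029859,433,310603,6701981]⟩,
  ⟨false, 55, 235, [7801955,1293960,7760053,35469,6222472,5406983,2223166,4642283,1712132,3226392,5159971,4596288,8005762,6058477,1888799,7008578,4268257,1645124,2990610,6840255,1238583,5292544,766530]⟩,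
  ⟨false, 233, 236, [6539039,1296478,3194245,5533539,6297570,3082249,3227374,1302719,4023332,6234721,2189892,4885518,3342470,4427751,6211621,7999873,5712641,5969925,3844682,3928373,5020248,1298885,7766437]⟩,
  ⟨false, 237, 115, [7197111,1829093,5275561,8292134,5150371,6432610,1223381,7231424,1241204,7766897,2371665,3559494,6025424,5767167,501719,5491108,6252381,3507541,3844682,809937,7100100,1298885,28629]⟩,
  ⟨false, 238, 199, [2273298,1278922,2926401,6376807,3315100,7565876,2579907,1872704,5394664,6068941,5165700,370953,2964608,342110,682266,2009094,4327937,5934656,234689,2360638,7466081,5797869,4458209]⟩,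
  ⟨false, 239, 239, [1393443,3148333,2196282,295452,4190172,6729420,7857353,5013246,6406282,2902154,7096846,5114380,4325376,2593444,6715626,3010052,6622071,6649211,8174802,5828356,232006,5536856,4183756]⟩,
  ⟨false, 240, 240, [7482059,6510673,3987466,6812838,5333825,6851588,4126528,6404080,4047298,2141095,6211621,3781569,5940151,6310656,5652405,5679873,6025424,7541552,1192032,4652284,2735952,2999069,2413759]⟩,
  ⟨false, 186, 241, [6909583,6330790,276047,437198,563034,6120966,3979104,1791709,7124500,8225704,3188101,358853,7092497,8040840,2870680,4223000,5075088,8073071,6025424,6633884,1753064,1189788,2195848]⟩,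
  ⟨false, 221, 242, [81600,6918546,447118,7111122,5620156,4741862,4977433,7703107,4341760,559377,2878768,1266004,5631351,4291452,2949906,326722,929906,8202228,8382467,2859346,3506013,2525446,3737940]⟩,
  ⟨false, 221, 243, [6602859,7160202,6567045,7537575,3856641,2499752,6100296,3970239,166401,5308255,2236247,5272951,1037817,7327539,5527551,6400232,5623007,3727188,2025723,7951819,435575,4711918,5154167]⟩,
  ⟨false, 186, 244, [4030713,7372766,4778289,2264475,7452308,6676465,5535904,5162607,5918988,4206977,3487943,3437000,2295675,7960962,5823834,1896647,7125132,5208499,1730819,8345220,4430291,5383884,6113747]⟩,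
  ⟨false, 186, 245, [408585,2208635,6694845,8187206,4434101,6756001,1624794,950896,5259748,6859835,1469168,7868530,7503806,6858913,5623007,1667280,6785410,4024323,3477058,5480468,1024200,4718592,6723795]⟩,
  ⟨false, 5, 49, [8179987,2460158,1765385,7376662,2124368,1405273,7632379,2890631,5963443,72423,5132382,6370007,4730358,4194904,6025424,6207503,2189892,2664371,4468384,800824,3829768,5752719,2890488]⟩,
  ⟨false, 247, 2, [1751391,5336479,4223387,407076,2699845,2534319,5569892,3124800,932859,6402080,1037817,7757824,1632256,8192,4325376,6291456,7804928,5203968,7458816,4210688,4456448,6531072,4194304]⟩,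
  ⟨false, 248, 17, [2535407,3372990,7124703,5025888,3332210,6342127,6068336,5767236,5751695,2234448,501719,2048,4718592,1781760,4096,1048576,3563520,8192,2097152,5203968,4210688,6531072,4194304]⟩,
  ⟨false, 17, 249, [1629707,2586671,3209379,2086914,1025200,859305,5962794,377064,5872510,2561162,817545,6969344,4325376,3264512,890880,524288,4096,7757824,2097152,4210688,6213632,6617088,4194304]⟩,
  ⟨false, 250, 65, [3596011,70100,6135836,4356250,1434487,3931899,7247431,663936,4837234,6499439,1732876,1781760,4202496,2336768,4038656,131072,890880,4198400,2097152,6213632,4259840,7804928,4194304]⟩,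
  ⟨false, 251, 17, [7969350,25529,6143753,989779,3440493,2305915,816815,2055541,5325460,6707904,5438102,5203968,2775040,524288,16384,5826560,5976064,2336768,4325376,4198400,6213632,7804928,4194304]⟩,
  ⟨false, 252, 66, [1530216,6047635,1517015,6791694,2039283,6819727,2629051,1257267,4500004,1995844,2017897,8192,890880,4259840,1009664,524288,1632256,2336768,4096,3610624,32768,3563520,4194304]⟩,
  ⟨false, 5, 65, [7024881,240016,4149039,4003954,3491311,7847743,798788,676751,2008863,4354007,7960399,524288,5976064,4198400,5242880,7757824,4202496,6291456,1009664,4210688,2336768,2019328,4194304]⟩,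
  ⟨false, 253, 254, [7199132,3864804,2253476,1568852,1291368,104279,4499564,6563953,4042968,1171550,5075088,3610624,16384,5085184,4227072,1781760,65536,7757824,4325376,5203968,4456448,2019328,4194304]⟩,
  ⟨false, 255, 247, [3501512,7438830,1133000,6092350,6433882,1760532,5716550,1694507,6406904,7597256,2342416,4562935,3084586,1117198,1660021,8145800,5438102,4659744,4304872,7502699,7958612,879599,1069864]⟩,
  ⟨false, 247, 5, [7209153,4283730,6189642,6796872,2091184,278697,6859757,1167342,7197076,5545935,2236247,2993421,1756188,4074136,7084192,2664371,5752719,609265,3873584,112874,7858728,4468384,2890488]⟩,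
  ⟨false, 256, 257, [1211073,3643404,3343824,5291925,1040896,3302996,7953322,5413001,4023364,4746076,7462080,8270685,6339753,43878,4678822,393569,7957252,7149988,1298885,2914404,3427371,5651422,5061476]⟩,
  ⟨false, 66, 1, [7633598,6094017,5588169,889783,6960266,6287521,2521800,5440383,7964662,2832319,2022386,5203968,7458816,4210688,262144,2336768,890880,6213632,4196352,32768,524288,6617088,4194304]⟩,
  ⟨false, 258, 259, [1476776,5372569,5010335,2919349,8263013,88666,4367457,1740161,6969315,2339160,7194238,6233336,7864059,679874,1298885,3854372,6179888,663076,3344441,393569,2914404,5738538,5061476]⟩,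
  ⟨false, 2, 259, [8210776,7633482,2286609,1390861,206614,650964,3091796,4043952,2438089,2811614,1615104,3638970,6989100,1889919,5523719,3298896,430055,5504815,879599,1401327,6129625,3817918,5373520]⟩,
  ⟨false, 260, 261, [7026221,2675458,8096670,8365773,1683824,14262,1366874,6281467,7125340,2201692,1927038,7382771,4196352,1284165,8376393,6758262,2787344,3956144,1755277,4987944,575761,5943584,4617522]⟩,
  ⟨false, 262, 32, [7320296,2333115,7236794,217409,6593903,3954584,892876,705385,674953,6532717,6166628,1889925,6655490,3956144,6701612,7182338,682266,425266,1615104,1885202,3777915,3835707,4617522]⟩,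
  ⟨false, 1, 17, [88488,7088792,2400665,2597257,5572753,5572884,3479897,6090128,2834689,3827720,1927038,5085184,2019328,2048,4227072,524288,6617088,1781760,4038656,4198400,4259840,5242880,4194304]⟩,
  ⟨false, 263, 264, [2816648,5683460,8066735,1286120,7349816,7436170,6757214,7006891,2747212,6030136,4307220,6077887,5631351,1889925,2878768,1885202,2787344,7382771,6090746,2358064,4987944,8376393,4617522]⟩,
  ⟨false, 2, 257, [1344758,5004285,6191868,6520951,5088384,7612654,8189871,7909566,4974890,461150,2236247,7101536,5651422,4864282,6326818,2484006,8174802,5814253,823332,6423114,3389985,2001057,4165157]⟩,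
  ⟨false, 265, 266, [7110968,2156540,236134,1986629,3713216,2853807,5224899,5650137,5593299,5937871,2236247,3398025,371108,1852708,135520,4899141,6895643,7784730,3955850,3620098,6762215,3321877,7056996]⟩,
  ⟨false, 267, 252, [2808433,2511507,5316970,4394412,7946797,2206943,4458593,203093,5257032,6619001,1037817,5419808,4662592,3620098,135520,6091017,4038656,4726012,1927038,7210944,3953040,2878768,7056996]⟩,
  ⟨false, 247, 1, [2138078,5858565,1669197,7548616,4877873,3220024,5581830,6131452,7994207,4532333,1298885,8371337,2445577,3648105,3873584,3566580,2990610,6567694,6025424,880828,6829144,1469168,2890488]⟩,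
  ⟨false, 268, 269, [5487325,1404412,3388036,202242,3355673,6438277,6951080,7439587,4511830,7583025,3994914,6393756,7864059,3052563,7714623,6246141,3477058,2252789,6090746,7672573,3133135,7714287,7673597]⟩,
  ⟨false, 5, 249, [1917917,1673669,5263868,4535315,7390865,3165663,5306935,1717808,5973998,3682418,5651422,6969344,7458816,524288,3563520,4210688,6617088,5826560,262144,1781760,8192,6531072,4194304]⟩,
  ⟨false, 270, 271, [3824091,7231317,6713585,822199,6020651,6864130,2039180,4169888,4323226,5797885,2525446,3418178,4678822,7672573,8382467,41410,5132382,4860034,6090746,1369965,3052563,501719,7673597]⟩,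
  ⟨false, 5, 271, [6636346,505726,7320855,3029192,208648,5783998,7705801,4737603,5048759,433809,4730358,6213632,5242880,3264512,6617088,8192,890880,4259840,1009664,524288,5826560,6531072,4194304]⟩,
  ⟨false, 272, 273, [5757217,8231784,182320,3141440,7782581,7935360,3783103,3757358,3681306,4584437,6048786,6393756,5997294,6246141,5720328,7672573,7714287,3884707,7512823,1369965,7411453,3625611,7673597]⟩,
  ⟨false, 32, 271, [4320817,4316654,3380700,1210016,8009727,5836750,1252811,6095567,2397217,744976,3583001,5826560,4227072,6291456,5976064,3264512,65536,2336768,3563520,2048,131072,6617088,4194304]⟩,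
  ⟨false, 274, 275, [6130293,5623956,1657973,4205068,3272758,7675498,6605139,5605928,1695964,5779209,1493368,818681,1024,4342902,5953586,4860034,7714287,3306075,501719,6393756,3884707,7864059,7673597]⟩,
  ⟨false, 276, 7, [5621606,6696554,8052961,1933672,590881,8364224,5224532,1019088,5990245,6456346,4202496,1369965,3625611,190470,3477058,3133135,4275903,720638,4144767,3052563,2252789,7714287,7673597]⟩,
  ⟨false, 32, 275, [3317605,6545110,4314598,702183,7801225,4173969,8384106,1124697,3917200,8365695,7596040,2336768,890880,6213632,4196352,32768,4718592,2422784,5976064,8232960,4198400,65536,4194304]⟩,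
  ⟨false, 277, 278, [3642273,347148,2205678,6956828,6178831,4504546,1919648,2159423,3518801,1736745,7893544,504842,6090746,6393756,6418832,3133135,5997294,7411453,501719,6246141,4342902,4275903,7673597]⟩,
  ⟨false, 252, 7, [5993236,5932775,5614136,8172032,1939468,5761821,2186060,3023624,2161172,8087814,6418832,8192,4718592,3610624,4038656,4210688,5242880,5085184,1632256,32768,6291456,5976064,4194304]⟩,
  ⟨false, 279, 280, [5162762,4082811,4773427,2534302,8272511,4132770,5893403,5003408,5290564,1386095,5767156,6393756,2775040,7672573,5132382,1369965,3625611,190470,3477058,3133135,3418178,8382467,7673597]⟩,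
  ⟨false, 2, 280, [5262707,7146995,7833337,3662225,8153367,1882252,484338,2861210,4285621,4225062,1873870,4929245,817545,7205883,4275903,1889919,7467041,5730743,3302154,1401327,5527540,2607539,5373520]⟩,
  ⟨false, 281, 282, [128890,6663667,5550151,4771553,6817399,2551806,1353322,5202759,2458965,4986408,4698144,3785866,2022386,6663588,2999069,1765501,8237393,3480216,3084586,6930585,1969433,6895643,7803033]⟩,
  ⟨false, 1, 19, [148488,4099393,4305939,669618,6958476,1155214,4168446,2188735,3691304,7644187,5482097,2818338,5519426,3442842,5383884,5967613,2295675,4394556,3121716,4425775,6950166,3666108,3745470]⟩,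
  ⟨false, 283, 284, [1550148,5287611,2149181,7186487,3126073,2773379,6572452,4684903,2776854,5458775,980225,3052563,7714287,7411453,7714623,7516458,7957252,6246141,5132382,4342902,4200639,4275903,7673597]⟩,
  ⟨false, 7, 284, [1977697,863535,8200768,7407526,1737749,5389477,3804524,8354082,5840281,7086494,4060438,3712967,5527551,3030144,3611780,2476370,3487943,5273069,7125132,4771532,6207637,2022386,705741]⟩,
  ⟨false, 285, 286, [3266032,3042467,4676575,6812379,3770719,1360674,1403298,5316924,6515446,1472366,819331,7590880,2097152,7461389,5976064,7249107,5823834,3346550,6989100,2959378,6386075,4196352,7145490]⟩,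
  ⟨false, 275, 19, [7819305,755516,2834984,2522274,3746956,7960704,2811460,7567453,3244792,2270423,234689,7809781,962531,2175116,5075088,5094294,7200996,8050991,2525446,3699234,3261440,8005762,7774374]⟩,
  ⟨false, 287, 288, [7654784,6031247,3709865,494217,2854277,1154064,5407530,6494529,1032004,4586854,6048786,4647878,3057538,3704687,1055256,4870095,6420171,8163165,962531,2777963,4229265,3083679,2512751]⟩,
  ⟨false, 269, 278, [263304,7360635,3812919,4336858,4741536,7513183,1084255,3705044,4850075,2598212,2988448,2196216,1549322,6207503,5482097,3566580,2189892,2993421,1192032,2664371,609265,2990610,2890488]⟩,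
  ⟨false, 289, 290, [3567673,3194306,7664854,3760737,612429,7670798,6863674,7065131,1626207,7862431,3477058,5064842,2512720,3392480,819331,688500,1009664,4602700,6895643,1075903,2646050,2787344,2781506]⟩,
  ⟨false, 266, 284, [7971567,5450081,5092297,4534125,1141265,2738439,3360798,354406,2279899,2430486,3344441,2825197,4216534,7525974,135520,1557018,2775040,5683606,5976064,4404018,4299967,2097152,7093933]⟩,
  ⟨false, 291, 292, [4457367,450068,2101675,974091,1954592,1321632,8257615,5088722,698552,6645983,7714287,8001896,799748,2730021,6622071,7960051,1787578,4276308,5159971,5601279,2967690,2787344,435642]⟩,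
  ⟨false, 293, 280, [3541403,1257805,3579715,2306033,807379,6833220,1958969,3716817,3266953,1362188,5527551,2730021,5493317,6641467,5738538,6532813,2878768,618563,3666108,7960051,2895274,65536,435642]⟩,
  ⟨false, 266, 278, [4643741,316312,6020270,5278788,1189579,8380155,3751752,6610189,7517362,3322752,3555219,3736002,896548,2705245,5493317,2484006,6130799,2566949,5652405,7293989,6927867,8174802,4165157]⟩,
  ⟨false, 294, 295, [4468588,6472808,3997826,2073213,2347502,924160,3085440,3679966,7083540,7131150,7084192,7868229,5536856,4670288,6701612,7395680,1349985,1396936,2512720,2687210,2279652,7859008,2326289]⟩,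
  ⟨false, 278, 19, [4847664,5718699,1529709,4606866,6477868,1553450,3658491,2254852,6309477,5617164,5738538,5950275,5523719,2702502,4295720,4485139,1756188,7151356,5383884,1712581,1475722,5450664,3745470]⟩,
  ⟨false, 296, 297, [5146229,2346633,1848768,7848098,5739575,7984320,6240910,439603,6963133,7534077,7467041,5917248,5132382,2400786,4362376,7696271,1927038,8108662,6749282,6017074,4738679,1469168,8043126]⟩,
  ⟨false, 298, 5, [2413131,4365510,4420485,6666678,3845436,7169400,1350905,8010643,3401586,8361882,1888799,1716308,2445321,2110310,6166628,8108662,1469168,4857843,6785410,3861664,3681022,6749282,8043126]⟩,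
  ⟨false, 297, 292, [603725,2252725,8196397,5822934,4236619,6642330,5094609,1761802,3069843,7300019,1206565,2048186,1684130,5708651,7960399,1108868,7019261,1292158,4138160,2383675,2501305,5450664,2796090]⟩,
  ⟨false, 299, 300, [6038587,5729094,1485123,310272,1666505,1374490,3757803,1440307,462461,6598789,3083679,7205916,4202496,7369222,5712641,5419808,89894,7153243,5166099,6590545,6448785,1732876,5819611]⟩,
  ⟨false, 290, 292, [1620377,8029860,4923288,4091441,7292255,6577095,1704213,3643374,5792763,83764,7698943,7659892,4718592,5220302,1189788,3141912,5056559,3446734,4730358,5163247,3049263,2990610,7317454]⟩]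

/-- The program. -/
def threeCo3TailOps2 : List CfsgLib.Rigid.Op := [
  ⟨false, 301, 302, [5956166,2607388,3762550,7329133,4376855,2384583,4144727,7975283,3413650,129744,5943584,4096116,3955850,1659256,2949906,7559584,6550145,78100,6890364,5688579,5156982,3743044,204916]⟩,
  ⟨false, 292, 300, [1016776,2287727,364897,726651,4458494,7542939,4054103,813,3236101,4752396,7596040,827911,5712641,1295496,7458816,4359708,4327937,8173194,7957252,7453786,5248201,6742014,7353865]⟩,
  ⟨false, 303, 304, [3326529,7433279,3177619,1602140,5509017,4002942,1323980,1954008,7835771,2800108,4096,1072731,962531,4127855,7698943,4093500,6785410,7852441,4711918,1110512,5817767,3188101,4193391]⟩,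
  ⟨false, 286, 280, [6689303,4304966,7024782,6115929,715422,6584314,7543556,57214,4539735,7319929,7698943,3030144,4327937,2451193,5953586,4053065,5536856,5419808,1194184,2476370,1318719,234689,705741]⟩,
  ⟨false, 305, 306, [3974886,226109,8065445,7096300,3705283,5851504,3432682,2919735,3049279,6699026,6179888,2993421,4196352,3911035,5083138,3375124,3012103,8318984,2001057,874592,6181680,1814673,4132912]⟩,
  ⟨false, 5, 306, [1973900,692886,6260166,4167800,6639072,2760693,2420772,2788087,8175800,4274815,7945179,3016004,1590376,2416505,3487943,5443678,6179888,5038599,2512720,3033748,3491531,1493368,7333244]⟩,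
  ⟨false, 307, 308, [6125992,687618,151952,6485955,4623530,3003588,2282888,3007714,3553582,6288792,3611780,4794904,4307220,343909,8174802,6979922,5493317,4948464,7096846,2064404,4720333,8058376,1308189]⟩,
  ⟨false, 308, 295, [5834620,1416713,2428752,2488468,4199584,5541257,2014722,7662256,7959080,1545931,4468384,2859498,4325376,2656497,1192032,1567809,7512823,8295514,4327937,6954256,615976,1927038,1551425]⟩,
  ⟨false, 309, 310, [6314246,4385711,3591499,3655282,6644651,482999,7730946,929087,4569269,4525871,5992532,7261919,5797869,8375802,4718592,3049263,7074745,637203,1298885,7486461,1186813,7084192,5389309]⟩,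
  ⟨false, 306, 273, [5064699,8100385,1351350,69664,1002121,4005710,1647648,6349057,2154525,6785617,2339480,6198066,2022386,6749660,3487943,2451193,3302154,6207637,6339753,2476370,5720226,3743044,705741]⟩,
  ⟨false, 311, 312, [4683336,425844,2080153,3463907,3789609,3109812,2633888,165947,7431137,3814210,2025723,8315584,7458271,705058,2158646,7598088,3534323,7494165,6048786,767135,6090135,819331,6094231]⟩,
  ⟨false, 304, 312, [7179156,2420138,1800597,6699419,461632,3940685,7378569,563630,216646,2213390,5872708,3013642,1927038,6158712,5292544,693211,7893544,1089276,1590376,530467,4945041,2371665,7434092]⟩,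
  ⟨false, 313, 314, [5295242,473423,2556103,4484354,424247,3675592,5984893,453608,822500,6532857,7074745,1324434,5438102,5226818,6890364,5651347,8208834,1283653,5953586,7004424,2737284,8214189,1323410]⟩,
  ⟨false, 310, 286, [7513095,8135501,7911625,4928451,7483663,3749533,6074673,5043320,1739028,5419306,7092497,6844450,1349985,3803454,2512720,3273920,6701612,3934195,1024,7001991,5667396,3551193,6741953]⟩,
  ⟨false, 315, 316, [5360020,3705580,3960699,6836868,7740110,6645735,2416890,5016490,4147420,1224309,682266,4764184,6090746,7300199,5651422,4045564,7462080,5528088,7074745,998725,748056,890880,5265944]⟩,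
  ⟨false, 316, 314, [762065,4690747,2625436,4975484,2537714,3643404,6818938,469426,7520291,3599897,3743044,3200000,3844682,2849719,7714623,1852708,4468384,5056045,5797869,2199315,8311543,4497343,6745013]⟩,
  ⟨false, 317, 318, [3661068,4255747,210037,7925853,3616333,3497368,7823844,3250093,6641573,2247253,4317240,3929562,2191137,2956783,4930053,5617248,2970876,5404832,2017897,3250721,7194163,5720328,3246625]⟩,
  ⟨false, 304, 273, [3890314,7151452,565122,7092901,2146686,679074,2266087,2411432,1625818,7092619,7462080,3161609,2106048,1096747,1349985,1295496,5493317,3292168,5823834,7453786,8236553,7714287,7353865]⟩,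
  ⟨false, 319, 320, [7204467,4401967,601308,7109996,6468818,3643505,3229618,5758278,5461914,2427183,2445577,2199315,2025723,7641013,2922004,319938,8208834,6709482,3487943,8245085,6740167,3844682,2879720]⟩,
  ⟨false, 314, 295, [3059307,1331696,306342,3082100,2693597,1601881,2095065,7194722,686784,2082311,3611780,4227584,5093976,1628677,3302154,3870668,5527551,5031579,6420171,4431520,5869670,7074745,135816]⟩,
  ⟨false, 321, 322, [129931,98082,7066222,5715081,5932354,6080805,2208872,6873299,4151845,3852293,3583001,661509,4968460,5098532,3873584,4970259,6374144,3995942,682266,7031547,1800121,4227072,6693140]⟩,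
  ⟨false, 310, 322, [3132270,1893370,137115,3974394,6732785,4252875,4089597,2207376,3822152,1226235,2512720,1562315,7804928,6592532,962531,1696308,1349985,3424491,4698144,1443861,2702109,7462080,7999669]⟩,
  ⟨false, 323, 324, [4438857,6001928,2212514,1257473,1872737,7563665,957382,1294783,3196860,8067940,5166099,6633517,2870680,1540152,7864059,8071241,5823834,2664493,2158646,1528615,2394072,1206565,2437165]⟩,
  ⟨false, 310, 304, [1213752,6511396,983656,1365276,1362005,3909025,5364572,6527442,5857588,3048564,2922004,6910799,6569025,1421344,3593153,7180117,788550,4319984,4317240,862245,937875,1787578,4612709]⟩,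
  ⟨false, 325, 326, [7724770,6770906,5377876,7544489,1959997,6316052,7368564,1600047,5290149,7880151,8237393,6094802,5056559,6858444,823332,3362464,2512720,669757,1732876,841252,2079166,3477058,2721325]⟩,
  ⟨false, 318, 288, [3479369,3880410,5452407,4932476,1676122,6986814,2445206,2616331,6366879,2767625,7503806,8204872,5933328,7712176,2017897,7102191,2988448,3738807,6292447,3752375,3050679,7019261,2221239]⟩,
  ⟨false, 327, 328, [7873171,6498999,689659,122002,1708557,8292212,3976791,1357433,6416546,6607955,688123,7144256,1192032,7400385,980225,2694802,1037817,269153,7503806,7961955,2028062,1349985,1897313]⟩,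
  ⟨false, 326, 295, [1678780,7004470,5427912,4103884,1003181,8283239,1223536,3568145,899998,6069375,5242880,1855956,6765000,3901193,5797869,1363401,2158646,3817706,5953586,596511,5100754,234689,3469065]⟩,
  ⟨false, 329, 330, [3054086,5168839,8311042,2012574,1366875,4080741,7542963,1492429,4323852,1915784,131455,5264088,3551193,2587421,4060438,1840133,6067046,5083395,2097152,6753449,7774425,6989100,3451608]⟩,
  ⟨false, 326, 302, [6190938,2558647,3346487,7193030,3158260,1844114,1221495,3842200,6924040,4310863,2025723,7647796,4934208,3066417,7200996,6930585,2870680,5040015,3344441,1736980,7419039,8040081,3509387]⟩,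
  ⟨false, 331, 332, [876083,3408169,991924,7362975,3981939,448184,1805576,1137743,2001478,6561976,1787578,5020248,4268257,570877,6701612,7749670,3295312,4004116,4711918,7067939,6641467,5943584,4646307]⟩,
  ⟨false, 278, 328, [3142671,3902227,6800728,2688924,6112317,2426055,143367,2303836,2595861,5567085,5482097,3553010,3583001,8283609,2525446,5157735,5536856,7205916,430055,4618628,1747996,6179888,7189532]⟩,
  ⟨false, 333, 334, [8202548,1999765,1456187,3156224,586560,587469,4387238,6589837,4982619,3579504,112629,7810394,3012103,4721108,4144767,3774880,4934208,215274,1814673,6267020,5834605,3743044,6621894]⟩,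
  ⟨false, 310, 324, [2524588,2910732,4964840,653137,2735674,8250210,835524,1853096,8153121,2123312,371108,5245853,2371665,5478245,1756188,1740205,6252381,1278957,7371220,2245909,3404153,3344441,4808680]⟩,
  ⟨false, 335, 336, [2074186,7182563,2534274,3913676,2046524,7010668,2372090,4805322,3458554,7931623,6292447,458520,7371220,3823644,5976064,3254288,2964608,2602917,6048786,2832688,570315,1192032,7440400]⟩,
  ⟨false, 320, 302, [5559322,1279222,1925941,2849200,13240,7710814,3531511,154558,1723041,6316779,6420171,3100180,100947,3213378,3844682,6212769,1228093,6941009,89894,6482685,4242861,2988448,4505005]⟩,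
  ⟨false, 337, 338, [1474753,32,3317744,2898117,50307,6093654,917657,776003,1898829,3524018,5493317,1218041,2775040,7924010,1055256,1675367,7458271,2353826,819331,7416898,7940439,1587522,2450757]⟩,
  ⟨false, 330, 328, [6807102,2295737,2197057,2218104,1013564,4981520,4043359,3502736,433338,394672,1615104,2460163,4196352,2719567,6548989,964579,5943015,5049719,5438315,5542096,5536898,2295675,6467395]⟩,
  ⟨false, 339, 340, [7746376,6135831,979797,2536594,5592788,7418360,1406522,6299657,2504073,3647935,2512720,5059795,3666108,3420131,1206565,2106873,6701612,170743,7829256,6690735,5830524,5797869,996563]⟩,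
  ⟨false, 338, 320, [3908770,3079655,1631186,4946935,3560072,1764476,7945351,4279395,6790200,6382992,2607539,840066,4934208,7981760,4144767,1530863,430055,5344802,5953586,1507067,6693435,1888799,6758971]⟩,
  ⟨false, 341, 342, [8168265,1462261,5553962,3453997,2214355,4729929,2235678,6269124,3836309,2249680,8208834,1010000,7371220,3302978,1632256,3529344,929906,6422441,131455,1857006,551036,2949192,7219792]⟩,
  ⟨false, 318, 328, [4836070,860977,2825945,6634826,3899103,5549115,3054420,5863585,5018634,874219,688123,6662209,817545,1753352,3808253,6085650,2949906,2363525,4096,2797277,1570870,2106048,594125]⟩,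
  ⟨false, 343, 344, [732800,3120695,7009158,4539202,714087,2517512,5755094,4890290,6973327,4990503,501719,1667280,6749282,5688579,3666108,6353757,1194184,2673732,7371220,4700616,3078107,4227072,197084]⟩,
  ⟨false, 336, 342, [7283791,45006,737779,4397717,6826237,2004809,4974861,2286998,7372665,2118370,6374144,3803556,4317240,5525904,817545,1595083,6090746,1771782,4662592,1414409,4004116,310603,6454857]⟩,
  ⟨false, 345, 346, [4394813,1296486,3517387,2881814,6216328,1028055,2624353,87194,6755086,4788386,4196352,7606836,7945179,2531159,4711918,1015468,7893544,6668401,2445577,6886498,4092627,6432835,2605169]⟩,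
  ⟨false, 340, 310, [6179254,7322136,2367901,1144392,4420547,2250790,6354920,5669775,8040167,2947610,5992532,490547,3121716,7389334,112629,3293770,5767156,3715639,7074745,2947354,3659613,493717,5353399]⟩,
  ⟨false, 347, 348, [1216772,844840,272097,5548876,7710790,6613065,3265898,3645382,6306083,6470536,3551193,1378818,3666108,4910108,4730358,2577852,6420171,1613247,3188101,5027876,1089276,6989100,6780348]⟩,
  ⟨false, 344, 336, [6152879,826321,4623590,6308054,566866,7579564,1192505,6856150,5005455,6816705,6617088,6253904,6989100,1310909,6622071,7136291,4468384,2577385,6084351,2189481,7314457,1590376,5290153]⟩,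
  ⟨false, 349, 350, [3186938,1721318,2186701,4119877,4000977,4115432,4251180,6943087,6344368,5714359,3808253,7814571,5652405,4519961,7458271,1633243,1037817,8039569,6166628,644552,570512,2339480,3007897]⟩,
  ⟨false, 350, 340, [1498497,1416254,7579068,6897393,1588089,115683,5843921,8173197,3741286,4227505,2001057,675835,1037817,1891822,3873584,5260926,823332,6298591,4497343,1555197,2609150,6531072,4978415]⟩,
  ⟨false, 351, 352, [6791335,6066018,60072,1757181,1966322,7080781,256229,7403805,5445673,1005150,2988448,4635636,6548989,6270894,4362376,8350951,430055,3795486,1615104,802303,3409877,5242880,6620644]⟩,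
  ⟨false, 300, 332, [1560588,910492,6789428,4635647,3414271,5498509,910045,493356,8007784,3730651,929906,606361,3321877,7246083,7893544,5566533,4662592,4769821,6749282,1198733,3970936,2001057,5615459]⟩,
  ⟨false, 353, 354, [5764075,2687427,6883021,4030746,7988235,2328344,7308927,6247889,8240086,2996877,3955850,6009893,6785410,7127539,688123,2931687,6292447,7469696,5093976,781318,7791936,6025424,805841]⟩,
  ⟨false, 334, 332, [5859845,2839278,4210383,1412467,3324693,1227180,4008575,581623,1631451,2734067,7596040,6477503,5519426,3015748,5438315,3233635,6090746,6442826,3534323,6459283,4364640,5438102,2322347]⟩,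
  ⟨false, 355, 356, [4129998,7306207,5765075,2532125,3651797,3061435,925657,3124,70836,7336923,1873870,5876005,2191137,5668918,2236247,8277672,4138160,6345000,4503572,6639712,6065568,3563520,2424712]⟩,
  ⟨false, 318, 356, [442669,6889810,585687,3201175,725561,3088766,8134966,2427260,6982816,6532983,7084192,665453,5166099,614350,100947,6285951,1888799,3372635,2990610,5460695,1090211,6622071,6936044]⟩,
  ⟨false, 357, 358, [1690316,4825865,8027095,8275576,7639231,1497032,1699004,7537740,185356,6218879,6622071,5212349,6531072,6480350,2025723,843419,7945179,6092653,3625611,7677927,6649211,5166099,7972708]⟩,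
  ⟨false, 340, 346, [1609661,3270634,2699107,7001779,3537216,3288510,2174956,823987,1718324,6366032,7893544,1378086,2001057,8082497,6067046,5269551,16384,3594371,2949906,4892945,6705505,5651422,4628823]⟩,
  ⟨false, 359, 360, [6720486,5286976,641273,1439851,2230155,6372736,6012728,3329398,1726514,1959170,980225,3614777,4503572,1736865,5308977,7196709,2025723,6127578,1349985,1986153,3519454,3563520,3770330]⟩,
  ⟨false, 348, 354, [1730937,2627507,7840138,7151078,2132367,6050,6366115,2938730,7929974,5643742,5159971,2129577,6084351,8331905,788550,8094605,6617088,6402689,1632256,1624410,7814137,5751727,6419073]⟩,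
  ⟨false, 361, 362, [8095304,2231959,7850927,3001920,7215724,5155987,6940128,3294122,8065820,2426550,3342470,4055493,7194238,2111262,4138160,4560475,5159971,7029795,3835707,439088,5950512,1684130,3819026]⟩,
  ⟨false, 318, 346, [473594,3247102,1951326,5328230,923049,3774435,2536853,5169342,4997224,2245164,5751727,806519,3835707,6030009,1632256,7818898,1888799,8117741,4144767,5239326,7442961,4275903,1856623]⟩,
  ⟨false, 363, 364, [6335712,2669384,3867703,1469605,5767933,177806,5771578,6114786,3395994,8158715,2371665,5236513,5438102,3999170,3873584,840623,3743044,818180,7764515,2612784,3100180,234689,2350640]⟩,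
  ⟨false, 332, 354, [3452285,6424479,3906688,3755315,2414294,7098824,7470086,4823144,7254348,6104233,1660021,6654616,1469168,1580164,1888799,6935611,2787344,7276937,1228093,6242492,6643857,7462080,3059869]⟩,
  ⟨false, 365, 366, [8130890,2595552,5690894,4433824,421915,3731107,1459813,6297677,5772847,5515209,2445577,4409177,4138160,5764119,5953586,8078499,3342470,1258686,1009664,7987012,839835,4038656,7727936]⟩,
  ⟨false, 344, 364, [4630583,3759845,2575919,7780643,6627094,5032353,556902,922261,442312,2748667,3666108,6068943,6292447,2317604,2422861,30287,7019261,7351324,2870680,3140223,3968608,7096846,7448143]⟩,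
  ⟨false, 367, 368, [3506959,4724109,786740,3368734,5643317,1930823,8262735,4337553,5248644,7266158,1873870,6563888,8040081,2642024,4711918,1819188,1590376,6715433,6166628,7080371,2103843,4304872,7528776]⟩,
  ⟨false, 344, 332, [697141,1606326,3314946,5571130,1199551,614477,1739254,7881344,4588168,2963514,3743044,4007038,5690244,437727,5953586,436735,4268257,4695816,1590376,1666672,6799977,4138160,5336688]⟩,
  ⟨false, 369, 370, [7717477,7626640,6436224,4874472,6462421,7276855,3592748,1329185,5576420,7156863,3533440,4008520,3994914,756776,1660021,683425,5651422,7368203,4678822,1637587,4461608,1055256,398376]⟩,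
  ⟨false, 362, 318, [7223016,779739,1587038,2145011,1305891,2149728,4492581,2072619,6642421,4073945,89894,4528449,1009664,2312522,823332,3872920,1189788,6449680,879599,1806405,7695426,3873584,2695248]⟩,
  ⟨false, 371, 372, [5352553,5053531,7215851,5473694,4830959,470779,7222737,1625131,4854050,6810527,3808253,37527,5652405,5229120,6569025,5753664,7125132,4603268,8005762,7143524,1822793,6211621,71876]⟩,
  ⟨false, 368, 366, [197068,3175311,6362502,735615,6318115,2841388,5821084,3913334,7731372,4485773,4930053,3511295,3808253,3232009,2017897,719076,688123,6740929,6084351,62026,7814137,6550145,2571257]⟩,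
  ⟨false, 373, 374, [2880165,2934793,3053468,1405358,7285438,3970841,1642099,1243298,5930336,1437018,501719,6736003,4268257,5479361,7698943,1990761,3593153,798954,2922004,4015487,1734884,7462080,45161]⟩,
  ⟨false, 358, 372, [5223852,2121706,4679107,399805,2378601,6609022,3547496,6773253,6835515,3537024,7503806,801316,5482097,939614,4718592,5468139,5872708,5629822,4730358,1009040,5694977,6339753,5564286]⟩,
  ⟨false, 375, 376, [7276638,6660831,6369698,811630,1733107,5019302,7474367,2424936,4437176,8156006,7893544,6442263,2022386,5962468,4060438,859196,1632256,2991373,1009664,3005141,3888140,799748,1799884]⟩,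
  ⟨false, 360, 344, [7589649,7929445,5425570,5592820,759661,1036382,1723485,6316343,5023915,6327993,3835707,3818114,3084586,6698301,5083138,3949177,5166099,5800448,2001057,5116430,2029064,6418832,2271874]⟩,
  ⟨false, 377, 378, [7943087,2354065,1090393,7362378,7349355,5849439,7784227,951796,6500855,7118752,2988448,3554071,6550145,2020484,5720328,1299831,5438102,8165199,6130799,8272019,4778184,501719,2681623]⟩,
  ⟨false, 372, 368, [5614866,3389161,5067063,8008424,1906174,7949137,5473952,4168925,1874587,287122,3994914,230440,6084351,5326900,8058376,398378,3344441,2832513,6989100,1617792,8240059,4196352,4949032]⟩,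
  ⟨false, 379, 380, [4794479,6729945,7156048,2483891,443413,5925538,4946394,3715707,1438110,2779674,6374144,3749659,5166099,6966587,7200996,6655365,7804928,7035348,5767156,2185404,5039076,2019328,7333023]⟩,
  ⟨false, 372, 376, [3885713,7825689,2172083,3805542,935624,2518114,2334596,6411273,5402128,1059741,2445577,7934022,1228093,2889489,3321877,2253845,7960399,4794509,4930053,2172819,7785484,3188101,5967633]⟩,
  ⟨false, 381, 382, [6736232,3606728,2703937,5866992,7150192,658501,1811702,5052465,3877220,2067362,6569025,6667143,7764515,3643301,5940151,3258913,5242880,5477364,4268257,5026663,1687490,3533440,3546614]⟩,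
  ⟨false, 362, 378, [4781129,3776414,6117782,3698002,3839542,6108956,3012055,5855986,3583898,938031,3955850,480972,3302154,8087740,682266,4982149,7829256,2334321,8125623,3670436,3632012,7596040,4223884]⟩,
  ⟨false, 383, 384, [1085102,3526175,4076045,7785179,7757452,7249778,6208869,6511320,5464490,5886898,3083679,3384852,5823834,470535,3084586,6686797,5943015,7720633,2922004,3512692,8328324,7957252,3419777]⟩,
  ⟨false, 370, 374, [4577583,3444281,5567325,4236171,1333917,1322790,376861,3034666,7828029,8110790,3593153,3576486,1192032,814601,2189892,3595433,371108,359782,2445577,7749334,3632180,3873584,114733]⟩,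
  ⟨false, 385, 386, [3158756,7806059,745890,7301729,215402,2610788,1116512,5396600,5775624,948561,6895643,4069424,6622071,1182721,65536,3787076,4468384,7524000,5093976,3262443,1568415,6655490,2449034]⟩,
  ⟨false, 372, 352, [7472976,1728251,8340330,4979176,6657629,6352721,5123625,1112267,19604,3527869,3057538,4668343,1888799,3335134,493717,2846681,1732876,1484734,8310938,5961059,3532191,4144767,4234336]⟩,
  ⟨false, 387, 388, [577791,2506529,6574835,25462,3456548,4792145,1586691,863595,807067,7204892,5954565,8113046,1590376,3095803,1493368,7314797,2017897,5894078,5056559,8298484,1186925,4096,1598358]⟩,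
  ⟨false, 374, 378, [6761986,474687,4332746,6582907,3973576,8145974,2156139,523902,6128440,808737,7458816,2334190,819331,6902305,7467041,625673,2870680,1996835,6374144,3797643,5688579,8382467,4498470]⟩,
  ⟨false, 389, 390, [5741115,4648394,4954348,5374352,7877285,3263084,2027789,3104547,5569952,4688359,7714287,237895,8382467,5936297,1787578,2518250,5523719,4574970,7458816,7480489,6571177,8237393,4474025]⟩,
  ⟨false, 390, 360, [6519109,776943,3909286,3325626,2162095,3637978,4445407,7793053,3537363,3424294,5519426,338241,2525446,2797277,493717,1270897,7467041,6721829,6742014,2515386,6226115,4202496,3705153]⟩,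
  ⟨false, 391, 392, [4450088,7193448,2585230,1899965,5338465,4536281,2344686,4203380,2854296,5233672,3084586,6371967,3533440,41410,980225,4274007,7864059,2972400,879599,3066792,1223307,2019328,5474922]⟩,
  ⟨false, 360, 386, [3019398,3463724,5271336,5876234,2060380,822639,5191542,4100225,6921788,5396405,7859008,2229620,2512720,4088436,890880,1593803,2019328,6851445,5308977,267857,5224602,3873584,6676634]⟩,
  ⟨false, 393, 394, [6327981,2844463,3982467,416645,1649720,7629721,2732142,7707063,5146680,2937152,6418832,2613402,3935659,5504559,4307220,8245085,6715626,7658634,3057538,6887658,6267020,6084351,1623082]⟩,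
  ⟨false, 320, 388, [5073135,3273304,7939630,2058631,8201422,1997231,734949,4616766,5893884,268489,2191137,7198861,896548,7737911,2949192,2435124,6701612,1503334,4268257,7226841,4918022,6765000,2817485]⟩,
  ⟨false, 395, 396, [5607629,2923975,7315222,7545003,4565908,5989878,2975664,3971962,4636148,1029698,1590376,7194163,2988448,4947738,5438102,3249152,4060438,1844754,6655490,3825986,3236590,2422861,1848850]⟩,
  ⟨false, 396, 382, [15182,7822336,1028890,6118549,6541218,258446,1120283,6123064,1679225,1918527,7019261,4228161,6179888,600033,2964608,4382463,3477058,5531130,1194184,4996224,7589885,7714287,6163680]⟩,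
  ⟨false, 397, 398, [6254325,4657370,8016816,430322,891243,7233500,216670,4264438,224067,7146705,2787344,5050631,5712641,175457,6888832,6181680,3551193,6236458,4503572,7087817,3245334,7829256,5342921]⟩,
  ⟨false, 394, 380, [5530614,2994897,3485479,1260567,6495004,6390832,5501861,7668767,3570397,1989768,682266,5031579,1587522,5801839,799748,641053,4503572,6546499,1009664,4008520,2957392,4711918,2961488]⟩,
  ⟨false, 399, 400, [4044493,2078651,3359860,338022,4911247,508815,1038593,2510604,2985570,5774451,5954565,6009893,131455,2045259,2999069,942715,2371665,4959362,6765000,8334593,6667352,7859008,3315545]⟩,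
  ⟨false, 374, 398, [908992,5896234,6003309,6678847,5497537,6802927,2813727,5443881,1683370,2265059,2236247,4008520,4304872,676502,8125623,2366304,1055256,954915,4678822,3492404,4537661,4934208,6056264]⟩,
  ⟨false, 401, 402, [7169759,7621492,4952528,1410446,4726604,7907008,5609780,2647531,6299479,4885372,2019328,3678202,5797869,201694,7714287,3469133,2870680,2229701,6252381,82622,435561,234689,66238]⟩,
  ⟨false, 396, 352, [466520,3979495,2008673,1417683,5551768,1850278,5424459,4136076,5339083,4095157,3083679,597732,6211621,7352755,7084192,5658398,6339753,5960082,7200996,4780850,3565261,234689,2818483]⟩,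
  ⟨false, 403, 404, [6987677,5990059,5864331,598608,1503137,8287975,4392694,5903796,4696898,5186752,3533440,5273474,6067046,4110782,7084192,66304,6550145,4911289,8125623,7608386,1318947,7019261,7008441]⟩,
  ⟨false, 360, 396, [6720051,4599385,1971268,1265235,5088487,5602815,3050549,7396564,7892992,7956676,5075088,2613402,5997294,1386562,8005762,3919926,4662592,2058114,3844682,1387618,4998158,2525446,4385773]⟩,
  ⟨false, 405, 406, [7853688,7972945,2240756,2069272,217579,5959805,1175011,1530059,7331933,4234993,4468384,7665794,112629,8028276,4497343,7941124,3666108,6058477,7371220,3218451,3660060,5166099,7797245]⟩,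
  ⟨false, 320, 392, [7981597,5621920,5096397,3921218,469765,6908218,5440621,7745239,7142863,2851745,1730819,2788490,4317240,6420160,2949192,5958527,2964608,8246668,5797869,838816,1379540,6326818,5987466]⟩,
  ⟨false, 407, 408, [4844010,150022,6185261,6037324,7280723,2382986,7333658,40562,5608065,7890231,7458271,1777737,4196352,4938769,3555219,4942158,6617088,4476957,3339265,108776,6771297,5652405,2039881]⟩,
  ⟨false, 402, 408, [5718838,1588114,1100280,7559813,258215,7300828,5983355,630954,6563336,4632928,8382467,2407444,4718592,6966587,6715626,370347,3057538,7909382,2670301,401564,8187910,1222662,7925766]⟩,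
  ⟨false, 409, 410, [6719971,3585344,2921609,819672,6793960,2899768,3588027,2093573,6619208,3641371,5976064,8348163,2001057,5857268,819331,7139310,8382467,3404545,5166099,5242957,3618963,6569025,380050]⟩,
  ⟨false, 404, 406, [891594,6324960,7610905,4557300,3352385,3164993,6096871,8105569,1368507,5305461,4711918,6091827,4304872,2910331,7764515,4806694,2106048,7779257,5056559,2055746,8042511,1615104,2121789]⟩,
  ⟨false, 411, 412, [4771884,4193696,8089967,799168,2086447,2244697,2339491,1091693,2950911,7949112,1298885,4915476,3188101,7455355,5523719,7426060,2342416,7088212,2022386,6567694,1132614,7125132,3992148]⟩,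
  ⟨false, 398, 412, [4992013,3909218,6326173,4261048,1103525,8272064,1988949,1757836,640541,65069,5450664,3607908,1927038,1323883,5056559,7328839,2990610,7303271,5954565,7293989,3184166,430055,6505571]⟩,
  ⟨false, 413, 414, [5276801,153168,5664791,2984538,7284546,7250450,696904,1198184,2640964,5780934,3302154,2353351,8164366,6313787,8214189,5024619,7084192,8235136,5992532,7884972,3167016,1194184,3048232]⟩,
  ⟨false, 384, 394, [1189045,8025501,6338075,522170,1133167,6733970,3431834,4925650,3490848,4421977,310603,5081090,16384,5028868,5093976,3958274,2295675,2609150,2189892,2360496,3604753,4325376,6302224]⟩,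
  ⟨false, 415, 416, [718391,2407380,1505979,1701181,1566946,5547912,1289662,7423850,3445921,5081538,4662592,831116,8214189,1716308,131455,7621138,3534323,6829144,4468384,6874798,8340499,5450664,4724376]⟩,
  ⟨false, 400, 414, [7547440,2755589,2440489,476794,5315687,3988713,4428595,2318503,7942157,935371,1873870,3505159,7859008,1198733,7458271,7825989,3188101,5097501,6617088,3512517,1448117,16384,29253]⟩,
  ⟨false, 417, 418, [2226424,294430,8205805,8189643,4972407,6651887,576614,758930,6024502,6299330,3012103,4978682,7859008,2156705,819331,2832767,6090746,3786711,4362376,2553987,827974,131455,2576246]⟩,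
  ⟨false, 406, 402, [4157725,7604662,7158315,2591464,4427713,7553470,7585860,5613136,2882743,4341512,5536856,7605274,5823834,3656550,5652405,1746998,1549322,6029859,8382467,3485570,1058685,371108,2915319]⟩,
  ⟨false, 419, 420, [6580706,2562546,6106339,4175949,1444897,3875045,1999893,3192904,2813232,6852482,7019261,4074136,5976064,6970900,2339480,282717,7714287,7299824,4295720,6433903,3938356,1469168,3712383]⟩,
  ⟨false, 410, 398, [295635,1912226,1401997,3985405,5812062,109235,80150,664987,7590271,6526446,1755277,963043,234689,7699573,6432835,2419269,3593153,7233210,2295675,2545601,5245021,4060438,3469405]⟩,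
  ⟨false, 421, 422, [5641115,5443458,1872518,3968836,5425362,1309216,3941731,8166258,5010238,8003300,2022386,359782,6617088,7073605,4730358,7028231,7371220,2229620,6989100,2587421,3465899,4662592,7538501]⟩,
  ⟨false, 396, 414, [1317416,6305188,263315,5740056,507878,6584856,2382511,1187263,7560169,943587,1055256,6590545,1732876,5955003,8174802,3698802,3533440,5528831,6569025,5870589,7827183,3487943,5819611]⟩,
  ⟨false, 423, 424, [6990177,1732184,6238567,8026341,7201461,563598,3430033,4022830,7643562,4778258,4275903,6930180,1755277,5676801,7596040,4038230,2236247,4112024,2097152,6213184,796171,3817918,7589384]⟩,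
  ⟨false, 422, 402, [697777,6959037,8208949,3870450,6537400,6903651,2774206,7722840,4180709,6317401,89894,8081571,6418832,1074173,6090746,196731,5953586,3629224,4268257,3884255,4474892,4497343,3599099]⟩,
  ⟨false, 425, 426, [810734,8147098,7510669,6439247,3750359,7143429,1380755,5092095,990533,1049098,1192032,2873902,5083138,3585757,89894,4666297,6130799,6304310,7096846,7833148,7131270,7194238,7837244]⟩,
  ⟨false, 424, 422, [1572522,3438027,4544067,2132794,879141,3687734,66398,149637,3598495,2922699,1009664,4482795,7467041,5527540,5738538,1156155,7596040,6184662,6130799,1350911,3104655,5159971,4614036]⟩,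
  ⟨false, 427, 428, [1517050,4252797,7189236,5511329,5879268,3150082,143420,7979426,4337714,1941390,3817918,650225,7804928,4779148,3342470,1351428,7503806,6999922,3873584,6265973,846201,1349985,4667765]⟩,
  ⟨false, 320, 414, [5763142,4391936,4759428,3167325,5922921,6654026,4925922,3475062,4714094,5225807,8040081,4740133,501719,7580895,1228093,6807793,2988448,2037808,1787578,2222249,4834457,2025723,8365209]⟩,
  ⟨false, 429, 430, [6256203,6670343,218273,1254231,7631716,1145999,534114,3148021,7256912,894183,3083679,2914868,131455,6557646,8125623,1706084,6548989,6785511,5997294,693211,1330591,7714287,2491855]⟩,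
  ⟨false, 422, 430, [2500747,7779755,3024369,6436527,261062,1462558,5582226,5308742,4144601,7158379,6420171,7937918,8382467,2611425,8376393,1550987,6252381,5862739,4711918,387905,1194301,7467041,2476417]⟩,
  ⟨false, 431, 432, [1597170,5156813,6603531,8070094,1198538,4115611,2250720,5350457,4147194,1465212,310603,5536898,112629,1308880,3477058,911356,493717,4299253,6374144,2466212,8193531,7200996,102901]⟩,
  ⟨false, 418, 426, [4545994,2836309,3387443,6175989,3284500,5153405,2389750,5050505,914394,6353354,6025424,1991497,5823834,6195288,2949192,876138,7194238,7647307,890880,7947628,147662,1009664,4452134]⟩,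
  ⟨false, 433, 434, [8002110,5930108,3352776,1608386,6347627,377458,4988666,7443764,1369660,4190122,5519426,3587682,688123,7031237,7864059,1597003,5933328,6298146,1787578,4117142,5647206,7371220,126185]⟩,
  ⟨false, 410, 416, [3365159,606976,4929653,7082638,5170020,4973317,3595570,3084757,2013034,5696800,5720328,4319464,6715626,3807288,1493368,7180641,1194184,3395108,1684130,2148361,2122944,16384,6416616]⟩,
  ⟨false, 435, 436, [5608486,3714283,3280900,6412802,1144388,6520664,7459864,6653278,2021119,6017036,3882592,4845968,5242880,3786820,5308977,3901755,4503572,1630720,5954565,4978682,359782,7864059,3770436]⟩,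
  ⟨false, 434, 432, [4955577,5862239,5704105,346072,4033877,7836618,6508613,1907676,7253890,7842132,6622071,3410213,2999069,2097100,6617088,4644009,5752719,5245127,2022386,836193,3627121,980225,5551500]⟩,
  ⟨false, 437, 438, [686072,1058525,6283390,5612467,7841340,3024303,360096,5960938,3088009,4872576,4096,8094605,1755277,3874176,6166628,83609,7714623,4095293,6569025,6770591,6995727,8058376,2609055]⟩,
  ⟨false, 428, 414, [6426056,3406122,7431851,2951984,5492270,5390491,3292708,1660065,8255963,5137153,5523719,1060674,6749282,7815762,1228093,3346357,2371665,4313420,890880,1707751,7020995,2022386,6772810]⟩,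
  ⟨false, 439, 440, [4055127,1717552,5660176,4945406,6057693,5223817,5238507,4334075,821869,1111145,6715626,5910134,3743044,7262078,7957252,1292158,4698144,3657012,1493368,3561758,2122860,1756188,878462]⟩,
  ⟨false, 426, 394, [6993200,4966173,4839256,4868393,7418366,5858355,3799621,5263399,2599298,3050408,5997294,1108868,1615104,3980075,3743044,7987012,3625611,3795486,4730358,187065,7324229,1684130,6371140]⟩,
  ⟨false, 441, 442, [2847711,2571396,900184,1711211,3288547,1652879,1623485,5458860,1028256,2004942,2949192,7756017,112629,3872816,5976064,2916205,2236247,6223958,3625611,637203,1654447,1228093,6586221]⟩,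
  ⟨false, 442, 410, [5380740,3828157,1307845,7673105,783839,5726456,685967,7886461,3363668,656951,2025723,8376823,6548989,5572132,3533440,2956612,6749282,4869168,5438315,7308139,3898498,112629,7557492]⟩,
  ⟨false, 443, 444, [1324714,102298,6846680,4253698,7881416,2906990,4349282,22178,1806350,5124268,3533440,3526688,5165700,5185359,6888832,5140475,3084586,1590269,2001057,1980616,3173844,5159971,7880738]⟩,
  ⟨false, 414, 444, [7103236,4744831,2287567,3757014,2002862,3778165,5408806,2397003,4437176,2755152,3628909,6892210,8125623,6932106,5933328,1107122,4468384,2398375,8376393,2263780,1747337,5767156,6174262]⟩,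
  ⟨false, 445, 446, [2987741,1101095,2226914,7219705,3569973,6248507,7241212,1189135,2227523,604208,7864059,6744766,2158646,1723534,5651422,3681022,4968460,3446265,5132382,6641887,5090929,7125132,1517409]⟩,
  ⟨false, 446, 440, [8378553,1554995,7944159,6895224,7360390,1950784,1362642,1798461,860093,1140298,5093976,6179437,7859008,7922866,7458816,5707030,1732876,2162948,1787578,2202601,3381509,4930053,8211734]⟩,
  ⟨false, 447, 448, [7523429,4556262,4560728,7870534,8047038,5956827,5820768,1158582,6338634,2381508,2922004,3120441,5450664,3867440,3342470,1712581,2017897,2584353,8040081,1122921,913922,5519426,3634489]⟩,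
  ⟨false, 438, 432, [6382143,2207340,2586579,65081,4909484,6860704,7554634,3649347,2946567,7170176,6742014,7448959,6550145,7228096,5940151,4095293,3555219,2735041,7945179,7406871,6031255,1493368,6941975]⟩,
  ⟨false, 449, 450, [8075672,7550866,2138100,5025140,2816258,6283561,628391,1285676,303978,2111699,1194184,7096334,6084351,6166799,2775040,4381950,7859008,7936539,2025723,3427371,2148746,3593153,1385226]⟩,
  ⟨false, 241, 451, [2559309,2264325,110037,2589195,4553344,5310604,4978300,7939309,7040439,3262720,6374144,664503,5308977,4078529,2949906,3428448,6326818,5896818,4662592,3736132,4996781,1009664,1700466]⟩]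

/-- The program. -/
def threeCo3TailOps3 : List CfsgLib.Rigid.Op := [
  ⟨false, 186, 452, [1069726,5965442,7119303,1151859,7885313,8171912,186261,1510769,7858162,2578190,5450664,4316962,3551193,7357483,5159971,7922416,8208834,1202225,3563520,2048925,7156088,7371220,100852]⟩,
  ⟨false, 221, 453, [8062121,6652110,2153928,164242,7726653,2361606,280909,345377,7741331,2251245,1927038,7756171,2512720,2300033,1814673,2138157,6090746,1094689,4196352,3528008,3079425,1615104,4850945]⟩,
  ⟨false, 241, 454, [825938,7424094,1440302,4977939,6765910,6553893,5737713,6705197,4235199,4781311,7092497,6181999,7096846,7712176,6888832,5941631,2189892,102924,1927038,2982399,1634399,3844682,6239]⟩,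
  ⟨false, 221, 451, [2939194,1940932,6108490,4189453,5668805,6977810,4135661,5100650,8284092,4502146,1055256,6560395,7462080,5273474,2019328,8063128,7960399,5984976,6025424,2996444,7222661,2191137,966567]⟩,
  ⟨false, 451, 456, [675001,2345160,4914435,6883973,6408712,7804159,7342936,518971,1626483,739730,5651422,8028992,2422861,4945855,4662592,2098789,3342470,6885461,5631351,1770584,2892306,4934208,2992193]⟩,
  ⟨false, 451, 457, [4746269,6966165,4252562,6561597,3949276,5694204,2369575,6286515,5305420,3301032,3666108,2211473,3188101,3346550,4468384,590392,5823834,4475030,4503572,6786787,3905629,4202496,6930065]⟩,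
  ⟨false, 241, 458, [4932148,3160079,716174,2850006,7547806,1163253,2305320,4180716,787493,5434478,501719,2055746,8310938,3056708,1590376,6536296,2106048,3554369,962531,262478,1657408,4497343,8222209]⟩,
  ⟨false, 451, 451, [2517759,7599143,4046315,360703,659977,4977749,738186,6138220,5200859,6335420,6418832,5259527,1192032,3560794,6374144,5639780,6617088,4088436,135520,4692001,1751185,4096,840289]⟩,
  ⟨false, 451, 460, [6438105,183051,7397285,2159471,404720,3089525,1604099,2543243,8091966,8213002,234689,3375124,879599,854197,5953586,8042511,3873584,5098532,7804928,5480468,236044,6084351,1277972]⟩,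
  ⟨false, 221, 461, [5412419,3252728,442228,4512750,5288057,5096062,4472030,6884596,4262384,4811475,7804928,7097386,4304872,367649,7512823,5819526,5523719,3570696,100947,6226963,1119309,7462080,6243347]⟩,
  ⟨false, 241, 462, [2332209,5633549,5026152,4698673,7597617,3455768,6103168,2693013,1964441,648491,7957252,49052,6548989,3675437,980225,1200104,6339753,591709,6989100,7314797,6411573,1660021,3777240]⟩,
  ⟨false, 0, 269, [7903164,7541258,2521242,3517039,293789,3435407,5277683,5138951,3200702,5580581,1660021,4761874,2990610,5100754,3882592,7696407,7945179,2866716,2988448,24952,2248527,1888799,6646287]⟩,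
  ⟨false, 247, 464, [4049701,5525873,5297162,2376276,3668102,1540441,6900589,7657871,3763832,5621765,7200996,46941,2422861,1826433,3084586,1373265,1037817,6342848,2787344,7400927,1524792,2970876,5661913]⟩,
  ⟨false, 1, 465, [1552739,4122194,8288396,7925553,5307692,54151,8304823,2010350,4219781,1996146,135520,2880439,4678822,781318,4362376,7525974,501719,6284565,2922004,6786031,2952837,5652405,7422615]⟩,
  ⟨false, 1, 466, [6082571,3952157,1784036,2113046,4993444,8194106,6611519,3402220,7491703,4076044,7092497,3171966,4317240,5955884,234689,5360184,3835707,3969842,896548,4368830,5931043,6622071,7815998]⟩,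
  ⟨true, 467, 0, [67577,481138,6699514,4486315,310480,443892,4776285,2005857,8261976,1865710,6090746,7647318,6067046,131444,4730358,6432840,929906,3889507,8214189,4430767,6969036,1009664,6302007]⟩,
  ⟨false, 11, 49, [2723776,5984044,2125627,5645519,1740129,3721140,3806124,3807880,4994457,7819449,1206565,5038599,3342470,7840020,1493368,6303877,6179888,2177016,4317240,3491531,4895861,3994914,7333244]⟩,
  ⟨false, 468, 469, [3975347,5902604,5185692,6355293,6935020,4780590,1645076,7554836,8248422,1984,7371220,720480,3121716,3249417,135520,4748871,7200996,7419039,4096,701421,5576737,788550,445028]⟩,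
  ⟨false, 470, 470, [1340365,5632676,1337282,4852404,7929521,6624432,3269068,6966298,6488583,6815602,7893544,311078,890880,184492,7512823,5284599,8125623,1016456,3121716,6407154,7283816,816649,3109566]⟩,
  ⟨false, 247, 471, [3712498,6080853,917416,7036356,744389,124085,6387860,6208541,3187331,2832512,8040081,4994930,2022386,3594075,5797869,2562001,3994914,4386070,2512720,5039923,2482090,5823834,1191702]⟩,
  ⟨false, 470, 472, [3574456,6780766,7275366,1257646,5579819,4687847,2378911,8266599,3476034,8249753,65536,8246300,2949192,3594371,7945179,911396,1615104,7845755,3012103,4039592,146632,7462080,7210457]⟩,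
  ⟨false, 470, 473, [5777044,164163,2471864,1672848,3243184,5565479,2586644,1077959,8196667,7893076,7200996,7024096,1222662,5435680,5527551,1154549,2878768,2524228,6749282,6367201,2039883,4662592,2305504]⟩,
  ⟨false, 470, 474, [5061841,3882261,558625,1103235,13756,3398866,2155888,720287,3170270,7775447,8125623,574529,4325376,4429960,7458271,6324617,4711918,1251778,6211621,4526624,7184456,4138160,310728]⟩,
  ⟨false, 247, 475, [6749756,5487254,7629508,1505446,7339730,6025218,4672791,6501093,4005553,4612781,3994914,5211217,310603,976048,5976064,6282825,3339265,4045807,6418832,1382484,581905,3882592,5227601]⟩,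
  ⟨false, 247, 476, [7024493,1708214,3983122,3981204,4494549,3895728,2906097,5250038,479070,7716694,823332,5629822,3835707,7515004,1814673,5015334,8058376,1487534,89894,3720303,5191503,3084586,923566]⟩,
  ⟨false, 247, 477, [3999379,7387916,3194468,1126845,3069129,7889675,531549,3579143,7961616,7184059,5308977,2967690,2025723,6715381,1684130,329931,5738538,7858274,7092497,7910510,3606586,4503572,4961512]⟩,
  ⟨true, 478, 0, [2506522,5435564,6476855,4538288,1818305,3473478,5187737,1301139,4944558,8157394,89894,7440298,4362376,3446025,5954565,1628677,3083679,4092065,3344441,6752897,3066417,5523719,7682785]⟩,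
  ⟨false, 470, 0, [5406774,5891015,4838261,5035174,7354025,6188854,6322506,7234001,5788922,5891889,7458271,2713680,3628909,318212,5159971,7023232,7864059,449124,817545,5576737,705058,6622071,445028]⟩,
  ⟨false, 1, 480, [1118764,2980971,3949350,2140216,7080403,3066665,1604745,313158,2986973,2430486,879599,8135237,3534323,2818148,8164366,4532245,7945179,3154293,3342470,4786439,7614796,5438315,4667765]⟩,
  ⟨false, 1, 481, [227489,4158938,6082681,8164289,2795275,8059075,5218514,1548604,7870391,1969769,3817918,3166322,1888799,8052772,6339753,1528678,6292447,5048951,6989100,3592239,2724065,5623007,8088183]⟩,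
  ⟨true, 482, 0, [3945590,77478,262569,7116822,1827487,7100380,3679330,7616778,2739354,8169558,100947,7128066,7714287,2223269,4295720,2592249,6888832,3429953,7125132,5023715,94967,8125623,3007715]⟩,
  ⟨false, 11, 2, [5155808,7020438,1727586,4630936,3063119,304090,6710742,2410820,838963,104355,3628909,7151356,6432835,1475722,3666108,2314173,1055256,2170876,1756188,3442842,1712581,8040081,3745470]⟩,
  ⟨false, 469, 484, [6466641,1340455,8133806,7260053,6411057,8059695,7165724,1132526,4221836,5533158,5631351,3615109,112629,7293822,1349985,7814649,962531,6315923,1732876,3575783,7125012,3835707,3835809]⟩,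
  ⟨false, 483, 485, [1479571,2939375,1988541,2576510,3298323,1947623,833219,3469421,6849557,4303205,6084351,6526437,5093976,7685668,1228093,1918500,3625611,576075,2949906,2397732,7795900,5712641,5588516]⟩,
  ⟨false, 479, 486, [3299772,65102,5640566,8060344,3313995,7513605,7325556,423116,43432,7491204,5450664,880828,8174802,6525937,6989100,2484886,2025723,5647206,5308977,1570870,2953851,2990610,3660534]⟩,
  ⟨false, 247, 470, [1733116,4872481,4967687,1034181,6714539,7788782,376299,3980811,1354582,5102198,4934208,6718518,2512720,4372690,5992532,748056,1024,1699566,4730358,7494999,3379583,6432835,7478615]⟩,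
  ⟨false, 247, 488, [1098788,4797563,1741622,7301340,1730145,236118,2262945,7641387,3232800,1457208,6701612,909003,6895643,7247343,962531,3066417,5132382,8321369,4698144,1637535,5920826,6252381,4394063]⟩,
  ⟨true, 489, 0, [456336,4370730,7148728,7386818,7222704,8290679,7631450,4745179,7063877,2908005,2607539,2725847,2787344,4334635,1755277,880828,5132382,5866008,8164366,2431369,2352204,310603,7609272]⟩,
  ⟨false, 470, 126, [5404186,6812804,7226754,7707325,440271,7846484,7995257,5125274,3077316,382965,5940151,6326344,5997294,2738171,4698144,5322128,3121716,318212,7200996,449124,5576737,6622071,445028]⟩,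
  ⟨false, 470, 491, [1935150,935967,5748634,1970832,654057,2117062,1043770,3370326,7785318,4022632,5738538,3254604,5940151,6398010,310603,3618518,890880,6148169,8125623,53386,7283816,112629,3109566]⟩,
  ⟨false, 487, 492, [3117584,6020742,5695073,513227,7733205,2533634,4596693,1314450,4920747,3580201,5438102,1495899,5075088,7921088,1222662,2815489,799748,5655145,4497343,5211218,4417006,4730358,5115393]⟩,
  ⟨true, 493, 0, [7447419,6276545,2928300,342141,6126023,7855563,1934799,201839,4393369,509890,7804928,5908522,3555219,3827700,2607539,1077159,7019261,369170,3012103,8067276,436486,4503572,4724810]⟩,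
  ⟨false, 485, 51, [3479953,932595,1461942,2059382,8294967,6282731,6436193,2979282,263581,7618084,3955850,2704673,4295720,3830824,7458816,2217781,2422861,3122864,3625611,871182,4461608,8125623,791592]⟩,
  ⟨false, 494, 495, [273691,1615936,7936070,4860897,5291629,5985776,2797773,8053193,2080668,5907383,7458816,4267199,7125132,1230766,6326818,6964462,5056559,1018306,4138160,7506148,5647464,2236247,6630638]⟩,
  ⟨false, 490, 496, [123852,1330399,6341479,6342547,99765,3527958,3849014,6019490,8019807,6248048,2106048,2075470,3188101,6583306,4468384,2931706,3084586,8377668,5519426,108418,4511298,879599,1285962]⟩,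
  ⟨false, 487, 497, [363754,886717,6162311,7518639,4885285,4937144,1239402,1045981,983306,818687,5623007,5837026,7829256,1562756,6130799,8228144,5712641,6354031,3583001,8378266,1800121,2878768,392984]⟩,
  ⟨false, 497, 498, [4728786,4026566,5676469,4443796,3080618,6505614,2749227,156413,757693,4206574,929906,631160,2870680,3975994,2371665,8229253,819331,1595255,7714623,2929954,969776,2191137,3977018]⟩,
  ⟨false, 487, 499, [3776776,1209370,3690090,8304560,3007263,4281265,3983653,1729211,957429,5239298,2158646,1756544,2964608,4558881,819331,5553033,5751727,4618633,4060438,7358443,4321921,5652405,1489801]⟩,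
  ⟨true, 500, 0, [4406912,7821783,8077729,3924653,7534029,7265999,5924403,1952712,1623938,7064111,7096846,1576315,3121716,661509,3012103,2028709,8237393,964261,3084586,1575184,5570088,430055,5125797]⟩,
  ⟨false, 247, 247, [6755008,7697556,2086647,7634954,7864988,939151,413890,170241,5353991,514115,4497343,6827698,4698144,626850,6749282,7493983,6550145,1091977,4138160,6594558,6977636,5523719,2764466]⟩,
  ⟨false, 497, 502, [1350120,2836752,4626368,5646867,6196214,3182884,2771048,515302,2754643,7107480,3873584,6307085,5954565,4778172,3012103,1711603,7804928,5443678,6765000,862245,32581,5752719,816899]⟩,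
  ⟨false, 470, 503, [501799,429402,7849466,1503776,4807140,4508352,5140819,3414114,7013139,1831825,3593153,57279,4497343,51408,6749282,2859464,6701612,6661951,7714623,6771297,7465076,3339265,8232573]⟩,
  ⟨false, 497, 504, [1253872,865762,5082997,3800311,1581619,962040,8250414,2730459,8303808,5719951,8382467,3707544,3873584,1562933,3012103,7290283,1814673,639638,8237393,4151344,545057,2878768,5464353]⟩,
  ⟨true, 505, 0, [4206498,4786265,7511494,7336695,1338117,3991766,3453544,3381094,1490138,880224,3817918,7899152,4503572,6015997,6569025,4296232,7096846,2319787,7864059,5963771,3014238,3628909,7822825]⟩,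
  ⟨false, 487, 126, [4736010,1072575,5074485,3357385,727886,9207,7212165,3154547,4493247,3899469,2445321,6864299,5954565,4039949,2022386,2993146,8174802,6127578,2025723,6740167,2953851,1684130,3660534]⟩,
  ⟨false, 497, 507, [180196,1026384,8185084,857017,7706389,6366054,3264166,6937425,769717,997813,6548989,3771319,3121716,2123280,5075088,2372079,3994914,3396609,6130799,6720722,6526437,3611780,7614959]⟩,
  ⟨true, 508, 0, [6732778,6431093,2583383,4080013,6712240,3599833,1896796,4843275,2931347,5920824,5450664,3495935,6067046,1786094,3844682,8305239,7698943,7170043,5992532,4580203,7987129,5165700,3760057]⟩,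
  ⟨false, 495, 11, [2315152,2664242,3300471,1269435,2979081,1636445,3341906,1686514,7676689,1731070,7512823,3830824,7458816,2217781,2422861,3122864,3625611,871182,4718592,7858335,4342902,4325376,791592]⟩,
  ⟨false, 509, 510, [6921148,7972169,3516736,1599118,8334042,1024868,8205989,5515501,5056816,1558384,8058376,3766163,6531072,1554391,4216534,4044788,3882592,6946417,8174802,1378086,3441847,5519426,1673125]⟩,
  ⟨false, 506, 511, [1482851,7773859,4314801,1583561,1330007,1670834,3745335,6853610,2845187,868310,7764515,5772274,7200996,177651,4730358,7978979,5767156,6278950,430055,1090790,7749334,3611780,4627283]⟩,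
  ⟨false, 501, 512, [6384300,5523838,6977801,7951378,5942491,5258776,6904926,7807776,904962,5315010,1888799,7516458,6895643,3052563,6765000,5828356,7859008,547200,6179888,603076,4102094,3344441,2700228]⟩,
  ⟨false, 513, 497, [3616058,744559,2032492,8209863,4766495,481249,619489,3924407,822301,2059693,5438102,6323772,1493368,5582206,4295720,7119866,135520,4765594,4317240,6487766,5328862,3084586,394966]⟩,
  ⟨false, 513, 514, [4642444,626541,6341479,3357175,7177972,4247606,2994254,4552726,4790441,6881689,5738538,1862418,3321877,5738918,4275903,6166799,5623007,8377668,3955850,3113372,3568823,135520,6372799]⟩,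
  ⟨false, 497, 515, [4516725,1443051,2714244,524830,148565,749710,2194541,1239118,1904578,7431450,980225,1996835,3057538,3110664,7512823,4061695,929906,478296,7893544,297991,4745265,3817918,5947447]⟩,
  ⟨false, 497, 516, [1978119,7259782,7888918,4930668,4310796,920906,230780,440837,5371458,8002049,5083138,4305570,2445321,8200978,1192032,2759251,6569025,2400786,4275903,3302978,1604163,7503806,37443]⟩,
  ⟨true, 517, 0, [8342583,5601150,3453073,6214250,3724295,5453241,3827825,872003,4321336,3748139,7764515,6558096,5438315,2654475,2922004,3905912,1730819,2986260,8040081,3500363,4126396,4138160,6930356]⟩,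
  ⟨false, 497, 470, [3236033,6538720,2680845,8232410,4628219,5289808,8093315,2794772,3994820,6572411,3083679,2983885,4930053,4320056,3817918,3302421,6090746,5126002,3188101,7749926,3627121,262144,7088165]⟩,
  ⟨false, 247, 519, [7573540,3074455,6892011,6740644,3988722,87792,5029066,4445927,2361413,3634794,6084351,3897126,2607539,3635367,2019328,5700008,5751727,3528571,2988448,402081,7275712,4468384,6400803]⟩,
  ⟨false, 497, 520, [4451975,6358089,1056020,2300817,3859924,7462024,1313449,4572349,1926014,5844850,6622071,5001263,8310938,5862688,3583001,2875373,6655490,1314016,6292447,8331268,5959519,2949192,6550043]⟩,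
  ⟨true, 521, 0, [1418767,5623920,302381,3848175,7815933,7046971,4376039,5619042,708225,4883534,2445321,3134630,3808253,3619106,4144767,6398347,1222662,1850884,4060438,1795350,4820487,7096846,3565060]⟩,
  ⟨false, 247, 11, [3787067,6018292,553936,2310174,7136981,809913,7508600,2819517,7218281,928268,799748,4194904,6025424,6207503,2189892,2664371,4468384,800824,1469168,8117623,2196216,5482097,2890488]⟩,
  ⟨false, 513, 523, [7670420,5606770,3253089,3558287,6163723,1218192,5677537,5988980,5638013,4274068,6715626,3313297,6130799,229009,2999069,4511236,4295720,1156103,1469168,6028177,2141200,5308977,4415121]⟩,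
  ⟨true, 524, 0, [4896724,1878444,5158559,6221387,8366366,1388968,4313096,4982413,194462,5927819,5165700,296084,6067046,7950722,1730819,5113482,7864059,2181312,7019261,2597250,1364880,1222662,3764610]⟩,
  ⟨false, 51, 0, [491428,1581768,6325412,3236038,1487052,670515,2922709,7660520,1759498,4366091,7714623,4485139,5383884,6950166,7019261,393742,6432835,972290,1055256,2353826,1712581,2775040,3745470]⟩,
  ⟨false, 510, 526, [1205525,3541305,2101175,231264,7530897,4318101,972105,2191423,3590058,6299583,929906,1469179,16384,4115515,5157196,5670670,6420171,541015,2990610,5990662,5659012,5767156,2912518]⟩,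
  ⟨false, 525, 527, [6368926,3447688,4082911,5900160,4986770,826303,8168413,7742208,1400945,344176,8376393,847923,1730819,1562933,7092497,3363148,3935659,1699566,2607539,7069971,2476370,5933328,3231795]⟩,
  ⟨false, 522, 528, [7780578,4398989,3454488,4723893,3725520,2461702,6837982,4528882,2454116,5137230,3339265,2727570,2342416,3575257,3563520,5789229,4711918,8314924,2990610,1803211,5817767,4934208,7273012]⟩,
  ⟨false, 518, 529, [2868288,8287975,1299168,5571820,1748197,5719774,6435720,987908,7197476,7488130,4718592,3338569,5943584,1082130,5438102,1383745,7859008,844371,2949192,3993754,152854,2158646,6015314]⟩,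
  ⟨false, 513, 513, [3401133,7669026,6063343,4604638,422409,5016124,7345535,2567688,7978739,3948409,1228093,4414153,4662592,3056708,6569025,5708269,5450664,1011487,4934208,1156155,8024408,1192032,2272258]⟩,
  ⟨false, 530, 531, [1989700,3105895,3961646,1425375,3516561,1354557,3847022,3919192,1086208,5054000,6701612,8116252,5940151,105868,3083679,6124108,1189788,4466916,7096846,7699573,1179322,7467041,2952088]⟩,
  ⟨false, 513, 532, [194059,2654804,3275134,5774123,7084013,4199031,3237468,7192735,5477905,5601119,3743044,4190986,2001057,4300371,7596040,3984889,6749282,1008290,5157196,2826382,6213682,1730819,6889614]⟩,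
  ⟨false, 513, 533, [7446361,6964407,5888675,4555239,5799452,2983515,6213423,981175,3132543,4942889,8058376,2941867,890880,5678651,4307220,674299,3611780,4402539,2025723,5986923,4241172,3935659,8007727]⟩,
  ⟨false, 530, 534, [2233469,5589059,4359647,387626,2714968,1154369,2239368,2535253,4956785,867940,2878768,2168342,1787578,720638,2445577,1947342,4730358,1221155,5943015,6512301,5900674,8164366,4681468]⟩,
  ⟨false, 530, 535, [8153274,5569980,200102,3213523,1256324,6604690,4974192,2188636,7336441,146909,6989100,4251702,4497343,2956987,6374144,5546770,3012103,8101869,1615104,3510172,4704515,5738538,2168573]⟩,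
  ⟨true, 536, 0, [1233595,8270,562837,7380256,1343661,3960943,6095789,3076659,6459500,2508486,8164366,7252904,816649,5953032,5383884,1667624,4275903,2860534,2017897,6681783,3953909,6701612,3263733]⟩,
  ⟨false, 530, 497, [1370275,6534723,5265924,2835027,4049594,3654425,4240969,8008298,5221924,3060994,3084586,1753352,3534323,2982787,3583001,4782020,89894,5959944,1055256,5538134,5085184,2097152,1757448]⟩,
  ⟨false, 530, 538, [4663215,5430441,177881,6986849,2777498,4765251,2250631,7276886,7899445,3762183,89894,5076928,5075088,1492704,1590376,4427751,2106048,6065312,5767156,1665283,4231144,2158646,1558240]⟩,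
  ⟨false, 513, 539, [6770185,1594350,408650,1895801,7770675,3077981,6106446,4212755,757693,1507673,2445577,7817489,310603,5561865,817545,2998344,5438102,5327607,131455,4439915,7633985,8376393,2307401]⟩,
  ⟨true, 540, 0, [601885,7179827,2362223,3691047,6181258,4075567,4033715,7102815,1299909,8417,4307220,5218480,7084192,184492,3563520,2632297,8237393,3326133,3817918,6537378,3426204,4138160,4403348]⟩,
  ⟨false, 487, 247, [4390113,5238060,7603638,5915202,457928,141613,2211357,700703,5474980,6474024,4216534,5662159,6432835,6438901,5157196,2353113,8164366,2689975,6130799,7237486,5117070,7714287,3908529]⟩,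
  ⟨false, 497, 542, [3855131,6955655,5202307,1881335,2721114,4876145,3845571,6842814,6620273,3756591,788550,7490120,3533440,1794643,89894,5613120,2607539,236115,2371665,1393185,6734594,4325376,1798739]⟩,
  ⟨false, 470, 543, [5576878,1706414,4922198,1795203,6597395,4717160,5294902,6519739,1301111,1205674,816649,6284565,3583001,6721113,1756188,3057135,1660021,6786031,6179888,5154040,1461040,7864059,4795501]⟩,
  ⟨true, 544, 0, [1065826,6606044,2939113,4960400,4734570,6476722,5960006,8344260,8293208,887279,6326818,6013653,3012103,3294174,6550145,5029945,100947,5894078,823332,4596547,2400417,2607539,4303830]⟩,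
  ⟨true, 6, 0, [6853371,503332,6305308,5349388,8190749,6889296,7602952,4082196,2807066,2785680,1756188,524288,7804928,8232960,16384,1048576,890880,5826560,4227072,6291456,1781760,7458816,4194304]⟩,
  ⟨false, 527, 11, [5970285,146795,3077126,3956567,8167100,7424621,4229262,2987404,6989450,6256398,112629,4115515,5157196,5670670,6420171,541015,2990610,5990662,8005762,8097522,4221350,6749282,2912518]⟩,
  ⟨false, 546, 547, [8361385,4835725,7214116,2642496,5180869,4301091,5272096,267522,3969456,563362,5943584,3898498,5083138,8386722,6432835,5072844,6339753,5696802,6179888,7331577,3143782,3882592,1500450]⟩,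
  ⟨false, 545, 548, [6902158,262188,7752130,7902943,1017594,5666102,7738994,6007685,251919,367106,3533440,4308491,1009664,4332624,7893544,680147,4730358,7264586,262144,1314016,3042380,817545,7647305]⟩,
  ⟨false, 541, 549, [3571350,1583321,1483801,5864486,1774393,6084135,6107331,7089202,687099,2214980,7596040,2796012,7200996,7351324,7698943,962035,4711918,5317270,3817918,7324229,5183978,16384,3670506]⟩,
  ⟨false, 537, 550, [7160494,6873930,4244594,732631,3220721,5063412,15115,5015845,5882887,2851561,980225,5244621,3873584,5224602,879599,2777963,8237393,193076,5953586,7110383,2037808,5383884,6442653]⟩,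
  ⟨false, 551, 531, [2792539,8030650,2154113,4329901,7081939,3309743,7425816,4610547,2128884,3783902,2019328,8004692,6252381,5088172,2988448,5066705,6622071,5828447,501719,8088999,6013653,2371665,204687]⟩,
  ⟨false, 530, 552, [6133489,6998691,1163854,5574291,2987927,7367491,7779650,5782146,2506794,216130,135520,8040484,3342470,3759843,929906,5636240,6622071,3969842,3533440,7732111,6576721,1349985,5812083]⟩,
  ⟨false, 513, 553, [4107117,1380727,625595,1693092,1088109,2038158,4321970,5896560,8324917,4979997,5623007,49770,3882592,3759843,3083679,7093825,2191137,6896225,6418832,670596,3884255,7764515,832611]⟩,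
  ⟨true, 554, 0, [6608077,3431178,3624361,6452981,1635993,2068226,2456216,4703618,4460720,751697,7467041,6216896,5992532,1045509,5519426,3379318,2191137,5027330,5083138,7409241,3563176,6339753,7199814]⟩,
  ⟨false, 513, 487, [1713524,6895624,7911497,3863925,1897972,1857244,4494158,6750218,5721109,6941861,3583001,7249292,1206565,8196083,4138160,3930866,5953586,4591730,5943015,2162788,263177,3808253,7600882]⟩,
  ⟨false, 513, 556, [639760,2665033,3215153,872274,8264535,8248458,3425808,1497185,7257977,3656718,65536,7563418,5976064,1524509,6989100,6318108,7096846,2201996,5166099,1570870,5939345,2949192,4220956]⟩,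
  ⟨false, 487, 557, [403728,2391563,4229720,4432793,1929223,8300325,2679571,3899445,8094774,2389995,2025723,3475730,5954565,46574,1055256,17152,6622071,5070267,4711918,8330116,1826433,6326818,3006738]⟩,
  ⟨false, 513, 558, [6116176,4119806,1626303,4824470,6409313,1497138,1581291,2257041,2273944,1041328,5953586,5612298,2445321,490258,5767156,3927816,2191137,5622967,112629,5661919,3656550,6622071,128245]⟩,
  ⟨true, 559, 0, [350897,3342284,3257816,3092349,5533563,3248541,5012704,4439549,1619200,7349012,1189788,4271512,5992532,2654475,2922004,7782732,2445577,6487766,5751727,2911532,2242279,3084586,8104611]⟩,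
  ⟨false, 470, 471, [5101992,2023645,5988918,7008508,1406437,6983152,7821834,5958201,4163770,2564747,6374144,839382,682266,40311,3534323,4772138,1873870,5093464,890880,4321673,7096334,3844682,2224726]⟩,
  ⟨false, 247, 561, [8006305,7414148,202158,5582823,3373888,1643452,2801110,3068608,6283350,6221851,5940151,2382834,7458271,6410197,788550,7851755,6742014,5657583,2022386,8039676,4652809,1493368,1160705]⟩,
  ⟨true, 562, 0, [3335136,5540447,2531690,3447849,4170280,1871554,6215135,2281573,3752596,855100,1549322,83949,6252381,2648195,6166628,5439843,2191137,2623325,1660021,3452274,7154250,2525446,8361847]⟩,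
  ⟨false, 497, 0, [3210482,3541265,4036468,622401,6245781,886142,605480,7852979,6545183,3073023,3295312,2308815,7859008,5747178,4138160,3968608,7096846,4695816,1194184,4511298,2028709,1660021,1285962]⟩,
  ⟨false, 0, 564, [5690907,1370658,4689640,5722493,4133674,1715459,5701039,6104934,4909505,6569985,7084192,7393889,131455,365611,135520,8305856,1756188,6403600,6418832,3605636,3359050,6715626,4370795]⟩,
  ⟨false, 247, 565, [7434712,7062712,2927101,4549324,8377083,7481612,546180,7658795,5422335,1626644,2342416,1050368,4096,75745,5992532,34560,8310938,6488187,89894,5828352,4458240,4038656,4196096]⟩,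
  ⟨true, 566, 0, [6568852,6253234,7305151,3421307,4781132,87911,4376153,7700963,2723693,7700754,6418832,2543599,4096,3989262,8208834,4030447,5450664,1602029,5242880,3135779,4061167,3188101,8257519]⟩,
  ⟨false, 547, 0, [3204406,6415869,4668655,1924464,6865030,1941624,598509,7346912,3817337,4368594,2512720,6471754,8058376,5081037,2371665,119572,7804928,5659012,5767156,4221350,4885860,6048786,2912518]⟩,
  ⟨false, 567, 568, [4223890,7041757,4937444,622790,6758794,3142796,6343269,1434533,4615991,6436936,3295312,3968314,1814673,5878414,3302154,6850569,5056559,6332145,2949192,7858728,3506013,1192032,1531914]⟩,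
  ⟨false, 563, 569, [2831991,2341320,2076516,4779455,1756796,6244232,939312,7221791,7994824,7149801,6130799,5882055,5992532,4856470,4295720,3770948,3339265,2317604,4216534,2433164,3771321,7371220,7041234]⟩,
  ⟨false, 560, 570, [8041645,1374238,3650377,6410779,2278390,6236164,121455,3369268,4015656,277635,7764515,206465,4497343,4972307,6655490,4070672,5308977,5555188,3583001,2631135,5724159,1730819,610203]⟩,
  ⟨false, 555, 571, [7980811,7317696,8195910,3252308,6429276,7119098,7819985,4853543,1596094,2192119,2097152,3912729,7200996,6680066,4325376,946372,1194184,7100689,5953586,5528444,2779395,1730819,644883]⟩,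
  ⟨false, 572, 11, [1486760,7886962,4134634,5739902,7637103,5650675,6478158,4568779,5465601,6626761,3593153,6680066,4325376,946372,1194184,7100689,5953586,5528444,2342416,1293840,3416581,3583001,644883]⟩,
  ⟨false, 0, 573, [7930031,6461668,3635755,3017987,4493534,7546393,628067,7725673,826370,5379181,3057538,848900,262144,4738679,6418832,6310434,6166628,5050631,6292447,6532063,670730,5953586,7110182]⟩,
  ⟨false, 551, 551, [8345573,2430424,6229340,6504850,2905267,8364110,5795770,1543625,256,2581863,6130799,3291232,3882592,3870304,6569025,5229120,4144767,4618628,4934208,4575095,4294256,1192032,1148528]⟩,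
  ⟨false, 572, 575, [2803816,6935645,611775,7354572,4837603,7798337,6826539,7762978,1596094,5371634,7074745,7606725,3342470,3870304,5523719,5820799,5308977,6403600,817545,4019079,7144863,5623007,5159823]⟩,
  ⟨true, 576, 0, [4846274,1563205,429657,5394356,4853041,4125045,3293585,2036334,1515701,780506,7698943,3554369,310603,3751243,5623007,7294040,1590376,4563978,234689,4877298,932479,6130799,2201675]⟩,
  ⟨false, 551, 530, [6872520,200297,5651154,2020272,6736592,3034573,7592915,4226068,1616897,3080508,929906,2357139,5872708,2030094,131455,6890509,4202496,4270644,1189788,3559494,8040484,5623007,1662425]⟩,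
  ⟨false, 551, 578, [44344,2172102,4140720,7730851,4806696,407332,1464232,3446167,2427980,7702739,5523719,8024408,6548989,2124092,6890364,4604287,3012103,1532165,1615104,751638,1227517,1055256,2386236]⟩,
  ⟨false, 551, 579, [1419240,675600,982491,8040433,5478418,6143173,464640,6907857,6319821,674719,6701612,6013653,3593153,3061971,2878768,6086204,2787344,791241,4295720,2355403,3068353,6655490,7626977]⟩,
  ⟨true, 580, 0, [3842163,5754254,8285508,3875012,5149134,903474,4869916,2765599,2540838,686364,135520,4194812,3342470,5195948,2158646,3176926,4711918,2765222,7371220,2817274,3184102,4138160,484698]⟩,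
  ⟨false, 487, 487, [2618537,4169981,1633186,4494800,2685405,6428024,205580,6608774,4558594,7836927,4202496,4667327,5165700,6477659,1055256,5480468,8237393,4877298,262144,8330116,1894600,7596040,2807643]⟩,
  ⟨false, 487, 582, [745026,8372496,1936657,3616368,2257960,3563730,7691150,646861,7444700,1251605,5523719,4780099,3593153,4939803,6749282,7402058,3808253,2740819,5308977,6954493,5835403,2422861,7029467]⟩,
  ⟨true, 583, 0, [5900554,2611823,292800,475601,6503573,2296795,1084189,6504268,7426240,7388804,2106048,2163796,6166628,6611814,2189892,2484886,3611780,3682351,5308977,3577832,3940356,2607539,6667328]⟩,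
  ⟨false, 530, 542, [3255743,6350569,6218278,5600246,7267031,7935934,7813479,730832,3980519,7167167,7596040,6394072,6432835,4216317,5292544,5390467,5738538,4330107,7764515,5039923,6543644,7371220,1469987]⟩,
  ⟨true, 585, 0, [7679147,4138756,5734362,8101449,1958747,1381637,5212391,4412162,6598798,1239803,6084351,2931687,6531072,3861499,7019261,7589885,112629,6864299,2342416,845215,6777844,1469168,7148559]⟩,
  ⟨false, 497, 1, [4998190,1994589,6790499,372732,64094,5737583,2640057,2146317,5703323,2012573,4718592,8043574,7458816,4285473,3844682,6841341,2949906,2308815,4468384,3968608,4695816,5720328,1285962]⟩,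
  ⟨false, 497, 587, [233943,7249782,5832980,8147194,5492547,5915287,5891293,6560141,259331,1519619,1194184,2321601,2949906,573648,7458271,5166509,4662592,4016707,2949192,6236233,3817706,1222662,6077576]⟩,
  ⟨true, 588, 0, [6843653,5273351,2363659,7553128,6967937,7176066,1365856,8072006,2843169,7520431,8214189,2199315,3593153,3957282,6326818,8260995,3342470,4790602,3551193,1771782,8298484,8237393,3389403]⟩,
  ⟨false, 568, 18, [98133,5813307,2945330,2208267,2437982,3110472,7058030,6414374,2298401,4186432,1192032,4499521,6166628,6765696,1587522,37888,7467041,3919644,7698943,387905,4151441,7503806,6596673]⟩,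
  ⟨false, 589, 590, [7256472,1293453,3709417,235378,5385958,2667657,5760009,4651521,4630900,4800884,4497343,1753813,6550145,3109764,2189892,3508463,1228093,4505884,5438102,2317604,5952388,7200996,6779780]⟩,
  ⟨false, 586, 591, [8073636,5119630,3339277,2865300,4929654,2176118,3182931,2948344,3619256,8383861,7714287,3827700,7829256,5258,6326818,7559207,6339753,249177,2878768,2188570,7810146,3743044,6415642]⟩,
  ⟨false, 584, 592, [4720161,5393136,6602643,2364201,3467689,7937289,2043752,4965344,729448,539644,7893544,4652809,1927038,4038230,3339265,7708758,4275903,5580158,5132382,4688190,5366838,2158646,516072]⟩,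
  ⟨false, 581, 593, [1218717,5532979,6515264,6072413,6338438,3381395,5932640,1166603,5374930,6053993,4325376,6209787,7829256,7651158,7467041,7145308,3533440,7366530,7503806,1944880,4668736,3743044,400801]⟩,
  ⟨false, 577, 594, [6192983,4093609,4362456,6516698,4796318,5811448,3997781,7666856,412378,1941761,6569025,5026050,8382467,1434543,1730819,6853538,6888832,8365684,2670301,2713976,2377842,6655490,8321362]⟩,
  ⟨false, 595, 575, [4176483,5902206,3590689,1198818,6329046,7842432,7819985,2684176,412378,7422615,5652405,8222215,4497343,3052563,1192032,7831540,6617088,2430204,3625611,7396387,2779395,5523719,7395363]⟩,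
  ⟨false, 572, 596, [5359547,6541192,4542712,2138928,1883371,2505207,3505226,5246143,7276787,780506,8376393,356361,816649,5199595,5623007,3871832,3583001,6299999,7859008,7945243,3146752,7596040,5848091]⟩,
  ⟨false, 595, 597, [5806193,6013935,6409038,1218226,1948859,6848610,3707879,5682513,7920742,4829328,2445577,840063,3487943,6799202,16384,7504047,3611780,3999506,817545,7832719,2488881,6374144,1182349]⟩,
  ⟨true, 598, 0, [1976939,8348490,1779163,4976309,5429355,8232391,2219812,439151,2446345,3775590,6130799,7958612,2964608,4591730,16384,5703504,6888832,5904920,4295720,2208566,1221696,7698943,2157584]⟩,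
  ⟨false, 530, 513, [1088445,7224751,7471560,1500700,6413237,5551540,174023,7811395,3861069,3715618,7698943,3884707,5438315,7688340,1024,4504084,3625611,6588997,2191137,6310434,7473665,5797869,4241940]⟩,
  ⟨false, 551, 600, [3826787,3681097,3398059,7354516,7267179,6181898,1199506,2233972,1447453,7447429,430055,7501124,5093976,196731,980225,7090889,3625611,1501947,6418832,6497828,3884255,3344441,3599099]⟩,
  ⟨false, 572, 601, [160143,3939488,5078812,6256593,6156148,1084479,4219662,1983792,2558070,3644990,2158646,2983885,2964608,2115121,6765000,4291558,7859008,3905735,7714623,1633408,8240598,3344441,2224580]⟩]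

/-- The program. -/
def threeCo3TailOps4 : List CfsgLib.Rigid.Op := [
  ⟨true, 602, 0, [2033506,7330191,3246550,2628268,6375647,3401449,2567469,486288,2131029,7494889,4307220,126799,4678822,1522308,6339753,2279652,8237393,8274136,3611780,4394556,5864766,2019328,5444644]⟩,
  ⟨false, 595, 487, [5610000,1004721,2387474,5887662,1128206,5806996,7284177,2835896,7910495,5877863,4295720,6039622,2775040,482322,2878768,5443861,2787344,5659171,6418832,2320451,4253746,1756188,481298]⟩,
  ⟨false, 497, 604, [7407252,4167814,794515,2424656,3044643,4902372,4498035,5051822,2971828,8099713,8040081,3620098,1587522,5912557,2191137,3003042,4295720,6858768,2990610,5065280,2148648,7092497,8000813]⟩,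
  ⟨true, 605, 0, [6922480,2030184,869329,249462,7284137,180850,3470418,5456114,7809544,3819171,1684130,7301566,493717,8163587,4275903,2699789,817545,3630236,1192032,6631557,2913439,6374144,5479580]⟩,
  ⟨false, 551, 503, [5744542,7640722,1776897,2475264,5886495,525350,2593565,5156045,5771972,8110116,3882592,6641467,8174802,5079076,2787344,7917023,6420171,2825197,3083679,3436019,7913648,112629,3570835]⟩,
  ⟨true, 607, 0, [6375091,6980121,2602612,7832145,5126061,4137888,2186963,6059282,1381,2245620,7458816,2414745,2670301,2363985,8040081,7259414,5976064,8308427,4711918,247789,3851440,7957252,6906561]⟩,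
  ⟨false, 530, 0, [966864,6496417,854363,7426789,7024805,8311063,4517842,141243,2665653,656951,1632256,96370,4934208,603076,5166099,2892306,5712641,7784730,6765000,152854,8075620,3628909,6015314]⟩,
  ⟨false, 487, 609, [310312,7840765,4245405,3311721,4912751,4376305,4023305,1732059,29471,4470710,1787578,4791356,1228093,5995020,4711918,4778597,2970876,3819483,131455,7851755,3266308,2097152,5950969]⟩,
  ⟨true, 610, 0, [3160219,844722,3766144,5363283,3726093,2869541,5080269,4089592,2610946,1925414,493717,2171061,5383884,1982739,1732876,745497,5482097,2702109,1814673,3053691,2414745,2097152,7473949]⟩,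
  ⟨false, 2, 11, [1620105,4719145,7479661,6791889,4070065,6110336,3022045,1486472,2018921,1591293,1222662,4929245,5056559,1401327,3342470,409087,5523719,6129625,7467041,5527540,3298896,3817918,5373520]⟩,
  ⟨false, 590, 612, [427533,5314902,2004633,6276798,4845965,5557932,1244963,4156862,6412392,2122401,5493317,1889411,4038656,1469179,1228093,5670670,2371665,5990662,5767156,4885860,5478661,7764515,2912518]⟩,
  ⟨false, 611, 613, [8100718,1142652,1849141,6006805,1272687,1750280,6003014,464019,5513659,1885823,3593153,5763822,7829256,2351102,4096,3556545,3321877,3507465,3084586,2133288,8040593,3743044,5340425]⟩,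
  ⟨false, 608, 614, [6869727,4749443,1456228,1269731,171343,2358072,8084446,2292717,6386511,3318929,7893544,7573494,1755277,2199405,2670301,7184242,5752719,5680843,1189788,655903,4628933,6292447,4021618]⟩,
  ⟨false, 606, 615, [7564203,4716772,2500026,7881821,5573757,354185,3986282,6646824,315130,6522628,8058376,3070318,5056559,3056708,7698943,1786430,4227072,5284352,112629,8314924,5707495,980225,3596332]⟩,
  ⟨false, 603, 616, [6271093,5641611,3378460,3556209,7570839,1981454,3637046,2835906,7490003,5117239,2106048,5404832,1493368,7761391,5519426,3114504,7462080,5097363,4202496,6410272,1634851,6701612,7457336]⟩,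
  ⟨false, 599, 617, [5688908,5254781,26176,7369475,7728895,4782507,855444,4676150,5616363,1705126,2988448,90182,4662592,7351324,4138160,6207637,5752719,716795,6749282,3894904,2765908,5933328,6106196]⟩,
  ⟨false, 487, 502, [6617254,3986691,8163287,3768782,4904292,5102791,7896415,3210634,2629059,8004350,4930053,310143,6715626,2386446,980225,3775504,4503572,2646720,7893544,3868383,6824192,4718592,6638319]⟩,
  ⟨false, 618, 619, [6899641,7691585,7654168,8221265,7843206,1173649,6918032,3695736,1261238,2180065,4304872,488466,4196352,4727296,3083679,6069887,2525446,8305856,3955850,6826593,1660363,6701612,6718850]⟩,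
  ⟨false, 574, 620, [1020624,3746429,6669253,2786530,6904789,5855159,2553555,2390309,3312276,5105685,4711918,5642979,6326818,1413091,5712641,5057314,4327937,960,2988448,4198400,3778531,4325376,5160931]⟩,
  ⟨false, 595, 551, [4697228,3077595,8047144,2538751,6227154,726070,4077393,1639930,3054110,208549,5933328,1396936,4662592,4683338,6339753,4319984,7960399,2745798,6432835,1001697,1179204,2189892,640774]⟩,
  ⟨false, 572, 622, [6022162,8134645,680954,5768594,4436973,8111969,3109750,3784653,4257820,208549,5519426,4297919,493717,5195948,6339753,1790115,65536,6436031,4227072,2190473,5026960,4138160,105663]⟩,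
  ⟨false, 595, 623, [1122260,3601928,4704403,1182556,2089251,3543919,4787813,405686,4352449,445382,5751727,4205056,3873584,3334736,2106048,3293776,6888832,5140475,1469168,6453320,2382222,4327937,7496272]⟩,
  ⟨true, 624, 0, [6063531,3536340,6797002,7461840,7357484,8126405,1226637,7839127,2860296,7742482,4317240,3582994,8382467,1425903,879599,1401327,5308977,6900804,2949192,5722255,7798783,430055,5587439]⟩,
  ⟨false, 530, 530, [712160,3863232,2895394,3655442,5199927,2621833,7892811,3935143,5992857,2380758,6765000,5419670,799748,7078899,6292447,6085275,3625611,1702751,7462080,19965,5665315,879599,18941]⟩,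
  ⟨false, 595, 626, [6572594,6006157,2247707,374613,7585601,213381,1367071,1671802,1280098,5205782,3084586,8067868,5075088,3751243,4307220,3789110,7371220,1986153,3817918,1266004,5820193,6339753,7826709]⟩,
  ⟨false, 530, 627, [7859373,6040050,1966868,1235984,7462197,7546117,4274862,2800311,1422268,6365466,89894,1392349,3188101,5647206,2445577,3765525,5953586,965424,5752719,7833882,3893624,7893544,5801093]⟩,
  ⟨true, 628, 0, [3850071,5937169,8152645,4712969,6255788,6136301,5743202,5830345,387492,2269886,3743044,6205427,4930053,7226485,1888799,5435083,7096846,3618854,5752719,7233210,719076,1349985,5339658]⟩,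
  ⟨false, 572, 556, [4929763,5752591,7304154,591563,1451719,1675494,6152779,6885231,3695091,4559083,6084351,1555197,2775040,2259038,4307220,1625593,6326818,4519523,7371220,7253158,3325805,6418832,4538774]⟩,
  ⟨true, 630, 0, [8236442,1160900,3234867,7158763,932695,2274123,2359833,3817916,7963115,5808652,7019261,6689968,493717,2818148,2999069,3835940,6292447,6298924,3563520,5036086,901473,6326818,5681461]⟩,
  ⟨false, 470, 247, [4327624,6298348,2530983,7082026,4570743,7702760,227276,324206,3299376,4427133,5631351,5441524,6617088,1507073,1206565,4037203,962531,4597758,7764515,6271023,6178837,3339265,554912]⟩,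
  ⟨false, 247, 632, [5074678,7649419,7954737,3903912,3372997,2552688,8239072,6726005,189644,5845956,4275903,8230513,5482097,5491108,4307220,8335828,2017897,3647021,5438102,2584725,676502,8058376,7551378]⟩,
  ⟨false, 247, 633, [2285632,3664597,6568226,7195850,1859170,2925387,2551085,7626600,1158153,2780419,65536,5026050,7596040,178539,5943584,3167016,5438315,7502699,6326818,2337643,348266,5738538,5405547]⟩,
  ⟨true, 634, 0, [7667216,7284096,1722225,6023701,3720443,5813025,3147664,6394908,8019745,6798752,4930053,4199604,2988448,5893425,5075088,4259840,1024,2595376,2922004,1814417,3986053,4325376,1523637]⟩,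
  ⟨false, 487, 11, [5686779,6689734,4066661,2220101,6645936,2921668,7727400,4201058,1274493,1745203,493717,6525937,6989100,2484886,2025723,5647206,5308977,1570870,1755277,1734884,3041364,1469168,3660534]⟩,
  ⟨false, 470, 636, [2624111,5698495,507090,7375031,797721,3439504,1503676,2648262,8299875,7158278,3625611,8114173,6432835,2053188,1228093,2138047,2342416,2318450,929906,5621980,7409241,5652405,7645181]⟩,
  ⟨true, 637, 0, [5230839,7060440,4974337,583523,2819104,7208739,968046,3640799,4768092,2385312,6374144,3872253,7125132,5952200,6550145,8059077,5493317,8214624,4307220,2952837,6895318,3551193,3789]⟩,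
  ⟨false, 0, 18, [2971871,7604152,8388385,2846471,5871976,4142161,6371608,6816595,2122721,1092385,7503806,1318947,6339753,2199609,7371220,2027998,5093976,2832513,5132382,6779475,1132881,5519426,8192863]⟩,
  ⟨false, 613, 639, [941360,3248505,5815681,52251,2001378,6445308,4115031,6139261,5033232,1856027,5712641,1138173,5940151,8196846,3611780,7307346,5242880,5069787,929906,6760724,4558881,6090746,3976186]⟩,
  ⟨false, 11, 612, [5961178,7874724,8219211,1389754,5690052,4545025,5383029,1091038,6518362,6076426,430055,1475722,3666108,2314173,1055256,2170876,1756188,3442842,2295675,4425775,1277630,5523719,3745470]⟩,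
  ⟨false, 640, 641, [8073504,4848166,5899982,8067850,2090915,816749,857629,5827239,3659211,7869225,6048786,5415108,799748,1511835,817545,483860,3666108,1829883,3873584,5949601,5955136,8058376,5284283]⟩,
  ⟨false, 642, 17, [196770,7811801,7403511,7561016,4733682,599955,4461786,7042855,1572138,8218914,5631351,3774880,1037817,4919594,2607539,1973656,131455,1511835,5751727,1829883,5949601,8058376,5284283]⟩,
  ⟨false, 638, 643, [2048769,7819282,7188386,407947,1053243,1116964,4021375,7317888,3494366,2933253,896548,1975259,2525446,2707493,6742014,1218710,1756188,1210756,5159971,3007493,971596,7200996,6040026]⟩,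
  ⟨false, 635, 644, [530737,5631327,3809676,6592185,5681370,2348256,2633279,436920,993555,7359956,112629,4266098,4662592,1001697,7764515,1832887,8310938,6542412,8040081,336704,6095600,2422861,2288371]⟩,
  ⟨false, 631, 645, [385150,6263480,7678386,572550,7862384,2604398,5114539,176539,2888691,4428300,4325376,5116430,8214189,7351324,1888799,8090555,7957252,3512692,1756188,7881285,2859528,980225,6076936]⟩,
  ⟨false, 629, 646, [3118686,2086402,4272053,29739,2307164,6746300,85055,6622739,2938855,717342,6701612,5724159,5438315,2233773,1055256,1654447,3808253,5140475,2025723,937700,7886842,6531072,3042340]⟩,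
  ⟨false, 625, 647, [5814268,5321392,8149534,4585041,6395645,1043084,6259576,3641370,1527659,6932439,89894,4824693,2236247,3990643,4718592,6853538,8310938,131072,2670301,6716481,3554369,6130799,6700097]⟩,
  ⟨false, 497, 582, [1759549,5307644,619162,6366153,3439792,6673917,1162687,3703245,4899238,2259876,7859008,3980256,371108,7498962,5623007,3015748,1590376,3566511,5519426,7234664,239259,7957252,6312986]⟩,
  ⟨false, 648, 649, [96809,1665673,6640174,7495348,317679,1980017,577293,8067191,2133745,8012042,2949192,259347,1632256,7020128,5738538,3393715,819331,700380,2189892,1529410,5917248,2787344,2466371]⟩,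
  ⟨false, 621, 650, [497586,6522081,3563417,3087225,2305673,3296728,7624792,4460761,7220606,197834,6418832,491553,2106048,5085820,8376393,5732616,3302154,5421449,1730819,7620596,6104292,7371220,2658571]⟩,
  ⟨false, 648, 513, [1051580,3608117,4892664,5162120,7158849,4955404,5720459,1336427,7863035,7028481,4327937,7701999,5872708,3313297,135520,6297697,2949192,6627858,7503806,7116351,1221696,2999069,3218000]⟩,
  ⟨false, 572, 652, [2158528,2362862,4269301,8180475,1190579,998435,731620,4940423,5766907,7000328,430055,4988998,1549322,3751243,135520,2613197,4202496,1208451,5943015,2860534,8059909,2422861,4216399]⟩,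
  ⟨false, 651, 653, [3037805,1739072,2521622,675453,7856929,5465074,323732,1777296,4538643,3648292,4503572,2795168,1055256,3263951,5940151,2589187,6622071,4060690,8164366,338833,3250721,4327937,1874227]⟩,
  ⟨false, 595, 572, [7405765,7612147,2454971,6493422,2095597,6469136,2602558,6382872,4408940,1816209,6655490,7114656,4678822,3577832,89894,360283,5752719,2263780,6432835,5089301,1456516,5767156,1808288]⟩,
  ⟨false, 654, 655, [1952795,6225432,2104076,2686086,7154427,6406373,71798,2925158,1471452,6008301,2339480,5515087,6531072,7732111,6084351,3379583,4317240,3114100,4730358,4392941,240863,5536856,2489231]⟩,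
  ⟨false, 595, 648, [7804757,2193859,6086577,7628510,3896319,7628534,7424481,8162837,5605449,7627990,1814673,2930421,4096,1031767,5738538,2926763,2922004,8365684,262144,7864087,3614516,5652405,7181844]⟩,
  ⟨false, 656, 657, [541569,7587216,2514254,8240514,1535456,3441121,8191922,3560890,8127557,978153,5720328,1969375,6531072,6532895,4711918,7059450,3817918,326078,4730358,1654447,4652809,7371220,6183433]⟩,
  ⟨false, 487, 0, [2790973,6249228,7024167,6838359,5657821,8122292,3378268,366712,3096311,4557783,4968460,4941348,5523719,6127578,1192032,2699789,6418832,6740167,2106048,2953851,1734884,1684130,3660534]⟩,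
  ⟨false, 530, 659, [4584555,5282000,3528365,4426795,2272204,6142478,526682,6122367,7217918,570330,4698144,2138083,4138160,2019839,7467041,4098320,7957252,6175754,3084586,4290558,3263104,4325376,6563831]⟩,
  ⟨false, 513, 247, [4685083,7255997,6273520,2779758,7011727,1156167,1307299,741831,1662028,2908174,819331,6351881,4711918,3313297,6130799,229009,2999069,4511236,4295720,1156103,5583969,1615104,4415121]⟩,
  ⟨false, 572, 661, [2186106,2092988,4533074,2602619,8184582,7339345,115737,4963716,6529929,1049501,6067046,6943632,5132382,3751243,7074745,6257569,2422861,975536,5450664,1617792,2188588,3012103,3359408]⟩,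
  ⟨false, 513, 662, [2774705,5976360,6807222,7325509,30639,8108563,1474038,4065234,2111860,4032834,2787344,7192710,819331,7498962,2988448,7859328,8164366,6474890,3583001,281032,6242492,7960399,3783902]⟩,
  ⟨false, 660, 663, [3871305,6433811,7771275,7955844,1229606,7428758,5689961,4579427,7308903,5006039,6420171,4617748,1632256,6721113,1756188,7620385,1660021,1979019,6374144,438808,3738807,3533440,6458969]⟩,
  ⟨false, 618, 582, [3362573,985178,1159678,6676469,8045294,7482743,1222502,3333541,118522,2356471,2949192,4155107,7458816,4697198,7596040,7416898,3533440,4857339,6749282,6546499,6115984,1055256,2223682]⟩,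
  ⟨false, 487, 665, [1105810,2366703,786667,463170,8175564,1533450,5702327,2818264,3028433,2824396,6326818,1009741,1732876,477912,2422861,8090555,1756188,3512692,980225,7351324,1206412,6749282,6076936]⟩,
  ⟨false, 664, 666, [8258739,6252182,2474586,2471395,1777508,1422983,7870149,5024462,449667,7758711,3817918,3707544,2445577,944521,6292447,3068016,7714287,7500098,6048786,3298497,5708545,5954565,4531145]⟩,
  ⟨false, 513, 530, [1036720,511975,562045,8371480,6469483,2039599,487303,7822054,708687,3784679,2097152,69969,5536856,3427247,5738538,1413728,5450664,1177534,234689,2230352,7592418,8376393,4600849]⟩,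
  ⟨false, 667, 668, [4620662,4365617,4302432,1996129,4976560,6117823,1016970,4415755,7513212,1575163,5954565,4928887,4268257,109680,2970876,7250096,3084586,1091977,8174802,7550590,6586567,6888832,2063472]⟩,
  ⟨false, 648, 551, [8028566,7632027,2571644,367709,7734030,908445,6659824,3521295,1883917,3984514,3935659,3248160,682266,2693810,2371665,3114504,3808253,4688190,4202496,5595135,119572,5751727,6794238]⟩,
  ⟨false, 669, 670, [6737894,4963856,5192170,3210646,595675,2259605,5897822,674344,2568648,5371631,6622071,5264771,6418832,3173772,5752719,7024288,5093976,45445,2019328,4127855,5054672,5527551,3992847]⟩,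
  ⟨false, 618, 595, [3498684,3239581,103460,6893076,3172835,4794594,5546934,5165427,5748714,887279,2189892,7115537,3873584,3956514,430055,3501380,1194184,286321,2607539,7181093,6423865,980225,5269043]⟩,
  ⟨false, 671, 672, [2270081,5085190,5188960,595553,5572210,1434564,6764616,3783284,124299,5416885,6890364,5986229,430055,2437129,2445321,2695164,3084586,5772274,4216534,7518281,5730292,6888832,2394108]⟩,
  ⟨false, 530, 1, [7295431,5700086,4376050,7211656,1141575,8330220,18367,5453541,7843885,5458029,5623007,3331282,4662592,1023661,1732876,1763763,1298885,96370,5438102,2892306,7784730,5872708,6015314]⟩,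
  ⟨false, 497, 674, [95633,305477,2087971,5201198,4122849,118235,3876777,1687408,1214096,5407120,929906,3854600,1298885,1470883,5242880,2725847,3555219,3858945,8058376,7741247,630867,4096,2374131]⟩,
  ⟨false, 551, 247, [6849562,4534474,4477116,3188193,5926503,5180818,6621448,7616433,20153,7977737,7503806,2755338,6179888,7601753,4216534,625673,5652405,1212153,234689,6637672,5330869,112629,2090745]⟩,
  ⟨false, 487, 676, [3396433,7647057,1732213,3933967,520037,5442073,2274946,2920759,4740922,3378291,5383884,6939940,8310938,1453616,879599,3802443,817545,4425328,1660021,5626743,1179204,4730358,5223028]⟩,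
  ⟨false, 470, 677, [1161698,7149076,2894519,1536390,4328018,7372700,7493039,1317215,3646268,2733446,2525446,1840133,6420171,5114369,4730358,3172433,5157196,1716122,2371665,4022913,4198947,6617088,3269122]⟩,
  ⟨false, 675, 678, [1835950,7383986,5128881,3827497,7859559,8067360,336884,1589911,7331466,7502825,5943584,393569,5933328,8067020,6617088,7449121,4662592,4942158,8125623,4152357,6387881,1587522,409953]⟩,
  ⟨false, 551, 556, [5604363,929631,2858224,7795677,6108316,837280,7903742,7749019,1570804,3909936,7960399,1381288,3555219,8234752,7698943,3021597,4934208,1425903,4711918,2238992,3293770,2922004,2108271]⟩,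
  ⟨false, 679, 680, [2503691,6260773,5058365,6575839,268686,1729485,1555323,6555041,3852091,2475905,1615104,4436403,2775040,3222774,6715626,4789981,2158646,5888050,4730358,2871343,7029795,6742014,1981916]⟩,
  ⟨false, 551, 513, [4107301,8155227,4751740,6290874,6023335,4623620,5976553,8017846,2640224,1470306,6374144,264954,3844682,5077610,3083679,1435916,4202496,2049503,6749282,1793190,8067424,7893544,4815466]⟩,
  ⟨false, 681, 682, [6678613,204736,6718671,8111219,3180505,6955632,2985434,4387766,6281477,3907937,2189892,7881127,5093976,7359569,2949192,5100616,3084586,1239479,5523719,4344101,2074644,2001057,3695015]⟩,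
  ⟨false, 648, 618, [1901772,1902157,4456442,2915003,5297517,1372179,4571335,3866668,3296229,4590878,4307220,7921471,4662592,2200573,4060438,5365610,6067046,286321,6749282,5306202,6560695,6531072,5667005]⟩,
  ⟨false, 683, 684, [7728520,6903562,2681026,6224893,4920297,4240214,5038268,652225,2408463,5696340,1493368,4859752,7512823,1637587,5159971,2593119,7859008,4503987,2158646,5908522,3868383,6211621,6889491]⟩]

/-- The program. -/
def threeCo3TailOps : List CfsgLib.Rigid.Op := threeCo3TailOps0 ++ threeCo3TailOps1 ++ threeCo3TailOps2 ++ threeCo3TailOps3 ++ threeCo3TailOps4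

/-- The positions of the generators. -/
def threeCo3TailGi : List ℕ := [225, 228, 246, 455, 459, 463, 461]

/-- The positions of the conjugating elements. -/
def threeCo3TailHi : List ℕ := [658, 673, 685]

/-- The layers. -/
def threeCo3TailLayers : List Schur.Tails.RigidCert.Layer := [
  ⟨[[1], [2], [3], [4], [5], [6]], 1861669, [4, 4194304, 16384, 32, 1024, 4096, 32768, 8, 8192, 128, 1048576, 64, 262144, 131072, 1], 729⟩,
  ⟨[[0, 0, 1, 1, 3, 3, 4, 4, 5, 5]], 727446, [1, 4], 3⟩]

end CfsgLib.TailsData
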