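import Mathlib
import Cfsg.Prelude.Def_KGroupFacts

/-!
# Stem extensions from transferred cocycles

A two-cocycle on a subgroup is transferred to the group through representatives of the cosets.
The central extension it gives is a stem extension as soon as two commuting elements have lifts
whose commutator generates the kernel.
-/

set_option autoImplicit false

namespace CfsgLib.Schur.Tails.CocycleCover

open scoped commutatorElement

universe u

variable {G : Type u} [Group G] {A : Type} [AddCommGroup A]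

/-- The two-cocycle identity. -/
def IsCoc {H : Type*} [Mul H] (f : H → H → A) : Prop :=
  ∀ a b c : H, f a b + f (a * b) c = f a (b * c) + f b c

theorem IsCoc.one_left {H : Type*} [MulOneClass H] {f : H → H → A} (h : IsCoc f) (a : H) :
    f 1 a = f 1 1 := by
  have := h 1 1 a
  rw [one_mul, one_mul] at this
  exact (add_right_cancel this).symm

theorem IsCoc.one_right {H : Type*} [MulOneClass H] {f : H → H → A} (h : IsCoc f) (a : H) :
    f a 1 = f 1 1 := by
  have := h a 1 1
  rw [mul_one, mul_one] at this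
  exact add_left_cancel this

/-- The group of pairs multiplied through a cocycle. -/
@[ext] structure Ext {F : G → G → A} (hF : IsCoc F) : Type u where
  /-- The element covered. -/
  pt : G
  /-- The central part. -/
  val : A

namespace Ext

variable {F : G → G → A} {hF : IsCoc F}

instance instMul : Mul (Ext hF) := ⟨fun x y => ⟨x.1 * y.1, x.2 + y.2 + F x.1 y.1⟩⟩
instance instOne : One (Ext hF) := ⟨⟨1, -F 1 1⟩⟩
instance instInv : Inv (Ext hF) := ⟨fun x => ⟨x.1⁻¹, -x.2 - F x.1⁻¹ x.1 - F 1 1⟩⟩

theorem mul_fst (x y : Ext hF) : (x * y).1 = x.1 * y.1 := rfl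
theorem mul_snd (x y : Ext hF) : (x * y).2 = x.2 + y.2 + F x.1 y.1 := rfl
theorem one_fst : (1 : Ext hF).1 = 1 := rfl
theorem one_snd : (1 : Ext hF).2 = -F 1 1 := rfl

instance instGroup : Group (Ext hF) := Group.ofLeftAxioms
  (fun x y z => by
    refine Ext.ext (mul_assoc _ _ _) ?_
    simp only [mul_snd, mul_fst]
    have h := hF x.1 y.1 z.1
    linear_combination (norm := abel) h)
  (fun x => by
    refine Ext.ext (one_mul _) ?_
    simp only [mul_snd, one_snd, one_fst, hF.one_left]
    abel)
  (fun x => by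
    refine Ext.ext (inv_mul_cancel _) ?_
    show -x.2 - F x.1⁻¹ x.1 - F 1 1 + x.2 + F x.1⁻¹ x.1 = -F 1 1
    abel)

instance instFinite [Finite G] [Finite A] : Finite (Ext hF) :=
  Finite.of_injective (fun x => (x.pt, x.val)) fun _ _ h =>
    Ext.ext (congrArg Prod.fst h) (congrArg Prod.snd h)

/-- The projection. -/
def proj (hF : IsCoc F) : Ext hF →* G where
  toFun x := x.1
  map_one' := rfl
  map_mul' _ _ := rfl

theorem mem_ker {x : Ext hF} : x ∈ (proj hF).ker ↔ x.1 = 1 := Iff.rfl

/-- The kernel is the group of values. -/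
def kerEquiv (hF : IsCoc F) : (proj hF).ker ≃* Multiplicative A where
  toFun x := Multiplicative.ofAdd (x.1.2 + F 1 1)
  invFun a := ⟨⟨1, a.toAdd - F 1 1⟩, rfl⟩
  left_inv x := Subtype.ext (Ext.ext (mem_ker.1 x.2).symm (by simp))
  right_inv a := by simp
  map_mul' x y := by
    have hx : x.1.1 = 1 := x.2
    have hy : y.1.1 = 1 := y.2
    rw [← ofAdd_add]
    congr 1
    show x.1.2 + y.1.2 + F x.1.1 y.1.1 + F 1 1 = _
    rw [hx, hy]
    abel

theorem ker_le_center (hF : IsCoc F) : (proj hF).ker ≤ Subgroup.center (Ext hF) := fun x hx => by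
  refine Subgroup.mem_center_iff.2 fun y => ?_
  have h1 : x.1 = 1 := hx
  refine Ext.ext (by simp only [mul_fst, h1, one_mul, mul_one]) ?_
  simp only [mul_snd, h1, hF.one_left, hF.one_right]
  abel

theorem commutator_of_comm (hF : IsCoc F) {x y : G} (hxy : x * y = y * x) (a b : A) :
    (⁅(⟨x, a⟩ : Ext hF), (⟨y, b⟩ : Ext hF)⁆).2 = F x y - F y x - F 1 1 := by
  set X : Ext hF := ⟨x, a⟩
  set Y : Ext hF := ⟨y, b⟩
  have key : X * Y = (⟨1, F x y - F y x - F 1 1⟩ : Ext hF) * (Y * X) := by
    refine Ext.ext ?_ ?_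
    · show x * y = 1 * (y * x)
      rw [one_mul, hxy]
    · show a + b + F x y = F x y - F y x - F 1 1 + (b + a + F y x) + F 1 (y * x)
      rw [hF.one_left (y * x)]
      abel
  have e : ⁅X, Y⁆ = (X * Y) * (Y * X)⁻¹ := by rw [commutatorElement_def]; group
  rw [e, key, mul_inv_cancel_right]

end Ext

/-- A cocycle with a generating commutator gives a stem extension. -/
theorem exists_stem_of_cocycle [Finite G] {n : ℕ} [NeZero n] {F : G → G → ZMod n} (hF : IsCoc F)
    {x y : G} (hxy : x * y = y * x) (hgen : IsUnit (F x y - F y x)) :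
    ∃ (Γ : Type u) (_ : Group Γ) (_ : Finite Γ) (σ : Γ →* G),
      Cfsg.IsStemExtension σ ∧ Nonempty (σ.ker ≃* Multiplicative (ZMod n)) := by
  refine ⟨Ext hF, inferInstance, inferInstance, Ext.proj hF,
    ⟨fun g => ⟨⟨g, 0⟩, rfl⟩, Ext.ker_le_center hF, fun z hz => ?_⟩, ⟨Ext.kerEquiv hF⟩⟩
  set w : Ext hF := ⁅(⟨x, 0⟩ : Ext hF), (⟨y, 0⟩ : Ext hF)⁆ with hwdef
  have hw : w ∈ commutator (Ext hF) :=
    Subgroup.commutator_mem_commutator (Subgroup.mem_top _) (Subgroup.mem_top _)
  have hwk : w ∈ (Ext.proj hF).ker := by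
    rw [MonoidHom.mem_ker, hwdef, map_commutatorElement, commutatorElement_eq_one_iff_mul_comm]
    exact hxy
  obtain ⟨r, hr⟩ := hgen
  have hval : Ext.kerEquiv hF ⟨w, hwk⟩ = Multiplicative.ofAdd (r : ZMod n) := by
    show Multiplicative.ofAdd (w.2 + F 1 1) = _
    rw [hwdef, Ext.commutator_of_comm hF hxy, hr, sub_add_cancel]
  obtain ⟨k, hk⟩ : ∃ k : ℕ, (k : ZMod n) * (r : ZMod n) =
      (Ext.kerEquiv hF ⟨z, hz⟩).toAdd :=
    ⟨((Ext.kerEquiv hF ⟨z, hz⟩).toAdd * ((r⁻¹ : (ZMod n)ˣ) : ZMod n)).val, by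
      rw [ZMod.natCast_zmod_val, mul_assoc, Units.inv_mul, mul_one]⟩
  have hzw : (⟨w, hwk⟩ : (Ext.proj hF).ker) ^ k = ⟨z, hz⟩ := by
    apply (Ext.kerEquiv hF).injective
    rw [map_pow, hval, ← ofAdd_nsmul, nsmul_eq_mul, hk, ofAdd_toAdd]
  rw [← show w ^ k = z from congrArg Subtype.val hzw]
  exact pow_mem hw k

variable {ι : Type*} [Fintype ι] {H : Type*} [Mul H]

/-- The transfer of a cocycle along an action with coordinates. -/
def transfer (act : G → ι → ι) (co : G → ι → H) (f : H → H → A) (g g' : G) : A :=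
  ∑ i, f (co g (act g' i)) (co g' i)

theorem isCoc_transfer {act : G → ι → ι} {co : G → ι → H} {f : H → H → A} (hf : IsCoc f)
    (hact : ∀ g g' i, act (g * g') i = act g (act g' i)) (h1 : ∀ i, act 1 i = i)
    (hco : ∀ g g' i, co (g * g') i = co g (act g' i) * co g' i) :
    IsCoc (transfer act co f) := by
  intro a b c
  have hb : Function.Bijective (act c) := ⟨fun i j h => by
      have e := congrArg (act c⁻¹) h
      rwa [← hact, ← hact, inv_mul_cancel, h1, h1] at e,
    fun i => ⟨act c⁻¹ i, by rw [← hact, mul_inv_cancel, h1]⟩⟩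
  have e1 : transfer act co f a b = ∑ i, f (co a (act (b * c) i)) (co b (act c i)) := by
    simp only [transfer, hact]
    exact (hb.sum_comp fun i => f (co a (act b i)) (co b i)).symm
  rw [e1]
  simp only [transfer, ← Finset.sum_add_distrib]
  refine Finset.sum_congr rfl fun i _ => ?_
  rw [hco a b, hco b c, hact]
  exact hf _ _ _

/-- Representatives of the left cosets of a subgroup transfer cocycles. -/
theorem exists_transfer (K : Subgroup G) (t : ι → G)
    (ht : Function.Bijective fun i => (t i : G ⧸ K)) {f : K → K → A} (hf : IsCoc f) :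
    ∃ (act : G → ι → ι) (co : G → ι → K),
      IsCoc (transfer act co f) ∧ ∀ g i, g * t i = t (act g i) * (co g i : G) := by
  let e : ι ≃ G ⧸ K := Equiv.ofBijective _ ht
  let act : G → ι → ι := fun g i => e.symm (g • e i)
  have hactq : ∀ g i, (t (act g i) : G ⧸ K) = ((g * t i : G) : G ⧸ K) := fun g i =>
    e.apply_symm_apply (g • e i)
  let co : G → ι → K := fun g i =>
    ⟨(t (act g i))⁻¹ * (g * t i), QuotientGroup.eq.1 (hactq g i)⟩
  have hact : ∀ g g' i, act (g * g') i = act g (act g' i) := fun g g' i => by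
    simp only [act, e.apply_symm_apply, mul_smul]
  have hspec : ∀ g i, g * t i = t (act g i) * (co g i : G) := fun g i =>
    (mul_inv_cancel_left _ _).symm
  refine ⟨act, co, isCoc_transfer hf hact (fun i => by simp [act]) (fun g g' i => Subtype.ext ?_),
    hspec⟩
  rw [Subgroup.coe_mul]
  apply mul_left_cancel (a := t (act (g * g') i))
  rw [← hspec, hact, ← mul_assoc, ← hspec, mul_assoc g (t (act g' i)), ← hspec, mul_assoc]

omit [Fintype ι] in
/-- The representatives used in an evaluation are determined. -/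
theorem act_co_eq {K : Subgroup G} {t : ι → G}
    (ht : Function.Injective fun i => (t i : G ⧸ K)) {g : G} {i j k : ι} {a b : K}
    (h : g * t i = t j * (a : G)) (h' : g * t i = t k * (b : G)) : j = k ∧ a = b := by
  have e := h.symm.trans h'
  have hjk : j = k := ht (QuotientGroup.eq.2 (by
    have : (t j)⁻¹ * t k = (a : G) * (b : G)⁻¹ := by
      rw [eq_mul_inv_iff_mul_eq, mul_assoc, ← e, inv_mul_cancel_left]
    rw [this]
    exact mul_mem a.2 (inv_mem b.2)))
  subst hjk
  exact ⟨rfl, Subtype.ext (mul_left_cancel e)⟩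

/-- A table whose right identities on generators hold is a cocycle table. -/
theorem coc_of_generators {m : ℕ} {mt : ℕ → ℕ → ℕ} {T : ℕ → ℕ → A} (par gen : ℕ → ℕ)
    (hlt : ∀ a < m, ∀ b < m, mt a b < m)
    (hassoc : ∀ a < m, ∀ b < m, ∀ c < m, mt (mt a b) c = mt a (mt b c))
    (hbase : ∀ a < m, ∀ b < m, T a b + T (mt a b) 0 = T a (mt b 0) + T b 0)
    (hpar : ∀ c, 0 < c → c < m → par c < c ∧ gen c < m ∧ mt (par c) (gen c) = c ∧
      ∀ a < m, ∀ b < m, T a b + T (mt a b) (gen c) = T a (mt b (gen c)) + T b (gen c)) :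
    ∀ c < m, ∀ a < m, ∀ b < m, T a b + T (mt a b) c = T a (mt b c) + T b c := by
  intro c
  induction c using Nat.strong_induction_on with
  | _ c ih =>
    intro hc a ha b hb
    rcases Nat.eq_zero_or_pos c with rfl | hpos
    · exact hbase a ha b hb
    · obtain ⟨hp, hg, he, hd⟩ := hpar c hpos hc
      have hpm : par c < m := hp.trans hc
      have h1 := hd _ (hlt a ha b hb) _ hpm
      have h2 := hd a ha _ (hlt b hb _ hpm)
      have h3 := hd b hb _ hpm
      rw [hassoc a ha b hb _ hpm, he] at h1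
      rw [hassoc b hb _ hpm _ hg, he] at h2
      rw [he] at h3
      have h4 := ih _ hp hpm a ha b hb
      linear_combination (norm := abel) h2 + h4 - h1 + h3

end CfsgLib.Schur.Tails.CocycleCover
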