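import Cfsg.Agent.Lib.Tails.TableCover
import Cfsg.Agent.Lib.MathieuOut.Concrete

/-!
# Table covers for groups of permutations of 24 points

Permutations are packed in numbers, five bits for each image.
-/

set_option autoImplicit false

namespace CfsgLib.Schur.Tails.PermTable

open Cfsg CfsgLib.Golay CfsgLib.M24Cert CfsgLib.MathieuOut

universe u

/-- An image under a packed permutation. -/
noncomputable def dg (A i : ℕ) : ℕ := Nat.land (Nat.shiftRight A (Nat.mul 5 i)) 31

/-- A byte of a packed row. -/
noncomputable def byteAt (R i : ℕ) : ℕ := Nat.land (Nat.shiftRight R (Nat.mul 8 i)) 255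

/-- The list of images of a packed permutation. -/
noncomputable def unp (A : ℕ) : List ℕ := (List.range 24).map (dg A)

/-- A binary tree of numbers. -/
inductive Tree where
  /-- A number. -/
  | L (v : ℕ)
  /-- The numbers at even places and at odd places. -/
  | N (l r : Tree)

/-- The number at a place. -/
noncomputable def Tree.get (t : Tree) : ℕ → ℕ :=
  Tree.rec (motive := fun _ => ℕ → ℕ) (fun v _ => v)
    (fun _ _ il ir i => cond (Nat.beq (i % 2) 0) (il (i / 2)) (ir (i / 2))) t

/-- The first is the product of the other two. -/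
noncomputable def compB (C A B : ℕ) : Bool :=
  allLt (fun i => Nat.beq (dg C i) (dg A (dg B i))) 24

/-- The two products agree. -/
noncomputable def sameB (A B C D : ℕ) : Bool :=
  allLt (fun i => Nat.beq (dg A (dg B i)) (dg C (dg D i))) 24

/-- An unordered pair as a number. -/
noncomputable def nrm (u v : ℕ) : ℕ :=
  cond (Nat.ble u v) (Nat.add (Nat.mul 32 u) v) (Nat.add (Nat.mul 32 v) u)

/-- The weight of a pair. -/
noncomputable def phi (u v : ℕ) : ℕ :=
  Nat.pow (Nat.add (Nat.pow 2 u) (Nat.pow 2 v)) 2

/-- The weight of the images of the pairs. -/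
noncomputable def keyN (O : List (ℕ × ℕ)) (A : ℕ) : ℕ :=
  List.rec (motive := fun _ => ℕ) 0
    (fun p _ ih => Nat.add (phi (dg A p.1) (dg A p.2)) ih) O

/-- The weight of the images of the pairs under a permutation. -/
noncomputable def keyP (O : List (ℕ × ℕ)) (g : Equiv.Perm GolayPt) : ℕ :=
  (O.map fun p => phi (ptEquiv (g (pt p.1))).val (ptEquiv (g (pt p.2))).val).sum

/-- The sum below a bound. -/
noncomputable def sumLt (f : ℕ → ℕ) (n : ℕ) : ℕ :=
  Nat.rec (motive := fun _ => ℕ) 0 (fun k ih => Nat.add (f k) ih) n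

/-- The data of a table cover. -/
structure Data where
  /-- The modulus. -/
  q : ℕ
  /-- The order of the subgroup. -/
  m : ℕ
  /-- Its index. -/
  N : ℕ
  /-- Generators. -/
  gens : List ℕ
  /-- The elements of the subgroup. -/
  els : Tree
  /-- For each element the generator and the earlier element, packed as `par * 16 + gen`. -/
  elStep : Tree
  /-- The rows of the multiplication table. -/
  mrows : Tree
  /-- The rows of the cocycle. -/
  trows : Tree
  /-- Right generators of the subgroup, as indices. -/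
  rgens : List ℕ
  /-- For each element the earlier element and a right generator, packed as `par * 256 + gen`. -/
  rStep : Tree
  /-- The pairs of points defining the invariant. -/
  pairs : List (ℕ × ℕ)
  /-- The representatives. -/
  reps : Tree
  /-- For each representative the generator and the earlier one, packed as `par * 16 + gen`. -/
  repStep : Tree
  /-- The representatives ordered by the invariant. -/
  ord : Tree
  /-- The first element. -/
  x : ℕ
  /-- The second element. -/
  y : ℕ
  /-- The coordinates for the first element, packed as `rep * 256 + element`. -/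
  cx : Tree
  /-- The coordinates for the second element. -/
  cy : Tree

namespace Data

variable (d : Data)

/-- An element. -/
noncomputable def el (a : ℕ) : ℕ := d.els.get a

/-- A representative. -/
noncomputable def rep (i : ℕ) : ℕ := d.reps.get i

/-- The product table. -/
noncomputable def mt (a b : ℕ) : ℕ := byteAt (d.mrows.get a) b

/-- The cocycle table. -/
noncomputable def tn (a b : ℕ) : ℕ := byteAt (d.trows.get a) b

/-- The checks of the generators. -/
noncomputable def gensB (masks : List ℕ) : Bool :=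
  allB (fun g => memG masks (unp g)) d.gens

/-- A list generated from the identity. -/
noncomputable def genB (get step : ℕ → ℕ) (n : ℕ) : Bool :=
  allLt (fun i => Nat.beq (dg (get 0) i) i) 24 &&
    allLt (fun k => Nat.beq k 0 ||
      (Nat.blt (step k / 16) k && Nat.blt (step k % 16) d.gens.length &&
        compB (get k) (getR d.gens (step k % 16)) (get (step k / 16)))) n

/-- The checks of the subgroup. -/
noncomputable def groupB : Bool :=
  Nat.blt 0 d.m && d.genB d.el (d.elStep.get) d.m &&
    allLt (fun a => allLt (fun b => Nat.blt (d.mt a b) d.m &&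
      compB (d.el (d.mt a b)) (d.el a) (d.el b)) d.m) d.m &&
    allLt (fun a => allLt (fun b => !(Nat.beq (d.el a) (d.el b) ||
      allLt (fun i => Nat.beq (dg (d.el a) i) (dg (d.el b) i)) 24)) a) d.m &&
    allLt (fun a => List.isPerm (d.pairs.map fun p => nrm (dg (d.el a) p.1) (dg (d.el a) p.2))
      (d.pairs.map fun p => nrm p.1 p.2)) d.m &&
    allB (fun p => Nat.blt p.1 24 && Nat.blt p.2 24) d.pairs

/-- The identity at one right factor. -/
noncomputable def cocAt (s : ℕ) : Bool :=
  allLt (fun a => allLt (fun b =>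
    Nat.beq ((d.tn a b + d.tn (d.mt a b) s) % d.q) ((d.tn a (d.mt b s) + d.tn b s) % d.q)) d.m) d.m

/-- The checks of the cocycle. -/
noncomputable def cocB : Bool :=
  d.cocAt 0 && allB d.cocAt d.rgens &&
    allLt (fun c => Nat.beq c 0 ||
      (Nat.blt (d.rStep.get c / 256) c && memB (d.rStep.get c % 256) d.rgens &&
        Nat.blt (d.rStep.get c % 256) d.m &&
        Nat.beq (d.mt (d.rStep.get c / 256) (d.rStep.get c % 256)) c)) d.m

/-- The checks of the representatives. -/
noncomputable def repsB : Bool := d.genB d.rep d.repStep.get d.N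

/-- The checks of the order by the invariant. -/
noncomputable def ordB : Bool :=
  allLt (fun i => Nat.blt (d.ord.get i) d.N &&
    (Nat.beq i 0 || Nat.blt (keyN d.pairs (d.rep (d.ord.get (i - 1))))
      (keyN d.pairs (d.rep (d.ord.get i))))) d.N

/-- The checks of the coordinates of an element. -/
noncomputable def coordB (x : ℕ) (cx : Tree) : Bool :=
  allLt (fun i => Nat.blt (cx.get i / 256) d.N && Nat.blt (cx.get i % 256) d.m &&
    sameB x (d.rep i) (d.rep (cx.get i / 256)) (d.el (cx.get i % 256))) d.N

/-- The checks of the two elements and of their commutator. -/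
noncomputable def pairB (masks : List ℕ) : Bool :=
  memG masks (unp d.x) && memG masks (unp d.y) && sameB d.x d.y d.y d.x &&
    Nat.beq (Nat.gcd ((sumLt (fun i => d.tn (d.cx.get (d.cy.get i / 256) % 256)
        (d.cy.get i % 256)) d.N % d.q +
      (d.q - sumLt (fun i => d.tn (d.cy.get (d.cx.get i / 256) % 256)
        (d.cx.get i % 256)) d.N % d.q)) % d.q) d.q) 1

end Data

theorem dg_lt {A i : ℕ} (h : validL 24 (unp A) = true) (hi : i < 24) : dg A i < 24 :=
  (validL_iff.1 h).2.1 _ (List.mem_map.2 ⟨i, List.mem_range.2 hi, rfl⟩)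

theorem getD_unp {A i : ℕ} (hi : i < 24) : (unp A).getD i 0 = dg A i := by
  rw [unp, List.getD_eq_getElem _ _ (by simpa using hi)]
  simp

theorem compL_unp {A B : ℕ} (hB : validL 24 (unp B) = true) :
    compL (unp A) (unp B) = (List.range 24).map fun i => dg A (dg B i) := by
  rw [compL, show unp B = (List.range 24).map (dg B) from rfl, List.map_map]
  exact List.map_congr_left fun i hi => getD_unp (dg_lt hB (List.mem_range.1 hi))

theorem compB_spec {C A B : ℕ} (hA : validL 24 (unp A) = true) (hB : validL 24 (unp B) = true)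
    (h : compB C A B = true) :
    validL 24 (unp C) = true ∧ pL (unp C) = pL (unp A) * pL (unp B) := by
  have e : unp C = compL (unp A) (unp B) := by
    rw [compL_unp hB]
    exact List.map_congr_left fun i hi => Nat.eq_of_beq_eq_true (allLt_spec h i (List.mem_range.1 hi))
  rw [e]
  exact ⟨validL_compL hA hB, pL_compL hA hB⟩

theorem sameB_spec {A B C D : ℕ} (hA : validL 24 (unp A) = true) (hB : validL 24 (unp B) = true)
    (hC : validL 24 (unp C) = true) (hD : validL 24 (unp D) = true) (h : sameB A B C D = true) :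
    pL (unp A) * pL (unp B) = pL (unp C) * pL (unp D) := by
  rw [← pL_compL hA hB, ← pL_compL hC hD, compL_unp hB, compL_unp hD]
  exact congrArg pL (List.map_congr_left fun i hi =>
    Nat.eq_of_beq_eq_true (allLt_spec h i (List.mem_range.1 hi)))

theorem keyP_pL {O : List (ℕ × ℕ)} {A : ℕ} (hA : validL 24 (unp A) = true) :
    (∀ p ∈ O, p.1 < 24 ∧ p.2 < 24) → keyP O (pL (unp A)) = keyN O A := by
  induction O with
  | nil => intro _; rfl
  | cons p O ih =>
    intro h
    obtain ⟨h1, h2⟩ := h p List.mem_cons_self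
    have e : ∀ i < 24, (ptEquiv (pL (unp A) (pt i))).val = dg A i := fun i hi => by
      rw [pL_pt hA hi, getD_unp hi, ptEquiv_pt (dg_lt hA hi)]
    show phi _ _ + keyP O (pL (unp A)) = _
    rw [ih fun q hq => h q (List.mem_cons_of_mem _ hq), e _ h1, e _ h2]
    rfl

theorem keyP_mul {O : List (ℕ × ℕ)} {A : ℕ} (hA : validL 24 (unp A) = true)
    (hO : ∀ p ∈ O, p.1 < 24 ∧ p.2 < 24)
    (h : List.isPerm (O.map fun p => nrm (dg A p.1) (dg A p.2)) (O.map fun p => nrm p.1 p.2) = true)
    (g : Equiv.Perm GolayPt) : keyP O (g * pL (unp A)) = keyP O g := by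
  let psi : ℕ → ℕ := fun c => phi (ptEquiv (g (pt (c / 32)))).val (ptEquiv (g (pt (c % 32)))).val
  have hpsi : ∀ u < 24, ∀ v < 24, phi (ptEquiv (g (pt u))).val (ptEquiv (g (pt v))).val =
      psi (nrm u v) := by
    intro u hu v hv
    simp only [psi, nrm, Nat.add_eq, Nat.mul_eq]
    cases hle : Nat.ble u v with
    | true =>
      rw [cond_true, show (32 * u + v) / 32 = u by omega, show (32 * u + v) % 32 = v by omega]
    | false =>
      rw [cond_false, show (32 * v + u) / 32 = v by omega, show (32 * v + u) % 32 = u by omega]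
      simp only [phi, Nat.add_eq]
      rw [Nat.add_comm]
  have e1 : keyP O (g * pL (unp A)) = ((O.map fun p => nrm (dg A p.1) (dg A p.2)).map psi).sum := by
    rw [keyP, List.map_map]
    refine congrArg List.sum (List.map_congr_left fun p hp => ?_)
    obtain ⟨h1, h2⟩ := hO p hp
    rw [Function.comp_apply, Equiv.Perm.mul_apply, Equiv.Perm.mul_apply, pL_pt hA h1, pL_pt hA h2,
      getD_unp h1, getD_unp h2]
    exact hpsi _ (dg_lt hA h1) _ (dg_lt hA h2)
  have e2 : keyP O g = ((O.map fun p => nrm p.1 p.2).map psi).sum := by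
    rw [keyP, List.map_map]
    refine congrArg List.sum (List.map_congr_left fun p hp => ?_)
    exact hpsi _ (hO p hp).1 _ (hO p hp).2
  rw [e1, e2]
  exact ((List.isPerm_iff.1 h).map psi).sum_eq

theorem sumLt_eq (f : ℕ → ℕ) : ∀ n, sumLt f n = ∑ i ∈ Finset.range n, f i
  | 0 => rfl
  | n + 1 => by
    show f n + sumLt f n = _
    rw [sumLt_eq f n, Finset.sum_range_succ, Nat.add_comm]

theorem genB_spec {d : Data} {G : Subgroup (Equiv.Perm GolayPt)} {masks : List ℕ} (hG : Cut G masks)
    (hg : d.gensB masks = true) {get step : ℕ → ℕ} {n : ℕ} (h : d.genB get step n = true) :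
    ∀ k < n, validL 24 (unp (get k)) = true ∧ pL (unp (get k)) ∈ G := by
  simp only [Data.genB, Bool.and_eq_true] at h
  obtain ⟨h0, hstep⟩ := h
  intro k
  induction k using Nat.strong_induction_on with
  | _ k ih =>
    intro hk
    rcases Nat.eq_zero_or_pos k with rfl | hpos
    · have e : unp (get 0) = List.range 24 := (List.map_congr_left fun i hi =>
        Nat.eq_of_beq_eq_true (allLt_spec h0 i (List.mem_range.1 hi))).trans (List.map_id _)
      rw [e, pL_range]
      exact ⟨validL_range24, one_mem G⟩
    · have hs := allLt_spec hstep k hk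
      simp only [Bool.or_eq_true, Bool.and_eq_true] at hs
      rcases hs with hs | ⟨⟨hpar, hgen⟩, hc⟩
      · exact absurd (Nat.eq_of_beq_eq_true hs) (by omega)
      · rw [Nat.blt_eq] at hpar hgen
        obtain ⟨hv, hm⟩ := ih _ hpar (hpar.trans hk)
        simp only [Data.gensB, allB_iff] at hg
        have hmem : getR d.gens (step k % 16) ∈ d.gens := by
          rw [getR_eq, List.getD_eq_getElem _ _ hgen]; exact List.getElem_mem hgen
        obtain ⟨hgv, hgm⟩ := hG.of_test (hg _ hmem)
        obtain ⟨h1, h2⟩ := compB_spec hgv hv hc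
        exact ⟨h1, h2 ▸ mul_mem hgm hm⟩

/-- The checks give a stem extension with cyclic kernel. -/
theorem exists_stem (d : Data) {G : Subgroup (Equiv.Perm GolayPt)} {masks : List ℕ} (hG : Cut G masks)
    [NeZero d.q] (hcard : Nat.card G = d.N * d.m) (hg : d.gensB masks = true)
    (hgrp : d.groupB = true) (hcoc : d.cocB = true) (hrgen : d.repsB = true) (hord : d.ordB = true)
    (hcx : d.coordB d.x d.cx = true) (hcy : d.coordB d.y d.cy = true) (hpair : d.pairB masks = true) :
    ∃ (Γ : Type) (_ : Group Γ) (_ : Finite Γ) (σ : Γ →* ↥G),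
      Cfsg.IsStemExtension σ ∧ Nonempty (σ.ker ≃* Multiplicative (ZMod d.q)) := by
  simp only [Data.groupB, Bool.and_eq_true] at hgrp
  obtain ⟨⟨⟨⟨⟨hm, hgen⟩, hmul⟩, hinj⟩, hkeyel⟩, hO⟩ := hgrp
  rw [Nat.blt_eq] at hm
  simp only [Data.pairB, Bool.and_eq_true] at hpair
  obtain ⟨⟨⟨hxm, hym⟩, hxy⟩, hunit⟩ := hpair
  simp only [Data.cocB, Bool.and_eq_true, allB_iff] at hcoc
  obtain ⟨⟨hc0, hcs⟩, hcpar⟩ := hcoc
  simp only [allB_iff, Bool.and_eq_true, Nat.blt_eq] at hO
  have hel := genB_spec hG hg hgen
  have hrep := genB_spec hG hg hrgen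
  obtain ⟨hxv, hxG⟩ := hG.of_test hxm
  obtain ⟨hyv, hyG⟩ := hG.of_test hym
  classical
  let el : ℕ → ↥G := fun a => if h : pL (unp (d.el a)) ∈ G then ⟨_, h⟩ else 1
  let t : ℕ → ↥G := fun i => if h : pL (unp (d.rep i)) ∈ G then ⟨_, h⟩ else 1
  have hel' : ∀ a < d.m, ((el a : ↥G) : Equiv.Perm GolayPt) = pL (unp (d.el a)) := fun a ha => by
    simp only [el, dif_pos (hel a ha).2]
  have ht' : ∀ i < d.N, ((t i : ↥G) : Equiv.Perm GolayPt) = pL (unp (d.rep i)) := fun i hi => by
    simp only [t, dif_pos (hrep i hi).2]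
  have hcocspec : ∀ s, d.cocAt s = true → ∀ a < d.m, ∀ b < d.m,
      (d.tn a b : ZMod d.q) + (d.tn (d.mt a b) s : ZMod d.q) =
        (d.tn a (d.mt b s) : ZMod d.q) + (d.tn b s : ZMod d.q) := fun s hs a ha b hb => by
    rw [← Nat.cast_add, ← Nat.cast_add, ZMod.natCast_eq_natCast_iff']
    exact Nat.eq_of_beq_eq_true (allLt_spec (allLt_spec hs a ha) b hb)
  have hcoord : ∀ (x : ℕ) (hxv : validL 24 (unp x) = true) (hxG : pL (unp x) ∈ G)
      (cx : Tree), d.coordB x cx = true → ∀ i < d.N,
      cx.get i / 256 < d.N ∧ cx.get i % 256 < d.m ∧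
        (⟨_, hxG⟩ : ↥G) * t i = t (cx.get i / 256) * el (cx.get i % 256) := by
    intro x hxv hxG cx h i hi
    have h1 := allLt_spec h i hi
    simp only [Bool.and_eq_true, Nat.blt_eq] at h1
    obtain ⟨⟨hj, hk⟩, hs⟩ := h1
    refine ⟨hj, hk, Subtype.ext ?_⟩
    rw [Subgroup.coe_mul, Subgroup.coe_mul, ht' i hi, ht' _ hj, hel' _ hk]
    exact sameB_spec hxv (hrep i hi).1 (hrep _ hj).1 (hel _ hk).1 hs
  refine CocycleCover.exists_stem_of_table (el := el) (t := t) (mt := d.mt)
    (T := fun a b => (d.tn a b : ZMod d.q)) (fun g : ↥G => keyP d.pairs g.1) hm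
    (fun a ha b hb => ?_) ?_ (fun a ha b hb he => ?_) (fun g a ha => ?_) (fun i hi j hj he => ?_)
    hcard (fun c => d.rStep.get c / 256) (fun c => d.rStep.get c % 256)
    (hcocspec 0 hc0) (fun c hc hcm => ?_)
    (x := ⟨_, hxG⟩) (y := ⟨_, hyG⟩) (Subtype.ext (sameB_spec hxv hyv hyv hxv hxy))
    (fun i => d.cx.get i / 256) (fun i => d.cx.get i % 256)
    (fun i => d.cy.get i / 256) (fun i => d.cy.get i % 256)
    (hcoord _ hxv hxG _ hcx) (hcoord _ hyv hyG _ hcy) ?_
  · have h := allLt_spec (allLt_spec hmul a ha) b hb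
    simp only [Bool.and_eq_true, Nat.blt_eq] at h
    refine ⟨h.1, Subtype.ext ?_⟩
    rw [Subgroup.coe_mul, hel' a ha, hel' b hb, hel' _ h.1]
    exact (compB_spec (hel a ha).1 (hel b hb).1 h.2).2.symm
  · have h0 := hgen
    simp only [Data.genB, Bool.and_eq_true] at h0
    apply Subtype.ext
    rw [hel' 0 hm, show unp (d.el 0) = List.range 24 from (List.map_congr_left fun i hi =>
      Nat.eq_of_beq_eq_true (allLt_spec h0.1 i (List.mem_range.1 hi))).trans (List.map_id _), pL_range]
    rfl
  · have key : ∀ u v, v < u → u < d.m → el u ≠ el v := by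
      intro u v huv hu he
      have h := allLt_spec (allLt_spec hinj u hu) v huv
      have he' := congrArg Subtype.val he
      rw [hel' u hu, hel' v (huv.trans hu)] at he'
      have := pL_inj (hel u hu).1 (hel v (huv.trans hu)).1 he'
      simp only [Bool.not_eq_true', Bool.or_eq_false_iff] at h
      have hall : allLt (fun i => Nat.beq (dg (d.el u) i) (dg (d.el v) i)) 24 = true := by
        have hh : ∀ n, n ≤ 24 → allLt (fun i => Nat.beq (dg (d.el u) i) (dg (d.el v) i)) n = true := by
          intro n
          induction n with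
          | zero => intro _; rfl
          | succ n ih =>
            intro hn
            show (Nat.beq (dg (d.el u) n) (dg (d.el v) n) &&
              allLt (fun i => Nat.beq (dg (d.el u) i) (dg (d.el v) i)) n) = true
            rw [← getD_unp (A := d.el u) (show n < 24 by omega), this, getD_unp (show n < 24 by omega),
              ih (by omega)]
            simp
        exact hh 24 le_rfl
      rw [hall] at h
      exact Bool.noConfusion h.2
    rcases lt_trichotomy a b with h | h | h
    · exact absurd he.symm (key b a h hb)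
    · exact h
    · exact absurd he (key a b h ha)
  · show keyP d.pairs (g.1 * (el a : ↥G).1) = keyP d.pairs g.1
    rw [hel' a ha]
    exact keyP_mul (hel a ha).1 hO (allLt_spec hkeyel a ha) g.1
  · let o : Fin d.N → Fin d.N := fun k => ⟨d.ord.get k, by
      have h := allLt_spec hord k k.2
      simp only [Bool.and_eq_true, Nat.blt_eq] at h
      exact h.1⟩
    let K : Fin d.N → ℕ := fun k => keyN d.pairs (d.rep (o k))
    have hstep : ∀ k : ℕ, (hk : k + 1 < d.N) → K ⟨k, by omega⟩ < K ⟨k + 1, hk⟩ := fun k hk => by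
      have h := allLt_spec hord (k + 1) hk
      simp only [Bool.and_eq_true, Bool.or_eq_true, Nat.blt_eq] at h
      rcases h.2 with h2 | h2
      · exact absurd (Nat.eq_of_beq_eq_true h2) (by omega)
      · exact h2
    have hmono : ∀ b a : ℕ, a < b → (hb : b < d.N) → ∀ ha : a < d.N, K ⟨a, ha⟩ < K ⟨b, hb⟩ := by
      intro b
      induction b with
      | zero => intro a h; omega
      | succ b ih =>
        intro a h hb ha
        rcases Nat.lt_succ_iff_lt_or_eq.1 h with h' | rfl
        · exact (ih a h' (by omega) ha).trans (hstep b hb)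
        · exact hstep a hb
    have hKinj : Function.Injective K := fun a b e => by
      rcases lt_trichotomy a.1 b.1 with h | h | h
      · exact absurd e (hmono _ _ h b.2 a.2).ne
      · exact Fin.ext h
      · exact absurd e (hmono _ _ h a.2 b.2).ne'
    have ho : Function.Surjective o := Finite.surjective_of_injective fun a b e => hKinj (by
      simp only [K, e])
    obtain ⟨a, ha⟩ := ho ⟨i, hi⟩
    obtain ⟨b, hb⟩ := ho ⟨j, hj⟩
    have he' : keyN d.pairs (d.rep i) = keyN d.pairs (d.rep j) := by
      have he2 : keyP d.pairs (t i).1 = keyP d.pairs (t j).1 := he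
      rw [ht' i hi, ht' j hj, keyP_pL (hrep i hi).1 hO, keyP_pL (hrep j hj).1 hO] at he2
      exact he2
    have hab : a = b := hKinj (by simp only [K, ha, hb]; exact he')
    rw [← hab, ha] at hb
    exact congrArg Fin.val hb
  · have h := allLt_spec hcpar c hcm
    simp only [Bool.or_eq_true, Bool.and_eq_true, Nat.blt_eq] at h
    rcases h with h | ⟨⟨⟨h1, h2⟩, h3⟩, h4⟩
    · exact absurd (Nat.eq_of_beq_eq_true h) (by omega)
    · exact ⟨h1, h3, Nat.eq_of_beq_eq_true h4, hcocspec _ (hcs _ (memB_iff.1 h2))⟩
  · have hq := NeZero.pos d.q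
    rw [← Nat.cast_sum, ← Nat.cast_sum, ← sumLt_eq, ← sumLt_eq]
    have hu := (ZMod.unitOfCoprime _ (Nat.coprime_iff_gcd_eq_one.2 (Nat.eq_of_beq_eq_true hunit))).isUnit
    rw [ZMod.coe_unitOfCoprime, ZMod.natCast_mod, Nat.cast_add, ZMod.natCast_mod,
      Nat.cast_sub (Nat.mod_lt _ hq).le, ZMod.natCast_self, ZMod.natCast_mod, zero_sub,
      ← sub_eq_add_neg] at hu
    exact hu

end CfsgLib.Schur.Tails.PermTable
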