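import Cfsg.Agent.Lib.Tails.SplitTable
import Cfsg.Agent.Lib.Tails.PermTable
import Cfsg.Agent.Lib.Rigid.Cert

/-!
# Split table covers for groups coded by matrices over the field with two elements

Besides its columns an element carries, packed in one number, its action on a set of bit vectors that
contains a base; equalities of products are read off there.
-/

set_option autoImplicit false

namespace CfsgLib.Schur.Tails.CodTable

open CfsgLib.Rigid
open CfsgLib.Schur.Tails.PermTable (Tree byteAt sumLt sumLt_eq)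

/-- All numbers below the bound pass. -/
noncomputable def allN (P : ℕ → Bool) (n : ℕ) : Bool :=
  Nat.rec (motive := fun _ => Bool) true (fun k ih => P k && ih) n

theorem allN_spec {P : ℕ → Bool} : ∀ {n : ℕ}, allN P n = true → ∀ i < n, P i = true := by
  intro n
  induction n with
  | zero => intro _ i hi; exact absurd hi (Nat.not_lt_zero _)
  | succ n ih =>
    intro h i hi
    have h' : (P n && allN P n) = true := h
    simp only [Bool.and_eq_true] at h'
    rcases Nat.lt_succ_iff_lt_or_eq.1 hi with hi | rfl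
    · exact ih h'.2 i hi
    · exact h'.1

/-- An image among the points. -/
noncomputable def dig (P i : ℕ) : ℕ := Nat.land (Nat.shiftRight P (Nat.mul 9 i)) 511

/-- The columns packed in a number. -/
noncomputable def unc (k A : ℕ) : List ℕ :=
  (List.range k).map fun i => Nat.land (Nat.shiftRight A (Nat.mul k i)) (Nat.pow 2 k - 1)

/-- A member of a list of numbers. -/
noncomputable def nth (l : List ℕ) : ℕ → ℕ :=
  List.rec (motive := fun _ => ℕ → ℕ) (fun _ => 0) (fun a _ ih i => cond (Nat.beq i 0) a (ih (i - 1))) l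

/-- The place in a list. -/
noncomputable def posOf (l : List ℕ) (s : ℕ) : ℕ :=
  List.rec (motive := fun _ => ℕ) 0 (fun a _ ih => cond (Nat.beq a s) 0 (ih + 1)) l

/-- The data. -/
structure Data where
  /-- The modulus. -/
  q : ℕ
  /-- The length of a code. -/
  dim : ℕ
  /-- The number of points. -/
  npt : ℕ
  /-- The order of the abelian group. -/
  mv : ℕ
  /-- The order of the complement. -/
  nk : ℕ
  /-- The index. -/
  N : ℕ
  /-- The code of the identity. -/
  one : List ℕ
  /-- The points. -/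
  pts : Tree
  /-- The places of the base. -/
  bas : List ℕ
  /-- The program reaching the generators. -/
  ops : List Op
  /-- The positions of the generators among the results. -/
  gi : List ℕ
  /-- The actions of the generators. -/
  gperm : List ℕ
  /-- The first factors of the representatives: codes. -/
  aC : Tree
  /-- Their actions. -/
  aP : Tree
  /-- Their steps, as `par * 16 + gen`. -/
  aStep : Tree
  /-- Their number. -/
  na : ℕ
  /-- The second factors: codes. -/
  bC : Tree
  /-- Their actions. -/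
  bP : Tree
  /-- Their steps. -/
  bStep : Tree
  /-- Their number. -/
  nb : ℕ
  /-- The actions of the abelian group. -/
  vP : Tree
  /-- Their steps. -/
  vStep : Tree
  /-- The first generators that fix the vector. -/
  fixFrom : ℕ
  /-- The rows of the addition. -/
  addT : Tree
  /-- The actions of the complement. -/
  kP : Tree
  /-- Their steps. -/
  kStep : Tree
  /-- Generators of the complement, as places. -/
  kgens : List ℕ
  /-- For each element the products with these, ten bits each. -/
  kMul : Tree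
  /-- For each element of the complement an earlier one and a right generator, as `par * 1024 + gen`. -/
  rStep : Tree
  /-- The conjugation rows. -/
  actT : Tree
  /-- The rows of the one-cocycle. -/
  psiT : Tree
  /-- The place of the point moved regularly by the abelian group. -/
  pt : ℕ
  /-- The vector. -/
  w : ℕ
  /-- The representatives as `first * 256 + second`. -/
  reps : Tree
  /-- The representatives ordered by their images of the vector. -/
  ord : Tree
  /-- The first element, in the abelian group. -/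
  x : ℕ
  /-- The second element, in the complement. -/
  y : ℕ
  /-- The coordinates for the first element, as `rep * 65536 + element`. -/
  cx : Tree
  /-- The coordinates for the second element. -/
  cy : Tree

namespace Data

variable (d : Data)

/-- The codes the program gives. -/
noncomputable def known (start : List (List ℕ)) : List (List ℕ) := start ++ d.ops.map Op.M

/-- The code of a generator. -/
noncomputable def gcode (start : List (List ℕ)) (g : ℕ) : List ℕ :=
  (d.known start).getD (nth d.gi g) d.one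

/-- The sum table. -/
noncomputable def add (a b : ℕ) : ℕ := byteAt (d.addT.get a) b

/-- The conjugation table. -/
noncomputable def act (s v : ℕ) : ℕ := byteAt (d.actT.get s) v

/-- The one-cocycle table. -/
noncomputable def psi (k v : ℕ) : ℕ := byteAt (d.psiT.get k) v

/-- The products by the generators of the complement. -/
noncomputable def mtg (k s : ℕ) : ℕ :=
  Nat.land (Nat.shiftRight (d.kMul.get k) (Nat.mul 10 (posOf d.kgens s))) 1023

/-- A composite of two actions. -/
noncomputable def permB (C A B : ℕ) : Bool :=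
  allN (fun i => Nat.beq (dig C i) (dig A (dig B i))) d.npt

/-- Two actions agree on the base. -/
noncomputable def baseEqB (f g : ℕ → ℕ) : Bool := d.bas.all fun b => Nat.beq (f b) (g b)

/-- The checks of the points and the generators. -/
noncomputable def gensB (start : List (List ℕ)) (base : List ℕ) : Bool :=
  Rigid.slpOk d.one d.ops start && eqL (d.bas.map d.pts.get) base &&
    (d.bas.all fun b => Nat.blt b d.npt) &&
    allN (fun i => Nat.beq (img d.one (d.pts.get i)) (d.pts.get i)) d.npt &&
    ndTest 32 ((List.range d.npt).map d.pts.get) &&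
    Nat.beq d.gperm.length d.gi.length && (d.gi.all fun i => Nat.blt i (d.known start).length) &&
    allN (fun g => allN (fun i => Nat.blt (dig (nth d.gperm g) i) d.npt &&
      Nat.beq (img (d.gcode start g) (d.pts.get i)) (d.pts.get (dig (nth d.gperm g) i))) d.npt) d.gi.length &&
    allN (fun g => Nat.blt g d.fixFrom || Nat.beq (img (d.gcode start g) d.w) d.w) d.gi.length &&
    Nat.beq (img d.one d.w) d.w

/-- A list generated from the identity, with codes. -/
noncomputable def treeB (start : List (List ℕ)) (C P step : Tree) (n : ℕ) : Bool :=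
  eqL (unc d.dim (C.get 0)) d.one && allN (fun i => Nat.beq (dig (P.get 0) i) i) d.npt &&
    allN (fun k => Nat.beq k 0 ||
      (Nat.blt (step.get k / 16) k && Nat.blt (step.get k % 16) d.gi.length &&
        eqL (mulF (d.gcode start (step.get k % 16)) (unc d.dim (C.get (step.get k / 16)))) (unc d.dim (C.get k)) &&
        d.permB (P.get k) (nth d.gperm (step.get k % 16)) (P.get (step.get k / 16)))) n

/-- A list of elements fixing the vector, generated from the identity. -/
noncomputable def fixTreeB (P step : Tree) (n : ℕ) : Bool :=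
  allN (fun i => Nat.beq (dig (P.get 0) i) i) d.npt &&
    allN (fun k => Nat.beq k 0 ||
      (Nat.blt (step.get k / 16) k && Nat.blt (step.get k % 16) d.gi.length &&
        Nat.ble d.fixFrom (step.get k % 16) &&
        d.permB (P.get k) (nth d.gperm (step.get k % 16)) (P.get (step.get k / 16)))) n

/-- The checks of the abelian group. -/
noncomputable def vB : Bool :=
  Nat.blt 0 d.mv && Nat.blt d.pt d.npt && d.fixTreeB d.vP d.vStep d.mv &&
    allN (fun a => allN (fun b => Nat.blt (d.add a b) d.mv &&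
      d.baseEqB (fun i => dig (d.vP.get a) (dig (d.vP.get b) i)) fun i => dig (d.vP.get (d.add a b)) i) d.mv) d.mv &&
    ndTest 16 ((List.range d.mv).map fun v => dig (d.vP.get v) d.pt)

/-- The value of an action on the base, as one number. -/
noncomputable def baseKey (A : ℕ) : ℕ :=
  List.rec (motive := fun _ => ℕ) 0 (fun b _ ih => Nat.add (dig A b) (Nat.mul 512 ih)) d.bas

/-- The checks of the complement. -/
noncomputable def kB : Bool :=
  Nat.blt 0 d.nk && d.fixTreeB d.kP d.kStep d.nk &&
    allN (fun k => Nat.beq (dig (d.kP.get k) d.pt) d.pt) d.nk &&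
    ndTest 80 ((List.range d.nk).map fun k => d.baseKey (d.kP.get k)) &&
    (d.kgens.all fun s => Nat.blt s d.nk && allN (fun v => Nat.blt (d.act s v) d.mv &&
      d.baseEqB (fun i => dig (d.kP.get s) (dig (d.vP.get v) i))
        fun i => dig (d.vP.get (d.act s v)) (dig (d.kP.get s) i)) d.mv) &&
    allN (fun c => Nat.beq c 0 ||
      (Nat.blt (d.rStep.get c / 1024) c && d.kgens.contains (d.rStep.get c % 1024) &&
        Nat.beq (d.mtg (d.rStep.get c / 1024) (d.rStep.get c % 1024)) c)) d.nk

/-- The checks of the products in the complement and of the one-cocycle. -/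
noncomputable def psiB : Bool :=
  allN (fun v => Nat.beq (d.psi 0 v % d.q) 0) d.mv &&
    (d.kgens.all fun s => allN (fun a => allN (fun b =>
      Nat.beq (d.psi s (d.add a b) % d.q) ((d.psi s a + d.psi s b) % d.q)) d.mv) d.mv) &&
    allN (fun k => d.kgens.all fun s => Nat.blt (d.mtg k s) d.nk &&
      d.baseEqB (fun i => dig (d.kP.get k) (dig (d.kP.get s) i)) (fun i => dig (d.kP.get (d.mtg k s)) i) &&
      allN (fun v => Nat.beq (d.psi (d.mtg k s) v % d.q) ((d.psi k (d.act s v) + d.psi s v) % d.q)) d.mv) d.nk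

/-- The image of the vector under a representative. -/
noncomputable def keyN (i : ℕ) : ℕ :=
  img (unc d.dim (d.aC.get (d.reps.get i / 256))) (img (unc d.dim (d.bC.get (d.reps.get i % 256))) d.w)

/-- The checks of the representatives. -/
noncomputable def repsB : Bool :=
  allN (fun i => Nat.blt (d.reps.get i / 256) d.na && Nat.blt (d.reps.get i % 256) d.nb) d.N

/-- The checks of the order by the images of the vector, on a range. -/
noncomputable def ordB (lo cnt : ℕ) : Bool :=
  allN (fun n =>
    let i := lo + n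
    Nat.blt (d.ord.get i) d.N &&
      (Nat.beq i 0 || Nat.blt (d.keyN (d.ord.get (i - 1))) (d.keyN (d.ord.get i)))) cnt

/-- The checks of the coordinates of an element with the given action, on a range. -/
noncomputable def coordB (xP : ℕ) (cx : Tree) (lo cnt : ℕ) : Bool :=
  allN (fun n =>
    let i := lo + n
    let e := cx.get i % 65536
    Nat.blt (cx.get i / 65536) d.N && Nat.blt e (d.mv * d.nk) &&
      d.baseEqB (fun b => dig xP (dig (d.aP.get (d.reps.get i / 256)) (dig (d.bP.get (d.reps.get i % 256)) b)))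
        fun b => dig (d.aP.get (d.reps.get (cx.get i / 65536) / 256))
          (dig (d.bP.get (d.reps.get (cx.get i / 65536) % 256))
            (dig (d.vP.get (e / d.nk)) (dig (d.kP.get (e % d.nk)) b)))) cnt

/-- The term of the sum at a representative. -/
noncomputable def term (cx cy : Tree) (i : ℕ) : ℕ :=
  d.psi (cx.get (cy.get i / 65536) % 65536 % d.nk) (cy.get i % 65536 / d.nk)

/-- The checks of the commutator. -/
noncomputable def pairB : Bool :=
  Nat.blt d.x d.mv && Nat.blt d.y d.nk &&
    d.baseEqB (fun b => dig (d.vP.get d.x) (dig (d.kP.get d.y) b))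
      (fun b => dig (d.kP.get d.y) (dig (d.vP.get d.x) b)) &&
    Nat.beq (Nat.gcd ((sumLt (d.term d.cx d.cy) d.N % d.q + (d.q - sumLt (d.term d.cy d.cx) d.N % d.q)) % d.q) d.q) 1

end Data

variable {G : Type} [Group G] (c : Cod G)

/-- The action of an element on the points is given by the number. -/
def Rep (d : Data) (g : G) (P : ℕ) : Prop :=
  ∀ i < d.npt, dig P i < d.npt ∧ img (c.C g) (d.pts.get i) = d.pts.get (dig P i)

variable {c} {d : Data}

theorem Rep.mul {g h : G} {A B : ℕ} (hg : Rep c d g A) (hh : Rep c d h B) {i : ℕ} (hi : i < d.npt) :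
    dig A (dig B i) < d.npt ∧ img (c.C (g * h)) (d.pts.get i) = d.pts.get (dig A (dig B i)) := by
  obtain ⟨h1, h2⟩ := hh i hi
  obtain ⟨h3, h4⟩ := hg _ h1
  exact ⟨h3, by rw [c.img_mul, h2, h4]⟩

theorem Rep.of_perm {g h : G} {A B C : ℕ} (hg : Rep c d g A) (hh : Rep c d h B) (hc : d.permB C A B = true) :
    Rep c d (g * h) C := fun i hi => by
  rw [Nat.eq_of_beq_eq_true (allN_spec hc i hi)]
  exact hg.mul hh hi

theorem Rep.one {P : ℕ} (hone : ∀ i < d.npt, img d.one (d.pts.get i) = d.pts.get i) (h1 : c.C 1 = d.one)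
    (h : allN (fun i => Nat.beq (dig P i) i) d.npt = true) : Rep c d 1 P := fun i hi => by
  rw [Nat.eq_of_beq_eq_true (allN_spec h i hi)]
  exact ⟨hi, by rw [h1]; exact hone i hi⟩

/-- The checks give a stem extension with cyclic kernel. -/
theorem exists_stem [Finite G] (d : Data) [NeZero d.q] (base : List ℕ) (start : List (List ℕ))
    (hbase : ∀ g h : G, (∀ b ∈ base, img (c.C g) b = img (c.C h) b) → g = h) (h1 : c.C 1 = d.one)
    (hstart : ∀ M ∈ start, ∃ g, c.C g = M)
    (hcard : Nat.card G = d.N * (d.mv * d.nk)) (hgens : d.gensB start base = true)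
    (hA : d.treeB start d.aC d.aP d.aStep d.na = true) (hB : d.treeB start d.bC d.bP d.bStep d.nb = true)
    (hv : d.vB = true) (hk : d.kB = true) (hpsi : d.psiB = true) (hrlt : d.repsB = true)
    (hord : ∀ i < d.N, ∃ lo cnt, lo ≤ i ∧ i < lo + cnt ∧ d.ordB lo cnt = true)
    (hcx : ∀ i < d.N, ∃ lo cnt, lo ≤ i ∧ i < lo + cnt ∧ d.coordB (d.vP.get d.x) d.cx lo cnt = true)
    (hcy : ∀ i < d.N, ∃ lo cnt, lo ≤ i ∧ i < lo + cnt ∧ d.coordB (d.kP.get d.y) d.cy lo cnt = true)
    (hpair : d.pairB = true) :
    ∃ (Γ : Type) (_ : Group Γ) (_ : Finite Γ) (σ : Γ →* G),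
      Cfsg.IsStemExtension σ ∧ Nonempty (σ.ker ≃* Multiplicative (ZMod d.q)) := by
  classical
  simp only [Data.gensB, Bool.and_eq_true, List.all_eq_true, Nat.blt_eq, Nat.beq_eq, eqL_iff] at hgens
  obtain ⟨⟨⟨⟨⟨⟨⟨⟨⟨hslp, hbas⟩, hbaslt⟩, honeB⟩, hnd⟩, hlen⟩, hgi⟩, hperm⟩, hfix⟩, honew⟩ := hgens
  have hone : ∀ i < d.npt, img d.one (d.pts.get i) = d.pts.get i := fun i hi =>
    Nat.eq_of_beq_eq_true (allN_spec honeB i hi)
  have hknown := c.slp_sound (K := ⊤) h1 d.ops start
    (fun M hM => (hstart M hM).imp fun g hg => ⟨trivial, hg⟩) hslp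
  have hptinj : ∀ i < d.npt, ∀ j < d.npt, d.pts.get i = d.pts.get j → i = j := by
    intro i hi j hj e
    exact List.inj_on_of_nodup_map (nodup_of_ndTest _ _ hnd) (List.mem_range.2 hi) (List.mem_range.2 hj) e
  have heq : ∀ (g h : G) (f f' : ℕ → ℕ),
      (∀ i < d.npt, f i < d.npt ∧ img (c.C g) (d.pts.get i) = d.pts.get (f i)) →
      (∀ i < d.npt, f' i < d.npt ∧ img (c.C h) (d.pts.get i) = d.pts.get (f' i)) →
      d.baseEqB f f' = true → g = h := by
    intro g h f f' hf hf' he
    refine hbase g h fun b hb => ?_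
    rw [← hbas] at hb
    obtain ⟨i, hi, rfl⟩ := List.mem_map.1 hb
    simp only [Data.baseEqB, List.all_eq_true] at he
    rw [(hf i (hbaslt i hi)).2, (hf' i (hbaslt i hi)).2, Nat.eq_of_beq_eq_true (he i hi)]
  have hgen : ∀ g, g < d.gi.length → ∃ x : G, c.C x = d.gcode start g ∧ Rep c d x (nth d.gperm g) ∧
      (d.fixFrom ≤ g → img (c.C x) d.w = d.w) := by
    intro g hg
    have hmem : nth d.gi g < (d.known start).length := by
      refine hgi _ ?_
      have : ∀ (l : List ℕ) (i : ℕ), i < l.length → nth l i ∈ l := by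
        intro l
        induction l with
        | nil => intro i hi; simp at hi
        | cons a l ih =>
          intro i hi
          cases i with
          | zero => exact List.mem_cons_self
          | succ i => exact List.mem_cons_of_mem _ (ih i (by simpa using hi))
      exact this _ _ hg
    obtain ⟨x, -, hx⟩ := hknown _ (List.getElem_mem hmem)
    have hx' : c.C x = d.gcode start g := by
      rw [Data.gcode, List.getD_eq_getElem _ _ hmem]; exact hx
    refine ⟨x, hx', fun i hi => ?_, fun hle => ?_⟩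
    · have h := allN_spec (allN_spec hperm g hg) i hi
      simp only [Bool.and_eq_true, Nat.blt_eq, Nat.beq_eq] at h
      exact ⟨h.1, by rw [hx']; exact h.2⟩
    · have h := allN_spec hfix g hg
      simp only [Bool.or_eq_true, Nat.blt_eq, Nat.beq_eq] at h
      rw [hx']
      exact h.resolve_left (by omega)
  have htree : ∀ (C P step : Tree) (n : ℕ), d.treeB start C P step n = true → ∀ k, ∃ x : G,
      k < n → c.C x = unc d.dim (C.get k) ∧ Rep c d x (P.get k) := by
    intro C P step n h
    simp only [Data.treeB, Bool.and_eq_true, eqL_iff] at h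
    obtain ⟨⟨h0, hid⟩, hst⟩ := h
    intro k
    induction k using Nat.strong_induction_on with
    | _ k ih =>
      by_cases hk : k < n
      · have hs := allN_spec hst k hk
        rcases Nat.eq_zero_or_pos k with rfl | hpos
        · exact ⟨1, fun _ => ⟨by rw [h1, h0], Rep.one hone h1 hid⟩⟩
        · simp only [Bool.or_eq_true, Bool.and_eq_true, Nat.blt_eq, Nat.beq_eq, eqL_iff] at hs
          obtain ⟨⟨⟨hp, hg⟩, hc⟩, hperm'⟩ := hs.resolve_left (by omega)
          obtain ⟨g, hgc, hgr, -⟩ := hgen _ hg
          obtain ⟨x, hx⟩ := ih _ hp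
          obtain ⟨hxc, hxr⟩ := hx (hp.trans hk)
          exact ⟨g * x, fun _ => ⟨by rw [c.mul, hgc, hxc, hc], hgr.of_perm hxr hperm'⟩⟩
      · exact ⟨1, fun h => absurd h hk⟩
  have hfixtree : ∀ (P step : Tree) (n : ℕ), d.fixTreeB P step n = true → ∀ k, ∃ x : G,
      k < n → Rep c d x (P.get k) ∧ img (c.C x) d.w = d.w ∧ (k = 0 → x = 1) := by
    intro P step n h
    simp only [Data.fixTreeB, Bool.and_eq_true] at h
    obtain ⟨hid, hst⟩ := h
    intro k
    induction k using Nat.strong_induction_on with
    | _ k ih =>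
      by_cases hk : k < n
      · have hs := allN_spec hst k hk
        rcases Nat.eq_zero_or_pos k with rfl | hpos
        · exact ⟨1, fun _ => ⟨Rep.one hone h1 hid, by rw [h1]; exact honew, fun _ => rfl⟩⟩
        · simp only [Bool.or_eq_true, Bool.and_eq_true, Nat.blt_eq, Nat.beq_eq, Nat.ble_eq] at hs
          obtain ⟨⟨⟨hp, hg⟩, hff⟩, hperm'⟩ := hs.resolve_left (by omega)
          obtain ⟨g, -, hgr, hgw⟩ := hgen _ hg
          obtain ⟨x, hx⟩ := ih _ hp
          obtain ⟨hxr, hxw, -⟩ := hx (hp.trans hk)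
          exact ⟨g * x, fun _ => ⟨hgr.of_perm hxr hperm', by rw [c.img_mul, hxw, hgw hff],
            fun h => absurd h (by omega)⟩⟩
      · exact ⟨1, fun h => absurd h hk⟩
  simp only [Data.vB, Bool.and_eq_true, Nat.blt_eq] at hv
  obtain ⟨⟨⟨⟨hmv, hpt⟩, hvtree⟩, hadd⟩, hvnd⟩ := hv
  simp only [Data.kB, Bool.and_eq_true, Nat.blt_eq, List.all_eq_true] at hk
  obtain ⟨⟨⟨⟨⟨hmk, hktree⟩, hkpt⟩, hknd⟩, hconj⟩, hpar⟩ := hk
  simp only [Data.psiB, Bool.and_eq_true, List.all_eq_true] at hpsi
  obtain ⟨⟨hpsi0, hpsiadd⟩, hmtg⟩ := hpsi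
  have hord' : ∀ i < d.N, (Nat.blt (d.ord.get i) d.N &&
      (Nat.beq i 0 || Nat.blt (d.keyN (d.ord.get (i - 1))) (d.keyN (d.ord.get i)))) = true := by
    intro i hi
    obtain ⟨lo, cnt, hlo, hlt, hb⟩ := hord i hi
    obtain ⟨n, rfl⟩ := Nat.exists_eq_add_of_le hlo
    exact allN_spec hb n (by omega)
  simp only [Data.pairB, Bool.and_eq_true, Nat.blt_eq] at hpair
  obtain ⟨⟨⟨hxlt, hylt⟩, hxy⟩, hunit⟩ := hpair
  choose aG haG using htree _ _ _ _ hA
  choose bG hbG using htree _ _ _ _ hB
  choose eV heV using hfixtree _ _ _ hvtree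
  choose eK heK using hfixtree _ _ _ hktree
  let t : ℕ → G := fun i => aG (d.reps.get i / 256) * bG (d.reps.get i % 256)
  have hr : ∀ i < d.N, d.reps.get i / 256 < d.na ∧ d.reps.get i % 256 < d.nb := fun i hi => by
    have h := allN_spec hrlt i hi
    simp only [Bool.and_eq_true, Nat.blt_eq] at h
    exact h
  have htrep : ∀ i < d.N, ∀ p < d.npt,
      dig (d.aP.get (d.reps.get i / 256)) (dig (d.bP.get (d.reps.get i % 256)) p) < d.npt ∧
      img (c.C (t i)) (d.pts.get p) =
        d.pts.get (dig (d.aP.get (d.reps.get i / 256)) (dig (d.bP.get (d.reps.get i % 256)) p)) :=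
    fun i hi p hp => ((haG _ (hr i hi).1).2).mul ((hbG _ (hr i hi).2).2) hp
  have hkey : ∀ i < d.N, img (c.C (t i)) d.w = d.keyN i := fun i hi => by
    rw [c.img_mul, (haG _ (hr i hi).1).1, (hbG _ (hr i hi).2).1, Data.keyN]
  have hVK : ∀ v < d.mv, ∀ k < d.nk, ∀ p < d.npt, dig (d.vP.get v) (dig (d.kP.get k) p) < d.npt ∧
      img (c.C (eV v * eK k)) (d.pts.get p) = d.pts.get (dig (d.vP.get v) (dig (d.kP.get k) p)) :=
    fun v hv k hk p hp => ((heV v hv).1).mul ((heK k hk).1) hp
  have hcoord : ∀ (g : G) (P : ℕ) (cx : Tree), Rep c d g P →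
      (∀ i < d.N, ∃ lo cnt, lo ≤ i ∧ i < lo + cnt ∧ d.coordB P cx lo cnt = true) → ∀ i < d.N,
      cx.get i / 65536 < d.N ∧ cx.get i % 65536 < d.mv * d.nk ∧ g * t i =
        t (cx.get i / 65536) * (eV (cx.get i % 65536 / d.nk) * eK (cx.get i % 65536 % d.nk)) := by
    intro g P cx hg hex i hi
    obtain ⟨lo, cnt, hlo, hlt, hb⟩ := hex i hi
    obtain ⟨n, rfl⟩ := Nat.exists_eq_add_of_le hlo
    have h := allN_spec hb n (by omega)
    simp only [Bool.and_eq_true, Nat.blt_eq] at h
    obtain ⟨⟨hj, he⟩, hb'⟩ := h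
    refine ⟨hj, he, heq _ _ _ _ (fun p hp => ?_) (fun p hp => ?_) hb'⟩
    · obtain ⟨q1, q2⟩ := htrep _ hi p hp
      obtain ⟨q3, q4⟩ := hg _ q1
      exact ⟨q3, by rw [c.img_mul, q2, q4]⟩
    · obtain ⟨q1, q2⟩ := hVK _ ((Nat.div_lt_iff_lt_mul hmk).2 he) _ (Nat.mod_lt _ hmk) p hp
      obtain ⟨q3, q4⟩ := htrep _ hj _ q1
      exact ⟨q3, by rw [c.img_mul, q2, q4]⟩
  have cast_eq : ∀ a b : ℕ, Nat.beq (a % d.q) (b % d.q) = true → (a : ZMod d.q) = b := fun a b h =>
    (ZMod.natCast_eq_natCast_iff' _ _ _).2 (Nat.eq_of_beq_eq_true h)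
  refine CocycleCover.exists_stem_of_split (eV := eV) (eK := eK) (t := t) (add := d.add) (act := d.act)
    (psi := fun k v => (d.psi k v : ZMod d.q)) (fun g : G => img (c.C g) d.w) hmv hmk d.kgens
    (fun c => d.rStep.get c / 1024) (fun c => d.rStep.get c % 1024) d.mtg
    ((heV 0 hmv).2.2 rfl) ((heK 0 hmk).2.2 rfl) (fun a ha b hb => ?_) (fun v hv v' hv' k hk k' hk' he => ?_)
    (fun s hs => ?_) (fun c0 h0 hc => ?_) (fun k hk s hs => ?_) (fun s hs a ha b hb => ?_) (fun v hv => ?_)
    (fun g v hv k hk => ?_) (fun i hi j hj he => ?_) hcard (x := eV d.x) (y := eK d.y) ?_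
    (fun i => d.cx.get i / 65536) (fun i => d.cx.get i % 65536)
    (fun i => d.cy.get i / 65536) (fun i => d.cy.get i % 65536)
    (hcoord _ _ _ (heV _ hxlt).1 hcx) (hcoord _ _ _ (heK _ hylt).1 hcy) ?_
  · have h := allN_spec (allN_spec hadd a ha) b hb
    simp only [Bool.and_eq_true, Nat.blt_eq] at h
    exact ⟨h.1, heq _ _ _ _ (fun p hp => ((heV a ha).1).mul ((heV b hb).1) hp) ((heV _ h.1).1) h.2⟩
  · have hfixpt : ∀ k < d.nk, dig (d.kP.get k) d.pt = d.pt := fun k hk =>
      Nat.eq_of_beq_eq_true (allN_spec hkpt k hk)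
    have e1 := hVK v hv k hk d.pt hpt
    have e2 := hVK v' hv' k' hk' d.pt hpt
    rw [he] at e1
    have e3 := hptinj _ e1.1 _ e2.1 (e1.2.symm.trans e2.2)
    rw [hfixpt k hk, hfixpt k' hk'] at e3
    have hvv : v = v' := List.inj_on_of_nodup_map (nodup_of_ndTest _ _ hvnd)
      (List.mem_range.2 hv) (List.mem_range.2 hv') e3
    subst hvv
    have hkk : eK k = eK k' := mul_left_cancel he
    refine ⟨rfl, List.inj_on_of_nodup_map (nodup_of_ndTest _ _ hknd) (List.mem_range.2 hk) (List.mem_range.2 hk') ?_⟩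
    have hdig : ∀ b ∈ d.bas, dig (d.kP.get k) b = dig (d.kP.get k') b := fun b hb => by
      obtain ⟨q1, q2⟩ := (heK k hk).1 b (hbaslt b hb)
      obtain ⟨q3, q4⟩ := (heK k' hk').1 b (hbaslt b hb)
      rw [hkk] at q2
      exact hptinj _ q1 _ q3 (q2.symm.trans q4)
    unfold Data.baseKey
    revert hdig
    generalize d.bas = l
    intro hdig
    induction l with
    | nil => rfl
    | cons a l ih =>
      show Nat.add _ _ = Nat.add _ _
      rw [hdig a List.mem_cons_self]
      exact congrArg (fun z => Nat.add _ (Nat.mul 512 z)) (ih fun b hb => hdig b (List.mem_cons_of_mem _ hb))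
  · obtain ⟨hsm, hsc⟩ := hconj s hs
    refine ⟨hsm, fun v hv => ?_⟩
    have h := allN_spec hsc v hv
    simp only [Bool.and_eq_true, Nat.blt_eq] at h
    exact ⟨h.1, heq _ _ _ _ (fun p hp => ((heK s hsm).1).mul ((heV v hv).1) hp)
      (fun p hp => ((heV _ h.1).1).mul ((heK s hsm).1) hp) h.2⟩
  · have h := allN_spec hpar c0 hc
    simp only [Bool.or_eq_true, Bool.and_eq_true, Nat.blt_eq, List.contains_iff_mem, Nat.beq_eq] at h
    rcases h with h | ⟨⟨h1, h2⟩, h3⟩
    · omega
    · exact ⟨h1, h2, h3⟩
  · have h := allN_spec hmtg k hk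
    simp only [List.all_eq_true, Bool.and_eq_true, Nat.blt_eq] at h
    obtain ⟨⟨hm, hb⟩, hps⟩ := h s hs
    refine ⟨hm, heq _ _ _ _ (fun p hp => ((heK k hk).1).mul ((heK s (hconj s hs).1).1) hp)
      ((heK _ hm).1) hb, fun v hv => ?_⟩
    rw [← Nat.cast_add]
    exact cast_eq _ _ (allN_spec hps v hv)
  · rw [← Nat.cast_add]
    exact cast_eq _ _ (allN_spec (allN_spec (hpsiadd s hs) a ha) b hb)
  · exact (cast_eq _ 0 (by rw [Nat.zero_mod]; exact allN_spec hpsi0 v hv)).trans Nat.cast_zero
  · show img (c.C (g * (eV v * eK k))) d.w = img (c.C g) d.w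
    rw [c.img_mul, c.img_mul, (heK k hk).2.1, (heV v hv).2.1]
  · have he' : d.keyN i = d.keyN j := by rw [← hkey i hi, ← hkey j hj]; exact he
    let o : Fin d.N → Fin d.N := fun k => ⟨d.ord.get k, by
      have h := hord' k k.2
      simp only [Bool.and_eq_true, Nat.blt_eq] at h
      exact h.1⟩
    let K : Fin d.N → ℕ := fun k => d.keyN (o k)
    have hstep : ∀ k : ℕ, (hk : k + 1 < d.N) → K ⟨k, by omega⟩ < K ⟨k + 1, hk⟩ := fun k hk => by
      have h := hord' (k + 1) hk
      simp only [Bool.and_eq_true, Bool.or_eq_true, Nat.blt_eq, Nat.beq_eq] at h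
      exact h.2.resolve_left (by omega)
    have hmono : ∀ b a : ℕ, a < b → (hb : b < d.N) → ∀ ha : a < d.N, K ⟨a, ha⟩ < K ⟨b, hb⟩ := by
      intro b
      induction b with
      | zero => intro a h; omega
      | succ b ih =>
        intro a h hb ha
        rcases Nat.lt_succ_iff_lt_or_eq.1 h with h' | rfl
        · exact (ih a h' (by omega) ha).trans (hstep b hb)
        · exact hstep a hb
    have hKinj : Function.Injective K := fun a b e => by
      rcases lt_trichotomy a.1 b.1 with h | h | h
      · exact absurd e (hmono _ _ h b.2 a.2).ne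
      · exact Fin.ext h
      · exact absurd e (hmono _ _ h a.2 b.2).ne'
    have ho : Function.Surjective o := Finite.surjective_of_injective fun a b e => hKinj (by
      simp only [K, e])
    obtain ⟨a, ha⟩ := ho ⟨i, hi⟩
    obtain ⟨b, hb⟩ := ho ⟨j, hj⟩
    have hab : a = b := hKinj (by simp only [K, ha, hb]; exact he')
    rw [← hab, ha] at hb
    exact congrArg Fin.val hb
  · exact heq _ _ _ _ (fun p hp => ((heV _ hxlt).1).mul ((heK _ hylt).1) hp)
      (fun p hp => ((heK _ hylt).1).mul ((heV _ hxlt).1) hp) hxy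
  · have hq := NeZero.pos d.q
    rw [← Nat.cast_sum, ← Nat.cast_sum]
    show IsUnit (((∑ i ∈ Finset.range d.N, d.term d.cx d.cy i : ℕ) : ZMod d.q) -
      ((∑ i ∈ Finset.range d.N, d.term d.cy d.cx i : ℕ) : ZMod d.q))
    rw [← sumLt_eq, ← sumLt_eq]
    have hu := (ZMod.unitOfCoprime _ (Nat.coprime_iff_gcd_eq_one.2 (Nat.eq_of_beq_eq_true hunit))).isUnit
    rw [ZMod.coe_unitOfCoprime, ZMod.natCast_mod, Nat.cast_add, ZMod.natCast_mod,
      Nat.cast_sub (Nat.mod_lt _ hq).le, ZMod.natCast_self, ZMod.natCast_mod, zero_sub,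
      ← sub_eq_add_neg] at hu
    exact hu

end CfsgLib.Schur.Tails.CodTable
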