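import Cfsg.Agent.Lib.Tails.Cert

/-!
Generated data: a certificate for the Schur multiplier of He.
-/

set_option autoImplicit false
set_option maxRecDepth 20000

namespace CfsgLib.TailsData

open CfsgLib

/-- The overlaps. -/
def fiveHeOverlaps : List (List ℕ × List Schur.Tails.Step × List Schur.Tails.Step) := []

/-- A conjugation. -/
def fiveHeFus0 : Schur.Tails.Fus where
  xs := [[1, 1, 0, 0, 0, 0]]
  ys := [[1, 1, 1, 1, 0, 0]]
  rels := [
    ([0, 0, 0, 0, 0], [], [(5, 2, true), (4, 2, true), (3, 2, true), (2, 2, true), (6, 2, true), (5, 2, true), (4, 2, true), (3, 2, true), (4, 0, true), (6, 2, true), (5, 2, true), (4, 2, true), (0, 1, true), (2, 2, true), (1, 2, true), (0, 2, true), (1, 0, true), (2, 2, true), (1, 2, true), (3, 2, true), (2, 2, true), (3, 0, true), (3, 2, true), (4, 2, true), (0, 1, true), (0, 0, true)], [(5, 2, true), (4, 2, true), (0, 1, true), (1, 2, true), (0, 2, true), (2, 2, true), (1, 2, true), (3, 2, true),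 (2, 2, true), (6, 2, true), (5, 2, true), (4, 2, true), (3, 2, true), (7, 2, true), (6, 2, true), (5, 2, true), (4, 2, true), (0, 1, true), (3, 2, true), (2, 2, true), (1, 2, true), (0, 2, true), (4, 2, true), (3, 2, true), (2, 2, true), (1, 2, true), (2, 0, true), (2, 2, true), (3, 2, true), (4, 2, true), (0, 1, true), (0, 2, true), (3, 2, true), (2, 2, true), (1, 2, true), (4, 2, true), (3, 2, true), (2, 2, true), (5, 2, true), (4, 2, true), (3, 2, true), (6, 2, true), (5, 2, true), (4, 2, true), (0, 1, true), (0, 0, true)])]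

/-- A conjugation. -/
def fiveHeFus1 : Schur.Tails.Fus where
  xs := [[1, 1, 0, 0, 0], [1, 1, 1, 1]]
  ys := [[1, 1, 1, 0], [1, 1, 1, 1, 0, 0, 0, 0]]
  rels := [
    ([0, 0, 0, 0, 0], [], [(4, 2, true), (3, 2, true), (2, 2, true), (5, 2, true), (4, 2, true), (3, 2, true), (4, 0, true), (4, 2, true), (0, 1, true), (0, 2, true), (4, 2, true), (3, 2, true), (2, 2, true), (1, 2, true), (5, 2, true), (4, 2, true), (3, 2, true), (2, 2, true), (3, 0, true), (4, 2, true), (3, 2, true), (5, 2, true), (4, 2, true), (0, 1, true), (0, 0, true)], [(3, 2, true), (4, 2, true), (0, 1, true), (0, 2, true), (2, 2, true), (1, 2, true), (3, 2, true), (2, 2, true), (4, 2, true), (3, 2, true), (6, 2, true), (5, 2, true), (4, 2, true), (0, 1, true), (2, 2, true), (1, 2, true), (0, 2, true), (3, 2, true), (2, 2, true), (1, 2, true), (5, 2, true), (4, 2, true), (3, 2, true), (2, 2, true), (6, 2, true), (5, 2, true), (4, 2, true), (3, 2, true), (7, 2, true), (6,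 2, true), (5, 2, true), (4, 2, true), (0, 1, true), (0, 0, true)])]

/-- A conjugation. -/
def fiveHeFus2 : Schur.Tails.Fus where
  xs := [[1, 1, 1, 1, 0, 0, 0], [0, 0, 0]]
  ys := [[1, 1], [1, 0, 0, 0, 0]]
  rels := [
    ([0, 1], [1, 0], [(4, 0, true), (4, 0, false), (3, 2, false), (4, 2, false), (5, 2, false), (2, 2, false), (3, 2, false), (4, 2, false), (1, 2, false), (2, 2, false), (3, 2, false), (0, 2, false), (1, 2, false), (2, 2, false)], [(2, 2, false), (3, 2, false), (4, 2, false), (5, 2, false), (1, 2, false), (2, 2, false), (3, 2, false), (4, 2, false)])]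

/-- The certificate. -/
def fiveHeCert : Schur.Tails.Cert where
  p := 5
  q := 5
  n := 2
  rels := [
    ([0, 0, 0, 0, 0], []),
    ([1, 1, 1, 1, 1], []),
    ([0, 1], [1, 0])]
  overlaps := fiveHeOverlaps
  fus := [fiveHeFus0, fiveHeFus1, fiveHeFus2]
  mu := [[], []]
  combos := [
    ([(0, 2), (1, 1)], 0),
    ([(0, 4), (1, 1)], 0),
    ([(2, 1)], 0)]
  tau := []
  tauCombo := []

/-- The words of the generators. -/
def fiveHeGens : List (List ℕ) := [
  [3, 4, 5, 3, 2, 1, 4, 3, 2, 6, 3, 2, 1, 3, 2, 3, 1, 2, 3, 5, 3, 0, 1, 2, 3, 6, 4, 1, 0],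
  [2, 3, 4, 3, 5, 3, 2, 1, 3, 2, 3, 5, 3, 2, 3, 1, 2, 3, 6, 1, 2, 3, 5, 0, 1, 2, 1]]

/-- The words of the conjugating elements. -/
def fiveHeHs : List (List ℕ) := [
  [2, 3, 2, 1, 4, 3, 2, 3, 2, 6, 3, 4, 5, 3, 6, 0, 1, 2, 3, 0],
  [2, 5, 3, 2, 3, 2, 1, 6, 3, 5, 3, 2, 3, 2, 5, 3, 0, 1, 2, 3, 6, 3, 5, 3, 1, 2, 1],
  [2, 6, 3, 2, 1, 3, 5, 3, 2, 1, 3, 2, 4, 5, 3, 6, 2, 3, 5, 1, 2, 3, 6, 0, 1, 2, 3, 1, 2, 1]]

/-- Orbits giving the order. -/
def fiveHeOrb : List (ℕ × List (List ℕ)) := [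
  (24, [[0, 0], [], [0], [1], [1, 1]]),
  (0, [[], [0, 0, 0, 1, 1, 1], [0, 1], [0, 0, 0, 0, 1, 1, 1, 1], [0, 0, 1, 1]])]

end CfsgLib.TailsData
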