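import Cfsg.Agent.Lib.Tails.Cert

/-!
Generated data: a certificate for the Schur multiplier of Suz.
-/

set_option autoImplicit false
set_option maxRecDepth 20000

namespace CfsgLib.TailsData

open CfsgLib

/-- The overlaps. -/
def fiveSuzOverlaps : List (List ℕ × List Schur.Tails.Step × List Schur.Tails.Step) := []

/-- A conjugation. -/
def fiveSuzFus0 : Schur.Tails.Fus where
  xs := [[1, 0]]
  ys := [[0, 0]]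
  rels := [
    ([0, 0, 0, 0, 0], [], [(1, 2, true), (3, 2, true), (2, 2, true), (5, 2, true), (4, 2, true), (3, 2, true), (7, 2, true), (6, 2, true), (5, 2, true), (4, 2, true), (0, 1, true), (0, 0, true)], [(0, 0, true), (0, 0, true)])]

/-- A conjugation. -/
def fiveSuzFus1 : Schur.Tails.Fus where
  xs := [[1, 1, 1, 0]]
  ys := [[1, 0, 0]]
  rels := [
    ([0, 0, 0, 0, 0], [], [(3, 2, true), (4, 2, true), (0, 1, true), (0, 2, true), (2, 2, true), (1, 2, true), (3, 2, true), (2, 2, true), (4, 2, true), (3, 2, true), (6, 2, true), (5, 2, true), (4, 2, true), (0, 1, true), (2, 2, true), (1, 2, true), (0, 2, true), (3, 2, true), (2, 2, true), (1, 2, true), (5, 2, true), (4, 2, true), (3, 2, true), (2, 2, true), (6, 2, true), (5, 2, true), (4, 2, true), (3, 2, true), (7, 2, true), (6, 2, true), (5, 2,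 true), (4, 2, true), (0, 1, true), (0, 0, true)], [(2, 2, true), (1, 2, true), (5, 2, true), (4, 2, true), (3, 2, true), (2, 2, true), (3, 0, true), (3, 2, true), (6, 2, true), (5, 2, true), (4, 2, true), (0, 1, true), (0, 0, true)])]

/-- A conjugation. -/
def fiveSuzFus2 : Schur.Tails.Fus where
  xs := [[1, 0], [1, 1]]
  ys := [[1, 0, 0], [1, 1, 0]]
  rels := [
    ([0, 1], [1, 0], [(1, 2, true), (2, 2, true)], [(2, 2, true), (1, 2, true), (3, 2, true), (2, 2, true), (2, 2, false)])]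

/-- The certificate. -/
def fiveSuzCert : Schur.Tails.Cert where
  p := 5
  q := 5
  n := 2
  rels := [
    ([0, 0, 0, 0, 0], []),
    ([1, 1, 1, 1, 1], []),
    ([0, 1], [1, 0])]
  overlaps := fiveSuzOverlaps
  fus := [fiveSuzFus0, fiveSuzFus1, fiveSuzFus2]
  mu := [[], []]
  combos := [
    ([(0, 3), (1, 1)], 0),
    ([(0, 4), (1, 1)], 0),
    ([(2, 4)], 0)]
  tau := []
  tauCombo := []

/-- The words of the generators. -/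
def fiveSuzGens : List (List ℕ) := [
  [1, 0, 3, 2, 3, 4, 3, 2, 3, 5, 1, 2, 3, 2, 1, 5, 3, 4, 2, 3, 2, 3, 4, 3, 2, 1, 0, 1, 3, 2, 3, 2, 1, 0, 4, 3, 5, 1, 2, 3, 2, 1, 5, 0, 1, 2, 3, 4, 2, 3, 0, 1, 2, 1, 0, 3, 2, 4, 5, 1, 2, 3, 4, 2, 3, 2, 1, 0, 1, 5, 1, 3, 2, 3, 5, 1, 0, 4, 3, 2, 1, 5, 1, 0, 2, 6, 1, 0, 2, 1, 6, 1, 2, 3, 2, 4, 3, 2, 1, 0, 5, 1, 0, 2, 1],
  [1, 3, 4, 3, 2, 3, 2, 4, 5, 1, 0, 2, 3, 2, 1, 5, 2, 3, 4, 3, 2, 3, 0, 1, 0, 2, 1, 3, 4, 5, 1, 0, 1, 2, 1, 3, 2, 5, 4, 3, 2, 1, 0, 1, 5, 1, 2, 3, 2, 1, 0, 1, 2, 3, 2, 1, 0, 1, 3, 2, 1, 5, 1, 2, 3, 2, 0, 2, 1, 3, 2, 1, 0, 3, 2, 1, 0, 1, 0, 1, 3, 4, 5, 6, 1, 0, 2, 3, 2, 1, 4, 3, 2, 3, 4, 5, 1, 2]]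

/-- The words of the conjugating elements. -/
def fiveSuzHs : List (List ℕ) := [
  [4, 3, 2, 1, 5, 1, 2, 3, 2, 1, 3, 4, 3, 2, 5, 3, 2, 1, 0, 1, 2, 3, 4, 3, 2, 3, 1, 2, 0, 2, 4, 5, 1, 0, 2, 1, 0, 3, 2, 4, 3, 1, 2, 0, 1, 5, 3, 2, 1, 2, 1, 0, 1, 3, 2, 1, 3, 2, 1, 0, 1, 4, 3, 5, 1, 0, 2, 6, 1, 0, 2, 3, 2, 4, 3, 2, 1, 6, 5],
  [1, 0, 3, 2, 3, 4, 3, 2, 3, 5, 1, 2, 3, 2, 1, 5, 3, 4, 2, 3, 2, 3, 4, 3, 1, 0, 1, 3, 4, 3, 2, 1, 0, 3, 4, 2, 3, 1, 2, 3, 4, 2, 3, 2, 1, 0, 4, 3, 2, 5, 3, 4, 1, 2, 3, 2, 3, 1, 3, 2, 1, 0, 1, 2, 4, 3, 2, 3, 5, 1, 0, 1, 0, 2, 6, 1, 2, 3, 2, 4, 3, 2, 5, 1, 0, 1, 2, 5, 1],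
  [1, 0, 3, 2, 3, 4, 3, 2, 3, 5, 1, 2, 3, 2, 1, 5, 3, 4, 2, 3, 2, 3, 4, 3, 1, 0, 1, 2, 3, 2, 1, 3, 4, 3, 2, 1, 3, 2, 1, 5, 3, 4, 2, 3, 1, 2, 3, 2, 1, 5, 4, 2, 1, 0, 3, 2, 1, 5, 1, 0, 1, 2, 3, 2, 3, 1, 2, 0, 3, 2, 1, 0, 3, 2, 1, 0, 1, 0, 4, 3, 2, 1, 0, 3, 5, 1, 6, 1, 2, 3, 2, 4, 3, 2, 1, 0, 1, 5, 1]]

/-- Orbits giving the order. -/
def fiveSuzOrb : List (ℕ × List (List ℕ)) := [
  (297, [[], [1, 1], [1, 1, 1, 1], [1, 1, 1], [1]]),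
  (0, [[], [0, 0, 0, 0], [0, 0, 0], [0, 0], [0]])]

end CfsgLib.TailsData
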