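import Cfsg.Agent.Lib.Tails.G2FourChecks
import Cfsg.Agent.Lib.G2FourJ2.Emb

/-!
# The bound on the multiplier of the group of type G two over four elements
-/

set_option autoImplicit false
set_option maxRecDepth 100000

namespace CfsgLib.Schur.Tails.G2Four

open Cfsg.Lie CfsgLib CfsgLib.Golay CfsgLib.TailsData Subgroup
open CfsgLib.G2FourJ2 (mulM okM oneM val bigGrp)
open CfsgLib.Spectrum.G2 (Ix)

attribute [local irreducible] mulM okM oneM twoGFourCert threeGFourCert fiveGFourCert twoGFourGens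
  threeGFourGens fiveGFourGens twoGFourHs threeGFourHs fiveGFourHs twoGFourSlp threeGFourSlp fiveGFourSlp
  twoGFourBits threeGFourBits fiveGFourBits

/-- The group of matrices. -/
noncomputable abbrev GQ : Subgroup (GL Ix F4) := bigGrp K4

theorem exists_equiv : Nonempty (↥(chevG2.group F4) ≃* ↥GQ) := by
  obtain ⟨φ, hinj, -, hroot⟩ := CfsgLib.Spectrum.G2.exists_embedding F4
  exact ⟨(MonoidHom.ofInjective hinj).trans (MulEquiv.subgroupCongr (G2FourJ2.range_eq K4 hroot))⟩

instance GQ_finite : Finite ↥GQ := by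
  haveI : Finite (GL Ix F4) := inferInstance
  infer_instance

theorem card_GQ : Nat.card ↥GQ = 251596800 := by
  haveI : Fintype F4 := Fintype.ofFinite _
  obtain ⟨e⟩ := exists_equiv
  rw [← Nat.card_congr e.toEquiv, G2FourJ2.card_group card_F4]

theorem gens_mem : ∀ c ∈ G2FourJ2.Data.bigGens, opsQ.ok c = true ∧ opsQ.val c ∈ GQ := fun c hc =>
  ⟨G2FourJ2.bigGens_ok hc, subset_closure ⟨c, hc, rfl⟩⟩

theorem le_card_of_free {p m : ℕ} {gens bits : List ℕ} (h : freeB p gens bits m = true)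
    {K : Subgroup (GL Ix F4)} (hg : ∀ g ∈ gens, opsQ.ok g = true ∧ opsQ.val g ∈ K) :
    m ≤ Nat.card K := by
  simp only [freeB, spanC_eq, Bool.and_eq_true, Nat.ble_eq] at h
  obtain ⟨hlen, hsep⟩ := h
  have hnd := sepB_nodup _ _ hsep
  set E := Coded.expandO opsQ p gens
  have hE : ∀ i : Fin E.length, opsQ.ok E[i] = true ∧ opsQ.val E[i] ∈ K := fun i =>
    Coded.expandO_spec hg _ (List.getElem_mem i.isLt)
  refine hlen.trans ?_
  rw [← Nat.card_fin E.length]
  refine Nat.card_le_card_of_injective (fun i : Fin E.length => (⟨_, (hE i).2⟩ : K)) fun i j e => ?_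
  have h1 : okM E[i] = true := (hE i).1
  have h2 : okM E[j] = true := (hE j).1
  have e' : val K4 E[i] = val K4 E[j] := congrArg Subtype.val e
  have e'' := congrArg Units.val e'
  rw [G2FourJ2.val_coe K4 h1, G2FourJ2.val_coe K4 h2] at e''
  exact Fin.ext (hnd.getElem_inj_iff.1 (G2FourJ2.toMat_inj K4 (G2FourJ2.ok_spec K4 h1).1
    (G2FourJ2.ok_spec K4 h2).1 e''))

theorem realised {c : Cert} {gens hs : List ℕ} {stp : List (ℕ × Bool × ℕ × ℕ)} {bits : List ℕ}
    (hc : c.checkB = true) (h : primeB c gens hs stp = true)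
    (hfree : freeB c.p gens bits (c.p ^ c.n) = true)
    (hdiv : ¬ c.p ^ (c.n + 1) ∣ Nat.card ↥GQ) : c.Realised ↥GQ := by
  simp only [primeB, Bool.and_eq_true, List.all_eq_true, List.contains_iff_mem] at h
  obtain ⟨⟨hr, hslp⟩, hall⟩ := h
  have hmem : ∀ g ∈ gens ++ hs, opsQ.ok g = true ∧ opsQ.val g ∈ GQ :=
    fun g hg => Bsgs.slp_sound opsQ _ hslp gens_mem g (hall g hg)
  refine Coded.realised (O := opsQ) (H := GQ) (MonoidHom.id ↥GQ) hc
    (fun g hg => (hmem g (List.mem_append_left _ hg)).2)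
    (fun g hg => (hmem g (List.mem_append_right _ hg)).2) (fun z hz => ?_) hr (fun g hg => ?_) hdiv
  · rw [List.mem_singleton.1 hz]
    have h1 : opsQ.val oneM = 1 := opsQ.val_one
    exact ⟨by rw [h1]; exact one_mem _, Subtype.ext h1⟩
  · show c.p ^ c.n ≤ Nat.card (Subgroup.closure (g '' {k | k < c.n}))
    rw [← Subgroup.card_map_of_injective GQ.subtype_injective]
    refine le_card_of_free hfree fun x hx => ?_
    obtain ⟨i, hi, rfl⟩ := List.getElem_of_mem hx
    refine ⟨(hmem _ (List.mem_append_left _ (List.getElem_mem hi))).1, g i, ?_, ?_⟩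
    · have hlen : gens.length = c.n := by
        simp only [Coded.relsB, Bool.and_eq_true, decide_eq_true_eq] at hr
        exact hr.1.1.1.2
      exact Subgroup.subset_closure ⟨i, show i < c.n by omega, rfl⟩
    · show (g i : GL Ix F4) = _
      rw [hg i hi, List.getD_eq_getElem _ _ hi]

theorem bound {Γ : Type} [Group Γ] [Finite Γ] (σ : Γ →* ↥GQ) (hσ : Cfsg.IsStemExtension σ) :
    IsCyclic σ.ker ∧ Nat.card σ.ker ∣ 2 := by
  obtain ⟨⟨a2, b2, n2⟩, ⟨a3, b3, t3, n3⟩, ⟨a5, b5, t5, n5⟩⟩ := sizes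
  have h3 : ¬ 3 ∣ Nat.card σ.ker := by
    have : Fact (Nat.Prime 3) := ⟨Nat.prime_three⟩
    exact (realised three_cert three_data (bits := threeGFourBits)
      (by rw [a3, n3]; exact three_free) (by rw [a3, n3, card_GQ]; decide)).not_dvd a3 b3 t3 hσ
  have h5 : ¬ 5 ∣ Nat.card σ.ker := by
    have : Fact (Nat.Prime 5) := ⟨by norm_num⟩
    exact (realised five_cert five_data (bits := fiveGFourBits)
      (by rw [a5, n5]; exact five_free) (by rw [a5, n5, card_GQ]; decide)).not_dvd a5 b5 t5 hσ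
  have h4 : ¬ 2 ^ 2 ∣ Nat.card σ.ker := by
    have : Fact (Nat.Prime 2) := ⟨Nat.prime_two⟩
    have : Fact twoGFourCert.p.Prime := ⟨a2 ▸ Nat.prime_two⟩
    exact (realised two_cert two_data (bits := twoGFourBits)
      (by rw [a2, n2]; exact two_free) (by rw [a2, n2, card_GQ]; decide)).sq_not_dvd a2 b2 hσ
  have hne : ∀ p : ℕ, p.Prime → p ≠ 2 → ¬ p ∣ Nat.card σ.ker := by
    intro p hp hp2 hd
    have := Fact.mk hp
    rcases eq_or_ne p 3 with rfl | hp3
    · exact h3 hd
    rcases eq_or_ne p 5 with rfl | hp5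
    · exact h5 hd
    refine not_dvd_of_sq hσ (fun hsq => ?_) hd
    rw [card_GQ, show (251596800 : ℕ) = (2 ^ 12 * 3 ^ 3 * 5 ^ 2) * (7 * 13) by norm_num] at hsq
    have hco : Nat.Coprime (p ^ 2) (2 ^ 12 * 3 ^ 3 * 5 ^ 2) := Nat.Coprime.mul_right
      (Nat.Coprime.mul_right (Nat.Coprime.pow 2 12 ((Nat.coprime_primes hp Nat.prime_two).2 hp2))
        (Nat.Coprime.pow 2 3 ((Nat.coprime_primes hp Nat.prime_three).2 hp3)))
      (Nat.Coprime.pow 2 2 ((Nat.coprime_primes hp (by norm_num)).2 hp5))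
    have hsf : Squarefree (7 * 13) := by
      rw [Nat.squarefree_mul (by norm_num)]
      exact ⟨(by norm_num : Nat.Prime 7).squarefree, (by norm_num : Nat.Prime 13).squarefree⟩
    exact hp.not_isUnit (hsf p (by rw [← pow_two]; exact hco.dvd_of_dvd_mul_left hsq))
  have hdvd : Nat.card σ.ker ∣ 2 := by
    rw [Nat.dvd_iff_prime_pow_dvd_dvd]
    intro p k hp hpk
    rcases Nat.eq_zero_or_pos k with rfl | hk
    · simp
    obtain rfl : p = 2 := by
      by_contra hne2
      exact hne p hp hne2 ((dvd_pow_self p hk.ne').trans hpk)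
    have : k ≤ 1 := by
      by_contra hcon
      exact h4 ((pow_dvd_pow 2 (by omega)).trans hpk)
    exact (pow_dvd_pow 2 this).trans (by norm_num)
  refine ⟨?_, hdvd⟩
  rcases (Nat.dvd_prime Nat.prime_two).1 hdvd with h | h
  · have : Subsingleton σ.ker := (Nat.card_eq_one_iff_unique.1 h).1
    infer_instance
  · have : Fact (Nat.Prime 2) := ⟨Nat.prime_two⟩
    exact isCyclic_of_prime_card (p := 2) h

end CfsgLib.Schur.Tails.G2Four
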