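import Cfsg.Agent.Lib.Tails.Finish

/-!
Generated data: certificates at the primes 2, 3, 5 for the group of type G two over four elements
(helper4, tools/tails/gtwofour).
-/

set_option autoImplicit false
set_option maxRecDepth 100000

namespace CfsgLib.TailsData

open CfsgLib

/-- The overlaps. -/
def twoGFourOverlaps : List (List ℕ × List Schur.Tails.Step × List Schur.Tails.Step) := [
  ([0, 1, 4], [(0, 12, true), (1, 15, true), (0, 25, true), (2, 23, true)], [(1, 25, true), (0, 15, true), (2, 14, true), (1, 33, true), (3, 12, true)]),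
  ([0, 1, 5], [(0, 12, true), (1, 16, true), (0, 26, true), (3, 24, true), (2, 33, true), (1, 3, true)], [(1, 26, true), (0, 16, true), (2, 14, true), (1, 3, true), (1, 13, true), (2, 12, true)]),
  ([0, 1, 8], [(0, 12, true), (1, 19, true), (0, 29, true), (4, 27, true), (3, 36, true), (2, 44, true), (5, 23, true), (4, 2, true)], [(1, 29, true), (0, 19, true), (3, 18, true), (2, 37, true), (1, 63, true), (4, 14, true), (3, 33, true), (5, 13, true), (4, 2, true), (4, 12, true)]),
  ([0, 1, 9], [(0, 12, true), (1, 20, true), (0, 30, true), (3, 28, true), (2, 37, true), (1, 63, true), (4, 27, true), (3, 36, true), (2, 6, true), (3, 24, true), (2, 33, true)], [(1, 30, true), (0, 20, true), (4, 17, true), (3, 44, true), (2, 6, true), (3, 13, true), (4, 12, true)]),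
  ([0, 1, 10], [(0, 12, true), (1, 21, true), (0, 31, true), (6, 29, true), (5, 38, true), (4, 53, true), (3, 59, true), (2, 64, true), (3, 63, true), (5, 57, true), (4, 6, true), (6, 37, true), (5, 52, true), (4, 58, true), (3, 7, true), (5, 33, true), (6, 2, true), (6, 27, true), (5, 44, true), (4, 51, true), (3, 57, true), (7, 25, true), (6, 42, true), (5, 4, true), (5, 3, true), (5, 23, true)], [(1, 31, true), (0, 21, true), (5, 20, true), (4, 39, true), (3, 54, true), (2, 65, true), (1, 72, true), (3, 63, true), (6, 37, true), (5, 52, true), (4, 63, true), (3, 7, true), (5, 36, true), (4, 51, true), (3, 6, true), (4, 33, true), (6, 17, true), (5, 36, true), (4, 44, true), (3, 51, true), (7, 16, true), (6, 35, true), (5, 43, true), (4, 50, true), (7, 33, true), (6, 3, true), (7, 15, true), (6, 34, true), (5, 4, true), (5, 2, true), (5, 13, true), (6, 12, true)]),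
  ([0, 1, 11], [(0, 12, true), (1, 22, true), (0, 32, true), (7, 30, true), (6, 47, true), (5, 54, true), (4, 65, true), (3, 69, true), (2, 72, true), (1, 9, true), (3, 63, true), (2, 7, true), (4, 44, true), (3, 51, true), (2, 6, true), (5, 28, true), (4, 37, true), (3, 45, true), (2, 52, true), (6, 27, true), (5, 36, true), (4, 44, true), (3, 51, true), (7, 26, true), (6, 35, true), (5, 43, true), (4, 50, true), (7, 33, true), (6, 3, true), (6, 2, true), (6, 24, true)], [(1, 32, true), (0, 22, true), (6, 20, true), (5, 47, true), (4, 60, true), (3, 65, true), (2, 69, true), (1, 9, true), (2, 63, true), (1, 7, true), (1, 6, true), (2, 45, true), (1, 58, true), (3, 44, true), (2, 57, true), (4, 3, true), (4, 19, true), (3, 59, true), (2, 64, true), (1, 68, true), (3, 63, true), (2, 7, true), (3, 57, true), (2, 6, true), (4, 18, true), (3, 37, true), (2, 58, true), (5, 17, true), (4, 36, true), (3, 57, true), (6, 15, true), (5, 34, true), (6, 2, true), (6, 14, true), (7, 12, true)]),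
  ([0, 2, 5], [(0, 13, true), (1, 16, true), (0, 35, true), (1, 33, true)], [(1, 35, true), (0, 16, true), (2, 13, true)]),
  ([0, 2, 8], [(0, 13, true), (1, 19, true), (0, 38, true), (1, 36, true), (2, 2, true)], [(1, 38, true), (0, 19, true), (3, 13, true), (2, 2, true)]),
  ([0, 2, 9], [(0, 13, true), (1, 20, true), (0, 39, true), (1, 37, true), (2, 36, true), (3, 33, true)], [(1, 39, true), (0, 20, true), (4, 13, true)]),
  ([0, 2, 10], [(0, 13, true), (1, 21, true), (0, 40, true), (2, 38, true), (1, 64, true), (3, 36, true), (2, 6, true), (2, 34, true), (3, 2, true)], [(1, 40, true), (0, 21, true), (5, 17, true), (4, 36, true), (3, 51, true), (2, 6, true), (4, 13, true), (3, 2, true)]),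
  ([0, 2, 11], [(0, 13, true), (1, 22, true), (0, 41, true), (2, 39, true), (1, 69, true), (3, 37, true), (2, 7, true), (2, 36, true), (3, 35, true), (4, 33, true)], [(1, 41, true), (0, 22, true), (6, 18, true), (5, 45, true), (4, 58, true), (3, 63, true), (2, 7, true), (5, 13, true)]),
  ([0, 3, 8], [(0, 14, true), (1, 19, true), (0, 46, true), (1, 44, true)], [(1, 46, true), (0, 19, true), (3, 14, true), (2, 33, true)]),
  ([0, 3, 9], [(0, 14, true), (1, 20, true), (0, 47, true), (1, 45, true), (2, 44, true), (3, 3, true)], [(1, 47, true), (0, 20, true), (4, 14, true), (3, 3, true)]),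
  ([0, 3, 10], [(0, 14, true), (1, 21, true), (0, 48, true), (2, 46, true), (1, 68, true), (3, 44, true), (4, 42, true)], [(1, 48, true), (0, 21, true), (5, 18, true), (4, 37, true), (3, 52, true), (2, 63, true), (6, 14, true), (5, 33, true)]),
  ([0, 3, 11], [(0, 14, true), (1, 22, true), (0, 49, true), (3, 47, true), (2, 65, true), (1, 69, true), (4, 45, true), (3, 63, true), (2, 7, true), (3, 44, true), (2, 6, true), (2, 43, true), (3, 3, true)], [(1, 49, true), (0, 22, true), (6, 18, true), (5, 45, true), (4, 58, true), (3, 63, true), (2, 7, true), (5, 17, true), (4, 44, true), (3, 57, true), (2, 6, true), (4, 14, true), (3, 3, true)]),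
  ([0, 4, 5], [(0, 15, true), (2, 16, true), (1, 35, true), (0, 50, true), (2, 33, true)], [(1, 50, true), (0, 16, true), (2, 15, true), (1, 42, true)]),
  ([0, 4, 8], [(0, 15, true), (2, 19, true), (1, 38, true), (0, 53, true), (3, 36, true), (2, 51, true), (1, 6, true), (2, 2, true)], [(1, 53, true), (0, 19, true), (3, 17, true), (2, 36, true), (1, 6, true), (2, 15, true), (1, 34, true), (2, 2, true)]),
  ([0, 4, 9], [(0, 15, true), (2, 20, true), (1, 39, true), (0, 54, true), (3, 37, true), (2, 52, true), (1, 7, true), (2, 36, true), (1, 51, true), (3, 33, true)], [(1, 54, true), (0, 20, true), (4, 18, true), (3, 45, true), (2, 63, true), (1, 7, true), (3, 15, true), (2, 42, true)]),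
  ([0, 4, 10], [(0, 15, true), (2, 21, true), (1, 40, true), (0, 55, true), (1, 51, true), (3, 38, true), (2, 53, true), (1, 64, true), (2, 6, true), (3, 36, true), (2, 51, true), (4, 34, true), (3, 4, true), (3, 2, true)], [(1, 55, true), (0, 21, true), (5, 15, true), (4, 34, true), (3, 4, true), (3, 2, true)]),
  ([0, 4, 11], [(0, 15, true), (2, 22, true), (1, 41, true), (0, 56, true), (1, 52, true), (3, 39, true), (2, 54, true), (1, 69, true), (2, 7, true), (3, 37, true), (2, 52, true), (4, 36, true), (3, 51, true), (5, 35, true), (4, 50, true), (6, 33, true)], [(1, 56, true), (0, 22, true), (6, 15, true), (5, 42, true)]),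
  ([0, 5, 8], [(0, 16, true), (2, 19, true), (1, 46, true), (0, 59, true), (3, 44, true), (2, 57, true)], [(1, 59, true), (0, 19, true), (3, 18, true), (2, 37, true), (1, 63, true), (4, 16, true), (3, 35, true), (4, 33, true)]),
  ([0, 5, 9], [(0, 16, true), (2, 20, true), (1, 47, true), (0, 60, true), (4, 45, true), (3, 58, true), (2, 63, true), (1, 7, true), (3, 44, true), (2, 57, true), (1, 6, true), (2, 3, true)], [(1, 60, true), (0, 20, true), (4, 18, true), (3, 45, true), (2, 63, true), (1, 7, true), (3, 17, true), (2, 44, true), (1, 6, true), (2, 16, true), (1, 43, true), (2, 3, true)]),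
  ([0, 5, 10], [(0, 16, true), (2, 21, true), (1, 48, true), (0, 61, true), (1, 58, true), (3, 46, true), (2, 59, true), (1, 68, true), (2, 7, true), (3, 44, true), (2, 57, true), (4, 42, true)], [(1, 61, true), (0, 21, true), (5, 16, true), (4, 35, true), (3, 50, true), (5, 33, true)]),
  ([0, 5, 11], [(0, 16, true), (2, 22, true), (1, 49, true), (0, 62, true), (1, 58, true), (2, 57, true), (4, 47, true), (3, 60, true), (2, 65, true), (1, 69, true), (3, 63, true), (2, 7, true), (2, 6, true), (3, 45, true), (2, 58, true), (4, 44, true), (3, 57, true), (5, 43, true), (4, 5, true), (4, 3, true)], [(1, 62, true), (0, 22, true), (6, 16, true), (5, 43, true), (4, 5, true), (4, 3, true)]),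
  ([0, 6, 9], [(0, 17, true), (1, 20, true), (0, 65, true), (1, 63, true), (2, 6, true)], [(1, 65, true), (0, 20, true), (4, 17, true), (3, 44, true), (2, 6, true)]),
  ([0, 6, 10], [(0, 17, true), (1, 21, true), (0, 66, true), (1, 64, true), (2, 6, true)], [(1, 66, true), (0, 21, true), (5, 17, true), (4, 36, true), (3, 51, true), (2, 6, true)]),
  ([0, 6, 11], [(0, 17, true), (1, 22, true), (0, 67, true), (1, 65, true), (2, 63, true), (3, 6, true)], [(1, 67, true), (0, 22, true), (6, 17, true), (5, 44, true), (4, 57, true), (3, 6, true)]),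
  ([0, 7, 10], [(0, 18, true), (1, 21, true), (0, 70, true), (1, 68, true)], [(1, 70, true), (0, 21, true), (5, 18, true), (4, 37, true), (3, 52, true), (2, 63, true)]),
  ([0, 7, 11], [(0, 18, true), (1, 22, true), (0, 71, true), (1, 69, true), (2, 7, true)], [(1, 71, true), (0, 22, true), (6, 18, true), (5, 45, true), (4, 58, true), (3, 63, true), (2, 7, true)]),
  ([0, 8, 10], [(0, 19, true), (3, 21, true), (2, 40, true), (1, 66, true), (0, 73, true), (2, 6, true), (2, 38, true), (1, 8, true), (1, 36, true), (2, 34, true), (3, 2, true)], [(1, 73, true), (0, 21, true), (5, 19, true), (4, 38, true), (3, 53, true), (2, 64, true), (1, 8, true), (1, 6, true), (2, 36, true), (1, 51, true), (3, 2, true)]),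
  ([0, 8, 11], [(0, 19, true), (3, 22, true), (2, 41, true), (1, 67, true), (0, 74, true), (2, 63, true), (4, 39, true), (3, 65, true), (2, 69, true), (1, 72, true), (5, 37, true), (4, 63, true), (3, 7, true), (4, 36, true), (3, 6, true), (3, 35, true), (4, 33, true)], [(1, 74, true), (0, 22, true), (6, 19, true), (5, 46, true), (4, 59, true), (3, 64, true), (2, 68, true), (4, 63, true), (3, 7, true), (5, 44, true), (4, 57, true), (3, 6, true)]),
  ([0, 9, 10], [(0, 20, true), (4, 21, true), (3, 48, true), (2, 66, true), (1, 70, true), (0, 75, true), (3, 63, true), (2, 7, true), (3, 46, true), (2, 64, true), (4, 44, true), (3, 6, true), (3, 42, true)], [(1, 75, true), (0, 21, true), (5, 20, true), (4, 39, true), (3, 54, true), (2, 65, true), (1, 72, true), (3, 63, true), (6, 37, true), (5, 52, true), (4, 63, true), (3, 7, true), (5, 36, true), (4, 51, true), (3, 6, true), (4, 33, true)]),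
  ([0, 9, 11], [(0, 20, true), (4, 22, true), (3, 49, true), (2, 67, true), (1, 71, true), (0, 76, true), (3, 63, true), (2, 7, true), (2, 6, true), (2, 47, true), (1, 9, true), (1, 45, true), (2, 44, true), (3, 43, true), (4, 3, true)], [(1, 76, true), (0, 22, true), (6, 20, true), (5, 47, true), (4, 60, true), (3, 65, true), (2, 69, true), (1, 9, true), (2, 63, true), (1, 7, true), (1, 6, true), (2, 45, true), (1, 58, true), (3, 44, true), (2, 57, true), (4, 3, true)]),
  ([0, 10, 11], [(0, 21, true), (5, 22, true), (4, 41, true), (3, 56, true), (2, 67, true), (1, 74, true), (0, 77, true), (4, 52, true), (3, 63, true), (6, 39, true), (5, 54, true), (4, 65, true), (3, 69, true), (2, 72, true), (5, 63, true), (4, 7, true), (6, 37, true), (5, 52, true), (4, 63, true), (7, 36, true), (6, 51, true), (5, 6, true), (6, 35, true), (5, 50, true), (7, 33, true)], [(1, 77, true), (0, 22, true), (6, 21, true), (5, 48, true), (4, 61, true), (3, 66, true), (2, 70, true), (1, 75, true), (5, 58, true), (4, 63, true), (3, 7, true), (5, 46, true),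 (4, 59, true), (3, 64, true), (4, 63, true), (7, 44, true), (6, 57, true), (5, 6, true), (6, 42, true)]),
  ([1, 2, 10], [(0, 23, true), (1, 31, true), (0, 40, true), (2, 39, true), (1, 65, true), (3, 36, true), (2, 6, true), (2, 35, true), (3, 34, true), (4, 2, true)], [(1, 40, true), (0, 31, true), (6, 27, true), (5, 36, true), (4, 51, true), (3, 57, true), (2, 6, true), (5, 23, true), (4, 2, true)]),
  ([1, 2, 11], [(0, 23, true), (1, 32, true), (0, 41, true), (2, 39, true), (1, 69, true), (3, 38, true), (2, 68, true), (4, 37, true), (3, 7, true), (3, 36, true), (4, 34, true), (5, 33, true)], [(1, 41, true), (0, 32, true), (7, 28, true), (6, 45, true), (5, 52, true), (4, 63, true), (3, 7, true), (6, 23, true)]),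
  ([1, 3, 10], [(0, 24, true), (1, 31, true), (0, 48, true), (2, 47, true), (1, 69, true), (3, 44, true), (4, 43, true), (5, 42, true)], [(1, 48, true), (0, 31, true), (6, 28, true), (5, 37, true), (4, 52, true), (3, 58, true), (2, 63, true), (7, 24, true), (6, 33, true)]),
  ([1, 3, 11], [(0, 24, true), (1, 32, true), (0, 49, true), (3, 47, true), (2, 65, true), (1, 69, true), (4, 46, true), (3, 64, true), (2, 68, true), (5, 45, true), (4, 63, true), (3, 7, true), (4, 44, true), (3, 6, true), (3, 42, true), (4, 3, true)], [(1, 49, true), (0, 32, true), (7, 28, true), (6, 45, true), (5, 52, true), (4, 63, true), (3, 7, true), (6, 27, true), (5, 44, true), (4, 51, true), (3, 6, true), (5, 24, true), (4, 3, true)]),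
  ([1, 4, 5], [(0, 25, true), (2, 26, true), (1, 43, true), (0, 50, true), (2, 3, true)], [(1, 50, true), (0, 26, true), (3, 25, true), (2, 34, true), (1, 42, true), (3, 33, true), (2, 3, true)]),
  ([1, 4, 8], [(0, 25, true), (2, 29, true), (1, 46, true), (0, 53, true), (3, 45, true), (2, 52, true), (1, 63, true), (4, 3, true)], [(1, 53, true), (0, 29, true), (4, 27, true), (3, 36, true), (2, 44, true), (5, 25, true), (4, 34, true), (3, 42, true), (5, 33, true), (4, 3, true)]),
  ([1, 4, 10], [(0, 25, true), (2, 31, true), (1, 48, true), (0, 55, true), (1, 52, true), (3, 47, true), (2, 54, true), (1, 69, true), (2, 7, true), (3, 44, true), (2, 51, true), (4, 43, true), (3, 50, true), (5, 42, true), (4, 4, true)], [(1, 55, true), (0, 31, true), (6, 25, true), (5, 34, true), (4, 4, true), (4, 33, true)]),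
  ([1, 4, 11], [(0, 25, true), (2, 32, true), (1, 49, true), (0, 56, true), (1, 52, true), (2, 51, true), (4, 47, true), (3, 54, true), (2, 65, true), (1, 69, true), (3, 63, true), (2, 7, true), (4, 46, true), (3, 53, true), (2, 64, true), (3, 6, true), (4, 45, true), (3, 52, true), (5, 44, true), (4, 51, true), (6, 42, true), (5, 4, true), (5, 3, true)], [(1, 56, true), (0, 32, true), (7, 25, true), (6, 42, true), (5, 4, true), (5, 3, true)]),
  ([1, 5, 10], [(0, 26, true), (3, 31, true), (2, 40, true), (1, 48, true), (0, 61, true), (1, 58, true), (3, 44, true), (2, 57, true), (5, 39, true), (4, 47, true), (3, 60, true), (2, 65, true), (1, 69, true), (3, 63, true), (2, 7, true), (2, 6, true), (4, 36, true), (3, 44, true), (2, 57, true), (5, 35, true), (4, 43, true), (3, 5, true), (4, 34, true), (3, 42, true), (5, 2, true)], [(1, 61, true), (0, 31, true), (6, 26, true), (5, 35, true), (4, 50, true), (3, 5, true), (4, 33, true), (5, 2, true)]),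
  ([1, 5, 11], [(0, 26, true), (3, 32, true), (2, 41, true), (1, 49, true), (0, 62, true), (1, 58, true), (2, 57, true), (4, 45, true), (3, 58, true), (2, 63, true), (1, 7, true), (4, 39, true), (3, 47, true), (2, 60, true), (1, 65, true), (2, 63, true), (3, 6, true), (5, 38, true), (4, 46, true), (3, 59, true), (2, 68, true), (3, 7, true), (5, 37, true), (4, 45, true), (3, 58, true), (6, 36, true), (5, 44, true), (4, 57, true), (7, 34, true), (6, 42, true), (8, 33, true), (7, 3, true)], [(1, 62, true), (0, 32, true), (7, 26, true), (6, 43, true), (5, 50, true), (7, 3, true)]),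
  ([1, 8, 10], [(0, 29, true), (4, 31, true), (3, 40, true), (2, 48, true), (1, 70, true), (0, 73, true), (2, 7, true), (2, 44, true), (4, 39, true), (3, 47, true), (2, 65, true), (1, 72, true), (5, 36, true), (4, 44, true), (3, 6, true), (4, 35, true), (3, 43, true), (5, 34, true), (4, 42, true), (6, 2, true)], [(1, 73, true), (0, 31, true), (6, 29, true), (5, 38, true), (4, 53, true), (3, 59, true), (2, 64, true), (3, 63, true), (5, 57, true), (4, 6, true), (6, 37, true), (5, 52, true), (4, 58, true), (3, 7, true), (5, 33, true), (6, 2, true)]),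
  ([1, 8, 11], [(0, 29, true), (4, 32, true), (3, 41, true), (2, 49, true), (1, 71, true), (0, 74, true), (2, 7, true), (3, 45, true), (2, 63, true), (5, 39, true), (4, 47, true), (3, 65, true), (2, 69, true), (1, 72, true), (6, 38, true), (5, 46, true), (4, 64, true), (3, 68, true), (2, 8, true), (5, 37, true), (4, 45, true), (3, 63, true), (2, 7, true), (4, 36, true), (3, 44, true), (2, 6, true), (3, 34, true), (2, 42, true), (4, 33, true), (3, 3, true)], [(1, 74, true), (0, 32, true), (7, 29, true), (6, 46, true), (5, 53, true), (4, 64, true), (3, 68, true), (2, 8, true), (3, 6, true), (4, 45, true), (3, 52, true), (2, 7, true), (3, 3, true)]),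
  ([1, 9, 11], [(0, 30, true), (3, 32, true), (2, 41, true), (1, 67, true), (0, 76, true), (2, 63, true), (4, 39, true), (3, 65, true), (2, 69, true), (1, 9, true), (3, 38, true), (2, 64, true), (1, 68, true), (4, 37, true), (3, 63, true), (2, 7, true), (3, 36, true), (2, 6, true), (2, 34, true), (3, 33, true)], [(1, 76, true), (0, 32, true), (7, 30, true), (6, 47, true), (5, 54, true), (4, 65, true), (3, 69, true), (2, 72, true), (1, 9, true), (3, 63, true), (2, 7, true), (4, 44, true), (3, 51, true), (2, 6, true)]),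
  ([1, 10, 11], [(0, 31, true), (6, 32, true), (5, 41, true), (4, 56, true), (3, 62, true), (2, 67, true), (1, 76, true), (0, 77, true), (5, 52, true), (4, 58, true), (3, 63, true), (7, 39, true), (6, 54, true), (5, 60, true), (4, 65, true), (3, 69, true), (2, 9, true), (3, 63, true), (2, 7, true), (2, 6, true), (2, 58, true), (5, 38, true), (4, 53, true), (3, 59, true), (2, 68, true), (3, 7, true), (3, 57, true), (6, 37, true), (5, 52, true), (4, 58, true), (3, 63, true), (7, 36, true), (6, 51, true), (5, 57, true), (4, 6, true), (6, 34, true), (5, 4, true), (5, 33, true)], [(1, 77, true), (0, 32, true), (7, 31, true), (6, 48, true), (5, 55, true), (4, 66, true), (3, 70, true), (2, 73, true), (1, 75, true), (6, 52, true), (5, 63, true), (4, 7, true), (6, 47, true), (5, 54, true), (4, 65, true), (3, 72, true), (2, 9, true), (3, 63, true), (6, 44, true), (5, 51, true), (4, 6, true), (5, 43, true), (4, 50, true), (6, 42, true), (5, 4, true)]),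
  ([2, 10, 11], [(0, 40, true), (2, 41, true), (1, 67, true), (0, 77, true), (2, 63, true)], [(1, 77, true), (0, 41, true), (2, 40, true), (1, 70, true)]),
  ([4, 8, 11], [(0, 53, true), (2, 56, true), (1, 67, true), (0, 74, true)], [(1, 74, true), (0, 56, true), (1, 53, true)]),
  ([0, 0, 1], [(0, 0, true)], [(1, 12, true), (0, 12, true), (1, 0, true)]),
  ([0, 0, 4], [(0, 0, true)], [(1, 15, true), (0, 15, true), (2, 13, true), (1, 2, true), (1, 0, true)]),
  ([0, 0, 5], [(0, 0, true)], [(1, 16, true), (0, 16, true), (2, 14, true), (1, 3, true), (1, 0, true)]),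
  ([0, 0, 8], [(0, 0, true)], [(1, 19, true), (0, 19, true), (3, 17, true), (2, 36, true), (1, 6, true), (2, 13, true), (1, 2, true), (1, 0, true)]),
  ([0, 0, 9], [(0, 0, true)], [(1, 20, true), (0, 20, true), (4, 18, true), (3, 45, true), (2, 63, true), (1, 7, true), (3, 17, true), (2, 44, true), (1, 6, true), (2, 14, true), (1, 3, true), (1, 0, true)]),
  ([0, 0, 10], [(0, 0, true)], [(1, 21, true), (0, 21, true), (5, 19, true), (4, 38, true), (3, 53, true), (2, 64, true), (1, 8, true), (1, 6, true), (2, 36, true), (1, 51, true), (3, 2, true), (3, 17, true), (2, 51, true), (1, 6, true), (2, 15, true), (1, 4, true), (2, 13, true), (1, 2, true), (1, 0, true)]),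
  ([0, 10, 10], [(0, 21, true), (5, 21, true), (4, 40, true), (3, 55, true), (2, 66, true), (1, 73, true), (0, 10, true), (2, 51, true), (1, 6, true), (2, 38, true), (1, 53, true), (0, 8, true), (2, 36, true), (1, 51, true), (0, 6, true), (1, 34, true), (0, 4, true), (0, 2, true)], [(1, 10, true)]),
  ([0, 0, 11], [(0, 0, true)], [(1, 22, true), (0, 22, true), (6, 20, true), (5, 47, true), (4, 60, true), (3, 65, true), (2, 69, true), (1, 9, true), (2, 63, true), (1, 7, true), (1, 6, true), (2, 45, true), (1, 58, true), (3, 44, true), (2, 57, true), (4, 3, true), (4, 18, true), (3, 58, true), (2, 63, true), (1, 7, true), (3, 17, true), (2, 57, true), (1, 6, true), (2, 16, true), (1, 5, true), (2, 14, true), (1, 3, true), (1, 0, true)]),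
  ([0, 11, 11], [(0, 22, true), (6, 22, true), (5, 49, true), (4, 62, true), (3, 67, true), (2, 71, true), (1, 76, true), (0, 11, true), (3, 58, true), (2, 63, true), (1, 7, true), (2, 57, true), (1, 6, true), (2, 47, true), (1, 60, true), (0, 9, true), (3, 45, true), (2, 58, true), (1, 63, true), (0, 7, true), (2, 44, true), (1, 57, true), (0, 6, true), (1, 43, true), (0, 5, true), (0, 3, true)], [(1, 11, true)]),
  ([1, 1, 4], [(0, 1, true)], [(1, 25, true), (0, 25, true), (2, 24, true), (1, 3, true), (1, 1, true)]),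
  ([1, 1, 5], [(0, 1, true)], [(1, 26, true), (0, 26, true), (3, 24, true), (2, 33, true), (1, 3, true), (2, 23, true), (1, 2, true), (1, 1, true)]),
  ([1, 1, 10], [(0, 1, true)], [(1, 31, true), (0, 31, true), (6, 30, true), (5, 39, true), (4, 54, true), (3, 60, true), (2, 65, true), (1, 9, true), (1, 63, true), (2, 6, true), (2, 58, true), (1, 7, true), (3, 36, true), (2, 51, true), (1, 57, true), (4, 2, true), (4, 27, true), (3, 51, true), (2, 57, true), (1, 6, true), (3, 26, true), (2, 50, true), (1, 5, true), (4, 25, true), (3, 34, true), (2, 42, true), (1, 4, true), (2, 33, true), (1, 3, true), (2, 23, true), (1, 2, true), (1, 1, true)]),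
  ([1, 10, 10], [(0, 31, true), (6, 31, true), (5, 40, true), (4, 55, true), (3, 61, true), (2, 66, true), (1, 75, true), (0, 10, true), (3, 51, true), (2, 57, true), (1, 6, true), (3, 39, true), (2, 54, true), (1, 60, true), (0, 9, true), (2, 58, true), (1, 63, true), (0, 7, true), (3, 36, true), (2, 51, true), (1, 57, true), (0, 6, true), (2, 35, true), (1, 50, true), (0, 5, true), (1, 34, true), (0, 4, true), (0, 2, true)], [(1, 10, true)]),
  ([1, 1, 11], [(0, 1, true)], [(1, 32, true), (0, 32, true), (7, 30, true), (6, 47, true), (5, 54, true), (4, 65, true), (3, 69, true), (2, 72, true), (1, 9, true), (3, 63, true), (2, 7, true), (4, 44, true), (3, 51, true), (2, 6, true), (5, 29, true), (4, 38, true), (3, 46, true), (2, 53, true), (1, 8, true), (4, 37, true), (3, 45, true), (2, 52, true), (1, 63, true), (5, 33, true), (4, 3, true), (4, 2, true), (4, 28, true), (3, 52, true), (2, 63, true), (1, 7, true), (3, 27, true), (2, 51, true), (1, 6, true), (2, 25, true), (1, 4, true), (2, 24, true), (1, 3, true), (1, 1, true)]),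
  ([1, 11, 11], [(0, 32, true), (7, 32, true), (6, 49, true), (5, 56, true), (4, 67, true), (3, 71, true), (2, 74, true), (1, 76, true), (0, 11, true), (4, 52, true), (3, 63, true), (2, 7, true), (3, 51, true), (2, 6, true), (3, 47, true), (2, 54, true), (1, 72, true), (0, 9, true), (3, 46, true), (2, 53, true), (1, 68, true), (0, 8, true), (3, 45, true), (2, 52, true), (1, 63, true), (0, 7, true), (2, 44, true), (1, 51, true), (0, 6, true), (1, 42, true), (0, 4, true), (0, 3, true)], [(1, 11, true)]),
  ([4, 4, 10], [(0, 4, true)], [(1, 55, true), (0, 55, true), (1, 4, true)]),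
  ([4, 4, 11], [(0, 4, true)], [(1, 56, true), (0, 56, true), (1, 4, true)])]

/-- A conjugation. -/
def twoGFourFus0 : Schur.Tails.Fus where
  xs := [[11, 10, 9, 3, 2, 0], [8, 7, 3, 2, 0], [10, 9, 7, 5, 1], [8, 6, 5, 2, 1, 0], [9, 5, 4, 3, 1], [7, 6, 2], [7, 5, 4, 3], [7, 6, 2, 1], [3, 0], [7, 1], [7, 6, 1], [0]]
  ys := [[11, 9, 8, 3, 1, 0], [9, 7, 6, 3, 1, 0], [11, 10, 9, 8, 7, 6, 5, 0], [9, 7, 5, 3, 2, 1], [9, 8, 5, 4, 2, 0], [6, 3, 2], [7, 6, 5, 4, 2], [6, 3, 2, 0], [2, 1, 0], [7, 6, 0], [6, 0], [1, 0]]
  rels := [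
    ([0, 0], [11, 7, 5, 4, 1], [(5, 22, true), (4, 41, true), (3, 49, true), (2, 76, true), (1, 77, true), (0, 11, true), (4, 45, true), (3, 63, true), (2, 7, true), (4, 39, true), (3, 47, true), (2, 65, true), (1, 9, true), (3, 37, true), (2, 45, true), (1, 63, true), (4, 36, true), (3, 44, true), (2, 6, true), (3, 35, true), (2, 43, true), (4, 33, true), (3, 3, true), (4, 21, true), (3, 40, true), (2, 61, true), (1, 70, true), (0, 10, true), (1, 57, true), (3, 38, true), (2, 59, true), (1, 64, true), (0, 68, true), (2, 63, true), (1, 7, true), (3, 36, true), (2, 57, true), (1, 6, true), (2, 34, true), (3, 2, true), (3, 20, true), (2, 54, true), (1, 60, true), (0, 72, true), (4, 58, true), (3, 63, true), (2, 7, true), (4, 52, true), (3, 58, true), (2, 63, true), (5, 51, true), (4, 57, true), (3, 6, true), (6, 14, true), (5, 3, true), (5, 13, true), (6, 0, true), (6, 0, false), (5, 13, false), (5, 3, false), (6, 14, false), (2, 58, false), (3, 52, false), (4, 45, false), (5, 18, false), (5, 2, false), (2, 6, false), (3, 57, false),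 (4, 51, false), (5, 44, false), (6, 36, false), (2, 57, false), (2, 7, false), (1, 68, false), (2, 59, false), (3, 53, false), (4, 46, false), (5, 38, false), (6, 19, false), (6, 1, false), (7, 12, false), (4, 33, false), (5, 24, false), (6, 14, false), (4, 23, false), (4, 3, false), (3, 42, false), (4, 25, false), (5, 15, false), (3, 24, false), (3, 2, false), (3, 3, false), (4, 33, false), (2, 43, false), (3, 35, false), (4, 26, false), (5, 16, false), (2, 33, false), (3, 24, false), (2, 6, false), (3, 36, false), (4, 27, false), (1, 63, false), (2, 37, false), (3, 28, false), (0, 30, false), (1, 20, false), (0, 2, false), (1, 23, false), (2, 13, false), (0, 6, false), (1, 36, false), (2, 27, false), (3, 17, false), (0, 7, false), (1, 63, false), (2, 37, false), (3, 28, false), (4, 18, false), (3, 12, false), (2, 13, false), (1, 17, false), (0, 18, false)], [(5, 22, true), (4, 32, true), (3, 49, true), (2, 74, true), (1, 76, true), (0, 11, true), (4, 47, true), (3, 65, true), (2, 69, true), (1, 72, true), (0, 9, true), (3, 46,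 true), (2, 64, true), (1, 68, true), (0, 8, true), (2, 45, true), (1, 63, true), (0, 7, true), (1, 44, true), (0, 6, true), (0, 42, true), (1, 3, true), (1, 30, true), (0, 54, true), (2, 51, true), (5, 28, true), (4, 37, true), (3, 52, true), (2, 63, true), (1, 7, true), (4, 27, true), (3, 36, true), (2, 51, true), (1, 6, true), (3, 26, true), (2, 35, true), (1, 50, true), (3, 33, true), (4, 2, true), (4, 24, true), (3, 3, true), (4, 20, true), (3, 30, true), (2, 54, true), (1, 60, true), (0, 9, true), (2, 58, true), (1, 63, true), (0, 7, true), (2, 51, true), (1, 57, true), (0, 6, true), (3, 28, true), (2, 37, true), (1, 52, true), (0, 58, true), (4, 27, true), (3, 36, true), (2, 51, true), (1, 57, true), (5, 24, true), (4, 33, true), (7, 19, true), (6, 29, true), (5, 38, true), (4, 46, true), (3, 53, true), (2, 59, true), (1, 64, true), (0, 68, true), (2, 63, true), (1, 7, true), (2, 57, true), (1, 6, true), (4, 37, true), (3, 45, true), (2, 52, true), (1, 58, true), (5, 33, true), (4, 3, true), (4, 2, true), (4, 27, true), (3,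 51, true), (2, 57, true), (5, 23, true), (7, 14, true), (6, 24, true), (5, 33, true), (8, 12, true), (7, 1, true), (7, 0, true), (7, 0, false), (7, 1, false), (8, 12, false), (5, 33, false), (6, 24, false), (7, 14, false), (2, 57, false), (3, 51, false), (4, 36, false), (5, 27, false), (6, 17, false), (1, 58, false), (2, 52, false), (3, 37, false), (4, 28, false), (5, 18, false), (3, 3, false), (4, 33, false), (5, 24, false), (1, 6, false), (2, 57, false), (3, 51, false), (4, 44, false), (5, 36, false), (6, 27, false), (1, 7, false), (2, 63, false), (3, 58, false), (4, 52, false), (5, 45, false), (6, 37, false), (7, 28, false), (2, 57, false), (3, 51, false), (4, 44, false), (1, 58, false), (1, 6, false), (1, 7, false), (2, 63, false), (0, 9, false), (1, 72, false), (2, 69, false), (3, 65, false), (4, 60, false), (5, 54, false), (6, 47, false), (7, 30, false), (8, 20, false), (7, 2, false), (8, 23, false), (6, 33, false), (5, 34, false), (6, 25, false), (5, 3, false), (4, 43, false), (5, 26, false), (5, 2, false), (4, 33, false),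 (2, 63, false), (3, 37, false), (1, 64, false), (2, 38, false), (3, 29, false), (0, 30, false), (0, 2, false), (1, 23, false), (0, 3, false), (1, 33, false), (2, 24, false), (0, 6, false), (1, 44, false), (2, 36, false), (3, 27, false), (4, 0, false), (2, 23, false), (3, 13, false), (1, 24, false), (2, 14, false), (0, 27, false), (1, 17, false)]),
    ([1, 1], [9, 7], [(4, 19, true), (3, 38, true), (2, 46, true), (1, 68, true), (0, 8, true), (2, 36, true), (1, 44, true), (3, 2, true), (3, 18, true), (2, 45, true), (1, 63, true), (0, 7, true), (2, 14, true), (1, 3, true), (1, 13, true), (2, 0, true), (2, 1, false), (1, 23, false), (0, 27, false), (0, 7, false), (1, 28, false)], [(5, 20, true), (4, 30, true), (3, 47, true), (2, 65, true), (1, 69, true), (0, 9, true), (2, 44, true), (1, 6, true), (3, 28, true), (2, 37, true), (1, 45, true), (0, 7, true), (2, 27, true), (1, 36, true), (0, 44, true), (3, 24, true), (2, 33, true), (1, 3, true), (3, 18, true), (2, 28, true), (1, 37, true), (0, 63, true), (4, 17, true), (3, 27, true), (2,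 36, true), (1, 6, true), (3, 14, true), (2, 24, true), (1, 33, true), (4, 12, true), (3, 1, true), (3, 0, true), (3, 0, false), (2, 13, false), (1, 14, false), (1, 6, false), (2, 17, false)]),
    ([2, 2], [10, 5, 4], [(4, 31, true), (3, 61, true), (2, 70, true), (1, 75, true), (0, 10, true), (2, 60, true), (1, 69, true), (0, 9, true), (0, 7, true), (1, 57, true), (0, 6, true), (0, 5, true), (2, 30, true), (1, 39, true), (0, 54, true), (3, 36, true), (2, 51, true), (4, 2, true), (4, 28, true), (3, 52, true), (2, 63, true), (1, 7, true), (3, 26, true), (2, 50, true), (6, 1, true), (6, 1, false), (4, 33, false), (5, 24, false), (4, 3, false), (5, 33, false), (3, 42, false), (4, 34, false), (5, 25, false), (2, 26, false), (2, 2, false), (1, 36, false), (0, 39, false), (1, 30, false), (0, 23, false), (0, 6, false), (1, 27, false), (0, 7, false), (1, 63, false), (2, 28, false)], [(7, 22, true), (6, 62, true), (5, 67, true), (4, 71, true), (3, 74, true), (2, 76, true), (1, 77, true), (0, 11, true), (5, 60, true), (4, 65, true), (3, 69,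 true), (2, 72, true), (1, 9, true), (3, 63, true), (2, 7, true), (2, 6, true), (2, 58, true), (3, 57, true), (4, 5, true), (5, 21, true), (4, 48, true), (3, 66, true), (2, 70, true), (1, 73, true), (0, 10, true), (2, 63, true), (1, 7, true), (2, 46, true), (1, 64, true), (0, 8, true), (1, 44, true), (0, 6, true), (0, 42, true), (3, 20, true), (2, 39, true), (1, 47, true), (0, 54, true), (4, 37, true), (3, 45, true), (2, 52, true), (1, 7, true), (3, 36, true), (2, 44, true), (1, 51, true), (4, 33, true), (3, 3, true), (4, 19, true), (3, 38, true), (2, 53, true), (1, 64, true), (2, 6, true), (3, 36, true), (2, 51, true), (4, 2, true), (4, 18, true), (3, 52, true), (2, 63, true), (5, 17, true), (4, 51, true), (3, 6, true), (4, 16, true), (3, 50, true), (6, 0, true), (6, 0, false), (6, 2, false), (7, 13, false), (4, 42, false), (5, 15, false), (3, 16, false), (3, 2, false), (3, 6, false), (4, 36, false), (1, 68, false), (2, 64, false), (3, 38, false), (4, 19, false), (3, 3, false), (4, 33, false), (2, 44, false), (3, 36, false), (1,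 45, false), (2, 37, false), (0, 47, false), (1, 39, false), (2, 20, false), (1, 13, false), (0, 14, false), (0, 6, false), (1, 17, false)]),
    ([3, 3], [11, 9, 8, 7], [(5, 19, true), (4, 29, true), (3, 38, true), (2, 59, true), (1, 64, true), (0, 8, true), (0, 63, true), (3, 37, true), (2, 58, true), (1, 63, true), (0, 7, true), (2, 33, true), (3, 2, true), (3, 27, true), (2, 44, true), (1, 57, true), (0, 6, true), (2, 23, true), (4, 17, true), (3, 27, true), (2, 36, true), (1, 44, true), (0, 57, true), (5, 16, true), (4, 26, true), (3, 35, true), (2, 43, true), (1, 5, true), (2, 33, true), (1, 3, true), (1, 2, true), (1, 24, true), (3, 13, true), (2, 23, true), (4, 12, true), (3, 1, true), (3, 0, true), (3, 1, false), (2, 23, false), (0, 44, false), (1, 27, false), (0, 7, false), (1, 45, false), (2, 28, false), (3, 0, false), (1, 24, false), (2, 14, false), (1, 12, false), (0, 18, false)], [(5, 30, true), (4, 39, true), (3, 47, true), (2, 60, true), (1, 69, true), (0, 9, true), (0, 7, true), (3, 36, true), (2, 44, true), (1, 57,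 true), (0, 6, true), (2, 2, true), (2, 28, true), (1, 45, true), (0, 58, true), (3, 26, true), (2, 43, true), (1, 5, true), (1, 3, true), (2, 24, true), (1, 33, true), (3, 23, true), (2, 2, true), (2, 1, true), (2, 0, false), (2, 2, false), (3, 13, false), (1, 33, false), (2, 14, false), (1, 6, false), (2, 36, false), (3, 17, false), (3, 1, false), (2, 23, false), (3, 0, false), (1, 27, false), (2, 17, false), (0, 28, false), (1, 18, false)]),
    ([4, 4], [], [(4, 30, true), (3, 47, true), (2, 54, true), (1, 60, true), (0, 9, true), (2, 58, true), (1, 63, true), (0, 7, true), (3, 44, true), (2, 51, true), (1, 57, true), (0, 6, true), (4, 26, true), (3, 35, true), (2, 43, true), (1, 50, true), (0, 5, true), (2, 33, true), (1, 3, true), (1, 2, true), (1, 25, true), (0, 4, true), (1, 24, true), (0, 3, true), (0, 1, true)], [(5, 20, true), (4, 39, true), (3, 54, true), (2, 60, true), (1, 72, true), (0, 9, true), (3, 58, true), (2, 63, true), (1, 7, true), (4, 37, true), (3, 52, true), (2, 58, true), (1, 63, true), (5, 36, true), (4,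 51, true), (3, 57, true), (2, 6, true), (4, 33, true), (6, 19, true), (5, 38, true), (4, 46, true), (3, 53, true), (2, 59, true), (1, 68, true), (0, 8, true), (0, 7, true), (0, 57, true), (4, 36, true), (3, 44, true), (2, 51, true), (1, 57, true), (0, 6, true), (3, 2, true), (3, 16, true), (2, 43, true), (1, 50, true), (0, 5, true), (1, 3, true), (1, 15, true), (0, 4, true), (1, 13, true), (0, 2, true), (0, 0, true)]),
    ([7, 7], [], [(3, 28, true), (2, 37, true), (1, 63, true), (0, 7, true), (2, 27, true), (1, 36, true), (0, 6, true), (1, 23, true), (0, 2, true), (0, 1, true)], [(3, 17, true), (2, 36, true), (1, 44, true), (0, 6, true), (2, 14, true), (1, 33, true), (0, 3, true), (1, 13, true), (0, 2, true), (0, 0, true)]),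
    ([8, 8], [], [(1, 14, true), (0, 3, true), (0, 0, true)], [(2, 13, true), (1, 23, true), (0, 2, true), (1, 12, true), (0, 1, true), (0, 0, true)]),
    ([0, 1], [11, 7, 5, 4, 0], [(5, 19, true), (4, 38, true), (3, 46, true), (5, 36, true), (4, 44, true), (6, 2, true), (6, 18, true), (5, 45, true), (4, 63, true), (7, 14, true), (6, 3, true), (6, 13, true), (7, 0, true), (7, 0, false), (6, 13, false), (6, 3, false), (7, 14, false), (2, 72, false), (3, 20, false), (3, 2, false), (3, 4, false), (4, 34, false), (3, 6, false), (4, 51, false), (5, 36, false), (2, 53, false), (3, 38, false), (2, 6, false), (3, 51, false), (1, 66, false), (2, 55, false), (3, 40, false), (4, 21, false), (3, 3, false), (4, 33, false), (2, 5, false), (3, 50, false), (4, 43, false), (5, 35, false), (1, 57, false), (2, 51, false), (3, 44, false), (4, 36, false), (1, 7, false), (2, 58, false), (3, 52, false), (4, 45, false), (5, 37, false), (1, 58, false), (1, 6, false), (1, 7, false), (2, 63, false), (1, 9, false), (2, 69, false), (3, 65, false), (4, 60, false),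 (5, 54, false), (6, 47, false), (7, 39, false), (2, 63, false), (3, 58, false), (4, 52, false), (5, 45, false), (2, 57, false), (3, 51, false), (2, 7, false), (3, 58, false), (4, 52, false), (0, 76, false), (1, 71, false), (2, 62, false), (3, 56, false), (4, 49, false), (5, 41, false), (6, 22, false), (6, 1, false), (7, 12, false), (4, 33, false), (5, 24, false), (6, 14, false), (4, 23, false), (4, 3, false), (3, 42, false), (4, 25, false), (5, 15, false), (3, 24, false), (3, 2, false), (3, 3, false), (4, 33, false), (2, 43, false), (3, 35, false), (4, 26, false), (5, 16, false), (2, 33, false), (3, 24, false), (2, 6, false), (3, 36, false), (4, 27, false), (1, 63, false), (2, 37, false), (3, 28, false), (0, 30, false), (1, 20, false), (0, 2, false), (1, 23, false), (2, 13, false), (0, 6, false), (1, 36, false), (2, 27, false), (3, 17, false), (0, 7, false), (1, 63, false), (2, 37, false), (3, 28, false), (4, 18, false), (3, 12, false), (2, 13, false), (1, 17, false), (0, 18, false)], [(5, 20, true), (4, 30, true), (3, 47, true),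 (2, 72, true), (1, 9, true), (2, 44, true), (5, 28, true), (4, 37, true), (3, 45, true), (2, 63, true), (6, 27, true), (5, 36, true), (4, 44, true), (3, 6, true), (5, 24, true), (4, 33, true), (3, 3, true), (5, 18, true), (4, 28, true), (3, 37, true), (2, 7, true), (4, 17, true), (3, 27, true), (2, 36, true), (5, 14, true), (4, 24, true), (3, 33, true), (6, 12, true), (5, 1, true), (5, 0, true), (5, 0, false), (5, 1, false), (6, 12, false), (3, 33, false), (4, 24, false), (5, 14, false), (3, 23, false), (2, 27, false), (2, 2, false), (2, 3, false), (3, 33, false), (2, 7, false), (3, 45, false), (4, 37, false), (1, 68, false), (2, 46, false), (3, 38, false), (4, 29, false), (5, 19, false), (2, 33, false), (3, 24, false), (2, 6, false), (3, 36, false), (4, 27, false), (1, 63, false), (2, 37, false), (3, 28, false), (1, 9, false), (2, 30, false), (3, 20, false), (2, 3, false), (3, 24, false), (3, 2, false), (2, 33, false), (2, 5, false), (3, 35, false), (4, 26, false), (2, 6, false), (3, 57, false), (4, 36, false), (5, 27, false), (2,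 7, false), (3, 63, false), (4, 58, false), (5, 37, false), (6, 28, false), (3, 57, false), (3, 6, false), (2, 63, false), (1, 65, false), (2, 60, false), (3, 30, false), (3, 3, false), (3, 4, false), (4, 42, false), (1, 57, false), (2, 51, false), (3, 44, false), (1, 7, false), (2, 58, false), (3, 52, false), (4, 45, false), (2, 6, false), (3, 57, false), (1, 63, false), (1, 8, false), (2, 64, false), (3, 59, false), (4, 53, false), (5, 46, false), (2, 7, false), (3, 63, false), (4, 58, false), (1, 9, false), (2, 72, false), (3, 60, false), (4, 54, false), (5, 47, false), (3, 6, false), (4, 57, false), (5, 51, false), (3, 7, false), (4, 63, false), (5, 58, false), (6, 52, false), (0, 76, false), (1, 74, false), (2, 71, false), (3, 67, false), (4, 62, false), (5, 56, false), (6, 49, false), (7, 32, false), (8, 22, false), (7, 2, false), (8, 23, false), (6, 33, false), (5, 34, false), (6, 25, false), (5, 3, false), (4, 43, false), (5, 26, false), (5, 2, false), (4, 33, false), (2, 63, false), (3, 37, false), (1, 64, false), (2, 38,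 false), (3, 29, false), (0, 30, false), (0, 2, false), (1, 23, false), (0, 3, false), (1, 33, false), (2, 24, false), (0, 6, false), (1, 44, false), (2, 36, false), (3, 27, false), (4, 0, false), (2, 23, false), (3, 13, false), (1, 24, false), (2, 14, false), (0, 27, false), (1, 17, false)]),
    ([0, 2], [10, 9, 6, 5, 2, 0], [(5, 21, true), (4, 40, true), (3, 48, true), (2, 75, true), (1, 10, true), (3, 44, true), (5, 38, true), (4, 46, true), (3, 64, true), (2, 68, true), (6, 36, true), (5, 44, true), (4, 6, true), (5, 34, true), (4, 42, true), (6, 2, true), (6, 20, true), (5, 47, true), (4, 54, true), (3, 69, true), (2, 72, true), (1, 9, true), (2, 7, true), (3, 45, true), (2, 52, true), (4, 44, true), (3, 51, true), (5, 3, true), (5, 18, true), (4, 52, true), (3, 63, true), (2, 7, true), (4, 16, true), (3, 50, true), (6, 12, true), (6, 2, false), (7, 23, false), (5, 33, false), (6, 24, false), (2, 57, false), (3, 51, false), (2, 7, false), (3, 58, false), (3, 6, false), (2, 63, false), (1, 9, false), (2, 72, false), (3, 65, false),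 (4, 60, false), (5, 54, false), (6, 30, false), (6, 2, false), (5, 34, false), (4, 35, false), (3, 36, false), (1, 72, false), (2, 39, false), (2, 6, false), (1, 10, false), (2, 73, false), (3, 66, false), (4, 40, false), (5, 31, false), (4, 3, false), (5, 33, false), (4, 4, false), (5, 42, false), (6, 34, false), (3, 51, false), (4, 44, false), (5, 36, false), (3, 7, false), (4, 52, false), (5, 45, false), (6, 37, false), (4, 6, false), (2, 68, false), (3, 64, false), (4, 53, false), (5, 46, false), (6, 38, false), (2, 63, false), (2, 9, false), (3, 65, false), (4, 54, false), (5, 47, false), (6, 39, false), (3, 7, false), (4, 63, false), (5, 52, false), (6, 45, false), (4, 51, false), (3, 52, false), (0, 77, false), (1, 76, false), (2, 56, false), (3, 49, false), (4, 41, false), (5, 32, false), (2, 5, false), (3, 50, false), (4, 43, false), (5, 35, false), (2, 7, false), (3, 58, false), (4, 52, false), (5, 45, false), (6, 37, false), (2, 58, false), (2, 6, false), (2, 7, false), (3, 63, false), (1, 69, false), (2, 65, false), (3,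 60, false), (4, 54, false), (5, 47, false), (6, 39, false), (2, 57, false), (3, 51, false), (4, 44, false), (1, 58, false), (2, 52, false), (0, 61, false), (1, 55, false), (2, 48, false), (3, 40, false), (0, 6, false), (1, 57, false), (2, 51, false), (3, 44, false), (0, 7, false), (1, 63, false), (2, 58, false), (3, 52, false), (4, 45, false), (0, 63, false), (1, 1, false), (0, 7, false), (1, 63, false), (2, 28, false)], [(5, 22, true), (4, 32, true), (3, 49, true), (2, 74, true), (1, 76, true), (0, 11, true), (4, 47, true), (3, 65, true), (2, 69, true), (1, 72, true), (0, 9, true), (3, 46, true), (2, 64, true), (1, 68, true), (0, 8, true), (2, 45, true), (1, 63, true), (0, 7, true), (1, 44, true), (0, 6, true), (0, 42, true), (1, 3, true), (1, 30, true), (0, 54, true), (2, 51, true), (5, 28, true), (4, 37, true), (3, 52, true), (2, 63, true), (1, 7, true), (4, 27, true), (3, 36, true), (2, 51, true), (1, 6, true), (3, 26, true), (2, 35, true), (1, 50, true), (3, 33, true), (4, 2, true), (4, 24, true), (3, 3, true), (4, 21, true),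 (3, 31, true), (2, 55, true), (1, 61, true), (0, 75, true), (3, 54, true), (2, 60, true), (1, 9, true), (3, 58, true), (2, 63, true), (1, 7, true), (3, 51, true), (2, 57, true), (1, 6, true), (2, 50, true), (1, 5, true), (1, 4, true), (2, 29, true), (1, 38, true), (2, 37, true), (3, 33, true), (4, 2, true), (4, 27, true), (3, 44, true), (5, 25, true), (4, 42, true), (5, 3, true), (5, 23, true), (7, 20, true), (6, 30, true), (5, 39, true), (4, 54, true), (3, 65, true), (2, 69, true), (1, 72, true), (4, 63, true), (3, 7, true), (5, 36, true), (4, 51, true), (3, 6, true), (4, 2, true), (4, 28, true), (3, 52, true), (5, 27, true), (4, 51, true), (6, 24, true), (8, 19, true), (7, 29, true), (6, 46, true), (5, 53, true), (4, 64, true), (3, 68, true), (2, 8, true), (3, 6, true), (4, 45, true), (3, 52, true), (2, 7, true), (3, 3, true), (4, 27, true), (3, 36, true), (2, 51, true), (5, 23, true), (4, 2, true), (5, 18, true), (4, 28, true), (3, 52, true), (2, 63, true), (6, 17, true), (5, 27, true), (4, 51, true), (3, 6, true), (5, 16, true),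 (4, 26, true), (3, 50, true), (7, 24, true), (6, 33, true), (5, 3, true), (7, 0, true), (7, 0, false), (6, 12, false), (5, 3, false), (6, 33, false), (7, 14, false), (3, 6, false), (4, 57, false), (5, 51, false), (6, 44, false), (3, 57, false), (2, 8, false), (3, 59, false), (4, 53, false), (5, 46, false), (6, 19, false), (3, 6, false), (4, 57, false), (5, 51, false), (3, 7, false), (4, 63, false), (5, 58, false), (6, 52, false), (3, 63, false), (4, 58, false), (3, 7, false), (1, 72, false), (2, 69, false), (3, 60, false), (4, 54, false), (5, 20, false), (5, 3, false), (3, 50, false), (4, 43, false), (3, 6, false), (4, 51, false), (5, 44, false), (2, 63, false), (3, 52, false), (4, 45, false), (2, 7, false), (3, 63, false), (1, 9, false), (2, 72, false), (3, 69, false), (4, 65, false), (5, 54, false), (6, 47, false), (4, 51, false), (3, 52, false), (0, 11, false), (1, 77, false), (2, 76, false), (3, 74, false), (4, 56, false), (5, 49, false), (6, 22, false), (4, 5, false), (5, 50, false), (6, 43, false), (4, 6, false), (5, 57, false),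 (6, 51, false), (7, 44, false), (4, 7, false), (5, 63, false), (6, 58, false), (7, 52, false), (8, 45, false), (5, 57, false), (3, 59, false), (4, 53, false), (5, 46, false), (3, 7, false), (4, 58, false), (4, 6, false), (3, 63, false), (2, 65, false), (3, 60, false), (4, 54, false), (5, 47, false), (2, 7, false), (3, 63, false), (4, 58, false), (5, 52, false), (1, 70, false), (2, 66, false), (3, 61, false), (4, 55, false), (5, 48, false), (2, 57, false), (3, 51, false), (1, 58, false), (2, 52, false), (0, 62, false), (1, 56, false), (2, 49, false), (3, 2, false), (2, 33, false), (0, 6, false), (1, 57, false), (2, 51, false), (3, 36, false), (0, 7, false), (1, 0, false), (1, 6, false), (2, 17, false), (0, 63, false), (1, 18, false)]),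
    ([0, 3], [4, 1, 0], [(5, 19, true), (4, 38, true), (3, 46, true), (5, 36, true), (4, 44, true), (6, 2, true), (6, 17, true), (5, 44, true), (4, 6, true), (5, 16, true), (4, 43, true), (5, 3, true), (5, 13, true), (6, 12, true), (7, 0, true), (7, 0, false), (5, 23, false), (6, 13, false), (5, 3, false), (6, 24, false), (7, 14, false), (5, 24, false), (4, 6, false), (5, 57, false), (6, 27, false), (4, 7, false), (5, 63, false), (6, 58, false), (7, 28, false), (7, 2, false), (5, 57, false), (6, 36, false), (5, 6, false), (4, 63, false), (2, 72, false), (3, 65, false), (4, 60, false), (5, 39, false), (6, 30, false), (7, 20, false), (5, 23, false), (5, 3, false), (5, 4, false), (6, 42, false), (7, 25, false), (3, 57, false), (4, 51, false), (5, 44, false), (6, 27, false), (6, 2, false), (5, 33, false), (3, 7, false), (4, 58, false), (5, 52, false), (6, 37, false), (4, 6, false), (5, 57, false), (3, 63, false), (2, 64, false), (3, 59, false), (4, 53, false), (5, 38, false), (6, 29, false), (2, 9, false), (1, 75, false), (2, 31, false),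 (3, 21, false), (2, 3, false), (3, 24, false), (3, 2, false), (2, 33, false), (2, 5, false), (3, 35, false), (4, 26, false), (2, 6, false), (3, 57, false), (4, 36, false), (5, 27, false), (2, 7, false), (3, 63, false), (4, 58, false), (5, 37, false), (6, 28, false), (3, 57, false), (3, 6, false), (2, 63, false), (1, 65, false), (2, 60, false), (3, 30, false), (3, 3, false), (3, 4, false), (4, 42, false), (1, 57, false), (2, 51, false), (3, 44, false), (1, 7, false), (2, 58, false), (3, 52, false), (4, 45, false), (2, 6, false), (3, 57, false), (1, 63, false), (1, 8, false), (2, 64, false), (3, 59, false), (4, 53, false), (5, 46, false), (2, 7, false), (3, 63, false), (4, 58, false), (1, 9, false), (2, 72, false), (3, 60, false), (4, 54, false), (5, 47, false), (3, 6, false), (4, 57, false), (5, 51, false), (3, 7, false), (4, 63, false), (5, 58, false), (6, 52, false), (0, 76, false), (1, 74, false), (2, 71, false), (3, 67, false), (4, 62, false), (5, 56, false), (6, 49, false), (7, 32, false), (8, 22, false), (7, 2, false), (8, 23,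 false), (6, 33, false), (7, 24, false), (2, 63, false), (3, 58, false), (4, 52, false), (5, 37, false), (6, 28, false), (5, 3, false), (2, 7, false), (3, 63, false), (4, 58, false), (5, 52, false), (6, 45, false), (3, 57, false), (1, 59, false), (2, 53, false), (3, 46, false), (4, 29, false)], [(5, 20, true), (4, 30, true), (3, 47, true), (2, 72, true), (1, 9, true), (2, 44, true), (5, 28, true), (4, 37, true), (3, 45, true), (2, 63, true), (6, 27, true), (5, 36, true), (4, 44, true), (3, 6, true), (5, 24, true), (4, 33, true), (3, 3, true), (5, 18, true), (4, 28, true), (3, 37, true), (2, 7, true), (4, 16, true), (3, 26, true), (2, 35, true), (3, 33, true), (4, 2, true), (4, 24, true), (3, 3, true), (4, 14, true), (3, 24, true), (5, 13, true), (4, 23, true), (6, 12, true), (5, 1, true), (5, 1, false), (3, 33, false), (4, 24, false), (3, 3, false), (2, 7, false), (3, 58, false), (4, 45, false), (1, 59, false), (2, 46, false), (3, 29, false), (3, 2, false), (1, 6, false), (2, 57, false), (3, 44, false), (4, 36, false), (1, 7, false),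 (1, 9, false), (2, 69, false), (3, 60, false), (4, 47, false), (5, 39, false), (6, 30, false), (4, 33, false), (4, 4, false), (5, 34, false), (3, 6, false), (4, 57, false), (5, 51, false), (6, 36, false), (2, 63, false), (3, 58, false), (4, 52, false), (5, 37, false), (2, 57, false), (2, 7, false), (2, 8, false), (3, 68, false), (4, 59, false), (5, 53, false), (6, 38, false), (3, 58, false), (3, 6, false), (3, 7, false), (4, 63, false), (1, 72, false), (2, 69, false), (3, 65, false), (4, 60, false), (5, 54, false), (6, 39, false), (2, 63, false), (3, 58, false), (4, 52, false), (0, 74, false), (1, 67, false), (2, 62, false), (3, 56, false), (4, 41, false), (5, 32, false), (6, 0, false), (5, 12, false), (4, 3, false), (5, 33, false), (6, 14, false), (1, 57, false), (2, 51, false), (3, 44, false), (4, 36, false), (5, 17, false), (1, 7, false), (2, 58, false), (3, 52, false), (4, 45, false), (5, 37, false), (6, 18, false), (4, 33, false), (2, 6, false), (3, 57, false), (4, 51, false), (5, 36, false), (1, 63, false), (2, 58, false),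 (3, 52, false), (4, 37, false), (1, 7, false), (2, 63, false), (3, 58, false), (0, 9, false), (1, 72, false), (2, 60, false), (3, 54, false), (4, 39, false), (5, 20, false)]),
    ([0, 4], [11, 9, 4, 3, 0], [(5, 20, true), (4, 39, true), (3, 47, true), (2, 9, true), (3, 37, true), (2, 45, true), (4, 36, true), (3, 44, true), (5, 33, true), (4, 3, true), (5, 16, true), (4, 35, true), (5, 33, true), (7, 15, true), (6, 34, true), (5, 42, true), (7, 2, true), (7, 14, true), (6, 3, true), (6, 12, true), (6, 2, false), (7, 23, false), (6, 3, false), (7, 33, false), (8, 24, false), (3, 57, false), (4, 51, false), (5, 44, false), (2, 58, false), (2, 6, false), (2, 7, false), (3, 63, false), (2, 9, false), (3, 69, false), (4, 65, false), (5, 60, false), (6, 54, false), (7, 47, false), (8, 30, false), (8, 2, false), (6, 42, false), (7, 34, false), (5, 43, false), (6, 35, false), (4, 44, false), (5, 36, false), (2, 69, false), (3, 47, false), (4, 39, false), (3, 6, false), (4, 44, false), (2, 63, false), (1, 66, false), (2, 48, false), (3,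 40, false), (4, 31, false), (2, 33, false), (2, 4, false), (3, 34, false), (1, 51, false), (2, 36, false), (1, 7, false), (2, 52, false), (3, 37, false), (2, 6, false), (1, 8, false), (2, 68, false), (3, 64, false), (4, 53, false), (5, 38, false), (2, 63, false), (1, 9, false), (2, 72, false), (3, 65, false), (4, 54, false), (5, 39, false), (3, 7, false), (4, 63, false), (5, 52, false), (0, 76, false), (1, 74, false), (2, 71, false), (3, 67, false), (4, 56, false), (5, 41, false), (6, 32, false), (7, 0, false), (6, 12, false), (5, 13, false), (5, 3, false), (4, 5, false), (5, 50, false), (6, 43, false), (7, 16, false), (3, 57, false), (4, 51, false), (5, 44, false), (6, 17, false), (6, 2, false), (3, 6, false), (4, 57, false), (5, 51, false), (6, 44, false), (7, 36, false), (3, 57, false), (1, 59, false), (2, 53, false), (3, 46, false), (4, 38, false), (5, 19, false), (5, 1, false), (6, 12, false), (3, 33, false), (4, 24, false), (5, 14, false), (3, 23, false), (3, 3, false), (2, 42, false), (3, 25, false), (4, 15, false), (2, 24,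 false), (2, 2, false), (2, 3, false), (3, 33, false), (1, 43, false), (2, 35, false), (3, 26, false), (4, 16, false), (1, 33, false), (2, 24, false), (1, 6, false), (2, 36, false), (3, 27, false), (1, 7, false), (2, 63, false), (3, 37, false), (4, 28, false), (0, 69, false), (1, 30, false), (2, 20, false), (1, 12, false), (0, 18, false)], [(5, 20, true), (4, 30, true), (3, 47, true), (2, 72, true), (1, 9, true), (2, 44, true), (5, 28, true), (4, 37, true), (3, 45, true), (2, 63, true), (6, 27, true), (5, 36, true), (4, 44, true), (3, 6, true), (5, 24, true), (4, 33, true), (3, 3, true), (5, 19, true), (4, 29, true), (3, 38, true), (2, 68, true), (1, 8, true), (2, 37, true), (1, 7, true), (1, 33, true), (2, 2, true), (2, 27, true), (1, 44, true), (3, 23, true), (5, 16, true), (4, 26, true), (3, 35, true), (2, 43, true), (4, 33, true), (3, 3, true), (3, 2, true), (3, 24, true), (5, 15, true), (4, 25, true), (3, 42, true), (4, 3, true), (4, 23, true), (6, 13, true), (5, 23, true), (4, 2, true), (5, 0, true), (5, 0, false), (4, 12, false),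 (4, 3, false), (5, 14, false), (5, 2, false), (1, 57, false), (2, 51, false), (3, 44, false), (4, 36, false), (1, 6, false), (2, 57, false), (1, 7, false), (2, 63, false), (1, 8, false), (2, 68, false), (3, 64, false), (4, 59, false), (5, 53, false), (6, 46, false), (7, 38, false), (8, 19, false), (6, 33, false), (3, 57, false), (4, 51, false), (5, 36, false), (2, 58, false), (3, 52, false), (4, 37, false), (2, 7, false), (3, 58, false), (3, 6, false), (2, 63, false), (1, 9, false), (2, 72, false), (3, 65, false), (4, 60, false), (5, 54, false), (6, 39, false), (7, 20, false), (6, 3, false), (7, 33, false), (4, 50, false), (5, 43, false), (6, 35, false), (3, 51, false), (4, 44, false), (5, 36, false), (3, 7, false), (4, 52, false), (5, 45, false), (6, 37, false), (1, 72, false), (2, 54, false), (3, 47, false), (4, 39, false), (2, 7, false), (3, 52, false), (4, 45, false), (3, 6, false), (4, 51, false), (2, 63, false), (3, 52, false), (0, 74, false), (1, 67, false), (2, 56, false), (3, 49, false), (4, 41, false), (5, 22, false), (5,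 1, false), (6, 12, false), (4, 23, false), (5, 13, false), (3, 24, false), (4, 14, false), (3, 3, false), (4, 24, false), (4, 2, false), (3, 33, false), (2, 5, false), (3, 50, false), (4, 35, false), (5, 26, false), (6, 16, false), (1, 7, false), (2, 63, false), (3, 58, false), (4, 52, false), (5, 37, false), (6, 28, false), (7, 18, false), (5, 3, false), (6, 33, false), (7, 24, false), (2, 57, false), (3, 51, false), (4, 44, false), (5, 36, false), (6, 27, false), (1, 58, false), (2, 52, false), (3, 45, false), (4, 37, false), (5, 28, false), (1, 6, false), (2, 57, false), (3, 51, false), (4, 44, false), (1, 7, false), (2, 63, false), (3, 58, false), (0, 9, false), (1, 72, false), (2, 60, false), (3, 54, false), (4, 47, false), (5, 30, false), (6, 20, false), (5, 2, false), (6, 23, false), (4, 33, false), (3, 34, false), (4, 25, false), (3, 3, false), (2, 43, false), (3, 26, false), (3, 2, false), (2, 33, false), (2, 7, false), (3, 37, false), (1, 68, false), (2, 38, false), (3, 29, false), (2, 6, false), (0, 69, false), (1, 65,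 false), (2, 30, false), (3, 0, false), (1, 27, false), (2, 17, false), (0, 28, false), (1, 18, false)]),
    ([0, 5], [10, 7, 0], [(5, 18, true), (4, 37, true), (3, 45, true), (6, 17, true), (5, 36, true), (4, 44, true), (7, 13, true), (6, 2, true), (6, 2, false), (5, 33, false), (2, 69, false), (3, 65, false), (4, 39, false), (1, 70, false), (2, 40, false), (0, 41, false), (1, 1, false), (0, 23, false), (0, 6, false), (1, 27, false), (0, 7, false), (1, 63, false), (2, 28, false)], [(5, 17, true), (4, 27, true), (3, 44, true), (6, 14, true), (5, 24, true), (4, 3, true), (5, 13, true), (4, 23, true), (4, 3, false), (5, 33, false), (2, 64, false), (3, 46, false), (4, 38, false), (1, 65, false), (2, 47, false), (3, 39, false), (1, 7, false), (2, 63, false), (3, 45, false), (0, 49, false), (1, 41, false), (2, 0, false), (1, 13, false), (0, 14, false), (0, 6, false), (1, 17, false)]),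
    ([0, 6], [11, 10, 9, 8, 6, 5, 0], [(5, 18, true), (4, 37, true), (3, 45, true), (6, 16, true), (5, 35, true), (4, 43, true), (6, 33, true), (5, 3, true), (6, 15, true), (5, 34, true), (6, 2, true), (6, 14, true), (7, 2, false), (6, 33, false), (3, 58, false), (3, 6, false), (3, 7, false), (4, 63, false), (2, 69, false), (3, 65, false), (4, 60, false), (5, 54, false), (6, 39, false), (3, 57, false), (4, 51, false), (1, 70, false), (2, 61, false), (3, 55, false), (4, 40, false), (1, 58, false), (2, 52, false), (0, 62, false), (1, 56, false), (2, 41, false), (0, 6, false), (1, 57, false), (2, 51, false), (0, 7, false), (1, 63, false), (2, 58, false), (3, 52, false), (4, 3, false), (3, 42, false), (2, 43, false), (0, 63, false), (1, 45, false), (2, 0, false), (1, 14, false), (1, 1, false), (2, 12, false), (0, 7, false), (1, 63, false), (2, 28, false), (3, 18, false), (2, 12, false), (1, 17, false), (0, 18, false)], [(5, 18, true), (4, 28, true), (3, 45, true), (6, 17, true), (5, 27, true), (4, 44, true), (7, 16, true), (6, 26, true),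 (5, 43, true), (6, 3, true), (7, 24, true), (6, 33, true), (9, 15, true), (8, 25, true), (7, 34, true), (6, 42, true), (8, 33, true), (7, 3, true), (8, 23, true), (7, 2, true), (8, 13, true), (7, 23, true), (7, 3, false), (8, 33, false), (4, 57, false), (2, 59, false), (3, 53, false), (4, 46, false), (5, 38, false), (2, 7, false), (3, 58, false), (3, 6, false), (2, 63, false), (1, 65, false), (2, 60, false), (3, 54, false), (4, 47, false), (5, 39, false), (1, 7, false), (2, 63, false), (3, 58, false), (4, 52, false), (5, 45, false), (2, 57, false), (3, 51, false), (1, 58, false), (2, 52, false), (0, 62, false), (1, 56, false), (2, 49, false), (3, 41, false), (0, 6, false), (1, 57, false), (2, 51, false), (3, 2, false), (2, 34, false), (1, 35, false), (0, 36, false), (0, 7, false), (1, 37, false), (2, 0, false), (2, 1, false), (3, 12, false), (1, 23, false), (2, 13, false), (1, 6, false), (2, 27, false), (0, 63, false), (1, 28, false), (2, 0, false), (0, 27, false), (1, 17, false)]),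
    ([0, 7], [11, 10, 7, 3, 0], [(5, 18, true), (4, 37, true), (3, 45, true), (6, 17, true), (5, 36, true), (4, 44, true), (7, 13, true), (6, 2, true), (6, 12, true), (6, 2, false), (7, 23, false), (5, 33, false), (6, 24, false), (2, 69, false), (3, 30, false), (3, 2, false), (3, 4, false), (4, 34, false), (3, 5, false), (4, 50, false), (5, 35, false), (3, 6, false), (4, 57, false), (5, 51, false), (6, 36, false), (2, 63, false), (3, 58, false), (2, 7, false), (2, 9, false), (3, 69, false), (4, 60, false), (5, 54, false), (6, 39, false), (4, 6, false), (5, 57, false), (6, 51, false), (1, 75, false), (2, 70, false), (3, 66, false), (4, 61, false), (5, 55, false), (6, 40, false), (7, 31, false), (6, 3, false), (7, 33, false), (5, 42, false), (6, 34, false), (3, 57, false), (4, 44, false), (5, 36, false), (2, 58, false), (3, 45, false), (4, 37, false), (2, 7, false), (2, 8, false), (3, 68, false), (4, 59, false), (5, 46, false), (6, 38, false), (4, 6, false), (3, 63, false), (1, 72, false), (2, 65, false), (3, 60, false), (4, 47, false),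 (5, 39, false), (2, 7, false), (3, 63, false), (4, 58, false), (5, 45, false), (3, 57, false), (2, 58, false), (0, 74, false), (1, 62, false), (2, 49, false), (3, 41, false), (4, 32, false), (5, 0, false), (4, 12, false), (3, 13, false), (1, 16, false), (1, 6, false), (2, 17, false), (2, 2, false), (1, 36, false), (0, 38, false), (1, 19, false), (1, 1, false), (2, 12, false), (0, 23, false), (1, 13, false), (0, 6, false), (1, 27, false), (2, 17, false), (0, 7, false), (1, 63, false), (2, 28, false), (3, 18, false), (2, 12, false), (1, 17, false), (0, 18, false)], [(5, 17, true), (4, 27, true), (3, 44, true), (6, 14, true), (5, 24, true), (4, 3, true), (5, 13, true), (4, 23, true), (6, 0, true), (6, 0, false), (5, 12, false), (4, 3, false), (5, 33, false), (6, 14, false), (3, 44, false), (2, 46, false), (3, 19, false), (2, 6, false), (2, 7, false), (3, 63, false), (1, 69, false), (2, 65, false), (3, 20, false), (3, 3, false), (3, 5, false), (4, 43, false), (2, 57, false), (3, 44, false), (1, 58, false), (2, 45, false), (1, 6, false),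 (1, 7, false), (2, 63, false), (1, 9, false), (2, 69, false), (3, 65, false), (4, 60, false), (5, 47, false), (3, 57, false), (2, 58, false), (0, 76, false), (1, 62, false), (2, 49, false), (3, 22, false), (3, 1, false), (4, 12, false), (3, 2, false), (4, 23, false), (5, 13, false), (2, 33, false), (3, 24, false), (4, 14, false), (2, 3, false), (3, 33, false), (4, 24, false), (1, 26, false), (2, 16, false), (1, 7, false), (2, 28, false), (3, 18, false), (2, 3, false), (3, 24, false), (2, 6, false), (3, 44, false), (4, 27, false), (1, 63, false), (2, 45, false), (3, 28, false), (3, 2, false), (1, 44, false), (2, 36, false), (0, 47, false), (1, 39, false), (2, 30, false), (3, 20, false), (1, 23, false), (0, 24, false), (0, 6, false), (1, 27, false), (2, 0, false), (0, 27, false), (1, 17, false)]),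
    ([0, 8], [11, 10, 9, 8, 7, 5, 4, 1, 0], [(5, 14, true), (4, 33, true), (3, 3, true), (4, 0, true), (4, 0, false), (3, 13, false), (3, 3, false), (4, 14, false), (3, 6, false), (3, 7, false), (4, 63, false), (2, 69, false), (3, 65, false), (4, 20, false), (4, 2, false), (4, 4, false), (5, 34, false), (3, 51, false), (4, 36, false), (3, 6, false), (2, 8, false), (3, 68, false), (4, 64, false), (5, 53, false), (6, 38, false), (4, 51, false), (1, 73, false), (2, 70, false), (3, 55, false), (4, 40, false), (5, 21, false), (4, 3, false), (5, 33, false), (3, 5, false), (4, 50, false), (5, 43, false), (6, 35, false), (3, 6, false), (4, 57, false), (5, 51, false), (6, 44, false), (7, 36, false), (2, 63, false), (3, 58, false), (4, 52, false), (5, 45, false), (6, 37, false), (2, 7, false), (3, 63, false), (4, 58, false), (1, 9, false), (2, 72, false), (3, 60, false), (4, 54, false), (5, 47, false), (6, 39, false), (3, 7, false), (4, 58, false), (5, 52, false), (6, 45, false), (4, 6, false), (5, 57, false), (6, 51, false), (3, 63, false),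 (4, 58, false), (5, 52, false), (0, 76, false), (1, 74, false), (2, 67, false), (3, 62, false), (4, 56, false), (5, 49, false), (6, 41, false), (7, 22, false), (2, 7, false), (3, 63, false), (4, 58, false), (5, 52, false), (3, 57, false), (1, 59, false), (2, 53, false), (3, 1, false), (3, 3, false), (4, 24, false), (2, 25, false), (2, 2, false), (2, 3, false), (3, 33, false), (1, 43, false), (2, 35, false), (3, 26, false), (1, 6, false), (2, 44, false), (0, 65, false), (1, 47, false), (2, 30, false), (2, 2, false), (3, 23, false), (0, 44, false), (1, 36, false), (2, 27, false), (0, 7, false), (1, 45, false), (2, 37, false), (3, 28, false), (1, 6, false), (2, 44, false), (0, 63, false), (1, 45, false), (2, 0, false), (1, 14, false), (1, 1, false), (2, 12, false), (0, 7, false), (1, 63, false), (2, 28, false), (3, 18, false), (2, 12, false), (1, 17, false), (0, 18, false)], [(5, 13, true), (4, 23, true), (6, 12, true), (5, 1, true), (5, 0, true), (5, 0, false), (5, 1, false), (6, 12, false), (3, 33, false), (4, 24, false), (5, 14,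 false), (3, 23, false), (3, 6, false), (4, 27, false), (4, 2, false), (4, 3, false), (5, 33, false), (3, 7, false), (4, 63, false), (5, 45, false), (6, 37, false), (2, 68, false), (3, 64, false), (4, 46, false), (5, 38, false), (6, 29, false), (7, 19, false), (4, 33, false), (5, 24, false), (3, 36, false), (4, 27, false), (2, 37, false), (3, 28, false), (2, 6, false), (1, 65, false), (2, 30, false), (3, 20, false), (2, 3, false), (3, 24, false), (3, 2, false), (2, 33, false), (2, 5, false), (3, 35, false), (4, 26, false), (1, 57, false), (2, 36, false), (3, 27, false), (1, 7, false), (2, 58, false), (3, 37, false), (4, 28, false), (2, 6, false), (3, 57, false), (1, 9, false), (2, 60, false), (3, 30, false), (3, 3, false), (3, 4, false), (4, 42, false), (2, 6, false), (3, 57, false), (4, 51, false), (5, 44, false), (2, 7, false), (3, 63, false), (4, 58, false), (5, 52, false), (6, 45, false), (3, 57, false), (2, 8, false), (3, 59, false), (4, 53, false), (5, 46, false), (3, 7, false), (4, 58, false), (4, 6, false), (3, 63, false),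 (1, 72, false), (2, 65, false), (3, 60, false), (4, 54, false), (5, 47, false), (2, 57, false), (3, 51, false), (2, 7, false), (3, 58, false), (4, 52, false), (0, 74, false), (1, 71, false), (2, 62, false), (3, 56, false), (4, 49, false), (5, 32, false), (6, 22, false), (2, 6, false), (3, 57, false), (4, 51, false), (1, 63, false), (2, 58, false), (3, 52, false), (1, 7, false), (2, 63, false), (3, 58, false), (0, 9, false), (1, 72, false), (2, 60, false), (3, 54, false), (4, 0, false), (4, 2, false), (5, 13, false), (3, 15, false), (3, 3, false), (2, 43, false), (3, 16, false), (3, 2, false), (2, 6, false), (3, 44, false), (4, 36, false), (1, 64, false), (2, 46, false), (3, 38, false), (4, 19, false), (2, 33, false), (1, 36, false), (1, 7, false), (2, 37, false), (0, 69, false), (1, 39, false), (2, 20, false), (1, 13, false), (1, 3, false), (2, 14, false), (1, 6, false), (2, 44, false), (3, 17, false), (3, 2, false), (2, 33, false), (1, 36, false), (2, 0, false), (2, 1, false), (3, 12, false), (1, 23, false), (2, 13, false), (1,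 6, false), (2, 27, false), (0, 63, false), (1, 28, false), (2, 0, false), (0, 27, false), (1, 17, false)]),
    ([1, 2], [11, 10, 9, 7, 6, 5, 3, 2, 1], [(4, 21, true), (3, 40, true), (2, 48, true), (1, 70, true), (0, 73, true), (2, 7, true), (2, 44, true), (4, 38, true), (3, 46, true), (2, 64, true), (1, 8, true), (3, 36, true), (2, 44, true), (1, 6, true), (2, 34, true), (1, 42, true), (3, 2, true), (3, 20, true), (2, 47, true), (1, 54, true), (4, 45, true), (3, 52, true), (2, 7, true), (3, 44, true), (2, 51, true), (4, 3, true), (4, 18, true), (3, 52, true), (2, 63, true), (5, 16, true), (4, 50, true), (7, 12, true), (7, 2, false), (8, 23, false), (6, 33, false), (7, 24, false), (2, 63, false), (3, 58, false), (4, 52, false), (5, 37, false), (6, 28, false), (5, 3, false), (2, 7, false), (3, 63, false), (4, 58, false), (5, 52, false), (6, 45, false), (3, 57, false), (2, 8, false), (3, 59, false), (4, 53, false), (5, 46, false), (6, 29, false), (3, 50, false), (4, 43, false), (3, 7, false), (4, 52, false), (5, 45, false), (1, 72,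 false), (2, 54, false), (3, 47, false), (2, 7, false), (3, 52, false), (0, 73, false), (1, 70, false), (2, 55, false), (3, 48, false), (4, 0, false), (4, 1, false), (5, 12, false), (4, 2, false), (5, 23, false), (6, 13, false), (3, 33, false), (4, 24, false), (3, 3, false), (2, 5, false), (3, 50, false), (4, 43, false), (5, 26, false), (6, 16, false), (2, 6, false), (3, 57, false), (4, 51, false), (5, 44, false), (6, 27, false), (7, 17, false), (6, 2, false), (7, 23, false), (2, 57, false), (3, 51, false), (4, 44, false), (5, 36, false), (6, 27, false), (1, 58, false), (2, 52, false), (1, 6, false), (2, 57, false), (1, 7, false), (2, 63, false), (0, 68, false), (1, 64, false), (2, 59, false), (3, 53, false), (4, 29, false), (5, 19, false), (4, 2, false), (5, 23, false), (6, 13, false), (1, 57, false), (2, 51, false), (3, 36, false), (4, 27, false), (5, 17, false), (0, 58, false), (1, 52, false), (2, 37, false), (3, 28, false), (4, 18, false), (2, 3, false), (3, 33, false), (4, 24, false), (5, 14, false), (3, 23, false), (1, 25, false),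 (2, 15, false), (1, 3, false), (2, 24, false), (2, 2, false), (1, 33, false), (0, 35, false), (1, 26, false), (2, 16, false), (0, 7, false), (1, 37, false), (2, 28, false), (3, 18, false), (2, 12, false), (1, 13, false), (1, 6, false), (2, 17, false), (0, 63, false), (1, 18, false), (1, 1, false), (2, 12, false), (0, 7, false), (1, 63, false), (2, 28, false), (3, 18, false), (2, 12, false), (1, 17, false), (0, 18, false)], [(5, 22, true), (4, 32, true), (3, 49, true), (2, 67, true), (1, 71, true), (0, 76, true), (3, 63, true), (2, 7, true), (2, 6, true), (2, 47, true), (1, 9, true), (1, 46, true), (2, 45, true), (3, 44, true), (4, 42, true), (5, 3, true), (5, 30, true), (4, 54, true), (3, 65, true), (2, 69, true), (1, 72, true), (4, 63, true), (3, 7, true), (4, 51, true), (3, 6, true), (5, 28, true), (4, 37, true), (3, 52, true), (6, 27, true), (5, 36, true), (4, 51, true), (7, 26, true), (6, 35, true), (5, 50, true), (7, 33, true), (8, 2, true), (8, 24, true), (7, 3, true), (8, 21, true), (7, 31, true), (6, 55, true), (5, 61, true),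 (4, 66, true), (3, 70, true), (2, 73, true), (1, 75, true), (7, 54, true), (6, 60, true), (5, 65, true), (4, 69, true), (3, 72, true), (2, 9, true), (4, 63, true), (3, 7, true), (3, 6, true), (3, 58, true), (5, 51, true), (4, 57, true), (6, 50, true), (5, 5, true), (5, 4, true), (6, 29, true), (5, 38, true), (4, 64, true), (3, 68, true), (2, 8, true), (4, 37, true), (3, 63, true), (2, 7, true), (3, 33, true), (4, 2, true), (4, 27, true), (3, 44, true), (2, 6, true), (3, 25, true), (2, 42, true), (3, 3, true), (3, 23, true), (5, 20, true), (4, 30, true), (3, 39, true), (2, 54, true), (5, 36, true), (4, 51, true), (6, 2, true), (6, 28, true), (5, 52, true), (4, 63, true), (3, 7, true), (5, 27, true), (4, 51, true), (3, 6, true), (4, 24, true), (6, 19, true), (5, 29, true), (4, 46, true), (3, 53, true), (6, 45, true), (5, 52, true), (4, 63, true), (7, 3, true), (8, 27, true), (7, 36, true), (6, 51, true), (5, 6, true), (7, 23, true), (6, 2, true), (7, 18, true), (6, 28, true), (5, 52, true), (4, 7, true), (6, 17, true), (5, 27, true),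 (4, 51, true), (7, 16, true), (6, 26, true), (5, 50, true), (9, 24, true), (8, 33, true), (7, 3, true), (9, 0, true), (9, 0, false), (8, 12, false), (7, 3, false), (8, 33, false), (9, 14, false), (4, 57, false), (5, 51, false), (6, 44, false), (7, 36, false), (8, 17, false), (4, 7, false), (5, 58, false), (6, 52, false), (7, 45, false), (8, 37, false), (9, 18, false), (7, 33, false), (5, 6, false), (6, 57, false), (7, 51, false), (8, 36, false), (4, 63, false), (5, 58, false), (6, 52, false), (7, 37, false), (4, 7, false), (5, 63, false), (6, 58, false), (2, 72, false), (3, 60, false), (4, 54, false), (5, 39, false), (6, 20, false), (3, 50, false), (4, 35, false), (3, 6, false), (4, 51, false), (5, 36, false), (3, 7, false), (4, 63, false), (5, 52, false), (6, 37, false), (2, 68, false), (3, 53, false), (4, 38, false), (2, 9, false), (3, 54, false), (4, 39, false), (3, 6, false), (4, 51, false), (1, 75, false), (2, 66, false), (3, 55, false), (4, 40, false), (2, 7, false), (3, 63, false), (4, 52, false), (0, 76, false), (1, 71, false),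 (2, 67, false), (3, 56, false), (4, 41, false), (5, 1, false), (4, 23, false), (4, 3, false), (5, 24, false), (5, 2, false), (4, 33, false), (3, 5, false), (4, 50, false), (5, 35, false), (6, 26, false), (1, 63, false), (2, 58, false), (3, 52, false), (4, 37, false), (5, 28, false), (1, 57, false), (2, 51, false), (1, 7, false), (2, 58, false), (2, 6, false), (1, 63, false), (0, 65, false), (1, 60, false), (2, 54, false), (3, 30, false), (3, 2, false), (4, 23, false), (3, 3, false), (4, 33, false), (5, 24, false), (0, 57, false), (1, 51, false), (2, 44, false), (3, 36, false), (4, 27, false), (3, 23, false), (1, 25, false), (1, 2, false), (1, 3, false), (2, 33, false), (0, 43, false), (1, 35, false), (2, 26, false), (0, 6, false), (1, 44, false), (2, 36, false), (3, 27, false), (0, 7, false), (1, 63, false), (2, 45, false), (3, 37, false), (4, 28, false), (5, 0, false), (3, 23, false), (4, 13, false), (2, 24, false), (3, 14, false), (1, 27, false), (2, 17, false), (1, 6, false), (2, 27, false), (0, 63, false), (1, 28, false), (2,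 0, false), (0, 27, false), (1, 17, false)]),
    ([2, 3], [11, 10, 7, 6, 5, 4, 2], [(4, 29, true), (3, 59, true), (2, 68, true), (3, 7, true), (3, 58, true), (7, 27, true), (6, 36, true), (5, 44, true), (4, 57, true), (8, 26, true), (7, 35, true), (6, 43, true), (5, 5, true), (6, 33, true), (5, 3, true), (5, 2, true), (5, 23, true), (6, 1, true), (6, 1, false), (7, 12, false), (5, 3, false), (6, 33, false), (7, 24, false), (5, 5, false), (6, 26, false), (7, 16, false), (3, 63, false), (4, 58, false), (5, 28, false), (6, 18, false), (5, 3, false), (6, 24, false), (3, 57, false), (4, 44, false), (5, 27, false), (3, 7, false), (4, 58, false), (5, 45, false), (6, 28, false), (6, 2, false), (4, 6, false), (5, 57, false), (6, 44, false), (7, 36, false), (1, 72, false), (2, 60, false), (3, 47, false), (4, 39, false), (5, 30, false), (6, 20, false), (4, 23, false), (3, 4, false), (4, 25, false), (2, 6, false), (3, 57, false), (4, 51, false), (5, 27, false), (5, 2, false), (5, 3, false), (6, 33, false), (2, 7, false), (3, 63, false), (4,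 58, false), (5, 52, false), (6, 45, false), (7, 37, false), (3, 57, false), (1, 59, false), (2, 53, false), (3, 46, false), (4, 38, false), (5, 29, false), (2, 42, false), (1, 43, false), (1, 6, false), (2, 44, false), (1, 9, false), (2, 65, false), (3, 47, false), (2, 7, false), (3, 63, false), (0, 75, false), (1, 70, false), (2, 66, false), (3, 48, false), (4, 31, false), (5, 21, false), (4, 12, false), (3, 14, false), (3, 2, false), (3, 4, false), (4, 34, false), (5, 15, false), (4, 3, false), (5, 33, false), (3, 5, false), (4, 50, false), (5, 43, false), (6, 35, false), (7, 16, false), (5, 33, false), (2, 57, false), (3, 51, false), (4, 36, false), (1, 58, false), (2, 52, false), (3, 37, false), (1, 7, false), (2, 58, false), (2, 6, false), (1, 63, false), (0, 65, false), (1, 60, false), (2, 54, false), (3, 39, false), (4, 20, false), (3, 13, false), (0, 57, false), (1, 51, false), (2, 17, false), (0, 7, false), (1, 58, false), (2, 52, false), (3, 18, false), (3, 3, false), (4, 14, false), (4, 2, false), (2, 42, false), (3, 34,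 false), (4, 15, false), (2, 33, false), (1, 35, false), (2, 16, false), (0, 37, false), (1, 18, false), (1, 1, false), (2, 12, false), (0, 23, false), (1, 13, false), (0, 6, false), (1, 27, false), (2, 17, false), (0, 7, false), (1, 63, false), (2, 28, false), (3, 18, false), (2, 12, false), (1, 17, false), (0, 18, false)], [(7, 20, true), (6, 60, true), (5, 65, true), (4, 69, true), (3, 72, true), (2, 9, true), (4, 63, true), (3, 7, true), (3, 6, true), (3, 58, true), (4, 57, true), (7, 18, true), (6, 45, true), (5, 58, true), (4, 63, true), (3, 7, true), (6, 16, true), (5, 43, true), (4, 5, true), (4, 3, true), (4, 14, true), (5, 13, true), (6, 12, true), (4, 5, false), (5, 26, false), (3, 57, false), (4, 27, false), (3, 7, false), (4, 58, false), (5, 28, false), (5, 2, false), (5, 3, false), (6, 33, false), (3, 58, false), (4, 45, false), (5, 37, false), (3, 7, false), (2, 68, false), (3, 59, false), (4, 46, false), (5, 38, false), (6, 29, false), (3, 6, false), (4, 57, false), (5, 44, false), (2, 9, false), (3, 60, false), (4,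 47, false), (5, 30, false), (5, 2, false), (4, 4, false), (5, 42, false), (6, 34, false), (3, 50, false), (4, 43, false), (5, 35, false), (3, 6, false), (4, 51, false), (5, 44, false), (6, 36, false), (3, 7, false), (4, 63, false), (2, 69, false), (3, 65, false), (4, 54, false), (5, 47, false), (6, 39, false), (3, 51, false), (4, 44, false), (2, 52, false), (1, 55, false), (2, 48, false), (3, 40, false), (4, 31, false), (2, 33, false), (1, 34, false), (1, 6, false), (2, 36, false), (1, 7, false), (2, 63, false), (3, 37, false), (1, 8, false), (2, 68, false), (3, 64, false), (4, 38, false), (1, 9, false), (2, 72, false), (3, 69, false), (4, 65, false), (5, 39, false), (3, 63, false), (0, 76, false), (1, 74, false), (2, 67, false), (3, 41, false), (4, 32, false), (5, 0, false), (3, 23, false), (4, 13, false), (3, 2, false), (4, 23, false), (3, 3, false), (4, 33, false), (3, 4, false), (4, 42, false), (5, 34, false), (6, 25, false), (7, 15, false), (4, 33, false), (5, 24, false), (4, 3, false), (3, 5, false), (4, 50, false), (5, 43,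 false), (6, 26, false), (7, 16, false), (6, 2, false), (7, 23, false), (2, 57, false), (3, 51, false), (4, 44, false), (5, 36, false), (6, 27, false), (2, 7, false), (3, 58, false), (4, 52, false), (3, 6, false), (4, 57, false), (2, 63, false), (1, 64, false), (2, 59, false), (3, 53, false), (4, 29, false), (5, 19, false), (4, 3, false), (5, 24, false), (1, 57, false), (2, 51, false), (3, 44, false), (4, 27, false), (1, 7, false), (2, 58, false), (3, 52, false), (4, 45, false), (5, 28, false), (5, 2, false), (2, 6, false), (3, 57, false), (4, 51, false), (5, 44, false), (6, 36, false), (1, 63, false), (2, 58, false), (1, 7, false), (0, 69, false), (1, 60, false), (2, 54, false), (3, 47, false), (4, 39, false), (5, 30, false), (6, 20, false), (4, 23, false), (5, 13, false), (3, 24, false), (4, 14, false), (1, 6, false), (2, 57, false), (3, 51, false), (4, 27, false), (5, 17, false), (4, 2, false), (5, 23, false), (6, 13, false), (4, 23, false), (4, 3, false), (3, 42, false), (4, 25, false), (5, 15, false), (3, 24, false), (3, 2, false),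 (3, 3, false), (4, 33, false), (2, 43, false), (3, 35, false), (4, 26, false), (5, 16, false), (1, 44, false), (2, 36, false), (3, 27, false), (4, 17, false), (0, 45, false), (1, 37, false), (2, 28, false), (3, 18, false), (1, 23, false), (0, 24, false), (0, 6, false), (1, 27, false), (2, 0, false), (0, 27, false), (1, 17, false)])]

/-- A conjugation. -/
def twoGFourFus1 : Schur.Tails.Fus where
  xs := [[11, 10, 6], [11, 10, 9, 8], [11, 10, 9, 8, 7], [10, 7, 6], [11, 10, 7], [11, 10, 9, 7, 6]]
  ys := [[10, 7, 6], [9, 8, 7, 6], [11, 9, 8, 7, 6], [11, 10, 6], [11, 7, 6], [11, 10, 9, 7, 6]]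
  rels := [
    ([1, 1], [], [(3, 74, true), (2, 76, true), (1, 77, true), (0, 11, true), (2, 73, true), (1, 75, true), (0, 10, true), (1, 72, true), (0, 9, true), (0, 8, true)], [(3, 65, true), (2, 69, true), (1, 72, true), (0, 9, true), (2, 64, true), (1, 68, true), (0, 8, true), (1, 63, true), (0, 7, true), (0, 6, true)]),
    ([2, 2], [], [(4, 71, true), (3, 74, true), (2, 76, true), (1, 77, true), (0, 11, true), (3, 70, true), (2, 73, true), (1, 75, true), (0, 10, true), (2, 69, true), (1, 72, true), (0, 9, true), (1, 68, true), (0, 8, true), (0, 7, true)], [(4, 67, true), (3, 71, true), (2, 74, true), (1, 76, true), (0, 11, true), (3, 65, true), (2, 69, true), (1, 72, true), (0, 9, true), (2, 64, true), (1, 68, true), (0, 8, true), (1, 63, true), (0, 7, true), (0, 6, true)]),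
    ([0, 1], [1, 0], [(2, 67, true), (1, 77, true), (0, 11, true), (1, 66, true), (0, 10, true), (0, 65, true), (1, 64, true), (0, 10, false), (1, 75, false), (2, 73, false), (0, 11, false), (1, 77, false), (2, 76, false), (3, 74, false)], [(2, 65, true), (1, 69, true), (3, 64, true), (2, 68, true), (4, 63, true), (3, 7, true), (3, 6, true), (3, 6, false), (3, 7, false), (4, 63, false), (0, 75, false), (1, 73, false), (2, 70, false), (3, 66, false)]),
    ([0, 2], [2, 0], [(2, 67, true), (1, 77, true), (0, 11, true), (1, 66, true), (0, 10, true), (0, 65, true), (1, 64, true), (2, 63, true), (0, 10, false), (1, 75, false), (2, 73, false), (3, 70, false), (0, 11, false), (1, 77, false), (2, 76, false), (3, 74, false), (4, 71, false)], [(2, 67, true), (1, 71, true), (0, 77, true), (3, 65, true), (2, 69, true), (4, 64, true), (3, 68, true), (5, 63, true), (4, 7, true), (4, 6, true), (4, 6, false), (4, 7, false), (5, 63, false), (1, 75, false), (2, 73, false), (3, 70, false), (4, 66, false)]),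
    ([0, 5], [5, 0], [(2, 67, true), (1, 77, true), (0, 11, true), (1, 66, true), (0, 10, true), (0, 65, true), (1, 63, true), (2, 6, true), (2, 6, false), (0, 10, false), (1, 75, false), (2, 70, false), (3, 66, false), (0, 11, false), (1, 77, false), (2, 76, false), (3, 71, false), (4, 67, false)], [(2, 67, true), (1, 71, true), (0, 77, true), (3, 66, true), (2, 70, true), (1, 10, true), (2, 65, true), (1, 69, true), (3, 63, true), (2, 7, true), (2, 6, true), (2, 6, false), (2, 7, false), (3, 63, false), (1, 10, false), (2, 75, false), (3, 70, false), (4, 66, false)])]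

/-- A conjugation. -/
def twoGFourFus2 : Schur.Tails.Fus where
  xs := [[5, 3, 2, 1, 0], [4], [2], [5, 0], [3, 2, 0], [2, 0]]
  ys := [[5, 4, 3, 1], [0], [2], [4, 3, 1], [4, 3, 2], [4, 2]]
  rels := [
    ([1, 1], [], [(0, 4, true)], [(0, 0, true)]),
    ([4, 4], [], [(2, 14, true), (1, 33, true), (0, 3, true), (1, 13, true), (0, 2, true), (0, 0, true)], [(2, 34, true), (1, 42, true), (0, 4, true), (1, 33, true), (0, 3, true), (0, 2, true)]),
    ([0, 1], [5, 4, 2, 1, 0], [(4, 15, true), (3, 25, true), (2, 34, true), (1, 42, true), (3, 33, true), (2, 3, true), (3, 23, true), (2, 2, true), (2, 2, false), (2, 3, false), (3, 33, false), (0, 50, false), (1, 43, false), (2, 35, false), (0, 42, false), (1, 34, false), (1, 0, false), (1, 2, false), (2, 13, false), (0, 33, false), (1, 14, false)], [(3, 12, false), (2, 14, false), (2, 2, false), (1, 34, false), (2, 15, false), (1, 3, false), (2, 33, false), (0, 43, false), (1, 35, false), (2, 16, false), (1, 2, false), (0, 33, false), (0, 4, false), (1, 34, false)]),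
    ([0, 4], [5, 0], [(4, 14, true), (3, 24, true), (2, 33, true), (1, 3, true), (3, 13, true), (2, 23, true), (1, 2, true), (2, 0, true), (2, 0, false), (1, 12, false), (1, 2, false), (2, 13, false), (1, 3, false), (2, 33, false), (3, 14, false), (1, 33, false), (0, 35, false), (1, 16, false)], [(3, 25, true), (2, 42, true), (1, 4, true), (1, 3, true), (1, 24, true), (2, 23, true), (1, 33, false), (1, 4, false), (2, 34, false), (0, 50, false), (1, 35, false)]),
    ([1, 3], [3, 2, 1], [(0, 50, true), (2, 2, false), (1, 34, false), (2, 15, false), (1, 13, false)], [(0, 15, true), (2, 14, true), (1, 33, true), (3, 12, true), (2, 23, false)])]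

/-- The certificate. -/
def twoGFourCert : Schur.Tails.Cert where
  p := 2
  q := 4
  n := 12
  rels := [
    ([0, 0], []),
    ([1, 1], []),
    ([2, 2], []),
    ([3, 3], []),
    ([4, 4], []),
    ([5, 5], []),
    ([6, 6], []),
    ([7, 7], []),
    ([8, 8], []),
    ([9, 9], []),
    ([10, 10], []),
    ([11, 11], []),
    ([0, 1], [1, 0]),
    ([0, 2], [2, 0]),
    ([0, 3], [3, 0]),
    ([0, 4], [4, 2, 0]),
    ([0, 5], [5, 3, 0]),
    ([0, 6], [6, 0]),
    ([0, 7], [7, 0]),
    ([0, 8], [8, 6, 2, 0]),
    ([0, 9], [9, 7, 6, 3, 0]),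
    ([0, 10], [10, 8, 6, 4, 2, 0]),
    ([0, 11], [11, 9, 7, 6, 5, 3, 0]),
    ([1, 2], [2, 1]),
    ([1, 3], [3, 1]),
    ([1, 4], [4, 3, 1]),
    ([1, 5], [5, 3, 2, 1]),
    ([1, 6], [6, 1]),
    ([1, 7], [7, 1]),
    ([1, 8], [8, 7, 3, 2, 1]),
    ([1, 9], [9, 6, 2, 1]),
    ([1, 10], [10, 9, 6, 5, 4, 2, 1]),
    ([1, 11], [11, 9, 8, 7, 6, 4, 3, 1]),
    ([2, 3], [3, 2]),
    ([2, 4], [4, 2]),
    ([2, 5], [5, 2]),
    ([2, 6], [6, 2]),
    ([2, 7], [7, 2]),
    ([2, 8], [8, 2]),
    ([2, 9], [9, 2]),
    ([2, 10], [10, 6, 2]),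
    ([2, 11], [11, 7, 2]),
    ([3, 4], [4, 3]),
    ([3, 5], [5, 3]),
    ([3, 6], [6, 3]),
    ([3, 7], [7, 3]),
    ([3, 8], [8, 3]),
    ([3, 9], [9, 3]),
    ([3, 10], [10, 7, 3]),
    ([3, 11], [11, 7, 6, 3]),
    ([4, 5], [5, 4]),
    ([4, 6], [6, 4]),
    ([4, 7], [7, 4]),
    ([4, 8], [8, 6, 4]),
    ([4, 9], [9, 7, 4]),
    ([4, 10], [10, 4]),
    ([4, 11], [11, 4]),
    ([5, 6], [6, 5]),
    ([5, 7], [7, 5]),
    ([5, 8], [8, 7, 5]),
    ([5, 9], [9, 7, 6, 5]),
    ([5, 10], [10, 5]),
    ([5, 11], [11, 5]),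
    ([6, 7], [7, 6]),
    ([6, 8], [8, 6]),
    ([6, 9], [9, 6]),
    ([6, 10], [10, 6]),
    ([6, 11], [11, 6]),
    ([7, 8], [8, 7]),
    ([7, 9], [9, 7]),
    ([7, 10], [10, 7]),
    ([7, 11], [11, 7]),
    ([8, 9], [9, 8]),
    ([8, 10], [10, 8]),
    ([8, 11], [11, 8]),
    ([9, 10], [10, 9]),
    ([9, 11], [11, 9]),
    ([10, 11], [11, 10])]
  overlaps := twoGFourOverlaps
  fus := [twoGFourFus0, twoGFourFus1, twoGFourFus2]
  mu := [[0, 0, 0, 0, 0, 0, 0, 0, 0, 0, 0, 0, 0, 0, 0, 0, 2, 0, 0, 1, 1, 0, 3, 0, 0, 0, 0, 0, 0, 0, 0, 1, 3, 0, 0, 0, 0, 0, 0, 0, 0, 0, 0, 0, 0, 0, 0, 0, 0, 0, 0, 0, 0, 0, 0, 0, 0, 0, 0, 0, 0, 0, 0, 0, 0, 0, 0, 0, 0, 0, 0, 0, 0, 0, 0, 0, 0, 0, 0, 0, 0, 1], [0, 0, 0, 0, 0, 0, 0, 0, 0, 0, 0, 0, 0, 0, 0, 0, 0, 0, 0, 2, 0, 2, 3, 0, 0, 0, 0, 0, 0, 0, 0, 3, 1, 0, 0, 0, 0, 0, 0, 0, 0, 0, 0, 0, 0, 0, 0, 0, 0, 0, 0, 0, 0, 0, 0, 0, 0, 0, 0, 0, 0, 0, 0, 0, 0, 0, 0, 0, 0, 0, 0, 0, 0, 0, 0, 0, 0, 0, 0, 1], [0, 0, 0, 0, 0, 0, 0, 0, 0, 0, 0, 0, 0, 0, 0, 1], [0, 0, 0, 0, 0, 0, 0, 0, 0, 0, 0, 0, 0, 0, 0, 0, 1], [0, 0, 0,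 0, 0, 0, 0, 0, 0, 0, 0, 0, 0, 0, 0, 0, 0, 0, 0, 3, 1, 0, 3, 0, 0, 0, 0, 0, 0, 0, 0, 1], [0, 0, 0, 0, 0, 0, 0, 0, 0, 0, 0, 0, 0, 0, 0, 0, 0, 0, 0, 3, 0, 1, 1, 0, 0, 0, 0, 0, 0, 0, 0, 0, 3], [0, 0, 0, 0, 0, 0, 0, 0, 0, 0, 0, 0, 0, 0, 0, 3, 0, 0, 0, 1], [0, 0, 0, 0, 0, 0, 0, 0, 0, 0, 0, 0, 0, 0, 0, 1, 3, 0, 0, 3, 1], [0, 0, 0, 0, 0, 0, 0, 0, 0, 0, 0, 0, 0, 0, 0, 0, 0, 0, 0, 0, 3, 1, 1, 0, 0, 0, 0, 0, 0, 0, 0, 3], [0, 0, 0, 0, 0, 0, 0, 0, 0, 0, 0, 0, 0, 0, 0, 0, 0, 0, 0, 1, 3, 3, 0, 0, 0, 0, 0, 0, 0, 0, 0, 0, 1], [0, 0, 0, 0, 0, 0, 0, 0, 0, 0, 0, 0, 0, 0, 0, 1, 0, 0, 0, 0, 3, 3, 2, 0, 0, 0, 0, 0, 0, 0, 0, 2, 3, 0, 0, 0, 0, 0, 0, 0, 0, 0, 0, 0, 0, 0, 0, 0, 0, 0, 0, 0, 0, 0, 0, 0, 0, 0, 0, 0, 0, 0, 0, 0, 0, 0, 0, 0, 0, 0, 0, 0, 0, 0, 0, 0, 0, 0, 1, 1], [0, 0, 0, 0, 0, 0, 0, 0, 0, 0, 0, 0, 0, 0, 0, 1, 2, 0, 0, 0, 0, 3, 1, 0, 0, 0, 0, 0, 0, 0, 0, 3, 2, 0, 0, 0, 0, 0, 0, 0, 0, 0, 0, 0, 0, 0, 0, 0, 0, 0, 0, 0, 0, 0, 0, 0, 0, 0, 0, 0, 0, 0, 0, 0, 0, 0, 0, 0, 0, 0, 0, 0, 0, 0, 0, 0, 0, 0, 0, 1, 1, 1]]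
  combos := [
    ([(0, 3), (1, 3), (2, 3), (3, 2), (4, 2), (6, 3), (7, 3), (8, 2), (10, 1), (14, 3), (16, 2), (17, 1), (19, 2), (20, 2), (21, 3), (24, 1), (26, 2), (27, 1), (29, 2), (30, 1), (32, 2), (33, 2), (34, 2), (36, 2), (37, 2), (38, 1), (41, 3), (42, 1), (43, 3), (44, 3), (48, 1), (50, 2), (51, 2), (52, 3), (53, 2), (54, 2), (55, 1), (57, 1), (61, 3), (62, 2), (66, 2), (67, 2), (68, 2), (70, 2), (71, 1), (73, 1), (74, 2), (77, 2), (82, 2), (83, 2), (85, 2), (89, 2), (90, 3), (91, 3), (92, 1), (93, 1)], 1),
    ([(0, 2), (1, 1), (2, 1), (3, 3), (4, 2), (5, 2), (6, 1), (7, 2), (8, 3), (9, 3), (10, 2), (11, 2), (13, 2), (14, 2), (15, 3), (17, 2), (18, 1), (19, 3), (20, 3), (21, 2), (22, 3), (23, 2), (26, 3), (27, 1), (28, 2), (30, 3), (32, 3), (34, 1), (35, 2), (36, 3), (37, 2), (38, 1), (39, 1), (42, 1), (45, 3), (46, 3), (49, 1), (50, 2), (51, 3), (52, 1), (56, 2), (58, 2), (59, 2), (60, 2), (61, 2), (63, 2), (64, 2), (65, 2), (67, 2), (73, 1), (75, 2), (76, 2), (77, 2), (78, 2), (79, 2), (80, 2), (81, 2), (83, 2), (85, 2),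 (89, 2), (90, 3), (91, 3), (92, 1), (93, 1)], 3),
    ([(0, 3), (2, 1), (6, 2), (8, 1), (9, 3), (10, 1), (13, 2), (14, 3), (15, 1), (16, 3), (17, 1), (18, 1), (19, 2), (20, 1), (21, 3), (22, 3), (23, 1), (24, 2), (25, 3), (27, 2), (28, 3), (29, 1), (31, 3), (34, 1), (35, 2), (36, 1), (37, 1), (38, 1), (39, 3), (41, 3), (42, 3), (44, 3), (46, 2), (48, 2), (51, 3)], 2),
    ([(1, 1), (3, 3), (6, 3), (7, 2), (8, 1), (9, 2), (13, 3), (14, 3), (15, 3), (17, 2), (18, 1), (22, 1), (23, 1), (24, 2), (28, 2), (30, 1), (34, 1), (35, 2), (36, 1), (38, 1), (39, 2), (41, 3), (42, 3), (46, 3), (52, 3)], 2),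
    ([(0, 2), (1, 1), (2, 2), (3, 3), (4, 2), (7, 1), (9, 2), (10, 3), (11, 1), (12, 3), (13, 2), (14, 3), (15, 1), (16, 1), (17, 3), (18, 2), (19, 2), (20, 1), (21, 3), (22, 2), (23, 3), (26, 2), (28, 3), (29, 3), (30, 1), (31, 2), (32, 2), (34, 3), (36, 2), (39, 2), (41, 3), (42, 2), (43, 3), (45, 1), (46, 2), (47, 1), (48, 2), (49, 1), (50, 1), (51, 1), (52, 3), (53, 2), (56, 2), (57, 1), (60, 3), (63, 2), (64, 3), (65, 1), (66, 3), (68, 1), (71, 2), (72, 3), (73, 3), (74, 2), (75, 3), (76, 1), (78, 3), (79, 2), (81, 3), (82, 3), (83, 2), (86, 3)], 1),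
    ([(0, 3), (1, 3), (2, 2), (3, 2), (4, 1), (5, 3), (7, 1), (8, 1), (10, 1), (11, 2), (12, 1), (14, 3), (15, 1), (16, 2), (17, 3), (19, 3), (21, 3), (22, 3), (23, 2), (24, 3), (28, 1), (29, 2), (30, 1), (33, 3), (34, 3), (35, 3), (36, 2), (37, 2), (38, 3), (40, 2), (42, 3), (43, 1), (44, 1), (45, 2), (46, 1), (47, 2), (48, 2), (49, 1), (50, 1), (51, 2), (52, 1), (53, 3), (54, 2), (55, 3), (57, 1), (58, 2), (59, 3), (60, 2), (62, 1), (63, 1), (64, 1), (65, 2), (67, 2), (70, 3), (72, 1), (73, 2), (74, 3), (76, 3), (79, 1), (80, 1), (81, 2), (82, 2), (83, 2), (85, 2), (86, 3), (87, 3), (88, 1)], 3),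
    ([(0, 2), (1, 2), (2, 2), (4, 2), (5, 2), (6, 3), (8, 2), (10, 2), (11, 1), (12, 2), (14, 1), (15, 2), (16, 2), (18, 1), (19, 1), (20, 2), (21, 1), (22, 2), (24, 3), (26, 3), (27, 2), (28, 2), (29, 2), (30, 1), (32, 2), (34, 3), (36, 1), (37, 1), (38, 3), (40, 3), (44, 1), (45, 2), (46, 2), (47, 2), (48, 1), (49, 2), (51, 2), (54, 2), (56, 2), (57, 2), (58, 2), (61, 2), (62, 2), (64, 2), (70, 2), (71, 2), (72, 2), (73, 2), (78, 2), (79, 2), (86, 2)], 0),
    ([(1, 2), (2, 2), (7, 3), (9, 1), (10, 1), (11, 2), (12, 1), (13, 3), (14, 2), (16, 3), (18, 3), (19, 1), (23, 3), (24, 1), (25, 3), (26, 1), (27, 3), (28, 1), (29, 1), (30, 2), (31, 3), (32, 1), (34, 3), (35, 3), (37, 1), (38, 3), (39, 2), (40, 1), (42, 3), (43, 3), (44, 3), (45, 1), (46, 1), (47, 2), (48, 2), (50, 2), (51, 2), (55, 2), (57, 2), (58, 2), (61, 2), (63, 2), (64, 2), (67, 2), (71, 2), (73, 2), (76, 2), (78, 2), (80, 2), (85, 2), (86, 2)], 0),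
    ([(0, 2), (1, 2), (2, 2), (3, 3), (4, 3), (5, 1), (7, 1), (8, 3), (9, 3), (10, 3), (11, 3), (12, 1), (13, 3), (14, 3), (15, 2), (16, 3), (17, 3), (21, 1), (22, 3), (24, 1), (27, 3), (29, 1), (30, 1), (31, 3), (32, 1), (34, 1), (35, 2), (36, 1), (37, 2), (38, 3), (39, 3), (40, 1), (41, 3), (42, 2), (43, 2), (44, 2), (45, 2), (46, 1), (48, 1), (49, 2), (50, 3), (51, 2), (52, 3), (54, 1), (55, 3), (56, 3), (57, 2), (58, 3), (60, 1), (61, 3), (62, 3), (64, 2), (65, 3), (66, 3), (67, 2), (68, 3), (70, 3), (71, 3), (73, 2), (74, 2), (75, 1), (76, 1), (78, 2), (79, 1), (81, 1), (82, 3), (85, 2), (86, 2)], 1),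
    ([(0, 1), (2, 1), (3, 2), (5, 1), (6, 1), (7, 2), (8, 1), (9, 2), (11, 2), (12, 1), (15, 3), (16, 1), (17, 1), (18, 1), (19, 3), (20, 3), (21, 2), (22, 3), (23, 1), (24, 3), (25, 3), (27, 1), (28, 2), (29, 3), (30, 1), (32, 3), (33, 3), (34, 1), (35, 2), (36, 1), (39, 3), (40, 2), (41, 3), (42, 1), (43, 1), (45, 2), (46, 3), (48, 3), (49, 2), (50, 2), (51, 3), (52, 1), (53, 3), (54, 1), (55, 1), (56, 3), (58, 2), (59, 1), (60, 1), (61, 2), (62, 2), (63, 1), (64, 3), (65, 3), (66, 3), (67, 2), (71, 3), (73, 1), (74, 1), (75, 2), (76, 2), (77, 1), (78, 2), (79, 2), (80, 3), (81, 1), (82, 2), (85, 2), (86, 2)], 1),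
    ([(0, 1), (1, 1), (2, 1), (3, 1), (5, 1), (6, 3), (10, 2), (12, 2), (13, 2), (14, 2), (15, 1), (16, 2), (19, 1), (20, 1), (21, 3), (23, 3), (25, 1), (26, 1), (27, 1), (29, 2), (30, 1), (32, 3), (33, 1), (34, 3), (35, 2), (36, 1), (38, 3), (40, 3), (41, 1), (42, 3), (44, 1), (45, 3), (46, 1), (48, 2), (49, 1), (51, 2), (52, 3), (53, 3), (55, 3), (56, 2), (57, 1), (58, 1), (59, 3), (60, 2), (62, 1), (63, 1), (64, 1), (65, 2), (67, 3), (68, 3), (71, 1), (72, 1), (73, 2), (75, 3), (76, 3), (77, 1), (78, 1), (80, 1), (81, 2), (82, 3), (83, 2), (85, 2), (86, 3), (87, 1), (89, 2)], 0),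
    ([(0, 1), (1, 3), (2, 3), (5, 1), (6, 2), (7, 2), (9, 1), (10, 3), (12, 2), (13, 3), (14, 1), (15, 1), (16, 3), (17, 1), (18, 3), (19, 1), (20, 2), (21, 1), (22, 2), (23, 3), (26, 3), (27, 1), (28, 2), (29, 1), (30, 3), (31, 1), (32, 2), (33, 2), (34, 1), (36, 1), (38, 2), (39, 3), (40, 3), (41, 3), (42, 3), (43, 1), (44, 2), (46, 2), (47, 1), (49, 2), (50, 1), (51, 2), (52, 1), (54, 3), (55, 2), (57, 1), (58, 2), (59, 3), (60, 3), (61, 3), (65, 1), (66, 2), (68, 3), (69, 3), (71, 3), (76, 1), (77, 1), (78, 2), (81, 3), (82, 1), (83, 3), (86, 1), (87, 1)], 0),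
    ([(0, 1), (2, 1), (4, 2), (6, 3), (7, 2), (8, 2), (9, 3), (10, 2), (11, 2), (13, 3), (14, 1), (15, 2), (17, 2), (19, 1), (20, 1), (23, 3), (26, 3), (27, 1), (32, 3), (34, 2), (35, 2), (36, 2), (37, 2), (39, 3), (41, 1), (42, 2), (43, 2), (45, 3), (46, 2), (49, 3), (50, 2), (51, 2), (52, 2), (54, 2), (56, 2), (57, 2), (58, 2), (60, 2), (62, 2), (65, 2), (66, 2), (68, 2), (70, 2), (71, 2), (75, 2), (76, 2), (79, 2), (81, 2), (82, 2), (90, 3), (91, 3), (92, 1), (93, 1)], 1),
    ([(0, 1), (2, 3), (6, 2), (8, 3), (9, 1), (10, 3), (13, 2), (14, 1), (15, 3), (16, 1), (17, 3), (18, 3), (19, 2), (20, 3), (21, 1), (22, 1), (23, 3), (24, 2), (25, 1), (27, 2), (28, 1), (29, 3), (31, 1), (34, 3), (35, 2), (36, 3), (37, 3), (38, 3), (39, 1), (41, 1), (42, 1), (44, 1), (46, 2), (48, 2)], 2),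
    ([(1, 3), (3, 1), (6, 1), (7, 2), (8, 3), (9, 2), (13, 1), (14, 1), (15, 1), (17, 2), (18, 3), (22, 3), (23, 3), (24, 2), (28, 2), (30, 3), (34, 3), (35, 2), (36, 3), (38, 3), (39, 2), (41, 1), (42, 1), (46, 1)], 2),
    ([], 0),
    ([], 0),
    ([(6, 3), (7, 1), (8, 1), (9, 3), (10, 2), (11, 1), (12, 2), (14, 3), (15, 2), (16, 3), (17, 1), (19, 2), (21, 2), (22, 3), (24, 2), (25, 2), (26, 3), (28, 2), (29, 1), (30, 2), (31, 3), (32, 2), (35, 1), (36, 3), (38, 2), (40, 3), (41, 2), (43, 2), (44, 3), (45, 2), (48, 2), (49, 2)], 0),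
    ([(6, 1), (7, 2), (8, 3), (10, 1), (12, 2), (13, 1), (15, 2), (16, 3), (17, 3), (19, 3), (20, 1), (21, 1), (22, 1), (23, 1), (24, 2), (25, 1), (26, 3), (27, 3), (28, 1), (29, 1), (30, 1), (31, 3), (40, 1), (43, 3), (44, 3), (46, 1), (48, 2)], 0),
    ([], 0),
    ([], 0),
    ([], 0),
    ([], 0),
    ([(0, 1), (1, 3), (3, 1), (6, 2), (7, 2), (8, 3), (9, 2), (13, 1), (14, 1), (15, 1), (17, 2), (18, 3), (22, 3), (23, 3), (24, 2), (28, 2), (30, 3), (34, 3), (35, 2), (36, 3), (38, 3), (39, 2), (41, 1), (42, 1), (46, 1)], 2),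
    ([(0, 1), (2, 3), (3, 1), (6, 2), (7, 2), (8, 2), (9, 3), (10, 3), (13, 3), (14, 2), (16, 1), (17, 1), (18, 2), (19, 2), (20, 3), (21, 1), (23, 2), (25, 1), (27, 2), (28, 3), (29, 3), (30, 3), (31, 1), (34, 2), (36, 2), (37, 3), (38, 2), (39, 3), (41, 2), (42, 2), (44, 1), (46, 3), (48, 2)], 0),
    ([(0, 1), (3, 2), (4, 1), (5, 2), (7, 2), (8, 2), (9, 2), (10, 1), (11, 2), (12, 2), (13, 1), (14, 2), (15, 2), (16, 1), (17, 1), (19, 1), (20, 3), (21, 3), (24, 2), (25, 1), (26, 2), (27, 3), (29, 3), (30, 2), (31, 3), (32, 1), (34, 1), (35, 1), (38, 3), (41, 3), (42, 1), (44, 3), (46, 1), (48, 2), (49, 2), (50, 1), (51, 2), (52, 2), (54, 3), (55, 2), (56, 1), (57, 3), (58, 3), (60, 1), (61, 2), (62, 1), (63, 2), (64, 2), (65, 3), (66, 3), (68, 3), (70, 1), (71, 3), (72, 2), (73, 2), (74, 2), (75, 1), (76, 3), (78, 2), (79, 3), (80, 2), (81, 1), (82, 3), (86, 2)], 2),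
    ([(0, 3), (2, 2), (4, 3), (6, 3), (12, 2), (13, 3), (14, 1), (15, 2), (16, 2), (17, 2), (18, 3), (19, 1), (20, 3), (21, 3), (23, 3), (24, 3), (25, 1), (26, 3), (27, 3), (28, 3), (29, 2), (30, 1), (31, 3), (33, 3), (34, 3), (35, 2), (36, 1), (38, 2), (39, 3), (40, 1), (41, 2), (45, 1), (46, 1), (47, 2), (48, 2), (50, 2), (51, 2), (52, 3), (53, 3), (54, 3), (56, 1), (57, 2), (59, 1), (60, 1), (63, 2), (64, 1), (65, 3), (66, 3), (67, 2), (70, 2), (71, 1), (72, 2), (73, 3), (74, 1), (75, 2), (76, 2), (77, 1), (80, 3), (81, 1), (82, 2), (85, 2)], 2),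
    ([(6, 2), (8, 3), (9, 1), (12, 2), (13, 3), (14, 1), (15, 1), (17, 2), (18, 3), (19, 1), (21, 2), (22, 2), (24, 1), (25, 2), (26, 3), (27, 1), (28, 2), (30, 1), (34, 3), (35, 2), (36, 3), (37, 3), (38, 3), (39, 1), (40, 1), (41, 1), (42, 1), (43, 3), (46, 3)], 2),
    ([(6, 1), (7, 3), (8, 2), (10, 2), (11, 1), (14, 1), (16, 3), (17, 1), (18, 2), (19, 1), (22, 2), (23, 1), (24, 2), (27, 3), (28, 2), (29, 1), (30, 2), (31, 3), (32, 2), (34, 2), (35, 1), (36, 1), (37, 1), (39, 1), (40, 2), (42, 2), (43, 3), (44, 3), (45, 2), (48, 2), (49, 2)], 0),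
    ([(0, 2), (3, 3), (4, 1), (5, 3), (6, 2), (8, 3), (9, 1), (10, 2), (11, 1), (12, 1), (14, 1), (15, 2), (16, 2), (18, 1), (19, 2), (21, 2), (23, 1), (24, 3), (25, 3), (26, 1), (28, 3), (29, 2), (30, 3), (31, 1), (32, 3), (34, 2), (35, 2), (36, 3), (38, 2), (40, 3), (41, 1), (42, 2), (43, 1), (45, 2), (46, 3), (47, 1), (48, 1), (50, 3), (51, 3), (53, 2), (54, 2), (55, 2), (60, 3), (61, 1), (62, 2), (64, 3), (65, 1), (66, 3), (67, 2), (68, 1), (70, 2), (71, 2), (72, 1), (73, 3), (74, 2), (75, 3), (76, 3), (78, 3), (80, 2), (81, 3), (82, 3), (83, 2), (85, 2), (86, 3)], 2),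
    ([(1, 3), (2, 2), (3, 3), (4, 2), (5, 1), (6, 1), (7, 3), (8, 3), (9, 1), (10, 1), (11, 1), (12, 2), (13, 2), (14, 1), (15, 2), (17, 3), (18, 3), (19, 1), (20, 2), (23, 2), (24, 3), (27, 1), (28, 2), (32, 3), (33, 3), (34, 1), (35, 3), (36, 1), (37, 3), (38, 3), (41, 1), (42, 2), (44, 1), (45, 3), (46, 2), (48, 2), (49, 2), (50, 1), (51, 3), (52, 1), (53, 3), (56, 2), (59, 3), (60, 2), (61, 2), (62, 3), (64, 3), (65, 2), (67, 2), (70, 1), (71, 2), (72, 3), (74, 3), (76, 3), (78, 2), (79, 3), (80, 1), (81, 2), (82, 2), (83, 2), (85, 2), (86, 1), (87, 3), (88, 1)], 0),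
    ([], 0),
    ([], 0),
    ([(6, 1)], 0),
    ([(6, 3), (7, 3), (8, 3), (9, 2), (11, 2), (14, 1), (15, 3), (16, 1), (17, 1), (18, 3), (19, 2), (20, 2), (22, 1), (23, 3), (25, 2), (27, 3), (29, 3), (31, 1), (34, 1), (35, 1), (36, 2), (37, 1), (38, 3), (39, 2), (41, 1), (42, 1), (44, 1), (46, 2), (48, 2)], 2),
    ([(6, 1), (8, 1), (11, 2), (12, 3), (13, 1), (14, 1), (15, 2), (16, 3), (17, 2), (18, 2), (22, 2), (24, 3), (25, 2), (27, 1), (29, 1), (30, 1), (31, 3), (34, 1), (35, 3), (36, 2), (37, 3), (40, 2), (41, 2), (42, 2), (43, 2), (44, 3), (46, 1), (48, 2)], 0),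
    ([(7, 1)], 0),
    ([(6, 3), (7, 3), (8, 1)], 0),
    ([(7, 1), (8, 2), (9, 2), (10, 2), (11, 3), (12, 2), (14, 2), (15, 3), (16, 2), (18, 1), (20, 2), (21, 2), (22, 2), (23, 1), (24, 2), (25, 3), (26, 3), (27, 1), (28, 2), (29, 2), (30, 2), (31, 2), (32, 2), (34, 3), (36, 1), (37, 3), (38, 3), (39, 2), (40, 3), (41, 1), (42, 3), (43, 2), (44, 2), (45, 2), (46, 2), (49, 2)], 2),
    ([(7, 2), (8, 1), (10, 2), (11, 2), (12, 3), (14, 3), (17, 1), (18, 2), (19, 3), (20, 1), (21, 1), (22, 3), (23, 1), (24, 3), (25, 3), (26, 3), (27, 2), (34, 3), (35, 1), (36, 2), (37, 1), (40, 3), (41, 2), (42, 2), (43, 1)], 0),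
    ([(0, 1), (1, 1), (2, 3), (3, 2), (4, 3), (5, 3), (7, 3), (8, 3), (9, 3), (10, 3), (11, 2), (13, 3), (14, 1), (18, 1), (19, 3), (21, 2), (22, 1), (25, 1), (27, 3), (28, 2), (30, 1), (31, 3), (32, 3), (35, 1), (38, 1), (40, 3), (41, 3), (42, 3), (43, 3), (44, 1), (45, 3), (46, 3), (47, 3), (49, 3), (51, 3), (52, 2), (53, 2), (54, 3), (56, 3), (57, 1), (58, 1), (61, 1), (62, 1), (63, 2), (64, 3), (66, 2), (67, 2), (70, 1), (71, 3), (72, 1), (73, 3), (76, 2), (78, 3), (79, 1), (82, 2), (83, 2), (85, 2), (86, 3)], 0),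
    ([(0, 1), (1, 3), (3, 1), (5, 3), (6, 3), (7, 1), (8, 3), (9, 1), (10, 3), (11, 2), (13, 1), (14, 3), (15, 1), (16, 2), (17, 3), (18, 2), (19, 3), (20, 1), (21, 3), (22, 1), (23, 1), (24, 1), (25, 3), (26, 1), (27, 2), (29, 2), (31, 2), (33, 2), (34, 3), (35, 1), (36, 1), (38, 3), (39, 3), (41, 1), (42, 3), (43, 2), (44, 2), (45, 3), (47, 3), (49, 1), (50, 1), (51, 2), (52, 2), (54, 2), (55, 2), (56, 2), (57, 1), (58, 3), (60, 3), (61, 1), (63, 2), (64, 1), (65, 1), (66, 1), (72, 2), (75, 2), (76, 1), (77, 1), (78, 3), (80, 2), (81, 3), (82, 2), (86, 2), (87, 3), (88, 1)], 1),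
    ([(6, 2), (8, 1), (11, 2), (12, 3), (13, 1), (14, 1), (15, 1), (16, 3), (17, 2), (18, 2), (22, 2), (24, 3), (25, 2), (27, 1), (29, 1), (30, 1), (31, 3), (34, 1), (35, 3), (36, 2), (37, 3), (40, 2), (41, 2), (42, 2), (43, 2), (44, 3), (46, 1), (48, 2)], 0),
    ([(6, 3), (7, 2), (8, 1), (9, 2), (10, 2), (11, 2), (12, 1), (15, 1), (16, 2), (18, 3), (19, 2), (20, 2), (22, 1), (23, 1), (26, 1), (27, 3), (28, 2), (29, 2), (30, 1), (31, 2), (34, 3), (35, 2), (37, 2), (38, 2), (39, 3), (40, 2), (41, 1), (42, 1), (43, 2), (44, 2), (46, 3)], 2),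
    ([(6, 1), (11, 1)], 0),
    ([(6, 3), (11, 3), (12, 1)], 0),
    ([(6, 3), (7, 2), (8, 2), (10, 1), (11, 1), (12, 3), (13, 1), (14, 3), (15, 1), (17, 1), (18, 2), (19, 3), (20, 1), (21, 1), (22, 3), (23, 1), (24, 3), (25, 3), (26, 3), (27, 1), (28, 1), (34, 3), (35, 1), (36, 2), (37, 1), (40, 3), (41, 2), (42, 2), (43, 1)], 0),
    ([(6, 1), (7, 1), (8, 3), (9, 1), (10, 1), (11, 3), (12, 2), (13, 1), (15, 3), (18, 1), (19, 3), (20, 3), (21, 3), (22, 3), (25, 3), (30, 2), (32, 2), (34, 1), (35, 3), (36, 3), (37, 2), (39, 1), (40, 2), (41, 1), (42, 3), (43, 3), (45, 2), (46, 2), (49, 2)], 2),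
    ([(0, 1), (1, 3), (3, 1), (5, 3), (7, 1), (9, 3), (10, 1), (13, 2), (14, 1), (15, 2), (16, 2), (17, 3), (18, 1), (19, 2), (21, 3), (22, 3), (24, 1), (25, 3), (26, 3), (27, 2), (29, 2), (31, 2), (32, 2), (33, 2), (34, 2), (36, 2), (38, 1), (40, 2), (44, 2), (45, 1), (47, 3), (49, 3), (50, 1), (51, 2), (52, 2), (54, 2), (55, 2), (56, 2), (57, 1), (58, 3), (60, 3), (61, 1), (63, 2), (64, 1), (65, 1), (66, 1), (72, 2), (75, 2), (76, 1), (77, 1), (78, 3), (80, 2), (81, 3), (82, 2), (86, 2), (87, 3), (88, 1)], 3),
    ([(0, 2), (2, 3), (3, 3), (4, 3), (5, 2), (7, 3), (8, 1), (10, 3), (11, 1), (12, 1), (13, 3), (15, 1), (16, 2), (17, 2), (18, 2), (19, 1), (20, 2), (21, 1), (22, 1), (23, 1), (24, 1), (25, 1), (26, 2), (27, 1), (28, 3), (29, 2), (30, 1), (31, 1), (33, 2), (34, 3), (35, 3), (39, 3), (42, 2), (43, 2), (44, 3), (45, 1), (46, 3), (47, 2), (49, 3), (50, 1), (51, 1), (53, 2), (54, 1), (55, 2), (56, 1), (57, 2), (60, 3), (61, 2), (62, 1), (65, 1), (66, 3), (67, 2), (70, 1), (71, 3), (72, 3), (73, 3), (75, 2), (76, 3), (77, 1),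 (78, 2), (79, 1), (80, 2), (81, 3), (83, 2), (85, 2), (86, 1), (87, 3), (88, 1)], 2),
    ([(7, 3), (8, 2), (9, 2), (10, 3), (13, 3), (14, 1), (15, 2), (16, 2), (17, 2), (19, 3), (21, 3), (23, 3), (24, 2), (25, 1), (26, 3), (27, 2), (28, 1), (29, 2), (31, 2), (32, 1), (34, 2), (35, 1), (36, 3), (38, 2), (39, 2), (41, 3), (43, 2), (44, 2), (45, 3), (49, 3)], 1),
    ([(6, 2), (7, 1), (8, 2), (9, 1), (10, 2), (11, 2), (13, 2), (17, 2), (20, 3), (21, 3), (25, 1), (26, 1), (27, 1), (28, 2), (34, 1), (35, 3), (36, 3), (37, 2), (39, 1)], 0),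
    ([(6, 1), (7, 2), (8, 1), (9, 3), (10, 3), (11, 2), (12, 3), (13, 3), (14, 3), (15, 2), (20, 1), (21, 2), (27, 3), (28, 2), (35, 1), (36, 2), (37, 1), (38, 1), (39, 3)], 0),
    ([(0, 1), (1, 1), (2, 3), (3, 2), (4, 3), (5, 3), (6, 3), (7, 3), (8, 3), (10, 3), (13, 3), (15, 3), (17, 2), (18, 2), (20, 3), (21, 2), (22, 3), (23, 3), (24, 3), (26, 3), (27, 3), (31, 3), (32, 1), (34, 3), (35, 2), (36, 1), (37, 2), (38, 1), (39, 3), (40, 3), (42, 2), (43, 3), (45, 1), (46, 1), (47, 3), (48, 3), (49, 1), (51, 3), (52, 2), (53, 2), (54, 3), (56, 3), (57, 1), (58, 1), (61, 1), (62, 1), (63, 2), (64, 3), (66, 2), (67, 2), (70, 1), (71, 3), (72, 1), (73, 3), (76, 2), (78, 3), (79, 1), (82, 2), (83, 2), (85, 2), (86, 3)], 2),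
    ([(0, 1), (1, 3), (3, 1), (5, 3), (6, 2), (8, 1), (9, 3), (10, 1), (11, 1), (12, 2), (13, 3), (15, 2), (16, 1), (17, 1), (18, 3), (19, 1), (21, 1), (23, 2), (25, 1), (26, 3), (29, 3), (31, 1), (33, 2), (34, 1), (35, 1), (36, 1), (38, 2), (39, 1), (42, 2), (43, 2), (44, 1), (45, 3), (46, 1), (47, 3), (48, 2), (49, 2), (50, 1), (51, 2), (52, 2), (54, 2), (55, 2), (56, 2), (57, 1), (58, 3), (60, 3), (61, 1), (63, 2), (64, 1), (65, 1), (66, 1), (72, 2), (75, 2), (76, 1), (77, 1), (78, 3), (80, 2), (81, 3), (82, 2), (86, 2), (87, 3), (88, 1)], 2),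
    ([(0, 2), (1, 2), (2, 3), (3, 2), (4, 2), (7, 3), (8, 1), (9, 2), (11, 1), (12, 1), (13, 2), (14, 3), (15, 1), (18, 3), (19, 1), (20, 3), (25, 1), (26, 2), (27, 2), (28, 1), (30, 1), (31, 2), (32, 1), (33, 2), (34, 2), (35, 2), (36, 1), (37, 2), (38, 3), (39, 3), (41, 3), (42, 2), (43, 3), (44, 3), (45, 3), (46, 3), (48, 3), (49, 3), (51, 1), (52, 1), (53, 1), (54, 3), (56, 3), (57, 3), (58, 3), (59, 1), (60, 1), (61, 1), (62, 3), (63, 3), (64, 2), (65, 3), (66, 1), (68, 3), (71, 3), (72, 3), (74, 3), (75, 1), (77, 2), (80, 3), (81, 1), (82, 1), (83, 2), (86, 2)], 2),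
    ([(0, 1), (2, 3), (3, 1), (4, 1), (8, 3), (9, 3), (10, 1), (11, 1), (12, 3), (13, 3), (14, 1), (15, 1), (17, 3), (18, 2), (19, 2), (20, 1), (21, 1), (22, 3), (23, 1), (24, 2), (26, 2), (28, 2), (32, 1), (33, 1), (35, 1), (36, 3), (37, 1), (39, 3), (40, 3), (41, 3), (42, 2), (43, 3), (44, 1), (45, 1), (46, 3), (47, 3), (48, 3), (49, 3), (51, 2), (52, 2), (53, 3), (55, 2), (56, 2), (57, 1), (58, 3), (59, 3), (60, 3), (61, 3), (62, 1), (63, 3), (64, 1), (65, 1), (66, 3), (67, 2), (70, 3), (72, 3), (73, 2), (74, 3), (75, 2), (76, 2), (77, 3), (78, 1), (79, 1), (80, 3), (81, 3), (83, 2), (85, 2), (86, 2)], 2),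
    ([(6, 3), (7, 2), (10, 2), (11, 1), (12, 2), (14, 3), (15, 2), (17, 1), (20, 1), (21, 1), (25, 1), (26, 1), (27, 1), (28, 3), (34, 1), (36, 1), (37, 3), (38, 1)], 0),
    ([(6, 2), (7, 2), (8, 2), (10, 2), (11, 1), (12, 3), (14, 3), (15, 2), (17, 3), (20, 3), (21, 1), (26, 2), (28, 3), (34, 3), (38, 2), (39, 1)], 0),
    ([(0, 1), (1, 3), (3, 1), (5, 3), (8, 2), (9, 1), (10, 1), (11, 1), (15, 2), (16, 1), (17, 2), (19, 3), (21, 3), (22, 3), (23, 1), (25, 3), (26, 3), (27, 3), (28, 3), (29, 3), (31, 1), (33, 2), (34, 2), (36, 2), (40, 2), (41, 3), (42, 1), (44, 1), (45, 3), (46, 1), (47, 3), (48, 2), (49, 2), (50, 1), (51, 2), (52, 2), (54, 2), (55, 2), (56, 2), (57, 1), (58, 3), (60, 3), (61, 1), (63, 2), (64, 1), (65, 1), (66, 1), (72, 2), (75, 2), (76, 1), (77, 1), (78, 3), (80, 2), (81, 3), (82, 2), (86, 2), (87, 3), (88, 1)], 2),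
    ([(0, 2), (2, 3), (3, 3), (4, 3), (5, 2), (6, 2), (7, 1), (8, 2), (10, 1), (12, 1), (13, 3), (14, 1), (15, 2), (16, 1), (17, 2), (18, 3), (20, 3), (21, 1), (22, 2), (23, 3), (24, 2), (25, 2), (26, 2), (27, 3), (28, 3), (29, 3), (32, 1), (33, 2), (34, 2), (35, 3), (36, 3), (37, 1), (38, 3), (39, 3), (40, 2), (41, 1), (42, 2), (43, 2), (44, 1), (46, 2), (47, 2), (48, 1), (49, 3), (50, 1), (51, 1), (53, 2), (54, 1), (55, 2), (56, 1), (57, 2), (60, 3), (61, 2), (62, 1), (65, 1), (66, 3), (67, 2), (70, 1), (71, 3), (72, 3), (73, 3), (75, 2), (76, 3), (77, 1), (78, 2), (79, 1), (80, 2), (81, 3), (83, 2), (85, 2), (86, 1), (87, 3), (88, 1)], 0),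
    ([(0, 1), (1, 3), (2, 2), (3, 3), (4, 2), (5, 3), (6, 1), (7, 1), (8, 2), (9, 3), (11, 3), (12, 2), (14, 1), (15, 2), (16, 3), (17, 1), (18, 3), (19, 3), (20, 3), (21, 1), (22, 1), (24, 2), (25, 1), (28, 1), (29, 1), (30, 2), (31, 2), (32, 1), (33, 1), (34, 2), (35, 1), (36, 3), (40, 1), (41, 2), (42, 2), (43, 2), (45, 1), (46, 3), (48, 1), (49, 2), (50, 3), (51, 3), (54, 3), (55, 3), (56, 1), (58, 2), (60, 1), (61, 1), (62, 2), (63, 2), (64, 1), (65, 3), (66, 3), (70, 2), (71, 2), (73, 2), (75, 2), (76, 3), (77, 3), (78, 3), (79, 2), (80, 2), (81, 1), (82, 2)], 2),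
    ([(0, 2), (2, 1), (3, 1), (4, 1), (5, 2), (6, 2), (7, 1), (8, 1), (9, 3), (10, 2), (11, 2), (13, 3), (14, 1), (15, 3), (16, 3), (18, 3), (19, 1), (20, 1), (21, 1), (24, 2), (26, 2), (29, 1), (30, 3), (33, 2), (36, 3), (37, 2), (40, 2), (41, 3), (43, 3), (44, 3), (45, 2), (46, 3), (47, 2), (48, 3), (49, 3), (50, 3), (51, 3), (52, 3), (53, 2), (54, 3), (55, 2), (56, 3), (57, 3), (58, 1), (60, 1), (61, 2), (62, 3), (65, 3), (66, 1), (67, 2), (70, 3), (71, 1), (72, 1), (73, 1), (75, 2), (76, 1), (77, 3), (78, 2), (79, 3), (80, 2), (81, 1), (83, 2), (85, 2)], 0),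
    ([(6, 1), (11, 1), (24, 1)], 0),
    ([(6, 2), (7, 2), (8, 2), (9, 1), (10, 2), (11, 2), (13, 2), (17, 2), (20, 3), (21, 3), (25, 2), (26, 1), (27, 1), (28, 2), (34, 1), (35, 3), (36, 3), (37, 2), (39, 1)], 0),
    ([(6, 3), (7, 2), (10, 2), (11, 1), (12, 2), (14, 3), (15, 2), (17, 1), (20, 1), (21, 1), (24, 3), (25, 1), (26, 2), (27, 1), (28, 3), (34, 1), (36, 1), (37, 3), (38, 1)], 0),
    ([(7, 2), (8, 1), (9, 3), (10, 2), (11, 2), (13, 2), (15, 2), (17, 1), (19, 3), (20, 2), (21, 1), (22, 3), (23, 2), (24, 3), (26, 2), (27, 2), (30, 3), (31, 1), (32, 2), (34, 3), (35, 3), (37, 1), (38, 3), (41, 2), (45, 2), (48, 1), (49, 2)], 0),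
    ([(49, 1)], 0),
    ([(6, 1), (7, 1), (8, 2), (9, 3), (10, 3), (11, 3), (12, 3), (13, 3), (14, 3), (15, 2), (20, 1), (21, 2), (24, 1), (28, 2), (35, 1), (36, 2), (37, 1), (38, 1), (39, 3)], 0),
    ([(6, 2), (7, 2), (8, 2), (10, 2), (11, 1), (14, 3), (15, 2), (17, 3), (20, 3), (21, 1), (24, 1), (26, 2), (34, 3), (38, 2), (39, 1)], 0),
    ([(6, 1), (11, 1), (24, 1), (48, 3), (49, 1)], 0),
    ([(6, 2), (7, 3), (8, 1), (9, 2), (10, 2), (11, 3), (13, 3), (14, 3), (15, 1), (16, 3), (17, 1), (19, 1), (20, 3), (22, 2), (23, 3), (24, 2), (25, 3), (26, 3), (28, 1), (29, 1), (30, 2), (31, 3), (32, 2), (34, 1), (36, 1), (37, 3), (38, 1), (41, 2), (42, 1), (43, 2), (44, 2), (45, 3), (48, 1), (49, 3)], 0),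
    ([], 1),
    ([(0, 3), (1, 1), (2, 2), (4, 1), (5, 3), (6, 2), (7, 2), (8, 1), (9, 2), (10, 1), (11, 3), (12, 1), (13, 3), (15, 2), (16, 3), (17, 1), (18, 1), (19, 2), (20, 1), (21, 2), (23, 3), (24, 2), (25, 2), (26, 2), (27, 3), (28, 3), (29, 1), (30, 3), (31, 3), (32, 3), (33, 2), (34, 1), (35, 1), (36, 3), (39, 2), (41, 3), (42, 3), (45, 1), (47, 1), (48, 1), (49, 2), (50, 2), (51, 3), (52, 2), (53, 1), (54, 3), (55, 3), (56, 1), (59, 3), (60, 3), (61, 2), (62, 2), (63, 1), (64, 3), (65, 1), (66, 1), (68, 1), (70, 1), (71, 2), (72, 2), (73, 1), (74, 1), (75, 3), (77, 2), (78, 1), (79, 1), (80, 3), (81, 3), (82, 1), (86, 3)], 0),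
    ([(7, 3), (9, 3), (10, 1), (11, 2), (12, 1), (13, 1), (14, 1), (15, 2), (17, 2), (19, 2), (20, 3), (22, 2), (24, 2), (28, 2), (30, 2), (31, 2), (34, 2), (35, 1), (36, 2), (37, 1), (38, 1), (39, 1), (48, 1), (49, 2), (87, 3), (88, 1)], 0),
    ([(1, 1), (2, 1), (3, 2), (4, 3), (5, 1), (6, 1), (7, 2), (8, 2), (12, 3), (14, 2), (16, 3), (18, 3), (20, 2), (24, 1), (25, 1), (26, 2), (28, 1), (29, 1), (30, 1), (31, 1), (32, 1), (33, 3), (34, 3), (35, 3), (36, 3), (37, 3), (38, 2), (40, 2), (43, 3), (44, 3), (45, 3), (47, 3), (48, 3), (49, 2), (50, 1), (51, 3), (52, 2), (53, 3), (54, 1), (55, 3), (56, 1), (57, 1), (58, 1), (59, 3), (60, 2), (61, 2), (62, 3), (63, 1), (65, 2), (67, 2), (70, 1), (71, 2), (72, 3), (74, 3), (76, 3), (78, 2), (79, 3), (80, 1), (81, 2), (82, 2), (83, 2), (85, 2), (86, 2), (87, 3), (88, 1)], 0),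
    ([(0, 2), (2, 2), (3, 2), (5, 2), (7, 2), (9, 2), (10, 2), (11, 1), (13, 2), (14, 3), (15, 2), (17, 1), (18, 2), (19, 2), (20, 3), (21, 3), (23, 2), (24, 3), (30, 2), (32, 2), (34, 1), (36, 2), (37, 2), (39, 3), (41, 2), (42, 2), (43, 2), (45, 2), (46, 2), (49, 2), (51, 2), (55, 2), (60, 2), (63, 2), (65, 2), (66, 2), (67, 2), (71, 2), (73, 2), (77, 2), (80, 2), (81, 2), (85, 2), (86, 1), (87, 3), (88, 1)], 0),
    ([(5, 2), (6, 2), (8, 2), (10, 2), (11, 2), (12, 2), (13, 2), (14, 2), (15, 2), (16, 2), (21, 2), (25, 2), (26, 2), (28, 2), (29, 2), (31, 2), (32, 2), (34, 2), (36, 2), (46, 2), (47, 2), (48, 1), (50, 2), (51, 2), (53, 2), (54, 2), (57, 2), (60, 2), (61, 2), (65, 2), (68, 2), (69, 2), (71, 2), (76, 2), (77, 2), (81, 2), (82, 2), (83, 2), (84, 2), (85, 2), (86, 1), (87, 1)], 0)]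
  tau := [0, 0, 0, 0, 0, 0, 0, 0, 0, 0, 0, 0, 0, 0, 0, 0, 0, 0, 0, 0, 0, 0, 0, 0, 0, 0, 0, 0, 0, 0, 0, 0, 0, 0, 0, 0, 0, 0, 0, 0, 0, 0, 0, 0, 0, 0, 0, 0, 0, 0, 0, 0, 0, 0, 0, 0, 0, 0, 0, 0, 0, 0, 0, 0, 0, 0, 0, 0, 0, 0, 0, 0, 1]
  tauCombo := [(0, 1), (1, 3), (2, 1), (5, 2), (6, 3), (7, 2), (9, 2), (10, 1), (11, 2), (14, 1), (15, 3), (16, 2), (18, 2), (19, 1), (20, 3), (23, 3), (24, 1), (25, 1), (26, 2), (27, 2), (28, 1), (29, 2), (30, 1), (32, 2), (34, 2), (35, 3), (36, 3), (37, 2), (39, 1), (40, 2), (41, 1), (42, 3), (43, 2), (44, 3), (46, 2), (47, 2), (48, 3), (50, 2), (51, 3), (52, 3), (53, 3), (59, 1), (60, 2), (61, 2), (64, 2), (65, 2), (66, 2), (68, 2), (72, 2), (73, 2), (75, 2), (76, 2), (78, 2), (81, 2), (82, 2), (86, 2)]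

/-- The generators. -/
def twoGFourGens : List ℕ := [
  38929449153,
  295436139992476303489,
  35705077889,
  73859033923506421889,
  36845142145,
  152203653041243832449,
  34647588993,
  1188950336256098433,
  34672234625,
  2882585271157670017,
  35167166593,
  36894051132002812033]

/-- The conjugating elements. -/
def twoGFourHs : List ℕ := [
  2379631120238893858945,
  1343258784,
  8631882756]

/-- The program. -/
def twoGFourSlp : List (ℕ × Bool × ℕ × ℕ) := [
  (34630287489, true, 0, 0),
  (38795346114, false, 0, 4),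
  (4433510466, false, 9, 0),
  (6589382722, false, 10, 6),
  (35705077889, false, 11, 10),
  (148150413346413346882, false, 10, 7),
  (73859033923506421889, false, 13, 10),
  (17987297537, false, 2, 6),
  (17718845697, false, 15, 2),
  (17790152961, false, 16, 4),
  (34672234625, false, 17, 16),
  (6044647490, false, 10, 18),
  (36845142145, false, 19, 10),
  (4900197887341764865, false, 16, 5),
  (2882585271157670017, false, 21, 16),
  (110716493243710308418, false, 10, 22),
  (152203653041243832449, false, 23, 10),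
  (17736671489, false, 16, 12),
  (34647588993, false, 25, 16),
  (1224979116363620609, false, 16, 14),
  (1188950336256098433, false, 27, 16),
  (1180591638361407504769, false, 2, 3),
  (1217485689458511577473, false, 7, 29),
  (1217485689424151838977, false, 30, 7),
  (2379631120238893858945, false, 31, 16),
  (4433576006, false, 10, 2),
  (34630320289, false, 33, 10),
  (1343275169, false, 12, 34),
  (1343258784, false, 35, 12),
  (26308782339, false, 16, 0),
  (43220223109, false, 37, 16),
  (42991621253, false, 18, 38),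
  (8631882756, false, 39, 18)]

/-- The separating places. -/
def twoGFourBits : List ℕ := [6, 12, 13, 18, 19, 20, 26, 32, 48, 49, 55, 56]

/-- The overlaps. -/
def threeGFourOverlaps : List (List ℕ × List Schur.Tails.Step × List Schur.Tails.Step) := [
  ([0, 0, 0, 1], [(0, 0, true)], [(2, 3, true), (1, 4, true), (0, 4, true), (3, 4, true), (2, 5, true), (0, 2, true), (0, 5, true), (3, 3, true), (2, 5, true), (1, 5, true), (3, 5, true), (2, 5, true), (0, 2, true), (3, 4, true), (2, 4, true), (1, 5, true), (0, 5, true), (2, 5, true), (1, 5, true), (2, 1, true), (2, 4, true), (0, 2, true), (2, 3, true), (1, 5, true), (2, 5, true), (0, 2, true), (1, 0, true)])]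

/-- A conjugation. -/
def threeGFourFus0 : Schur.Tails.Fus where
  xs := [[2, 2], [2, 1], [2, 1, 1, 0]]
  ys := [[2, 1, 1, 0], [2, 2, 1, 1], [2, 2]]
  rels := [
    ([0, 0, 0], [], [(0, 2, true), (0, 2, true)], [(3, 4, true), (2, 5, true), (1, 5, true), (3, 5, true), (2, 5, true), (0, 2, true), (0, 1, true), (0, 3, true), (2, 3, true), (0, 2, true), (2, 4, true), (1, 4, true), (0, 2, true), (1, 4, true), (0, 5, true), (1, 5, true), (4, 3, true), (3, 5, true), (2, 5, true), (0, 2, true), (1, 5, true), (0, 5, true), (4, 3, true), (3, 4, true), (2, 5, true), (1, 5, true), (3, 5, true), (2, 5, true), (0, 2, true), (0, 1, true), (0, 4, true), (4, 3, true), (3, 4, true), (2, 5, true), (0, 2, true), (0, 5, true), (3, 4, true), (2, 5, true), (1, 5, true), (3, 5, true), (2, 5, true), (0, 2, true), (0, 1, true), (0, 0, true)]),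
    ([0, 1], [1, 0], [(0, 2, true), (0, 2, false), (2, 5, false), (1, 5, false)], [(3, 4, true), (2, 5, true), (1, 5, true), (3, 5, true), (2, 5, true), (0, 2, true), (0, 1, true), (0, 4, true), (3, 3, true), (2, 5, true), (0, 2, true), (0, 5, true), (2, 3, true), (1, 5, true), (2, 5, true), (0, 2, true), (0, 1, false), (0, 2, false), (2, 5, false), (3, 5, false)])]

/-- A conjugation. -/
def threeGFourFus1 : Schur.Tails.Fus where
  xs := [[1, 1, 0]]
  ys := [[2, 2, 0, 0]]
  rels := [
    ([0, 0, 0], [], [(2, 3, true), (1, 5, true), (0, 5, true), (2, 5, true), (1, 5, true), (4, 3, true), (3, 5, true), (2, 5, true), (0, 2, true), (1, 5, true), (0, 5, true), (4, 3, true), (3, 4, true), (2, 5, true), (1, 5, true), (3, 5, true), (2, 5, true), (0, 2, true), (0, 1, true), (0, 4, true), (4, 3, true), (3, 4, true), (2, 5, true), (0, 2, true), (0, 5, true), (3, 4, true), (2, 5, true), (1, 5, true), (3, 5, true), (2, 5, true), (0, 2, true), (0, 1, true), (0, 0, true)], [(3, 4, true), (2, 4, true), (0, 2, true), (2, 4, true), (1, 5, true),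 (2, 5, true), (0, 2, true), (2, 3, true), (1, 5, true), (0, 5, true), (2, 5, true), (1, 5, true), (5, 4, true), (4, 4, true), (3, 5, true), (2, 5, true), (0, 2, true), (1, 5, true), (0, 5, true), (1, 1, true), (1, 4, true), (0, 2, true), (1, 3, true), (0, 5, true), (1, 5, true), (3, 0, true), (3, 4, true), (2, 5, true), (0, 2, true), (0, 5, true), (3, 4, true), (2, 5, true), (1, 5, true), (3, 5, true), (2, 5, true), (0, 2, true), (0, 1, true), (0, 0, true)])]

/-- A conjugation. -/
def threeGFourFus2 : Schur.Tails.Fus where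
  xs := [[1, 0]]
  ys := [[2, 2, 1]]
  rels := [
    ([0, 0, 0], [], [(1, 3, true), (0, 5, true), (1, 5, true), (4, 3, true), (3, 4, true), (2, 5, true), (0, 2, true), (0, 5, true), (3, 4, true), (2, 5, true), (1, 5, true), (3, 5, true), (2, 5, true), (0, 2, true), (0, 1, true), (0, 0, true)], [(2, 5, true), (0, 2, true), (0, 5, true), (2, 5, true), (1, 5, true), (3, 5, true), (2, 5, true), (0, 2, true), (0, 1, true)])]

/-- The certificate. -/
def threeGFourCert : Schur.Tails.Cert where
  p := 3
  q := 3
  n := 3
  rels := [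
    ([0, 0, 0], []),
    ([1, 1, 1], []),
    ([2, 2, 2], []),
    ([0, 1], [2, 2, 0]),
    ([0, 2], [2, 2, 1, 0]),
    ([1, 2], [2, 1])]
  overlaps := threeGFourOverlaps
  fus := [threeGFourFus0, threeGFourFus1, threeGFourFus2]
  mu := [[], [0, 0, 0, 2], []]
  combos := [
    ([(1, 2), (2, 1)], 0),
    ([(0, 2), (1, 2), (4, 2)], 0),
    ([(1, 1), (4, 1)], 0),
    ([], 0),
    ([(1, 2), (2, 2), (3, 2), (4, 1)], 0),
    ([(2, 2), (3, 1), (4, 1)], 0)]
  tau := []
  tauCombo := []

/-- The generators. -/
def threeGFourGens : List ℕ := [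
  983086488049437690853,
  4208395359144691556996,
  4559740395768457505907]

/-- The conjugating elements. -/
def threeGFourHs : List ℕ := [
  2675211375441057353159,
  3560366873779651103106,
  3757242044245585582446]

/-- The program. -/
def threeGFourSlp : List (ℕ × Bool × ℕ × ℕ) := [
  (34630287489, true, 0, 0),
  (332906651844308123777, false, 5, 7),
  (2703466396636846112769, false, 9, 1),
  (2850463888472608497665, false, 10, 6),
  (479904143680070508673, false, 11, 1),
  (1365059646429599899777, false, 12, 3),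
  (1678655421600021635457, false, 13, 2),
  (3855370668108983320833, false, 14, 6),
  (3855658894091383488833, false, 15, 5),
  (2675067255764606271553, false, 16, 3),
  (2675067255767299022913, false, 17, 7),
  (323260508791153778883, false, 18, 0),
  (2827036726026594431169, false, 18, 18),
  (332330472564892651649, false, 7, 5),
  (336941877104052555969, false, 21, 4),
  (355389747094848819649, false, 22, 2),
  (2661375754376294068291, false, 22, 0),
  (2379775798446580178947, false, 24, 5),
  (2379775235496089878531, false, 25, 7),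
  (2379775235495955529729, false, 26, 1),
  (2675211375449510772801, false, 27, 5),
  (323116389404204073155, false, 28, 0),
  (508160853844101693635, false, 29, 6),
  (194281352206393278919, false, 30, 2),
  (2555455595238054298053, false, 31, 7),
  (2555464602265510347079, false, 32, 6),
  (4049935742504873951555, false, 33, 2),
  (4031205271366877265991, false, 33, 3),
  (1203870181175633542643, false, 35, 35),
  (4559740395768457505907, false, 20, 36),
  (2969935941482741623859, false, 20, 37),
  (304531291664354063461, false, 36, 38),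
  (983086488049437690853, false, 20, 39),
  (3237694131004998129604, false, 36, 36),
  (4089979588526875163908, false, 20, 41),
  (4208395359144691556996, false, 20, 42),
  (295436140009656172929, false, 5, 2),
  (2656763505403012204931, false, 44, 0),
  (3837355143712609619079, false, 45, 2),
  (2675211375441057353159, false, 46, 5),
  (3855803013750654634179, false, 45, 5),
  (3855803013776287989825, false, 48, 1),
  (1679664227950910242881, false, 49, 6),
  (3560366873779651103106, false, 48, 4),
  (1770887589440555991171, false, 3, 0),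
  (4168964890734484406275, false, 52, 7),
  (3006825696658664326403, false, 53, 3),
  (3016060365086572809985, false, 54, 0),
  (4477959436233200519681, false, 55, 4),
  (1489586183808581913091, false, 56, 0),
  (1489590688507720912391, false, 57, 2),
  (1489586254452204064279, false, 58, 3),
  (2070794302029046112899, false, 57, 1),
  (908653930084483343255, false, 60, 3),
  (1789770812302083454930, false, 61, 5),
  (1208562835506436627802, false, 62, 0),
  (27971267565314939215, false, 63, 5),
  (27975770065430748507, false, 64, 3),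
  (1208567338006552303950, false, 65, 5),
  (3606776780867464362478, false, 66, 1),
  (3757242044245585582446, false, 67, 7)]

/-- The separating places. -/
def threeGFourBits : List ℕ := [13, 2, 58, 31, 71, 0, 5]

/-- The overlaps. -/
def fiveGFourOverlaps : List (List ℕ × List Schur.Tails.Step × List Schur.Tails.Step) := []

/-- A conjugation. -/
def fiveGFourFus0 : Schur.Tails.Fus where
  xs := [[1, 0, 0], [0, 0]]
  ys := [[0, 0], [1, 0, 0]]
  rels := [
    ([0, 0, 0, 0, 0], [], [(2, 2, true), (1, 2, true), (5, 2, true), (4, 2, true), (3, 2, true), (2, 2, true), (3, 0, true), (3, 2, true), (6, 2, true), (5, 2, true), (4, 2, true), (0, 1, true), (0, 0, true)], [(0, 0, true), (0, 0, true)]),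
    ([0, 1], [1, 0], [(0, 2, false), (1, 2, false)], [(1, 2, true), (0, 2, true)])]

/-- A conjugation. -/
def fiveGFourFus1 : Schur.Tails.Fus where
  xs := [[0]]
  ys := [[1, 1]]
  rels := [
    ([0, 0, 0, 0, 0], [], [(0, 0, true)], [(0, 1, true), (0, 1, true)])]

/-- The certificate. -/
def fiveGFourCert : Schur.Tails.Cert where
  p := 5
  q := 5
  n := 2
  rels := [
    ([0, 0, 0, 0, 0], []),
    ([1, 1, 1, 1, 1], []),
    ([0, 1], [1, 0])]
  overlaps := fiveGFourOverlaps
  fus := [fiveGFourFus0, fiveGFourFus1]
  mu := [[], []]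
  combos := [
    ([(0, 2), (2, 1)], 0),
    ([(0, 1)], 0),
    ([(1, 1)], 0)]
  tau := []
  tauCombo := []

/-- The generators. -/
def fiveGFourGens : List ℕ := [
  2200086027978365778312,
  4285462033745604364646]

/-- The conjugating elements. -/
def fiveGFourHs : List ℕ := [
  4196642890789962137729,
  891723008963216312418]

/-- The program. -/
def fiveGFourSlp : List (ℕ × Bool × ℕ × ℕ) := [
  (34630287489, true, 0, 0),
  (1180596142218867261571, false, 0, 3),
  (1180596142236047196551, false, 9, 2),
  (51944571271, false, 10, 3),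
  (2398086308716926419335, false, 11, 7),
  (2416534178673094426755, false, 12, 3),
  (2697847311760386884038, false, 12, 4),
  (2716292929917278109890, false, 14, 3),
  (927105827521815456100, false, 14, 1),
  (3878443453944757961158, false, 15, 2),
  (2070655350348900845926, false, 17, 0),
  (2071880896839518650497, false, 18, 18),
  (9232379408312975491, false, 0, 1),
  (304668519365890539650, false, 20, 5),
  (304673023257575686534, false, 21, 2),
  (323120893295889220039, false, 22, 4),
  (1485260157967545729410, false, 22, 3),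
  (4436883476655984707970, false, 24, 0),
  (3256296413139392629894, false, 25, 2),
  (3404437676382113465476, false, 26, 6),
  (1485403741693822067939, false, 27, 27),
  (95336643600957399464, false, 28, 28),
  (537465400018394107605, false, 19, 29),
  (2927029376906964181229, false, 19, 30),
  (2561379837837216010664, false, 19, 31),
  (2200086027978365778312, false, 19, 32),
  (1962181363819759647204, false, 19, 19),
  (4285462033745604364646, false, 19, 34),
  (35301515395, false, 6, 0),
  (1199044012193020534915, false, 36, 3),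
  (3560236269725733109761, false, 37, 7),
  (3597130320857465503875, false, 37, 6),
  (4196642890789962137729, false, 39, 0),
  (9232379408715767937, false, 6, 1),
  (327728356902100426880, false, 41, 5),
  (9236883300132528513, false, 41, 2),
  (2370420133393609073027, false, 43, 7),
  (2370422387401035983233, false, 44, 0),
  (2960718338634668908961, false, 45, 1),
  (2960716084627242068387, false, 46, 0),
  (4459798066168108018150, false, 47, 5),
  (2965612908976353114275, false, 48, 4),
  (3002642059094787283105, false, 49, 0),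
  (632244461652282636323, false, 50, 1),
  (4454903502560940832998, false, 49, 5),
  (2278179248648210135268, false, 52, 6),
  (1085261253469738674400, false, 53, 5),
  (1048367202370177239264, false, 54, 7),
  (3292528920020968442082, false, 55, 1),
  (891723008963216312418, false, 56, 0)]

/-- The separating places. -/
def fiveGFourBits : List ℕ := [2, 11, 48, 14, 17, 6]

end CfsgLib.TailsData
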