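import Cfsg.Agent.Lib.Tails.Coded
import Cfsg.Agent.Lib.Tails.G2FourData
import Cfsg.Agent.Lib.G2FourJ2.Mat
import Cfsg.Agent.Lib.G2FourJ2.Data

/-!
# Checks of the certificates for the group of type G two over four elements
-/

set_option autoImplicit false
set_option maxRecDepth 100000

namespace CfsgLib.Schur.Tails.G2Four

open CfsgLib CfsgLib.Golay CfsgLib.TailsData
open CfsgLib.G2FourJ2 (mulM okM oneM val)
open CfsgLib.Spectrum.G2 (Ix)

/-- A fixed field with four elements. -/
abbrev F4 : Type := GaloisField 2 2

theorem card_F4 [Fintype F4] : Fintype.card F4 = 4 := by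
  rw [Fintype.card_eq_nat_card, GaloisField.card 2 2 two_ne_zero]; norm_num

/-- The coordinates of the fixed field. -/
noncomputable def K4 : J3.Fld F4 :=
  haveI : Fintype F4 := Fintype.ofFinite _
  Classical.choose (G2FourJ2.exists_omega card_F4)

/-- The matrix group acts trivially on a point. -/
instance trivialAct : MulAction (GL Ix F4) Unit where
  smul _ x := x
  one_smul _ := rfl
  mul_smul _ _ _ := rfl

/-- The coded matrices. -/
noncomputable def opsQ : Bsgs.Ops (GL Ix F4) Unit where
  val := val K4
  ok := okM
  one := oneM
  mul := mulM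
  pt _ := ()
  ptOk p := Nat.beq p 0
  img _ p := p
  ok_one := G2FourJ2.ok_oneM
  val_one := G2FourJ2.val_oneM K4
  ok_mul _ _ ha hb := G2FourJ2.ok_mulM ha hb K4
  val_mul _ _ ha hb := G2FourJ2.val_mulM K4 ha hb
  pt_img _ _ _ h := ⟨rfl, h⟩
  pt_inj p q hp hq _ := by
    rw [Nat.eq_of_beq_eq_true hp, Nat.eq_of_beq_eq_true hq]

/-- Evaluate a number before use. -/
noncomputable def forceN {α : Type} (x : ℕ) (k : ℕ → α) : α :=
  Nat.rec (k 0) (fun n _ => k (Nat.succ n)) x

theorem forceN_eq {α : Type} (x : ℕ) (k : ℕ → α) : forceN x k = k x := by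
  cases x <;> rfl

/-- Evaluate the entries of a list before use. -/
noncomputable def forceNs (L : List ℕ) : List ℕ :=
  List.rec (motive := fun _ => List ℕ) [] (fun x _ ih => forceN x fun y => y :: ih) L

theorem forceNs_eq : ∀ L : List ℕ, forceNs L = L
  | [] => rfl
  | a :: L => by
    show forceN a (fun y => y :: forceNs L) = _
    rw [forceN_eq, forceNs_eq L]

/-- The products of powers of the generators, with evaluated entries. -/
noncomputable def spanC (p : ℕ) : List ℕ → List ℕ
  | [] => [oneM]
  | g :: gs =>
    let r := spanC p gs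
    (List.range p).flatMap fun k => forceNs (r.map fun e => mulM (Coded.powO opsQ g k) e)

theorem spanC_eq (p : ℕ) : ∀ gs : List ℕ, spanC p gs = Coded.expandO opsQ p gs
  | [] => rfl
  | g :: gs => by
    show (List.range p).flatMap (fun k => forceNs ((spanC p gs).map fun e => mulM (Coded.powO opsQ g k) e)) = _
    simp only [forceNs_eq, spanC_eq p gs]
    rfl

/-- The listed places separate the entries. -/
noncomputable def sepB : List ℕ → List ℕ → Bool
  | _, [] => true
  | _, [_] => true
  | [], _ => false
  | i :: B, l => sepB B (forceNs (l.filter fun x => Nat.testBit x i)) &&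
      sepB B (forceNs (l.filter fun x => !Nat.testBit x i))

theorem sepB_nodup : ∀ (B l : List ℕ), sepB B l = true → l.Nodup := by
  intro B
  induction B with
  | nil =>
    intro l h
    match l with
    | [] => simp
    | [_] => simp
    | _ :: _ :: _ => simp [sepB] at h
  | cons i B ih =>
    intro l h
    match l with
    | [] => simp
    | [_] => simp
    | a :: b :: r =>
      simp only [sepB, forceNs_eq, Bool.and_eq_true] at h
      have h1 := ih _ h.1
      have h2 := ih _ h.2
      refine List.nodup_iff_count_le_one.2 fun x => ?_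
      cases hx : Nat.testBit x i
      · rw [← List.count_filter (p := fun x => !Nat.testBit x i)
          (show (!Nat.testBit x i) = true by rw [hx]; rfl)]
        exact List.nodup_iff_count_le_one.1 h2 x
      · rw [← List.count_filter (p := fun x => Nat.testBit x i) hx]
        exact List.nodup_iff_count_le_one.1 h1 x

/-- The products are different and there are at least `m` of them. -/
noncomputable def freeB (p : ℕ) (gens bits : List ℕ) (m : ℕ) : Bool :=
  let E := spanC p gens
  Nat.ble m E.length && sepB bits E

/-- The relations at one prime and the programs reaching the elements. -/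
noncomputable def primeB (c : Cert) (gens hs : List ℕ) (stp : List (ℕ × Bool × ℕ × ℕ)) : Bool :=
  Coded.relsB opsQ [oneM] gens c hs &&
    Bsgs.slpCheck opsQ G2FourJ2.Data.bigGens stp &&
    ((gens ++ hs).all fun g => (G2FourJ2.Data.bigGens ++ stp.map (·.1)).contains g)

theorem two_cert : twoGFourCert.checkB = true := by decide +kernel

theorem three_cert : threeGFourCert.checkB = true := by decide +kernel

theorem five_cert : fiveGFourCert.checkB = true := by decide +kernel

theorem two_data : primeB twoGFourCert twoGFourGens twoGFourHs twoGFourSlp = true := by decide +kernel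

theorem three_data : primeB threeGFourCert threeGFourGens threeGFourHs threeGFourSlp = true := by
  decide +kernel

theorem five_data : primeB fiveGFourCert fiveGFourGens fiveGFourHs fiveGFourSlp = true := by
  decide +kernel

theorem two_free : freeB 2 twoGFourGens twoGFourBits 4096 = true := by decide +kernel

theorem three_free : freeB 3 threeGFourGens threeGFourBits 27 = true := by decide +kernel

theorem five_free : freeB 5 fiveGFourGens fiveGFourBits 25 = true := by decide +kernel

theorem sizes : (twoGFourCert.p = 2 ∧ twoGFourCert.q = 4 ∧ twoGFourCert.n = 12) ∧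
    (threeGFourCert.p = 3 ∧ threeGFourCert.q = 3 ∧ threeGFourCert.tau = [] ∧ threeGFourCert.n = 3) ∧
    (fiveGFourCert.p = 5 ∧ fiveGFourCert.q = 5 ∧ fiveGFourCert.tau = [] ∧ fiveGFourCert.n = 2) := by
  refine ⟨⟨?_, ?_, ?_⟩, ⟨?_, ?_, ?_, ?_⟩, ⟨?_, ?_, ?_, ?_⟩⟩ <;> decide +kernel

end CfsgLib.Schur.Tails.G2Four
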