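import Cfsg.Agent.Lib.Tails.G2FourLift
import Cfsg.Agent.Lib.Tails.G2FourBound
import Cfsg.Agent.Lib.Tails.Combine
import Cfsg.Agent.Lib.Chev.Orders
import Cfsg.Agent.Lib.Chev.Perfect
import Cfsg.Agent.S1077
import Cfsg.Agent.S1078

/-!
# A perfect double cover of the group of type G two over four elements
-/

set_option autoImplicit false
set_option maxRecDepth 100000

namespace CfsgLib.Schur.Tails.Twelve

open CfsgLib CfsgLib.Golay CfsgLib.TailsData CfsgLib.He Cfsg.Lie Subgroup
open CfsgLib.Schur.Tails.G2Four (F4 GQ)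
open scoped commutatorElement

attribute [local irreducible] twelveRoots twelveInvs twelveOne twelveNeg mulL smallL

/-- The field parameters. -/
noncomputable abbrev KF : J3.Fld F4 := He.fieldK

/-- The group of the lifts. -/
abbrev G12 : Type := GL (Fin 12) (ZMod 3)

theorem xC_spec {r : ℕ} (hr : r < 12) (a : Fin 4) : smallL (xC r a) = true ∧ smallL (vC r a) = true ∧
    toMatL (xC r a) * toMatL (vC r a) = 1 ∧ toMatL (vC r a) * toMatL (xC r a) = 1 := by
  have h := List.all_eq_true.1 (List.all_eq_true.1 unit_all r (List.mem_range.2 hr)) a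
    (by revert a; decide)
  simp only [Bool.and_eq_true, Nat.beq_eq] at h
  obtain ⟨⟨⟨h1, h2⟩, h3⟩, h4⟩ := h
  exact ⟨h1, h2, by rw [← toMatL_mulL h1 h2, h3, toMatL_one],
    by rw [← toMatL_mulL h2 h1, h4, toMatL_one]⟩

/-- The lift of a root element. -/
noncomputable def lift12 (r : ℕ) (a : Fin 4) : G12 :=
  if hr : r < 12 then
    ⟨toMatL (xC r a), toMatL (vC r a), (xC_spec hr a).2.2.1, (xC_spec hr a).2.2.2⟩
  else 1

theorem lift12_val {r : ℕ} (hr : r < 12) (a : Fin 4) :
    (lift12 r a : Matrix (Fin 12) (Fin 12) (ZMod 3)) = toMatL (xC r a) ∧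
      (((lift12 r a)⁻¹ : G12) : Matrix (Fin 12) (Fin 12) (ZMod 3)) = toMatL (vC r a) := by
  rw [lift12, dif_pos hr]
  exact ⟨rfl, rfl⟩

/-- The signs. -/
def signGrp : Subgroup G12 := Subgroup.zpowers (-1)

theorem sign_le_center : signGrp ≤ Subgroup.center G12 :=
  Subgroup.zpowers_le.2 (Subgroup.mem_center_iff.2 fun g => by rw [mul_neg, neg_mul, mul_one, one_mul])

instance sign_normal : signGrp.Normal :=
  ⟨fun a ha g => by rwa [Subgroup.mem_center_iff.1 (sign_le_center ha) g, mul_inv_cancel_right]⟩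

/-- The projection. -/
noncomputable abbrev toQ : G12 →* G12 ⧸ signGrp := QuotientGroup.mk' signGrp

theorem toQ_of_sameS {a b : ℕ} (hb : smallL b = true) {g h : G12}
    (hg : (g : Matrix (Fin 12) (Fin 12) (ZMod 3)) = toMatL a)
    (hh : (h : Matrix (Fin 12) (Fin 12) (ZMod 3)) = toMatL b) (hs : sameS a b = true) : toQ g = toQ h := by
  simp only [sameS, Bool.or_eq_true, Nat.beq_eq] at hs
  rcases hs with e | e
  · rw [Units.ext (hg.trans ((congrArg toMatL e).trans hh.symm))]
  · have hgh : g = -1 * h := Units.ext (by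
      rw [Units.val_mul, Units.val_neg, Units.val_one, hg, hh, e, toMatL_mulL units_small.2.1 hb,
        toMatL_neg])
    rw [hgh, map_mul, show toQ (-1) = 1 from
      (QuotientGroup.eq_one_iff (N := signGrp) _).2 (Subgroup.mem_zpowers _), one_mul]

theorem prodW_spec : ∀ {L : List (ℕ × Fin 4)}, (∀ p ∈ L, p.1 < 12) →
    smallL (prodW L) = true ∧
      ((L.map fun p => lift12 p.1 p.2).prod : Matrix (Fin 12) (Fin 12) (ZMod 3)) = toMatL (prodW L)
  | [], _ => ⟨units_small.1, by simp [prodW, toMatL_one]⟩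
  | p :: L, h => by
    obtain ⟨h1, h2⟩ := prodW_spec fun q hq => h q (List.mem_cons_of_mem _ hq)
    have hp := h p List.mem_cons_self
    have hx := (xC_spec hp p.2).1
    refine ⟨(mulL_spec hx h1).1, ?_⟩
    rw [List.map_cons, List.prod_cons, Units.val_mul, h2, (lift12_val hp p.2).1, prodW,
      toMatL_mulL hx h1]

section Hom

/-- The code of a field element. -/
noncomputable def codeF (x : F4) : Fin 4 := (cv_surj KF x).choose

theorem cv_codeF (x : F4) : cv KF (codeF x) = x := (cv_surj KF x).choose_spec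

theorem codeF_cv (a : Fin 4) : codeF (cv KF a) = a := cv_inj KF (cv_codeF _)

/-- The images of the Steinberg generators. -/
noncomputable def imgQ (p : Fin chevG2.nroots × F4) : G12 ⧸ signGrp := toQ (lift12 p.1.val (codeF p.2))

theorem lift_stX {r : ℕ} (hr : r < 12) (a : Fin 4) :
    FreeGroup.lift imgQ (chevG2.stX r (cv KF a)) = toQ (lift12 r a) := by
  rw [ChevalleyDatum.stX, dif_pos (show r < chevG2.nroots from hr), FreeGroup.lift_apply_of, imgQ,
    codeF_cv]

theorem lift_stWord : ∀ L : List (ℕ × Fin 4), (∀ p ∈ L, p.1 < 12) →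
    FreeGroup.lift imgQ (chevG2.stWord (L.map fun p => (p.1, cv KF p.2))) =
      toQ ((L.map fun p => lift12 p.1 p.2).prod)
  | [], _ => by simp [ChevalleyDatum.stWord]
  | p :: L, h => by
    have ih := lift_stWord L fun q hq => h q (List.mem_cons_of_mem _ hq)
    simp only [ChevalleyDatum.stWord, List.map_cons, List.prod_cons, map_mul] at ih ⊢
    rw [ih, lift_stX (h p List.mem_cons_self)]

theorem neg_self_F4 (x : F4) : -x = x := by linear_combination -x * KF.two

theorem cv_intC (n : ℤ) : ((n : ℤ) : F4) = cv KF (intC n) := by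
  have h2 : ((2 : ℤ) : F4) = 0 := by exact_mod_cast KF.two
  conv_lhs => rw [← Int.emod_add_mul_ediv n 2, Int.cast_add, Int.cast_mul, h2, zero_mul, add_zero]
  rcases Int.emod_two_eq n with h | h <;> rw [h, intC, h]
  · simp [cv_zero]
  · simp [cv_one]

theorem cv_powC (a : Fin 4) : ∀ n, cv KF (powC a n) = cv KF a ^ n
  | 0 => by rw [powC, cv_one, pow_zero]
  | n + 1 => by rw [powC, cv_mul, cv_powC a n, pow_succ]

theorem comm_eq (r s : ℕ) (a b : Fin 4) :
    chevG2.commWord F4 r s (cv KF a) (cv KF b) = (commW r s a b).map fun p => (p.1, cv KF p.2) := by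
  rw [ChevalleyDatum.commWord, commW, List.map_map]
  refine List.map_congr_left fun c _ => ?_
  simp only [Function.comp_apply, cv_mul, cv_powC, neg_self_F4, cv_intC]

theorem cv_inv_eq {a : Fin 4} (ha : a ≠ 0) : (cv KF a)⁻¹ = cv KF (cMul a a) := by
  refine inv_eq_of_mul_eq_one_right ?_
  rw [← cv_mul, show cMul a (cMul a a) = 1 by revert a; decide, cv_one]

theorem h_eq (r : ℕ) {a : Fin 4} (ha : a ≠ 0) :
    chevG2.hWord r (cv KF a) = (hW r a).map fun p => (p.1, cv KF p.2) := by
  simp [ChevalleyDatum.hWord, ChevalleyDatum.nWord, hW, cv_inv_eq ha, neg_self_F4, cv_one]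

theorem neg_lt {r : ℕ} (hr : r < 12) : chevG2.neg r < 12 := by
  have h := List.all_eq_true.1 words_lt r (List.mem_range.2 hr)
  simp only [Bool.and_eq_true, Nat.blt_eq] at h
  exact h.1

theorem commW_lt {r s : ℕ} (hr : r < 12) (hs : s < 12) (a b : Fin 4) :
    ∀ p ∈ commW r s a b, p.1 < 12 := by
  intro p hp
  obtain ⟨c, hc, rfl⟩ := List.mem_map.1 hp
  have h := List.all_eq_true.1 words_lt r (List.mem_range.2 hr)
  simp only [Bool.and_eq_true, List.all_eq_true, Nat.blt_eq, List.mem_range] at h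
  exact h.2 s hs c hc

theorem hW_lt {r : ℕ} (hr : r < 12) (a : Fin 4) : ∀ p ∈ hW r a, p.1 < 12 := by
  intro p hp
  simp only [hW, List.mem_cons, List.not_mem_nil, or_false] at hp
  rcases hp with rfl | rfl | rfl | rfl | rfl | rfl <;> first | exact hr | exact neg_lt hr

theorem codesF_mem (a : Fin 4) : a ∈ codesF := by revert a; decide

theorem codesU_mem {a : Fin 4} (h : a ≠ 0) : a ∈ codesU := by revert a; decide

theorem rels : ∀ g ∈ chevG2.steinbergRels F4, FreeGroup.lift imgQ g = 1 := by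
  have hn : chevG2.nroots = 12 := rfl
  rintro g ((⟨r, t, u, hr, rfl⟩ | ⟨r, s, t, u, hr, hs, h1, h2, rfl⟩) | ⟨r, t, u, hr, ht, hu, rfl⟩)
  · rw [hn] at hr
    obtain ⟨a, rfl⟩ := cv_surj KF t
    obtain ⟨b, rfl⟩ := cv_surj KF u
    have h := List.all_eq_true.1 (List.all_eq_true.1
      (List.all_eq_true.1 add_all r (List.mem_range.2 hr)) a (codesF_mem a)) b (codesF_mem b)
    rw [← cv_add, map_mul, map_mul, map_inv, lift_stX hr, lift_stX hr, lift_stX hr, mul_inv_eq_one,
      ← map_mul]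
    exact toQ_of_sameS (xC_spec hr _).1
      (by rw [Units.val_mul, (lift12_val hr a).1, (lift12_val hr b).1,
        toMatL_mulL (xC_spec hr a).1 (xC_spec hr b).1])
      (lift12_val hr _).1 h
  · rw [hn] at hr hs
    obtain ⟨a, rfl⟩ := cv_surj KF t
    obtain ⟨b, rfl⟩ := cv_surj KF u
    have h := List.all_eq_true.1 comm_all r (List.mem_range.2 hr)
    simp only [commOkS, List.all_eq_true, List.mem_range, Bool.or_eq_true, Nat.beq_eq] at h
    have h' : sameS (mulL (vC s b) (mulL (vC r a) (mulL (xC s b) (xC r a)))) (prodW (commW r s a b)) = true :=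
      (h s hs).resolve_left (fun e => e.elim h1 h2) a (codesF_mem a) b (codesF_mem b)
    rw [comm_eq, map_mul, map_mul, map_mul, map_mul, map_inv, map_inv, map_inv,
      lift_stWord _ (commW_lt hr hs a b), lift_stX hs, lift_stX hr, ← map_inv, ← map_inv, ← map_mul,
      ← map_mul, ← map_mul, mul_inv_eq_one, mul_assoc, mul_assoc]
    obtain ⟨w1, w2⟩ := prodW_spec (commW_lt hr hs a b)
    have s1 := (mulL_spec (xC_spec hs b).1 (xC_spec hr a).1).1
    have s2 := (mulL_spec (xC_spec hr a).2.1 s1).1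
    refine toQ_of_sameS w1 ?_ w2 h'
    rw [Units.val_mul, Units.val_mul, Units.val_mul, (lift12_val hs b).2, (lift12_val hr a).2,
      (lift12_val hs b).1, (lift12_val hr a).1, toMatL_mulL (xC_spec hs b).2.1 s2,
      toMatL_mulL (xC_spec hr a).2.1 s1, toMatL_mulL (xC_spec hs b).1 (xC_spec hr a).1]
  · rw [hn] at hr
    obtain ⟨a, rfl⟩ := cv_surj KF t
    obtain ⟨b, rfl⟩ := cv_surj KF u
    have ha : a ≠ 0 := by rintro rfl; exact ht (cv_zero KF)
    have hb : b ≠ 0 := by rintro rfl; exact hu (cv_zero KF)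
    have hab : cMul a b ≠ 0 := by
      intro h
      refine mul_ne_zero ht hu ?_
      rw [← cv_mul, h, cv_zero]
    have h := List.all_eq_true.1 (List.all_eq_true.1
      (List.all_eq_true.1 torus_all r (List.mem_range.2 hr)) a (codesU_mem ha)) b (codesU_mem hb)
    rw [← cv_mul, ChevalleyDatum.stH, ChevalleyDatum.stH, ChevalleyDatum.stH, h_eq r ha, h_eq r hb,
      h_eq r hab, map_mul, map_mul, map_inv, lift_stWord _ (hW_lt hr a), lift_stWord _ (hW_lt hr b),
      lift_stWord _ (hW_lt hr _), mul_inv_eq_one, ← map_mul]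
    obtain ⟨a1, a2⟩ := prodW_spec (hW_lt hr a)
    obtain ⟨b1, b2⟩ := prodW_spec (hW_lt hr b)
    obtain ⟨c1, c2⟩ := prodW_spec (hW_lt hr (cMul a b))
    exact toQ_of_sameS c1 (by rw [Units.val_mul, a2, b2, toMatL_mulL a1 b1]) c2 h

/-- The homomorphism from the Steinberg group. -/
noncomputable def homQ : chevG2.SteinbergGroup F4 →* G12 ⧸ signGrp := PresentedGroup.toGroup rels

end Hom

theorem exists_steinberg : Nonempty (chevG2.SteinbergGroup F4 ≃* ↥GQ) := by
  haveI : Fintype F4 := Fintype.ofFinite _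
  obtain ⟨θ, hθ, hker, -⟩ := Cfsg.Agent.S1077.result (K := F4) chevG2 (by simp)
  rw [Cfsg.Agent.S1078.result chevG2 (by simp)] at hker
  have hinj : Function.Injective θ := (MonoidHom.ker_eq_bot_iff _).1 hker
  obtain ⟨e⟩ := G2Four.exists_equiv
  exact ⟨(MulEquiv.ofBijective θ ⟨hinj, hθ⟩).trans e⟩

theorem perfect_GQ : commutator ↥GQ = ⊤ := by
  obtain ⟨e⟩ := G2Four.exists_equiv
  have h : commutator ↥(chevG2.group F4) = ⊤ :=
    CfsgLib.Chev.perfect_of_unitPairing CfsgLib.Chev.good_G2 CfsgLib.Chev.unitPairing_G2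
      ⟨cv KF 2, cv_ne_zero KF (by decide), fun h => absurd (cv_inj KF (h.trans (cv_one KF).symm)) (by decide)⟩
  have h2 := congrArg (Subgroup.map e.toMonoidHom) h
  rwa [_root_.commutator_def, map_commutator, Subgroup.map_top_of_surjective e.toMonoidHom e.surjective,
    ← _root_.commutator_def] at h2

section Cover

variable (e : chevG2.SteinbergGroup F4 ≃* ↥GQ)

/-- The map to the matrices up to sign. -/
noncomputable def psiQ : ↥GQ →* G12 ⧸ signGrp := homQ.comp e.symm.toMonoidHom

/-- The pairs lying over each other. -/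
noncomputable def overGrp : Subgroup (G12 × ↥GQ) :=
  MonoidHom.eqLocus (toQ.comp (MonoidHom.fst G12 ↥GQ)) ((psiQ e).comp (MonoidHom.snd G12 ↥GQ))

/-- The second projection. -/
noncomputable def overMap : ↥(overGrp e) →* ↥GQ := (MonoidHom.snd G12 ↥GQ).comp (overGrp e).subtype

theorem over_surj : Function.Surjective (overMap e) := fun g => by
  obtain ⟨m, hm⟩ := QuotientGroup.mk'_surjective signGrp (psiQ e g)
  exact ⟨⟨(m, g), hm⟩, rfl⟩

theorem over_ker {x : ↥(overGrp e)} (hx : x ∈ (overMap e).ker) : x.1.1 ∈ signGrp ∧ x.1.2 = 1 := by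
  have h2 : x.1.2 = 1 := hx
  refine ⟨(QuotientGroup.eq_one_iff (N := signGrp) _).1 ?_, h2⟩
  have h : toQ x.1.1 = psiQ e x.1.2 := x.2
  rw [h2, map_one] at h
  exact h

theorem over_ker_center : (overMap e).ker ≤ center ↥(overGrp e) := fun x hx => mem_center_iff.2 fun y => by
  obtain ⟨h1, h2⟩ := over_ker e hx
  refine Subtype.ext (Prod.ext (mem_center_iff.1 (sign_le_center h1) _) ?_)
  show y.1.2 * x.1.2 = x.1.2 * y.1.2
  rw [h2, mul_one, one_mul]

theorem over_ker_card : Nat.card (overMap e).ker ∣ 2 := by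
  let f : ↥(overMap e).ker →* ↥signGrp :=
    { toFun := fun x => ⟨x.1.1.1, (over_ker e x.2).1⟩
      map_one' := rfl
      map_mul' := fun _ _ => rfl }
  have hf : Function.Injective f := fun a b h => Subtype.ext (Subtype.ext (Prod.ext
    (congrArg Subtype.val h) ((over_ker e a.2).2.trans (over_ker e b.2).2.symm)))
  refine (Subgroup.card_dvd_of_injective f hf).trans ?_
  rw [signGrp, Nat.card_zpowers]
  exact orderOf_dvd_of_pow_eq_one (by rw [neg_one_sq])

/-- The lift of a root element, paired with its image. -/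
theorem pair_mem (a : Fin 4) : (lift12 2 a, e (chevG2.stGen F4 2 (cv KF a))) ∈ overGrp e := by
  show toQ (lift12 2 a) = psiQ e (e (chevG2.stGen F4 2 (cv KF a)))
  rw [psiQ, MonoidHom.comp_apply, MulEquiv.coe_toMonoidHom, MulEquiv.symm_apply_apply,
    ← lift_stX (by norm_num) a]
  rfl

theorem stGen_comm (t u : F4) :
    chevG2.stGen F4 2 t * chevG2.stGen F4 2 u = chevG2.stGen F4 2 u * chevG2.stGen F4 2 t := by
  have key : ∀ x y : F4, chevG2.stGen F4 2 x * chevG2.stGen F4 2 y = chevG2.stGen F4 2 (x + y) := by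
    intro x y
    refine mul_inv_eq_one.1 ?_
    rw [ChevalleyDatum.stGen, ChevalleyDatum.stGen, ChevalleyDatum.stGen, ← map_inv, ← map_mul, ← map_mul]
    exact PresentedGroup.one_of_mem (Or.inl (Or.inl ⟨2, x, y, (show 2 < 12 by norm_num), rfl⟩))
  rw [key, key, add_comm]

theorem lifts_noncomm : lift12 2 1 * lift12 2 2 ≠ lift12 2 2 * lift12 2 1 := by
  intro h
  have hr : (2 : ℕ) < 12 := by norm_num
  have h' := congrArg Units.val h
  rw [Units.val_mul, Units.val_mul, (lift12_val hr 1).1, (lift12_val hr 2).1,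
    ← toMatL_mulL (xC_spec hr 1).1 (xC_spec hr 2).1, ← toMatL_mulL (xC_spec hr 2).1 (xC_spec hr 1).1] at h'
  obtain ⟨s1, -⟩ := mulL_spec (xC_spec hr 1).1 (xC_spec hr 2).1
  obtain ⟨s2, -⟩ := mulL_spec (xC_spec hr 2).1 (xC_spec hr 1).1
  have hne := witness_ok
  refine absurd ?_ (Nat.ne_of_beq_eq_false hne)
  obtain ⟨a1, a2⟩ := smallL_iff.1 s1
  obtain ⟨b1, b2⟩ := smallL_iff.1 s2
  refine ext_lanes a1 b1 fun m hm => ?_
  have := congrFun (congrFun h' ⟨m / 12, by omega⟩) ⟨m % 12, Nat.mod_lt _ (by norm_num)⟩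
  simp only [toMatL, Nat.div_add_mod] at this
  have := (ZMod.natCast_eq_natCast_iff' _ _ 3).1 this
  rwa [Nat.mod_eq_of_lt (a2 m hm), Nat.mod_eq_of_lt (b2 m hm)] at this

end Cover

theorem exists_cover : ∃ (Γ : Type) (_ : Group Γ) (_ : Finite Γ) (σ : Γ →* ↥GQ),
    Cfsg.IsStemExtension σ ∧ Nonempty (σ.ker ≃* Multiplicative (ZMod 2)) := by
  obtain ⟨e⟩ := exists_steinberg
  have hperf := derived_perfect perfect_GQ (over_surj e) (over_ker_center e)
  let D := commutator ↥(overGrp e)
  let σ : ↥D →* ↥GQ := (overMap e).comp D.subtype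
  have hst : Cfsg.IsStemExtension σ := ⟨fun g => by
      obtain ⟨y, hy, he⟩ := (commutator_mul_ker perfect_GQ (over_surj e)).ge (mem_top g)
      exact ⟨⟨y, hy⟩, he⟩,
    fun x hx => mem_center_iff.2 fun y =>
      Subtype.ext (mem_center_iff.1 (over_ker_center e (show overMap e x.1 = 1 from hx)) y.1),
    le_top.trans hperf.ge⟩
  let j : σ.ker →* (overMap e).ker :=
    { toFun := fun x => ⟨x.1.1, x.2⟩
      map_one' := rfl
      map_mul' := fun _ _ => rfl }
  have hj : Function.Injective j := fun a b h =>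
    Subtype.ext (Subtype.ext (congrArg (fun z : (overMap e).ker => z.1) h))
  have hle : Nat.card σ.ker ∣ 2 := (Subgroup.card_dvd_of_injective j hj).trans (over_ker_card e)
  have hne : σ.ker ≠ ⊥ := by
    intro hbot
    let U : ↥(overGrp e) := ⟨_, pair_mem e 1⟩
    let V : ↥(overGrp e) := ⟨_, pair_mem e 2⟩
    have hzc : ⁅U, V⁆ ∈ D := commutator_mem_commutator (mem_top U) (mem_top V)
    have hz : (⟨⁅U, V⁆, hzc⟩ : ↥D) ∈ σ.ker := by
      show overMap e ⁅U, V⁆ = 1
      rw [map_commutatorElement, commutatorElement_eq_one_iff_mul_comm]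
      show e _ * e _ = e _ * e _
      rw [← map_mul, ← map_mul, stGen_comm]
    rw [hbot, mem_bot, Subtype.ext_iff] at hz
    have hcomm : U * V = V * U := commutatorElement_eq_one_iff_mul_comm.1 hz
    exact lifts_noncomm (congrArg (fun z : ↥(overGrp e) => z.1.1) hcomm)
  have hcard : Nat.card σ.ker = 2 := ((Nat.dvd_prime Nat.prime_two).1 hle).resolve_left
    fun h => hne (Subgroup.card_eq_one.1 h)
  haveI : Fact (Nat.Prime 2) := ⟨Nat.prime_two⟩
  haveI : IsCyclic σ.ker := isCyclic_of_prime_card (p := 2) hcard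
  exact ⟨↥D, inferInstance, inferInstance, σ, hst, ⟨(zmodCyclicMulEquiv (G := σ.ker) inferInstance).symm.trans
    (AddEquiv.toMultiplicative (ZMod.ringEquivCongr hcard).toAddEquiv)⟩⟩

end CfsgLib.Schur.Tails.Twelve
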