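import Cfsg.Agent.Lib.Tails.TwelveThree
import Cfsg.Agent.Lib.He.Sp
import Cfsg.Prelude.Def_Steinberg
import Cfsg.Prelude.Def_ChevG2

/-!
# The lifted root elements satisfy the Steinberg relations up to sign
-/

set_option autoImplicit false
set_option maxRecDepth 100000

namespace CfsgLib.Schur.Tails.Twelve

open CfsgLib.Golay CfsgLib.TailsData CfsgLib.He Cfsg.Lie

/-- The code of a lifted root element. -/
def xC (r : ℕ) (a : Fin 4) : ℕ := twelveRoots.getD (4 * r + a.val) twelveOne

/-- The code of its inverse. -/
def vC (r : ℕ) (a : Fin 4) : ℕ := twelveInvs.getD (4 * r + a.val) twelveOne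

/-- The product of a word. -/
def prodW : List (ℕ × Fin 4) → ℕ
  | [] => twelveOne
  | p :: L => mulL (xC p.1 p.2) (prodW L)

/-- Agreement up to sign. -/
def sameS (a b : ℕ) : Bool := Nat.beq a b || Nat.beq a (mulL twelveNeg b)

/-- The codes of field elements. -/
def codesF : List (Fin 4) := [0, 1, 2, 3]

/-- The nonzero codes. -/
def codesU : List (Fin 4) := [1, 2, 3]

/-- The code of an integer. -/
def intC (n : ℤ) : Fin 4 := if n % 2 = 0 then 0 else 1

/-- Powers of a code. -/
def powC (a : Fin 4) : ℕ → Fin 4
  | 0 => 1
  | n + 1 => cMul (powC a n) a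

/-- The commutator word. -/
def commW (r s : ℕ) (a b : Fin 4) : List (ℕ × Fin 4) :=
  (chevG2.commTerms r s).map fun c =>
    (c.1, cMul (cMul (intC c.2.1) (powC a c.2.2.1)) (powC b c.2.2.2))

/-- The torus word. -/
def hW (r : ℕ) (a : Fin 4) : List (ℕ × Fin 4) :=
  [(r, a), (chevG2.neg r, cMul a a), (r, a), (r, 1), (chevG2.neg r, 1), (r, 1)]

/-- The lifts are invertible. -/
def unitOk (r : ℕ) : Bool := codesF.all fun a =>
  smallL (xC r a) && smallL (vC r a) && Nat.beq (mulL (xC r a) (vC r a)) twelveOne &&
    Nat.beq (mulL (vC r a) (xC r a)) twelveOne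

/-- The first family of relations. -/
def addOkS (r : ℕ) : Bool :=
  codesF.all fun a => codesF.all fun b => sameS (mulL (xC r a) (xC r b)) (xC r (cAdd a b))

/-- The second family of relations. -/
def commOkS (r : ℕ) : Bool :=
  (List.range 12).all fun s => Nat.beq s r || Nat.beq s (chevG2.neg r) ||
    codesF.all fun a => codesF.all fun b =>
      sameS (mulL (vC s b) (mulL (vC r a) (mulL (xC s b) (xC r a)))) (prodW (commW r s a b))

/-- The third family of relations. -/
def torusOkS (r : ℕ) : Bool :=
  codesU.all fun a => codesU.all fun b =>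
    sameS (mulL (prodW (hW r a)) (prodW (hW r b))) (prodW (hW r (cMul a b)))

theorem unit_all : (List.range 12).all unitOk = true := by decide +kernel

theorem add_all : (List.range 12).all addOkS = true := by decide +kernel

theorem comm_all : (List.range 12).all commOkS = true := by decide +kernel

theorem torus_all : (List.range 12).all torusOkS = true := by decide +kernel

theorem words_lt : (List.range 12).all (fun r => Nat.blt (chevG2.neg r) 12 && (List.range 12).all fun s =>
    (chevG2.commTerms r s).all fun c => Nat.blt c.1 12) = true := by decide +kernel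

theorem witness_ok : Nat.beq (mulL (xC 2 1) (xC 2 2)) (mulL (xC 2 2) (xC 2 1)) = false := by decide +kernel

end CfsgLib.Schur.Tails.Twelve
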