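import Cfsg.Agent.Lib.Tails.G2FourCover
import Cfsg.Agent.Lib.Tails.SLNine
import Cfsg.Agent.Lib.Known.G2Singer.Main

/-!
# The multiplier of the group of type G two over four elements
-/

set_option autoImplicit false

namespace CfsgLib.Schur.Tails.G2Four

open Cfsg.Lie

universe u

theorem group_equiv {F : Type u} [Field F] [Fintype F] (hF : Fintype.card F = 4) :
    Nonempty (↥(chevG2.group F4) ≃* ↥(chevG2.group F)) := by
  haveI : Fintype F4 := Fintype.ofFinite _
  let e : F4 ≃+* F := FiniteField.ringEquivOfCardEq (by rw [card_F4, hF])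
  let f : ↥(chevG2.group F4) →* ↥(chevG2.group F) :=
    ((CfsgLib.Known.G2Singer.extGL e.toRingHom).comp (chevG2.group F4).subtype).codRestrict _
      fun x => CfsgLib.Known.G2Singer.extGL_mem_group e.toRingHom x.2
  have hf : Function.Injective f := fun a b h =>
    Subtype.ext (CfsgLib.Known.G2Singer.extGL_injective e.toRingHom (congrArg Subtype.val h))
  have hc : Nat.card ↥(chevG2.group F) = 251596800 := G2FourJ2.card_group hF
  haveI : Finite ↥(chevG2.group F) := Nat.finite_of_card_ne_zero (by rw [hc]; norm_num)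
  exact ⟨MulEquiv.ofBijective f ((Nat.bijective_iff_injective_and_card f).2
    ⟨hf, by rw [G2FourJ2.card_group card_F4, hc]⟩)⟩

theorem multiplier {F : Type u} [Field F] [Fintype F] (hF : Fintype.card F = 4) :
    Cfsg.HasCyclicSchurMultiplier ↥(chevG2.group F) 2 := by
  obtain ⟨e₁⟩ := exists_equiv
  obtain ⟨e₂⟩ := group_equiv hF
  exact hasCyclic_congr (e₁.symm.trans e₂)
    (hasCyclic_of_bound Twelve.exists_cover fun _ _ _ σ hσ => bound σ hσ)

end CfsgLib.Schur.Tails.G2Four
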