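import Cfsg.Agent.Lib.Tails.G2ThreeModel
import Cfsg.Agent.Lib.Tails.Finish

/-!
# The bound on the multiplier of the group of type G two over three elements
-/

set_option autoImplicit false
set_option maxRecDepth 100000
set_option exponentiation.threshold 4000

namespace CfsgLib.Schur.Tails.G2Mat

open Cfsg.Lie CfsgLib.Golay CfsgLib.TailsData Matrix Subgroup

attribute [local irreducible] g2ThreeGenCodes twoGTwoCert threeGTwoCert twoGTwoGens threeGTwoGens
  twoGTwoHs threeGTwoHs twoGTwoSlp threeGTwoSlp twoGTwoIdx threeGTwoVec threeGTwoBits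
  PackPerm.getP PackPerm.pack

theorem forceL_eq : ∀ L : List ℕ, forceL L = L
  | [] => rfl
  | a :: L => by
    show forceG a (fun y => y :: forceL L) = _
    rw [forceG_eq, forceL_eq L]

theorem sepL_nodup : ∀ (B : List ℕ) (l : List ℕ), sepL B l = true → l.Nodup := by
  intro B
  induction B with
  | nil =>
    intro l h
    match l with
    | [] => simp
    | [_] => simp
    | _ :: _ :: _ => simp [sepL] at h
  | cons i B ih =>
    intro l h
    match l with
    | [] => simp
    | [_] => simp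
    | a :: b :: r =>
      simp only [sepL, forceL_eq, Bool.and_eq_true] at h
      have h1 := ih _ h.1
      have h2 := ih _ h.2
      refine List.nodup_iff_count_le_one.2 fun x => ?_
      cases hx : Nat.beq (Nat.land x i) 0
      · rw [← List.count_filter (p := fun x => !Nat.beq (Nat.land x i) 0)
          (show (!Nat.beq (Nat.land x i) 0) = true by rw [hx]; rfl)]
        exact List.nodup_iff_count_le_one.1 h2 x
      · rw [← List.count_filter (p := fun x => Nat.beq (Nat.land x i) 0) hx]
        exact List.nodup_iff_count_le_one.1 h1 x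

theorem le_card_of_regular {gens bits : List ℕ} {v m : ℕ} (h : regularB gens v bits m = true)
    {K : Subgroup (GL chevG2.Idx (ZMod 3))}
    (hg : ∀ g ∈ gens, opsG.ok g = true ∧ opsG.val g ∈ K) : m ≤ Nat.card K := by
  simp only [regularB, forceG_eq, Bool.and_eq_true, Nat.ble_eq] at h
  obtain ⟨⟨hv, hlen⟩, hdist⟩ := h
  have hnd := sepL_nodup _ _ hdist
  have step : ∀ g x : ℕ, opsG.ok g = true → opsG.val g ∈ K →
      (smallB 14 x = true ∧ ∃ k ∈ K,
        vec3 x = (k : Matrix chevG2.Idx chevG2.Idx (ZMod 3)) *ᵥ vec3 v) →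
      smallB 14 (apV (loG g) x) = true ∧ ∃ k ∈ K,
        vec3 (apV (loG g) x) = (k : Matrix chevG2.Idx chevG2.Idx (ZMod 3)) *ᵥ vec3 v := by
    rintro g x hok hgK ⟨hx, k, hk, e⟩
    have hA := lanes (okG_iff.1 hok).1
    have hx' := (smallB_iff.1 hx).2
    refine ⟨smallB_iff.2 ⟨apV_lt _ _, fun i hi => by
      rw [getP_apV hA hx' hi]; exact Nat.mod_lt _ (by norm_num)⟩, opsG.val g * k, mul_mem hgK hk, ?_⟩
    rw [← mat3_mulVec hA hx', e, Units.val_mul, ← mulVec_mulVec,
      show (opsG.val g : Matrix chevG2.Idx chevG2.Idx (ZMod 3)) = mat3 (loG g) from valG_val hok]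
  have spec : ∀ gs : List ℕ, (∀ g ∈ gs, opsG.ok g = true ∧ opsG.val g ∈ K) → ∀ x ∈ imgs3 gs v,
      smallB 14 x = true ∧ ∃ k ∈ K,
        vec3 x = (k : Matrix chevG2.Idx chevG2.Idx (ZMod 3)) *ᵥ vec3 v := by
    intro gs
    induction gs with
    | nil =>
      intro _ x hx
      rw [imgs3, List.mem_singleton] at hx
      subst hx
      exact ⟨hv, 1, one_mem K, by rw [Units.val_one, one_mulVec]⟩
    | cons g gs ih =>
      intro hgs x hx
      have ih := ih fun y hy => hgs y (List.mem_cons_of_mem _ hy)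
      obtain ⟨hok, hgK⟩ := hgs g List.mem_cons_self
      simp only [imgs3, forceL_eq, List.mem_append, List.mem_map] at hx
      rcases hx with (hx | ⟨y, hy, rfl⟩) | ⟨_, ⟨y, hy, rfl⟩, rfl⟩
      · exact ih x hx
      · exact step g y hok hgK (ih y hy)
      · exact step g _ hok hgK (step g y hok hgK (ih y hy))
  choose hs k hk he using fun i : Fin (imgs3 gens v).length =>
    spec gens hg _ (List.getElem_mem i.isLt)
  refine hlen.trans ?_
  rw [← Nat.card_fin (imgs3 gens v).length]
  refine Nat.card_le_card_of_injective (fun i => (⟨k i, hk i⟩ : K)) fun i j e => ?_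
  have e' : k i = k j := congrArg Subtype.val e
  exact Fin.ext (hnd.getElem_inj_iff.1 (vec3_inj (hs i) (hs j) (by rw [he i, he j, e'])))

theorem realised {c : Cert} {gens hs : List ℕ} {stp : List (ℕ × Bool × ℕ × ℕ)} (hc : c.checkB = true)
    (h : primeB c gens hs stp = true)
    (hsize : ∀ K : Subgroup (GL chevG2.Idx (ZMod 3)),
      (∀ g ∈ gens, opsG.ok g = true ∧ opsG.val g ∈ K) → c.p ^ c.n ≤ Nat.card K)
    (hdiv : ¬ c.p ^ (c.n + 1) ∣ Nat.card ↥GZ) : c.Realised ↥GZ := by
  simp only [primeB, Bool.and_eq_true, List.all_eq_true, List.contains_iff_mem] at h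
  obtain ⟨⟨hr, hslp⟩, hall⟩ := h
  have hb : ∀ b ∈ g2ThreeGenCodes, opsG.ok b = true ∧ opsG.val b ∈ GZ := fun b hb =>
    ⟨genCodes_ok b hb, genG_eq ▸ subset_closure ⟨b, hb, rfl⟩⟩
  have hmem : ∀ g ∈ gens ++ hs, opsG.ok g = true ∧ opsG.val g ∈ GZ :=
    fun g hg => Bsgs.slp_sound opsG _ hslp hb g (hall g hg)
  refine Coded.realised (O := opsG) (H := GZ) (MonoidHom.id ↥GZ) hc
    (fun g hg => (hmem g (List.mem_append_left _ hg)).2)
    (fun g hg => (hmem g (List.mem_append_right _ hg)).2) (fun z hz => ?_) hr (fun g hg => ?_) hdiv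
  · rw [List.mem_singleton.1 hz]
    exact ⟨by rw [opsG.val_one]; exact one_mem _, Subtype.ext opsG.val_one⟩
  · show c.p ^ c.n ≤ Nat.card (Subgroup.closure (g '' {k | k < c.n}))
    rw [← Subgroup.card_map_of_injective GZ.subtype_injective]
    refine hsize _ fun x hx => ?_
    obtain ⟨i, hi, rfl⟩ := List.getElem_of_mem hx
    refine ⟨(hmem _ (List.mem_append_left _ (List.getElem_mem hi))).1, g i, ?_, ?_⟩
    · have hlen : gens.length = c.n := by
        simp only [Coded.relsB, Bool.and_eq_true, decide_eq_true_eq] at hr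
        exact hr.1.1.1.2
      exact Subgroup.subset_closure ⟨i, show i < c.n by omega, rfl⟩
    · show (g i : GL chevG2.Idx (ZMod 3)) = _
      rw [hg i hi, List.getD_eq_getElem _ _ hi]

theorem bound {Γ : Type} [Group Γ] [Finite Γ] (σ : Γ →* ↥GZ) (hσ : Cfsg.IsStemExtension σ) :
    IsCyclic σ.ker ∧ Nat.card σ.ker ∣ 3 := by
  have := GZ_finite
  obtain ⟨⟨a2, b2, t2, n2⟩, a3, b3, n3⟩ := sizes
  have hne : ∀ p : ℕ, p.Prime → p ≠ 3 → ¬ p ∣ Nat.card σ.ker := by
    intro p hp hp3
    have := Fact.mk hp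
    by_cases hsq : p ^ 2 ∣ Nat.card ↥GZ
    · obtain rfl : p = 2 := by
        by_contra hcon
        rw [card_GZ, show (4245696 : ℕ) = (2 ^ 6 * 3 ^ 6) * (7 * 13) by norm_num] at hsq
        have hco : Nat.Coprime (p ^ 2) (2 ^ 6 * 3 ^ 6) := Nat.Coprime.mul_right
          (Nat.Coprime.pow 2 6 ((Nat.coprime_primes hp Nat.prime_two).2 hcon))
          (Nat.Coprime.pow 2 6 ((Nat.coprime_primes hp Nat.prime_three).2 hp3))
        have hsf : Squarefree (7 * 13) := by
          rw [Nat.squarefree_mul (by norm_num)]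
          exact ⟨(by norm_num : Nat.Prime 7).squarefree, (by norm_num : Nat.Prime 13).squarefree⟩
        exact hp.not_isUnit (hsf p (by rw [← pow_two]; exact hco.dvd_of_dvd_mul_left hsq))
      have : Fact twoGTwoCert.p.Prime := ⟨a2 ▸ hp⟩
      exact (realised two_cert two_data (fun K hK => by
        rw [a2, n2]; exact Coded.le_card_of_manyB mulG_one_inj two_many hK)
        (by rw [a2, n2, card_GZ]; decide)).not_dvd a2 b2 t2 hσ
    · exact not_dvd_of_sq hσ hsq
  have h9 : ¬ 3 ^ 2 ∣ Nat.card σ.ker := by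
    have : Fact (Nat.Prime 3) := ⟨Nat.prime_three⟩
    have : Fact threeGTwoCert.p.Prime := ⟨a3 ▸ Nat.prime_three⟩
    exact (realised three_cert three_data (fun K hK => by
      rw [a3, n3]; exact le_card_of_regular three_many hK)
      (by rw [a3, n3, card_GZ]; decide)).sq_not_dvd a3 b3 hσ
  have hdvd : Nat.card σ.ker ∣ 3 := by
    rw [Nat.dvd_iff_prime_pow_dvd_dvd]
    intro p k hp hpk
    rcases Nat.eq_zero_or_pos k with rfl | hk
    · simp
    obtain rfl : p = 3 := by
      by_contra hne3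
      exact hne p hp hne3 ((dvd_pow_self p hk.ne').trans hpk)
    have : k ≤ 1 := by
      by_contra hcon
      exact h9 ((pow_dvd_pow 3 (by omega)).trans hpk)
    exact (pow_dvd_pow 3 this).trans (by norm_num)
  refine ⟨?_, hdvd⟩
  rcases (Nat.dvd_prime Nat.prime_three).1 hdvd with h | h
  · have : Subsingleton σ.ker := (Nat.card_eq_one_iff_unique.1 h).1
    infer_instance
  · have : Fact (Nat.Prime 3) := ⟨Nat.prime_three⟩
    exact isCyclic_of_prime_card (p := 3) h

end CfsgLib.Schur.Tails.G2Mat
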