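import Cfsg.Agent.Lib.Tails.G2ThreeMat
import Cfsg.Agent.Lib.Tails.G2ThreeData

/-!
# Checks of the certificates for the group of type G two over three elements
-/

set_option autoImplicit false
set_option maxRecDepth 100000
set_option exponentiation.threshold 4000

namespace CfsgLib.Schur.Tails.G2Mat

open Cfsg.Lie CfsgLib.Golay CfsgLib.TailsData
open CfsgLib.Chev.TwG2.Three (eT)

/-- The code of a word in the four generators. -/
noncomputable def wordG (w : List ℕ) : ℕ := Coded.evO opsG g2ThreeGenCodes w

/-- The word of a root gives its root element. -/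
noncomputable def rootB (r : Fin chevG2.nroots) : Bool :=
  (g2ThreeRootWords.getD r.val []).all (fun k => Nat.blt k 4) &&
    forceG (loG (wordG (g2ThreeRootWords.getD r.val []))) fun A =>
      (List.finRange 14).all fun i => (List.finRange 14).all fun j =>
        decide (chevG2.xMat (ZMod 3) r 1 (eT i) (eT j) =
          (PackPerm.getP A (14 * j.val + i.val) : ZMod 3))

/-- The roots of the four generators. -/
def genRoot (k : ℕ) : ℕ := [7, 4, 6, 5].getD k 0

theorem gen_checks : g2ThreeGenCodes.all okG = true ∧ g2ThreeGenCodes.length = 4 ∧
    (List.finRange chevG2.nroots).all rootB = true ∧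
    (List.range 4).all (fun k => g2ThreeRootWords.getD (genRoot k) [] == [k]) = true := by
  refine ⟨?_, ?_, ?_, ?_⟩ <;> decide +kernel

/-- The data at one prime; the program starts from the four generators. -/
noncomputable def primeB (c : Cert) (gens hs : List ℕ) (stp : List (ℕ × Bool × ℕ × ℕ)) : Bool :=
  Coded.relsB opsG [opsG.one] gens c hs && Bsgs.slpCheck opsG g2ThreeGenCodes stp &&
    ((gens ++ hs).all fun g => (g2ThreeGenCodes ++ stp.map (·.1)).contains g)

/-- Evaluate the entries of a list before use. -/
noncomputable def forceL (L : List ℕ) : List ℕ :=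
  List.rec (motive := fun _ => List ℕ) [] (fun x _ ih => forceG x fun y => y :: ih) L

/-- The images of a vector under the products of the generators, each taken at most twice. -/
noncomputable def imgs3 : List ℕ → ℕ → List ℕ
  | [], v => [v]
  | g :: gs, v =>
    let r := imgs3 gs v
    let a := forceL (r.map fun x => apV (loG g) x)
    r ++ a ++ forceL (a.map fun x => apV (loG g) x)

/-- The bits separate the entries. -/
noncomputable def sepL : List ℕ → List ℕ → Bool
  | _, [] => true
  | _, [_] => true
  | [], _ => false
  | i :: B, l => sepL B (forceL (l.filter fun x => Nat.beq (Nat.land x i) 0)) &&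
      sepL B (forceL (l.filter fun x => !Nat.beq (Nat.land x i) 0))

/-- The images are different, so many elements are generated. -/
noncomputable def regularB (gens : List ℕ) (v : ℕ) (bits : List ℕ) (m : ℕ) : Bool :=
  forceG v fun v =>
    let E := imgs3 gens v
    smallB 14 v && Nat.ble m E.length && sepL bits E

theorem two_cert : twoGTwoCert.checkB = true := by decide +kernel

theorem three_cert : threeGTwoCert.checkB = true := by decide +kernel

theorem two_data : primeB twoGTwoCert twoGTwoGens twoGTwoHs twoGTwoSlp = true := by decide +kernel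

theorem three_data : primeB threeGTwoCert threeGTwoGens threeGTwoHs threeGTwoSlp = true := by
  decide +kernel

theorem two_many : Coded.manyB opsG 2 twoGTwoGens twoGTwoIdx 64 = true := by decide +kernel

theorem three_many : regularB threeGTwoGens threeGTwoVec threeGTwoBits 729 = true := by decide +kernel

theorem sizes : (twoGTwoCert.p = 2 ∧ twoGTwoCert.q = 2 ∧ twoGTwoCert.tau = [] ∧ twoGTwoCert.n = 6) ∧
    (threeGTwoCert.p = 3 ∧ threeGTwoCert.q = 9 ∧ threeGTwoCert.n = 6) := by
  refine ⟨⟨?_, ?_, ?_, ?_⟩, ⟨?_, ?_, ?_⟩⟩ <;> decide +kernel

end CfsgLib.Schur.Tails.G2Mat
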