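import Cfsg.Agent.Lib.Tails.G2ThreeChecks
import Cfsg.Agent.Lib.Known.G2Singer.Main
import Cfsg.Agent.Lib.Chev.Orders
import Cfsg.Agent.Lib.Chev.Perfect

/-!
# The group of type G two over three elements generated by four coded matrices
-/

set_option autoImplicit false
set_option maxRecDepth 100000
set_option exponentiation.threshold 4000

namespace CfsgLib.Schur.Tails.G2Mat

open Cfsg.Lie CfsgLib.Chev CfsgLib.Golay CfsgLib.TailsData Matrix Subgroup
open CfsgLib.Chev.TwG2.Three (eT)

attribute [local irreducible] g2ThreeGenCodes g2ThreeRootWords PackPerm.getP PackPerm.pack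

/-- The group. -/
noncomputable abbrev GZ : Subgroup (GL chevG2.Idx (ZMod 3)) := chevG2.group (ZMod 3)

/-- The group of the four coded matrices. -/
noncomputable def genG : Subgroup (GL chevG2.Idx (ZMod 3)) :=
  closure {g | ∃ c ∈ g2ThreeGenCodes, valG c = g}

theorem genCodes_ok : ∀ c ∈ g2ThreeGenCodes, opsG.ok c = true :=
  fun c hc => List.all_eq_true.1 gen_checks.1 c hc

theorem wordG_spec {w : List ℕ} (hw : ∀ k ∈ w, k < 4) :
    okG (wordG w) = true ∧ valG (wordG w) = evW (fun k => valG (g2ThreeGenCodes.getD k oneUG)) w ∧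
      valG (wordG w) ∈ genG := by
  obtain ⟨h1, h2⟩ := Coded.evO_spec genCodes_ok w
  refine ⟨h1, h2, ?_⟩
  show opsG.val (Coded.evO opsG g2ThreeGenCodes w) ∈ genG
  rw [h2, evW]
  refine list_prod_mem fun g hg => ?_
  obtain ⟨k, hk, rfl⟩ := List.mem_map.1 hg
  have hk' : k < g2ThreeGenCodes.length := gen_checks.2.1.symm ▸ hw k hk
  rw [List.getD_eq_getElem _ _ hk']
  exact subset_closure ⟨_, List.getElem_mem hk', rfl⟩

theorem root_spec {r : ℕ} (hr : r < chevG2.nroots) :
    (∀ k ∈ g2ThreeRootWords.getD r [], k < 4) ∧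
      valG (wordG (g2ThreeRootWords.getD r [])) = xU chevG2 r (1 : ZMod 3) := by
  have h := List.all_eq_true.1 gen_checks.2.2.1 ⟨r, hr⟩ (List.mem_finRange _)
  simp only [rootB, forceG_eq, Bool.and_eq_true, List.all_eq_true, Nat.blt_eq, List.mem_finRange,
    forall_const, decide_eq_true_eq] at h
  obtain ⟨h1, h2⟩ := h
  refine ⟨h1, Units.ext ?_⟩
  rw [valG_val (wordG_spec h1).1, DataG2.facts.xU_val hr, ChevalleyDatum.x, dif_pos hr]
  funext x y
  rw [mat3]
  have e := h2 (eT.symm x) (eT.symm y)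
  simp only [Equiv.apply_symm_apply] at e
  exact e.symm

theorem gen_val {k : ℕ} (hk : k < 4) :
    valG (g2ThreeGenCodes.getD k oneUG) = xU chevG2 (genRoot k) (1 : ZMod 3) := by
  have hr : genRoot k < chevG2.nroots := by interval_cases k <;> decide +kernel
  have e : g2ThreeRootWords.getD (genRoot k) [] = [k] := by
    simpa using List.all_eq_true.1 gen_checks.2.2.2 k (List.mem_range.2 hk)
  obtain ⟨h1, h2⟩ := root_spec hr
  rw [e] at h1 h2
  rw [← h2, (wordG_spec h1).2.1]
  simp [evW]

theorem genG_eq : genG = GZ := by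
  rw [GZ, DataG2.facts.group_eq]
  refine le_antisymm ((closure_le _).2 ?_) ((closure_le _).2 ?_)
  · rintro _ ⟨c, hc, rfl⟩
    obtain ⟨k, hk, rfl⟩ := List.getElem_of_mem hc
    have hk4 : k < 4 := gen_checks.2.1 ▸ hk
    rw [← List.getD_eq_getElem g2ThreeGenCodes oneUG hk, gen_val hk4]
    exact xU_mem_rootClosure (by interval_cases k <;> decide +kernel) trivial _
  · rintro _ ⟨r, t, hr, -, rfl⟩
    obtain ⟨h1, h2⟩ := root_spec hr
    have hx : xU chevG2 r (1 : ZMod 3) ∈ genG := h2 ▸ (wordG_spec h1).2.2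
    have hn : ∀ n : ℕ, xU chevG2 r (n : ZMod 3) ∈ genG := by
      intro n
      induction n with
      | zero => rw [Nat.cast_zero, DataG2.facts.xU_zero hr]; exact one_mem _
      | succ n ih => rw [Nat.cast_succ, ← DataG2.facts.xU_add hr]; exact mul_mem ih hx
    have := hn t.val
    rwa [ZMod.natCast_zmod_val] at this

theorem card_GZ : Nat.card ↥GZ = 4245696 := by
  have h := CfsgLib.Chev.order_G2 (F := ZMod 3)
  rw [one_mul, Nat.card_zmod] at h
  rw [h]
  norm_num

theorem GZ_finite : Finite ↥GZ := Nat.finite_of_card_ne_zero (by rw [card_GZ]; norm_num)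

theorem perfect_GZ : commutator ↥GZ = ⊤ :=
  CfsgLib.Chev.perfect_of_unitPairing CfsgLib.Chev.good_G2 CfsgLib.Chev.unitPairing_G2
    ⟨2, by decide, by decide⟩

universe u

theorem group_equiv {F : Type u} [Field F] [Fintype F] (hF : Fintype.card F = 3) :
    Nonempty (↥GZ ≃* ↥(chevG2.group F)) := by
  let e : ZMod 3 ≃+* F := FiniteField.ringEquivOfCardEq (by rw [ZMod.card, hF])
  let f : ↥GZ →* ↥(chevG2.group F) :=
    ((CfsgLib.Known.G2Singer.extGL e.toRingHom).comp GZ.subtype).codRestrict _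
      fun x => CfsgLib.Known.G2Singer.extGL_mem_group e.toRingHom x.2
  have hf : Function.Injective f := fun a b h =>
    Subtype.ext (CfsgLib.Known.G2Singer.extGL_injective e.toRingHom (congrArg Subtype.val h))
  have hc : Nat.card ↥(chevG2.group F) = 4245696 := by
    have h := CfsgLib.Chev.order_G2 (F := F)
    rw [one_mul, show Nat.card F = 3 by rw [Nat.card_eq_fintype_card, hF]] at h
    rw [h]
    norm_num
  haveI : Finite ↥(chevG2.group F) := Nat.finite_of_card_ne_zero (by rw [hc]; norm_num)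
  exact ⟨MulEquiv.ofBijective f ((Nat.bijective_iff_injective_and_card f).2 ⟨hf, by rw [card_GZ, hc]⟩)⟩

end CfsgLib.Schur.Tails.G2Mat
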