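import Cfsg.Agent.Lib.Tails.G2ThreeCoverChecks
import Cfsg.Agent.Lib.Tails.G2ThreeModel
import Cfsg.Agent.Lib.Tails.Combine

/-!
# A perfect triple cover of the group of type G two over three elements
-/

set_option autoImplicit false
set_option maxRecDepth 100000
set_option exponentiation.threshold 4000

namespace CfsgLib.Schur.Tails.G2Mat

open Cfsg.Lie CfsgLib.Golay CfsgLib.TailsData Matrix Subgroup
open scoped commutatorElement
open CfsgLib.Chev.TwG2.Three (eT)

attribute [local irreducible] g2ThreeGenCodes g2ThreeRootWords g2ThreePts g2ThreeActs g2ThreeInvs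
  g2ThreePhases g2ThreeMasks g2ThreeOnes g2ThreeTwos g2ThreeNbs g2ThreePar g2ThreeDep g2ThreeU g2ThreeV
  PackPerm.getP PackPerm.pack getW

/-- Pairs of a matrix and a permutation of the lines with phases. -/
abbrev Amb : Type := GL chevG2.Idx (ZMod 3) × Equiv.Perm (Fin 378 × ZMod 3)

/-- A listed point map. -/
noncomputable def actF (A : ℕ) (x : Fin 378) : Fin 378 :=
  if h : getW A x.val < 378 then ⟨getW A x.val, h⟩ else x

/-- The phases of a generator. -/
noncomputable def phF (k : ℕ) (x : Fin 378) : ZMod 3 := (getW (g2ThreePhases.getD k 0) x.val : ZMod 3)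

/-- The lift of a generator. -/
noncomputable def liftG (k : ℕ) : Amb :=
  (valG (g2ThreeGenCodes.getD k oneUG),
    haveI := _root_.Classical.propDecidable
      (Function.Bijective fun z : Fin 378 × ZMod 3 => (actF (g2ThreeActs.getD k 0) z.1, z.2 + phF k z.1))
    if h : Function.Bijective fun z : Fin 378 × ZMod 3 => (actF (g2ThreeActs.getD k 0) z.1, z.2 + phF k z.1)
    then Equiv.ofBijective _ h else 1)

/-- The vector of a line. -/
noncomputable def vecZ (x : Fin 378) : chevG2.Idx → ZMod 3 := vec3 (ptV x.val)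

/-- A joined pair. -/
def Adj (x y : Fin 378) : Prop := (g2ThreeMasks.getD x.val 0).testBit y.val = true

/-- The value of a joined pair as a scalar. -/
noncomputable def valZ (x y : Fin 378) : ZMod 3 :=
  (valB (g2ThreeOnes.getD x.val 0) (g2ThreeTwos.getD x.val 0) y.val : ZMod 3)

/-- The invariant of the cover. -/
def GoodG (g : Amb) : Prop :=
  ∃ (π : Fin 378 → Fin 378) (s : Fin 378 → ZMod 3),
    (∀ x k, g.2 (x, k) = (π x, k + s x)) ∧
    (∀ x, (g.1 : Matrix chevG2.Idx chevG2.Idx (ZMod 3)) *ᵥ vecZ x = vecZ (π x) ∨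
      (g.1 : Matrix chevG2.Idx chevG2.Idx (ZMod 3)) *ᵥ vecZ x = -vecZ (π x)) ∧
    ∀ x y, Adj x y → Adj (π x) (π y) ∧ valZ (π x) (π y) + s y = valZ x y + s x

theorem goodG_one : GoodG 1 :=
  ⟨id, 0, fun x k => by simp, fun x => Or.inl (by simp), fun x y h => ⟨h, by simp⟩⟩

theorem goodG_mul {g h : Amb} (hg : GoodG g) (hh : GoodG h) : GoodG (g * h) := by
  obtain ⟨π, s, e, m, hf⟩ := hg
  obtain ⟨π', s', e', m', hf'⟩ := hh
  refine ⟨π ∘ π', fun x => s' x + s (π' x), fun x k => ?_, fun x => ?_, fun x y hxy => ?_⟩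
  · rw [Prod.snd_mul, Equiv.Perm.mul_apply, e', e, Function.comp_apply, add_assoc]
  · rw [Prod.fst_mul, Units.val_mul, ← mulVec_mulVec, Function.comp_apply]
    rcases m' x with h1 | h1 <;> rcases m (π' x) with h2 | h2 <;> rw [h1]
    · exact Or.inl h2
    · exact Or.inr h2
    · exact Or.inr (by rw [mulVec_neg, h2])
    · exact Or.inl (by rw [mulVec_neg, h2, neg_neg])
  · obtain ⟨j1, v1⟩ := hf' x y hxy
    obtain ⟨j2, v2⟩ := hf (π' x) (π' y) j1
    refine ⟨j2, ?_⟩
    simp only [Function.comp_apply]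
    linear_combination v1 + v2

theorem pt_small (x : Fin 378) : smallB 14 (ptV x.val) = true := by
  have h := pts_checks.1
  simp only [ptsB, forceG_eq, List.all_eq_true, List.mem_range, Bool.and_eq_true] at h
  exact (h x.val x.isLt).1.1

theorem negV_small (v : ℕ) : smallB 14 (negV v) = true := by
  have h3 : ∀ i, (3 - PackPerm.getP v i) % 3 < 256 := fun i =>
    (Nat.mod_lt _ (by norm_num)).trans (by norm_num)
  refine smallB_iff.2 ⟨(pack_lt fun a ha => ?_).trans_le (le_of_eq (by simp)), fun i hi => ?_⟩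
  · obtain ⟨k, -, rfl⟩ := List.mem_map.1 ha
    exact h3 k
  · rw [negV, getP_pack_range (fun k _ => h3 k) hi]
    exact Nat.mod_lt _ (by norm_num)

theorem vec3_negV {v : ℕ} (hv : smallB 14 v = true) : vec3 (negV v) = -vec3 v := by
  funext x
  have hi := (eT.symm x).isLt
  have h3 := (smallB_iff.1 hv).2 _ hi
  rw [Pi.neg_apply, vec3, vec3, negV,
    getP_pack_range (fun i _ => (Nat.mod_lt _ (by norm_num)).trans (by norm_num)) hi,
    ZMod.natCast_mod, Nat.cast_sub (by omega)]
  rw [show ((3 : ℕ) : ZMod 3) = 0 from rfl, zero_sub]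

theorem vecZ_sep {x y : Fin 378} (h : vecZ x = vecZ y ∨ vecZ x = -vecZ y) : x = y := by
  have hp := pts_checks.1
  simp only [ptsB, forceG_eq, List.all_eq_true, List.mem_range, Bool.and_eq_true, Bool.or_eq_true,
    Nat.blt_eq, Nat.beq_eq] at hp
  have hlt : ∀ a b : ℕ, a < b → b < 378 → ptV a < ptV b := by
    intro a b hab hb
    induction b with
    | zero => omega
    | succ b ih =>
      rcases (hp b (by omega)).2 with h' | h'
      · omega
      · rcases Nat.lt_or_ge a b with h'' | h''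
        · exact (ih h'' (by omega)).trans h'
        · rw [show a = b by omega]; exact h'
  have hinj : ptV x.val = ptV y.val → x = y := fun e => by
    rcases Nat.lt_trichotomy x.val y.val with h' | h' | h'
    · exact absurd e (hlt _ _ h' y.isLt).ne
    · exact Fin.ext h'
    · exact absurd e.symm (hlt _ _ h' x.isLt).ne
  rcases h with h | h
  · exact hinj (vec3_inj (pt_small x) (pt_small y) h)
  · have h' : vecZ y = -vecZ x := by rw [h, neg_neg]
    rw [vecZ, vecZ, ← vec3_negV (pt_small y)] at h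
    rw [vecZ, vecZ, ← vec3_negV (pt_small x)] at h'
    have e1 := vec3_inj (pt_small x) (negV_small _) h
    have e2 := vec3_inj (pt_small y) (negV_small _) h'
    have l1 := (hp x.val x.isLt).1.2
    have l2 := (hp y.val y.isLt).1.2
    omega

theorem adj_mem {x y : Fin 378} (h : Adj x y) : y.val ∈ g2ThreeNbs.getD x.val [] := by
  have hm := pts_checks.2.1
  simp only [maskOkB, List.all_eq_true, List.mem_range, Nat.beq_eq] at hm
  rw [Adj, ← hm x.val x.isLt] at h
  exact PackPerm.testBit_hits h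

theorem goodG_lift {k : ℕ} (hk : k < 4) : GoodG (liftG k) := by
  have ha : actB k = true := by
    obtain ⟨a0, a1, a2, a3⟩ := act_checks
    interval_cases k <;> assumption
  have hp : pairsG k = true := by
    obtain ⟨a0, a1, a2, a3⟩ := pairs_checks
    interval_cases k <;> assumption
  simp only [actB, forceG_eq, List.all_eq_true, List.mem_range, Bool.and_eq_true, Bool.or_eq_true,
    Nat.blt_eq, Nat.beq_eq] at ha
  simp only [pairsG, forceG_eq, List.all_eq_true, List.mem_range, Bool.and_eq_true, Nat.beq_eq] at hp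
  have hA : ∀ x : Fin 378, (actF (g2ThreeActs.getD k 0) x).val = getW (g2ThreeActs.getD k 0) x.val :=
    fun x => by rw [actF, dif_pos (ha x.val x.isLt).1.1.1.1]
  have hI : ∀ x : Fin 378, (actF (g2ThreeInvs.getD k 0) x).val = getW (g2ThreeInvs.getD k 0) x.val :=
    fun x => by rw [actF, dif_pos (ha x.val x.isLt).1.1.1.2]
  have hbij : Function.Bijective
      fun z : Fin 378 × ZMod 3 => (actF (g2ThreeActs.getD k 0) z.1, z.2 + phF k z.1) := by
    refine Function.bijective_iff_has_inverse.2 ⟨fun z => (actF (g2ThreeInvs.getD k 0) z.1,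
      z.2 - phF k (actF (g2ThreeInvs.getD k 0) z.1)), fun z => ?_, fun z => ?_⟩
    · have e : actF (g2ThreeInvs.getD k 0) (actF (g2ThreeActs.getD k 0) z.1) = z.1 :=
        Fin.ext (by rw [hI, hA]; exact (ha z.1.val z.1.isLt).1.2)
      refine Prod.ext e ?_
      show z.2 + phF k z.1 -
        phF k (actF (g2ThreeInvs.getD k 0) (actF (g2ThreeActs.getD k 0) z.1)) = z.2
      rw [e]
      exact add_sub_cancel_right _ _
    · have e : actF (g2ThreeActs.getD k 0) (actF (g2ThreeInvs.getD k 0) z.1) = z.1 :=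
        Fin.ext (by rw [hA, hI]; exact (ha z.1.val z.1.isLt).1.1.2)
      exact Prod.ext e (sub_add_cancel _ _)
  have hk' : k < g2ThreeGenCodes.length := gen_checks.2.1.symm ▸ hk
  have hok : okG (g2ThreeGenCodes.getD k oneUG) = true := by
    rw [List.getD_eq_getElem _ _ hk']; exact genCodes_ok _ (List.getElem_mem hk')
  refine ⟨actF (g2ThreeActs.getD k 0), phF k, fun x c => ?_, fun x => ?_, fun x y hxy => ?_⟩
  · rw [liftG]
    simp only
    rw [dif_pos hbij]
    rfl
  · have e1 : ((liftG k).1 : Matrix chevG2.Idx chevG2.Idx (ZMod 3)) *ᵥ vecZ x =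
        vec3 (apV (loG (g2ThreeGenCodes.getD k oneUG)) (ptV x.val)) := by
      show (valG _ : Matrix chevG2.Idx chevG2.Idx (ZMod 3)) *ᵥ vec3 _ = _
      rw [valG_val hok, mat3_mulVec (lanes (okG_iff.1 hok).1) (smallB_iff.1 (pt_small x)).2]
    rw [e1, vecZ, hA]
    have hw : smallB 14 (ptV (getW (g2ThreeActs.getD k 0) x.val)) = true :=
      pt_small ⟨_, (ha x.val x.isLt).1.1.1.1⟩
    rcases (ha x.val x.isLt).2 with h | h
    · exact Or.inl (by rw [h])
    · exact Or.inr (by rw [h, vec3_negV hw])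
  · obtain ⟨h1, h2⟩ := hp x.val x.isLt y.val (adj_mem hxy)
    refine ⟨?_, ?_⟩
    · rw [Adj, hA, hA]; exact h1
    · rw [valZ, valZ, phF, phF, hA, hA]
      have e := congrArg (Nat.cast : ℕ → ZMod 3) h2
      rw [ZMod.natCast_mod, ZMod.natCast_mod, Nat.cast_add, Nat.cast_add] at e
      exact e

/-- The cover before taking the derived group. -/
noncomputable def BigG : Subgroup Amb := closure {g | ∃ k < 4, liftG k = g}

theorem goodG_of_mem {g : Amb} (hg : g ∈ BigG) : GoodG g := by
  refine Subgroup.closure_induction ?_ goodG_one (fun a b _ _ ha hb => goodG_mul ha hb)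
    (fun a _ ha => ?_) hg
  · rintro _ ⟨k, hk, rfl⟩
    exact goodG_lift hk
  · have hp : ∀ k : ℕ, GoodG (a ^ k) := fun k => by
      induction k with
      | zero => rw [pow_zero]; exact goodG_one
      | succ k ih => rw [pow_succ]; exact goodG_mul ih ha
    have e : a⁻¹ = a ^ (orderOf a - 1) := inv_eq_of_mul_eq_one_right (by
      rw [← pow_succ', Nat.sub_add_cancel (orderOf_pos a), pow_orderOf_eq_one])
    rw [e]
    exact hp _

/-- The map to the matrices. -/
noncomputable def projG : ↥BigG →* GL chevG2.Idx (ZMod 3) := (MonoidHom.fst _ _).comp BigG.subtype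

theorem range_projG : projG.range = GZ := by
  rw [← genG_eq, projG, MonoidHom.range_comp, Subgroup.range_subtype, BigG, MonoidHom.map_closure, genG]
  congr 1
  ext g
  constructor
  · rintro ⟨_, ⟨k, hk, rfl⟩, rfl⟩
    have hk' : k < g2ThreeGenCodes.length := gen_checks.2.1.symm ▸ hk
    exact ⟨_, List.getElem_mem hk', (congrArg valG (List.getD_eq_getElem _ _ hk')).symm⟩
  · rintro ⟨c, hc, rfl⟩
    obtain ⟨k, hk, rfl⟩ := List.getElem_of_mem hc
    exact ⟨liftG k, ⟨k, gen_checks.2.1 ▸ hk, rfl⟩, congrArg valG (List.getD_eq_getElem _ _ hk)⟩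

/-- The map onto the group. -/
noncomputable def toG : ↥BigG →* ↥GZ :=
  (MulEquiv.subgroupCongr range_projG).toMonoidHom.comp projG.rangeRestrict

theorem toG_surjective : Function.Surjective toG :=
  (MulEquiv.subgroupCongr range_projG).surjective.comp projG.rangeRestrict_surjective

/-- The phase at the first point. -/
noncomputable def phase (g : ↥BigG) : ZMod 3 := (g.1.2 (0, 0)).2

theorem ker_shiftG {g : ↥BigG} (hg : toG g = 1) : ∀ x k, g.1.2 (x, k) = (x, k + phase g) := by
  obtain ⟨π, s, e, m, hf⟩ := goodG_of_mem g.2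
  have h1 : g.1.1 = 1 := congrArg Subtype.val hg
  have hπ : ∀ x, π x = x := fun x => by
    refine (vecZ_sep ?_).symm
    simpa [h1] using m x
  have hadj : ∀ x y, Adj x y → s y = s x := fun x y hxy => by
    have h := (hf x y hxy).2
    rw [hπ, hπ] at h
    exact add_left_cancel h
  have hn := pts_checks.2.2.1
  simp only [nearB, forceG_eq, List.all_eq_true, List.mem_range, Bool.or_eq_true, Bool.and_eq_true,
    Nat.blt_eq, Nat.beq_eq] at hn
  have hs : ∀ d, ∀ x : Fin 378, getW g2ThreeDep x.val = d → s x = s 0 := by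
    intro d
    induction d using Nat.strong_induction_on with
    | _ d ih =>
      intro x hx
      rcases hn x.val x.isLt with h0 | ⟨⟨hp, hb⟩, hd⟩
      · rw [show x = 0 from Fin.ext h0]
      · rw [hadj ⟨_, hp⟩ x hb]
        exact ih _ (hx ▸ hd) ⟨_, hp⟩ rfl
  intro x k
  rw [phase, e, e, hπ, hπ, hs _ x rfl, zero_add]

theorem toG_ker : toG.ker ≤ center ↥BigG := fun g hg => mem_center_iff.2 fun h => by
  have c := ker_shiftG hg
  obtain ⟨π, s, e, -, -⟩ := goodG_of_mem h.2
  have h1 : g.1.1 = 1 := congrArg Subtype.val (show toG g = 1 from hg)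
  refine Subtype.ext (Prod.ext ?_ (Equiv.ext fun ⟨x, k⟩ => ?_))
  · show h.1.1 * g.1.1 = g.1.1 * h.1.1
    rw [h1, mul_one, one_mul]
  · show h.1.2 (g.1.2 (x, k)) = g.1.2 (h.1.2 (x, k))
    rw [c, e, e, c, add_right_comm]

/-- A lift of a word. -/
noncomputable def wordL (w : List ℕ) : Amb := (w.map liftG).prod

theorem wordL_mem {w : List ℕ} (h : ∀ i ∈ w, i < 4) : wordL w ∈ BigG :=
  list_prod_mem fun g hg => by
    obtain ⟨i, hi, rfl⟩ := List.mem_map.1 hg
    exact subset_closure ⟨i, h i hi, rfl⟩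

theorem wordL_fst {w : List ℕ} (h : ∀ i ∈ w, i < 4) : (wordL w).1 = valG (wordG w) := by
  rw [(wordG_spec h).2.1, wordL, ← MonoidHom.coe_fst, map_list_prod, List.map_map]
  rfl

theorem walkG_spec {w : List ℕ} (h : ∀ i ∈ w, i < 4) (x : Fin 378) (c : ℕ) :
    ((wordL w).2 (x, (c : ZMod 3))).1.val = (walkG w (x.val, c)).1 ∧
      ((wordL w).2 (x, (c : ZMod 3))).2 = ((walkG w (x.val, c)).2 : ZMod 3) := by
  induction w with
  | nil => exact ⟨rfl, rfl⟩
  | cons i w ih =>
    obtain ⟨ih1, ih2⟩ := ih fun j hj => h j (List.mem_cons_of_mem _ hj)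
    have hi := h i List.mem_cons_self
    obtain ⟨π, s, e, -, -⟩ := goodG_lift hi
    have ha : actB i = true := by
      obtain ⟨a0, a1, a2, a3⟩ := act_checks
      interval_cases i <;> assumption
    simp only [actB, forceG_eq, List.all_eq_true, List.mem_range, Bool.and_eq_true, Bool.or_eq_true,
      Nat.blt_eq, Nat.beq_eq] at ha
    have key : ∀ z : Fin 378 × ZMod 3, ((liftG i).2 z).1.val = getW (g2ThreeActs.getD i 0) z.1.val ∧
        ((liftG i).2 z).2 = z.2 + phF i z.1 := by
      intro z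
      have hA : (actF (g2ThreeActs.getD i 0) z.1).val = getW (g2ThreeActs.getD i 0) z.1.val := by
        rw [actF, dif_pos (ha z.1.val z.1.isLt).1.1.1.1]
      have hI : ∀ y : Fin 378, (actF (g2ThreeInvs.getD i 0) y).val = getW (g2ThreeInvs.getD i 0) y.val :=
        fun y => by rw [actF, dif_pos (ha y.val y.isLt).1.1.1.2]
      have hbij : Function.Bijective
          fun z : Fin 378 × ZMod 3 => (actF (g2ThreeActs.getD i 0) z.1, z.2 + phF i z.1) := by
        refine (Finite.injective_iff_bijective).1 fun a b hab => ?_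
        obtain ⟨h1, h2⟩ := Prod.mk.injEq _ _ _ _ |>.mp hab
        have := congrArg (fun y : Fin 378 => getW (g2ThreeInvs.getD i 0) y.val) h1
        simp only [actF, dif_pos (ha a.1.val a.1.isLt).1.1.1.1,
          dif_pos (ha b.1.val b.1.isLt).1.1.1.1, (ha a.1.val a.1.isLt).1.2,
          (ha b.1.val b.1.isLt).1.2] at this
        have e1 : a.1 = b.1 := Fin.ext this
        exact Prod.ext e1 (by rw [e1] at h2; exact add_right_cancel h2)
      rw [liftG]
      simp only
      rw [dif_pos hbij]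
      exact ⟨hA, rfl⟩
    rw [wordL, List.map_cons, List.prod_cons, Prod.snd_mul, Equiv.Perm.mul_apply, ← wordL]
    obtain ⟨k1, k2⟩ := key ((wordL w).2 (x, (c : ZMod 3)))
    rw [k1, k2, phF, ih1, ih2]
    refine ⟨rfl, ?_⟩
    exact (Nat.cast_add _ _).symm

/-- The cover. -/
abbrev CovG : Type := ↥(commutator ↥BigG)

/-- The covering map. -/
noncomputable def sigmaG : CovG →* ↥GZ := toG.comp (commutator ↥BigG).subtype

theorem stemG : Cfsg.IsStemExtension sigmaG := by
  have := GZ_finite
  have hperf := derived_perfect perfect_GZ toG_surjective toG_ker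
  refine ⟨fun g => ?_, fun x hx => mem_center_iff.2 fun y =>
    Subtype.ext (mem_center_iff.1 (toG_ker (show toG x.1 = 1 from hx)) y.1), le_top.trans hperf.ge⟩
  obtain ⟨y, hy, e⟩ := (commutator_mul_ker perfect_GZ toG_surjective).ge (mem_top g)
  exact ⟨⟨y, hy⟩, e⟩

theorem toG_val (g : ↥BigG) : ((toG g : ↥GZ) : GL chevG2.Idx (ZMod 3)) = g.1.1 := rfl

theorem sigmaG_apply (z : CovG) : sigmaG z = toG z.1 := rfl

theorem ker_ne_bot_of (U V : ↥BigG) (hfst : (U * V).1.1 = (V * U).1.1) (hne : U * V ≠ V * U) :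
    sigmaG.ker ≠ ⊥ := by
  intro hbot
  have hzc : ⁅U, V⁆ ∈ commutator ↥BigG :=
    commutator_mem_commutator (mem_top U) (mem_top V)
  have h1 : toG (U * V) = toG (V * U) := Subtype.ext ((toG_val _).trans (hfst.trans (toG_val _).symm))
  have hz : (⟨⁅U, V⁆, hzc⟩ : CovG) ∈ sigmaG.ker := by
    rw [MonoidHom.mem_ker, sigmaG_apply, map_commutatorElement, commutatorElement_eq_one_iff_mul_comm,
      ← map_mul, ← map_mul]
    exact h1
  rw [hbot, mem_bot, Subtype.ext_iff] at hz
  exact hne (commutatorElement_eq_one_iff_mul_comm.1 hz)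

attribute [local irreducible] wordG walkG mulUG valG liftG loG in
theorem ker_nontrivialG : sigmaG.ker ≠ ⊥ := by
  obtain ⟨-, -, -, hw⟩ := pts_checks
  simp only [uvB, Bool.and_eq_true, List.all_eq_true, Nat.blt_eq, beq_iff_eq,
    Bool.not_eq_true', beq_eq_false_iff_ne, List.mem_append] at hw
  obtain ⟨⟨hlt, hlow⟩, hne⟩ := hw
  let U : ↥BigG := ⟨wordL g2ThreeU, wordL_mem fun i hi => hlt i (Or.inl hi)⟩
  let V : ↥BigG := ⟨wordL g2ThreeV, wordL_mem fun i hi => hlt i (Or.inr hi)⟩
  have eUV : (U * V).1 = wordL (g2ThreeU ++ g2ThreeV) := by simp [U, V, wordL]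
  have eVU : (V * U).1 = wordL (g2ThreeV ++ g2ThreeU) := by simp [U, V, wordL]
  have h1 : ∀ i ∈ g2ThreeU ++ g2ThreeV, i < 4 := fun i hi => hlt i (List.mem_append.1 hi)
  have h2 : ∀ i ∈ g2ThreeV ++ g2ThreeU, i < 4 := fun i hi => hlt i (List.mem_append.1 hi).symm
  have hfst : (U * V).1.1 = (V * U).1.1 := by
    rw [eUV, eVU, wordL_fst h1, wordL_fst h2]
    exact Units.ext (by rw [valG_val (wordG_spec h1).1, valG_val (wordG_spec h2).1, hlow])
  have hhigh : U * V ≠ V * U := fun e => hne (by
    have a := (walkG_spec h1 0 0).2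
    have b := (walkG_spec h2 0 0).2
    rw [← eUV, e, eVU, b] at a
    exact ((ZMod.natCast_eq_natCast_iff' _ _ 3).1 a).symm)
  exact ker_ne_bot_of U V hfst hhigh

theorem exists_cover :
    ∃ (Γ : Type) (_ : Group Γ) (_ : Finite Γ) (σ : Γ →* ↥GZ),
      Cfsg.IsStemExtension σ ∧ Nonempty (σ.ker ≃* Multiplicative (ZMod 3)) := by
  refine ⟨CovG, inferInstance, inferInstance, sigmaG, stemG, ?_⟩
  have hsh : ∀ a : sigmaG.ker, ∀ x k, a.1.1.1.2 (x, k) = (x, k + phase a.1.1) :=
    fun a => ker_shiftG (show toG a.1.1 = 1 from a.2)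
  let f : sigmaG.ker →* Multiplicative (ZMod 3) := MonoidHom.mk'
    (fun a => Multiplicative.ofAdd (phase a.1.1)) fun a b => by
      rw [← ofAdd_add]
      refine congrArg Multiplicative.ofAdd ?_
      show (a.1.1.1.2 (b.1.1.1.2 (0, 0))).2 = _
      rw [hsh b, hsh a, zero_add, add_comm]
  have hf : Function.Injective f := by
    refine (injective_iff_map_eq_one f).2 fun a ha => ?_
    have h0 : phase a.1.1 = 0 := congrArg Multiplicative.toAdd ha
    have h1 : a.1.1.1.1 = 1 := congrArg Subtype.val (show toG a.1.1 = 1 from a.2)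
    refine Subtype.ext (Subtype.ext (Subtype.ext (Prod.ext h1 (Equiv.ext fun ⟨x, k⟩ => ?_))))
    rw [hsh a, h0, add_zero]
    rfl
  have hle : Nat.card sigmaG.ker ∣ 3 := by
    have := Subgroup.card_dvd_of_injective f hf
    rwa [Nat.card_congr Multiplicative.toAdd, Nat.card_zmod] at this
  have hcard : Nat.card sigmaG.ker = 3 := ((Nat.dvd_prime Nat.prime_three).1 hle).resolve_left
    fun h => ker_nontrivialG (Subgroup.card_eq_one.1 h)
  exact ⟨MulEquiv.ofBijective f ((Nat.bijective_iff_injective_and_card f).2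
    ⟨hf, by rw [hcard, Nat.card_congr Multiplicative.toAdd, Nat.card_zmod]⟩)⟩

end CfsgLib.Schur.Tails.G2Mat
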