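import Cfsg.Agent.Lib.Tails.G2ThreeChecks
import Cfsg.Agent.Lib.Tails.G2ThreeCoverData

/-!
# Checks of the triple cover of the group of type G two over three elements

The cover acts with phases on 378 lines of the module of dimension seven; a phase difference on the
joined pairs is respected.
-/

set_option autoImplicit false
set_option maxRecDepth 100000
set_option exponentiation.threshold 4000

namespace CfsgLib.Schur.Tails.G2Mat

open CfsgLib.Golay CfsgLib.TailsData

/-- A lane of sixteen bits. -/
def getW (A i : ℕ) : ℕ := (A >>> (16 * i)) % 65536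

/-- The code of a point. -/
noncomputable def ptV (x : ℕ) : ℕ := (g2ThreePts >>> (112 * x)) % 256 ^ 14

/-- The code of the opposite vector. -/
def negV (v : ℕ) : ℕ := PackPerm.pack ((List.range 14).map fun i => (3 - PackPerm.getP v i) % 3)

/-- The chosen vectors are the smaller ones and increase. -/
noncomputable def ptsB : Bool :=
  (List.range 378).all fun x => forceG (ptV x) fun v =>
    smallB 14 v && Nat.blt v (negV v) && (Nat.beq (x + 1) 378 || Nat.blt v (ptV (x + 1)))

/-- A generator moves the points as listed. -/
noncomputable def actB (k : ℕ) : Bool :=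
  forceG (g2ThreeActs.getD k 0) fun A => forceG (g2ThreeInvs.getD k 0) fun Ai =>
    forceG (loG (g2ThreeGenCodes.getD k oneUG)) fun M =>
      (List.range 378).all fun x =>
        Nat.blt (getW A x) 378 && Nat.blt (getW Ai x) 378 && Nat.beq (getW A (getW Ai x)) x &&
          Nat.beq (getW Ai (getW A x)) x &&
          forceG (ptV (getW A x)) fun w => forceG (apV M (ptV x)) fun u =>
            Nat.beq u w || Nat.beq u (negV w)

/-- The value of a joined pair. -/
def valB (ones twos y : ℕ) : ℕ := (ones.testBit y).toNat + 2 * (twos.testBit y).toNat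

/-- A generator respects the joined pairs and their values. -/
noncomputable def pairsG (k : ℕ) : Bool :=
  forceG (g2ThreeActs.getD k 0) fun A => forceG (g2ThreePhases.getD k 0) fun S =>
    (List.range 378).all fun x =>
      forceG (getW A x) fun x' => forceG (getW S x) fun sx =>
        forceG (g2ThreeMasks.getD x' 0) fun m' => forceG (g2ThreeOnes.getD x' 0) fun o' =>
          forceG (g2ThreeTwos.getD x' 0) fun t' => forceG (g2ThreeOnes.getD x 0) fun o =>
            forceG (g2ThreeTwos.getD x 0) fun t =>
              (g2ThreeNbs.getD x []).all fun y => forceG (getW A y) fun y' =>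
                m'.testBit y' &&
                  Nat.beq ((valB o' t' y' + getW S y) % 3) ((valB o t y + sx) % 3)

/-- The lists and the bits agree. -/
noncomputable def maskOkB : Bool :=
  (List.range 378).all fun x =>
    Nat.beq (PackPerm.hits (g2ThreeNbs.getD x [])) (g2ThreeMasks.getD x 0)

/-- Every point is joined to one nearer to the first. -/
noncomputable def nearB : Bool :=
  forceG g2ThreePar fun P => forceG g2ThreeDep fun D =>
    (List.range 378).all fun x => Nat.beq x 0 ||
      forceG (getW P x) fun p =>
        Nat.blt p 378 && (g2ThreeMasks.getD p 0).testBit x && Nat.blt (getW D p) (getW D x)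

/-- A word on the points with its phase. -/
noncomputable def walkG (w : List ℕ) (p : ℕ × ℕ) : ℕ × ℕ :=
  w.foldr (fun k q => (getW (g2ThreeActs.getD k 0) q.1,
    q.2 + getW (g2ThreePhases.getD k 0) q.1)) p

/-- The two words commute below and not above. -/
noncomputable def uvB : Bool :=
  (g2ThreeU ++ g2ThreeV).all (fun k => Nat.blt k 4) &&
    (loG (wordG (g2ThreeU ++ g2ThreeV)) == loG (wordG (g2ThreeV ++ g2ThreeU))) &&
    !((walkG (g2ThreeU ++ g2ThreeV) (0, 0)).2 % 3 == (walkG (g2ThreeV ++ g2ThreeU) (0, 0)).2 % 3)

theorem pts_checks : ptsB = true ∧ maskOkB = true ∧ nearB = true ∧ uvB = true := by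
  refine ⟨?_, ?_, ?_, ?_⟩ <;> decide +kernel

theorem act_checks : actB 0 = true ∧ actB 1 = true ∧ actB 2 = true ∧ actB 3 = true := by
  refine ⟨?_, ?_, ?_, ?_⟩ <;> decide +kernel

theorem pairs_checks : pairsG 0 = true ∧ pairsG 1 = true ∧ pairsG 2 = true ∧ pairsG 3 = true := by
  refine ⟨?_, ?_, ?_, ?_⟩ <;> decide +kernel

end CfsgLib.Schur.Tails.G2Mat
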