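import Cfsg.Agent.Lib.Tails.G2ThreeBound
import Cfsg.Agent.Lib.Tails.G2ThreeCover
import Cfsg.Agent.Lib.Tails.SLNine

/-!
# The multiplier of the group of type G two over three elements
-/

set_option autoImplicit false

namespace CfsgLib.Schur.Tails.G2Mat

open Cfsg.Lie

universe u

theorem multiplier {F : Type u} [Field F] [Fintype F] (hF : Fintype.card F = 3) :
    Cfsg.HasCyclicSchurMultiplier ↥(chevG2.group F) 3 := by
  have := GZ_finite
  obtain ⟨e⟩ := group_equiv hF
  exact hasCyclic_congr e (hasCyclic_of_bound exists_cover fun _ _ _ σ hσ => bound σ hσ)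

end CfsgLib.Schur.Tails.G2Mat
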