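import Cfsg.Agent.Lib.Tails.HSTwoEqs
import Cfsg.Agent.Lib.Tails.HSCover
import Cfsg.Agent.Lib.Tails.AltBasic

/-!
# The certificates for HS
-/

set_option autoImplicit false
set_option maxRecDepth 100000

namespace CfsgLib.Schur.Tails.HS

open CfsgLib.Golay CfsgLib.TailsData

/-- The data at one prime. -/
noncomputable def primeB (c : Cert) (gens hs : List ℕ) (stp : List (ℕ × Bool × ℕ × ℕ))
    (idx : List ℕ) : Bool :=
  Coded.relsB ops [ops.one] gens c hs && Coded.manyB ops c.p gens idx (c.p ^ c.n) &&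
    Bsgs.slpCheck ops hsBase stp &&
    ((gens ++ hs).all fun g => (hsBase ++ stp.map (·.1)).contains g)

theorem realised {c : Cert} {gens hs idx : List ℕ} {stp : List (ℕ × Bool × ℕ × ℕ)}
    (hc : c.checkB = true) (h : primeB c gens hs stp idx = true)
    (hdiv : ¬ c.p ^ (c.n + 1) ∣ Nat.card HS.hsGroup) : c.Realised ↥HS.hsGroup := by
  simp only [primeB, Bool.and_eq_true, List.all_eq_true, List.contains_iff_mem] at h
  obtain ⟨⟨⟨hr, hm⟩, hslp⟩, hall⟩ := h
  have hb : ∀ b ∈ hsBase, ops.ok b = true ∧ ops.val b ∈ HS.hsGroup := fun b hb => by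
    obtain ⟨i, hi, rfl⟩ := List.getElem_of_mem hb
    have e : baseC i = hsBase[i] := List.getD_eq_getElem _ _ hi
    have hi2 : i < 2 := base_ok.2 ▸ hi
    exact ⟨e ▸ baseC_ok hi2, e ▸ base_mem hi2⟩
  have hmem : ∀ g ∈ gens ++ hs, ops.ok g = true ∧ ops.val g ∈ HS.hsGroup :=
    fun g hg => Bsgs.slp_sound ops _ hslp hb g (hall g hg)
  refine Coded.realised (O := ops) (MonoidHom.id _) hc
    (fun g hg => (hmem g (List.mem_append_left _ hg)).2)
    (fun g hg => (hmem g (List.mem_append_right _ hg)).2) (fun z hz => ?_) hr (fun g hg => ?_) hdiv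
  · rw [List.mem_singleton.1 hz]
    exact ⟨by rw [ops.val_one]; exact one_mem _, Subtype.ext ops.val_one⟩
  · show c.p ^ c.n ≤ Nat.card (Subgroup.closure (g '' {k | k < c.n}))
    rw [← Subgroup.card_map_of_injective HS.hsGroup.subtype_injective]
    refine Coded.le_card_of_manyB (Alt.mul_one_inj (by norm_num)) hm fun x hx => ?_
    obtain ⟨i, hi, rfl⟩ := List.getElem_of_mem hx
    refine ⟨(hmem _ (List.mem_append_left _ (List.getElem_mem hi))).1, ⟨g i, ?_, ?_⟩⟩
    · have hlen : gens.length = c.n := by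
        simp only [Coded.relsB, Bool.and_eq_true, decide_eq_true_eq] at hr
        exact hr.1.1.1.2
      exact Subgroup.subset_closure ⟨i, show i < c.n by omega, rfl⟩
    · show (g i : Equiv.Perm (Fin 100)) = _
      rw [hg i hi, List.getD_eq_getElem _ _ hi]

theorem two_cert : twoHSCert.checkB = true :=
  checkB_of_eqs twoEqs_eq (by decide +kernel)

theorem odd_certs : threeHSCert.checkB = true ∧ fiveHSCert.checkB = true := by
  constructor <;> decide +kernel

theorem two_data : primeB twoHSCert twoHSGens twoHSHs twoHSSlp twoHSIdx = true := by decide +kernel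

theorem odd_data : primeB threeHSCert threeHSGens threeHSHs threeHSSlp threeHSIdx = true ∧
    primeB fiveHSCert fiveHSGens fiveHSHs fiveHSSlp fiveHSIdx = true := by
  constructor <;> decide +kernel

theorem sizes : (twoHSCert.p = 2 ∧ twoHSCert.q = 4 ∧ twoHSCert.n = 9) ∧
    (threeHSCert.p = 3 ∧ threeHSCert.q = 3 ∧ threeHSCert.tau = [] ∧ threeHSCert.n = 2) ∧
    (fiveHSCert.p = 5 ∧ fiveHSCert.q = 5 ∧ fiveHSCert.tau = [] ∧ fiveHSCert.n = 3) := by
  refine ⟨⟨?_, ?_, ?_⟩, ⟨?_, ?_, ?_, ?_⟩, ?_, ?_, ?_, ?_⟩ <;> decide +kernel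

end CfsgLib.Schur.Tails.HS
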