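import Cfsg.Agent.Lib.Golay.PackPerm
import Cfsg.Agent.Lib.Golay.HS
import Cfsg.Agent.Lib.Tails.HSCoverData

/-!
# Checks of the double cover of HS

The cover acts monomially, with phases of order four, on the two classes of 176 halvings of the
hundred points.
-/

set_option autoImplicit false
set_option maxRecDepth 100000

namespace CfsgLib.Schur.Tails.HS

open CfsgLib.Golay CfsgLib.TailsData

/-- The generator codes. -/
def baseC (i : ℕ) : ℕ := hsBase.getD i 0

/-- One halving goes to another or to its complement. -/
def halveB (A m m' : ℕ) : Bool :=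
  (List.range 100).all fun i =>
    m'.testBit (PackPerm.getP A i) == xor (xor (m'.testBit (PackPerm.getP A 0)) (m.testBit 0)) (m.testBit i)

/-- The action on a class is induced. -/
def maskB (M : List ℕ) (A π : ℕ) : Bool :=
  (List.range 176).all fun x => halveB A (M.getD x 0) (M.getD (PackPerm.getP π x) 0)

/-- The halvings are different and written away from the last point. -/
def masksB (M : List ℕ) : Bool :=
  decide M.Nodup && decide (M.length = 176) && M.all fun m => Nat.blt m (2 ^ 99)

/-- The value of a joined pair. -/
def value (x y : ℕ) : ℕ :=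
  ((hsBitZero.getD x 0).testBit y).toNat + 2 * ((hsBitOne.getD x 0).testBit y).toNat

/-- One pair goes to a pair with the value changed by the phases. -/
def pairB (π ρ S T x y : ℕ) : Bool :=
  !(hsFlags.getD x 0).testBit y ||
    ((hsFlags.getD (PackPerm.getP π x) 0).testBit (PackPerm.getP ρ y) &&
      Nat.beq ((value (PackPerm.getP π x) (PackPerm.getP ρ y) + PackPerm.getP T y) % 4)
        ((value x y + PackPerm.getP S x) % 4))

/-- The pairs are respected. -/
def flagsB (π ρ S T : ℕ) : Bool :=
  (List.range 176).all fun x => (List.range 176).all fun y => pairB π ρ S T x y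

/-- The checks for a generator. -/
def genB (i : ℕ) : Bool :=
  PackPerm.okP 176 (hsActsZero.getD i 0) && PackPerm.okP 176 (hsActsOne.getD i 0) &&
    maskB hsMasksZero (baseC i) (hsActsZero.getD i 0) &&
    maskB hsMasksOne (baseC i) (hsActsOne.getD i 0) &&
    flagsB (hsActsZero.getD i 0) (hsActsOne.getD i 0) (hsPhaseZero.getD i 0) (hsPhaseOne.getD i 0)

/-- Every point is near the first one. -/
def linkB : Bool :=
  (List.range 176).all fun x =>
    let y := hsLink.getD x 0
    let z := hsBack.getD x 0
    Nat.blt y 176 && Nat.blt z 176 && (hsFlags.getD x 0).testBit y && (hsFlags.getD 0 0).testBit y &&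
      (hsFlags.getD z 0).testBit x

/-- A word on the hundred points. -/
def walk (w : List ℕ) (p : ℕ) : ℕ := w.foldr (fun i q => PackPerm.getP (baseC i) q) p

/-- A word on the first class with its phase. -/
def walkPh (w : List ℕ) (p : ℕ × ℕ) : ℕ × ℕ :=
  w.foldr (fun i q => (PackPerm.getP (hsActsZero.getD i 0) q.1,
    q.2 + PackPerm.getP (hsPhaseZero.getD i 0) q.1)) p

/-- The two words commute below and not above. -/
def wordsB : Bool :=
  (hsU ++ hsV).all (fun i => Nat.blt i 2) &&
    (List.range 100).all (fun p => walk (hsU ++ hsV) p == walk (hsV ++ hsU) p) &&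
    !((walkPh (hsU ++ hsV) (0, 0)).2 % 4 == (walkPh (hsV ++ hsU) (0, 0)).2 % 4)

theorem gen_checks : genB 0 = true ∧ genB 1 = true := by
  refine ⟨?_, ?_⟩ <;> decide +kernel

theorem shape_checks : masksB hsMasksZero = true ∧ masksB hsMasksOne = true ∧ linkB = true ∧
    wordsB = true := by
  refine ⟨?_, ?_, ?_, ?_⟩ <;> decide +kernel

end CfsgLib.Schur.Tails.HS
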