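import Cfsg.Agent.Lib.Tails.Cert
import Cfsg.Agent.Lib.Golay.Bsgs

/-!
Generated data: certificates for the Schur multiplier of HS.
-/

set_option autoImplicit false
set_option maxRecDepth 20000

namespace CfsgLib.TailsData

open CfsgLib

/-- The overlaps. -/
def twoHSOverlaps : List (List ℕ × List Schur.Tails.Step × List Schur.Tails.Step) := [
  ([0, 1, 2], [(0, 9, true), (4, 10, true), (3, 32, true), (2, 38, true), (1, 41, true), (0, 8, true), (1, 40, true), (0, 7, true), (1, 35, true), (0, 5, true), (2, 31, true), (1, 35, true), (3, 30, true), (2, 4, true), (1, 41, true), (0, 44, true), (1, 7, true), (1, 39, true), (3, 5, true), (2, 42, true), (1, 7, true)], [(1, 17, true), (0, 13, true), (4, 12, true), (3, 23, true), (2, 28, true), (1, 44, true), (0, 8, true), (3, 27, true), (2, 40, true), (1, 42, true), (0, 7, true), (1, 39, true), (0, 42, true), (1, 6, true), (2, 26, true), (1, 5, true), (0, 7, true), (2, 22, true), (1, 29, true), (0, 32, true), (2, 31, true), (1, 5, true), (2, 3, true), (1, 44, true), (0, 8, true), (0, 7, true), (2, 27, true), (1, 40, true), (0, 42, true), (2,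 39, true), (1, 42, true), (0, 7, true), (0, 6, true), (1, 26, true), (0, 5, true), (3, 18, true), (2, 24, true), (1, 34, true), (0, 7, true), (2, 33, true), (1, 40, true), (0, 42, true), (3, 32, true), (2, 41, true), (1, 43, true), (0, 44, true), (1, 7, true), (1, 42, true), (3, 5, true), (2, 42, true), (1, 7, true), (2, 31, true), (3, 3, true), (2, 41, true), (1, 43, true), (0, 8, true), (1, 42, true), (0, 7, true), (1, 40, true), (0, 42, true), (2, 39, true), (1, 42, true), (0, 7, true), (0, 6, true), (0, 5, true), (2, 17, true), (1, 26, true), (3, 25, true), (2, 34, true), (1, 40, true), (0, 7, true), (0, 39, true), (2, 5, true), (1, 42, true), (0, 7, true), (1, 33, true), (0, 42, true), (2, 32, true), (1, 43, true), (0, 44, true), (1, 7, true), (3, 31, true), (2, 5, true), (1, 42, true), (3, 30, true), (4, 3, true), (3, 38, true), (2, 43, true), (1, 44, true), (0, 8, true), (0, 7, true), (0, 42, true), (2, 37, true), (1, 42, true), (0, 7, true), (1, 36, true), (0, 42, true), (1, 6, true), (1, 35, true), (3, 24, true), (2, 38, true), (1, 41, true), (0, 44, true), (1, 7, true), (1,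 40, true), (3, 37, true), (2, 40, true), (1, 7, true), (2, 36, true), (1, 40, true), (2, 39, true), (1, 7, true), (3, 35, true), (2, 5, true), (1, 42, true), (5, 2, true), (4, 33, true), (3, 37, true), (2, 42, true), (1, 7, true), (3, 3, true), (2, 38, true), (1, 43, true), (0, 8, true), (1, 42, true), (0, 7, true), (1, 37, true), (0, 42, true), (2, 36, true), (1, 42, true), (0, 7, true), (0, 6, true), (0, 35, true), (2, 1, true), (1, 38, true), (0, 41, true), (2, 40, true), (1, 7, true), (2, 37, true), (1, 40, true), (3, 36, true), (2, 40, true), (1, 7, true), (1, 39, true), (4, 35, true), (3, 5, true), (2, 42, true), (1, 7, true), (3, 11, true), (2, 37, true), (1, 42, true), (3, 35, true), (4, 4, true), (3, 41, true), (2, 43, true), (1, 44, true), (0, 8, true), (0, 7, true), (0, 42, true), (2, 39, true), (1, 42, true), (0, 7, true), (0, 6, true), (0, 5, true), (1, 10, true), (5, 9, true), (4, 23, true), (3, 37, true), (2, 40, true), (1, 42, true), (0, 7, true), (2, 36, true), (1, 40, true), (0, 42, true), (2, 39, true), (1, 42, true), (0, 7, true), (0, 6, true), (1, 35, true), (0,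 5, true), (2, 20, true), (1, 38, true), (0, 44, true), (1, 7, true), (1, 37, true), (2, 36, true), (1, 7, true), (4, 19, true), (3, 33, true), (2, 37, true), (1, 42, true), (4, 30, true), (3, 4, true), (2, 43, true), (1, 44, true), (0, 8, true), (0, 7, true), (0, 6, true), (1, 3, true), (0, 41, true), (2, 40, true), (1, 7, true), (1, 39, true), (3, 5, true), (2, 42, true), (1, 7, true), (2, 18, true)]),
  ([0, 1, 3], [(0, 9, true), (4, 11, true), (3, 33, true), (2, 37, true), (1, 40, true), (4, 31, true), (3, 35, true), (2, 5, true), (1, 7, true), (2, 30, true), (1, 4, true), (0, 8, true)], [(1, 18, true), (0, 11, true), (3, 9, true), (2, 38, true), (1, 41, true), (0, 44, true), (1, 7, true), (1, 40, true), (3, 35, true), (2, 5, true), (1, 7, true), (1, 4, true), (0, 8, true)]),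
  ([0, 1, 4], [(0, 9, true), (4, 12, true), (3, 34, true), (2, 37, true), (1, 40, true), (3, 36, true), (2, 40, true), (1, 7, true), (1, 39, true), (4, 35, true), (3, 5, true), (2, 42, true), (1, 7, true), (3, 33, true), (2, 37, true), (1, 42, true), (4, 3, true), (3, 38, true), (2, 43, true), (1, 44, true), (0, 8, true), (0, 7, true), (0, 42, true), (2, 37, true), (1, 42, true), (0, 7, true), (1, 36, true), (0, 42, true), (1, 6, true), (1, 35, true)], [(1, 19, true), (0, 15, true), (4, 12, true), (3, 34, true), (2, 37, true), (1, 42, true), (3, 36, true), (2, 42, true), (1, 7, true), (1, 6, true), (1, 35, true), (3, 33, true), (2, 37, true), (1, 40, true), (4, 3, true), (3, 38, true), (2, 41, true), (1, 44, true), (0, 8, true), (0, 7, true), (0, 40, true), (2, 37, true), (1, 40, true), (0, 7, true), (1, 36, true), (0, 40, true), (1, 39, true), (0, 7, true), (2, 35, true), (1, 5, true), (0, 42, true), (5, 11, true), (4, 22, true), (3, 29, true), (2, 36, true), (1, 42, true), (0, 7, true), (0, 6, true), (0, 35, true), (3, 27, true), (2, 33, true), (1, 37, true), (0, 40, true), (3, 32,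 true), (2, 38, true), (1, 41, true), (0, 44, true), (1, 7, true), (1, 40, true), (3, 35, true), (2, 5, true), (1, 7, true), (3, 26, true), (2, 31, true), (1, 35, true), (3, 3, true), (2, 38, true), (1, 41, true), (0, 8, true), (1, 40, true), (0, 7, true), (1, 37, true), (0, 40, true), (2, 36, true), (1, 40, true), (0, 7, true), (0, 39, true), (3, 35, true), (2, 5, true), (1, 42, true), (0, 7, true), (3, 20, true), (2, 29, true), (1, 36, true), (0, 42, true), (1, 6, true), (1, 35, true), (4, 28, true), (3, 34, true), (2, 37, true), (1, 40, true), (0, 7, true), (1, 36, true), (0, 40, true), (1, 39, true), (0, 7, true), (2, 35, true), (1, 5, true), (0, 42, true), (3, 32, true), (2, 38, true), (1, 43, true), (0, 44, true), (1, 7, true), (1, 42, true), (3, 35, true), (5, 31, true), (4, 35, true), (3, 5, true), (2, 42, true), (1, 7, true), (4, 27, true), (3, 33, true), (2, 37, true), (1, 42, true), (4, 32, true), (3, 38, true), (2, 43, true), (1, 44, true), (0, 8, true), (0, 7, true), (0, 42, true), (2, 35, true), (5, 24, true), (4, 34, true), (3, 37, true), (2, 40, true), (1, 42, true),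 (0, 7, true), (2, 36, true), (1, 40, true), (0, 42, true), (2, 39, true), (1, 42, true), (0, 7, true), (0, 6, true), (1, 35, true), (0, 5, true), (2, 33, true), (1, 37, true), (0, 7, true), (1, 32, true), (0, 38, true), (2, 35, true), (4, 31, true), (3, 35, true), (2, 5, true), (1, 7, true), (2, 3, true), (1, 38, true), (0, 8, true), (1, 37, true), (0, 7, true), (0, 36, true), (2, 35, true), (5, 19, true), (4, 28, true), (3, 38, true), (2, 41, true), (1, 43, true), (0, 44, true), (1, 7, true), (1, 42, true), (3, 40, true), (2, 42, true), (1, 7, true), (3, 36, true), (2, 40, true), (1, 42, true), (3, 39, true), (2, 42, true), (1, 7, true), (1, 6, true), (2, 35, true), (1, 5, true), (3, 25, true), (2, 38, true), (1, 44, true), (0, 8, true), (0, 7, true), (0, 37, true), (1, 36, true), (0, 7, true), (1, 35, true), (2, 4, true), (1, 41, true), (0, 43, true), (2, 42, true), (1, 7, true), (2, 39, true), (1, 42, true), (2, 6, true), (2, 5, true), (1, 7, true), (2, 24, true), (1, 34, true), (4, 33, true), (3, 40, true), (2, 42, true), (1, 7, true), (3, 32, true), (2, 41, true), (1, 43, true),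 (0, 8, true), (1, 42, true), (0, 7, true), (1, 5, true), (0, 42, true), (2, 31, true), (3, 3, true), (2, 41, true), (1, 43, true), (0, 44, true), (1, 7, true), (1, 42, true), (3, 40, true), (2, 42, true), (1, 7, true), (2, 39, true), (1, 42, true), (2, 6, true), (2, 5, true), (1, 7, true), (3, 9, true), (2, 23, true), (1, 28, true), (0, 8, true), (2, 27, true), (1, 40, true), (0, 42, true), (2, 39, true), (1, 42, true), (0, 7, true), (0, 6, true), (1, 26, true), (0, 5, true), (3, 20, true), (2, 29, true), (1, 32, true), (0, 44, true), (3, 31, true), (2, 5, true), (1, 7, true), (1, 3, true), (0, 8, true), (3, 28, true), (2, 41, true), (1, 43, true), (0, 44, true), (1, 7, true), (1, 42, true), (3, 39, true), (2, 42, true), (1, 7, true), (1, 6, true), (1, 5, true), (2, 27, true), (1, 7, true), (2, 24, true), (1, 43, true), (0, 8, true), (1, 42, true), (0, 7, true), (0, 6, true), (3, 19, true), (2, 28, true), (1, 34, true), (0, 40, true), (1, 39, true), (0, 7, true), (1, 5, true), (0, 42, true), (2, 32, true), (1, 43, true), (0, 44, true), (1, 7, true), (3, 31, true), (2, 5, true), (1,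 42, true), (4, 25, true), (3, 34, true), (2, 42, true), (1, 7, true), (1, 6, true), (2, 33, true), (1, 40, true), (3, 32, true), (2, 41, true), (1, 44, true), (0, 8, true), (0, 7, true), (0, 5, true), (1, 31, true), (2, 30, true), (3, 3, true), (2, 38, true), (1, 41, true), (0, 44, true), (1, 7, true), (1, 40, true), (3, 37, true), (2, 40, true), (1, 7, true), (2, 36, true), (1, 40, true), (2, 39, true), (1, 7, true), (3, 35, true), (2, 5, true), (1, 42, true), (4, 24, true), (3, 38, true), (2, 43, true), (1, 44, true), (0, 8, true), (0, 7, true), (0, 42, true), (2, 37, true), (1, 42, true), (0, 7, true), (1, 36, true), (0, 42, true), (1, 6, true), (1, 35, true), (5, 18, true), (4, 24, true), (3, 34, true), (2, 37, true), (1, 40, true), (0, 7, true), (1, 36, true), (0, 40, true), (1, 39, true), (0, 7, true), (2, 35, true), (1, 5, true), (0, 42, true), (3, 33, true), (2, 37, true), (1, 42, true), (0, 7, true), (2, 32, true), (1, 38, true), (0, 43, true), (2, 42, true), (1, 7, true), (2, 35, true), (4, 31, true), (3, 35, true), (2, 5, true), (1, 42, true), (4, 3, true), (3, 38, true),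 (2, 43, true), (1, 44, true), (0, 8, true), (0, 7, true), (0, 42, true), (2, 37, true), (1, 42, true), (0, 7, true), (1, 36, true), (0, 42, true), (1, 6, true), (1, 35, true)]),
  ([0, 1, 5], [(0, 9, true), (4, 13, true), (3, 34, true), (2, 37, true), (1, 40, true), (3, 36, true), (2, 40, true), (1, 7, true), (1, 39, true), (4, 35, true), (3, 5, true), (2, 42, true), (1, 7, true), (3, 33, true), (2, 37, true), (1, 42, true)], [(1, 20, true), (0, 16, true), (4, 15, true), (3, 23, true), (2, 37, true), (1, 42, true), (3, 36, true), (2, 42, true), (1, 7, true), (1, 6, true), (1, 35, true), (3, 21, true), (2, 37, true), (1, 40, true), (3, 36, true), (2, 40, true), (1, 7, true), (1, 39, true), (6, 19, true), (5, 33, true), (4, 37, true), (3, 40, true), (2, 42, true), (1, 7, true), (4, 30, true), (3, 4, true), (2, 41, true), (1, 43, true), (0, 8, true), (1, 42, true), (0, 7, true), (1, 39, true), (0, 42, true), (1, 6, true), (1, 5, true), (0, 7, true), (0, 3, true), (4, 18, true), (6, 14, true), (5, 23, true), (4, 33, true), (3, 40, true), (2, 42, true), (1, 7, true), (3, 32, true), (2,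 41, true), (1, 43, true), (0, 8, true), (1, 42, true), (0, 7, true), (1, 5, true), (0, 42, true), (2, 31, true), (4, 22, true), (3, 34, true), (2, 40, true), (1, 42, true), (0, 7, true), (1, 39, true), (0, 42, true), (1, 6, true), (1, 5, true), (0, 7, true), (0, 32, true), (2, 31, true), (1, 5, true), (3, 18, true), (2, 3, true), (1, 44, true), (0, 8, true), (0, 7, true), (2, 17, true), (1, 5, true), (0, 42, true), (6, 11, true), (5, 22, true), (4, 29, true), (3, 32, true), (2, 38, true), (1, 43, true), (0, 44, true), (1, 7, true), (1, 42, true), (3, 35, true), (5, 31, true), (4, 35, true), (3, 5, true), (2, 42, true), (1, 7, true), (3, 3, true), (2, 38, true), (1, 43, true), (0, 8, true), (1, 42, true), (0, 7, true), (1, 37, true), (0, 42, true), (2, 36, true), (1, 42, true), (0, 7, true), (0, 6, true), (0, 35, true), (2, 27, true), (1, 37, true), (0, 40, true), (2, 36, true), (1, 40, true), (0, 7, true), (0, 39, true), (4, 26, true), (3, 35, true), (2, 5, true), (1, 42, true), (0, 7, true), (4, 20, true), (3, 29, true), (2, 32, true), (1, 38, true), (0, 43, true), (2, 42, true),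 (1, 7, true), (2, 35, true), (4, 31, true), (3, 35, true), (2, 5, true), (1, 42, true), (4, 3, true), (3, 38, true), (2, 43, true), (1, 44, true), (0, 8, true), (0, 7, true), (0, 42, true), (2, 37, true), (1, 42, true), (0, 7, true), (1, 36, true), (0, 42, true), (1, 6, true), (1, 35, true), (3, 28, true), (2, 38, true), (1, 41, true), (0, 44, true), (1, 7, true), (1, 40, true), (3, 36, true), (2, 40, true), (1, 7, true), (1, 39, true), (4, 35, true), (3, 5, true), (2, 42, true), (1, 7, true), (3, 27, true), (2, 37, true), (1, 42, true), (3, 36, true), (2, 42, true), (1, 7, true), (1, 6, true), (2, 24, true), (1, 38, true), (0, 8, true), (1, 37, true), (0, 7, true), (0, 36, true), (2, 35, true), (6, 19, true), (5, 28, true), (4, 34, true), (3, 37, true), (2, 40, true), (1, 42, true), (0, 7, true), (2, 36, true), (1, 40, true), (0, 42, true), (2, 39, true), (1, 42, true), (0, 7, true), (0, 6, true), (1, 35, true), (0, 5, true), (2, 32, true), (1, 38, true), (0, 44, true), (1, 7, true), (1, 35, true), (3, 31, true), (2, 35, true), (1, 5, true), (4, 25, true), (3, 34, true), (2, 37, true),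 (1, 7, true), (1, 36, true), (3, 35, true), (5, 33, true), (4, 37, true), (3, 40, true), (2, 42, true), (1, 7, true), (4, 32, true), (3, 38, true), (2, 41, true), (1, 43, true), (0, 8, true), (1, 42, true), (0, 7, true), (1, 40, true), (0, 42, true), (3, 35, true), (2, 5, true), (1, 42, true), (0, 7, true), (2, 31, true), (1, 35, true), (3, 30, true), (2, 4, true), (1, 41, true), (0, 43, true), (2, 42, true), (1, 7, true), (2, 39, true), (1, 42, true), (2, 6, true), (2, 5, true), (1, 7, true), (1, 3, true), (0, 8, true), (3, 24, true), (2, 41, true), (1, 43, true), (0, 44, true), (1, 7, true), (1, 42, true), (3, 40, true), (2, 42, true), (1, 7, true), (2, 39, true), (1, 42, true), (2, 6, true), (2, 5, true), (1, 7, true), (4, 9, true), (3, 23, true), (2, 28, true), (1, 34, true), (4, 32, true), (3, 41, true), (2, 43, true), (1, 44, true), (0, 8, true), (0, 7, true), (0, 42, true), (2, 5, true), (1, 42, true), (0, 7, true), (1, 31, true), (3, 27, true), (2, 33, true), (1, 40, true), (0, 42, true), (3, 32, true), (2, 41, true), (1, 43, true), (0, 44, true), (1, 7, true), (1, 42, true),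 (3, 5, true), (2, 42, true), (1, 7, true), (3, 26, true), (2, 31, true), (3, 3, true), (2, 41, true), (1, 43, true), (0, 8, true), (1, 42, true), (0, 7, true), (1, 40, true), (0, 42, true), (2, 39, true), (1, 42, true), (0, 7, true), (0, 6, true), (0, 5, true), (2, 20, true), (1, 29, true), (4, 28, true), (3, 34, true), (2, 40, true), (1, 42, true), (0, 7, true), (1, 39, true), (0, 42, true), (1, 6, true), (1, 5, true), (0, 7, true), (0, 32, true), (2, 31, true), (1, 5, true), (3, 27, true), (2, 33, true), (1, 7, true), (1, 32, true), (0, 8, true), (2, 24, true), (1, 34, true), (0, 40, true), (1, 39, true), (0, 7, true), (1, 5, true), (0, 42, true), (2, 33, true), (1, 42, true), (0, 7, true), (1, 32, true), (0, 43, true), (4, 31, true), (3, 5, true), (2, 42, true), (1, 7, true), (2, 3, true), (1, 43, true), (0, 8, true), (1, 42, true), (0, 7, true), (0, 6, true), (2, 19, true), (1, 28, true), (0, 41, true), (2, 39, true), (1, 7, true), (2, 5, true), (1, 42, true), (3, 25, true), (2, 43, true), (1, 44, true), (0, 8, true), (0, 7, true), (0, 42, true), (1, 6, true), (4, 24, true), (3,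 34, true), (2, 37, true), (1, 40, true), (0, 7, true), (1, 36, true), (0, 40, true), (1, 39, true), (0, 7, true), (2, 35, true), (1, 5, true), (0, 42, true), (3, 33, true), (2, 37, true), (1, 42, true), (0, 7, true), (2, 32, true), (1, 38, true), (0, 43, true), (2, 42, true), (1, 7, true), (2, 35, true), (4, 31, true), (3, 35, true), (2, 5, true), (1, 42, true), (4, 3, true), (3, 38, true), (2, 43, true), (1, 44, true), (0, 8, true), (0, 7, true), (0, 42, true), (2, 37, true), (1, 42, true), (0, 7, true), (1, 36, true), (0, 42, true), (1, 6, true), (1, 35, true), (4, 18, true), (3, 24, true), (2, 38, true), (1, 41, true), (0, 44, true), (1, 7, true), (1, 40, true), (3, 37, true), (2, 40, true), (1, 7, true), (2, 36, true), (1, 40, true), (2, 39, true), (1, 7, true), (3, 35, true), (2, 5, true), (1, 42, true)]),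
  ([0, 1, 6], [(0, 9, true), (4, 14, true), (3, 34, true), (2, 37, true), (1, 40, true), (3, 36, true), (2, 40, true), (1, 7, true), (1, 39, true), (4, 35, true), (3, 5, true), (2, 42, true), (1, 7, true), (3, 33, true), (2, 37, true), (1, 42, true), (4, 3, true), (3, 38, true), (2, 43, true), (1, 44, true), (0, 8, true), (0, 7, true), (0, 42, true), (2, 37, true), (1, 42, true), (0, 7, true), (1, 36, true), (0, 42, true), (1, 6, true), (1, 35, true)], [(1, 21, true), (0, 15, true), (4, 14, true), (3, 34, true), (2, 37, true), (1, 42, true), (3, 36, true), (2, 42, true), (1, 7, true), (1, 6, true), (1, 35, true), (3, 33, true), (2, 37, true), (1, 40, true), (4, 3, true), (3, 38, true), (2, 41, true), (1, 44, true), (0, 8, true), (0, 7, true), (0, 40, true), (2, 37, true), (1, 40, true), (0, 7, true), (1, 36, true), (0, 40, true), (1, 39, true), (0, 7, true), (2, 35, true), (1, 5, true), (0, 42, true), (4, 11, true), (3, 28, true), (2, 38, true), (1, 43, true), (0, 44, true), (1, 7, true), (1, 42, true), (3, 36, true), (2, 42, true), (1, 7, true), (1, 6, true), (1, 35, true), (3, 26,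 true), (2, 35, true), (1, 5, true), (4, 25, true), (3, 34, true), (2, 37, true), (1, 7, true), (1, 36, true), (3, 35, true), (5, 33, true), (4, 37, true), (3, 40, true), (2, 42, true), (1, 7, true), (4, 32, true), (3, 38, true), (2, 41, true), (1, 43, true), (0, 8, true), (1, 42, true), (0, 7, true), (1, 40, true), (0, 42, true), (3, 35, true), (2, 5, true), (1, 42, true), (0, 7, true), (2, 31, true), (1, 35, true), (3, 30, true), (2, 4, true), (1, 41, true), (0, 43, true), (2, 42, true), (1, 7, true), (2, 39, true), (1, 42, true), (2, 6, true), (2, 5, true), (1, 7, true), (1, 3, true), (0, 8, true), (4, 9, true), (3, 29, true), (2, 39, true), (1, 42, true), (0, 7, true), (0, 6, true), (0, 5, true), (2, 26, true), (1, 31, true), (2, 3, true), (1, 41, true), (0, 44, true), (1, 7, true), (1, 40, true), (2, 39, true), (1, 7, true), (2, 5, true), (1, 42, true), (3, 25, true), (2, 43, true), (1, 44, true), (0, 8, true), (0, 7, true), (0, 42, true), (1, 6, true), (4, 24, true), (3, 34, true), (2, 37, true), (1, 40, true), (0, 7, true), (1, 36, true), (0, 40, true), (1, 39, true), (0, 7,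 true), (2, 35, true), (1, 5, true), (0, 42, true), (3, 33, true), (2, 37, true), (1, 42, true), (0, 7, true), (2, 32, true), (1, 38, true), (0, 43, true), (2, 42, true), (1, 7, true), (2, 35, true), (4, 31, true), (3, 35, true), (2, 5, true), (1, 42, true), (4, 3, true), (3, 38, true), (2, 43, true), (1, 44, true), (0, 8, true), (0, 7, true), (0, 42, true), (2, 37, true), (1, 42, true), (0, 7, true), (1, 36, true), (0, 42, true), (1, 6, true), (1, 35, true)]),
  ([0, 1, 7], [(0, 9, true), (4, 15, true), (3, 34, true), (2, 37, true), (1, 40, true), (3, 36, true), (2, 40, true), (1, 7, true), (1, 39, true), (4, 35, true), (3, 5, true), (2, 42, true), (1, 7, true), (3, 32, true), (2, 38, true), (1, 43, true), (0, 8, true), (1, 42, true), (0, 7, true), (1, 35, true), (3, 30, true), (2, 4, true), (1, 41, true), (0, 43, true), (2, 42, true), (1, 7, true), (2, 39, true), (1, 42, true), (2, 6, true), (2, 5, true), (1, 7, true), (1, 3, true), (0, 8, true)], [(1, 22, true), (0, 16, true), (4, 14, true), (3, 23, true), (2, 37, true), (1, 42, true), (3, 36, true), (2, 42, true), (1, 7, true),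 (1, 6, true), (1, 35, true), (3, 22, true), (2, 38, true), (1, 41, true), (0, 8, true), (1, 40, true), (0, 7, true), (1, 36, true), (0, 40, true), (1, 39, true), (0, 7, true), (2, 35, true), (1, 5, true), (0, 42, true), (3, 18, true), (4, 17, true), (3, 31, true), (2, 35, true), (4, 30, true), (3, 4, true), (2, 41, true), (1, 43, true), (0, 44, true), (1, 7, true), (1, 42, true), (3, 39, true), (2, 42, true), (1, 7, true), (1, 6, true), (1, 5, true), (2, 3, true), (1, 44, true), (0, 8, true), (0, 7, true), (4, 13, true), (3, 23, true), (2, 28, true), (1, 41, true), (0, 43, true), (2, 42, true), (1, 7, true), (2, 39, true), (1, 42, true), (2, 6, true), (2, 5, true), (1, 7, true), (1, 27, true), (3, 26, true), (6, 22, true), (5, 29, true), (4, 32, true), (3, 41, true), (2, 43, true), (1, 44, true), (0, 8, true), (0, 7, true), (0, 42, true), (2, 5, true), (1, 42, true), (0, 7, true), (1, 31, true), (2, 3, true), (1, 41, true), (0, 43, true), (2, 42, true), (1, 7, true), (2, 40, true), (1, 42, true), (3, 39, true), (2, 42, true), (1, 7, true), (1, 6, true), (1, 5, true), (2, 27, true),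 (1, 7, true), (2, 26, true), (5, 17, true), (4, 26, true), (3, 31, true), (2, 5, true), (1, 42, true), (3, 3, true), (2, 43, true), (1, 44, true), (0, 8, true), (0, 7, true), (0, 42, true), (1, 6, true), (2, 25, true), (1, 41, true), (0, 44, true), (1, 7, true), (1, 40, true), (2, 39, true), (1, 7, true), (2, 5, true), (1, 42, true), (5, 24, true), (4, 34, true), (3, 37, true), (2, 42, true), (1, 7, true), (2, 36, true), (1, 42, true), (2, 6, true), (2, 35, true), (4, 33, true), (3, 37, true), (2, 40, true), (1, 7, true), (3, 32, true), (2, 38, true), (1, 41, true), (0, 8, true), (1, 40, true), (0, 7, true), (1, 35, true), (0, 5, true), (2, 31, true), (1, 35, true), (3, 3, true), (2, 38, true), (1, 41, true), (0, 44, true), (1, 7, true), (1, 40, true), (3, 37, true), (2, 40, true), (1, 7, true), (2, 36, true), (1, 40, true), (2, 39, true), (1, 7, true), (3, 35, true), (2, 5, true), (1, 42, true), (4, 2, true), (3, 37, true), (2, 42, true), (1, 7, true), (4, 1, true), (3, 34, true), (2, 37, true), (1, 42, true), (3, 36, true), (2, 42, true), (1, 7, true), (1, 6, true), (1, 35, true),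 (3, 33, true), (2, 37, true), (1, 40, true), (4, 32, true), (3, 38, true), (2, 41, true), (1, 44, true), (0, 8, true), (0, 7, true), (0, 40, true), (2, 35, true), (1, 5, true), (0, 7, true), (1, 31, true), (0, 35, true), (3, 9, true), (2, 34, true), (1, 37, true), (0, 40, true), (2, 36, true), (1, 40, true), (0, 7, true), (0, 39, true), (3, 35, true), (2, 5, true), (1, 42, true), (0, 7, true), (2, 31, true), (1, 35, true), (3, 30, true), (2, 4, true), (1, 41, true), (0, 43, true), (2, 42, true), (1, 7, true), (2, 39, true), (1, 42, true), (2, 6, true), (2, 5, true), (1, 7, true), (1, 3, true), (0, 8, true)]),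
  ([0, 1, 8], [(0, 9, true), (4, 16, true), (3, 34, true), (2, 37, true), (1, 40, true), (3, 36, true), (2, 40, true), (1, 7, true), (1, 39, true), (4, 35, true), (3, 5, true), (2, 42, true), (1, 7, true), (3, 32, true), (2, 38, true), (1, 43, true), (0, 8, true), (1, 42, true), (0, 7, true), (1, 35, true), (3, 30, true), (2, 4, true), (1, 41, true), (0, 43, true), (2, 42, true), (1, 7, true), (2, 39, true), (1, 42, true), (2, 6, true), (2, 5, true), (1, 7, true)], [(1, 23, true), (0, 15, true), (4, 14, true), (3, 34, true), (2, 37, true), (1, 42, true), (3, 36, true), (2, 42, true), (1, 7, true), (1, 6, true), (1, 35, true), (3, 33, true), (2, 37, true), (1, 40, true), (4, 3, true), (3, 38, true), (2, 41, true), (1, 44, true), (0, 8, true), (0, 7, true), (0, 40, true), (2, 37, true), (1, 40, true), (0, 7, true), (1, 36, true), (0, 40, true), (1, 39, true), (0, 7, true), (2, 35, true), (1, 5, true), (0, 42, true), (4, 13, true), (3, 29, true), (2, 36, true), (1, 42, true), (0, 7, true), (0, 6, true), (0, 35, true), (3, 28, true), (2, 34, true), (1, 37, true), (0, 40, true), (2, 36,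 true), (1, 40, true), (0, 7, true), (0, 39, true), (3, 35, true), (2, 5, true), (1, 42, true), (0, 7, true), (2, 32, true), (1, 38, true), (0, 43, true), (2, 42, true), (1, 7, true), (2, 35, true), (4, 31, true), (3, 35, true), (2, 5, true), (1, 42, true), (5, 2, true), (4, 33, true), (3, 37, true), (2, 42, true), (1, 7, true), (3, 3, true), (2, 38, true), (1, 43, true), (0, 8, true), (1, 42, true), (0, 7, true), (1, 37, true), (0, 42, true), (2, 36, true), (1, 42, true), (0, 7, true), (0, 6, true), (0, 35, true), (3, 9, true), (2, 23, true), (1, 37, true), (0, 40, true), (2, 36, true), (1, 40, true), (0, 7, true), (0, 39, true), (3, 35, true), (2, 5, true), (1, 42, true), (0, 7, true), (2, 20, true), (1, 38, true), (0, 43, true), (2, 42, true), (1, 7, true), (2, 37, true), (1, 42, true), (3, 36, true), (2, 42, true), (1, 7, true), (1, 6, true), (3, 19, true), (2, 33, true), (1, 37, true), (3, 30, true), (2, 4, true), (1, 44, true), (0, 8, true), (3, 3, true), (2, 41, true), (1, 43, true), (0, 44, true), (1, 7, true), (1, 42, true), (3, 40, true), (2, 42, true), (1, 7, true), (2, 39,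 true), (1, 42, true), (2, 6, true), (2, 5, true), (1, 7, true), (1, 18, true)]),
  ([0, 2, 3], [(0, 10, true), (4, 11, true), (3, 22, true), (2, 38, true), (1, 41, true), (0, 43, true), (2, 42, true), (1, 7, true), (2, 40, true), (1, 42, true), (4, 36, true), (3, 40, true), (2, 42, true), (1, 7, true), (2, 39, true), (1, 42, true), (2, 6, true), (3, 35, true), (2, 5, true), (1, 7, true), (2, 20, true), (1, 38, true), (0, 8, true), (1, 37, true), (0, 7, true), (0, 36, true), (4, 19, true), (3, 33, true), (2, 37, true), (1, 42, true), (0, 7, true), (2, 30, true), (1, 4, true), (0, 43, true), (2, 6, true), (3, 3, true), (2, 41, true), (1, 44, true), (0, 8, true), (0, 7, true), (0, 40, true), (1, 39, true), (0, 7, true), (1, 5, true), (0, 42, true)], [(1, 24, true), (0, 16, true), (4, 15, true), (3, 23, true), (2, 37, true), (1, 42, true), (3, 36, true), (2, 42, true), (1, 7, true), (1, 6, true), (1, 35, true), (3, 21, true), (2, 37, true), (1, 40, true), (3, 36, true), (2, 40, true), (1, 7, true), (1, 39, true), (6, 19, true), (5, 33, true), (4, 37, true), (3, 40, true), (2, 42, true),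 (1, 7, true), (4, 30, true), (3, 4, true), (2, 41, true), (1, 43, true), (0, 8, true), (1, 42, true), (0, 7, true), (1, 39, true), (0, 42, true), (1, 6, true), (1, 5, true), (0, 7, true), (0, 3, true), (4, 18, true), (6, 14, true), (5, 23, true), (4, 33, true), (3, 40, true), (2, 42, true), (1, 7, true), (3, 32, true), (2, 41, true), (1, 43, true), (0, 8, true), (1, 42, true), (0, 7, true), (1, 5, true), (0, 42, true), (2, 31, true), (4, 22, true), (3, 34, true), (2, 40, true), (1, 42, true), (0, 7, true), (1, 39, true), (0, 42, true), (1, 6, true), (1, 5, true), (0, 7, true), (0, 32, true), (2, 31, true), (1, 5, true), (3, 18, true), (2, 3, true), (1, 44, true), (0, 8, true), (0, 7, true), (2, 17, true), (1, 5, true), (0, 42, true), (6, 13, true), (5, 23, true), (4, 28, true), (3, 34, true), (2, 37, true), (1, 42, true), (0, 7, true), (1, 36, true), (0, 42, true), (1, 6, true), (1, 35, true), (3, 32, true), (2, 38, true), (1, 41, true), (0, 44, true), (1, 7, true), (1, 40, true), (3, 35, true), (2, 5, true), (1, 7, true), (2, 31, true), (1, 35, true), (4, 27, true), (3, 33, true),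 (2, 37, true), (1, 40, true), (4, 32, true), (3, 38, true), (2, 41, true), (1, 44, true), (0, 8, true), (0, 7, true), (0, 40, true), (2, 35, true), (1, 5, true), (0, 7, true), (2, 26, true), (1, 31, true), (0, 35, true), (2, 3, true), (1, 38, true), (0, 41, true), (2, 40, true), (1, 7, true), (2, 37, true), (1, 40, true), (3, 36, true), (2, 40, true), (1, 7, true), (1, 39, true), (4, 35, true), (3, 5, true), (2, 42, true), (1, 7, true), (4, 22, true), (3, 29, true), (2, 36, true), (1, 42, true), (2, 6, true), (2, 35, true), (5, 27, true), (4, 33, true), (3, 37, true), (2, 40, true), (1, 7, true), (3, 32, true), (2, 38, true), (1, 41, true), (0, 8, true), (1, 40, true), (0, 7, true), (1, 35, true), (0, 5, true), (3, 26, true), (2, 31, true), (1, 35, true), (3, 3, true), (2, 38, true), (1, 41, true), (0, 44, true), (1, 7, true), (1, 40, true), (3, 37, true), (2, 40, true), (1, 7, true), (2, 36, true), (1, 40, true), (2, 39, true), (1, 7, true), (3, 35, true), (2, 5, true), (1, 42, true), (5, 17, true), (4, 26, true), (3, 35, true), (6, 25, true), (5, 34, true), (4, 37, true), (3, 40,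 true), (2, 42, true), (1, 7, true), (3, 36, true), (2, 40, true), (1, 42, true), (3, 39, true), (2, 42, true), (1, 7, true), (1, 6, true), (2, 35, true), (1, 5, true), (3, 33, true), (2, 37, true), (1, 7, true), (2, 32, true), (1, 38, true), (0, 8, true), (1, 35, true), (3, 31, true), (2, 35, true), (1, 5, true), (0, 7, true), (1, 30, true), (0, 4, true), (3, 3, true), (2, 41, true), (1, 43, true), (0, 8, true), (1, 42, true), (0, 7, true), (1, 40, true), (0, 42, true), (2, 39, true), (1, 42, true), (0, 7, true), (0, 6, true), (0, 5, true), (1, 24, true), (0, 44, true), (1, 7, true), (4, 2, true), (3, 33, true), (2, 40, true), (1, 42, true), (4, 3, true), (3, 41, true), (2, 43, true), (1, 44, true), (0, 8, true), (0, 7, true), (0, 42, true), (2, 40, true), (1, 42, true), (0, 7, true), (1, 39, true), (0, 42, true), (1, 6, true), (1, 5, true), (0, 7, true), (0, 1, true), (4, 11, true), (3, 40, true), (2, 42, true), (1, 7, true), (2, 5, true), (1, 42, true), (4, 10, true), (3, 36, true), (2, 42, true), (1, 7, true), (1, 6, true), (1, 35, true), (2, 4, true), (1, 41, true), (0, 8, true),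 (1, 39, true), (0, 7, true), (1, 5, true), (0, 42, true)]),
  ([0, 2, 4], [(0, 10, true), (4, 12, true), (3, 23, true), (2, 37, true), (1, 40, true), (0, 42, true), (3, 36, true), (2, 40, true), (1, 42, true), (0, 7, true), (1, 39, true), (0, 42, true), (1, 6, true), (2, 35, true), (1, 5, true), (0, 7, true), (1, 22, true), (0, 38, true), (2, 36, true), (1, 7, true), (2, 35, true), (4, 18, true), (5, 17, true), (4, 31, true), (3, 35, true), (2, 5, true), (1, 42, true), (4, 30, true), (3, 4, true), (2, 43, true), (1, 44, true), (0, 8, true), (0, 7, true), (0, 6, true), (1, 3, true), (0, 41, true), (2, 40, true), (1, 7, true), (1, 39, true), (3, 5, true), (2, 42, true), (1, 7, true), (3, 1, true), (2, 29, true), (1, 6, true), (3, 28, true), (2, 34, true), (1, 40, true), (2, 39, true), (1, 7, true), (2, 5, true), (1, 42, true), (3, 32, true), (2, 43, true), (1, 44, true), (0, 8, true), (0, 7, true), (2, 31, true), (1, 5, true), (0, 42, true), (3, 27, true), (2, 33, true), (1, 42, true), (0, 7, true), (1, 32, true), (0, 43, true), (5, 26, true), (4, 31, true), (3, 5, true), (2, 42, true),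 (1, 7, true), (2, 3, true), (1, 43, true), (0, 8, true), (1, 42, true), (0, 7, true), (0, 6, true)], [(1, 25, true), (0, 16, true), (4, 15, true), (3, 23, true), (2, 37, true), (1, 42, true), (3, 36, true), (2, 42, true), (1, 7, true), (1, 6, true), (1, 35, true), (3, 21, true), (2, 37, true), (1, 40, true), (3, 36, true), (2, 40, true), (1, 7, true), (1, 39, true), (6, 19, true), (5, 33, true), (4, 37, true), (3, 40, true), (2, 42, true), (1, 7, true), (4, 30, true), (3, 4, true), (2, 41, true), (1, 43, true), (0, 8, true), (1, 42, true), (0, 7, true), (1, 39, true), (0, 42, true), (1, 6, true), (1, 5, true), (0, 7, true), (0, 3, true), (4, 18, true), (6, 14, true), (5, 23, true), (4, 33, true), (3, 40, true), (2, 42, true), (1, 7, true), (3, 32, true), (2, 41, true), (1, 43, true), (0, 8, true), (1, 42, true), (0, 7, true), (1, 5, true), (0, 42, true), (2, 31, true), (4, 22, true), (3, 34, true), (2, 40, true), (1, 42, true), (0, 7, true), (1, 39, true), (0, 42, true), (1, 6, true), (1, 5, true), (0, 7, true), (0, 32, true), (2, 31, true), (1, 5, true), (3, 18, true), (2, 3, true),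 (1, 44, true), (0, 8, true), (0, 7, true), (2, 17, true), (1, 5, true), (0, 42, true), (6, 13, true), (5, 23, true), (4, 28, true), (3, 34, true), (2, 37, true), (1, 42, true), (0, 7, true), (1, 36, true), (0, 42, true), (1, 6, true), (1, 35, true), (3, 32, true), (2, 38, true), (1, 41, true), (0, 44, true), (1, 7, true), (1, 40, true), (3, 35, true), (2, 5, true), (1, 7, true), (2, 31, true), (1, 35, true), (4, 27, true), (3, 33, true), (2, 37, true), (1, 40, true), (4, 32, true), (3, 38, true), (2, 41, true), (1, 44, true), (0, 8, true), (0, 7, true), (0, 40, true), (2, 35, true), (1, 5, true), (0, 7, true), (2, 26, true), (1, 31, true), (0, 35, true), (2, 3, true), (1, 38, true), (0, 41, true), (2, 40, true), (1, 7, true), (2, 37, true), (1, 40, true), (3, 36, true), (2, 40, true), (1, 7, true), (1, 39, true), (4, 35, true), (3, 5, true), (2, 42, true), (1, 7, true), (4, 22, true), (3, 29, true), (2, 36, true), (1, 42, true), (2, 6, true), (2, 35, true), (5, 27, true), (4, 33, true), (3, 37, true), (2, 40, true), (1, 7, true), (3, 32, true), (2, 38, true), (1, 41, true), (0, 8,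 true), (1, 40, true), (0, 7, true), (1, 35, true), (0, 5, true), (3, 26, true), (2, 31, true), (1, 35, true), (3, 3, true), (2, 38, true), (1, 41, true), (0, 44, true), (1, 7, true), (1, 40, true), (3, 37, true), (2, 40, true), (1, 7, true), (2, 36, true), (1, 40, true), (2, 39, true), (1, 7, true), (3, 35, true), (2, 5, true), (1, 42, true), (5, 17, true), (4, 26, true), (3, 35, true), (6, 25, true), (5, 34, true), (4, 37, true), (3, 40, true), (2, 42, true), (1, 7, true), (3, 36, true), (2, 40, true), (1, 42, true), (3, 39, true), (2, 42, true), (1, 7, true), (1, 6, true), (2, 35, true), (1, 5, true), (3, 33, true), (2, 37, true), (1, 7, true), (2, 32, true), (1, 38, true), (0, 8, true), (1, 35, true), (3, 31, true), (2, 35, true), (1, 5, true), (0, 7, true), (1, 30, true), (0, 4, true), (3, 3, true), (2, 41, true), (1, 43, true), (0, 8, true), (1, 42, true), (0, 7, true), (1, 40, true), (0, 42, true), (2, 39, true), (1, 42, true), (0, 7, true), (0, 6, true), (0, 5, true), (1, 24, true), (0, 44, true), (1, 7, true), (4, 2, true), (3, 33, true), (2, 40, true), (1, 42, true), (4, 3,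 true), (3, 41, true), (2, 43, true), (1, 44, true), (0, 8, true), (0, 7, true), (0, 42, true), (2, 40, true), (1, 42, true), (0, 7, true), (1, 39, true), (0, 42, true), (1, 6, true), (1, 5, true), (0, 7, true), (0, 1, true), (4, 12, true), (3, 41, true), (2, 43, true), (1, 44, true), (0, 8, true), (0, 7, true), (0, 42, true), (2, 40, true), (1, 42, true), (0, 7, true), (5, 11, true), (4, 22, true), (3, 29, true), (2, 32, true), (1, 41, true), (0, 43, true), (2, 42, true), (1, 7, true), (2, 5, true), (1, 42, true), (3, 31, true), (4, 3, true), (3, 41, true), (2, 43, true), (1, 44, true), (0, 8, true), (0, 7, true), (0, 42, true), (2, 40, true), (1, 42, true), (0, 7, true), (1, 39, true), (0, 42, true), (1, 6, true), (1, 5, true), (0, 7, true), (0, 27, true), (2, 26, true), (5, 20, true), (4, 29, true), (3, 32, true), (2, 41, true), (1, 43, true), (0, 44, true), (1, 7, true), (1, 42, true), (3, 5, true), (2, 42, true), (1, 7, true), (2, 31, true), (3, 3, true), (2, 41, true), (1, 43, true), (0, 8, true), (1, 42, true), (0, 7, true), (1, 40, true), (0, 42, true), (2, 39, true), (1, 42,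 true), (0, 7, true), (0, 6, true), (0, 5, true), (1, 28, true), (0, 44, true), (4, 27, true), (3, 40, true), (2, 42, true), (1, 7, true), (2, 39, true), (1, 42, true), (2, 6, true), (3, 24, true), (2, 41, true), (1, 44, true), (0, 8, true), (0, 7, true), (0, 40, true), (1, 39, true), (0, 7, true), (1, 5, true), (0, 42, true), (4, 19, true), (3, 28, true), (2, 34, true), (1, 42, true), (0, 7, true), (0, 6, true), (1, 32, true), (0, 41, true), (2, 5, true), (1, 7, true), (1, 31, true), (3, 25, true), (2, 34, true), (1, 40, true), (2, 39, true), (1, 7, true), (2, 5, true), (1, 42, true), (3, 33, true), (2, 42, true), (1, 7, true), (2, 32, true), (1, 43, true), (0, 8, true), (3, 31, true), (2, 5, true), (1, 42, true), (0, 7, true), (1, 30, true), (2, 3, true), (1, 38, true), (0, 43, true), (2, 42, true), (1, 7, true), (2, 37, true), (1, 42, true), (3, 36, true), (2, 42, true), (1, 7, true), (1, 6, true), (1, 35, true), (3, 24, true), (2, 38, true), (1, 41, true), (0, 8, true), (1, 40, true), (0, 7, true), (1, 37, true), (0, 40, true), (2, 36, true), (1, 40, true), (0, 7, true), (0, 39,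 true), (3, 35, true), (2, 5, true), (1, 42, true), (0, 7, true), (5, 10, true), (4, 21, true), (3, 28, true), (2, 34, true), (1, 37, true), (0, 42, true), (2, 36, true), (1, 42, true), (0, 7, true), (0, 6, true), (0, 35, true), (2, 32, true), (1, 38, true), (0, 41, true), (2, 40, true), (1, 7, true), (2, 35, true), (1, 5, true), (3, 31, true), (2, 35, true), (5, 27, true), (4, 33, true), (3, 37, true), (2, 40, true), (1, 7, true), (3, 32, true), (2, 38, true), (1, 41, true), (0, 8, true), (1, 40, true), (0, 7, true), (1, 35, true), (0, 5, true), (3, 24, true), (2, 34, true), (1, 37, true), (0, 7, true), (0, 36, true), (2, 35, true), (4, 33, true), (3, 37, true), (2, 40, true), (1, 42, true), (0, 7, true), (3, 32, true), (2, 38, true), (1, 41, true), (0, 43, true), (2, 42, true), (1, 7, true), (2, 40, true), (1, 42, true), (4, 35, true), (3, 5, true), (2, 42, true), (1, 7, true), (3, 31, true), (2, 35, true), (4, 3, true), (3, 38, true), (2, 41, true), (1, 43, true), (0, 8, true), (1, 42, true), (0, 7, true), (1, 40, true), (0, 42, true), (3, 37, true), (2, 40, true), (1, 42, true),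 (0, 7, true), (2, 36, true), (1, 40, true), (0, 42, true), (2, 39, true), (1, 42, true), (0, 7, true), (0, 6, true), (1, 35, true), (0, 5, true), (3, 20, true), (2, 29, true), (1, 36, true), (0, 7, true), (1, 35, true), (4, 28, true), (3, 34, true), (2, 37, true), (1, 40, true), (0, 42, true), (3, 36, true), (2, 40, true), (1, 42, true), (0, 7, true), (1, 39, true), (0, 42, true), (1, 6, true), (2, 35, true), (1, 5, true), (0, 7, true), (1, 32, true), (0, 38, true), (2, 35, true), (4, 31, true), (3, 35, true), (2, 5, true), (1, 7, true), (3, 27, true), (2, 33, true), (1, 37, true), (3, 32, true), (2, 38, true), (1, 44, true), (0, 8, true), (0, 7, true), (0, 35, true), (3, 24, true), (2, 34, true), (1, 37, true), (0, 40, true), (2, 36, true), (1, 40, true), (0, 7, true), (0, 39, true), (3, 35, true), (2, 5, true), (1, 42, true), (0, 7, true), (2, 33, true), (1, 37, true), (0, 42, true), (3, 32, true), (2, 38, true), (1, 43, true), (0, 44, true), (1, 7, true), (1, 42, true), (3, 35, true), (5, 31, true), (4, 35, true), (3, 5, true), (2, 42, true), (1, 7, true), (3, 3, true), (2, 38,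 true), (1, 43, true), (0, 8, true), (1, 42, true), (0, 7, true), (1, 37, true), (0, 42, true), (2, 36, true), (1, 42, true), (0, 7, true), (0, 6, true), (0, 35, true), (3, 19, true), (2, 28, true), (1, 38, true), (0, 41, true), (2, 40, true), (1, 7, true), (2, 36, true), (1, 40, true), (2, 39, true), (1, 7, true), (3, 35, true), (2, 5, true), (1, 42, true), (4, 25, true), (3, 38, true), (2, 43, true), (1, 44, true), (0, 8, true), (0, 7, true), (0, 42, true), (2, 37, true), (1, 42, true), (0, 7, true), (1, 36, true), (0, 42, true), (1, 6, true), (1, 35, true), (2, 4, true), (1, 41, true), (0, 44, true), (1, 7, true), (1, 39, true), (3, 5, true), (2, 42, true), (1, 7, true), (3, 24, true), (2, 34, true), (1, 42, true), (2, 6, true), (3, 33, true), (2, 40, true), (1, 7, true), (2, 32, true), (1, 41, true), (0, 8, true), (1, 5, true), (0, 7, true), (0, 31, true), (1, 3, true), (0, 41, true), (2, 40, true), (1, 7, true), (1, 39, true), (3, 5, true), (2, 42, true), (1, 7, true), (3, 1, true), (2, 29, true), (1, 6, true), (3, 28, true), (2, 34, true), (1, 40, true), (2, 39, true), (1, 7,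 true), (2, 5, true), (1, 42, true), (3, 32, true), (2, 43, true), (1, 44, true), (0, 8, true), (0, 7, true), (2, 31, true), (1, 5, true), (0, 42, true), (3, 27, true), (2, 33, true), (1, 42, true), (0, 7, true), (1, 32, true), (0, 43, true), (5, 26, true), (4, 31, true), (3, 5, true), (2, 42, true), (1, 7, true), (2, 3, true), (1, 43, true), (0, 8, true), (1, 42, true), (0, 7, true), (0, 6, true)]),
  ([0, 2, 5], [(0, 10, true), (4, 13, true), (3, 23, true), (2, 37, true), (1, 40, true), (0, 42, true), (3, 36, true), (2, 40, true), (1, 42, true), (0, 7, true), (1, 39, true), (0, 42, true), (1, 6, true), (2, 35, true), (1, 5, true), (0, 7, true), (1, 22, true), (0, 38, true), (2, 36, true), (1, 7, true), (2, 35, true), (4, 17, true), (3, 35, true), (2, 5, true), (1, 42, true), (3, 4, true), (2, 43, true), (1, 44, true), (0, 8, true), (0, 7, true), (0, 6, true), (3, 1, true), (2, 29, true), (1, 32, true), (0, 41, true), (2, 5, true), (1, 7, true), (1, 31, true), (2, 3, true), (1, 41, true), (0, 8, true), (1, 40, true), (0, 7, true), (0, 39, true), (2, 5, true), (1, 42, true), (0, 7,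 true), (1, 28, true), (0, 43, true), (2, 6, true), (3, 27, true), (2, 40, true), (1, 7, true), (1, 39, true), (4, 26, true), (3, 5, true), (2, 42, true), (1, 7, true)], [(1, 26, true), (0, 13, true), (4, 11, true), (3, 22, true), (2, 29, true), (5, 27, true), (4, 33, true), (3, 40, true), (2, 42, true), (1, 7, true), (3, 32, true), (2, 41, true), (1, 43, true), (0, 8, true), (1, 42, true), (0, 7, true), (1, 5, true), (0, 42, true), (3, 26, true), (2, 31, true), (3, 3, true), (2, 41, true), (1, 43, true), (0, 44, true), (1, 7, true), (1, 42, true), (3, 40, true), (2, 42, true), (1, 7, true), (2, 39, true), (1, 42, true), (2, 6, true), (2, 5, true), (1, 7, true), (2, 20, true), (1, 29, true), (4, 28, true), (3, 34, true), (2, 40, true), (1, 42, true), (3, 39, true), (2, 42, true), (1, 7, true), (1, 6, true), (1, 5, true), (2, 32, true), (1, 44, true), (0, 8, true), (2, 31, true), (1, 5, true), (0, 7, true), (1, 27, true), (0, 33, true), (1, 32, true), (0, 44, true), (4, 24, true), (3, 34, true), (2, 40, true), (1, 7, true), (1, 39, true), (3, 5, true), (2, 42, true), (1, 7, true), (2,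 33, true), (1, 42, true), (3, 32, true), (2, 43, true), (1, 44, true), (0, 8, true), (0, 7, true), (2, 31, true), (1, 5, true), (0, 42, true), (2, 3, true), (1, 43, true), (0, 44, true), (1, 7, true), (1, 42, true), (2, 6, true), (4, 19, true), (3, 28, true), (2, 41, true), (1, 44, true), (0, 8, true), (0, 7, true), (0, 39, true), (2, 5, true), (1, 42, true), (0, 7, true), (1, 25, true), (0, 43, true), (2, 42, true), (1, 7, true), (1, 6, true), (4, 24, true), (3, 34, true), (2, 37, true), (1, 40, true), (3, 36, true), (2, 40, true), (1, 7, true), (1, 39, true), (4, 35, true), (3, 5, true), (2, 42, true), (1, 7, true), (3, 33, true), (2, 37, true), (1, 42, true), (4, 32, true), (3, 38, true), (2, 43, true), (1, 44, true), (0, 8, true), (0, 7, true), (0, 42, true), (2, 35, true), (4, 31, true), (3, 35, true), (2, 5, true), (1, 42, true), (0, 7, true), (2, 3, true), (1, 38, true), (0, 43, true), (2, 42, true), (1, 7, true), (2, 37, true), (1, 42, true), (3, 36, true), (2, 42, true), (1, 7, true), (1, 6, true), (1, 35, true), (5, 10, true), (4, 21, true), (3, 28, true), (2, 38, true),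 (1, 41, true), (0, 8, true), (1, 40, true), (0, 7, true), (1, 36, true), (0, 40, true), (1, 39, true), (0, 7, true), (2, 35, true), (1, 5, true), (0, 42, true), (3, 27, true), (2, 37, true), (1, 42, true), (0, 7, true), (1, 36, true), (0, 42, true), (1, 6, true), (2, 24, true), (1, 38, true), (0, 44, true), (1, 7, true), (1, 37, true), (2, 36, true), (1, 7, true), (2, 35, true), (6, 20, true), (5, 29, true), (4, 32, true), (3, 38, true), (2, 41, true), (1, 43, true), (0, 8, true), (1, 42, true), (0, 7, true), (1, 40, true), (0, 42, true), (3, 35, true), (2, 5, true), (1, 42, true), (0, 7, true), (2, 31, true), (1, 35, true), (3, 3, true), (2, 38, true), (1, 41, true), (0, 43, true), (2, 42, true), (1, 7, true), (2, 40, true), (1, 42, true), (4, 37, true), (3, 40, true), (2, 42, true), (1, 7, true), (3, 36, true), (2, 40, true), (1, 42, true), (3, 39, true), (2, 42, true), (1, 7, true), (1, 6, true), (2, 35, true), (1, 5, true), (3, 28, true), (2, 38, true), (1, 44, true), (0, 8, true), (0, 7, true), (0, 36, true), (2, 35, true), (4, 27, true), (3, 37, true), (2, 40, true), (1, 42,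 true), (0, 7, true), (2, 36, true), (1, 40, true), (0, 42, true), (2, 39, true), (1, 42, true), (0, 7, true), (0, 6, true), (2, 24, true), (1, 38, true), (0, 41, true), (2, 40, true), (1, 7, true), (2, 37, true), (1, 40, true), (3, 36, true), (2, 40, true), (1, 7, true), (1, 39, true), (4, 35, true), (3, 5, true), (2, 42, true), (1, 7, true), (5, 19, true), (4, 28, true), (3, 34, true), (2, 37, true), (1, 42, true), (3, 36, true), (2, 42, true), (1, 7, true), (1, 6, true), (1, 35, true), (3, 32, true), (2, 38, true), (1, 41, true), (0, 8, true), (1, 40, true), (0, 7, true), (1, 35, true), (0, 5, true), (2, 31, true), (1, 35, true), (4, 25, true), (3, 34, true), (2, 37, true), (1, 40, true), (0, 7, true), (1, 36, true), (0, 40, true), (1, 39, true), (0, 7, true), (2, 35, true), (1, 5, true), (0, 42, true), (3, 33, true), (2, 37, true), (1, 42, true), (0, 7, true), (2, 32, true), (1, 38, true), (0, 43, true), (2, 42, true), (1, 7, true), (2, 35, true), (4, 31, true), (3, 35, true), (2, 5, true), (1, 42, true), (4, 30, true), (3, 4, true), (2, 43, true), (1, 44, true), (0, 8, true), (0,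 7, true), (0, 6, true), (1, 3, true), (0, 41, true), (2, 40, true), (1, 7, true), (1, 39, true), (3, 5, true), (2, 42, true), (1, 7, true), (2, 24, true), (1, 43, true), (0, 8, true), (1, 42, true), (0, 7, true), (0, 6, true), (3, 1, true), (2, 29, true), (1, 32, true), (0, 41, true), (2, 5, true), (1, 7, true), (1, 31, true), (2, 3, true), (1, 41, true), (0, 8, true), (1, 40, true), (0, 7, true), (0, 39, true), (2, 5, true), (1, 42, true), (0, 7, true), (1, 28, true), (0, 43, true), (2, 6, true), (3, 27, true), (2, 40, true), (1, 7, true), (1, 39, true), (4, 26, true), (3, 5, true), (2, 42, true), (1, 7, true)]),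
  ([0, 2, 6], [(0, 10, true), (4, 14, true), (3, 23, true), (2, 37, true), (1, 40, true), (0, 42, true), (3, 36, true), (2, 40, true), (1, 42, true), (0, 7, true), (1, 39, true), (0, 42, true), (1, 6, true), (2, 35, true), (1, 5, true), (0, 7, true), (1, 22, true), (0, 38, true), (2, 36, true), (1, 7, true), (2, 35, true), (4, 18, true), (5, 17, true), (4, 31, true), (3, 35, true), (2, 5, true), (1, 42, true), (4, 30, true), (3, 4, true), (2, 43, true), (1, 44, true), (0, 8, true), (0, 7, true), (0, 6, true), (1, 3, true), (0, 41, true), (2, 40, true), (1, 7, true), (1, 39, true), (3, 5, true), (2, 42, true), (1, 7, true)], [(1, 27, true), (0, 15, true), (4, 14, true), (3, 34, true), (2, 37, true), (1, 42, true), (3, 36, true), (2, 42, true), (1, 7, true), (1, 6, true), (1, 35, true), (3, 33, true), (2, 37, true), (1, 40, true), (4, 3, true), (3, 38, true), (2, 41, true), (1, 44, true), (0, 8, true), (0, 7, true), (0, 40, true), (2, 37, true), (1, 40, true), (0, 7, true), (1, 36, true), (0, 40, true), (1, 39, true), (0, 7, true), (2, 35, true), (1, 5, true), (0, 42, true), (4, 10,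 true), (3, 27, true), (2, 37, true), (1, 42, true), (0, 7, true), (1, 36, true), (0, 42, true), (1, 6, true), (2, 26, true), (1, 35, true), (4, 25, true), (3, 34, true), (2, 37, true), (1, 40, true), (0, 7, true), (1, 36, true), (0, 40, true), (1, 39, true), (0, 7, true), (2, 35, true), (1, 5, true), (0, 42, true), (3, 33, true), (2, 37, true), (1, 42, true), (0, 7, true), (2, 32, true), (1, 38, true), (0, 43, true), (2, 42, true), (1, 7, true), (2, 35, true), (4, 31, true), (3, 35, true), (2, 5, true), (1, 42, true), (4, 30, true), (3, 4, true), (2, 43, true), (1, 44, true), (0, 8, true), (0, 7, true), (0, 6, true), (1, 3, true), (0, 41, true), (2, 40, true), (1, 7, true), (1, 39, true), (3, 5, true), (2, 42, true), (1, 7, true)]),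
  ([0, 2, 7], [(0, 10, true), (4, 15, true), (3, 23, true), (2, 37, true), (1, 40, true), (0, 42, true), (3, 36, true), (2, 40, true), (1, 42, true), (0, 7, true), (1, 39, true), (0, 42, true), (1, 6, true), (2, 35, true), (1, 5, true), (0, 7, true), (1, 21, true), (0, 37, true), (1, 36, true), (0, 7, true), (3, 19, true), (2, 33, true), (1, 37, true), (0, 42, true), (3, 30, true), (2, 4, true), (1, 43, true), (0, 44, true), (1, 7, true), (1, 6, true), (2, 3, true), (1, 41, true), (0, 8, true), (1, 40, true), (0, 7, true), (0, 39, true), (2, 5, true), (1, 42, true), (0, 7, true), (1, 18, true)], [(1, 28, true), (0, 16, true), (4, 14, true), (3, 23, true), (2, 37, true), (1, 42, true), (3, 36, true), (2, 42, true), (1, 7, true), (1, 6, true), (1, 35, true), (3, 22, true), (2, 38, true), (1, 41, true), (0, 8, true), (1, 40, true), (0, 7, true), (1, 36, true), (0, 40, true), (1, 39, true), (0, 7, true), (2, 35, true), (1, 5, true), (0, 42, true), (3, 18, true), (4, 17, true), (3, 31, true), (2, 35, true), (4, 30, true), (3, 4, true), (2, 41, true), (1, 43, true), (0, 44, true), (1, 7,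 true), (1, 42, true), (3, 39, true), (2, 42, true), (1, 7, true), (1, 6, true), (1, 5, true), (2, 3, true), (1, 44, true), (0, 8, true), (0, 7, true), (4, 13, true), (3, 23, true), (2, 28, true), (1, 41, true), (0, 43, true), (2, 42, true), (1, 7, true), (2, 39, true), (1, 42, true), (2, 6, true), (2, 5, true), (1, 7, true), (1, 27, true), (3, 26, true), (6, 22, true), (5, 29, true), (4, 32, true), (3, 41, true), (2, 43, true), (1, 44, true), (0, 8, true), (0, 7, true), (0, 42, true), (2, 5, true), (1, 42, true), (0, 7, true), (1, 31, true), (2, 3, true), (1, 41, true), (0, 43, true), (2, 42, true), (1, 7, true), (2, 40, true), (1, 42, true), (3, 39, true), (2, 42, true), (1, 7, true), (1, 6, true), (1, 5, true), (2, 27, true), (1, 7, true), (2, 26, true), (5, 17, true), (4, 26, true), (3, 31, true), (2, 5, true), (1, 42, true), (3, 3, true), (2, 43, true), (1, 44, true), (0, 8, true), (0, 7, true), (0, 42, true), (1, 6, true), (2, 25, true), (1, 41, true), (0, 44, true), (1, 7, true), (1, 40, true), (2, 39, true), (1, 7, true), (2, 5, true), (1, 42, true), (5, 24, true), (4, 34, true),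 (3, 37, true), (2, 42, true), (1, 7, true), (2, 36, true), (1, 42, true), (2, 6, true), (2, 35, true), (4, 33, true), (3, 37, true), (2, 40, true), (1, 7, true), (3, 32, true), (2, 38, true), (1, 41, true), (0, 8, true), (1, 40, true), (0, 7, true), (1, 35, true), (0, 5, true), (2, 31, true), (1, 35, true), (3, 3, true), (2, 38, true), (1, 41, true), (0, 44, true), (1, 7, true), (1, 40, true), (3, 37, true), (2, 40, true), (1, 7, true), (2, 36, true), (1, 40, true), (2, 39, true), (1, 7, true), (3, 35, true), (2, 5, true), (1, 42, true), (4, 2, true), (3, 37, true), (2, 42, true), (1, 7, true), (4, 1, true), (3, 34, true), (2, 37, true), (1, 42, true), (3, 36, true), (2, 42, true), (1, 7, true), (1, 6, true), (1, 35, true), (3, 33, true), (2, 37, true), (1, 40, true), (4, 32, true), (3, 38, true), (2, 41, true), (1, 44, true), (0, 8, true), (0, 7, true), (0, 40, true), (2, 35, true), (1, 5, true), (0, 7, true), (1, 31, true), (0, 35, true), (3, 10, true), (2, 32, true), (1, 38, true), (0, 41, true), (2, 40, true), (1, 7, true), (2, 35, true), (1, 5, true), (3, 31, true), (2, 35, true),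 (4, 30, true), (3, 4, true), (2, 41, true), (1, 44, true), (0, 8, true), (0, 7, true), (0, 39, true), (2, 5, true), (1, 42, true), (0, 7, true)]),
  ([0, 2, 8], [(0, 10, true), (4, 16, true), (3, 23, true), (2, 37, true), (1, 40, true), (0, 42, true), (3, 36, true), (2, 40, true), (1, 42, true), (0, 7, true), (1, 39, true), (0, 42, true), (1, 6, true), (2, 35, true), (1, 5, true), (0, 7, true), (1, 21, true), (0, 37, true), (1, 36, true), (0, 7, true), (3, 19, true), (2, 33, true), (1, 37, true), (0, 42, true), (3, 30, true), (2, 4, true), (1, 43, true), (0, 44, true), (1, 7, true), (1, 6, true), (2, 3, true), (1, 41, true), (0, 8, true), (1, 40, true), (0, 7, true), (0, 39, true), (2, 5, true), (1, 42, true), (0, 7, true), (1, 1, true), (0, 43, true), (2, 42, true), (1, 7, true), (1, 6, true)], [(1, 29, true), (0, 14, true), (4, 13, true), (3, 29, true), (2, 32, true), (1, 44, true), (0, 8, true), (2, 31, true), (1, 5, true), (0, 7, true), (0, 3, true), (4, 28, true), (3, 41, true), (2, 43, true), (1, 44, true), (0, 8, true), (0, 7, true), (0, 42, true), (2, 39, true), (1, 42, true),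 (0, 7, true), (0, 6, true), (0, 5, true), (1, 2, true), (0, 7, true), (2, 11, true), (1, 22, true), (0, 34, true), (3, 32, true), (2, 41, true), (1, 43, true), (0, 44, true), (1, 7, true), (1, 42, true), (3, 5, true), (2, 42, true), (1, 7, true), (2, 31, true), (4, 20, true), (3, 34, true), (2, 40, true), (1, 42, true), (3, 39, true), (2, 42, true), (1, 7, true), (1, 6, true), (1, 5, true), (2, 33, true), (1, 7, true), (1, 32, true), (0, 8, true), (1, 3, true), (0, 41, true), (2, 40, true), (1, 7, true), (1, 39, true), (3, 5, true), (2, 42, true), (1, 7, true), (2, 19, true), (1, 42, true), (6, 10, true), (5, 21, true), (4, 33, true), (3, 37, true), (2, 42, true), (1, 7, true), (3, 32, true), (2, 38, true), (1, 43, true), (0, 8, true), (1, 42, true), (0, 7, true), (1, 35, true), (3, 3, true), (2, 38, true), (1, 41, true), (0, 43, true), (2, 42, true), (1, 7, true), (2, 40, true), (1, 42, true), (4, 37, true), (3, 40, true), (2, 42, true), (1, 7, true), (3, 36, true), (2, 40, true), (1, 42, true), (3, 39, true), (2, 42, true), (1, 7, true), (1, 6, true), (2, 35, true), (1, 5, true),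 (3, 20, true), (2, 38, true), (1, 44, true), (0, 8, true), (0, 7, true), (0, 37, true), (1, 36, true), (0, 7, true), (3, 19, true), (2, 33, true), (1, 37, true), (0, 42, true), (3, 30, true), (2, 4, true), (1, 43, true), (0, 44, true), (1, 7, true), (1, 6, true), (2, 3, true), (1, 41, true), (0, 8, true), (1, 40, true), (0, 7, true), (0, 39, true), (2, 5, true), (1, 42, true), (0, 7, true), (1, 1, true), (0, 43, true), (2, 42, true), (1, 7, true), (1, 6, true)]),
  ([0, 3, 4], [(0, 11, true), (3, 12, true), (2, 38, true), (1, 41, true), (0, 44, true), (1, 7, true), (1, 40, true), (3, 37, true), (2, 40, true), (1, 7, true)], [(1, 30, true), (0, 12, true), (5, 11, true), (4, 22, true), (3, 29, true), (2, 32, true), (1, 44, true), (0, 8, true), (2, 31, true), (1, 5, true), (0, 7, true), (0, 3, true), (4, 27, true), (3, 40, true), (2, 42, true), (1, 7, true), (2, 39, true), (1, 42, true), (2, 6, true), (3, 26, true), (2, 5, true), (1, 7, true), (3, 20, true), (2, 29, true), (1, 32, true), (0, 8, true), (1, 31, true), (0, 5, true), (1, 3, true), (0, 44, true), (1, 7, true), (3, 28, true),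 (2, 41, true), (1, 43, true), (0, 8, true), (1, 42, true), (0, 7, true), (1, 39, true), (0, 42, true), (1, 6, true), (1, 5, true), (0, 7, true), (0, 27, true), (2, 24, true), (1, 43, true), (0, 44, true), (1, 7, true), (1, 42, true), (2, 6, true), (5, 19, true), (4, 28, true), (3, 34, true), (2, 40, true), (1, 7, true), (1, 39, true), (3, 5, true), (2, 42, true), (1, 7, true), (2, 32, true), (1, 43, true), (0, 8, true), (3, 31, true), (2, 5, true), (1, 42, true), (0, 7, true), (2, 25, true), (1, 34, true), (0, 42, true), (1, 6, true), (2, 33, true), (1, 40, true), (0, 7, true), (1, 32, true), (0, 41, true), (2, 5, true), (1, 7, true), (1, 31, true), (2, 30, true), (3, 3, true), (2, 38, true), (1, 41, true), (0, 8, true), (1, 40, true), (0, 7, true), (1, 37, true), (0, 40, true), (2, 36, true), (1, 40, true), (0, 7, true), (0, 39, true), (3, 35, true), (2, 5, true), (1, 42, true), (0, 7, true), (2, 24, true), (1, 38, true), (0, 43, true), (2, 42, true), (1, 7, true), (2, 37, true), (1, 42, true), (3, 36, true), (2, 42, true), (1, 7, true), (1, 6, true), (1, 35, true)]),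
  ([0, 3, 5], [(0, 11, true), (3, 13, true), (2, 38, true), (1, 41, true), (0, 44, true), (1, 7, true), (1, 40, true), (3, 37, true), (2, 40, true), (1, 7, true)], [(1, 31, true), (0, 13, true), (4, 11, true), (3, 22, true), (2, 29, true), (5, 27, true), (4, 33, true), (3, 40, true), (2, 42, true), (1, 7, true), (3, 32, true), (2, 41, true), (1, 43, true), (0, 8, true), (1, 42, true), (0, 7, true), (1, 5, true), (0, 42, true), (3, 26, true), (2, 31, true), (3, 3, true), (2, 41, true), (1, 43, true), (0, 44, true), (1, 7, true), (1, 42, true), (3, 40, true), (2, 42, true), (1, 7, true), (2, 39, true), (1, 42, true), (2, 6, true), (2, 5, true), (1, 7, true), (2, 20, true), (1, 29, true), (4, 28, true), (3, 34, true), (2, 40, true), (1, 42, true), (3, 39, true), (2, 42, true), (1, 7, true), (1, 6, true), (1, 5, true), (2, 32, true), (1, 44, true), (0, 8, true), (2, 31, true), (1, 5, true), (0, 7, true), (1, 27, true), (0, 33, true), (1, 32, true), (0, 44, true), (4, 24, true), (3, 34, true), (2, 40, true), (1, 7, true), (1, 39, true), (3, 5, true), (2, 42, true), (1, 7, true), (2, 33,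 true), (1, 42, true), (3, 32, true), (2, 43, true), (1, 44, true), (0, 8, true), (0, 7, true), (2, 31, true), (1, 5, true), (0, 42, true), (2, 3, true), (1, 43, true), (0, 44, true), (1, 7, true), (1, 42, true), (2, 6, true), (4, 19, true), (3, 28, true), (2, 41, true), (1, 44, true), (0, 8, true), (0, 7, true), (0, 39, true), (2, 5, true), (1, 42, true), (0, 7, true), (1, 25, true), (0, 43, true), (2, 42, true), (1, 7, true), (1, 6, true), (4, 24, true), (3, 34, true), (2, 37, true), (1, 40, true), (3, 36, true), (2, 40, true), (1, 7, true), (1, 39, true), (4, 35, true), (3, 5, true), (2, 42, true), (1, 7, true), (3, 33, true), (2, 37, true), (1, 42, true), (4, 32, true), (3, 38, true), (2, 43, true), (1, 44, true), (0, 8, true), (0, 7, true), (0, 42, true), (2, 35, true), (4, 31, true), (3, 35, true), (2, 5, true), (1, 42, true), (0, 7, true), (2, 3, true), (1, 38, true), (0, 43, true), (2, 42, true), (1, 7, true), (2, 37, true), (1, 42, true), (3, 36, true), (2, 42, true), (1, 7, true), (1, 6, true), (1, 35, true)]),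
  ([0, 3, 6], [(0, 11, true), (3, 14, true), (2, 38, true), (1, 41, true), (0, 44, true), (1, 7, true), (1, 40, true), (3, 37, true), (2, 40, true), (1, 7, true)], [(1, 32, true), (0, 16, true), (4, 13, true), (3, 23, true), (2, 37, true), (1, 42, true), (3, 36, true), (2, 42, true), (1, 7, true), (1, 6, true), (1, 35, true), (3, 22, true), (2, 38, true), (1, 41, true), (0, 8, true), (1, 40, true), (0, 7, true), (1, 36, true), (0, 40, true), (1, 39, true), (0, 7, true), (2, 35, true), (1, 5, true), (0, 42, true), (3, 17, true), (2, 35, true), (3, 4, true), (2, 41, true), (1, 43, true), (0, 44, true), (1, 7, true), (1, 42, true), (3, 39, true), (2, 42, true), (1, 7, true), (1, 6, true), (1, 5, true), (4, 1, true), (3, 29, true), (2, 32, true), (1, 44, true), (0, 8, true), (2, 31, true), (1, 5, true), (0, 7, true), (0, 3, true), (4, 28, true), (3, 41, true), (2, 43, true), (1, 44, true), (0, 8, true), (0, 7, true), (0, 42, true), (2, 39, true), (1, 42, true), (0, 7, true), (0, 6, true), (0, 5, true), (1, 27, true), (0, 7, true), (1, 26, true), (4, 11, true), (3, 28, true), (2, 34, true),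 (1, 40, true), (0, 42, true), (2, 39, true), (1, 42, true), (0, 7, true), (0, 6, true), (0, 5, true), (1, 32, true), (0, 44, true), (3, 31, true), (2, 5, true), (1, 7, true), (2, 26, true), (1, 31, true), (2, 3, true), (1, 41, true), (0, 8, true), (1, 40, true), (0, 7, true), (0, 39, true), (2, 5, true), (1, 42, true), (0, 7, true), (1, 25, true), (0, 43, true), (2, 42, true), (1, 7, true), (1, 6, true)]),
  ([0, 3, 7], [(0, 11, true), (3, 15, true), (2, 38, true), (1, 41, true), (0, 44, true), (1, 7, true), (1, 40, true), (3, 36, true), (2, 40, true), (1, 7, true), (1, 39, true), (4, 4, true), (3, 41, true), (2, 43, true), (1, 44, true), (0, 8, true), (0, 7, true), (0, 42, true), (2, 39, true), (1, 42, true), (0, 7, true), (0, 6, true), (0, 5, true)], [(1, 33, true), (0, 15, true), (4, 11, true), (3, 33, true), (2, 37, true), (1, 42, true), (4, 31, true), (3, 35, true), (5, 30, true), (4, 4, true), (3, 41, true), (2, 43, true), (1, 44, true), (0, 8, true), (0, 7, true), (0, 42, true), (2, 39, true), (1, 42, true), (0, 7, true), (0, 6, true), (0, 5, true)]),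
  ([0, 3, 8], [(0, 11, true), (3, 16, true), (2, 38, true), (1, 41, true), (0, 44, true), (1, 7, true), (1, 40, true), (3, 36, true), (2, 40, true), (1, 7, true), (1, 39, true), (4, 4, true), (3, 41, true), (2, 43, true), (1, 44, true), (0, 8, true), (0, 7, true), (0, 42, true), (2, 39, true), (1, 42, true), (0, 7, true), (0, 6, true), (0, 5, true)], [(1, 34, true), (0, 15, true), (4, 14, true), (3, 34, true), (2, 37, true), (1, 42, true), (3, 36, true), (2, 42, true), (1, 7, true), (1, 6, true), (1, 35, true), (3, 33, true), (2, 37, true), (1, 40, true), (4, 3, true), (3, 38, true), (2, 41, true), (1, 44, true), (0, 8, true), (0, 7, true), (0, 40, true), (2, 37, true), (1, 40, true), (0, 7, true), (1, 36, true), (0, 40, true), (1, 39, true), (0, 7, true), (2, 35, true), (1, 5, true), (0, 42, true), (4, 13, true), (3, 29, true), (2, 36, true), (1, 42, true), (0, 7, true), (0, 6, true), (0, 35, true), (3, 28, true), (2, 34, true), (1, 37, true), (0, 40, true), (2, 36, true), (1, 40, true), (0, 7, true), (0, 39, true), (3, 35, true), (2, 5, true), (1, 42, true), (0, 7, true), (2, 32,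 true), (1, 38, true), (0, 43, true), (2, 42, true), (1, 7, true), (2, 35, true), (4, 31, true), (3, 35, true), (2, 5, true), (1, 42, true), (5, 2, true), (4, 33, true), (3, 37, true), (2, 42, true), (1, 7, true), (3, 3, true), (2, 38, true), (1, 43, true), (0, 8, true), (1, 42, true), (0, 7, true), (1, 37, true), (0, 42, true), (2, 36, true), (1, 42, true), (0, 7, true), (0, 6, true), (0, 35, true), (3, 11, true), (2, 22, true), (1, 38, true), (0, 41, true), (2, 40, true), (1, 7, true), (2, 36, true), (1, 40, true), (2, 39, true), (1, 7, true), (3, 35, true), (2, 5, true), (1, 42, true), (4, 20, true), (3, 38, true), (2, 43, true), (1, 44, true), (0, 8, true), (0, 7, true), (0, 42, true), (2, 37, true), (1, 42, true), (0, 7, true), (1, 36, true), (0, 42, true), (1, 6, true), (3, 19, true), (2, 33, true), (1, 37, true), (0, 7, true), (1, 30, true), (0, 4, true), (3, 3, true), (2, 41, true), (1, 43, true), (0, 8, true), (1, 42, true), (0, 7, true), (1, 40, true), (0, 42, true), (2, 39, true), (1, 42, true), (0, 7, true), (0, 6, true), (0, 5, true)]),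
  ([0, 4, 5], [(0, 12, true), (5, 13, true), (4, 23, true), (3, 28, true), (2, 34, true), (1, 7, true), (3, 32, true), (2, 41, true), (1, 43, true), (0, 8, true), (1, 42, true), (0, 7, true), (1, 5, true), (0, 42, true), (2, 31, true), (4, 27, true), (3, 33, true), (2, 40, true), (1, 42, true), (0, 7, true), (2, 32, true), (1, 41, true), (0, 43, true), (2, 42, true), (1, 7, true), (2, 5, true), (1, 42, true), (4, 26, true), (3, 31, true), (4, 3, true), (3, 41, true), (2, 43, true), (1, 44, true), (0, 8, true), (0, 7, true), (0, 42, true), (2, 40, true), (1, 42, true), (0, 7, true), (1, 39, true), (0, 42, true), (1, 6, true), (1, 5, true), (0, 7, true), (1, 22, true), (0, 29, true), (3, 27, true), (2, 33, true), (1, 40, true), (0, 42, true), (3, 32, true), (2, 41, true), (1, 43, true), (0, 44, true), (1, 7, true), (1, 42, true), (3, 5, true), (2, 42, true), (1, 7, true), (3, 26, true), (2, 31, true), (3, 3, true), (2, 41, true), (1, 43, true), (0, 8, true), (1, 42, true), (0, 7, true), (1, 40, true), (0, 42, true), (2, 39, true), (1, 42, true), (0, 7, true), (0, 6, true), (0, 5, true),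 (2, 17, true), (1, 26, true), (3, 25, true), (2, 34, true), (1, 40, true), (0, 7, true), (0, 39, true), (2, 5, true), (1, 42, true), (0, 7, true), (1, 33, true), (0, 42, true), (2, 32, true), (1, 43, true), (0, 44, true), (1, 7, true), (3, 31, true), (2, 5, true), (1, 42, true), (3, 30, true), (4, 3, true), (3, 38, true), (2, 43, true), (1, 44, true), (0, 8, true), (0, 7, true), (0, 42, true), (2, 37, true), (1, 42, true), (0, 7, true), (1, 36, true), (0, 42, true), (1, 6, true), (1, 35, true), (3, 24, true), (2, 38, true), (1, 41, true), (0, 44, true), (1, 7, true), (1, 40, true), (3, 37, true), (2, 40, true), (1, 7, true), (2, 36, true), (1, 40, true), (2, 39, true), (1, 7, true), (3, 35, true), (2, 5, true), (1, 42, true), (5, 2, true), (4, 33, true), (3, 37, true), (2, 42, true), (1, 7, true), (3, 3, true), (2, 38, true), (1, 43, true), (0, 8, true), (1, 42, true), (0, 7, true), (1, 37, true), (0, 42, true), (2, 36, true), (1, 42, true), (0, 7, true), (0, 6, true), (0, 35, true), (2, 1, true), (1, 38, true), (0, 41, true), (2, 40, true), (1, 7, true), (2, 37, true), (1, 40, true),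 (3, 36, true), (2, 40, true), (1, 7, true), (1, 39, true), (4, 35, true), (3, 5, true), (2, 42, true), (1, 7, true)], [(1, 35, true), (0, 13, true), (4, 12, true), (3, 23, true), (2, 28, true), (1, 44, true), (0, 8, true), (3, 27, true), (2, 40, true), (1, 42, true), (0, 7, true), (1, 39, true), (0, 42, true), (1, 6, true), (2, 26, true), (1, 5, true), (0, 7, true), (2, 22, true), (1, 29, true), (0, 32, true), (2, 31, true), (1, 5, true), (2, 3, true), (1, 44, true), (0, 8, true), (0, 7, true), (2, 27, true), (1, 40, true), (0, 42, true), (2, 39, true), (1, 42, true), (0, 7, true), (0, 6, true), (1, 26, true), (0, 5, true), (3, 18, true), (2, 24, true), (1, 34, true), (0, 7, true), (2, 33, true), (1, 40, true), (0, 42, true), (3, 32, true), (2, 41, true), (1, 43, true), (0, 44, true), (1, 7, true), (1, 42, true), (3, 5, true), (2, 42, true), (1, 7, true), (2, 31, true), (3, 3, true), (2, 41, true), (1, 43, true), (0, 8, true), (1, 42, true), (0, 7, true), (1, 40, true), (0, 42, true), (2, 39, true), (1, 42, true), (0, 7, true), (0, 6, true), (0, 5, true), (2, 17, true), (1, 26, true),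 (3, 25, true), (2, 34, true), (1, 40, true), (0, 7, true), (0, 39, true), (2, 5, true), (1, 42, true), (0, 7, true), (1, 33, true), (0, 42, true), (2, 32, true), (1, 43, true), (0, 44, true), (1, 7, true), (3, 31, true), (2, 5, true), (1, 42, true), (3, 30, true), (4, 3, true), (3, 38, true), (2, 43, true), (1, 44, true), (0, 8, true), (0, 7, true), (0, 42, true), (2, 37, true), (1, 42, true), (0, 7, true), (1, 36, true), (0, 42, true), (1, 6, true), (1, 35, true), (3, 24, true), (2, 38, true), (1, 41, true), (0, 44, true), (1, 7, true), (1, 40, true), (3, 37, true), (2, 40, true), (1, 7, true), (2, 36, true), (1, 40, true), (2, 39, true), (1, 7, true), (3, 35, true), (2, 5, true), (1, 42, true), (5, 2, true), (4, 33, true), (3, 37, true), (2, 42, true), (1, 7, true), (3, 3, true), (2, 38, true), (1, 43, true), (0, 8, true), (1, 42, true), (0, 7, true), (1, 37, true), (0, 42, true), (2, 36, true), (1, 42, true), (0, 7, true), (0, 6, true), (0, 35, true), (2, 1, true), (1, 38, true), (0, 41, true), (2, 40, true), (1, 7, true), (2, 37, true), (1, 40, true), (3, 36, true), (2, 40, true),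 (1, 7, true), (1, 39, true), (4, 35, true), (3, 5, true), (2, 42, true), (1, 7, true)]),
  ([0, 4, 6], [(0, 12, true), (5, 14, true), (4, 23, true), (3, 28, true), (2, 34, true), (1, 7, true), (3, 32, true), (2, 41, true), (1, 43, true), (0, 8, true), (1, 42, true), (0, 7, true), (1, 5, true), (0, 42, true), (2, 31, true), (4, 27, true), (3, 33, true), (2, 40, true), (1, 42, true), (0, 7, true), (2, 32, true), (1, 41, true), (0, 43, true), (2, 42, true), (1, 7, true), (2, 5, true), (1, 42, true), (4, 26, true), (3, 31, true), (4, 3, true), (3, 41, true), (2, 43, true), (1, 44, true), (0, 8, true), (0, 7, true), (0, 42, true), (2, 40, true), (1, 42, true), (0, 7, true), (1, 39, true), (0, 42, true), (1, 6, true), (1, 5, true), (0, 7, true), (1, 22, true), (0, 29, true), (3, 27, true), (2, 33, true), (1, 40, true), (0, 42, true), (3, 32, true), (2, 41, true), (1, 43, true), (0, 44, true), (1, 7, true), (1, 42, true), (3, 5, true), (2, 42, true), (1, 7, true), (3, 26, true), (2, 31, true), (3, 3, true), (2, 41, true), (1, 43, true), (0, 8, true), (1, 42, true), (0, 7, true), (1, 40, true),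 (0, 42, true), (2, 39, true), (1, 42, true), (0, 7, true), (0, 6, true), (0, 5, true), (2, 18, true), (1, 24, true), (0, 44, true), (1, 7, true), (5, 17, true), (4, 26, true), (3, 31, true), (2, 5, true), (1, 42, true), (3, 3, true), (2, 43, true), (1, 44, true), (0, 8, true), (0, 7, true), (0, 42, true), (1, 6, true), (2, 25, true), (1, 41, true), (0, 44, true), (1, 7, true), (1, 40, true), (2, 39, true), (1, 7, true), (2, 5, true), (1, 42, true), (5, 24, true), (4, 34, true), (3, 37, true), (2, 42, true), (1, 7, true), (2, 36, true), (1, 42, true), (2, 6, true), (2, 35, true), (4, 33, true), (3, 37, true), (2, 40, true), (1, 7, true), (3, 32, true), (2, 38, true), (1, 41, true), (0, 8, true), (1, 40, true), (0, 7, true), (1, 35, true), (0, 5, true), (2, 31, true), (1, 35, true), (3, 3, true), (2, 38, true), (1, 41, true), (0, 44, true), (1, 7, true), (1, 40, true), (3, 37, true), (2, 40, true), (1, 7, true), (2, 36, true), (1, 40, true), (2, 39, true), (1, 7, true), (3, 35, true), (2, 5, true), (1, 42, true), (4, 2, true), (3, 37, true), (2, 42, true), (1, 7, true)], [(1, 36, true),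 (0, 15, true), (4, 14, true), (3, 34, true), (2, 37, true), (1, 42, true), (3, 36, true), (2, 42, true), (1, 7, true), (1, 6, true), (1, 35, true), (3, 33, true), (2, 37, true), (1, 40, true), (4, 3, true), (3, 38, true), (2, 41, true), (1, 44, true), (0, 8, true), (0, 7, true), (0, 40, true), (2, 37, true), (1, 40, true), (0, 7, true), (1, 36, true), (0, 40, true), (1, 39, true), (0, 7, true), (2, 35, true), (1, 5, true), (0, 42, true), (4, 12, true), (3, 29, true), (2, 36, true), (1, 42, true), (0, 7, true), (0, 6, true), (0, 35, true), (3, 28, true), (2, 34, true), (1, 37, true), (0, 40, true), (2, 36, true), (1, 40, true), (0, 7, true), (0, 39, true), (3, 35, true), (2, 5, true), (1, 42, true), (0, 7, true), (2, 32, true), (1, 38, true), (0, 43, true), (2, 42, true), (1, 7, true), (2, 35, true), (4, 31, true), (3, 35, true), (2, 5, true), (1, 42, true), (5, 24, true), (4, 34, true), (3, 37, true), (2, 42, true), (1, 7, true), (2, 36, true), (1, 42, true), (2, 6, true), (2, 35, true), (4, 33, true), (3, 37, true), (2, 40, true), (1, 7, true), (3, 32, true), (2, 38, true), (1, 41,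 true), (0, 8, true), (1, 40, true), (0, 7, true), (1, 35, true), (0, 5, true), (2, 31, true), (1, 35, true), (3, 3, true), (2, 38, true), (1, 41, true), (0, 44, true), (1, 7, true), (1, 40, true), (3, 37, true), (2, 40, true), (1, 7, true), (2, 36, true), (1, 40, true), (2, 39, true), (1, 7, true), (3, 35, true), (2, 5, true), (1, 42, true), (4, 2, true), (3, 37, true), (2, 42, true), (1, 7, true)]),
  ([0, 4, 7], [(0, 12, true), (5, 15, true), (4, 23, true), (3, 28, true), (2, 34, true), (1, 7, true), (3, 32, true), (2, 41, true), (1, 43, true), (0, 8, true), (1, 42, true), (0, 7, true), (1, 5, true), (0, 42, true), (2, 31, true), (4, 27, true), (3, 33, true), (2, 40, true), (1, 42, true), (0, 7, true), (2, 32, true), (1, 41, true), (0, 43, true), (2, 42, true), (1, 7, true), (2, 5, true), (1, 42, true), (4, 26, true), (3, 31, true), (4, 3, true), (3, 41, true), (2, 43, true), (1, 44, true), (0, 8, true), (0, 7, true), (0, 42, true), (2, 40, true), (1, 42, true), (0, 7, true), (1, 39, true), (0, 42, true), (1, 6, true), (1, 5, true), (0, 7, true), (1, 21, true), (0, 28, true), (3,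 27, true), (2, 40, true), (1, 42, true), (3, 39, true), (2, 42, true), (1, 7, true), (1, 6, true), (2, 24, true), (1, 41, true), (0, 8, true), (1, 40, true), (0, 7, true), (0, 39, true), (2, 5, true), (1, 42, true), (0, 7, true), (3, 19, true), (2, 28, true), (1, 34, true), (0, 42, true), (1, 6, true), (2, 32, true), (1, 41, true), (0, 44, true), (1, 7, true), (1, 5, true), (2, 31, true), (4, 25, true), (3, 34, true), (2, 40, true), (1, 7, true), (1, 39, true), (3, 5, true), (2, 42, true), (1, 7, true), (2, 33, true), (1, 42, true), (3, 32, true), (2, 43, true), (1, 44, true), (0, 8, true), (0, 7, true), (2, 31, true), (1, 5, true), (0, 42, true), (2, 30, true), (3, 3, true), (2, 38, true), (1, 43, true), (0, 44, true), (1, 7, true), (1, 42, true), (3, 37, true), (2, 42, true), (1, 7, true), (2, 36, true), (1, 42, true), (2, 6, true), (2, 35, true), (4, 24, true), (3, 38, true), (2, 41, true), (1, 44, true), (0, 8, true), (0, 7, true), (0, 40, true), (2, 37, true), (1, 40, true), (0, 7, true), (1, 36, true), (0, 40, true), (1, 39, true), (0, 7, true), (2, 35, true), (1, 5, true), (0,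 42, true), (5, 18, true), (4, 24, true), (3, 34, true), (2, 37, true), (1, 42, true), (0, 7, true), (1, 36, true), (0, 42, true), (1, 6, true), (1, 35, true), (3, 33, true), (2, 37, true), (1, 40, true), (0, 7, true), (2, 32, true), (1, 38, true), (0, 41, true), (2, 40, true), (1, 7, true), (2, 35, true), (1, 5, true), (3, 31, true), (2, 35, true), (4, 3, true), (3, 38, true), (2, 41, true), (1, 44, true), (0, 8, true), (0, 7, true), (0, 40, true), (2, 37, true), (1, 40, true), (0, 7, true), (1, 36, true), (0, 40, true), (1, 39, true), (0, 7, true), (2, 35, true), (1, 5, true), (0, 42, true)], [(1, 37, true), (0, 15, true), (4, 12, true), (3, 34, true), (2, 37, true), (1, 42, true), (3, 36, true), (2, 42, true), (1, 7, true), (1, 6, true), (1, 35, true), (3, 33, true), (2, 37, true), (1, 40, true), (4, 3, true), (3, 38, true), (2, 41, true), (1, 44, true), (0, 8, true), (0, 7, true), (0, 40, true), (2, 37, true), (1, 40, true), (0, 7, true), (1, 36, true), (0, 40, true), (1, 39, true), (0, 7, true), (2, 35, true), (1, 5, true), (0, 42, true)]),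
  ([0, 4, 8], [(0, 12, true), (5, 16, true), (4, 23, true), (3, 28, true), (2, 34, true), (1, 7, true), (3, 32, true), (2, 41, true), (1, 43, true), (0, 8, true), (1, 42, true), (0, 7, true), (1, 5, true), (0, 42, true), (2, 31, true), (4, 27, true), (3, 33, true), (2, 40, true), (1, 42, true), (0, 7, true), (2, 32, true), (1, 41, true), (0, 43, true), (2, 42, true), (1, 7, true), (2, 5, true), (1, 42, true), (4, 26, true), (3, 31, true), (4, 3, true), (3, 41, true), (2, 43, true), (1, 44, true), (0, 8, true), (0, 7, true), (0, 42, true), (2, 40, true), (1, 42, true), (0, 7, true), (1, 39, true), (0, 42, true), (1, 6, true), (1, 5, true), (0, 7, true), (1, 21, true), (0, 28, true), (3, 27, true), (2, 40, true), (1, 42, true), (3, 39, true), (2, 42, true), (1, 7, true), (1, 6, true), (2, 24, true), (1, 41, true), (0, 8, true), (1, 40, true), (0, 7, true), (0, 39, true), (2, 5, true), (1, 42, true), (0, 7, true), (3, 19, true), (2, 28, true), (1, 34, true), (0, 42, true), (1, 6, true), (2, 32, true), (1, 41, true), (0, 44, true), (1, 7, true), (1, 5, true), (2, 31, true), (4, 25, true),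 (3, 34, true), (2, 40, true), (1, 7, true), (1, 39, true), (3, 5, true), (2, 42, true), (1, 7, true), (2, 33, true), (1, 42, true), (3, 32, true), (2, 43, true), (1, 44, true), (0, 8, true), (0, 7, true), (2, 31, true), (1, 5, true), (0, 42, true), (2, 30, true), (3, 3, true), (2, 38, true), (1, 43, true), (0, 44, true), (1, 7, true), (1, 42, true), (3, 37, true), (2, 42, true), (1, 7, true), (2, 36, true), (1, 42, true), (2, 6, true), (2, 35, true), (4, 24, true), (3, 38, true), (2, 41, true), (1, 44, true), (0, 8, true), (0, 7, true), (0, 40, true), (2, 37, true), (1, 40, true), (0, 7, true), (1, 36, true), (0, 40, true), (1, 39, true), (0, 7, true), (2, 35, true), (1, 5, true), (0, 42, true), (5, 1, true), (4, 29, true), (3, 32, true), (2, 38, true), (1, 43, true), (0, 44, true), (1, 7, true), (1, 42, true), (3, 35, true), (5, 31, true), (4, 35, true), (3, 5, true), (2, 42, true), (1, 7, true), (3, 3, true), (2, 38, true), (1, 43, true), (0, 8, true), (1, 42, true), (0, 7, true), (1, 37, true), (0, 42, true), (2, 36, true), (1, 42, true), (0, 7, true), (0, 6, true), (0, 35, true),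 (2, 28, true), (1, 38, true), (0, 41, true), (2, 40, true), (1, 7, true), (2, 36, true), (1, 40, true), (2, 39, true), (1, 7, true), (3, 35, true), (2, 5, true), (1, 42, true), (4, 27, true), (3, 37, true), (2, 42, true), (1, 7, true), (2, 36, true), (1, 42, true), (2, 6, true), (3, 26, true), (2, 35, true)], [(1, 38, true), (0, 16, true), (4, 15, true), (3, 23, true), (2, 37, true), (1, 42, true), (3, 36, true), (2, 42, true), (1, 7, true), (1, 6, true), (1, 35, true), (3, 21, true), (2, 37, true), (1, 40, true), (3, 36, true), (2, 40, true), (1, 7, true), (1, 39, true), (6, 19, true), (5, 33, true), (4, 37, true), (3, 40, true), (2, 42, true), (1, 7, true), (4, 30, true), (3, 4, true), (2, 41, true), (1, 43, true), (0, 8, true), (1, 42, true), (0, 7, true), (1, 39, true), (0, 42, true), (1, 6, true), (1, 5, true), (0, 7, true), (0, 3, true), (4, 18, true), (6, 12, true), (5, 23, true), (4, 33, true), (3, 40, true), (2, 42, true), (1, 7, true), (3, 32, true), (2, 41, true), (1, 43, true), (0, 8, true), (1, 42, true), (0, 7, true), (1, 5, true), (0, 42, true), (2, 31, true), (4, 22,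 true), (3, 34, true), (2, 40, true), (1, 42, true), (0, 7, true), (1, 39, true), (0, 42, true), (1, 6, true), (1, 5, true), (0, 7, true), (0, 32, true), (2, 31, true), (1, 5, true), (3, 18, true), (2, 3, true), (1, 44, true), (0, 8, true), (0, 7, true), (2, 17, true), (1, 5, true), (0, 42, true), (5, 1, true), (4, 29, true), (3, 32, true), (2, 38, true), (1, 43, true), (0, 44, true), (1, 7, true), (1, 42, true), (3, 35, true), (5, 31, true), (4, 35, true), (3, 5, true), (2, 42, true), (1, 7, true), (3, 3, true), (2, 38, true), (1, 43, true), (0, 8, true), (1, 42, true), (0, 7, true), (1, 37, true), (0, 42, true), (2, 36, true), (1, 42, true), (0, 7, true), (0, 6, true), (0, 35, true), (2, 28, true), (1, 38, true), (0, 41, true), (2, 40, true), (1, 7, true), (2, 36, true), (1, 40, true), (2, 39, true), (1, 7, true), (3, 35, true), (2, 5, true), (1, 42, true), (4, 27, true), (3, 37, true), (2, 42, true), (1, 7, true), (2, 36, true), (1, 42, true), (2, 6, true), (3, 26, true), (2, 35, true)]),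
  ([0, 5, 6], [(0, 13, true), (4, 14, true), (3, 23, true), (2, 28, true), (1, 44, true), (0, 8, true), (3, 27, true), (2, 40, true), (1, 42, true), (0, 7, true), (1, 39, true), (0, 42, true), (1, 6, true), (2, 26, true), (1, 5, true), (0, 7, true), (2, 22, true), (1, 29, true), (0, 32, true), (2, 31, true), (1, 5, true), (2, 3, true), (1, 44, true), (0, 8, true), (0, 7, true), (2, 27, true), (1, 40, true), (0, 42, true), (2, 39, true), (1, 42, true), (0, 7, true), (0, 6, true), (1, 26, true), (0, 5, true), (3, 18, true), (2, 24, true), (1, 34, true), (0, 7, true), (2, 33, true), (1, 40, true), (0, 42, true), (3, 32, true), (2, 41, true), (1, 43, true), (0, 44, true), (1, 7, true), (1, 42, true), (3, 5, true), (2, 42, true), (1, 7, true), (2, 31, true), (3, 3, true), (2, 41, true), (1, 43, true), (0, 8, true), (1, 42, true), (0, 7, true), (1, 40, true), (0, 42, true), (2, 39, true), (1, 42, true), (0, 7, true), (0, 6, true), (0, 5, true), (2, 17, true), (1, 26, true), (3, 25, true), (2, 34, true), (1, 40, true), (0, 7, true), (0, 39, true), (2, 5, true), (1, 42, true), (0, 7, true),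 (1, 33, true), (0, 42, true), (2, 32, true), (1, 43, true), (0, 44, true), (1, 7, true), (3, 31, true), (2, 5, true), (1, 42, true), (3, 30, true), (4, 3, true), (3, 38, true), (2, 43, true), (1, 44, true), (0, 8, true), (0, 7, true), (0, 42, true), (2, 37, true), (1, 42, true), (0, 7, true), (1, 36, true), (0, 42, true), (1, 6, true), (1, 35, true), (3, 24, true), (2, 38, true), (1, 41, true), (0, 44, true), (1, 7, true), (1, 40, true), (3, 37, true), (2, 40, true), (1, 7, true), (2, 36, true), (1, 40, true), (2, 39, true), (1, 7, true), (3, 35, true), (2, 5, true), (1, 42, true), (5, 2, true), (4, 33, true), (3, 37, true), (2, 42, true), (1, 7, true), (3, 3, true), (2, 38, true), (1, 43, true), (0, 8, true), (1, 42, true), (0, 7, true), (1, 37, true), (0, 42, true), (2, 36, true), (1, 42, true), (0, 7, true), (0, 6, true), (0, 35, true)], [(1, 39, true), (0, 15, true), (4, 14, true), (3, 34, true), (2, 37, true), (1, 42, true), (3, 36, true), (2, 42, true), (1, 7, true), (1, 6, true), (1, 35, true), (3, 33, true), (2, 37, true), (1, 40, true), (4, 3, true), (3, 38, true), (2, 41,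 true), (1, 44, true), (0, 8, true), (0, 7, true), (0, 40, true), (2, 37, true), (1, 40, true), (0, 7, true), (1, 36, true), (0, 40, true), (1, 39, true), (0, 7, true), (2, 35, true), (1, 5, true), (0, 42, true), (4, 13, true), (3, 29, true), (2, 36, true), (1, 42, true), (0, 7, true), (0, 6, true), (0, 35, true), (3, 28, true), (2, 34, true), (1, 37, true), (0, 40, true), (2, 36, true), (1, 40, true), (0, 7, true), (0, 39, true), (3, 35, true), (2, 5, true), (1, 42, true), (0, 7, true), (2, 32, true), (1, 38, true), (0, 43, true), (2, 42, true), (1, 7, true), (2, 35, true), (4, 31, true), (3, 35, true), (2, 5, true), (1, 42, true), (5, 2, true), (4, 33, true), (3, 37, true), (2, 42, true), (1, 7, true), (3, 3, true), (2, 38, true), (1, 43, true), (0, 8, true), (1, 42, true), (0, 7, true), (1, 37, true), (0, 42, true), (2, 36, true), (1, 42, true), (0, 7, true), (0, 6, true), (0, 35, true)]),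
  ([0, 5, 7], [(0, 13, true), (4, 15, true), (3, 23, true), (2, 28, true), (1, 44, true), (0, 8, true), (3, 27, true), (2, 40, true), (1, 42, true), (0, 7, true), (1, 39, true), (0, 42, true), (1, 6, true), (2, 26, true), (1, 5, true), (0, 7, true), (2, 21, true), (1, 28, true), (0, 34, true), (3, 32, true), (2, 41, true), (1, 43, true), (0, 44, true), (1, 7, true), (1, 42, true), (3, 5, true), (2, 42, true), (1, 7, true), (2, 31, true), (4, 27, true), (3, 33, true), (2, 40, true), (1, 42, true), (4, 32, true), (3, 41, true), (2, 43, true), (1, 44, true), (0, 8, true), (0, 7, true), (0, 42, true), (2, 5, true), (1, 42, true), (0, 7, true), (2, 24, true), (1, 34, true), (0, 42, true), (1, 6, true), (2, 33, true), (1, 40, true), (0, 7, true), (1, 32, true), (0, 41, true), (2, 5, true), (1, 7, true), (1, 31, true), (2, 3, true), (1, 41, true), (0, 8, true), (1, 40, true), (0, 7, true), (0, 39, true), (2, 5, true), (1, 42, true), (0, 7, true), (2, 19, true), (1, 28, true), (0, 43, true), (2, 6, true), (3, 25, true), (2, 41, true), (1, 44, true), (0, 8, true), (0, 7, true), (0, 40, true),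 (1, 39, true), (0, 7, true), (1, 5, true), (0, 42, true), (4, 24, true), (3, 34, true), (2, 37, true), (1, 42, true), (0, 7, true), (1, 36, true), (0, 42, true), (1, 6, true), (1, 35, true), (3, 33, true), (2, 37, true), (1, 40, true), (0, 7, true), (2, 32, true), (1, 38, true), (0, 41, true), (2, 40, true), (1, 7, true), (2, 35, true), (1, 5, true), (3, 31, true), (2, 35, true), (4, 3, true), (3, 38, true), (2, 41, true), (1, 44, true), (0, 8, true), (0, 7, true), (0, 40, true), (2, 37, true), (1, 40, true), (0, 7, true), (1, 36, true), (0, 40, true), (1, 39, true), (0, 7, true), (2, 35, true), (1, 5, true), (0, 42, true), (4, 18, true), (3, 24, true), (2, 38, true), (1, 43, true), (0, 44, true), (1, 7, true), (1, 42, true), (3, 37, true), (2, 42, true), (1, 7, true), (2, 36, true), (1, 42, true), (2, 6, true), (2, 35, true)], [(1, 40, true), (0, 15, true), (4, 13, true), (3, 34, true), (2, 37, true), (1, 42, true), (3, 36, true), (2, 42, true), (1, 7, true), (1, 6, true), (1, 35, true), (3, 33, true), (2, 37, true), (1, 40, true)]),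
  ([0, 5, 8], [(0, 13, true), (4, 16, true), (3, 23, true), (2, 28, true), (1, 44, true), (0, 8, true), (3, 27, true), (2, 40, true), (1, 42, true), (0, 7, true), (1, 39, true), (0, 42, true), (1, 6, true), (2, 26, true), (1, 5, true), (0, 7, true), (2, 21, true), (1, 28, true), (0, 34, true), (3, 32, true), (2, 41, true), (1, 43, true), (0, 44, true), (1, 7, true), (1, 42, true), (3, 5, true), (2, 42, true), (1, 7, true), (2, 31, true), (4, 27, true), (3, 33, true), (2, 40, true), (1, 42, true), (4, 32, true), (3, 41, true), (2, 43, true), (1, 44, true), (0, 8, true), (0, 7, true), (0, 42, true), (2, 5, true), (1, 42, true), (0, 7, true), (2, 24, true), (1, 34, true), (0, 42, true), (1, 6, true), (2, 33, true), (1, 40, true), (0, 7, true), (1, 32, true), (0, 41, true), (2, 5, true), (1, 7, true), (1, 31, true), (2, 3, true), (1, 41, true), (0, 8, true), (1, 40, true), (0, 7, true), (0, 39, true), (2, 5, true), (1, 42, true), (0, 7, true), (2, 19, true), (1, 28, true), (0, 43, true), (2, 6, true), (3, 25, true), (2, 41, true), (1, 44, true), (0, 8, true), (0, 7, true), (0, 40, true),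 (1, 39, true), (0, 7, true), (1, 5, true), (0, 42, true), (4, 24, true), (3, 34, true), (2, 37, true), (1, 42, true), (0, 7, true), (1, 36, true), (0, 42, true), (1, 6, true), (1, 35, true), (3, 33, true), (2, 37, true), (1, 40, true), (0, 7, true), (2, 32, true), (1, 38, true), (0, 41, true), (2, 40, true), (1, 7, true), (2, 35, true), (1, 5, true), (3, 31, true), (2, 35, true), (4, 3, true), (3, 38, true), (2, 41, true), (1, 44, true), (0, 8, true), (0, 7, true), (0, 40, true), (2, 37, true), (1, 40, true), (0, 7, true), (1, 36, true), (0, 40, true), (1, 39, true), (0, 7, true), (2, 35, true), (1, 5, true), (0, 42, true), (4, 1, true), (3, 29, true), (2, 36, true), (1, 42, true), (0, 7, true), (0, 6, true), (0, 35, true), (3, 28, true), (2, 34, true), (1, 37, true), (0, 40, true), (2, 36, true), (1, 40, true), (0, 7, true), (0, 39, true), (3, 35, true), (2, 5, true), (1, 42, true), (0, 7, true), (2, 32, true), (1, 38, true), (0, 43, true), (2, 42, true), (1, 7, true), (2, 35, true), (4, 31, true), (3, 35, true), (2, 5, true), (1, 42, true), (5, 27, true), (4, 33, true), (3, 37, true),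 (2, 42, true), (1, 7, true), (3, 32, true), (2, 38, true), (1, 43, true), (0, 8, true), (1, 42, true), (0, 7, true), (1, 35, true), (4, 26, true), (3, 31, true), (2, 35, true), (1, 5, true), (0, 42, true), (3, 3, true), (2, 38, true), (1, 43, true), (0, 44, true), (1, 7, true), (1, 42, true), (3, 37, true), (2, 42, true), (1, 7, true), (2, 36, true), (1, 42, true), (2, 6, true), (2, 35, true)], [(1, 41, true), (0, 16, true), (4, 15, true), (3, 23, true), (2, 37, true), (1, 42, true), (3, 36, true), (2, 42, true), (1, 7, true), (1, 6, true), (1, 35, true), (3, 21, true), (2, 37, true), (1, 40, true), (3, 36, true), (2, 40, true), (1, 7, true), (1, 39, true), (6, 19, true), (5, 33, true), (4, 37, true), (3, 40, true), (2, 42, true), (1, 7, true), (4, 30, true), (3, 4, true), (2, 41, true), (1, 43, true), (0, 8, true), (1, 42, true), (0, 7, true), (1, 39, true), (0, 42, true), (1, 6, true), (1, 5, true), (0, 7, true), (0, 3, true), (4, 18, true), (6, 13, true), (5, 23, true), (4, 33, true), (3, 40, true), (2, 42, true), (1, 7, true), (3, 32, true), (2, 41, true), (1, 43, true), (0, 8,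 true), (1, 42, true), (0, 7, true), (1, 5, true), (0, 42, true), (2, 31, true), (4, 22, true), (3, 34, true), (2, 40, true), (1, 42, true), (0, 7, true), (1, 39, true), (0, 42, true), (1, 6, true), (1, 5, true), (0, 7, true), (0, 32, true), (2, 31, true), (1, 5, true), (3, 17, true), (2, 31, true), (3, 30, true), (4, 3, true), (3, 38, true), (2, 41, true), (1, 44, true), (0, 8, true), (0, 7, true), (0, 40, true), (2, 37, true), (1, 40, true), (0, 7, true), (1, 36, true), (0, 40, true), (1, 39, true), (0, 7, true), (2, 35, true), (1, 5, true), (0, 42, true), (4, 1, true), (3, 29, true), (2, 36, true), (1, 42, true), (0, 7, true), (0, 6, true), (0, 35, true), (3, 28, true), (2, 34, true), (1, 37, true), (0, 40, true), (2, 36, true), (1, 40, true), (0, 7, true), (0, 39, true), (3, 35, true), (2, 5, true), (1, 42, true), (0, 7, true), (2, 32, true), (1, 38, true), (0, 43, true), (2, 42, true), (1, 7, true), (2, 35, true), (4, 31, true), (3, 35, true), (2, 5, true), (1, 42, true), (5, 27, true), (4, 33, true), (3, 37, true), (2, 42, true), (1, 7, true), (3, 32, true), (2, 38, true), (1,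 43, true), (0, 8, true), (1, 42, true), (0, 7, true), (1, 35, true), (4, 26, true), (3, 31, true), (2, 35, true), (1, 5, true), (0, 42, true), (3, 3, true), (2, 38, true), (1, 43, true), (0, 44, true), (1, 7, true), (1, 42, true), (3, 37, true), (2, 42, true), (1, 7, true), (2, 36, true), (1, 42, true), (2, 6, true), (2, 35, true)]),
  ([0, 6, 7], [(0, 14, true), (4, 15, true), (3, 29, true), (2, 32, true), (1, 44, true), (0, 8, true), (2, 31, true), (1, 5, true), (0, 7, true), (0, 3, true), (4, 27, true), (3, 40, true), (2, 42, true), (1, 7, true), (2, 39, true), (1, 42, true), (2, 6, true), (3, 25, true), (2, 41, true), (1, 44, true), (0, 8, true), (0, 7, true), (0, 40, true), (1, 39, true), (0, 7, true), (1, 5, true), (0, 42, true), (4, 24, true), (3, 34, true), (2, 37, true), (1, 42, true), (0, 7, true), (1, 36, true), (0, 42, true), (1, 6, true), (1, 35, true), (3, 33, true), (2, 37, true), (1, 40, true), (0, 7, true), (2, 32, true), (1, 38, true), (0, 41, true), (2, 40, true), (1, 7, true), (2, 35, true), (1, 5, true), (3, 31, true), (2, 35, true), (4, 3, true), (3, 38, true),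 (2, 41, true), (1, 44, true), (0, 8, true), (0, 7, true), (0, 40, true), (2, 37, true), (1, 40, true), (0, 7, true), (1, 36, true), (0, 40, true), (1, 39, true), (0, 7, true), (2, 35, true), (1, 5, true), (0, 42, true)], [(1, 42, true), (0, 15, true), (4, 14, true), (3, 34, true), (2, 37, true), (1, 42, true), (3, 36, true), (2, 42, true), (1, 7, true), (1, 6, true), (1, 35, true), (3, 33, true), (2, 37, true), (1, 40, true), (4, 3, true), (3, 38, true), (2, 41, true), (1, 44, true), (0, 8, true), (0, 7, true), (0, 40, true), (2, 37, true), (1, 40, true), (0, 7, true), (1, 36, true), (0, 40, true), (1, 39, true), (0, 7, true), (2, 35, true), (1, 5, true), (0, 42, true)]),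
  ([0, 6, 8], [(0, 14, true), (4, 16, true), (3, 29, true), (2, 32, true), (1, 44, true), (0, 8, true), (2, 31, true), (1, 5, true), (0, 7, true), (0, 3, true), (4, 27, true), (3, 40, true), (2, 42, true), (1, 7, true), (2, 39, true), (1, 42, true), (2, 6, true), (3, 25, true), (2, 41, true), (1, 44, true), (0, 8, true), (0, 7, true), (0, 40, true), (1, 39, true), (0, 7, true), (1, 5, true), (0, 42, true)], [(1, 43, true), (0, 16, true), (4, 15, true), (3, 23, true), (2, 37, true), (1, 42, true), (3, 36, true), (2, 42, true), (1, 7, true), (1, 6, true), (1, 35, true), (3, 21, true), (2, 37, true), (1, 40, true), (3, 36, true), (2, 40, true), (1, 7, true), (1, 39, true), (6, 19, true), (5, 33, true), (4, 37, true), (3, 40, true), (2, 42, true), (1, 7, true), (4, 30, true), (3, 4, true), (2, 41, true), (1, 43, true), (0, 8, true), (1, 42, true), (0, 7, true), (1, 39, true), (0, 42, true), (1, 6, true), (1, 5, true), (0, 7, true), (0, 3, true), (4, 18, true), (6, 14, true), (5, 23, true), (4, 33, true), (3, 40, true), (2, 42, true), (1, 7, true), (3, 32, true), (2, 41, true), (1, 43,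 true), (0, 8, true), (1, 42, true), (0, 7, true), (1, 5, true), (0, 42, true), (2, 31, true), (4, 22, true), (3, 34, true), (2, 40, true), (1, 42, true), (0, 7, true), (1, 39, true), (0, 42, true), (1, 6, true), (1, 5, true), (0, 7, true), (0, 32, true), (2, 31, true), (1, 5, true), (3, 18, true), (2, 3, true), (1, 44, true), (0, 8, true), (0, 7, true), (2, 17, true), (1, 5, true), (0, 42, true)]),
  ([0, 7, 8], [(0, 15, true), (4, 16, true), (3, 34, true), (2, 37, true), (1, 42, true), (3, 36, true), (2, 42, true), (1, 7, true), (1, 6, true), (1, 35, true), (3, 32, true), (2, 38, true), (1, 41, true), (0, 8, true), (1, 40, true), (0, 7, true), (1, 35, true), (0, 5, true), (2, 30, true), (1, 4, true), (0, 44, true)], [(1, 44, true), (0, 16, true), (4, 15, true), (3, 23, true), (2, 37, true), (1, 42, true), (3, 36, true), (2, 42, true), (1, 7, true), (1, 6, true), (1, 35, true), (3, 21, true), (2, 37, true), (1, 40, true), (3, 36, true), (2, 40, true), (1, 7, true), (1, 39, true), (6, 19, true), (5, 33, true), (4, 37, true), (3, 40, true), (2, 42, true), (1, 7, true), (4, 30, true),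 (3, 4, true), (2, 41, true), (1, 43, true), (0, 8, true), (1, 42, true), (0, 7, true), (1, 39, true), (0, 42, true), (1, 6, true), (1, 5, true), (0, 7, true), (0, 3, true), (4, 18, true)]),
  ([1, 2, 3], [(0, 17, true), (4, 18, true), (3, 24, true), (2, 34, true), (1, 37, true), (0, 40, true), (2, 36, true), (1, 40, true), (0, 7, true), (0, 39, true), (3, 35, true), (2, 5, true), (1, 42, true), (0, 7, true), (2, 33, true), (1, 37, true), (0, 42, true), (3, 32, true), (2, 38, true), (1, 43, true), (0, 44, true), (1, 7, true), (1, 42, true), (3, 35, true), (5, 31, true), (4, 35, true), (3, 5, true), (2, 42, true), (1, 7, true), (3, 3, true), (2, 38, true), (1, 43, true), (0, 8, true), (1, 42, true), (0, 7, true), (1, 37, true), (0, 42, true), (2, 36, true), (1, 42, true), (0, 7, true), (0, 6, true), (0, 35, true)], [(1, 24, true), (0, 23, true), (3, 22, true), (2, 41, true), (1, 43, true), (0, 44, true), (1, 7, true), (1, 42, true), (3, 39, true), (2, 42, true), (1, 7, true), (1, 6, true), (1, 5, true), (2, 21, true), (1, 7, true), (3, 20, true), (2, 34, true), (1, 42, true), (2, 6,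 true), (3, 33, true), (2, 40, true), (1, 7, true), (2, 32, true), (1, 41, true), (0, 8, true), (1, 5, true), (0, 7, true), (0, 3, true), (4, 18, true), (5, 17, true), (4, 31, true), (3, 5, true), (2, 42, true), (1, 7, true), (2, 30, true), (3, 3, true), (2, 38, true), (1, 43, true), (0, 8, true), (1, 42, true), (0, 7, true), (1, 37, true), (0, 42, true), (2, 36, true), (1, 42, true), (0, 7, true), (0, 6, true), (0, 35, true)]),
  ([1, 2, 4], [(0, 17, true), (4, 19, true), (3, 28, true), (2, 34, true), (1, 37, true), (0, 40, true), (2, 36, true), (1, 40, true), (0, 7, true), (0, 39, true), (3, 35, true), (2, 5, true), (1, 42, true), (0, 7, true), (2, 32, true), (1, 38, true), (0, 43, true), (2, 42, true), (1, 7, true), (2, 35, true), (4, 31, true), (3, 35, true), (2, 5, true), (1, 42, true), (5, 25, true), (4, 34, true), (3, 37, true), (2, 42, true), (1, 7, true), (2, 36, true), (1, 42, true), (2, 6, true), (2, 35, true), (4, 33, true), (3, 37, true), (2, 40, true), (1, 7, true), (3, 32, true), (2, 38, true), (1, 41, true), (0, 8, true), (1, 40, true), (0, 7, true), (1, 35, true), (0,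 5, true), (2, 31, true), (1, 35, true), (3, 30, true), (2, 4, true), (1, 41, true), (0, 44, true), (1, 7, true), (1, 39, true), (3, 5, true), (2, 42, true), (1, 7, true), (2, 3, true), (1, 43, true), (0, 8, true), (1, 42, true), (0, 7, true), (0, 6, true), (1, 24, true), (0, 41, true), (2, 40, true), (1, 7, true), (1, 39, true), (3, 5, true), (2, 42, true), (1, 7, true)], [(1, 25, true), (0, 23, true), (3, 22, true), (2, 41, true), (1, 43, true), (0, 44, true), (1, 7, true), (1, 42, true), (3, 39, true), (2, 42, true), (1, 7, true), (1, 6, true), (1, 5, true), (2, 21, true), (1, 7, true), (3, 20, true), (2, 34, true), (1, 42, true), (2, 6, true), (3, 33, true), (2, 40, true), (1, 7, true), (2, 32, true), (1, 41, true), (0, 8, true), (1, 5, true), (0, 7, true), (0, 3, true), (4, 19, true), (3, 40, true), (2, 42, true), (1, 7, true), (5, 18, true), (4, 3, true), (3, 38, true), (2, 41, true), (1, 43, true), (0, 8, true), (1, 42, true), (0, 7, true), (1, 40, true), (0, 42, true), (3, 37, true), (2, 40, true), (1, 42, true), (0, 7, true), (2, 36, true), (1, 40, true), (0, 42, true), (2,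 39, true), (1, 42, true), (0, 7, true), (0, 6, true), (1, 35, true), (0, 5, true), (2, 17, true), (1, 35, true), (2, 4, true), (1, 41, true), (0, 44, true), (1, 7, true), (1, 39, true), (3, 5, true), (2, 42, true), (1, 7, true)]),
  ([1, 2, 5], [(0, 17, true), (4, 20, true), (3, 29, true), (2, 32, true), (1, 38, true), (0, 41, true), (2, 40, true), (1, 7, true), (2, 35, true), (1, 5, true), (3, 31, true), (2, 35, true), (4, 3, true), (3, 38, true), (2, 41, true), (1, 44, true), (0, 8, true), (0, 7, true), (0, 40, true), (2, 37, true), (1, 40, true), (0, 7, true), (1, 36, true), (0, 40, true), (1, 39, true), (0, 7, true), (2, 35, true), (1, 5, true), (0, 42, true), (3, 28, true), (2, 38, true), (1, 43, true), (0, 44, true), (1, 7, true), (1, 42, true), (3, 36, true), (2, 42, true), (1, 7, true), (1, 6, true), (1, 35, true), (3, 27, true), (2, 37, true), (1, 40, true), (3, 36, true), (2, 40, true), (1, 7, true), (1, 39, true), (5, 24, true), (4, 38, true), (3, 41, true), (2, 43, true), (1, 44, true), (0, 8, true), (0, 7, true), (0, 42, true), (2, 40, true), (1, 42, true), (0, 7, true),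 (2, 37, true), (1, 40, true), (0, 42, true), (3, 36, true), (2, 40, true), (1, 42, true), (0, 7, true), (1, 39, true), (0, 42, true), (1, 6, true), (2, 35, true), (1, 5, true), (0, 7, true)], [(1, 26, true), (0, 20, true), (4, 18, true), (3, 3, true), (2, 43, true), (1, 44, true), (0, 8, true), (0, 7, true), (0, 42, true), (1, 6, true), (2, 17, true), (1, 5, true), (0, 7, true)]),
  ([1, 2, 7], [(0, 17, true), (4, 22, true), (3, 29, true), (2, 32, true), (1, 38, true), (0, 41, true), (2, 40, true), (1, 7, true), (2, 35, true), (1, 5, true), (3, 31, true), (2, 35, true), (4, 3, true), (3, 38, true), (2, 41, true), (1, 44, true), (0, 8, true), (0, 7, true), (0, 40, true), (2, 37, true), (1, 40, true), (0, 7, true), (1, 36, true), (0, 40, true), (1, 39, true), (0, 7, true), (2, 35, true), (1, 5, true), (0, 42, true), (3, 27, true), (2, 37, true), (1, 42, true), (0, 7, true), (1, 36, true), (0, 42, true), (1, 6, true), (2, 26, true), (1, 35, true)], [(1, 28, true), (0, 23, true), (3, 21, true), (2, 40, true), (1, 42, true), (0, 7, true), (1, 39, true), (0, 42, true), (1, 6, true), (3,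 20, true), (2, 34, true), (1, 40, true), (0, 7, true), (0, 39, true), (2, 5, true), (1, 42, true), (0, 7, true), (1, 33, true), (0, 42, true), (2, 32, true), (1, 43, true), (0, 44, true), (1, 7, true), (3, 3, true), (2, 41, true), (1, 43, true), (0, 8, true), (1, 42, true), (0, 7, true), (1, 40, true), (0, 42, true), (2, 39, true), (1, 42, true), (0, 7, true), (0, 6, true), (0, 5, true), (1, 17, true)]),
  ([1, 2, 8], [(0, 17, true), (4, 23, true), (3, 28, true), (2, 34, true), (1, 37, true), (0, 40, true), (2, 36, true), (1, 40, true), (0, 7, true), (0, 39, true), (3, 35, true), (2, 5, true), (1, 42, true), (0, 7, true), (2, 32, true), (1, 38, true), (0, 43, true), (2, 42, true), (1, 7, true), (2, 35, true), (4, 31, true), (3, 35, true), (2, 5, true), (1, 42, true), (5, 27, true), (4, 33, true), (3, 37, true), (2, 42, true), (1, 7, true), (3, 32, true), (2, 38, true), (1, 43, true), (0, 8, true), (1, 42, true), (0, 7, true), (1, 35, true), (4, 26, true), (3, 31, true), (2, 35, true), (1, 5, true), (0, 42, true), (3, 3, true), (2, 38, true), (1, 43, true), (0, 44, true), (1, 7, true),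 (1, 42, true), (3, 37, true), (2, 42, true), (1, 7, true), (2, 36, true), (1, 42, true), (2, 6, true), (2, 35, true)], [(1, 29, true), (0, 21, true), (3, 20, true), (2, 34, true), (1, 42, true), (0, 7, true), (0, 6, true), (1, 33, true), (0, 40, true), (2, 32, true), (1, 41, true), (0, 44, true), (1, 7, true), (1, 5, true), (2, 3, true), (1, 44, true), (0, 8, true), (0, 7, true), (2, 18, true), (3, 17, true), (2, 31, true), (1, 5, true), (0, 42, true), (2, 30, true), (3, 3, true), (2, 38, true), (1, 43, true), (0, 44, true), (1, 7, true), (1, 42, true), (3, 37, true), (2, 42, true), (1, 7, true), (2, 36, true), (1, 42, true), (2, 6, true), (2, 35, true)]),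
  ([0, 0, 0], [(0, 0, true)], [(1, 0, true), (0, 16, true), (4, 15, true), (3, 23, true), (2, 37, true), (1, 42, true), (3, 36, true), (2, 42, true), (1, 7, true), (1, 6, true), (1, 35, true), (3, 21, true), (2, 37, true), (1, 40, true), (3, 36, true), (2, 40, true), (1, 7, true), (1, 39, true), (6, 19, true), (5, 33, true), (4, 37, true), (3, 40, true), (2, 42, true), (1, 7, true), (4, 30, true), (3, 4, true), (2, 41, true), (1, 43, true), (0, 8, true), (1, 42, true), (0, 7, true), (1, 39, true), (0, 42, true), (1, 6, true), (1, 5, true), (0, 7, true), (0, 3, true), (4, 18, true), (6, 14, true), (5, 23, true), (4, 33, true), (3, 40, true), (2, 42, true), (1, 7, true), (3, 32, true), (2, 41, true), (1, 43, true), (0, 8, true), (1, 42, true), (0, 7, true), (1, 5, true), (0, 42, true), (2, 31, true), (4, 22, true), (3, 34, true), (2, 40, true), (1, 42, true), (0, 7, true), (1, 39, true), (0, 42, true), (1, 6, true), (1, 5, true), (0, 7, true), (0, 32, true), (2, 31, true), (1, 5, true), (3, 18, true), (2, 3, true), (1, 44, true), (0, 8, true), (0, 7, true), (2, 17, true), (1, 5, true),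 (0, 42, true), (6, 13, true), (5, 23, true), (4, 28, true), (3, 34, true), (2, 37, true), (1, 42, true), (0, 7, true), (1, 36, true), (0, 42, true), (1, 6, true), (1, 35, true), (3, 32, true), (2, 38, true), (1, 41, true), (0, 44, true), (1, 7, true), (1, 40, true), (3, 35, true), (2, 5, true), (1, 7, true), (2, 31, true), (1, 35, true), (4, 27, true), (3, 33, true), (2, 37, true), (1, 40, true), (4, 32, true), (3, 38, true), (2, 41, true), (1, 44, true), (0, 8, true), (0, 7, true), (0, 40, true), (2, 35, true), (1, 5, true), (0, 7, true), (2, 26, true), (1, 31, true), (0, 35, true), (2, 3, true), (1, 38, true), (0, 41, true), (2, 40, true), (1, 7, true), (2, 37, true), (1, 40, true), (3, 36, true), (2, 40, true), (1, 7, true), (1, 39, true), (4, 35, true), (3, 5, true), (2, 42, true), (1, 7, true), (4, 22, true), (3, 29, true), (2, 36, true), (1, 42, true), (2, 6, true), (2, 35, true), (5, 27, true), (4, 33, true), (3, 37, true), (2, 40, true), (1, 7, true), (3, 32, true), (2, 38, true), (1, 41, true), (0, 8, true), (1, 40, true), (0, 7, true), (1, 35, true), (0, 5, true), (3, 26,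 true), (2, 31, true), (1, 35, true), (3, 3, true), (2, 38, true), (1, 41, true), (0, 44, true), (1, 7, true), (1, 40, true), (3, 37, true), (2, 40, true), (1, 7, true), (2, 36, true), (1, 40, true), (2, 39, true), (1, 7, true), (3, 35, true), (2, 5, true), (1, 42, true), (5, 17, true), (4, 26, true), (3, 35, true), (6, 25, true), (5, 34, true), (4, 37, true), (3, 40, true), (2, 42, true), (1, 7, true), (3, 36, true), (2, 40, true), (1, 42, true), (3, 39, true), (2, 42, true), (1, 7, true), (1, 6, true), (2, 35, true), (1, 5, true), (3, 33, true), (2, 37, true), (1, 7, true), (2, 32, true), (1, 38, true), (0, 8, true), (1, 35, true), (3, 31, true), (2, 35, true), (1, 5, true), (0, 7, true), (1, 30, true), (0, 4, true), (3, 3, true), (2, 41, true), (1, 43, true), (0, 8, true), (1, 42, true), (0, 7, true), (1, 40, true), (0, 42, true), (2, 39, true), (1, 42, true), (0, 7, true), (0, 6, true), (0, 5, true), (1, 24, true), (0, 44, true), (1, 7, true), (4, 2, true), (3, 33, true), (2, 40, true), (1, 42, true), (4, 3, true), (3, 41, true), (2, 43, true), (1, 44, true), (0, 8, true), (0, 7,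 true), (0, 42, true), (2, 40, true), (1, 42, true), (0, 7, true), (1, 39, true), (0, 42, true), (1, 6, true), (1, 5, true), (0, 7, true), (0, 1, true), (4, 12, true), (3, 41, true), (2, 43, true), (1, 44, true), (0, 8, true), (0, 7, true), (0, 42, true), (2, 40, true), (1, 42, true), (0, 7, true), (5, 10, true), (4, 21, true), (3, 28, true), (2, 34, true), (1, 40, true), (0, 42, true), (2, 39, true), (1, 42, true), (0, 7, true), (0, 6, true), (0, 5, true), (1, 32, true), (0, 44, true), (3, 31, true), (2, 5, true), (1, 7, true), (2, 27, true), (1, 33, true), (2, 32, true), (1, 44, true), (0, 8, true), (3, 24, true), (2, 34, true), (1, 40, true), (0, 7, true), (0, 39, true), (2, 5, true), (1, 42, true), (0, 7, true), (1, 33, true), (0, 42, true), (2, 32, true), (1, 43, true), (0, 44, true), (1, 7, true), (3, 31, true), (2, 5, true), (1, 42, true), (3, 3, true), (2, 43, true), (1, 44, true), (0, 8, true), (0, 7, true), (0, 42, true), (1, 6, true), (3, 20, true), (2, 29, true), (1, 39, true), (0, 7, true), (1, 5, true), (0, 42, true), (3, 28, true), (2, 34, true), (1, 42, true), (0, 7,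 true), (0, 6, true), (1, 32, true), (0, 41, true), (2, 5, true), (1, 7, true), (1, 31, true), (3, 27, true), (2, 33, true), (1, 40, true), (3, 32, true), (2, 41, true), (1, 44, true), (0, 8, true), (0, 7, true), (0, 5, true), (2, 24, true), (1, 34, true), (0, 7, true), (2, 33, true), (1, 40, true), (0, 42, true), (3, 32, true), (2, 41, true), (1, 43, true), (0, 44, true), (1, 7, true), (1, 42, true), (3, 5, true), (2, 42, true), (1, 7, true), (2, 31, true), (3, 3, true), (2, 41, true), (1, 43, true), (0, 8, true), (1, 42, true), (0, 7, true), (1, 40, true), (0, 42, true), (2, 39, true), (1, 42, true), (0, 7, true), (0, 6, true), (0, 5, true), (2, 19, true), (1, 28, true), (0, 44, true), (4, 25, true), (3, 41, true), (2, 43, true), (1, 44, true), (0, 8, true), (0, 7, true), (0, 42, true), (2, 40, true), (1, 42, true), (0, 7, true), (1, 39, true), (0, 42, true), (1, 6, true), (1, 5, true), (0, 7, true), (2, 24, true), (1, 34, true), (0, 37, true), (1, 36, true), (0, 7, true), (1, 35, true), (3, 33, true), (2, 37, true), (1, 40, true), (0, 42, true), (4, 32, true), (3, 38, true), (2,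 41, true), (1, 43, true), (0, 44, true), (1, 7, true), (1, 42, true), (3, 40, true), (2, 42, true), (1, 7, true), (3, 35, true), (2, 5, true), (1, 42, true), (4, 31, true), (3, 35, true), (5, 3, true), (4, 38, true), (3, 41, true), (2, 43, true), (1, 44, true), (0, 8, true), (0, 7, true), (0, 42, true), (2, 40, true), (1, 42, true), (0, 7, true), (2, 37, true), (1, 40, true), (0, 42, true), (3, 36, true), (2, 40, true), (1, 42, true), (0, 7, true), (1, 39, true), (0, 42, true), (1, 6, true), (2, 35, true), (1, 5, true), (0, 7, true), (2, 1, true), (1, 29, true), (0, 36, true), (2, 35, true), (5, 28, true), (4, 34, true), (3, 37, true), (2, 40, true), (1, 42, true), (0, 7, true), (2, 36, true), (1, 40, true), (0, 42, true), (2, 39, true), (1, 42, true), (0, 7, true), (0, 6, true), (1, 35, true), (0, 5, true), (2, 32, true), (1, 38, true), (0, 44, true), (1, 7, true), (1, 35, true), (3, 31, true), (2, 35, true), (1, 5, true), (4, 27, true), (3, 33, true), (2, 37, true), (1, 7, true), (2, 32, true), (1, 38, true), (0, 8, true), (1, 35, true), (4, 26, true), (3, 31, true), (2, 35, true),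 (1, 5, true), (0, 7, true), (1, 3, true), (0, 38, true), (2, 37, true), (1, 7, true), (1, 36, true), (3, 35, true)]),
  ([0, 0, 1], [(0, 0, true)], [(1, 9, true), (0, 16, true), (4, 13, true), (3, 23, true), (2, 37, true), (1, 42, true), (3, 36, true), (2, 42, true), (1, 7, true), (1, 6, true), (1, 35, true), (3, 22, true), (2, 38, true), (1, 41, true), (0, 8, true), (1, 40, true), (0, 7, true), (1, 36, true), (0, 40, true), (1, 39, true), (0, 7, true), (2, 35, true), (1, 5, true), (0, 42, true), (3, 17, true), (2, 35, true), (3, 4, true), (2, 41, true), (1, 43, true), (0, 44, true), (1, 7, true), (1, 42, true), (3, 39, true), (2, 42, true), (1, 7, true), (1, 6, true), (1, 5, true), (4, 1, true), (3, 29, true), (2, 32, true), (1, 44, true), (0, 8, true), (2, 31, true), (1, 5, true), (0, 7, true), (0, 3, true), (4, 28, true), (3, 41, true), (2, 43, true), (1, 44, true), (0, 8, true), (0, 7, true), (0, 42, true), (2, 39, true), (1, 42, true), (0, 7, true), (0, 6, true), (0, 5, true), (1, 27, true), (0, 7, true), (1, 26, true), (4, 12, true), (3, 29, true), (2, 32, true), (1, 41, true),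 (0, 43, true), (2, 42, true), (1, 7, true), (2, 5, true), (1, 42, true), (3, 31, true), (4, 3, true), (3, 41, true), (2, 43, true), (1, 44, true), (0, 8, true), (0, 7, true), (0, 42, true), (2, 40, true), (1, 42, true), (0, 7, true), (1, 39, true), (0, 42, true), (1, 6, true), (1, 5, true), (0, 7, true), (0, 28, true), (3, 24, true), (2, 41, true), (1, 43, true), (0, 8, true), (1, 42, true), (0, 7, true), (1, 40, true), (0, 42, true), (2, 39, true), (1, 42, true), (0, 7, true), (0, 6, true), (0, 5, true), (2, 2, true), (1, 33, true), (0, 7, true), (0, 3, true), (5, 11, true), (4, 22, true), (3, 41, true), (2, 43, true), (1, 44, true), (0, 8, true), (0, 7, true), (0, 42, true), (2, 39, true), (1, 42, true), (0, 7, true), (0, 6, true), (0, 5, true), (1, 20, true), (0, 44, true), (1, 7, true), (3, 19, true), (2, 33, true), (1, 42, true), (3, 30, true), (4, 3, true), (3, 38, true), (2, 43, true), (1, 44, true), (0, 8, true), (0, 7, true), (0, 42, true), (2, 37, true), (1, 42, true), (0, 7, true), (1, 36, true), (0, 42, true), (1, 6, true), (1, 35, true), (4, 0, true), (3, 23, true), (2,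 37, true), (1, 40, true), (0, 7, true), (1, 36, true), (0, 40, true), (1, 39, true), (0, 7, true), (2, 35, true), (1, 5, true), (0, 42, true), (3, 22, true), (2, 38, true), (1, 43, true), (0, 44, true), (1, 7, true), (1, 42, true), (3, 36, true), (2, 42, true), (1, 7, true), (1, 6, true), (1, 35, true), (3, 21, true), (2, 37, true), (1, 40, true), (3, 36, true), (2, 40, true), (1, 7, true), (1, 39, true), (6, 20, true), (5, 34, true), (4, 37, true), (3, 40, true), (2, 42, true), (1, 7, true), (3, 36, true), (2, 40, true), (1, 42, true), (3, 39, true), (2, 42, true), (1, 7, true), (1, 6, true), (2, 35, true), (1, 5, true), (3, 33, true), (2, 37, true), (1, 7, true), (2, 32, true), (1, 38, true), (0, 8, true), (1, 35, true), (3, 3, true), (2, 38, true), (1, 41, true), (0, 44, true), (1, 7, true), (1, 40, true), (3, 37, true), (2, 40, true), (1, 7, true), (2, 36, true), (1, 40, true), (2, 39, true), (1, 7, true), (3, 35, true), (2, 5, true), (1, 42, true), (4, 19, true), (3, 37, true), (2, 42, true), (1, 7, true), (2, 4, true), (1, 43, true), (0, 8, true), (1, 6, true), (3, 17, true),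 (2, 31, true), (1, 5, true), (0, 7, true), (0, 30, true), (1, 3, true), (0, 38, true), (2, 37, true), (1, 7, true), (1, 36, true), (3, 35, true)]),
  ([0, 1, 1], [(0, 9, true), (4, 9, true), (3, 34, true), (2, 37, true), (1, 40, true), (3, 36, true), (2, 40, true), (1, 7, true), (1, 39, true), (4, 35, true), (3, 5, true), (2, 42, true), (1, 7, true), (3, 31, true), (2, 35, true), (4, 30, true), (3, 4, true), (2, 41, true), (1, 43, true), (0, 8, true), (1, 42, true), (0, 7, true), (1, 39, true), (0, 42, true), (1, 6, true), (1, 5, true), (0, 7, true), (0, 3, true)], [(1, 1, true), (0, 16, true), (4, 15, true), (3, 23, true), (2, 37, true), (1, 42, true), (3, 36, true), (2, 42, true), (1, 7, true), (1, 6, true), (1, 35, true), (3, 21, true), (2, 37, true), (1, 40, true), (3, 36, true), (2, 40, true), (1, 7, true), (1, 39, true), (6, 19, true), (5, 33, true), (4, 37, true), (3, 40, true), (2, 42, true), (1, 7, true), (4, 30, true), (3, 4, true), (2, 41, true), (1, 43, true), (0, 8, true), (1, 42, true), (0, 7, true), (1, 39, true), (0, 42, true), (1, 6, true), (1, 5, true), (0, 7, true),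 (0, 3, true), (4, 18, true), (6, 14, true), (5, 23, true), (4, 33, true), (3, 40, true), (2, 42, true), (1, 7, true), (3, 32, true), (2, 41, true), (1, 43, true), (0, 8, true), (1, 42, true), (0, 7, true), (1, 5, true), (0, 42, true), (2, 31, true), (4, 22, true), (3, 34, true), (2, 40, true), (1, 42, true), (0, 7, true), (1, 39, true), (0, 42, true), (1, 6, true), (1, 5, true), (0, 7, true), (0, 32, true), (2, 31, true), (1, 5, true), (3, 18, true), (2, 3, true), (1, 44, true), (0, 8, true), (0, 7, true), (2, 17, true), (1, 5, true), (0, 42, true), (6, 13, true), (5, 23, true), (4, 28, true), (3, 34, true), (2, 37, true), (1, 42, true), (0, 7, true), (1, 36, true), (0, 42, true), (1, 6, true), (1, 35, true), (3, 32, true), (2, 38, true), (1, 41, true), (0, 44, true), (1, 7, true), (1, 40, true), (3, 35, true), (2, 5, true), (1, 7, true), (2, 31, true), (1, 35, true), (4, 27, true), (3, 33, true), (2, 37, true), (1, 40, true), (4, 32, true), (3, 38, true), (2, 41, true), (1, 44, true), (0, 8, true), (0, 7, true), (0, 40, true), (2, 35, true), (1, 5, true), (0, 7, true), (2, 26, true),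 (1, 31, true), (0, 35, true), (2, 3, true), (1, 38, true), (0, 41, true), (2, 40, true), (1, 7, true), (2, 37, true), (1, 40, true), (3, 36, true), (2, 40, true), (1, 7, true), (1, 39, true), (4, 35, true), (3, 5, true), (2, 42, true), (1, 7, true), (4, 22, true), (3, 29, true), (2, 36, true), (1, 42, true), (2, 6, true), (2, 35, true), (5, 27, true), (4, 33, true), (3, 37, true), (2, 40, true), (1, 7, true), (3, 32, true), (2, 38, true), (1, 41, true), (0, 8, true), (1, 40, true), (0, 7, true), (1, 35, true), (0, 5, true), (3, 26, true), (2, 31, true), (1, 35, true), (3, 3, true), (2, 38, true), (1, 41, true), (0, 44, true), (1, 7, true), (1, 40, true), (3, 37, true), (2, 40, true), (1, 7, true), (2, 36, true), (1, 40, true), (2, 39, true), (1, 7, true), (3, 35, true), (2, 5, true), (1, 42, true), (5, 17, true), (4, 26, true), (3, 35, true), (6, 25, true), (5, 34, true), (4, 37, true), (3, 40, true), (2, 42, true), (1, 7, true), (3, 36, true), (2, 40, true), (1, 42, true), (3, 39, true), (2, 42, true), (1, 7, true), (1, 6, true), (2, 35, true), (1, 5, true), (3, 33, true), (2, 37,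 true), (1, 7, true), (2, 32, true), (1, 38, true), (0, 8, true), (1, 35, true), (3, 31, true), (2, 35, true), (1, 5, true), (0, 7, true), (1, 30, true), (0, 4, true), (3, 3, true), (2, 41, true), (1, 43, true), (0, 8, true), (1, 42, true), (0, 7, true), (1, 40, true), (0, 42, true), (2, 39, true), (1, 42, true), (0, 7, true), (0, 6, true), (0, 5, true), (1, 24, true), (0, 44, true), (1, 7, true), (4, 2, true), (3, 33, true), (2, 40, true), (1, 42, true), (4, 3, true), (3, 41, true), (2, 43, true), (1, 44, true), (0, 8, true), (0, 7, true), (0, 42, true), (2, 40, true), (1, 42, true), (0, 7, true), (1, 39, true), (0, 42, true), (1, 6, true), (1, 5, true), (0, 7, true), (0, 1, true)])]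

/-- A conjugation. -/
def twoHSFus0 : Schur.Tails.Fus where
  xs := [[6, 3]]
  ys := [[8, 6, 4, 3, 2, 1, 0]]
  rels := [
    ([0, 0], [], [(1, 32, true), (0, 43, true), (4, 3, true), (3, 41, true), (2, 43, true), (1, 44, true), (0, 8, true), (0, 7, true), (0, 42, true), (2, 40, true), (1, 42, true), (0, 7, true), (1, 39, true), (0, 42, true), (1, 6, true), (1, 5, true), (0, 7, true)], [(6, 16, true), (5, 23, true), (4, 28, true), (3, 34, true), (2, 37, true), (1, 42, true), (3, 36, true), (2, 42, true), (1, 7, true), (1, 6, true), (1, 35, true), (3, 32, true), (2, 38, true), (1, 41, true), (0, 8, true), (1, 40, true), (0, 7, true), (1, 35, true), (0, 5, true), (2, 31, true), (1, 35, true), (4, 27, true), (3, 33, true), (2, 37, true), (1, 40, true), (0, 7, true), (2, 32, true), (1, 38, true), (0, 41, true), (2, 40, true), (1, 7, true), (2, 35, true), (1, 5, true), (4, 26, true), (3, 31, true), (2, 35, true), (4, 3, true), (3, 38, true), (2, 41, true), (1, 44, true), (0, 8, true), (0, 7, true), (0, 40, true), (2, 37, true), (1, 40, true), (0, 7, true), (1, 36, true), (0, 40, true),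 (1, 39, true), (0, 7, true), (2, 35, true), (1, 5, true), (0, 42, true), (4, 21, true), (3, 28, true), (2, 38, true), (1, 43, true), (0, 44, true), (1, 7, true), (1, 42, true), (3, 36, true), (2, 42, true), (1, 7, true), (1, 6, true), (1, 35, true), (3, 27, true), (2, 37, true), (1, 40, true), (3, 36, true), (2, 40, true), (1, 7, true), (1, 39, true), (5, 24, true), (4, 38, true), (3, 41, true), (2, 43, true), (1, 44, true), (0, 8, true), (0, 7, true), (0, 42, true), (2, 40, true), (1, 42, true), (0, 7, true), (2, 37, true), (1, 40, true), (0, 42, true), (3, 36, true), (2, 40, true), (1, 42, true), (0, 7, true), (1, 39, true), (0, 42, true), (1, 6, true), (2, 35, true), (1, 5, true), (0, 7, true), (3, 19, true), (2, 28, true), (1, 34, true), (0, 37, true), (1, 36, true), (0, 7, true), (1, 35, true), (3, 32, true), (2, 38, true), (1, 41, true), (0, 43, true), (2, 42, true), (1, 7, true), (2, 40, true), (1, 42, true), (4, 35, true), (3, 5, true), (2, 42, true), (1, 7, true), (3, 31, true), (2, 35, true), (5, 25, true), (4, 34, true), (3, 37, true), (2, 40, true), (1, 42, true), (4, 36,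 true), (3, 40, true), (2, 42, true), (1, 7, true), (2, 39, true), (1, 42, true), (2, 6, true), (3, 35, true), (2, 5, true), (1, 7, true), (2, 33, true), (1, 37, true), (3, 32, true), (2, 38, true), (1, 44, true), (0, 8, true), (0, 7, true), (0, 35, true), (2, 31, true), (1, 35, true), (0, 5, true), (2, 30, true), (1, 4, true), (0, 44, true), (4, 3, true), (3, 41, true), (2, 43, true), (1, 44, true), (0, 8, true), (0, 7, true), (0, 42, true), (2, 40, true), (1, 42, true), (0, 7, true), (1, 39, true), (0, 42, true), (1, 6, true), (1, 5, true), (0, 7, true), (0, 24, true), (6, 1, true), (5, 29, true), (4, 32, true), (3, 41, true), (2, 43, true), (1, 44, true), (0, 8, true), (0, 7, true), (0, 42, true), (2, 5, true), (1, 42, true), (0, 7, true), (1, 31, true), (2, 3, true), (1, 41, true), (0, 43, true), (2, 42, true), (1, 7, true), (2, 40, true), (1, 42, true), (3, 39, true), (2, 42, true), (1, 7, true), (1, 6, true), (1, 5, true), (2, 28, true), (1, 44, true), (0, 8, true), (3, 27, true), (2, 40, true), (1, 42, true), (0, 7, true), (1, 39, true), (0, 42, true), (1, 6, true), (2, 26, true),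 (1, 5, true), (0, 7, true), (2, 14, true), (1, 29, true), (0, 32, true), (2, 31, true), (1, 5, true), (2, 3, true), (1, 44, true), (0, 8, true), (0, 7, true), (2, 28, true), (1, 41, true), (0, 43, true), (2, 42, true), (1, 7, true), (2, 39, true), (1, 42, true), (2, 6, true), (2, 5, true), (1, 7, true), (1, 24, true), (0, 8, true), (4, 2, true), (3, 33, true), (2, 40, true), (1, 42, true), (0, 7, true), (2, 3, true), (1, 41, true), (0, 43, true), (2, 42, true), (1, 7, true), (2, 40, true), (1, 42, true), (3, 39, true), (2, 42, true), (1, 7, true), (1, 6, true), (1, 5, true), (2, 12, true), (1, 44, true), (0, 8, true), (0, 7, true), (3, 11, true), (2, 22, true), (1, 29, true), (0, 32, true), (2, 31, true), (1, 5, true), (2, 3, true), (1, 44, true), (0, 8, true), (0, 7, true), (2, 27, true), (1, 40, true), (0, 42, true), (2, 39, true), (1, 42, true), (0, 7, true), (0, 6, true), (1, 26, true), (0, 5, true), (3, 20, true), (2, 29, true), (1, 32, true), (0, 44, true), (3, 31, true), (2, 5, true), (1, 7, true), (1, 3, true), (0, 8, true), (3, 28, true), (2, 41, true), (1, 43, true), (0,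 44, true), (1, 7, true), (1, 42, true), (3, 39, true), (2, 42, true), (1, 7, true), (1, 6, true), (1, 5, true), (2, 27, true), (1, 7, true), (2, 24, true), (1, 43, true), (0, 8, true), (1, 42, true), (0, 7, true), (0, 6, true), (3, 19, true), (2, 28, true), (1, 34, true), (0, 40, true), (1, 39, true), (0, 7, true), (1, 5, true), (0, 42, true), (2, 32, true), (1, 43, true), (0, 44, true), (1, 7, true), (3, 31, true), (2, 5, true), (1, 42, true), (4, 25, true), (3, 34, true), (2, 42, true), (1, 7, true), (1, 6, true), (2, 33, true), (1, 40, true), (3, 32, true), (2, 41, true), (1, 44, true), (0, 8, true), (0, 7, true), (0, 5, true), (1, 31, true), (2, 30, true), (3, 3, true), (2, 38, true), (1, 41, true), (0, 44, true), (1, 7, true), (1, 40, true), (3, 37, true), (2, 40, true), (1, 7, true), (2, 36, true), (1, 40, true), (2, 39, true), (1, 7, true), (3, 35, true), (2, 5, true), (1, 42, true), (4, 24, true), (3, 38, true), (2, 43, true), (1, 44, true), (0, 8, true), (0, 7, true), (0, 42, true), (2, 37, true), (1, 42, true), (0, 7, true), (1, 36, true), (0, 42, true), (1, 6, true), (1,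 35, true), (6, 10, true), (5, 21, true), (4, 28, true), (3, 34, true), (2, 37, true), (1, 40, true), (0, 7, true), (1, 36, true), (0, 40, true), (1, 39, true), (0, 7, true), (2, 35, true), (1, 5, true), (0, 42, true), (3, 32, true), (2, 38, true), (1, 43, true), (0, 44, true), (1, 7, true), (1, 42, true), (3, 35, true), (5, 31, true), (4, 35, true), (3, 5, true), (2, 42, true), (1, 7, true), (4, 27, true), (3, 33, true), (2, 37, true), (1, 42, true), (4, 32, true), (3, 38, true), (2, 43, true), (1, 44, true), (0, 8, true), (0, 7, true), (0, 42, true), (2, 35, true), (5, 24, true), (4, 34, true), (3, 37, true), (2, 40, true), (1, 42, true), (0, 7, true), (2, 36, true), (1, 40, true), (0, 42, true), (2, 39, true), (1, 42, true), (0, 7, true), (0, 6, true), (1, 35, true), (0, 5, true), (2, 33, true), (1, 37, true), (0, 7, true), (1, 32, true), (0, 38, true), (2, 35, true), (4, 31, true), (3, 35, true), (2, 5, true), (1, 7, true), (2, 3, true), (1, 38, true), (0, 8, true), (1, 37, true), (0, 7, true), (0, 36, true), (2, 35, true), (5, 20, true), (4, 29, true), (3, 36, true), (2, 40, true),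 (1, 42, true), (0, 7, true), (1, 39, true), (0, 42, true), (1, 6, true), (2, 35, true), (1, 5, true), (0, 7, true), (2, 28, true), (1, 34, true), (0, 37, true), (1, 36, true), (0, 7, true), (1, 35, true), (3, 32, true), (2, 38, true), (1, 41, true), (0, 43, true), (2, 42, true), (1, 7, true), (2, 40, true), (1, 42, true), (4, 35, true), (3, 5, true), (2, 42, true), (1, 7, true), (3, 31, true), (2, 35, true), (5, 27, true), (4, 33, true), (3, 37, true), (2, 40, true), (1, 42, true), (5, 32, true), (4, 38, true), (3, 41, true), (2, 43, true), (1, 44, true), (0, 8, true), (0, 7, true), (0, 42, true), (2, 40, true), (1, 42, true), (0, 7, true), (2, 35, true), (1, 5, true), (0, 42, true), (4, 24, true), (3, 34, true), (2, 37, true), (1, 42, true), (0, 7, true), (1, 36, true), (0, 42, true), (1, 6, true), (1, 35, true), (3, 33, true), (2, 37, true), (1, 40, true), (0, 7, true), (2, 32, true), (1, 38, true), (0, 41, true), (2, 40, true), (1, 7, true), (2, 35, true), (1, 5, true), (3, 31, true), (2, 35, true), (4, 3, true), (3, 38, true), (2, 41, true), (1, 44, true), (0, 8, true), (0, 7,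 true), (0, 40, true), (2, 37, true), (1, 40, true), (0, 7, true), (1, 36, true), (0, 40, true), (1, 39, true), (0, 7, true), (2, 35, true), (1, 5, true), (0, 42, true), (4, 19, true), (3, 28, true), (2, 38, true), (1, 43, true), (0, 44, true), (1, 7, true), (1, 42, true), (3, 36, true), (2, 42, true), (1, 7, true), (1, 6, true), (1, 35, true), (3, 25, true), (2, 38, true), (1, 41, true), (0, 8, true), (1, 40, true), (0, 7, true), (1, 37, true), (0, 40, true), (2, 36, true), (1, 40, true), (0, 7, true), (0, 39, true), (3, 35, true), (2, 5, true), (1, 42, true), (0, 7, true), (1, 4, true), (0, 43, true), (2, 6, true), (4, 24, true), (3, 34, true), (2, 40, true), (1, 7, true), (1, 39, true), (3, 5, true), (2, 42, true), (1, 7, true), (2, 33, true), (1, 42, true), (3, 32, true), (2, 43, true), (1, 44, true), (0, 8, true), (0, 7, true), (2, 31, true), (1, 5, true), (0, 42, true), (2, 3, true), (1, 43, true), (0, 44, true), (1, 7, true), (1, 42, true), (2, 6, true), (4, 1, true), (3, 29, true), (2, 39, true), (1, 7, true), (2, 5, true), (1, 42, true), (4, 28, true), (3, 34, true), (2, 42,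 true), (1, 7, true), (1, 6, true), (2, 32, true), (1, 41, true), (0, 8, true), (1, 5, true), (0, 7, true), (0, 31, true), (2, 27, true), (1, 33, true), (0, 40, true), (2, 32, true), (1, 41, true), (0, 44, true), (1, 7, true), (1, 5, true), (3, 26, true), (2, 31, true), (3, 3, true), (2, 41, true), (1, 44, true), (0, 8, true), (0, 7, true), (0, 40, true), (1, 39, true), (0, 7, true), (1, 5, true), (0, 42, true), (3, 9, true), (2, 29, true), (1, 6, true), (3, 26, true), (2, 31, true), (1, 5, true), (0, 7, true), (0, 3, true), (4, 25, true), (3, 41, true), (2, 43, true), (1, 44, true), (0, 8, true), (0, 7, true), (0, 42, true), (2, 40, true), (1, 42, true), (0, 7, true), (1, 39, true), (0, 42, true), (1, 6, true), (1, 5, true), (0, 7, true), (2, 24, true), (1, 34, true), (0, 37, true), (1, 36, true), (0, 7, true), (1, 35, true), (3, 33, true), (2, 37, true), (1, 40, true), (0, 42, true), (4, 32, true), (3, 38, true), (2, 41, true), (1, 43, true), (0, 44, true), (1, 7, true), (1, 42, true), (3, 40, true), (2, 42, true), (1, 7, true), (3, 35, true), (2, 5, true), (1, 42, true), (4, 31,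 true), (3, 35, true), (5, 3, true), (4, 38, true), (3, 41, true), (2, 43, true), (1, 44, true), (0, 8, true), (0, 7, true), (0, 42, true), (2, 40, true), (1, 42, true), (0, 7, true), (2, 37, true), (1, 40, true), (0, 42, true), (3, 36, true), (2, 40, true), (1, 42, true), (0, 7, true), (1, 39, true), (0, 42, true), (1, 6, true), (2, 35, true), (1, 5, true), (0, 7, true), (2, 0, true), (1, 29, true), (0, 36, true), (2, 35, true), (5, 28, true), (4, 34, true), (3, 37, true), (2, 40, true), (1, 42, true), (0, 7, true), (2, 36, true), (1, 40, true), (0, 42, true), (2, 39, true), (1, 42, true), (0, 7, true), (0, 6, true), (1, 35, true), (0, 5, true), (2, 32, true), (1, 38, true), (0, 44, true), (1, 7, true), (1, 35, true), (3, 31, true), (2, 35, true), (1, 5, true), (4, 27, true), (3, 33, true), (2, 37, true), (1, 7, true), (2, 32, true), (1, 38, true), (0, 8, true), (1, 35, true), (4, 26, true), (3, 31, true), (2, 35, true), (1, 5, true), (0, 7, true), (1, 3, true), (0, 38, true), (2, 37, true), (1, 7, true), (1, 36, true), (3, 35, true), (5, 25, true), (4, 38, true), (3, 41, true), (2,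 43, true), (1, 44, true), (0, 8, true), (0, 7, true), (0, 42, true), (2, 40, true), (1, 42, true), (0, 7, true), (2, 37, true), (1, 40, true), (0, 42, true), (3, 36, true), (2, 40, true), (1, 42, true), (0, 7, true), (1, 39, true), (0, 42, true), (1, 6, true), (2, 35, true), (1, 5, true), (0, 7, true), (0, 4, true), (4, 2, true), (3, 33, true), (2, 40, true), (1, 42, true), (4, 3, true), (3, 41, true), (2, 43, true), (1, 44, true), (0, 8, true), (0, 7, true), (0, 42, true), (2, 40, true), (1, 42, true), (0, 7, true), (1, 39, true), (0, 42, true), (1, 6, true), (1, 5, true), (0, 7, true)])]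

/-- A conjugation. -/
def twoHSFus1 : Schur.Tails.Fus where
  xs := [[3, 1]]
  ys := [[5, 4, 3]]
  rels := [
    ([0, 0], [], [(1, 18, true), (0, 3, true), (4, 1, true), (3, 41, true), (2, 43, true), (1, 44, true), (0, 8, true), (0, 7, true), (0, 42, true), (2, 40, true), (1, 42, true), (0, 7, true), (1, 39, true), (0, 42, true), (1, 6, true), (1, 5, true), (0, 7, true)], [(2, 31, true), (1, 35, true), (0, 5, true), (2, 30, true), (1, 4, true), (0, 44, true), (4, 3, true), (3, 41, true), (2, 43, true), (1, 44, true), (0, 8, true), (0, 7, true), (0, 42, true), (2, 40, true), (1, 42, true), (0, 7, true), (1, 39, true), (0, 42, true), (1, 6, true), (1, 5, true), (0, 7, true)])]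

/-- A conjugation. -/
def twoHSFus2 : Schur.Tails.Fus where
  xs := [[5, 4, 3], [6, 4, 3, 2]]
  ys := [[8, 7, 6, 5, 3, 2, 1, 0], [4, 1, 0]]
  rels := [
    ([0, 0], [], [(2, 31, true), (1, 35, true), (0, 5, true), (2, 30, true), (1, 4, true), (0, 44, true), (4, 3, true), (3, 41, true), (2, 43, true), (1, 44, true), (0, 8, true), (0, 7, true), (0, 42, true), (2, 40, true), (1, 42, true), (0, 7, true), (1, 39, true), (0, 42, true), (1, 6, true), (1, 5, true), (0, 7, true)], [(7, 16, true), (6, 23, true), (5, 28, true), (4, 34, true), (3, 40, true), (2, 42, true), (1, 7, true), (2, 39, true), (1, 42, true), (2, 6, true), (2, 5, true), (1, 7, true), (1, 32, true), (0, 8, true), (1, 31, true), (0, 5, true), (2, 27, true), (1, 33, true), (0, 7, true), (0, 32, true), (3, 26, true), (2, 31, true), (1, 5, true), (2, 3, true), (1, 44, true), (0, 8, true), (0, 7, true), (3, 21, true), (2, 28, true), (1, 41, true), (0, 43, true), (2, 42, true), (1, 7, true), (2, 39, true), (1, 42, true), (2, 6, true), (2, 5, true), (1, 7, true), (1, 27, true), (3, 24, true), (2, 43, true), (1, 44, true), (0,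 8, true), (0, 7, true), (0, 42, true), (1, 6, true), (4, 19, true), (3, 28, true), (2, 34, true), (1, 40, true), (0, 7, true), (0, 39, true), (2, 5, true), (1, 42, true), (0, 7, true), (1, 32, true), (0, 43, true), (4, 31, true), (3, 5, true), (2, 42, true), (1, 7, true), (3, 25, true), (2, 34, true), (1, 42, true), (2, 6, true), (3, 33, true), (2, 40, true), (1, 7, true), (2, 32, true), (1, 41, true), (0, 8, true), (1, 5, true), (0, 7, true), (0, 31, true), (1, 30, true), (2, 3, true), (1, 38, true), (0, 41, true), (2, 40, true), (1, 7, true), (2, 37, true), (1, 40, true), (3, 36, true), (2, 40, true), (1, 7, true), (1, 39, true), (4, 35, true), (3, 5, true), (2, 42, true), (1, 7, true), (3, 24, true), (2, 38, true), (1, 43, true), (0, 8, true), (1, 42, true), (0, 7, true), (1, 37, true), (0, 42, true), (2, 36, true), (1, 42, true), (0, 7, true), (0, 6, true), (0, 35, true), (4, 1, true), (3, 29, true), (2, 32, true), (1, 38, true), (0, 41, true), (2, 40, true), (1, 7, true), (2, 35, true), (1, 5, true), (3, 31, true), (2, 35, true), (4, 3, true), (3, 38, true), (2, 41, true), (1,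 44, true), (0, 8, true), (0, 7, true), (0, 40, true), (2, 37, true), (1, 40, true), (0, 7, true), (1, 36, true), (0, 40, true), (1, 39, true), (0, 7, true), (2, 35, true), (1, 5, true), (0, 42, true), (3, 28, true), (2, 38, true), (1, 43, true), (0, 44, true), (1, 7, true), (1, 42, true), (3, 36, true), (2, 42, true), (1, 7, true), (1, 6, true), (1, 35, true), (3, 27, true), (2, 37, true), (1, 40, true), (3, 36, true), (2, 40, true), (1, 7, true), (1, 39, true), (5, 26, true), (4, 35, true), (3, 5, true), (2, 42, true), (1, 7, true), (5, 15, true), (4, 29, true), (3, 32, true), (2, 38, true), (1, 43, true), (0, 8, true), (1, 42, true), (0, 7, true), (1, 35, true), (3, 31, true), (2, 35, true), (1, 5, true), (0, 42, true), (3, 3, true), (2, 38, true), (1, 43, true), (0, 44, true), (1, 7, true), (1, 42, true), (3, 37, true), (2, 42, true), (1, 7, true), (2, 36, true), (1, 42, true), (2, 6, true), (2, 35, true), (4, 27, true), (3, 37, true), (2, 40, true), (1, 7, true), (2, 36, true), (1, 40, true), (2, 39, true), (1, 7, true), (4, 25, true), (3, 38, true), (2, 41, true), (1, 43, true),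 (0, 8, true), (1, 42, true), (0, 7, true), (1, 40, true), (0, 42, true), (3, 37, true), (2, 40, true), (1, 42, true), (0, 7, true), (2, 36, true), (1, 40, true), (0, 42, true), (2, 39, true), (1, 42, true), (0, 7, true), (0, 6, true), (1, 35, true), (0, 5, true), (1, 4, true), (0, 44, true), (5, 24, true), (4, 34, true), (3, 40, true), (2, 42, true), (1, 7, true), (2, 39, true), (1, 42, true), (2, 6, true), (2, 5, true), (1, 7, true), (1, 33, true), (2, 32, true), (1, 44, true), (0, 8, true), (2, 31, true), (1, 5, true), (0, 7, true), (0, 3, true), (5, 14, true), (4, 29, true), (3, 39, true), (2, 42, true), (1, 7, true), (1, 6, true), (1, 5, true), (3, 28, true), (2, 34, true), (1, 7, true), (3, 32, true), (2, 41, true), (1, 43, true), (0, 8, true), (1, 42, true), (0, 7, true), (1, 5, true), (0, 42, true), (2, 31, true), (4, 24, true), (3, 34, true), (2, 40, true), (1, 42, true), (0, 7, true), (1, 39, true), (0, 42, true), (1, 6, true), (1, 5, true), (0, 7, true), (0, 33, true), (1, 32, true), (0, 44, true), (3, 31, true), (2, 5, true), (1, 7, true), (1, 3, true), (0, 8, true), (3,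 2, true), (2, 40, true), (1, 42, true), (0, 7, true), (3, 13, true), (2, 34, true), (1, 40, true), (0, 42, true), (2, 39, true), (1, 42, true), (0, 7, true), (0, 6, true), (0, 5, true), (1, 33, true), (0, 7, true), (3, 11, true), (2, 22, true), (1, 29, true), (0, 32, true), (2, 31, true), (1, 5, true), (2, 3, true), (1, 44, true), (0, 8, true), (0, 7, true), (2, 27, true), (1, 40, true), (0, 42, true), (2, 39, true), (1, 42, true), (0, 7, true), (0, 6, true), (1, 26, true), (0, 5, true), (3, 20, true), (2, 29, true), (1, 32, true), (0, 44, true), (3, 31, true), (2, 5, true), (1, 7, true), (1, 3, true), (0, 8, true), (3, 28, true), (2, 41, true), (1, 43, true), (0, 44, true), (1, 7, true), (1, 42, true), (3, 39, true), (2, 42, true), (1, 7, true), (1, 6, true), (1, 5, true), (2, 27, true), (1, 7, true), (2, 24, true), (1, 43, true), (0, 8, true), (1, 42, true), (0, 7, true), (0, 6, true), (3, 19, true), (2, 28, true), (1, 34, true), (0, 40, true), (1, 39, true), (0, 7, true), (1, 5, true), (0, 42, true), (2, 32, true), (1, 43, true), (0, 44, true), (1, 7, true), (3, 31, true), (2, 5,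 true), (1, 42, true), (4, 25, true), (3, 34, true), (2, 42, true), (1, 7, true), (1, 6, true), (2, 33, true), (1, 40, true), (3, 32, true), (2, 41, true), (1, 44, true), (0, 8, true), (0, 7, true), (0, 5, true), (1, 31, true), (2, 30, true), (3, 3, true), (2, 38, true), (1, 41, true), (0, 44, true), (1, 7, true), (1, 40, true), (3, 37, true), (2, 40, true), (1, 7, true), (2, 36, true), (1, 40, true), (2, 39, true), (1, 7, true), (3, 35, true), (2, 5, true), (1, 42, true), (4, 24, true), (3, 38, true), (2, 43, true), (1, 44, true), (0, 8, true), (0, 7, true), (0, 42, true), (2, 37, true), (1, 42, true), (0, 7, true), (1, 36, true), (0, 42, true), (1, 6, true), (1, 35, true), (6, 10, true), (5, 21, true), (4, 28, true), (3, 34, true), (2, 37, true), (1, 40, true), (0, 7, true), (1, 36, true), (0, 40, true), (1, 39, true), (0, 7, true), (2, 35, true), (1, 5, true), (0, 42, true), (3, 32, true), (2, 38, true), (1, 43, true), (0, 44, true), (1, 7, true), (1, 42, true), (3, 35, true), (5, 31, true), (4, 35, true), (3, 5, true), (2, 42, true), (1, 7, true), (4, 27, true), (3, 33, true), (2,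 37, true), (1, 42, true), (4, 32, true), (3, 38, true), (2, 43, true), (1, 44, true), (0, 8, true), (0, 7, true), (0, 42, true), (2, 35, true), (5, 24, true), (4, 34, true), (3, 37, true), (2, 40, true), (1, 42, true), (0, 7, true), (2, 36, true), (1, 40, true), (0, 42, true), (2, 39, true), (1, 42, true), (0, 7, true), (0, 6, true), (1, 35, true), (0, 5, true), (2, 33, true), (1, 37, true), (0, 7, true), (1, 32, true), (0, 38, true), (2, 35, true), (4, 31, true), (3, 35, true), (2, 5, true), (1, 7, true), (2, 3, true), (1, 38, true), (0, 8, true), (1, 37, true), (0, 7, true), (0, 36, true), (2, 35, true), (5, 20, true), (4, 29, true), (3, 36, true), (2, 40, true), (1, 42, true), (0, 7, true), (1, 39, true), (0, 42, true), (1, 6, true), (2, 35, true), (1, 5, true), (0, 7, true), (2, 28, true), (1, 34, true), (0, 37, true), (1, 36, true), (0, 7, true), (1, 35, true), (3, 32, true), (2, 38, true), (1, 41, true), (0, 43, true), (2, 42, true), (1, 7, true), (2, 40, true), (1, 42, true), (4, 35, true), (3, 5, true), (2, 42, true), (1, 7, true), (3, 31, true), (2, 35, true), (5, 27, true),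 (4, 33, true), (3, 37, true), (2, 40, true), (1, 42, true), (5, 32, true), (4, 38, true), (3, 41, true), (2, 43, true), (1, 44, true), (0, 8, true), (0, 7, true), (0, 42, true), (2, 40, true), (1, 42, true), (0, 7, true), (2, 35, true), (1, 5, true), (0, 42, true), (4, 24, true), (3, 34, true), (2, 37, true), (1, 42, true), (0, 7, true), (1, 36, true), (0, 42, true), (1, 6, true), (1, 35, true), (3, 33, true), (2, 37, true), (1, 40, true), (0, 7, true), (2, 32, true), (1, 38, true), (0, 41, true), (2, 40, true), (1, 7, true), (2, 35, true), (1, 5, true), (3, 31, true), (2, 35, true), (4, 3, true), (3, 38, true), (2, 41, true), (1, 44, true), (0, 8, true), (0, 7, true), (0, 40, true), (2, 37, true), (1, 40, true), (0, 7, true), (1, 36, true), (0, 40, true), (1, 39, true), (0, 7, true), (2, 35, true), (1, 5, true), (0, 42, true), (4, 19, true), (3, 28, true), (2, 38, true), (1, 43, true), (0, 44, true), (1, 7, true), (1, 42, true), (3, 36, true), (2, 42, true), (1, 7, true), (1, 6, true), (1, 35, true), (3, 25, true), (2, 38, true), (1, 41, true), (0, 8, true), (1, 40, true), (0, 7,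 true), (1, 37, true), (0, 40, true), (2, 36, true), (1, 40, true), (0, 7, true), (0, 39, true), (3, 35, true), (2, 5, true), (1, 42, true), (0, 7, true), (1, 4, true), (0, 43, true), (2, 6, true), (4, 24, true), (3, 34, true), (2, 40, true), (1, 7, true), (1, 39, true), (3, 5, true), (2, 42, true), (1, 7, true), (2, 33, true), (1, 42, true), (3, 32, true), (2, 43, true), (1, 44, true), (0, 8, true), (0, 7, true), (2, 31, true), (1, 5, true), (0, 42, true), (2, 3, true), (1, 43, true), (0, 44, true), (1, 7, true), (1, 42, true), (2, 6, true), (4, 1, true), (3, 29, true), (2, 39, true), (1, 7, true), (2, 5, true), (1, 42, true), (4, 28, true), (3, 34, true), (2, 42, true), (1, 7, true), (1, 6, true), (2, 32, true), (1, 41, true), (0, 8, true), (1, 5, true), (0, 7, true), (0, 31, true), (2, 27, true), (1, 33, true), (0, 40, true), (2, 32, true), (1, 41, true), (0, 44, true), (1, 7, true), (1, 5, true), (3, 26, true), (2, 31, true), (3, 3, true), (2, 41, true), (1, 44, true), (0, 8, true), (0, 7, true), (0, 40, true), (1, 39, true), (0, 7, true), (1, 5, true), (0, 42, true), (3, 9, true),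 (2, 29, true), (1, 6, true), (3, 26, true), (2, 31, true), (1, 5, true), (0, 7, true), (0, 3, true), (4, 25, true), (3, 41, true), (2, 43, true), (1, 44, true), (0, 8, true), (0, 7, true), (0, 42, true), (2, 40, true), (1, 42, true), (0, 7, true), (1, 39, true), (0, 42, true), (1, 6, true), (1, 5, true), (0, 7, true), (2, 24, true), (1, 34, true), (0, 37, true), (1, 36, true), (0, 7, true), (1, 35, true), (3, 33, true), (2, 37, true), (1, 40, true), (0, 42, true), (4, 32, true), (3, 38, true), (2, 41, true), (1, 43, true), (0, 44, true), (1, 7, true), (1, 42, true), (3, 40, true), (2, 42, true), (1, 7, true), (3, 35, true), (2, 5, true), (1, 42, true), (4, 31, true), (3, 35, true), (5, 3, true), (4, 38, true), (3, 41, true), (2, 43, true), (1, 44, true), (0, 8, true), (0, 7, true), (0, 42, true), (2, 40, true), (1, 42, true), (0, 7, true), (2, 37, true), (1, 40, true), (0, 42, true), (3, 36, true), (2, 40, true), (1, 42, true), (0, 7, true), (1, 39, true), (0, 42, true), (1, 6, true), (2, 35, true), (1, 5, true), (0, 7, true), (2, 0, true), (1, 29, true), (0, 36, true), (2, 35, true),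 (5, 28, true), (4, 34, true), (3, 37, true), (2, 40, true), (1, 42, true), (0, 7, true), (2, 36, true), (1, 40, true), (0, 42, true), (2, 39, true), (1, 42, true), (0, 7, true), (0, 6, true), (1, 35, true), (0, 5, true), (2, 32, true), (1, 38, true), (0, 44, true), (1, 7, true), (1, 35, true), (3, 31, true), (2, 35, true), (1, 5, true), (4, 27, true), (3, 33, true), (2, 37, true), (1, 7, true), (2, 32, true), (1, 38, true), (0, 8, true), (1, 35, true), (4, 26, true), (3, 31, true), (2, 35, true), (1, 5, true), (0, 7, true), (1, 3, true), (0, 38, true), (2, 37, true), (1, 7, true), (1, 36, true), (3, 35, true), (5, 25, true), (4, 38, true), (3, 41, true), (2, 43, true), (1, 44, true), (0, 8, true), (0, 7, true), (0, 42, true), (2, 40, true), (1, 42, true), (0, 7, true), (2, 37, true), (1, 40, true), (0, 42, true), (3, 36, true), (2, 40, true), (1, 42, true), (0, 7, true), (1, 39, true), (0, 42, true), (1, 6, true), (2, 35, true), (1, 5, true), (0, 7, true), (0, 4, true), (4, 2, true), (3, 33, true), (2, 40, true), (1, 42, true), (4, 3, true), (3, 41, true), (2, 43, true), (1, 44, true),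 (0, 8, true), (0, 7, true), (0, 42, true), (2, 40, true), (1, 42, true), (0, 7, true), (1, 39, true), (0, 42, true), (1, 6, true), (1, 5, true), (0, 7, true)]),
    ([1, 1], [], [(3, 27, true), (2, 33, true), (1, 37, true), (0, 42, true), (3, 32, true), (2, 38, true), (1, 43, true), (0, 44, true), (1, 7, true), (1, 42, true), (3, 35, true), (6, 25, true), (5, 34, true), (4, 37, true), (3, 40, true), (2, 42, true), (1, 7, true), (3, 36, true), (2, 40, true), (1, 42, true), (3, 39, true), (2, 42, true), (1, 7, true), (1, 6, true), (2, 35, true), (1, 5, true), (3, 33, true), (2, 37, true), (1, 7, true), (2, 32, true), (1, 38, true), (0, 8, true), (1, 35, true), (3, 31, true), (2, 35, true), (1, 5, true), (0, 7, true), (1, 30, true), (0, 4, true), (3, 3, true), (2, 41, true), (1, 43, true), (0, 8, true), (1, 42, true), (0, 7, true), (1, 40, true), (0, 42, true), (2, 39, true), (1, 42, true), (0, 7, true), (0, 6, true), (0, 5, true), (1, 24, true), (0, 44, true), (1, 7, true), (4, 2, true), (3, 33, true), (2, 40, true), (1, 42, true), (4, 3, true), (3, 41, true), (2, 43, true), (1, 44,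 true), (0, 8, true), (0, 7, true), (0, 42, true), (2, 40, true), (1, 42, true), (0, 7, true), (1, 39, true), (0, 42, true), (1, 6, true), (1, 5, true), (0, 7, true)], [(2, 12, true), (1, 23, true), (0, 37, true), (1, 36, true), (0, 7, true), (1, 35, true), (3, 22, true), (2, 38, true), (1, 41, true), (0, 43, true), (2, 42, true), (1, 7, true), (2, 40, true), (1, 42, true), (4, 36, true), (3, 40, true), (2, 42, true), (1, 7, true), (2, 39, true), (1, 42, true), (2, 6, true), (3, 35, true), (2, 5, true), (1, 7, true), (2, 18, true), (3, 17, true), (2, 31, true), (1, 35, true), (3, 30, true), (2, 4, true), (1, 41, true), (0, 8, true), (1, 39, true), (0, 7, true), (1, 5, true), (0, 42, true), (2, 3, true), (1, 43, true), (0, 44, true), (1, 7, true), (1, 42, true), (2, 6, true), (4, 1, true), (3, 29, true), (2, 39, true), (1, 7, true), (2, 5, true), (1, 42, true), (4, 28, true), (3, 34, true), (2, 42, true), (1, 7, true), (1, 6, true), (2, 32, true), (1, 41, true), (0, 8, true), (1, 5, true), (0, 7, true), (0, 31, true), (2, 27, true), (1, 33, true), (0, 40, true), (2, 32, true), (1, 41,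 true), (0, 44, true), (1, 7, true), (1, 5, true), (3, 26, true), (2, 31, true), (3, 3, true), (2, 41, true), (1, 44, true), (0, 8, true), (0, 7, true), (0, 40, true), (1, 39, true), (0, 7, true), (1, 5, true), (0, 42, true), (3, 9, true), (2, 29, true), (1, 6, true), (3, 26, true), (2, 31, true), (1, 5, true), (0, 7, true), (0, 3, true), (4, 25, true), (3, 41, true), (2, 43, true), (1, 44, true), (0, 8, true), (0, 7, true), (0, 42, true), (2, 40, true), (1, 42, true), (0, 7, true), (1, 39, true), (0, 42, true), (1, 6, true), (1, 5, true), (0, 7, true), (2, 24, true), (1, 34, true), (0, 37, true), (1, 36, true), (0, 7, true), (1, 35, true), (3, 33, true), (2, 37, true), (1, 40, true), (0, 42, true), (4, 32, true), (3, 38, true), (2, 41, true), (1, 43, true), (0, 44, true), (1, 7, true), (1, 42, true), (3, 40, true), (2, 42, true), (1, 7, true), (3, 35, true), (2, 5, true), (1, 42, true), (4, 31, true), (3, 35, true), (5, 3, true), (4, 38, true), (3, 41, true), (2, 43, true), (1, 44, true), (0, 8, true), (0, 7, true), (0, 42, true), (2, 40, true), (1, 42, true), (0, 7, true), (2, 37,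 true), (1, 40, true), (0, 42, true), (3, 36, true), (2, 40, true), (1, 42, true), (0, 7, true), (1, 39, true), (0, 42, true), (1, 6, true), (2, 35, true), (1, 5, true), (0, 7, true), (2, 0, true), (1, 29, true), (0, 36, true), (2, 35, true), (5, 28, true), (4, 34, true), (3, 37, true), (2, 40, true), (1, 42, true), (0, 7, true), (2, 36, true), (1, 40, true), (0, 42, true), (2, 39, true), (1, 42, true), (0, 7, true), (0, 6, true), (1, 35, true), (0, 5, true), (2, 32, true), (1, 38, true), (0, 44, true), (1, 7, true), (1, 35, true), (3, 31, true), (2, 35, true), (1, 5, true), (4, 27, true), (3, 33, true), (2, 37, true), (1, 7, true), (2, 32, true), (1, 38, true), (0, 8, true), (1, 35, true), (4, 26, true), (3, 31, true), (2, 35, true), (1, 5, true), (0, 7, true), (1, 3, true), (0, 38, true), (2, 37, true), (1, 7, true), (1, 36, true), (3, 35, true), (5, 25, true), (4, 38, true), (3, 41, true), (2, 43, true), (1, 44, true), (0, 8, true), (0, 7, true), (0, 42, true), (2, 40, true), (1, 42, true), (0, 7, true), (2, 37, true), (1, 40, true), (0, 42, true), (3, 36, true), (2, 40, true), (1,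 42, true), (0, 7, true), (1, 39, true), (0, 42, true), (1, 6, true), (2, 35, true), (1, 5, true), (0, 7, true), (0, 4, true), (4, 2, true), (3, 33, true), (2, 40, true), (1, 42, true), (4, 3, true), (3, 41, true), (2, 43, true), (1, 44, true), (0, 8, true), (0, 7, true), (0, 42, true), (2, 40, true), (1, 42, true), (0, 7, true), (1, 39, true), (0, 42, true), (1, 6, true), (1, 5, true), (0, 7, true)]),
    ([0, 1], [1, 0], [(2, 32, true), (1, 38, true), (0, 41, true), (2, 40, true), (1, 7, true), (2, 35, true), (1, 5, true), (3, 30, true), (2, 4, true), (1, 44, true), (0, 8, true), (3, 3, true), (2, 41, true), (1, 43, true), (0, 44, true), (1, 7, true), (1, 42, true), (3, 40, true), (2, 42, true), (1, 7, true), (2, 39, true), (1, 42, true), (2, 6, true), (2, 5, true), (1, 7, true), (1, 7, false), (2, 5, false), (2, 6, false), (1, 42, false), (2, 39, false), (1, 7, false), (2, 42, false), (3, 40, false), (1, 42, false), (1, 7, false), (0, 44, false), (1, 43, false), (2, 41, false), (3, 3, false), (2, 31, false), (0, 42, false), (1, 5, false), (0, 7, false), (1, 42, false), (0, 8, false),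 (1, 43, false), (2, 41, false), (3, 32, false), (1, 7, false), (2, 42, false), (3, 40, false), (4, 33, false), (1, 34, false), (2, 24, false), (1, 7, false), (2, 5, false), (2, 6, false), (1, 42, false), (2, 39, false), (1, 7, false), (2, 42, false), (0, 43, false), (1, 41, false), (2, 4, false), (1, 35, false), (0, 7, false), (1, 36, false), (0, 37, false), (0, 7, false), (0, 8, false), (1, 44, false), (2, 38, false), (3, 25, false), (1, 5, false), (2, 35, false), (1, 6, false), (1, 7, false), (2, 42, false), (3, 39, false), (1, 42, false), (2, 40, false), (3, 36, false), (1, 7, false), (2, 42, false), (3, 40, false), (4, 37, false), (1, 42, false), (2, 40, false), (1, 7, false), (2, 42, false), (0, 43, false), (1, 41, false), (2, 38, false), (3, 3, false), (1, 35, false), (2, 31, false), (3, 26, false)], [(7, 12, true), (6, 23, true), (5, 28, true), (4, 34, true), (3, 40, true), (2, 42, true), (1, 7, true), (2, 39, true), (1, 42, true), (2, 6, true), (2, 5, true), (1, 7, true), (1, 32, true), (0, 8, true), (1, 31, true), (0, 5, true), (2, 27, true), (1, 33, true), (0, 7, true), (0,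 32, true), (3, 26, true), (2, 31, true), (1, 5, true), (2, 3, true), (1, 44, true), (0, 8, true), (0, 7, true), (3, 22, true), (2, 29, true), (1, 39, true), (0, 42, true), (1, 6, true), (1, 5, true), (0, 7, true), (1, 27, true), (0, 33, true), (1, 32, true), (0, 44, true), (4, 26, true), (3, 31, true), (2, 5, true), (1, 7, true), (1, 3, true), (0, 8, true), (4, 18, true), (3, 24, true), (2, 41, true), (1, 43, true), (0, 44, true), (1, 7, true), (1, 42, true), (3, 40, true), (2, 42, true), (1, 7, true), (2, 39, true), (1, 42, true), (2, 6, true), (2, 5, true), (1, 7, true), (3, 17, true), (2, 26, true), (1, 31, true), (2, 3, true), (1, 41, true), (0, 8, true), (1, 40, true), (0, 7, true), (0, 39, true), (2, 5, true), (1, 42, true), (0, 7, true), (1, 25, true), (0, 43, true), (2, 42, true), (1, 7, true), (1, 6, true), (4, 24, true), (3, 34, true), (2, 37, true), (1, 40, true), (3, 36, true), (2, 40, true), (1, 7, true), (1, 39, true), (4, 35, true), (3, 5, true), (2, 42, true), (1, 7, true), (3, 33, true), (2, 37, true), (1, 42, true), (4, 32, true), (3, 38, true), (2, 43, true), (1,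 44, true), (0, 8, true), (0, 7, true), (0, 42, true), (2, 35, true), (4, 31, true), (3, 35, true), (2, 5, true), (1, 42, true), (0, 7, true), (2, 3, true), (1, 38, true), (0, 43, true), (2, 42, true), (1, 7, true), (2, 37, true), (1, 42, true), (3, 36, true), (2, 42, true), (1, 7, true), (1, 6, true), (1, 35, true), (3, 2, true), (2, 37, true), (1, 40, true), (5, 1, true), (4, 34, true), (3, 37, true), (2, 40, true), (1, 7, true), (2, 36, true), (1, 40, true), (2, 39, true), (1, 7, true), (3, 35, true), (2, 5, true), (1, 42, true), (4, 33, true), (3, 37, true), (2, 42, true), (1, 7, true), (3, 32, true), (2, 38, true), (1, 43, true), (0, 8, true), (1, 42, true), (0, 7, true), (1, 35, true), (3, 31, true), (2, 35, true), (1, 5, true), (0, 42, true), (4, 9, true), (3, 34, true), (2, 37, true), (1, 42, true), (0, 7, true), (1, 36, true), (0, 42, true), (1, 6, true), (1, 35, true), (3, 31, true), (2, 35, true), (1, 5, true), (0, 7, true), (1, 30, true), (0, 4, true), (3, 3, true), (2, 41, true), (1, 43, true), (0, 8, true), (1, 42, true), (0, 7, true), (1, 40, true), (0, 42, true), (2,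 39, true), (1, 42, true), (0, 7, true), (0, 6, true), (0, 5, true), (1, 0, true), (0, 44, true), (1, 7, true), (1, 7, false), (0, 44, false), (1, 0, false), (0, 5, false), (0, 6, false), (0, 7, false), (1, 42, false), (2, 39, false), (0, 42, false), (1, 40, false), (0, 7, false), (1, 42, false), (0, 8, false), (1, 43, false), (2, 41, false), (3, 3, false), (0, 4, false), (1, 30, false), (0, 7, false), (1, 5, false), (2, 35, false), (3, 31, false), (1, 35, false), (1, 6, false), (0, 42, false), (1, 36, false), (0, 7, false), (1, 42, false), (2, 37, false), (3, 34, false), (4, 9, false), (0, 42, false), (1, 5, false), (2, 35, false), (3, 31, false), (1, 35, false), (0, 7, false), (1, 42, false), (0, 8, false), (1, 43, false), (2, 38, false), (3, 32, false), (1, 7, false), (2, 42, false), (3, 37, false), (4, 33, false), (1, 42, false), (2, 5, false), (3, 35, false), (1, 7, false), (2, 39, false), (1, 40, false), (2, 36, false), (1, 7, false), (2, 40, false), (3, 37, false), (4, 34, false), (5, 1, false), (1, 40, false), (2, 19, false), (1, 6, false), (1, 7, false), (2, 42, false), (0,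 43, false), (1, 3, false), (0, 7, false), (1, 42, false), (2, 5, false), (0, 42, false), (0, 7, false), (0, 8, false), (1, 44, false), (2, 43, false), (3, 41, false), (4, 32, false), (1, 42, false), (2, 40, false), (3, 33, false), (1, 7, false), (2, 34, false), (3, 20, false), (2, 6, false), (1, 42, false), (2, 21, false), (3, 10, false), (1, 7, false), (2, 42, false), (3, 5, false), (1, 39, false), (1, 7, false), (2, 40, false), (0, 41, false), (1, 3, false), (0, 6, false), (0, 7, false), (0, 8, false), (1, 44, false), (2, 43, false), (3, 4, false), (4, 30, false), (1, 42, false), (2, 37, false), (3, 33, false), (4, 19, false), (1, 7, false), (2, 36, false), (1, 37, false), (1, 7, false), (0, 44, false), (1, 38, false), (2, 20, false), (0, 5, false), (1, 35, false), (0, 6, false), (0, 7, false), (1, 42, false), (2, 39, false), (0, 42, false), (1, 40, false), (2, 36, false), (0, 7, false), (1, 42, false), (2, 40, false), (0, 42, false), (0, 7, false), (0, 8, false), (1, 44, false), (2, 43, false), (3, 41, false), (4, 38, false), (5, 22, false), (6, 11, false), (3, 35, false), (1, 36,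 false), (1, 7, false), (2, 37, false), (0, 38, false), (1, 3, false), (0, 7, false), (1, 37, false), (2, 33, false), (3, 2, false), (0, 5, false), (1, 35, false), (2, 31, false), (0, 35, false), (0, 7, false), (0, 8, false), (1, 44, false), (2, 38, false), (3, 32, false), (1, 5, false), (2, 35, false), (1, 6, false), (1, 7, false), (2, 42, false), (3, 39, false), (1, 42, false), (2, 40, false), (3, 36, false), (1, 7, false), (2, 42, false), (3, 40, false), (4, 37, false), (5, 34, false), (6, 28, false), (3, 35, false), (1, 36, false), (2, 29, false), (3, 13, false), (1, 7, false), (2, 5, false), (3, 35, false), (2, 6, false), (1, 42, false), (2, 39, false), (1, 7, false), (2, 42, false), (3, 40, false), (4, 36, false), (1, 42, false), (2, 40, false), (3, 37, false), (1, 7, false), (2, 42, false), (3, 40, false), (1, 42, false), (1, 7, false), (0, 44, false), (1, 43, false), (2, 41, false), (3, 38, false), (4, 3, false), (0, 42, false), (1, 40, false), (2, 37, false), (3, 33, false), (1, 35, false), (0, 7, false), (1, 36, false), (0, 37, false), (1, 34, false), (2, 14, false), (0, 6,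 false), (0, 7, false), (0, 8, false), (1, 44, false), (2, 43, false), (3, 15, false), (1, 42, false), (2, 5, false), (1, 7, false), (2, 39, false), (1, 40, false), (1, 7, false), (0, 44, false), (1, 41, false), (2, 1, false), (1, 6, false), (0, 42, false), (0, 7, false), (0, 8, false), (1, 44, false), (2, 43, false), (3, 3, false), (1, 42, false), (2, 5, false), (1, 7, false), (2, 39, false), (0, 41, false), (1, 4, false), (2, 30, false), (0, 7, false), (1, 40, false), (2, 37, false), (3, 33, false), (4, 19, false), (1, 6, false), (0, 42, false), (1, 39, false), (0, 7, false), (1, 42, false), (2, 40, false), (3, 36, false), (0, 42, false), (1, 40, false), (2, 37, false), (3, 21, false), (1, 35, false), (0, 7, false), (1, 36, false), (0, 37, false), (1, 23, false), (2, 16, false)])]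

/-- A conjugation. -/
def twoHSFus3 : Schur.Tails.Fus where
  xs := [[7, 6, 5, 3, 2, 1, 0], [7, 6, 5, 3, 1], [8, 7, 6, 5, 3, 2, 1, 0], [3, 2, 1, 0]]
  ys := [[8, 7, 6, 4], [8, 3], [7, 6, 5, 1], [8, 7, 6, 5, 3, 1]]
  rels := [
    ([0, 0], [3, 2, 1], [(6, 15, true), (5, 23, true), (4, 28, true), (3, 34, true), (2, 40, true), (1, 42, true), (0, 7, true), (1, 39, true), (0, 42, true), (1, 6, true), (1, 5, true), (0, 7, true), (0, 32, true), (2, 31, true), (1, 5, true), (3, 27, true), (2, 33, true), (1, 7, true), (1, 32, true), (0, 8, true), (2, 26, true), (1, 31, true), (0, 5, true), (1, 3, true), (0, 44, true), (1, 7, true), (4, 21, true), (3, 28, true), (2, 41, true), (1, 43, true), (0, 8, true), (1, 42, true), (0, 7, true), (1, 39, true), (0, 42, true), (1, 6, true), (1, 5, true), (0, 7, true), (0, 27, true), (2, 24, true), (1, 43, true), (0, 44, true), (1, 7, true), (1, 42, true), (2, 6, true), (5, 19, true), (4, 28, true), (3, 34, true), (2, 40, true), (1, 7, true), (1, 39, true), (3, 5, true), (2, 42, true), (1, 7, true), (2, 32, true), (1, 43, true), (0, 8, true), (3, 31, true),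 (2, 5, true), (1, 42, true), (0, 7, true), (2, 25, true), (1, 34, true), (0, 42, true), (1, 6, true), (2, 33, true), (1, 40, true), (0, 7, true), (1, 32, true), (0, 41, true), (2, 5, true), (1, 7, true), (1, 31, true), (2, 30, true), (3, 3, true), (2, 38, true), (1, 41, true), (0, 8, true), (1, 40, true), (0, 7, true), (1, 37, true), (0, 40, true), (2, 36, true), (1, 40, true), (0, 7, true), (0, 39, true), (3, 35, true), (2, 5, true), (1, 42, true), (0, 7, true), (2, 24, true), (1, 38, true), (0, 43, true), (2, 42, true), (1, 7, true), (2, 37, true), (1, 42, true), (3, 36, true), (2, 42, true), (1, 7, true), (1, 6, true), (1, 35, true), (5, 18, true), (4, 24, true), (3, 34, true), (2, 37, true), (1, 40, true), (3, 36, true), (2, 40, true), (1, 7, true), (1, 39, true), (4, 35, true), (3, 5, true), (2, 42, true), (1, 7, true), (3, 33, true), (2, 37, true), (1, 42, true), (4, 32, true), (3, 38, true), (2, 43, true), (1, 44, true), (0, 8, true), (0, 7, true), (0, 42, true), (2, 35, true), (4, 31, true), (3, 35, true), (2, 5, true), (1, 42, true), (0, 7, true), (2, 3, true), (1, 38, true),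 (0, 43, true), (2, 42, true), (1, 7, true), (2, 37, true), (1, 42, true), (3, 36, true), (2, 42, true), (1, 7, true), (1, 6, true), (1, 35, true), (5, 14, true), (4, 23, true), (3, 28, true), (2, 38, true), (1, 41, true), (0, 8, true), (1, 40, true), (0, 7, true), (1, 36, true), (0, 40, true), (1, 39, true), (0, 7, true), (2, 35, true), (1, 5, true), (0, 42, true), (3, 27, true), (2, 37, true), (1, 42, true), (0, 7, true), (1, 36, true), (0, 42, true), (1, 6, true), (2, 26, true), (1, 35, true), (5, 22, true), (4, 29, true), (3, 32, true), (2, 38, true), (1, 41, true), (0, 44, true), (1, 7, true), (1, 40, true), (3, 35, true), (2, 5, true), (1, 7, true), (2, 31, true), (1, 35, true), (3, 3, true), (2, 38, true), (1, 41, true), (0, 8, true), (1, 40, true), (0, 7, true), (1, 37, true), (0, 40, true), (2, 36, true), (1, 40, true), (0, 7, true), (0, 39, true), (3, 35, true), (2, 5, true), (1, 42, true), (0, 7, true), (2, 27, true), (1, 37, true), (0, 42, true), (2, 36, true), (1, 42, true), (0, 7, true), (0, 6, true), (1, 26, true), (0, 35, true), (4, 18, true), (3, 24, true), (2, 34,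 true), (1, 37, true), (0, 40, true), (2, 36, true), (1, 40, true), (0, 7, true), (0, 39, true), (3, 35, true), (2, 5, true), (1, 42, true), (0, 7, true), (2, 33, true), (1, 37, true), (0, 42, true), (3, 32, true), (2, 38, true), (1, 43, true), (0, 44, true), (1, 7, true), (1, 42, true), (3, 35, true), (5, 31, true), (4, 35, true), (3, 5, true), (2, 42, true), (1, 7, true), (3, 3, true), (2, 38, true), (1, 43, true), (0, 8, true), (1, 42, true), (0, 7, true), (1, 37, true), (0, 42, true), (2, 36, true), (1, 42, true), (0, 7, true), (0, 6, true), (0, 35, true), (3, 17, true), (2, 26, true), (1, 35, true), (0, 5, true), (3, 25, true), (2, 34, true), (1, 37, true), (0, 7, true), (0, 36, true), (2, 35, true), (4, 33, true), (3, 37, true), (2, 40, true), (1, 42, true), (0, 7, true), (3, 32, true), (2, 38, true), (1, 41, true), (0, 43, true), (2, 42, true), (1, 7, true), (2, 40, true), (1, 42, true), (4, 35, true), (3, 5, true), (2, 42, true), (1, 7, true), (3, 31, true), (2, 35, true), (4, 30, true), (3, 4, true), (2, 41, true), (1, 43, true), (0, 8, true), (1, 42, true), (0, 7, true), (1,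 39, true), (0, 42, true), (1, 6, true), (1, 5, true), (0, 7, true), (0, 3, true), (4, 24, true), (3, 41, true), (2, 43, true), (1, 44, true), (0, 8, true), (0, 7, true), (0, 42, true), (2, 40, true), (1, 42, true), (0, 7, true), (1, 39, true), (0, 42, true), (1, 6, true), (1, 5, true), (0, 7, true), (1, 2, true), (0, 33, true), (1, 3, true), (0, 44, true), (1, 7, true), (4, 13, true), (3, 23, true), (2, 40, true), (1, 42, true), (3, 39, true), (2, 42, true), (1, 7, true), (1, 6, true), (1, 5, true), (2, 22, true), (1, 44, true), (0, 8, true), (3, 17, true), (2, 5, true), (1, 42, true), (0, 7, true), (4, 1, true), (3, 29, true), (2, 32, true), (1, 38, true), (0, 43, true), (2, 42, true), (1, 7, true), (2, 35, true), (4, 31, true), (3, 35, true), (2, 5, true), (1, 42, true), (4, 3, true), (3, 38, true), (2, 43, true), (1, 44, true), (0, 8, true), (0, 7, true), (0, 42, true), (2, 37, true), (1, 42, true), (0, 7, true), (1, 36, true), (0, 42, true), (1, 6, true), (1, 35, true), (3, 28, true), (2, 38, true), (1, 41, true), (0, 44, true), (1, 7, true), (1, 40, true), (3, 36, true), (2, 40,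 true), (1, 7, true), (1, 39, true), (4, 35, true), (3, 5, true), (2, 42, true), (1, 7, true), (3, 27, true), (2, 37, true), (1, 42, true), (3, 36, true), (2, 42, true), (1, 7, true), (1, 6, true), (2, 26, true), (1, 35, true), (5, 11, true), (4, 28, true), (3, 34, true), (2, 37, true), (1, 40, true), (3, 36, true), (2, 40, true), (1, 7, true), (1, 39, true), (4, 35, true), (3, 5, true), (2, 42, true), (1, 7, true), (3, 32, true), (2, 38, true), (1, 43, true), (0, 8, true), (1, 42, true), (0, 7, true), (1, 35, true), (3, 31, true), (2, 35, true), (1, 5, true), (0, 42, true), (4, 26, true), (3, 31, true), (2, 35, true), (4, 3, true), (3, 38, true), (2, 41, true), (1, 43, true), (0, 44, true), (1, 7, true), (1, 42, true), (3, 40, true), (2, 42, true), (1, 7, true), (3, 37, true), (2, 40, true), (1, 42, true), (4, 36, true), (3, 40, true), (2, 42, true), (1, 7, true), (2, 39, true), (1, 42, true), (2, 6, true), (3, 35, true), (2, 5, true), (1, 7, true), (2, 25, true), (1, 38, true), (0, 8, true), (1, 37, true), (0, 7, true), (0, 36, true), (2, 35, true), (3, 4, true), (2, 41, true), (1,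 43, true), (0, 44, true), (1, 7, true), (1, 42, true), (3, 39, true), (2, 42, true), (1, 7, true), (1, 6, true), (1, 5, true), (4, 10, true), (3, 27, true), (2, 33, true), (1, 7, true), (1, 32, true), (0, 8, true), (2, 26, true), (1, 31, true), (0, 5, true), (1, 3, true), (0, 44, true), (1, 7, true), (3, 25, true), (2, 41, true), (1, 43, true), (0, 8, true), (1, 42, true), (0, 7, true), (1, 40, true), (0, 42, true), (2, 39, true), (1, 42, true), (0, 7, true), (0, 6, true), (0, 5, true), (5, 9, true), (4, 23, true), (3, 28, true), (2, 34, true), (1, 37, true), (0, 7, true), (0, 36, true), (2, 35, true), (4, 32, true), (3, 38, true), (2, 41, true), (1, 43, true), (0, 44, true), (1, 7, true), (1, 42, true), (3, 40, true), (2, 42, true), (1, 7, true), (3, 35, true), (2, 5, true), (1, 42, true), (4, 31, true), (3, 35, true), (6, 27, true), (5, 33, true), (4, 37, true), (3, 40, true), (2, 42, true), (1, 7, true), (4, 32, true), (3, 38, true), (2, 41, true), (1, 43, true), (0, 8, true), (1, 42, true), (0, 7, true), (1, 40, true), (0, 42, true), (3, 35, true), (2, 5, true), (1, 42, true),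 (0, 7, true), (3, 26, true), (2, 31, true), (1, 35, true), (3, 3, true), (2, 38, true), (1, 41, true), (0, 43, true), (2, 42, true), (1, 7, true), (2, 40, true), (1, 42, true), (4, 37, true), (3, 40, true), (2, 42, true), (1, 7, true), (3, 36, true), (2, 40, true), (1, 42, true), (3, 39, true), (2, 42, true), (1, 7, true), (1, 6, true), (2, 35, true), (1, 5, true), (4, 20, true), (3, 29, true), (2, 36, true), (1, 7, true), (2, 35, true), (5, 28, true), (4, 34, true), (3, 37, true), (2, 40, true), (1, 42, true), (4, 36, true), (3, 40, true), (2, 42, true), (1, 7, true), (2, 39, true), (1, 42, true), (2, 6, true), (3, 35, true), (2, 5, true), (1, 7, true), (2, 32, true), (1, 38, true), (0, 8, true), (1, 35, true), (3, 31, true), (2, 35, true), (1, 5, true), (0, 7, true), (2, 27, true), (1, 33, true), (0, 37, true), (2, 32, true), (1, 38, true), (0, 44, true), (1, 7, true), (1, 35, true), (4, 24, true), (3, 34, true), (2, 37, true), (1, 40, true), (3, 36, true), (2, 40, true), (1, 7, true), (1, 39, true), (4, 35, true), (3, 5, true), (2, 42, true), (1, 7, true), (3, 33, true), (2, 37,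 true), (1, 42, true), (4, 32, true), (3, 38, true), (2, 43, true), (1, 44, true), (0, 8, true), (0, 7, true), (0, 42, true), (2, 35, true), (4, 31, true), (3, 35, true), (2, 5, true), (1, 42, true), (0, 7, true), (2, 3, true), (1, 38, true), (0, 43, true), (2, 42, true), (1, 7, true), (2, 37, true), (1, 42, true), (3, 36, true), (2, 42, true), (1, 7, true), (1, 6, true), (1, 35, true), (4, 19, true), (3, 28, true), (2, 38, true), (1, 41, true), (0, 8, true), (1, 40, true), (0, 7, true), (1, 36, true), (0, 40, true), (1, 39, true), (0, 7, true), (2, 35, true), (1, 5, true), (0, 42, true), (3, 25, true), (2, 38, true), (1, 43, true), (0, 44, true), (1, 7, true), (1, 42, true), (3, 37, true), (2, 42, true), (1, 7, true), (2, 36, true), (1, 42, true), (2, 6, true), (2, 35, true), (3, 4, true), (2, 41, true), (1, 44, true), (0, 8, true), (0, 7, true), (0, 39, true), (2, 5, true), (1, 42, true), (0, 7, true), (2, 24, true), (1, 34, true), (0, 42, true), (1, 6, true), (2, 33, true), (1, 40, true), (0, 7, true), (1, 32, true), (0, 41, true), (2, 5, true), (1, 7, true), (1, 31, true), (2, 3,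 true), (1, 41, true), (0, 8, true), (1, 40, true), (0, 7, true), (0, 39, true), (2, 5, true), (1, 42, true), (0, 7, true), (2, 18, true), (1, 24, true), (0, 43, true), (2, 42, true), (1, 7, true), (1, 6, true), (5, 0, true), (4, 23, true), (3, 28, true), (2, 34, true), (1, 40, true), (2, 39, true), (1, 7, true), (2, 5, true), (1, 42, true), (3, 32, true), (2, 43, true), (1, 44, true), (0, 8, true), (0, 7, true), (2, 31, true), (1, 5, true), (0, 42, true), (3, 27, true), (2, 33, true), (1, 42, true), (0, 7, true), (1, 32, true), (0, 43, true), (5, 26, true), (4, 31, true), (3, 5, true), (2, 42, true), (1, 7, true), (2, 3, true), (1, 43, true), (0, 8, true), (1, 42, true), (0, 7, true), (0, 6, true), (2, 22, true), (1, 29, true), (0, 39, true), (2, 5, true), (1, 42, true), (0, 7, true), (2, 27, true), (1, 33, true), (0, 42, true), (2, 32, true), (1, 43, true), (0, 44, true), (1, 7, true), (4, 26, true), (3, 31, true), (2, 5, true), (1, 42, true), (3, 3, true), (2, 43, true), (1, 44, true), (0, 8, true), (0, 7, true), (0, 42, true), (1, 6, true), (3, 21, true), (2, 28, true), (1, 41,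 true), (0, 44, true), (1, 7, true), (1, 39, true), (3, 5, true), (2, 42, true), (1, 7, true), (2, 27, true), (1, 42, true), (2, 6, true), (2, 24, true), (1, 44, true), (0, 8, true), (0, 7, true), (4, 20, true), (3, 29, true), (2, 32, true), (1, 41, true), (0, 43, true), (2, 42, true), (1, 7, true), (2, 5, true), (1, 42, true), (3, 31, true), (4, 3, true), (3, 41, true), (2, 43, true), (1, 44, true), (0, 8, true), (0, 7, true), (0, 42, true), (2, 40, true), (1, 42, true), (0, 7, true), (1, 39, true), (0, 42, true), (1, 6, true), (1, 5, true), (0, 7, true), (0, 28, true), (3, 27, true), (2, 40, true), (1, 42, true), (3, 39, true), (2, 42, true), (1, 7, true), (1, 6, true), (2, 24, true), (1, 41, true), (0, 8, true), (1, 40, true), (0, 7, true), (0, 39, true), (2, 5, true), (1, 42, true), (0, 7, true), (3, 19, true), (2, 28, true), (1, 34, true), (0, 42, true), (1, 6, true), (2, 32, true), (1, 41, true), (0, 44, true), (1, 7, true), (1, 5, true), (2, 31, true), (4, 25, true), (3, 34, true), (2, 40, true), (1, 7, true), (1, 39, true), (3, 5, true), (2, 42, true), (1, 7, true), (2, 33,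 true), (1, 42, true), (3, 32, true), (2, 43, true), (1, 44, true), (0, 8, true), (0, 7, true), (2, 31, true), (1, 5, true), (0, 42, true), (2, 30, true), (3, 3, true), (2, 38, true), (1, 43, true), (0, 44, true), (1, 7, true), (1, 42, true), (3, 37, true), (2, 42, true), (1, 7, true), (2, 36, true), (1, 42, true), (2, 6, true), (2, 35, true), (4, 24, true), (3, 38, true), (2, 41, true), (1, 44, true), (0, 8, true), (0, 7, true), (0, 40, true), (2, 37, true), (1, 40, true), (0, 7, true), (1, 36, true), (0, 40, true), (1, 39, true), (0, 7, true), (2, 35, true), (1, 5, true), (0, 42, true), (5, 17, true), (4, 26, true), (3, 31, true), (2, 35, true), (4, 3, true), (3, 38, true), (2, 41, true), (1, 43, true), (0, 44, true), (1, 7, true), (1, 42, true), (3, 40, true), (2, 42, true), (1, 7, true), (3, 37, true), (2, 40, true), (1, 42, true), (4, 36, true), (3, 40, true), (2, 42, true), (1, 7, true), (2, 39, true), (1, 42, true), (2, 6, true), (3, 35, true), (2, 5, true), (1, 7, true), (2, 25, true), (1, 38, true), (0, 8, true), (1, 37, true), (0, 7, true), (0, 36, true), (2, 35, true), (3,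 4, true), (2, 41, true), (1, 43, true), (0, 44, true), (1, 7, true), (1, 42, true), (3, 39, true), (2, 42, true), (1, 7, true), (1, 6, true), (1, 5, true), (3, 24, true), (2, 34, true), (1, 7, true), (3, 33, true), (2, 40, true), (1, 42, true), (4, 32, true), (3, 41, true), (2, 43, true), (1, 44, true), (0, 8, true), (0, 7, true), (0, 42, true), (2, 5, true), (1, 42, true), (0, 7, true), (1, 31, true), (2, 3, true), (1, 41, true), (0, 43, true), (2, 42, true), (1, 7, true), (2, 40, true), (1, 42, true), (3, 39, true), (2, 42, true), (1, 7, true), (1, 6, true), (1, 5, true), (2, 2, true), (1, 7, true), (1, 7, false), (2, 5, false), (2, 6, false), (1, 42, false), (2, 39, false), (1, 7, false), (2, 42, false), (3, 40, false), (0, 3, false), (0, 7, false), (1, 33, false), (2, 2, false), (0, 5, false), (0, 6, false), (0, 7, false), (1, 42, false), (2, 39, false), (0, 42, false), (0, 7, false), (0, 8, false), (1, 44, false), (2, 43, false), (3, 41, false), (4, 4, false), (3, 35, false), (1, 36, false), (1, 7, false), (2, 37, false), (0, 38, false), (1, 25, false), (0, 7, false), (1, 5, false),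 (2, 35, false), (1, 6, false), (0, 42, false), (1, 39, false), (0, 7, false), (1, 42, false), (2, 40, false), (3, 36, false), (0, 42, false), (1, 40, false), (2, 37, false), (0, 7, false), (1, 42, false), (2, 40, false), (0, 42, false), (0, 7, false), (0, 8, false), (1, 44, false), (2, 43, false), (3, 41, false), (4, 38, false), (5, 3, false), (3, 35, false), (4, 31, false), (5, 26, false), (1, 42, false), (2, 5, false), (3, 35, false), (1, 7, false), (2, 42, false), (3, 40, false), (1, 42, false), (1, 7, false), (0, 44, false), (1, 43, false), (2, 41, false), (3, 38, false), (4, 32, false), (0, 42, false), (1, 40, false), (2, 37, false), (3, 33, false), (4, 27, false), (1, 35, false), (2, 31, false), (0, 7, false), (1, 42, false), (2, 5, false), (3, 35, false), (0, 42, false), (1, 40, false), (0, 7, false), (1, 42, false), (0, 8, false), (1, 43, false), (2, 41, false), (3, 38, false), (4, 32, false), (2, 35, false), (1, 7, false), (2, 36, false), (1, 37, false), (2, 34, false), (3, 28, false), (1, 7, false), (2, 5, false), (3, 35, false), (2, 6, false), (1, 42, false), (2, 39, false),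 (1, 7, false), (2, 42, false), (3, 40, false), (4, 36, false), (5, 29, false), (6, 0, false), (3, 35, false), (1, 36, false), (1, 7, false), (2, 37, false), (0, 38, false), (1, 3, false), (0, 7, false), (1, 5, false), (2, 35, false), (3, 31, false), (1, 35, false), (0, 8, false), (1, 38, false), (2, 32, false), (1, 7, false), (2, 37, false), (3, 33, false), (1, 5, false), (2, 35, false), (1, 6, false), (1, 7, false), (2, 42, false), (3, 39, false), (1, 42, false), (2, 40, false), (3, 36, false), (1, 7, false), (2, 42, false), (3, 40, false), (4, 37, false), (5, 34, false), (6, 24, false), (0, 25, false), (0, 7, false), (1, 5, false), (1, 6, false), (0, 42, false), (1, 39, false), (0, 7, false), (1, 42, false), (2, 40, false), (0, 42, false), (0, 7, false), (0, 8, false), (1, 44, false), (2, 43, false), (3, 41, false), (4, 3, false), (3, 31, false), (4, 26, false), (1, 42, false), (2, 5, false), (1, 7, false), (2, 39, false), (3, 29, false), (4, 9, false), (2, 6, false), (1, 42, false), (1, 7, false), (0, 44, false), (1, 43, false), (2, 3, false), (0, 42, false), (1, 5, false), (2,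 31, false), (3, 26, false), (0, 7, false), (0, 8, false), (1, 44, false), (2, 43, false), (3, 32, false), (1, 42, false), (2, 33, false), (3, 27, false), (1, 7, false), (2, 42, false), (3, 5, false), (4, 31, false), (0, 43, false), (1, 32, false), (0, 7, false), (1, 42, false), (2, 5, false), (0, 39, false), (0, 7, false), (1, 40, false), (2, 34, false), (3, 28, false), (1, 6, false), (2, 29, false), (3, 1, false), (0, 42, false), (1, 5, false), (0, 7, false), (1, 39, false), (0, 40, false), (0, 7, false), (0, 8, false), (1, 44, false), (2, 41, false), (3, 3, false), (2, 31, false), (1, 5, false), (1, 7, false), (0, 44, false), (1, 41, false), (2, 32, false), (0, 40, false), (1, 33, false), (0, 6, false), (0, 7, false), (1, 42, false), (2, 34, false), (3, 24, false), (0, 42, false), (1, 5, false), (0, 7, false), (1, 39, false), (0, 8, false), (1, 41, false), (2, 4, false), (1, 35, false), (1, 6, false), (1, 7, false), (2, 42, false), (3, 36, false), (1, 42, false), (2, 37, false), (1, 7, false), (2, 42, false), (0, 43, false), (1, 38, false), (2, 25, false), (0, 7, false), (1, 42,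 false), (2, 5, false), (3, 35, false), (0, 39, false), (0, 7, false), (1, 40, false), (2, 36, false), (0, 40, false), (0, 7, false), (0, 8, false), (1, 44, false), (2, 41, false), (3, 38, false), (4, 28, false), (5, 19, false), (2, 35, false), (2, 6, false), (1, 42, false), (2, 36, false), (1, 7, false), (2, 42, false), (3, 37, false), (1, 42, false), (1, 7, false), (0, 44, false), (1, 43, false), (2, 38, false), (3, 3, false), (0, 42, false), (1, 5, false), (2, 35, false), (3, 31, false), (1, 35, false), (0, 7, false), (1, 42, false), (0, 8, false), (1, 43, false), (2, 38, false), (3, 32, false), (1, 7, false), (2, 42, false), (3, 37, false), (4, 33, false), (1, 42, false), (2, 5, false), (3, 35, false), (1, 7, false), (2, 39, false), (1, 40, false), (2, 36, false), (1, 7, false), (2, 40, false), (3, 37, false), (4, 34, false), (5, 24, false), (2, 35, false), (0, 38, false), (1, 32, false), (0, 7, false), (1, 37, false), (2, 33, false), (3, 27, false), (0, 5, false), (1, 35, false), (2, 31, false), (0, 35, false), (0, 7, false), (0, 8, false), (1, 44, false), (2, 38, false), (3, 32,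 false), (1, 5, false), (2, 35, false), (1, 6, false), (1, 7, false), (2, 42, false), (3, 39, false), (1, 42, false), (2, 40, false), (3, 36, false), (1, 7, false), (2, 42, false), (3, 40, false), (4, 37, false), (5, 34, false), (6, 28, false), (3, 35, false), (1, 36, false), (2, 29, false), (3, 20, false), (1, 7, false), (2, 5, false), (3, 35, false), (2, 6, false), (1, 42, false), (2, 39, false), (1, 7, false), (2, 42, false), (3, 40, false), (4, 36, false), (1, 42, false), (2, 40, false), (3, 37, false), (1, 7, false), (2, 42, false), (3, 40, false), (1, 42, false), (1, 7, false), (0, 44, false), (1, 43, false), (2, 41, false), (3, 38, false), (4, 3, false), (2, 35, false), (3, 31, false), (0, 42, false), (1, 5, false), (2, 35, false), (0, 7, false), (1, 42, false), (2, 40, false), (0, 42, false), (0, 7, false), (0, 8, false), (1, 44, false), (2, 43, false), (3, 41, false), (4, 38, false), (5, 32, false), (1, 42, false), (2, 40, false), (3, 37, false), (4, 33, false), (2, 35, false), (1, 7, false), (2, 36, false), (1, 37, false), (2, 34, false), (3, 24, false), (1, 7, false), (2,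 5, false), (3, 35, false), (1, 40, false), (1, 7, false), (0, 44, false), (1, 41, false), (2, 38, false), (3, 32, false), (0, 40, false), (1, 37, false), (2, 33, false), (3, 27, false), (0, 35, false), (1, 31, false), (0, 7, false), (1, 5, false), (2, 35, false), (0, 40, false), (0, 7, false), (0, 8, false), (1, 44, false), (2, 41, false), (3, 38, false), (4, 32, false), (2, 35, false), (2, 6, false), (1, 42, false), (2, 36, false), (1, 7, false), (2, 42, false), (3, 37, false), (4, 34, false), (5, 28, false), (6, 21, false), (7, 10, false), (1, 42, false), (2, 5, false), (3, 35, false), (1, 7, false), (2, 39, false), (1, 40, false), (2, 36, false), (1, 7, false), (2, 40, false), (3, 37, false), (1, 40, false), (1, 7, false), (0, 44, false), (1, 41, false), (2, 38, false), (3, 24, false), (1, 35, false), (1, 6, false), (0, 42, false), (1, 36, false), (0, 7, false), (1, 42, false), (2, 37, false), (0, 42, false), (0, 7, false), (0, 8, false), (1, 44, false), (2, 43, false), (3, 38, false), (4, 3, false), (3, 30, false), (1, 42, false), (2, 5, false), (3, 31, false), (1, 7, false), (0,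 44, false), (1, 43, false), (2, 32, false), (0, 42, false), (1, 33, false), (0, 7, false), (1, 42, false), (2, 5, false), (0, 39, false), (0, 7, false), (1, 40, false), (2, 34, false), (3, 25, false), (1, 31, false), (0, 5, false), (0, 7, false), (0, 8, false), (1, 44, false), (2, 41, false), (3, 32, false), (2, 6, false), (1, 42, false), (2, 34, false), (3, 28, false), (4, 19, false), (1, 7, false), (2, 42, false), (3, 5, false), (1, 39, false), (1, 7, false), (2, 40, false), (0, 41, false), (1, 24, false), (0, 6, false), (0, 7, false), (1, 42, false), (2, 39, false), (0, 42, false), (1, 40, false), (2, 27, false), (0, 8, false), (1, 28, false), (1, 7, false), (2, 5, false), (2, 6, false), (1, 42, false), (2, 39, false), (1, 7, false), (2, 42, false), (3, 40, false), (1, 42, false), (1, 7, false), (0, 44, false), (1, 43, false), (2, 41, false), (3, 3, false), (2, 31, false), (0, 42, false), (1, 5, false), (0, 7, false), (1, 42, false), (0, 8, false), (1, 43, false), (2, 41, false), (3, 32, false), (4, 29, false), (5, 20, false), (2, 26, false), (1, 7, false), (2, 27, false), (1, 5,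 false), (1, 6, false), (1, 7, false), (2, 42, false), (3, 39, false), (1, 42, false), (2, 40, false), (1, 7, false), (2, 42, false), (0, 43, false), (1, 41, false), (2, 3, false), (1, 31, false), (0, 7, false), (1, 42, false), (2, 5, false), (0, 42, false), (0, 7, false), (0, 8, false), (1, 44, false), (2, 43, false), (3, 41, false), (4, 32, false), (5, 29, false), (6, 22, false), (7, 11, false), (1, 42, false), (2, 40, false), (3, 33, false), (1, 7, false), (2, 34, false), (3, 13, false), (1, 2, false), (1, 7, false), (2, 5, false), (2, 6, false), (1, 42, false), (2, 39, false), (1, 7, false), (2, 42, false), (3, 40, false), (1, 42, false), (1, 7, false), (0, 44, false), (1, 43, false), (2, 41, false), (3, 3, false), (2, 31, false), (0, 42, false), (1, 5, false), (0, 7, false), (1, 42, false), (0, 8, false), (1, 43, false), (2, 41, false), (3, 32, false), (1, 7, false), (2, 42, false), (3, 40, false), (4, 33, false), (1, 34, false), (2, 24, false), (1, 7, false), (2, 5, false), (3, 31, false), (0, 44, false), (1, 32, false), (0, 5, false), (0, 6, false), (0, 7, false), (1, 42, false),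 (2, 39, false), (0, 42, false), (1, 40, false), (2, 34, false), (3, 28, false), (0, 29, false), (1, 14, false), (0, 7, false), (1, 5, false), (1, 6, false), (0, 42, false), (1, 39, false), (0, 7, false), (1, 42, false), (2, 40, false), (0, 42, false), (0, 7, false), (0, 8, false), (1, 44, false), (2, 43, false), (3, 41, false), (4, 3, false), (3, 31, false), (1, 42, false), (2, 5, false), (1, 7, false), (2, 42, false), (0, 43, false), (1, 41, false), (2, 32, false), (0, 7, false), (1, 42, false), (2, 40, false), (3, 33, false), (0, 34, false), (1, 24, false), (0, 7, false), (1, 5, false), (1, 6, false), (0, 42, false), (1, 39, false), (0, 7, false), (1, 42, false), (0, 8, false), (1, 43, false), (2, 41, false), (3, 4, false), (2, 35, false), (1, 7, false), (2, 36, false), (1, 37, false), (1, 7, false), (0, 44, false), (1, 38, false), (2, 25, false), (1, 6, false), (0, 42, false), (1, 36, false), (0, 7, false), (1, 42, false), (2, 37, false), (3, 27, false), (0, 42, false), (1, 5, false), (2, 35, false), (0, 7, false), (1, 39, false), (0, 40, false), (1, 36, false), (0, 7, false), (1,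 40, false), (2, 37, false), (0, 40, false), (0, 7, false), (0, 8, false), (1, 44, false), (2, 41, false), (3, 38, false), (4, 3, false), (2, 35, false), (3, 31, false), (1, 5, false), (2, 35, false), (1, 7, false), (2, 40, false), (0, 41, false), (1, 38, false), (2, 32, false), (3, 29, false), (4, 15, false), (0, 35, false), (1, 26, false), (0, 6, false), (0, 7, false), (1, 42, false), (2, 36, false), (0, 42, false), (1, 37, false), (2, 27, false), (0, 7, false), (1, 42, false), (2, 5, false), (3, 35, false), (0, 39, false), (0, 7, false), (1, 40, false), (2, 36, false), (0, 40, false), (0, 7, false), (0, 8, false), (1, 44, false), (2, 41, false), (3, 38, false), (4, 28, false), (2, 35, false), (2, 6, false), (1, 42, false), (2, 36, false), (1, 7, false), (2, 42, false), (3, 37, false), (1, 42, false), (1, 7, false), (0, 44, false), (1, 43, false), (2, 38, false), (3, 3, false), (0, 42, false), (1, 5, false), (2, 35, false), (3, 31, false), (1, 35, false), (0, 7, false), (1, 42, false), (0, 8, false), (1, 43, false), (2, 38, false), (3, 32, false), (4, 29, false), (5, 1, false), (1,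 7, false), (2, 42, false), (3, 5, false), (4, 35, false), (1, 39, false), (1, 7, false), (2, 40, false), (3, 36, false), (1, 40, false), (2, 37, false), (1, 7, false), (2, 40, false), (0, 41, false), (1, 38, false), (2, 24, false), (0, 35, false), (0, 6, false), (0, 7, false), (1, 42, false), (2, 36, false), (0, 42, false), (1, 37, false), (0, 7, false), (1, 42, false), (0, 8, false), (1, 43, false), (2, 38, false), (3, 3, false), (2, 30, false), (1, 7, false), (2, 42, false), (3, 5, false), (4, 31, false), (0, 43, false), (1, 32, false), (0, 7, false), (1, 42, false), (2, 33, false), (0, 42, false), (1, 5, false), (0, 7, false), (1, 39, false), (0, 40, false), (1, 34, false), (2, 25, false), (0, 31, false), (0, 7, false), (1, 5, false), (0, 8, false), (1, 41, false), (2, 32, false), (1, 6, false), (1, 7, false), (2, 42, false), (3, 34, false), (4, 28, false), (5, 19, false), (1, 42, false), (2, 5, false), (1, 7, false), (2, 39, false), (1, 40, false), (1, 7, false), (0, 44, false), (1, 41, false), (2, 24, false), (1, 6, false), (0, 42, false), (1, 39, false), (0, 7, false), (1, 42,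 false), (2, 40, false), (3, 27, false), (0, 8, false), (1, 44, false), (2, 28, false), (3, 21, false), (1, 5, false), (1, 6, false), (1, 7, false), (2, 42, false), (3, 39, false), (1, 42, false), (2, 40, false), (1, 7, false), (2, 42, false), (0, 43, false), (1, 41, false), (2, 3, false), (1, 31, false), (2, 26, false), (0, 7, false), (1, 42, false), (2, 5, false), (0, 42, false), (0, 7, false), (0, 8, false), (1, 44, false), (2, 43, false), (3, 41, false), (4, 32, false), (1, 42, false), (2, 40, false), (3, 33, false), (4, 27, false), (2, 31, false), (1, 7, false), (2, 42, false), (3, 5, false), (1, 42, false), (1, 7, false), (0, 44, false), (1, 43, false), (2, 41, false), (3, 32, false), (0, 34, false), (1, 28, false), (2, 23, false), (3, 16, false)], [(3, 38, true), (2, 43, true), (1, 44, true), (0, 8, true), (0, 7, true), (0, 42, true), (2, 37, true), (1, 42, true), (0, 7, true), (1, 36, true), (0, 42, true), (1, 6, true), (1, 4, true), (0, 44, true), (0, 3, false), (0, 7, false), (1, 5, false), (1, 6, false), (0, 42, false), (1, 39, false), (0, 7, false), (1, 42, false), (2, 40,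 false), (3, 34, false), (2, 31, false), (0, 42, false), (1, 5, false), (0, 7, false), (1, 42, false), (0, 8, false), (1, 43, false), (2, 41, false), (3, 32, false), (1, 7, false), (2, 42, false), (3, 40, false), (4, 33, false), (1, 34, false), (2, 1, false), (1, 6, false), (1, 7, false), (2, 42, false), (0, 43, false), (1, 20, false), (0, 7, false), (1, 42, false), (2, 5, false), (0, 39, false), (0, 7, false), (1, 40, false), (0, 8, false), (1, 41, false), (2, 3, false), (0, 32, false), (0, 7, false), (1, 33, false), (2, 21, false), (0, 5, false), (1, 31, false), (0, 8, false), (1, 32, false), (1, 7, false), (2, 5, false), (2, 6, false), (1, 42, false), (2, 39, false), (1, 7, false), (2, 42, false), (3, 40, false), (4, 34, false), (5, 22, false)]),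
    ([1, 1], [], [(4, 22, true), (3, 34, true), (2, 40, true), (1, 42, true), (0, 7, true), (1, 39, true), (0, 42, true), (1, 6, true), (1, 5, true), (0, 7, true), (0, 32, true), (2, 31, true), (1, 5, true), (3, 21, true), (2, 33, true), (1, 7, true), (1, 32, true), (0, 8, true), (1, 3, true), (0, 41, true), (2, 40, true), (1, 7, true), (1, 39, true), (3, 5, true), (2, 42, true), (1, 7, true), (2, 20, true), (1, 43, true), (0, 8, true), (1, 42, true), (0, 7, true), (0, 6, true), (1, 18, true), (0, 3, true), (4, 1, true), (3, 41, true), (2, 43, true), (1, 44, true), (0, 8, true), (0, 7, true), (0, 42, true), (2, 40, true), (1, 42, true), (0, 7, true), (1, 39, true), (0, 42, true), (1, 6, true), (1, 5, true), (0, 7, true)], [(1, 34, true), (4, 3, true), (3, 41, true), (2, 43, true), (1, 44, true), (0, 8, true), (0, 7, true), (0, 42, true), (2, 40, true), (1, 42, true), (0, 7, true), (1, 39, true), (0, 42, true), (1, 6, true), (1, 5, true), (0, 7, true)]),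
    ([2, 2], [], [(7, 16, true), (6, 23, true), (5, 28, true), (4, 34, true), (3, 40, true), (2, 42, true), (1, 7, true), (2, 39, true), (1, 42, true), (2, 6, true), (2, 5, true), (1, 7, true), (1, 32, true), (0, 8, true), (1, 31, true), (0, 5, true), (2, 27, true), (1, 33, true), (0, 7, true), (0, 32, true), (3, 26, true), (2, 31, true), (1, 5, true), (2, 3, true), (1, 44, true), (0, 8, true), (0, 7, true), (3, 21, true), (2, 28, true), (1, 41, true), (0, 43, true), (2, 42, true), (1, 7, true), (2, 39, true), (1, 42, true), (2, 6, true), (2, 5, true), (1, 7, true), (1, 27, true), (3, 24, true), (2, 43, true), (1, 44, true), (0, 8, true), (0, 7, true), (0, 42, true), (1, 6, true), (4, 19, true), (3, 28, true), (2, 34, true), (1, 40, true), (0, 7, true), (0, 39, true), (2, 5, true), (1, 42, true), (0, 7, true), (1, 32, true), (0, 43, true), (4, 31, true), (3, 5, true), (2, 42, true), (1, 7, true), (3, 25, true), (2, 34, true), (1, 42, true), (2, 6, true), (3, 33, true), (2, 40, true), (1, 7, true), (2, 32, true), (1, 41, true), (0, 8, true), (1, 5, true), (0, 7, true), (0, 31, true),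 (1, 30, true), (2, 3, true), (1, 38, true), (0, 41, true), (2, 40, true), (1, 7, true), (2, 37, true), (1, 40, true), (3, 36, true), (2, 40, true), (1, 7, true), (1, 39, true), (4, 35, true), (3, 5, true), (2, 42, true), (1, 7, true), (3, 24, true), (2, 38, true), (1, 43, true), (0, 8, true), (1, 42, true), (0, 7, true), (1, 37, true), (0, 42, true), (2, 36, true), (1, 42, true), (0, 7, true), (0, 6, true), (0, 35, true), (4, 1, true), (3, 29, true), (2, 32, true), (1, 38, true), (0, 41, true), (2, 40, true), (1, 7, true), (2, 35, true), (1, 5, true), (3, 31, true), (2, 35, true), (4, 3, true), (3, 38, true), (2, 41, true), (1, 44, true), (0, 8, true), (0, 7, true), (0, 40, true), (2, 37, true), (1, 40, true), (0, 7, true), (1, 36, true), (0, 40, true), (1, 39, true), (0, 7, true), (2, 35, true), (1, 5, true), (0, 42, true), (3, 28, true), (2, 38, true), (1, 43, true), (0, 44, true), (1, 7, true), (1, 42, true), (3, 36, true), (2, 42, true), (1, 7, true), (1, 6, true), (1, 35, true), (3, 27, true), (2, 37, true), (1, 40, true), (3, 36, true), (2, 40, true), (1, 7, true), (1, 39, true),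 (5, 26, true), (4, 35, true), (3, 5, true), (2, 42, true), (1, 7, true), (5, 15, true), (4, 29, true), (3, 32, true), (2, 38, true), (1, 43, true), (0, 8, true), (1, 42, true), (0, 7, true), (1, 35, true), (3, 31, true), (2, 35, true), (1, 5, true), (0, 42, true), (3, 3, true), (2, 38, true), (1, 43, true), (0, 44, true), (1, 7, true), (1, 42, true), (3, 37, true), (2, 42, true), (1, 7, true), (2, 36, true), (1, 42, true), (2, 6, true), (2, 35, true), (4, 27, true), (3, 37, true), (2, 40, true), (1, 7, true), (2, 36, true), (1, 40, true), (2, 39, true), (1, 7, true), (4, 25, true), (3, 38, true), (2, 41, true), (1, 43, true), (0, 8, true), (1, 42, true), (0, 7, true), (1, 40, true), (0, 42, true), (3, 37, true), (2, 40, true), (1, 42, true), (0, 7, true), (2, 36, true), (1, 40, true), (0, 42, true), (2, 39, true), (1, 42, true), (0, 7, true), (0, 6, true), (1, 35, true), (0, 5, true), (1, 4, true), (0, 44, true), (5, 24, true), (4, 34, true), (3, 40, true), (2, 42, true), (1, 7, true), (2, 39, true), (1, 42, true), (2, 6, true), (2, 5, true), (1, 7, true), (1, 33, true), (2, 32, true),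 (1, 44, true), (0, 8, true), (2, 31, true), (1, 5, true), (0, 7, true), (0, 3, true), (5, 14, true), (4, 29, true), (3, 39, true), (2, 42, true), (1, 7, true), (1, 6, true), (1, 5, true), (3, 28, true), (2, 34, true), (1, 7, true), (3, 32, true), (2, 41, true), (1, 43, true), (0, 8, true), (1, 42, true), (0, 7, true), (1, 5, true), (0, 42, true), (2, 31, true), (4, 24, true), (3, 34, true), (2, 40, true), (1, 42, true), (0, 7, true), (1, 39, true), (0, 42, true), (1, 6, true), (1, 5, true), (0, 7, true), (0, 33, true), (1, 32, true), (0, 44, true), (3, 31, true), (2, 5, true), (1, 7, true), (1, 3, true), (0, 8, true), (3, 2, true), (2, 40, true), (1, 42, true), (0, 7, true), (3, 13, true), (2, 34, true), (1, 40, true), (0, 42, true), (2, 39, true), (1, 42, true), (0, 7, true), (0, 6, true), (0, 5, true), (1, 33, true), (0, 7, true), (3, 11, true), (2, 22, true), (1, 29, true), (0, 32, true), (2, 31, true), (1, 5, true), (2, 3, true), (1, 44, true), (0, 8, true), (0, 7, true), (2, 27, true), (1, 40, true), (0, 42, true), (2, 39, true), (1, 42, true), (0, 7, true), (0, 6, true), (1,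 26, true), (0, 5, true), (3, 20, true), (2, 29, true), (1, 32, true), (0, 44, true), (3, 31, true), (2, 5, true), (1, 7, true), (1, 3, true), (0, 8, true), (3, 28, true), (2, 41, true), (1, 43, true), (0, 44, true), (1, 7, true), (1, 42, true), (3, 39, true), (2, 42, true), (1, 7, true), (1, 6, true), (1, 5, true), (2, 27, true), (1, 7, true), (2, 24, true), (1, 43, true), (0, 8, true), (1, 42, true), (0, 7, true), (0, 6, true), (3, 19, true), (2, 28, true), (1, 34, true), (0, 40, true), (1, 39, true), (0, 7, true), (1, 5, true), (0, 42, true), (2, 32, true), (1, 43, true), (0, 44, true), (1, 7, true), (3, 31, true), (2, 5, true), (1, 42, true), (4, 25, true), (3, 34, true), (2, 42, true), (1, 7, true), (1, 6, true), (2, 33, true), (1, 40, true), (3, 32, true), (2, 41, true), (1, 44, true), (0, 8, true), (0, 7, true), (0, 5, true), (1, 31, true), (2, 30, true), (3, 3, true), (2, 38, true), (1, 41, true), (0, 44, true), (1, 7, true), (1, 40, true), (3, 37, true), (2, 40, true), (1, 7, true), (2, 36, true), (1, 40, true), (2, 39, true), (1, 7, true), (3, 35, true), (2, 5, true), (1,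 42, true), (4, 24, true), (3, 38, true), (2, 43, true), (1, 44, true), (0, 8, true), (0, 7, true), (0, 42, true), (2, 37, true), (1, 42, true), (0, 7, true), (1, 36, true), (0, 42, true), (1, 6, true), (1, 35, true), (6, 10, true), (5, 21, true), (4, 28, true), (3, 34, true), (2, 37, true), (1, 40, true), (0, 7, true), (1, 36, true), (0, 40, true), (1, 39, true), (0, 7, true), (2, 35, true), (1, 5, true), (0, 42, true), (3, 32, true), (2, 38, true), (1, 43, true), (0, 44, true), (1, 7, true), (1, 42, true), (3, 35, true), (5, 31, true), (4, 35, true), (3, 5, true), (2, 42, true), (1, 7, true), (4, 27, true), (3, 33, true), (2, 37, true), (1, 42, true), (4, 32, true), (3, 38, true), (2, 43, true), (1, 44, true), (0, 8, true), (0, 7, true), (0, 42, true), (2, 35, true), (5, 24, true), (4, 34, true), (3, 37, true), (2, 40, true), (1, 42, true), (0, 7, true), (2, 36, true), (1, 40, true), (0, 42, true), (2, 39, true), (1, 42, true), (0, 7, true), (0, 6, true), (1, 35, true), (0, 5, true), (2, 33, true), (1, 37, true), (0, 7, true), (1, 32, true), (0, 38, true), (2, 35, true), (4, 31, true),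 (3, 35, true), (2, 5, true), (1, 7, true), (2, 3, true), (1, 38, true), (0, 8, true), (1, 37, true), (0, 7, true), (0, 36, true), (2, 35, true), (5, 20, true), (4, 29, true), (3, 36, true), (2, 40, true), (1, 42, true), (0, 7, true), (1, 39, true), (0, 42, true), (1, 6, true), (2, 35, true), (1, 5, true), (0, 7, true), (2, 28, true), (1, 34, true), (0, 37, true), (1, 36, true), (0, 7, true), (1, 35, true), (3, 32, true), (2, 38, true), (1, 41, true), (0, 43, true), (2, 42, true), (1, 7, true), (2, 40, true), (1, 42, true), (4, 35, true), (3, 5, true), (2, 42, true), (1, 7, true), (3, 31, true), (2, 35, true), (5, 27, true), (4, 33, true), (3, 37, true), (2, 40, true), (1, 42, true), (5, 32, true), (4, 38, true), (3, 41, true), (2, 43, true), (1, 44, true), (0, 8, true), (0, 7, true), (0, 42, true), (2, 40, true), (1, 42, true), (0, 7, true), (2, 35, true), (1, 5, true), (0, 42, true), (4, 24, true), (3, 34, true), (2, 37, true), (1, 42, true), (0, 7, true), (1, 36, true), (0, 42, true), (1, 6, true), (1, 35, true), (3, 33, true), (2, 37, true), (1, 40, true), (0, 7, true), (2, 32,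 true), (1, 38, true), (0, 41, true), (2, 40, true), (1, 7, true), (2, 35, true), (1, 5, true), (3, 31, true), (2, 35, true), (4, 3, true), (3, 38, true), (2, 41, true), (1, 44, true), (0, 8, true), (0, 7, true), (0, 40, true), (2, 37, true), (1, 40, true), (0, 7, true), (1, 36, true), (0, 40, true), (1, 39, true), (0, 7, true), (2, 35, true), (1, 5, true), (0, 42, true), (4, 19, true), (3, 28, true), (2, 38, true), (1, 43, true), (0, 44, true), (1, 7, true), (1, 42, true), (3, 36, true), (2, 42, true), (1, 7, true), (1, 6, true), (1, 35, true), (3, 25, true), (2, 38, true), (1, 41, true), (0, 8, true), (1, 40, true), (0, 7, true), (1, 37, true), (0, 40, true), (2, 36, true), (1, 40, true), (0, 7, true), (0, 39, true), (3, 35, true), (2, 5, true), (1, 42, true), (0, 7, true), (1, 4, true), (0, 43, true), (2, 6, true), (4, 24, true), (3, 34, true), (2, 40, true), (1, 7, true), (1, 39, true), (3, 5, true), (2, 42, true), (1, 7, true), (2, 33, true), (1, 42, true), (3, 32, true), (2, 43, true), (1, 44, true), (0, 8, true), (0, 7, true), (2, 31, true), (1, 5, true), (0, 42, true), (2, 3,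 true), (1, 43, true), (0, 44, true), (1, 7, true), (1, 42, true), (2, 6, true), (4, 1, true), (3, 29, true), (2, 39, true), (1, 7, true), (2, 5, true), (1, 42, true), (4, 28, true), (3, 34, true), (2, 42, true), (1, 7, true), (1, 6, true), (2, 32, true), (1, 41, true), (0, 8, true), (1, 5, true), (0, 7, true), (0, 31, true), (2, 27, true), (1, 33, true), (0, 40, true), (2, 32, true), (1, 41, true), (0, 44, true), (1, 7, true), (1, 5, true), (3, 26, true), (2, 31, true), (3, 3, true), (2, 41, true), (1, 44, true), (0, 8, true), (0, 7, true), (0, 40, true), (1, 39, true), (0, 7, true), (1, 5, true), (0, 42, true), (3, 9, true), (2, 29, true), (1, 6, true), (3, 26, true), (2, 31, true), (1, 5, true), (0, 7, true), (0, 3, true), (4, 25, true), (3, 41, true), (2, 43, true), (1, 44, true), (0, 8, true), (0, 7, true), (0, 42, true), (2, 40, true), (1, 42, true), (0, 7, true), (1, 39, true), (0, 42, true), (1, 6, true), (1, 5, true), (0, 7, true), (2, 24, true), (1, 34, true), (0, 37, true), (1, 36, true), (0, 7, true), (1, 35, true), (3, 33, true), (2, 37, true), (1, 40, true), (0, 42, true),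 (4, 32, true), (3, 38, true), (2, 41, true), (1, 43, true), (0, 44, true), (1, 7, true), (1, 42, true), (3, 40, true), (2, 42, true), (1, 7, true), (3, 35, true), (2, 5, true), (1, 42, true), (4, 31, true), (3, 35, true), (5, 3, true), (4, 38, true), (3, 41, true), (2, 43, true), (1, 44, true), (0, 8, true), (0, 7, true), (0, 42, true), (2, 40, true), (1, 42, true), (0, 7, true), (2, 37, true), (1, 40, true), (0, 42, true), (3, 36, true), (2, 40, true), (1, 42, true), (0, 7, true), (1, 39, true), (0, 42, true), (1, 6, true), (2, 35, true), (1, 5, true), (0, 7, true), (2, 0, true), (1, 29, true), (0, 36, true), (2, 35, true), (5, 28, true), (4, 34, true), (3, 37, true), (2, 40, true), (1, 42, true), (0, 7, true), (2, 36, true), (1, 40, true), (0, 42, true), (2, 39, true), (1, 42, true), (0, 7, true), (0, 6, true), (1, 35, true), (0, 5, true), (2, 32, true), (1, 38, true), (0, 44, true), (1, 7, true), (1, 35, true), (3, 31, true), (2, 35, true), (1, 5, true), (4, 27, true), (3, 33, true), (2, 37, true), (1, 7, true), (2, 32, true), (1, 38, true), (0, 8, true), (1, 35, true), (4, 26,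 true), (3, 31, true), (2, 35, true), (1, 5, true), (0, 7, true), (1, 3, true), (0, 38, true), (2, 37, true), (1, 7, true), (1, 36, true), (3, 35, true), (5, 25, true), (4, 38, true), (3, 41, true), (2, 43, true), (1, 44, true), (0, 8, true), (0, 7, true), (0, 42, true), (2, 40, true), (1, 42, true), (0, 7, true), (2, 37, true), (1, 40, true), (0, 42, true), (3, 36, true), (2, 40, true), (1, 42, true), (0, 7, true), (1, 39, true), (0, 42, true), (1, 6, true), (2, 35, true), (1, 5, true), (0, 7, true), (0, 4, true), (4, 2, true), (3, 33, true), (2, 40, true), (1, 42, true), (4, 3, true), (3, 41, true), (2, 43, true), (1, 44, true), (0, 8, true), (0, 7, true), (0, 42, true), (2, 40, true), (1, 42, true), (0, 7, true), (1, 39, true), (0, 42, true), (1, 6, true), (1, 5, true), (0, 7, true)], [(3, 22, true), (2, 41, true), (1, 43, true), (0, 44, true), (1, 7, true), (1, 42, true), (3, 39, true), (2, 42, true), (1, 7, true), (1, 6, true), (1, 5, true), (2, 21, true), (1, 7, true), (3, 20, true), (2, 34, true), (1, 42, true), (2, 6, true), (3, 33, true), (2, 40, true), (1, 7, true), (2, 32,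 true), (1, 41, true), (0, 8, true), (1, 5, true), (0, 7, true), (0, 3, true), (4, 1, true), (3, 41, true), (2, 43, true), (1, 44, true), (0, 8, true), (0, 7, true), (0, 42, true), (2, 40, true), (1, 42, true), (0, 7, true), (1, 39, true), (0, 42, true), (1, 6, true), (1, 5, true), (0, 7, true)]),
    ([0, 2], [3, 1, 0], [(6, 16, true), (5, 23, true), (4, 28, true), (3, 34, true), (2, 40, true), (1, 42, true), (0, 7, true), (1, 39, true), (0, 42, true), (1, 6, true), (1, 5, true), (0, 7, true), (0, 32, true), (2, 31, true), (1, 5, true), (3, 27, true), (2, 33, true), (1, 7, true), (1, 32, true), (0, 8, true), (2, 26, true), (1, 31, true), (0, 5, true), (1, 3, true), (0, 44, true), (1, 7, true), (4, 21, true), (3, 28, true), (2, 41, true), (1, 43, true), (0, 8, true), (1, 42, true), (0, 7, true), (1, 39, true), (0, 42, true), (1, 6, true), (1, 5, true), (0, 7, true), (0, 27, true), (2, 24, true), (1, 43, true), (0, 44, true), (1, 7, true), (1, 42, true), (2, 6, true), (5, 19, true), (4, 28, true), (3, 34, true), (2, 40, true), (1, 7, true), (1, 39, true), (3, 5, true), (2, 42, true),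 (1, 7, true), (2, 32, true), (1, 43, true), (0, 8, true), (3, 31, true), (2, 5, true), (1, 42, true), (0, 7, true), (2, 25, true), (1, 34, true), (0, 42, true), (1, 6, true), (2, 33, true), (1, 40, true), (0, 7, true), (1, 32, true), (0, 41, true), (2, 5, true), (1, 7, true), (1, 31, true), (2, 30, true), (3, 3, true), (2, 38, true), (1, 41, true), (0, 8, true), (1, 40, true), (0, 7, true), (1, 37, true), (0, 40, true), (2, 36, true), (1, 40, true), (0, 7, true), (0, 39, true), (3, 35, true), (2, 5, true), (1, 42, true), (0, 7, true), (2, 24, true), (1, 38, true), (0, 43, true), (2, 42, true), (1, 7, true), (2, 37, true), (1, 42, true), (3, 36, true), (2, 42, true), (1, 7, true), (1, 6, true), (1, 35, true), (5, 1, true), (4, 29, true), (3, 32, true), (2, 38, true), (1, 41, true), (0, 8, true), (1, 40, true), (0, 7, true), (1, 35, true), (0, 5, true), (2, 31, true), (1, 35, true), (3, 3, true), (2, 38, true), (1, 41, true), (0, 44, true), (1, 7, true), (1, 40, true), (3, 37, true), (2, 40, true), (1, 7, true), (2, 36, true), (1, 40, true), (2, 39, true), (1, 7, true), (3, 35, true),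 (2, 5, true), (1, 42, true), (4, 28, true), (3, 38, true), (2, 43, true), (1, 44, true), (0, 8, true), (0, 7, true), (0, 42, true), (2, 36, true), (1, 42, true), (0, 7, true), (0, 6, true), (0, 35, true), (2, 27, true), (1, 37, true), (0, 40, true), (2, 36, true), (1, 40, true), (0, 7, true), (0, 39, true), (4, 26, true), (3, 35, true), (2, 5, true), (1, 42, true), (0, 7, true), (4, 15, true), (3, 29, true), (2, 32, true), (1, 38, true), (0, 43, true), (2, 42, true), (1, 7, true), (2, 35, true), (4, 31, true), (3, 35, true), (2, 5, true), (1, 42, true), (4, 3, true), (3, 38, true), (2, 43, true), (1, 44, true), (0, 8, true), (0, 7, true), (0, 42, true), (2, 37, true), (1, 42, true), (0, 7, true), (1, 36, true), (0, 42, true), (1, 6, true), (1, 35, true), (3, 27, true), (2, 37, true), (1, 40, true), (0, 7, true), (1, 36, true), (0, 40, true), (1, 39, true), (0, 7, true), (3, 25, true), (2, 38, true), (1, 41, true), (0, 43, true), (2, 42, true), (1, 7, true), (2, 40, true), (1, 42, true), (4, 37, true), (3, 40, true), (2, 42, true), (1, 7, true), (3, 36, true), (2, 40, true), (1, 42,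 true), (3, 39, true), (2, 42, true), (1, 7, true), (1, 6, true), (2, 35, true), (1, 5, true), (2, 4, true), (1, 44, true), (0, 8, true), (4, 24, true), (3, 34, true), (2, 40, true), (1, 42, true), (0, 7, true), (1, 39, true), (0, 42, true), (1, 6, true), (1, 5, true), (0, 7, true), (0, 33, true), (1, 32, true), (0, 44, true), (3, 31, true), (2, 5, true), (1, 7, true), (1, 3, true), (0, 8, true), (4, 14, true), (3, 29, true), (2, 39, true), (1, 42, true), (0, 7, true), (0, 6, true), (0, 5, true), (2, 28, true), (1, 34, true), (0, 7, true), (2, 32, true), (1, 41, true), (0, 43, true), (2, 42, true), (1, 7, true), (2, 5, true), (1, 42, true), (3, 31, true), (5, 24, true), (4, 34, true), (3, 40, true), (2, 42, true), (1, 7, true), (2, 39, true), (1, 42, true), (2, 6, true), (2, 5, true), (1, 7, true), (1, 33, true), (2, 32, true), (1, 44, true), (0, 8, true), (2, 31, true), (1, 5, true), (0, 7, true), (0, 3, true), (4, 2, true), (3, 40, true), (2, 42, true), (1, 7, true), (4, 13, true), (3, 34, true), (2, 40, true), (1, 42, true), (3, 39, true), (2, 42, true), (1, 7, true), (1, 6, true),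 (1, 5, true), (2, 33, true), (1, 7, true), (4, 11, true), (3, 22, true), (2, 29, true), (1, 32, true), (0, 8, true), (1, 31, true), (0, 5, true), (1, 3, true), (0, 44, true), (1, 7, true), (3, 27, true), (2, 40, true), (1, 42, true), (3, 39, true), (2, 42, true), (1, 7, true), (1, 6, true), (2, 26, true), (1, 5, true), (4, 20, true), (3, 29, true), (2, 32, true), (1, 44, true), (0, 8, true), (2, 31, true), (1, 5, true), (0, 7, true), (0, 3, true), (4, 28, true), (3, 41, true), (2, 43, true), (1, 44, true), (0, 8, true), (0, 7, true), (0, 42, true), (2, 39, true), (1, 42, true), (0, 7, true), (0, 6, true), (0, 5, true), (1, 27, true), (0, 7, true), (1, 24, true), (0, 43, true), (2, 42, true), (1, 7, true), (1, 6, true), (4, 19, true), (3, 28, true), (2, 34, true), (1, 40, true), (2, 39, true), (1, 7, true), (2, 5, true), (1, 42, true), (3, 32, true), (2, 43, true), (1, 44, true), (0, 8, true), (0, 7, true), (2, 31, true), (1, 5, true), (0, 42, true), (3, 25, true), (2, 34, true), (1, 42, true), (0, 7, true), (0, 6, true), (1, 33, true), (0, 40, true), (2, 32, true), (1, 41, true), (0,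 44, true), (1, 7, true), (1, 5, true), (2, 31, true), (3, 30, true), (4, 3, true), (3, 38, true), (2, 41, true), (1, 44, true), (0, 8, true), (0, 7, true), (0, 40, true), (2, 37, true), (1, 40, true), (0, 7, true), (1, 36, true), (0, 40, true), (1, 39, true), (0, 7, true), (2, 35, true), (1, 5, true), (0, 42, true), (3, 24, true), (2, 38, true), (1, 43, true), (0, 44, true), (1, 7, true), (1, 42, true), (3, 37, true), (2, 42, true), (1, 7, true), (2, 36, true), (1, 42, true), (2, 6, true), (2, 35, true), (7, 10, true), (6, 21, true), (5, 28, true), (4, 34, true), (3, 37, true), (2, 40, true), (1, 7, true), (2, 36, true), (1, 40, true), (2, 39, true), (1, 7, true), (3, 35, true), (2, 5, true), (1, 42, true), (4, 32, true), (3, 38, true), (2, 43, true), (1, 44, true), (0, 8, true), (0, 7, true), (0, 42, true), (2, 35, true), (4, 31, true), (3, 35, true), (2, 5, true), (1, 42, true), (0, 7, true), (3, 27, true), (2, 33, true), (1, 37, true), (0, 42, true), (3, 32, true), (2, 38, true), (1, 43, true), (0, 44, true), (1, 7, true), (1, 42, true), (3, 35, true), (6, 24, true), (5, 34, true),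 (4, 37, true), (3, 40, true), (2, 42, true), (1, 7, true), (3, 36, true), (2, 40, true), (1, 42, true), (3, 39, true), (2, 42, true), (1, 7, true), (1, 6, true), (2, 35, true), (1, 5, true), (3, 33, true), (2, 37, true), (1, 7, true), (2, 32, true), (1, 38, true), (0, 8, true), (1, 35, true), (3, 31, true), (2, 35, true), (1, 5, true), (0, 7, true), (1, 3, true), (0, 38, true), (2, 37, true), (1, 7, true), (1, 36, true), (3, 35, true), (6, 20, true), (5, 29, true), (4, 36, true), (3, 40, true), (2, 42, true), (1, 7, true), (2, 39, true), (1, 42, true), (2, 6, true), (3, 35, true), (2, 5, true), (1, 7, true), (3, 28, true), (2, 34, true), (1, 37, true), (2, 36, true), (1, 7, true), (2, 35, true), (4, 32, true), (3, 38, true), (2, 41, true), (1, 43, true), (0, 8, true), (1, 42, true), (0, 7, true), (1, 40, true), (0, 42, true), (3, 35, true), (2, 5, true), (1, 42, true), (0, 7, true), (2, 31, true), (1, 35, true), (4, 27, true), (3, 33, true), (2, 37, true), (1, 40, true), (0, 42, true), (4, 32, true), (3, 38, true), (2, 41, true), (1, 43, true), (0, 44, true), (1, 7, true), (1, 42,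 true), (3, 40, true), (2, 42, true), (1, 7, true), (3, 35, true), (2, 5, true), (1, 42, true), (5, 24, true), (4, 34, true), (3, 37, true), (2, 42, true), (1, 7, true), (2, 36, true), (1, 42, true), (2, 6, true), (2, 35, true), (4, 33, true), (3, 37, true), (2, 40, true), (1, 7, true), (3, 32, true), (2, 38, true), (1, 41, true), (0, 8, true), (1, 40, true), (0, 7, true), (1, 35, true), (0, 5, true), (2, 31, true), (1, 35, true), (3, 3, true), (2, 38, true), (1, 41, true), (0, 44, true), (1, 7, true), (1, 40, true), (3, 37, true), (2, 40, true), (1, 7, true), (2, 36, true), (1, 40, true), (2, 39, true), (1, 7, true), (3, 35, true), (2, 5, true), (1, 42, true), (5, 19, true), (4, 28, true), (3, 38, true), (2, 43, true), (1, 44, true), (0, 8, true), (0, 7, true), (0, 42, true), (2, 36, true), (1, 42, true), (0, 7, true), (0, 6, true), (0, 35, true), (2, 25, true), (1, 38, true), (0, 41, true), (2, 40, true), (1, 7, true), (2, 37, true), (1, 40, true), (3, 36, true), (2, 40, true), (1, 7, true), (1, 39, true), (4, 35, true), (3, 5, true), (2, 42, true), (1, 7, true), (2, 4, true), (1,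 43, true), (0, 8, true), (1, 6, true), (3, 24, true), (2, 34, true), (1, 40, true), (0, 7, true), (0, 39, true), (2, 5, true), (1, 42, true), (0, 7, true), (1, 33, true), (0, 42, true), (2, 32, true), (1, 43, true), (0, 44, true), (1, 7, true), (3, 31, true), (2, 5, true), (1, 42, true), (3, 3, true), (2, 43, true), (1, 44, true), (0, 8, true), (0, 7, true), (0, 42, true), (1, 6, true), (3, 1, true), (2, 29, true), (1, 39, true), (0, 7, true), (1, 5, true), (0, 42, true), (3, 28, true), (2, 34, true), (1, 42, true), (0, 7, true), (0, 6, true), (1, 32, true), (0, 41, true), (2, 5, true), (1, 7, true), (1, 31, true), (3, 27, true), (2, 33, true), (1, 40, true), (3, 32, true), (2, 41, true), (1, 44, true), (0, 8, true), (0, 7, true), (0, 5, true), (2, 26, true), (1, 31, true), (2, 3, true), (1, 41, true), (0, 44, true), (1, 7, true), (1, 40, true), (2, 39, true), (1, 7, true), (2, 5, true), (1, 42, true), (4, 9, true), (3, 29, true), (2, 6, true), (4, 26, true), (3, 31, true), (2, 5, true), (1, 7, true), (1, 3, true), (0, 8, true), (3, 25, true), (2, 41, true), (1, 43, true), (0, 44,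 true), (1, 7, true), (1, 42, true), (3, 40, true), (2, 42, true), (1, 7, true), (2, 39, true), (1, 42, true), (2, 6, true), (2, 5, true), (1, 7, true), (3, 24, true), (2, 34, true), (1, 37, true), (2, 36, true), (1, 7, true), (2, 35, true), (4, 33, true), (3, 37, true), (2, 40, true), (1, 42, true), (5, 32, true), (4, 38, true), (3, 41, true), (2, 43, true), (1, 44, true), (0, 8, true), (0, 7, true), (0, 42, true), (2, 40, true), (1, 42, true), (0, 7, true), (2, 35, true), (1, 5, true), (0, 42, true), (3, 31, true), (2, 35, true), (4, 3, true), (3, 38, true), (2, 41, true), (1, 43, true), (0, 44, true), (1, 7, true), (1, 42, true), (3, 40, true), (2, 42, true), (1, 7, true), (3, 37, true), (2, 40, true), (1, 42, true), (4, 36, true), (3, 40, true), (2, 42, true), (1, 7, true), (2, 39, true), (1, 42, true), (2, 6, true), (3, 35, true), (2, 5, true), (1, 7, true), (3, 0, true), (2, 29, true), (1, 36, true), (3, 35, true), (6, 28, true), (5, 34, true), (4, 37, true), (3, 40, true), (2, 42, true), (1, 7, true), (3, 36, true), (2, 40, true), (1, 42, true), (3, 39, true), (2, 42, true),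 (1, 7, true), (1, 6, true), (2, 35, true), (1, 5, true), (3, 32, true), (2, 38, true), (1, 44, true), (0, 8, true), (0, 7, true), (0, 35, true), (2, 31, true), (1, 35, true), (0, 5, true), (3, 27, true), (2, 33, true), (1, 37, true), (0, 7, true), (1, 32, true), (0, 38, true), (2, 35, true), (5, 26, true), (4, 31, true), (3, 35, true), (2, 5, true), (1, 7, true), (2, 3, true), (1, 38, true), (0, 8, true), (1, 37, true), (0, 7, true), (0, 36, true), (2, 35, true), (4, 25, true), (3, 38, true), (2, 41, true), (1, 43, true), (0, 44, true), (1, 7, true), (1, 42, true), (3, 40, true), (2, 42, true), (1, 7, true), (3, 37, true), (2, 40, true), (1, 42, true), (4, 36, true), (3, 40, true), (2, 42, true), (1, 7, true), (2, 39, true), (1, 42, true), (2, 6, true), (3, 35, true), (2, 5, true), (1, 7, true), (1, 4, true), (0, 8, true), (3, 2, true), (2, 33, true), (1, 40, true), (0, 42, true), (3, 3, true), (2, 41, true), (1, 43, true), (0, 44, true), (1, 7, true), (1, 42, true), (3, 40, true), (2, 42, true), (1, 7, true), (2, 39, true), (1, 42, true), (2, 6, true), (2, 5, true), (1, 7, true),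 (1, 7, false), (2, 5, false), (2, 6, false), (1, 42, false), (2, 39, false), (1, 7, false), (2, 42, false), (3, 40, false), (1, 42, false), (1, 7, false), (0, 44, false), (1, 43, false), (2, 41, false), (3, 3, false), (0, 42, false), (1, 40, false), (2, 33, false), (3, 2, false), (0, 8, false), (1, 4, false), (1, 7, false), (2, 5, false), (3, 35, false), (2, 6, false), (1, 42, false), (2, 39, false), (1, 7, false), (2, 42, false), (3, 40, false), (4, 36, false), (1, 42, false), (2, 40, false), (3, 37, false), (1, 7, false), (2, 42, false), (3, 40, false), (1, 42, false), (1, 7, false), (0, 44, false), (1, 43, false), (2, 41, false), (3, 38, false), (4, 25, false), (2, 35, false), (0, 36, false), (0, 7, false), (1, 37, false), (0, 8, false), (1, 38, false), (2, 3, false), (1, 7, false), (2, 5, false), (3, 35, false), (4, 31, false), (5, 26, false), (2, 35, false), (0, 38, false), (1, 32, false), (0, 7, false), (1, 37, false), (2, 33, false), (3, 27, false), (0, 5, false), (1, 35, false), (2, 31, false), (0, 35, false), (0, 7, false), (0, 8, false), (1, 44, false), (2, 38, false), (3,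 32, false), (1, 5, false), (2, 35, false), (1, 6, false), (1, 7, false), (2, 42, false), (3, 39, false), (1, 42, false), (2, 40, false), (3, 36, false), (1, 7, false), (2, 42, false), (3, 40, false), (4, 37, false), (5, 34, false), (6, 28, false), (3, 35, false), (1, 36, false), (2, 29, false), (3, 0, false), (1, 7, false), (2, 5, false), (3, 35, false), (2, 6, false), (1, 42, false), (2, 39, false), (1, 7, false), (2, 42, false), (3, 40, false), (4, 36, false), (1, 42, false), (2, 40, false), (3, 37, false), (1, 7, false), (2, 42, false), (3, 40, false), (1, 42, false), (1, 7, false), (0, 44, false), (1, 43, false), (2, 41, false), (3, 38, false), (4, 3, false), (2, 35, false), (3, 31, false), (0, 42, false), (1, 5, false), (2, 35, false), (0, 7, false), (1, 42, false), (2, 40, false), (0, 42, false), (0, 7, false), (0, 8, false), (1, 44, false), (2, 43, false), (3, 41, false), (4, 38, false), (5, 32, false), (1, 42, false), (2, 40, false), (3, 37, false), (4, 33, false), (2, 35, false), (1, 7, false), (2, 36, false), (1, 37, false), (2, 34, false), (3, 24, false), (1, 7, false),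 (2, 5, false), (2, 6, false), (1, 42, false), (2, 39, false), (1, 7, false), (2, 42, false), (3, 40, false), (1, 42, false), (1, 7, false), (0, 44, false), (1, 43, false), (2, 41, false), (3, 25, false), (0, 8, false), (1, 3, false), (1, 7, false), (2, 5, false), (3, 31, false), (4, 26, false), (2, 6, false), (3, 29, false), (4, 9, false), (1, 42, false), (2, 5, false), (1, 7, false), (2, 39, false), (1, 40, false), (1, 7, false), (0, 44, false), (1, 41, false), (2, 3, false), (1, 31, false), (2, 26, false), (0, 5, false), (0, 7, false), (0, 8, false), (1, 44, false), (2, 41, false), (3, 32, false), (1, 40, false), (2, 33, false), (3, 27, false), (1, 31, false), (1, 7, false), (2, 5, false), (0, 41, false), (1, 32, false), (0, 6, false), (0, 7, false), (1, 42, false), (2, 34, false), (3, 28, false), (0, 42, false), (1, 5, false), (0, 7, false), (1, 39, false), (2, 29, false), (3, 1, false), (1, 6, false), (0, 42, false), (0, 7, false), (0, 8, false), (1, 44, false), (2, 43, false), (3, 3, false), (1, 42, false), (2, 5, false), (3, 31, false), (1, 7, false), (0, 44, false), (1, 43,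 false), (2, 32, false), (0, 42, false), (1, 33, false), (0, 7, false), (1, 42, false), (2, 5, false), (0, 39, false), (0, 7, false), (1, 40, false), (2, 34, false), (3, 24, false), (1, 6, false), (0, 8, false), (1, 43, false), (2, 4, false), (1, 7, false), (2, 42, false), (3, 5, false), (4, 35, false), (1, 39, false), (1, 7, false), (2, 40, false), (3, 36, false), (1, 40, false), (2, 37, false), (1, 7, false), (2, 40, false), (0, 41, false), (1, 38, false), (2, 25, false), (0, 35, false), (0, 6, false), (0, 7, false), (1, 42, false), (2, 36, false), (0, 42, false), (0, 7, false), (0, 8, false), (1, 44, false), (2, 43, false), (3, 38, false), (4, 28, false), (5, 19, false), (1, 42, false), (2, 5, false), (3, 35, false), (1, 7, false), (2, 39, false), (1, 40, false), (2, 36, false), (1, 7, false), (2, 40, false), (3, 37, false), (1, 40, false), (1, 7, false), (0, 44, false), (1, 41, false), (2, 38, false), (3, 3, false), (1, 35, false), (2, 31, false), (0, 5, false), (1, 35, false), (0, 7, false), (1, 40, false), (0, 8, false), (1, 41, false), (2, 38, false), (3, 32, false), (1, 7, false),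 (2, 40, false), (3, 37, false), (4, 33, false), (2, 35, false), (2, 6, false), (1, 42, false), (2, 36, false), (1, 7, false), (2, 42, false), (3, 37, false), (4, 34, false), (5, 24, false), (1, 42, false), (2, 5, false), (3, 35, false), (1, 7, false), (2, 42, false), (3, 40, false), (1, 42, false), (1, 7, false), (0, 44, false), (1, 43, false), (2, 41, false), (3, 38, false), (4, 32, false), (0, 42, false), (1, 40, false), (2, 37, false), (3, 33, false), (4, 27, false), (1, 35, false), (2, 31, false), (0, 7, false), (1, 42, false), (2, 5, false), (3, 35, false), (0, 42, false), (1, 40, false), (0, 7, false), (1, 42, false), (0, 8, false), (1, 43, false), (2, 41, false), (3, 38, false), (4, 32, false), (2, 35, false), (1, 7, false), (2, 36, false), (1, 37, false), (2, 34, false), (3, 28, false), (1, 7, false), (2, 5, false), (3, 35, false), (2, 6, false), (1, 42, false), (2, 39, false), (1, 7, false), (2, 42, false), (3, 40, false), (4, 36, false), (5, 29, false), (6, 20, false), (3, 35, false), (1, 36, false), (1, 7, false), (2, 37, false), (0, 38, false), (1, 3, false), (0, 7, false),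 (1, 5, false), (2, 35, false), (3, 31, false), (1, 35, false), (0, 8, false), (1, 38, false), (2, 32, false), (1, 7, false), (2, 37, false), (3, 33, false), (1, 5, false), (2, 35, false), (1, 6, false), (1, 7, false), (2, 42, false), (3, 39, false), (1, 42, false), (2, 40, false), (3, 36, false), (1, 7, false), (2, 42, false), (3, 40, false), (4, 37, false), (5, 34, false), (6, 24, false), (3, 35, false), (1, 42, false), (1, 7, false), (0, 44, false), (1, 43, false), (2, 38, false), (3, 32, false), (0, 42, false), (1, 37, false), (2, 33, false), (3, 27, false), (0, 7, false), (1, 42, false), (2, 5, false), (3, 35, false), (4, 31, false), (2, 35, false), (0, 42, false), (0, 7, false), (0, 8, false), (1, 44, false), (2, 43, false), (3, 38, false), (4, 32, false), (1, 42, false), (2, 5, false), (3, 35, false), (1, 7, false), (2, 39, false), (1, 40, false), (2, 36, false), (1, 7, false), (2, 40, false), (3, 37, false), (4, 34, false), (5, 28, false), (6, 21, false), (7, 10, false), (2, 35, false), (2, 6, false), (1, 42, false), (2, 36, false), (1, 7, false), (2, 42, false), (3, 37, false),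 (1, 42, false), (1, 7, false), (0, 44, false), (1, 43, false), (2, 38, false), (3, 24, false), (0, 42, false), (1, 5, false), (2, 35, false), (0, 7, false), (1, 39, false), (0, 40, false), (1, 36, false), (0, 7, false), (1, 40, false), (2, 37, false), (0, 40, false), (0, 7, false), (0, 8, false), (1, 44, false), (2, 41, false), (3, 38, false), (4, 3, false), (3, 30, false), (2, 31, false), (1, 5, false), (1, 7, false), (0, 44, false), (1, 41, false), (2, 32, false), (0, 40, false), (1, 33, false), (0, 6, false), (0, 7, false), (1, 42, false), (2, 34, false), (3, 25, false), (0, 42, false), (1, 5, false), (2, 31, false), (0, 7, false), (0, 8, false), (1, 44, false), (2, 43, false), (3, 32, false), (1, 42, false), (2, 5, false), (1, 7, false), (2, 39, false), (1, 40, false), (2, 34, false), (3, 28, false), (4, 19, false), (1, 6, false), (1, 7, false), (2, 42, false), (0, 43, false), (1, 24, false), (0, 7, false), (1, 27, false), (0, 5, false), (0, 6, false), (0, 7, false), (1, 42, false), (2, 39, false), (0, 42, false), (0, 7, false), (0, 8, false), (1, 44, false), (2, 43, false), (3,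 41, false), (4, 28, false), (0, 3, false), (0, 7, false), (1, 5, false), (2, 31, false), (0, 8, false), (1, 44, false), (2, 32, false), (3, 29, false), (4, 20, false), (1, 5, false), (2, 26, false), (1, 6, false), (1, 7, false), (2, 42, false), (3, 39, false), (1, 42, false), (2, 40, false), (3, 27, false), (1, 7, false), (0, 44, false), (1, 3, false), (0, 5, false), (1, 31, false), (0, 8, false), (1, 32, false), (2, 29, false), (3, 22, false), (4, 11, false), (1, 7, false), (2, 33, false), (1, 5, false), (1, 6, false), (1, 7, false), (2, 42, false), (3, 39, false), (1, 42, false), (2, 40, false), (3, 34, false), (4, 13, false), (1, 7, false), (2, 42, false), (3, 40, false), (4, 2, false), (0, 3, false), (0, 7, false), (1, 5, false), (2, 31, false), (0, 8, false), (1, 44, false), (2, 32, false), (1, 33, false), (1, 7, false), (2, 5, false), (2, 6, false), (1, 42, false), (2, 39, false), (1, 7, false), (2, 42, false), (3, 40, false), (4, 34, false), (5, 24, false), (3, 31, false), (1, 42, false), (2, 5, false), (1, 7, false), (2, 42, false), (0, 43, false), (1, 41, false), (2, 32, false),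 (0, 7, false), (1, 34, false), (2, 28, false), (0, 5, false), (0, 6, false), (0, 7, false), (1, 42, false), (2, 39, false), (3, 29, false), (4, 14, false), (0, 8, false), (1, 3, false), (1, 7, false), (2, 5, false), (3, 31, false), (0, 44, false), (1, 32, false), (0, 33, false), (0, 7, false), (1, 5, false), (1, 6, false), (0, 42, false), (1, 39, false), (0, 7, false), (1, 42, false), (2, 40, false), (3, 34, false), (4, 24, false), (0, 8, false), (1, 44, false), (2, 4, false), (1, 5, false), (2, 35, false), (1, 6, false), (1, 7, false), (2, 42, false), (3, 39, false), (1, 42, false), (2, 40, false), (3, 36, false), (1, 7, false), (2, 42, false), (3, 40, false), (4, 37, false), (1, 42, false), (2, 40, false), (1, 7, false), (2, 42, false), (0, 43, false), (1, 41, false), (2, 38, false), (3, 25, false), (0, 7, false), (1, 39, false), (0, 40, false), (1, 36, false), (0, 7, false), (1, 40, false), (2, 37, false), (3, 27, false), (1, 35, false), (1, 6, false), (0, 42, false), (1, 36, false), (0, 7, false), (1, 42, false), (2, 37, false), (0, 42, false), (0, 7, false), (0, 8, false), (1,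 44, false), (2, 43, false), (3, 38, false), (4, 3, false), (1, 42, false), (2, 5, false), (3, 35, false), (4, 31, false), (2, 35, false), (1, 7, false), (2, 42, false), (0, 43, false), (1, 38, false), (2, 32, false), (3, 29, false), (4, 15, false), (0, 7, false), (1, 42, false), (2, 5, false), (3, 35, false), (0, 39, false), (0, 7, false), (1, 40, false), (2, 36, false), (0, 40, false), (1, 37, false), (0, 7, false), (1, 40, false), (0, 8, false), (1, 41, false), (2, 38, false), (3, 24, false), (1, 35, false), (1, 6, false), (1, 7, false), (2, 42, false), (3, 36, false), (1, 42, false), (2, 37, false), (1, 7, false), (2, 42, false), (0, 43, false), (1, 38, false), (2, 3, false), (1, 30, false), (0, 7, false), (1, 42, false), (2, 5, false), (3, 31, false), (0, 8, false), (1, 43, false), (2, 32, false), (1, 7, false), (2, 42, false), (3, 33, false), (1, 42, false), (2, 5, false), (1, 7, false), (2, 39, false), (1, 40, false), (2, 34, false), (3, 25, false), (1, 26, false), (1, 7, false), (2, 5, false), (2, 6, false), (1, 42, false), (2, 39, false), (1, 7, false), (2, 42, false), (3,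 40, false), (1, 42, false), (1, 7, false), (0, 44, false), (1, 43, false), (2, 41, false), (3, 3, false), (2, 31, false), (0, 42, false), (1, 5, false), (0, 7, false), (1, 42, false), (0, 8, false), (1, 43, false), (2, 41, false), (3, 32, false), (4, 29, false), (5, 9, false), (0, 4, false), (0, 7, false), (1, 5, false), (2, 35, false), (1, 6, false), (0, 42, false), (1, 39, false), (0, 7, false), (1, 42, false), (2, 40, false), (3, 36, false), (0, 42, false), (1, 40, false), (2, 37, false), (0, 7, false), (1, 42, false), (2, 40, false), (0, 42, false), (0, 7, false), (0, 8, false), (1, 44, false), (2, 43, false), (3, 41, false), (4, 38, false), (5, 25, false), (3, 35, false), (1, 36, false), (1, 7, false), (2, 37, false), (0, 38, false), (1, 3, false), (0, 7, false), (1, 5, false), (2, 35, false), (3, 31, false), (4, 26, false), (1, 35, false), (2, 31, false), (0, 5, false), (1, 35, false), (0, 7, false), (1, 40, false), (0, 8, false), (1, 41, false), (2, 38, false), (3, 32, false), (1, 35, false), (1, 6, false), (1, 7, false), (2, 42, false), (3, 36, false), (1, 42, false), (2, 37,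 false), (3, 34, false), (4, 28, false), (5, 11, false), (1, 7, false), (2, 42, false), (3, 5, false), (4, 35, false), (5, 26, false), (1, 39, false), (1, 7, false), (2, 40, false), (3, 36, false), (1, 40, false), (2, 37, false), (3, 27, false), (1, 35, false), (1, 6, false), (1, 7, false), (2, 42, false), (3, 36, false), (1, 42, false), (1, 7, false), (0, 44, false), (1, 43, false), (2, 38, false), (3, 28, false), (0, 42, false), (1, 5, false), (2, 35, false), (0, 7, false), (1, 39, false), (0, 40, false), (1, 36, false), (0, 7, false), (1, 40, false), (2, 37, false), (0, 40, false), (0, 7, false), (0, 8, false), (1, 44, false), (2, 41, false), (3, 38, false), (4, 3, false), (2, 35, false), (3, 31, false), (1, 5, false), (2, 35, false), (1, 7, false), (2, 40, false), (0, 41, false), (1, 38, false), (2, 32, false), (3, 29, false), (4, 1, false), (0, 17, false), (0, 7, false), (1, 5, false), (1, 6, false), (0, 42, false), (1, 39, false), (0, 7, false), (1, 42, false), (0, 8, false), (1, 43, false), (2, 41, false), (3, 22, false), (1, 7, false), (2, 23, false), (3, 13, false), (1, 5,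 false), (1, 6, false), (1, 7, false), (2, 42, false), (3, 39, false), (1, 42, false), (2, 40, false), (1, 7, false), (2, 42, false), (0, 43, false), (1, 41, false), (2, 3, false), (0, 7, false), (1, 42, false), (2, 40, false), (3, 33, false), (4, 2, false), (0, 8, false), (1, 24, false), (1, 7, false), (2, 5, false), (2, 6, false), (1, 42, false), (2, 39, false), (1, 7, false), (2, 42, false), (3, 40, false), (1, 42, false), (1, 7, false), (0, 44, false), (1, 43, false), (2, 41, false), (3, 3, false), (0, 8, false), (1, 44, false), (2, 4, false), (3, 30, false), (1, 5, false), (2, 35, false), (3, 31, false), (1, 35, false), (1, 7, false), (0, 44, false), (1, 38, false), (2, 32, false), (0, 37, false), (1, 33, false), (0, 7, false), (1, 5, false), (2, 35, false), (1, 6, false), (0, 42, false), (1, 39, false), (0, 7, false), (1, 42, false), (2, 40, false), (3, 36, false), (0, 42, false), (1, 40, false), (2, 37, false), (3, 34, false), (4, 25, false), (1, 35, false), (2, 26, false), (3, 17, false), (0, 7, false), (1, 42, false), (2, 5, false), (3, 35, false), (0, 39, false), (0, 7, false),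 (1, 40, false), (2, 36, false), (0, 40, false), (1, 37, false), (0, 7, false), (1, 40, false), (0, 8, false), (1, 41, false), (2, 38, false), (3, 3, false), (1, 35, false), (2, 31, false), (1, 7, false), (2, 5, false), (3, 35, false), (1, 40, false), (1, 7, false), (0, 44, false), (1, 41, false), (2, 38, false), (3, 32, false), (0, 40, false), (1, 37, false), (2, 33, false), (0, 35, false), (0, 6, false), (0, 7, false), (1, 42, false), (2, 36, false), (0, 42, false), (1, 37, false), (2, 34, false), (3, 24, false), (4, 18, false), (0, 7, false), (1, 42, false), (2, 5, false), (3, 35, false), (4, 26, false), (0, 39, false), (0, 7, false), (1, 40, false), (2, 36, false), (0, 40, false), (1, 37, false), (2, 27, false), (0, 35, false), (0, 6, false), (0, 7, false), (1, 42, false), (2, 36, false), (0, 42, false), (1, 37, false), (0, 7, false), (1, 42, false), (0, 8, false), (1, 43, false), (2, 38, false), (3, 3, false), (1, 7, false), (2, 42, false), (3, 5, false), (4, 35, false), (5, 31, false), (3, 35, false), (1, 42, false), (1, 7, false), (0, 44, false), (1, 43, false), (2, 38, false),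 (3, 32, false), (4, 29, false), (5, 22, false), (0, 42, false), (1, 5, false), (2, 35, false), (3, 26, false), (0, 7, false), (1, 39, false), (0, 40, false), (1, 36, false), (0, 7, false), (1, 40, false), (2, 37, false), (3, 27, false), (1, 35, false), (1, 6, false), (0, 42, false), (1, 36, false), (0, 7, false), (1, 42, false), (0, 8, false), (1, 43, false), (2, 38, false), (3, 28, false), (4, 23, false), (5, 14, false), (1, 7, false), (2, 42, false), (3, 5, false), (4, 35, false), (1, 39, false), (1, 7, false), (2, 40, false), (3, 36, false), (1, 40, false), (2, 37, false), (1, 7, false), (2, 40, false), (0, 41, false), (1, 38, false), (2, 3, false), (0, 35, false), (1, 31, false), (0, 7, false), (1, 5, false), (2, 35, false), (0, 40, false), (0, 7, false), (0, 8, false), (1, 44, false), (2, 41, false), (3, 38, false), (4, 32, false), (1, 40, false), (2, 37, false), (3, 33, false), (1, 35, false), (1, 6, false), (1, 7, false), (2, 42, false), (3, 36, false), (1, 42, false), (2, 37, false), (3, 34, false), (4, 24, false), (5, 18, false), (1, 7, false), (2, 42, false), (3, 5, false),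 (4, 35, false), (1, 39, false), (1, 7, false), (2, 40, false), (3, 36, false), (1, 40, false), (2, 37, false), (1, 7, false), (2, 40, false), (0, 41, false), (1, 38, false), (2, 24, false), (0, 35, false), (0, 6, false), (0, 7, false), (1, 42, false), (2, 36, false), (0, 42, false), (1, 37, false), (0, 7, false), (1, 42, false), (0, 8, false), (1, 43, false), (2, 38, false), (3, 3, false), (2, 30, false), (1, 7, false), (2, 42, false), (3, 5, false), (4, 31, false), (0, 43, false), (1, 32, false), (0, 7, false), (1, 42, false), (2, 33, false), (0, 42, false), (1, 5, false), (0, 7, false), (1, 39, false), (0, 40, false), (1, 34, false), (2, 25, false), (0, 31, false), (0, 7, false), (1, 5, false), (0, 8, false), (1, 41, false), (2, 32, false), (1, 6, false), (1, 7, false), (2, 42, false), (3, 34, false), (4, 28, false), (5, 19, false), (1, 42, false), (2, 5, false), (1, 7, false), (2, 39, false), (1, 40, false), (1, 7, false), (0, 44, false), (1, 41, false), (2, 24, false), (1, 6, false), (0, 42, false), (1, 39, false), (0, 7, false), (1, 42, false), (2, 40, false), (3, 27, false),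 (0, 8, false), (1, 44, false), (2, 28, false), (3, 21, false), (1, 5, false), (1, 6, false), (1, 7, false), (2, 42, false), (3, 39, false), (1, 42, false), (2, 40, false), (1, 7, false), (2, 42, false), (0, 43, false), (1, 41, false), (2, 3, false), (1, 31, false), (2, 26, false), (0, 7, false), (1, 42, false), (2, 5, false), (0, 42, false), (0, 7, false), (0, 8, false), (1, 44, false), (2, 43, false), (3, 41, false), (4, 32, false), (1, 42, false), (2, 40, false), (3, 33, false), (4, 27, false), (2, 31, false), (1, 7, false), (2, 42, false), (3, 5, false), (1, 42, false), (1, 7, false), (0, 44, false), (1, 43, false), (2, 41, false), (3, 32, false), (0, 34, false), (1, 28, false), (2, 23, false), (3, 15, false)], [(3, 37, true), (2, 42, true), (1, 7, true), (2, 36, true), (1, 42, true), (2, 6, true), (2, 35, true), (2, 35, false), (2, 6, false), (1, 42, false), (2, 36, false), (1, 7, false), (2, 42, false), (3, 37, false), (1, 42, false), (1, 7, false), (0, 44, false), (1, 43, false), (2, 38, false), (3, 3, false), (2, 30, false), (0, 42, false), (1, 33, false), (2, 19, false), (0,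 7, false), (1, 21, false), (0, 5, false), (0, 6, false), (0, 7, false), (1, 42, false), (2, 39, false), (0, 42, false), (0, 7, false), (0, 8, false), (1, 44, false), (2, 43, false), (3, 41, false), (4, 22, false), (1, 23, false), (1, 7, false), (2, 5, false), (2, 6, false), (1, 42, false), (2, 39, false), (1, 7, false), (2, 42, false), (3, 40, false), (1, 42, false), (1, 7, false), (0, 44, false), (1, 43, false), (2, 41, false), (3, 3, false), (4, 18, false), (2, 31, false), (0, 42, false), (1, 5, false), (0, 7, false), (1, 42, false), (0, 8, false), (1, 43, false), (2, 41, false), (3, 32, false), (1, 7, false), (2, 42, false), (3, 40, false), (4, 33, false), (5, 23, false)]),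
    ([0, 3], [2, 1, 0], [(6, 11, true), (5, 22, true), (4, 29, true), (3, 32, true), (2, 41, true), (1, 43, true), (0, 44, true), (1, 7, true), (1, 42, true), (3, 5, true), (2, 42, true), (1, 7, true), (2, 31, true), (3, 3, true), (2, 41, true), (1, 43, true), (0, 8, true), (1, 42, true), (0, 7, true), (1, 40, true), (0, 42, true), (2, 39, true), (1, 42, true), (0, 7, true), (0, 6, true), (0, 5, true), (1, 27, true), (0, 7, true), (1, 26, true), (4, 20, true), (3, 29, true), (2, 32, true), (1, 41, true), (0, 43, true), (2, 42, true), (1, 7, true), (2, 5, true), (1, 42, true), (3, 31, true), (4, 3, true), (3, 41, true), (2, 43, true), (1, 44, true), (0, 8, true), (0, 7, true), (0, 42, true), (2, 40, true), (1, 42, true), (0, 7, true), (1, 39, true), (0, 42, true), (1, 6, true), (1, 5, true), (0, 7, true), (0, 28, true), (3, 27, true), (2, 40, true), (1, 42, true), (3, 39, true), (2, 42, true), (1, 7, true), (1, 6, true), (2, 24, true), (1, 41, true), (0, 8, true), (1, 40, true), (0, 7, true), (0, 39, true), (2, 5, true), (1, 42, true), (0, 7, true), (3, 19, true), (2, 28, true), (1,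 34, true), (0, 42, true), (1, 6, true), (2, 32, true), (1, 41, true), (0, 44, true), (1, 7, true), (1, 5, true), (2, 31, true), (4, 25, true), (3, 34, true), (2, 40, true), (1, 7, true), (1, 39, true), (3, 5, true), (2, 42, true), (1, 7, true), (2, 33, true), (1, 42, true), (3, 32, true), (2, 43, true), (1, 44, true), (0, 8, true), (0, 7, true), (2, 31, true), (1, 5, true), (0, 42, true), (2, 30, true), (3, 3, true), (2, 38, true), (1, 43, true), (0, 44, true), (1, 7, true), (1, 42, true), (3, 37, true), (2, 42, true), (1, 7, true), (2, 36, true), (1, 42, true), (2, 6, true), (2, 35, true), (4, 24, true), (3, 38, true), (2, 41, true), (1, 44, true), (0, 8, true), (0, 7, true), (0, 40, true), (2, 37, true), (1, 40, true), (0, 7, true), (1, 36, true), (0, 40, true), (1, 39, true), (0, 7, true), (2, 35, true), (1, 5, true), (0, 42, true), (6, 10, true), (5, 21, true), (4, 28, true), (3, 34, true), (2, 37, true), (1, 42, true), (0, 7, true), (1, 36, true), (0, 42, true), (1, 6, true), (1, 35, true), (3, 32, true), (2, 38, true), (1, 41, true), (0, 44, true), (1, 7, true), (1, 40, true),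 (3, 35, true), (2, 5, true), (1, 7, true), (2, 31, true), (1, 35, true), (4, 27, true), (3, 33, true), (2, 37, true), (1, 40, true), (4, 32, true), (3, 38, true), (2, 41, true), (1, 44, true), (0, 8, true), (0, 7, true), (0, 40, true), (2, 35, true), (1, 5, true), (0, 7, true), (2, 24, true), (1, 34, true), (0, 37, true), (1, 36, true), (0, 7, true), (1, 35, true), (3, 33, true), (2, 37, true), (1, 40, true), (0, 42, true), (4, 32, true), (3, 38, true), (2, 41, true), (1, 43, true), (0, 44, true), (1, 7, true), (1, 42, true), (3, 40, true), (2, 42, true), (1, 7, true), (3, 35, true), (2, 5, true), (1, 42, true), (4, 31, true), (3, 35, true), (5, 3, true), (4, 38, true), (3, 41, true), (2, 43, true), (1, 44, true), (0, 8, true), (0, 7, true), (0, 42, true), (2, 40, true), (1, 42, true), (0, 7, true), (2, 37, true), (1, 40, true), (0, 42, true), (3, 36, true), (2, 40, true), (1, 42, true), (0, 7, true), (1, 39, true), (0, 42, true), (1, 6, true), (2, 35, true), (1, 5, true), (0, 7, true), (2, 20, true), (1, 29, true), (0, 36, true), (2, 35, true), (5, 28, true), (4, 34, true), (3, 37,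 true), (2, 40, true), (1, 42, true), (0, 7, true), (2, 36, true), (1, 40, true), (0, 42, true), (2, 39, true), (1, 42, true), (0, 7, true), (0, 6, true), (1, 35, true), (0, 5, true), (2, 32, true), (1, 38, true), (0, 44, true), (1, 7, true), (1, 35, true), (3, 31, true), (2, 35, true), (1, 5, true), (4, 27, true), (3, 33, true), (2, 37, true), (1, 7, true), (2, 32, true), (1, 38, true), (0, 8, true), (1, 35, true), (4, 24, true), (3, 34, true), (2, 37, true), (1, 40, true), (0, 7, true), (1, 36, true), (0, 40, true), (1, 39, true), (0, 7, true), (2, 35, true), (1, 5, true), (0, 42, true), (3, 33, true), (2, 37, true), (1, 42, true), (0, 7, true), (2, 32, true), (1, 38, true), (0, 43, true), (2, 42, true), (1, 7, true), (2, 35, true), (4, 31, true), (3, 35, true), (2, 5, true), (1, 42, true), (4, 3, true), (3, 38, true), (2, 43, true), (1, 44, true), (0, 8, true), (0, 7, true), (0, 42, true), (2, 37, true), (1, 42, true), (0, 7, true), (1, 36, true), (0, 42, true), (1, 6, true), (1, 35, true), (4, 19, true), (3, 28, true), (2, 38, true), (1, 41, true), (0, 44, true), (1, 7, true), (1,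 40, true), (3, 36, true), (2, 40, true), (1, 7, true), (1, 39, true), (4, 35, true), (3, 5, true), (2, 42, true), (1, 7, true), (3, 25, true), (2, 38, true), (1, 43, true), (0, 8, true), (1, 42, true), (0, 7, true), (1, 37, true), (0, 42, true), (2, 36, true), (1, 42, true), (0, 7, true), (0, 6, true), (0, 35, true), (1, 4, true), (0, 41, true), (2, 39, true), (1, 7, true), (2, 5, true), (1, 42, true), (4, 24, true), (3, 34, true), (2, 42, true), (1, 7, true), (1, 6, true), (2, 33, true), (1, 40, true), (3, 32, true), (2, 41, true), (1, 44, true), (0, 8, true), (0, 7, true), (0, 5, true), (1, 31, true), (2, 3, true), (1, 41, true), (0, 44, true), (1, 7, true), (1, 40, true), (2, 39, true), (1, 7, true), (2, 5, true), (1, 42, true), (4, 1, true), (3, 29, true), (2, 6, true), (4, 28, true), (3, 34, true), (2, 40, true), (1, 7, true), (1, 39, true), (3, 5, true), (2, 42, true), (1, 7, true), (2, 32, true), (1, 43, true), (0, 8, true), (3, 31, true), (2, 5, true), (1, 42, true), (0, 7, true), (2, 27, true), (1, 33, true), (0, 42, true), (2, 32, true), (1, 43, true), (0, 44, true), (1,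 7, true), (4, 26, true), (3, 31, true), (2, 5, true), (1, 42, true), (3, 3, true), (2, 43, true), (1, 44, true), (0, 8, true), (0, 7, true), (0, 42, true), (1, 6, true), (3, 9, true), (2, 29, true), (1, 39, true), (0, 7, true), (1, 5, true), (0, 42, true), (3, 26, true), (2, 31, true), (3, 3, true), (2, 41, true), (1, 43, true), (0, 44, true), (1, 7, true), (1, 42, true), (3, 40, true), (2, 42, true), (1, 7, true), (2, 39, true), (1, 42, true), (2, 6, true), (2, 5, true), (1, 7, true), (1, 25, true), (0, 8, true), (5, 24, true), (4, 34, true), (3, 37, true), (2, 40, true), (1, 42, true), (0, 7, true), (2, 36, true), (1, 40, true), (0, 42, true), (2, 39, true), (1, 42, true), (0, 7, true), (0, 6, true), (1, 35, true), (0, 5, true), (2, 33, true), (1, 37, true), (0, 7, true), (1, 32, true), (0, 38, true), (2, 35, true), (4, 31, true), (3, 35, true), (2, 5, true), (1, 7, true), (2, 3, true), (1, 38, true), (0, 8, true), (1, 37, true), (0, 7, true), (0, 36, true), (2, 35, true), (5, 0, true), (4, 29, true), (3, 36, true), (2, 40, true), (1, 42, true), (0, 7, true), (1, 39, true), (0, 42,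 true), (1, 6, true), (2, 35, true), (1, 5, true), (0, 7, true), (2, 28, true), (1, 34, true), (0, 37, true), (1, 36, true), (0, 7, true), (1, 35, true), (3, 32, true), (2, 38, true), (1, 41, true), (0, 43, true), (2, 42, true), (1, 7, true), (2, 40, true), (1, 42, true), (4, 35, true), (3, 5, true), (2, 42, true), (1, 7, true), (3, 31, true), (2, 35, true), (5, 27, true), (4, 33, true), (3, 37, true), (2, 40, true), (1, 42, true), (5, 32, true), (4, 38, true), (3, 41, true), (2, 43, true), (1, 44, true), (0, 8, true), (0, 7, true), (0, 42, true), (2, 40, true), (1, 42, true), (0, 7, true), (2, 35, true), (1, 5, true), (0, 42, true), (4, 26, true), (3, 31, true), (2, 35, true), (4, 3, true), (3, 38, true), (2, 41, true), (1, 43, true), (0, 44, true), (1, 7, true), (1, 42, true), (3, 40, true), (2, 42, true), (1, 7, true), (3, 37, true), (2, 40, true), (1, 42, true), (4, 36, true), (3, 40, true), (2, 42, true), (1, 7, true), (2, 39, true), (1, 42, true), (2, 6, true), (3, 35, true), (2, 5, true), (1, 7, true), (2, 25, true), (1, 38, true), (0, 8, true), (1, 37, true), (0, 7, true), (0,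 36, true), (2, 35, true), (3, 4, true), (2, 41, true), (1, 43, true), (0, 44, true), (1, 7, true), (1, 42, true), (3, 39, true), (2, 42, true), (1, 7, true), (1, 6, true), (1, 5, true), (3, 2, true), (2, 33, true), (1, 7, true), (1, 3, true), (0, 8, true), (0, 8, false), (1, 3, false), (1, 7, false), (2, 33, false), (3, 2, false), (1, 5, false), (1, 6, false), (1, 7, false), (2, 42, false), (3, 39, false), (1, 42, false), (1, 7, false), (0, 44, false), (1, 43, false), (2, 41, false), (3, 4, false), (2, 35, false), (0, 36, false), (0, 7, false), (1, 37, false), (0, 8, false), (1, 38, false), (2, 25, false), (1, 7, false), (2, 5, false), (3, 35, false), (2, 6, false), (1, 42, false), (2, 39, false), (1, 7, false), (2, 42, false), (3, 40, false), (4, 36, false), (1, 42, false), (2, 40, false), (3, 37, false), (1, 7, false), (2, 42, false), (3, 40, false), (1, 42, false), (1, 7, false), (0, 44, false), (1, 43, false), (2, 41, false), (3, 38, false), (4, 3, false), (2, 35, false), (3, 31, false), (4, 26, false), (0, 42, false), (1, 5, false), (2, 35, false), (0, 7, false), (1, 42, false),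 (2, 40, false), (0, 42, false), (0, 7, false), (0, 8, false), (1, 44, false), (2, 43, false), (3, 41, false), (4, 38, false), (5, 32, false), (1, 42, false), (2, 40, false), (3, 37, false), (4, 33, false), (5, 27, false), (2, 35, false), (3, 31, false), (1, 7, false), (2, 42, false), (3, 5, false), (4, 35, false), (1, 42, false), (2, 40, false), (1, 7, false), (2, 42, false), (0, 43, false), (1, 41, false), (2, 38, false), (3, 32, false), (1, 35, false), (0, 7, false), (1, 36, false), (0, 37, false), (1, 34, false), (2, 28, false), (0, 7, false), (1, 5, false), (2, 35, false), (1, 6, false), (0, 42, false), (1, 39, false), (0, 7, false), (1, 42, false), (2, 40, false), (3, 36, false), (4, 29, false), (5, 0, false), (2, 35, false), (0, 36, false), (0, 7, false), (1, 37, false), (0, 8, false), (1, 38, false), (2, 3, false), (1, 7, false), (2, 5, false), (3, 35, false), (4, 31, false), (2, 35, false), (0, 38, false), (1, 32, false), (0, 7, false), (1, 37, false), (2, 33, false), (0, 5, false), (1, 35, false), (0, 6, false), (0, 7, false), (1, 42, false), (2, 39, false), (0, 42, false),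 (1, 40, false), (2, 36, false), (0, 7, false), (1, 42, false), (2, 40, false), (3, 37, false), (4, 34, false), (5, 24, false), (0, 8, false), (1, 25, false), (1, 7, false), (2, 5, false), (2, 6, false), (1, 42, false), (2, 39, false), (1, 7, false), (2, 42, false), (3, 40, false), (1, 42, false), (1, 7, false), (0, 44, false), (1, 43, false), (2, 41, false), (3, 3, false), (2, 31, false), (3, 26, false), (0, 42, false), (1, 5, false), (0, 7, false), (1, 39, false), (2, 29, false), (3, 9, false), (1, 6, false), (0, 42, false), (0, 7, false), (0, 8, false), (1, 44, false), (2, 43, false), (3, 3, false), (1, 42, false), (2, 5, false), (3, 31, false), (4, 26, false), (1, 7, false), (0, 44, false), (1, 43, false), (2, 32, false), (0, 42, false), (1, 33, false), (2, 27, false), (0, 7, false), (1, 42, false), (2, 5, false), (3, 31, false), (0, 8, false), (1, 43, false), (2, 32, false), (1, 7, false), (2, 42, false), (3, 5, false), (1, 39, false), (1, 7, false), (2, 40, false), (3, 34, false), (4, 28, false), (2, 6, false), (3, 29, false), (4, 1, false), (1, 42, false), (2, 5, false), (1,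 7, false), (2, 39, false), (1, 40, false), (1, 7, false), (0, 44, false), (1, 41, false), (2, 3, false), (1, 31, false), (0, 5, false), (0, 7, false), (0, 8, false), (1, 44, false), (2, 41, false), (3, 32, false), (1, 40, false), (2, 33, false), (1, 6, false), (1, 7, false), (2, 42, false), (3, 34, false), (4, 24, false), (1, 42, false), (2, 5, false), (1, 7, false), (2, 39, false), (0, 41, false), (1, 4, false), (0, 35, false), (0, 6, false), (0, 7, false), (1, 42, false), (2, 36, false), (0, 42, false), (1, 37, false), (0, 7, false), (1, 42, false), (0, 8, false), (1, 43, false), (2, 38, false), (3, 25, false), (1, 7, false), (2, 42, false), (3, 5, false), (4, 35, false), (1, 39, false), (1, 7, false), (2, 40, false), (3, 36, false), (1, 40, false), (1, 7, false), (0, 44, false), (1, 41, false), (2, 38, false), (3, 28, false), (4, 19, false), (1, 35, false), (1, 6, false), (0, 42, false), (1, 36, false), (0, 7, false), (1, 42, false), (2, 37, false), (0, 42, false), (0, 7, false), (0, 8, false), (1, 44, false), (2, 43, false), (3, 38, false), (4, 3, false), (1, 42, false), (2, 5,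 false), (3, 35, false), (4, 31, false), (2, 35, false), (1, 7, false), (2, 42, false), (0, 43, false), (1, 38, false), (2, 32, false), (0, 7, false), (1, 42, false), (2, 37, false), (3, 33, false), (0, 42, false), (1, 5, false), (2, 35, false), (0, 7, false), (1, 39, false), (0, 40, false), (1, 36, false), (0, 7, false), (1, 40, false), (2, 37, false), (3, 34, false), (4, 24, false), (1, 35, false), (0, 8, false), (1, 38, false), (2, 32, false), (1, 7, false), (2, 37, false), (3, 33, false), (4, 27, false), (1, 5, false), (2, 35, false), (3, 31, false), (1, 35, false), (1, 7, false), (0, 44, false), (1, 38, false), (2, 32, false), (0, 5, false), (1, 35, false), (0, 6, false), (0, 7, false), (1, 42, false), (2, 39, false), (0, 42, false), (1, 40, false), (2, 36, false), (0, 7, false), (1, 42, false), (2, 40, false), (3, 37, false), (4, 34, false), (5, 28, false), (2, 35, false), (0, 36, false), (1, 29, false), (2, 20, false), (0, 7, false), (1, 5, false), (2, 35, false), (1, 6, false), (0, 42, false), (1, 39, false), (0, 7, false), (1, 42, false), (2, 40, false), (3, 36, false), (0,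 42, false), (1, 40, false), (2, 37, false), (0, 7, false), (1, 42, false), (2, 40, false), (0, 42, false), (0, 7, false), (0, 8, false), (1, 44, false), (2, 43, false), (3, 41, false), (4, 38, false), (5, 3, false), (3, 35, false), (4, 31, false), (1, 42, false), (2, 5, false), (3, 35, false), (1, 7, false), (2, 42, false), (3, 40, false), (1, 42, false), (1, 7, false), (0, 44, false), (1, 43, false), (2, 41, false), (3, 38, false), (4, 32, false), (0, 42, false), (1, 40, false), (2, 37, false), (3, 33, false), (1, 35, false), (0, 7, false), (1, 36, false), (0, 37, false), (1, 34, false), (2, 24, false), (0, 7, false), (1, 5, false), (2, 35, false), (0, 40, false), (0, 7, false), (0, 8, false), (1, 44, false), (2, 41, false), (3, 38, false), (4, 32, false), (1, 40, false), (2, 37, false), (3, 33, false), (4, 27, false), (1, 35, false), (2, 31, false), (1, 7, false), (2, 5, false), (3, 35, false), (1, 40, false), (1, 7, false), (0, 44, false), (1, 41, false), (2, 38, false), (3, 32, false), (1, 35, false), (1, 6, false), (0, 42, false), (1, 36, false), (0, 7, false), (1, 42, false),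 (2, 37, false), (3, 34, false), (4, 28, false), (5, 21, false), (6, 10, false), (0, 42, false), (1, 5, false), (2, 35, false), (0, 7, false), (1, 39, false), (0, 40, false), (1, 36, false), (0, 7, false), (1, 40, false), (2, 37, false), (0, 40, false), (0, 7, false), (0, 8, false), (1, 44, false), (2, 41, false), (3, 38, false), (4, 24, false), (2, 35, false), (2, 6, false), (1, 42, false), (2, 36, false), (1, 7, false), (2, 42, false), (3, 37, false), (1, 42, false), (1, 7, false), (0, 44, false), (1, 43, false), (2, 38, false), (3, 3, false), (2, 30, false), (0, 42, false), (1, 5, false), (2, 31, false), (0, 7, false), (0, 8, false), (1, 44, false), (2, 43, false), (3, 32, false), (1, 42, false), (2, 33, false), (1, 7, false), (2, 42, false), (3, 5, false), (1, 39, false), (1, 7, false), (2, 40, false), (3, 34, false), (4, 25, false), (2, 31, false), (1, 5, false), (1, 7, false), (0, 44, false), (1, 41, false), (2, 32, false), (1, 6, false), (0, 42, false), (1, 34, false), (2, 28, false), (3, 19, false), (0, 7, false), (1, 42, false), (2, 5, false), (0, 39, false), (0, 7, false),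 (1, 40, false), (0, 8, false), (1, 41, false), (2, 24, false), (1, 6, false), (1, 7, false), (2, 42, false), (3, 39, false), (1, 42, false), (2, 40, false), (3, 27, false), (0, 28, false), (0, 7, false), (1, 5, false), (1, 6, false), (0, 42, false), (1, 39, false), (0, 7, false), (1, 42, false), (2, 40, false), (0, 42, false), (0, 7, false), (0, 8, false), (1, 44, false), (2, 43, false), (3, 41, false), (4, 3, false), (3, 31, false), (1, 42, false), (2, 5, false), (1, 7, false), (2, 42, false), (0, 43, false), (1, 41, false), (2, 32, false), (3, 29, false), (4, 20, false), (1, 26, false), (0, 7, false), (1, 27, false), (0, 5, false), (0, 6, false), (0, 7, false), (1, 42, false), (2, 39, false), (0, 42, false), (1, 40, false), (0, 7, false), (1, 42, false), (0, 8, false), (1, 43, false), (2, 41, false), (3, 3, false), (2, 31, false), (1, 7, false), (2, 42, false), (3, 5, false), (1, 42, false), (1, 7, false), (0, 44, false), (1, 43, false), (2, 41, false), (3, 32, false), (4, 29, false), (5, 22, false), (6, 11, false), (0, 42, false), (1, 40, false), (2, 33, false), (0, 7, false), (1,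 34, false), (2, 13, false), (0, 2, false), (0, 7, false), (1, 5, false), (1, 6, false), (0, 42, false), (1, 39, false), (0, 7, false), (1, 42, false), (2, 40, false), (0, 42, false), (0, 7, false), (0, 8, false), (1, 44, false), (2, 43, false), (3, 41, false), (4, 3, false), (3, 31, false), (1, 42, false), (2, 5, false), (1, 7, false), (2, 42, false), (0, 43, false), (1, 41, false), (2, 32, false), (0, 7, false), (1, 42, false), (2, 40, false), (3, 33, false), (0, 34, false), (1, 24, false), (0, 7, false), (1, 5, false), (2, 31, false), (0, 8, false), (1, 44, false), (2, 32, false), (1, 5, false), (1, 6, false), (1, 7, false), (2, 42, false), (3, 39, false), (1, 42, false), (2, 40, false), (3, 34, false), (4, 28, false), (1, 29, false), (2, 14, false), (1, 7, false), (2, 5, false), (2, 6, false), (1, 42, false), (2, 39, false), (1, 7, false), (2, 42, false), (3, 40, false), (1, 42, false), (1, 7, false), (0, 44, false), (1, 43, false), (2, 41, false), (3, 3, false), (2, 31, false), (0, 42, false), (1, 5, false), (0, 7, false), (1, 42, false), (0, 8, false), (1, 43, false), (2, 41,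 false), (3, 32, false), (1, 7, false), (2, 42, false), (3, 40, false), (4, 33, false), (1, 34, false), (2, 24, false), (1, 7, false), (2, 5, false), (2, 6, false), (1, 42, false), (2, 39, false), (1, 7, false), (2, 42, false), (0, 43, false), (1, 41, false), (2, 4, false), (1, 35, false), (0, 7, false), (1, 36, false), (0, 37, false), (0, 7, false), (0, 8, false), (1, 44, false), (2, 38, false), (3, 25, false), (2, 6, false), (1, 42, false), (2, 36, false), (1, 7, false), (2, 42, false), (3, 37, false), (4, 27, false), (1, 42, false), (2, 5, false), (3, 35, false), (1, 7, false), (2, 39, false), (1, 40, false), (2, 36, false), (1, 7, false), (2, 40, false), (3, 37, false), (1, 40, false), (1, 7, false), (0, 44, false), (1, 41, false), (2, 38, false), (3, 3, false), (1, 35, false), (2, 31, false), (0, 5, false), (1, 35, false), (0, 7, false), (1, 40, false), (0, 8, false), (1, 41, false), (2, 38, false), (3, 32, false), (4, 29, false), (5, 15, false), (1, 35, false), (1, 6, false), (1, 7, false), (2, 42, false), (3, 36, false), (1, 42, false), (2, 37, false), (1, 7, false), (2, 42,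 false), (0, 43, false), (1, 38, false), (2, 24, false), (0, 7, false), (1, 42, false), (2, 5, false), (3, 35, false), (0, 39, false), (0, 7, false), (1, 40, false), (2, 36, false), (0, 40, false), (1, 37, false), (0, 7, false), (1, 40, false), (0, 8, false), (1, 41, false), (2, 38, false), (3, 3, false), (2, 30, false), (1, 31, false), (1, 7, false), (2, 5, false), (0, 41, false), (1, 32, false), (0, 7, false), (1, 40, false), (2, 33, false), (1, 6, false), (0, 42, false), (1, 34, false), (2, 25, false), (0, 7, false), (1, 42, false), (2, 5, false), (3, 26, false), (0, 8, false), (1, 3, false), (1, 7, false), (2, 5, false), (3, 31, false), (0, 44, false), (1, 32, false), (2, 29, false), (3, 9, false), (0, 5, false), (0, 6, false), (0, 7, false), (1, 42, false), (2, 39, false), (0, 42, false), (0, 7, false), (0, 8, false), (1, 44, false), (2, 43, false), (3, 41, false), (4, 4, false), (3, 35, false), (1, 36, false), (1, 7, false), (2, 37, false), (0, 38, false), (1, 25, false), (0, 7, false), (1, 5, false), (2, 35, false), (1, 6, false), (0, 42, false), (1, 39, false), (0, 7, false),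 (1, 42, false), (2, 40, false), (3, 36, false), (0, 42, false), (1, 40, false), (2, 37, false), (0, 7, false), (1, 42, false), (2, 40, false), (0, 42, false), (0, 7, false), (0, 8, false), (1, 44, false), (2, 43, false), (3, 41, false), (4, 38, false), (5, 3, false), (3, 35, false), (4, 31, false), (5, 26, false), (1, 42, false), (2, 5, false), (3, 35, false), (4, 31, false), (2, 35, false), (1, 7, false), (2, 42, false), (0, 43, false), (1, 38, false), (2, 32, false), (0, 7, false), (1, 42, false), (2, 5, false), (3, 35, false), (0, 39, false), (0, 7, false), (1, 40, false), (2, 36, false), (0, 40, false), (1, 37, false), (2, 34, false), (3, 28, false), (4, 11, false), (0, 35, false), (1, 26, false), (0, 6, false), (0, 7, false), (1, 42, false), (2, 36, false), (0, 42, false), (1, 37, false), (2, 27, false), (0, 7, false), (1, 42, false), (2, 5, false), (3, 35, false), (0, 39, false), (0, 7, false), (1, 40, false), (2, 36, false), (0, 40, false), (0, 7, false), (0, 8, false), (1, 44, false), (2, 41, false), (3, 38, false), (4, 28, false), (2, 35, false), (2, 6, false), (1, 42, false),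 (2, 36, false), (1, 7, false), (2, 42, false), (3, 37, false), (1, 42, false), (1, 7, false), (0, 44, false), (1, 43, false), (2, 38, false), (3, 3, false), (0, 42, false), (1, 5, false), (2, 35, false), (3, 31, false), (1, 35, false), (0, 7, false), (1, 42, false), (0, 8, false), (1, 43, false), (2, 38, false), (3, 32, false), (4, 29, false), (5, 1, false), (1, 7, false), (2, 42, false), (3, 5, false), (4, 17, false), (0, 44, false), (1, 22, false), (0, 5, false), (0, 6, false), (0, 7, false), (1, 42, false), (2, 39, false), (0, 42, false), (1, 40, false), (2, 23, false), (3, 13, false), (0, 7, false), (0, 8, false), (1, 44, false), (2, 3, false), (1, 33, false), (2, 2, false), (1, 7, false), (2, 5, false), (2, 6, false), (1, 42, false), (2, 39, false), (1, 7, false), (2, 42, false), (3, 40, false), (1, 42, false), (1, 7, false), (0, 44, false), (1, 43, false), (2, 41, false), (3, 24, false), (0, 8, false), (1, 3, false), (1, 7, false), (2, 5, false), (2, 6, false), (1, 42, false), (2, 39, false), (1, 7, false), (2, 42, false), (0, 43, false), (1, 41, false), (2, 4, false), (3, 30,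 false), (1, 35, false), (2, 31, false), (0, 7, false), (1, 42, false), (2, 5, false), (3, 35, false), (0, 42, false), (1, 40, false), (0, 7, false), (1, 42, false), (0, 8, false), (1, 43, false), (2, 41, false), (3, 38, false), (4, 32, false), (1, 7, false), (2, 42, false), (3, 40, false), (4, 37, false), (5, 33, false), (3, 35, false), (1, 36, false), (1, 7, false), (2, 37, false), (3, 34, false), (4, 25, false), (1, 5, false), (2, 35, false), (3, 26, false), (4, 17, false), (1, 35, false), (1, 6, false), (1, 7, false), (2, 42, false), (3, 36, false), (1, 42, false), (2, 37, false), (1, 7, false), (2, 42, false), (0, 43, false), (1, 38, false), (2, 3, false), (0, 7, false), (1, 42, false), (2, 5, false), (3, 35, false), (4, 31, false), (2, 35, false), (0, 42, false), (0, 7, false), (0, 8, false), (1, 44, false), (2, 43, false), (3, 38, false), (4, 32, false), (1, 42, false), (2, 37, false), (3, 33, false), (1, 7, false), (2, 42, false), (3, 5, false), (4, 35, false), (1, 39, false), (1, 7, false), (2, 40, false), (3, 36, false), (1, 40, false), (2, 37, false), (3, 34, false), (4,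 24, false), (5, 18, false), (1, 35, false), (2, 26, false), (1, 6, false), (1, 7, false), (2, 42, false), (3, 36, false), (1, 42, false), (2, 37, false), (3, 27, false), (1, 7, false), (2, 42, false), (3, 5, false), (4, 35, false), (1, 39, false), (1, 7, false), (2, 40, false), (3, 36, false), (1, 40, false), (2, 37, false), (1, 7, false), (2, 40, false), (0, 41, false), (1, 38, false), (2, 3, false), (0, 35, false), (1, 31, false), (0, 7, false), (1, 5, false), (2, 35, false), (0, 40, false), (0, 7, false), (0, 8, false), (1, 44, false), (2, 41, false), (3, 38, false), (4, 32, false), (5, 29, false), (6, 22, false), (2, 35, false), (3, 26, false), (2, 6, false), (1, 42, false), (2, 36, false), (1, 7, false), (2, 42, false), (3, 37, false), (4, 27, false), (1, 42, false), (2, 5, false), (3, 35, false), (1, 7, false), (2, 39, false), (1, 40, false), (2, 36, false), (1, 7, false), (2, 40, false), (0, 41, false), (1, 38, false), (2, 28, false), (3, 23, false), (4, 14, false), (0, 35, false), (0, 6, false), (0, 7, false), (1, 42, false), (2, 36, false), (0, 42, false), (1, 37, false),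 (0, 7, false), (1, 42, false), (0, 8, false), (1, 43, false), (2, 38, false), (3, 3, false), (1, 7, false), (2, 42, false), (3, 5, false), (4, 35, false), (5, 31, false), (3, 35, false), (1, 42, false), (1, 7, false), (0, 44, false), (1, 43, false), (2, 38, false), (3, 32, false), (0, 42, false), (1, 37, false), (2, 33, false), (0, 7, false), (1, 42, false), (2, 5, false), (3, 35, false), (0, 39, false), (0, 7, false), (1, 40, false), (2, 36, false), (0, 40, false), (1, 37, false), (2, 34, false), (3, 24, false), (4, 18, false), (0, 35, false), (0, 6, false), (0, 7, false), (1, 42, false), (2, 36, false), (0, 42, false), (1, 37, false), (0, 7, false), (1, 42, false), (0, 8, false), (1, 43, false), (2, 38, false), (3, 24, false), (1, 7, false), (2, 42, false), (3, 5, false), (4, 35, false), (1, 39, false), (1, 7, false), (2, 40, false), (3, 36, false), (1, 40, false), (2, 37, false), (1, 7, false), (2, 40, false), (0, 41, false), (1, 38, false), (2, 3, false), (1, 30, false), (0, 31, false), (0, 7, false), (1, 5, false), (0, 8, false), (1, 41, false), (2, 32, false), (1, 7, false),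 (2, 40, false), (3, 33, false), (2, 6, false), (1, 42, false), (2, 34, false), (3, 25, false), (1, 7, false), (2, 42, false), (3, 5, false), (4, 31, false), (0, 43, false), (1, 32, false), (0, 7, false), (1, 42, false), (2, 5, false), (0, 39, false), (0, 7, false), (1, 40, false), (2, 34, false), (3, 28, false), (4, 19, false), (1, 6, false), (0, 42, false), (0, 7, false), (0, 8, false), (1, 44, false), (2, 43, false), (3, 24, false), (1, 27, false), (1, 7, false), (2, 5, false), (2, 6, false), (1, 42, false), (2, 39, false), (1, 7, false), (2, 42, false), (0, 43, false), (1, 41, false), (2, 28, false), (3, 21, false), (0, 7, false), (0, 8, false), (1, 44, false), (2, 3, false), (1, 5, false), (2, 31, false), (3, 26, false), (0, 32, false), (0, 7, false), (1, 33, false), (2, 27, false), (0, 5, false), (1, 31, false), (0, 8, false), (1, 32, false), (1, 7, false), (2, 5, false), (2, 6, false), (1, 42, false), (2, 39, false), (1, 7, false), (2, 42, false), (3, 40, false), (4, 34, false), (5, 28, false), (6, 23, false), (7, 15, false)], [(3, 38, true), (2, 43, true), (1, 44, true), (0,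 8, true), (0, 7, true), (0, 42, true), (2, 37, true), (1, 42, true), (0, 7, true), (1, 36, true), (0, 42, true), (1, 6, true), (1, 35, true), (0, 40, false), (1, 19, false), (0, 6, false), (0, 7, false), (1, 42, false), (0, 8, false), (1, 43, false), (2, 3, false), (1, 7, false), (2, 42, false), (3, 5, false), (1, 42, false), (1, 7, false), (0, 44, false), (1, 43, false), (2, 41, false), (3, 32, false), (0, 42, false), (1, 40, false), (2, 33, false), (3, 21, false), (1, 31, false), (0, 7, false), (1, 42, false), (2, 5, false), (0, 42, false), (0, 7, false), (0, 8, false), (1, 44, false), (2, 43, false), (3, 41, false), (4, 32, false), (1, 34, false), (2, 22, false), (1, 7, false), (2, 5, false), (3, 31, false), (0, 44, false), (1, 32, false), (0, 33, false), (1, 23, false), (0, 18, false), (0, 7, false), (1, 5, false), (1, 6, false), (0, 42, false), (1, 39, false), (0, 7, false), (1, 42, false), (2, 40, false), (3, 23, false)])]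

/-- A conjugation. -/
def twoHSFus4 : Schur.Tails.Fus where
  xs := [[8, 7, 4, 3, 0], [8, 7, 6, 2], [7, 4, 3, 2]]
  ys := [[5, 3, 1, 0], [8, 7, 6, 5, 4, 1, 0], [8, 6, 5, 4, 2]]
  rels := [
    ([0, 1], [1, 0], [(4, 16, true), (3, 34, true), (2, 37, true), (1, 7, true), (1, 36, true), (3, 35, true), (5, 32, true), (4, 38, true), (3, 41, true), (2, 43, true), (1, 44, true), (0, 8, true), (0, 7, true), (0, 42, true), (2, 40, true), (1, 42, true), (0, 7, true), (2, 35, true), (1, 5, true), (0, 42, true), (3, 30, true), (2, 4, true), (1, 43, true), (0, 44, true), (1, 7, true), (1, 6, true), (4, 15, true), (3, 23, true), (2, 33, true), (1, 40, true), (3, 32, true), (2, 41, true), (1, 44, true), (0, 8, true), (0, 7, true), (0, 5, true), (1, 31, true), (3, 21, true), (2, 33, true), (1, 40, true), (0, 7, true), (1, 32, true), (0, 41, true), (2, 5, true), (1, 7, true), (1, 3, true), (0, 8, true), (3, 19, true), (2, 40, true), (1, 42, true), (0, 7, true), (4, 18, true), (3, 3, true), (2, 38, true), (1, 41, true), (0, 43, true), (2, 42, true), (1, 7, true), (2, 40, true), (1, 42, true), (4, 37,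 true), (3, 40, true), (2, 42, true), (1, 7, true), (3, 36, true), (2, 40, true), (1, 42, true), (3, 39, true), (2, 42, true), (1, 7, true), (1, 6, true), (2, 35, true), (1, 5, true), (4, 14, true), (3, 23, true), (2, 37, true), (1, 7, true), (1, 36, true), (3, 35, true), (5, 22, true), (4, 38, true), (3, 41, true), (2, 43, true), (1, 44, true), (0, 8, true), (0, 7, true), (0, 42, true), (2, 40, true), (1, 42, true), (0, 7, true), (2, 36, true), (1, 40, true), (0, 42, true), (2, 39, true), (1, 42, true), (0, 7, true), (0, 6, true), (1, 35, true), (0, 5, true), (2, 18, true), (3, 17, true), (2, 31, true), (1, 35, true), (3, 30, true), (2, 4, true), (1, 41, true), (0, 44, true), (1, 7, true), (1, 39, true), (3, 5, true), (2, 42, true), (1, 7, true), (2, 3, true), (1, 43, true), (0, 8, true), (1, 42, true), (0, 7, true), (0, 6, true), (3, 10, true), (2, 21, true), (1, 28, true), (0, 41, true), (2, 39, true), (1, 7, true), (2, 5, true), (1, 42, true), (3, 27, true), (2, 42, true), (1, 7, true), (1, 6, true), (1, 24, true), (0, 8, true), (5, 20, true), (4, 29, true), (3, 32, true), (2, 41,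 true), (1, 43, true), (0, 44, true), (1, 7, true), (1, 42, true), (3, 5, true), (2, 42, true), (1, 7, true), (2, 31, true), (3, 3, true), (2, 41, true), (1, 43, true), (0, 8, true), (1, 42, true), (0, 7, true), (1, 40, true), (0, 42, true), (2, 39, true), (1, 42, true), (0, 7, true), (0, 6, true), (0, 5, true), (1, 28, true), (0, 44, true), (4, 27, true), (3, 40, true), (2, 42, true), (1, 7, true), (2, 39, true), (1, 42, true), (2, 6, true), (3, 24, true), (2, 41, true), (1, 44, true), (0, 8, true), (0, 7, true), (0, 40, true), (1, 39, true), (0, 7, true), (1, 5, true), (0, 42, true), (4, 19, true), (3, 28, true), (2, 34, true), (1, 42, true), (0, 7, true), (0, 6, true), (1, 32, true), (0, 41, true), (2, 5, true), (1, 7, true), (1, 31, true), (3, 25, true), (2, 34, true), (1, 40, true), (2, 39, true), (1, 7, true), (2, 5, true), (1, 42, true), (3, 33, true), (2, 42, true), (1, 7, true), (2, 32, true), (1, 43, true), (0, 8, true), (3, 31, true), (2, 5, true), (1, 42, true), (0, 7, true), (1, 30, true), (2, 3, true), (1, 38, true), (0, 43, true), (2, 42, true), (1, 7, true), (2, 37,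 true), (1, 42, true), (3, 36, true), (2, 42, true), (1, 7, true), (1, 6, true), (1, 35, true), (3, 24, true), (2, 38, true), (1, 41, true), (0, 8, true), (1, 40, true), (0, 7, true), (1, 37, true), (0, 40, true), (2, 36, true), (1, 40, true), (0, 7, true), (0, 39, true), (3, 35, true), (2, 5, true), (1, 42, true), (0, 7, true), (4, 1, true), (3, 29, true), (2, 32, true), (1, 38, true), (0, 43, true), (2, 42, true), (1, 7, true), (2, 35, true), (4, 31, true), (3, 35, true), (2, 5, true), (1, 42, true), (4, 3, true), (3, 38, true), (2, 43, true), (1, 44, true), (0, 8, true), (0, 7, true), (0, 42, true), (2, 37, true), (1, 42, true), (0, 7, true), (1, 36, true), (0, 42, true), (1, 6, true), (1, 35, true), (3, 28, true), (2, 38, true), (1, 41, true), (0, 44, true), (1, 7, true), (1, 40, true), (3, 36, true), (2, 40, true), (1, 7, true), (1, 39, true), (4, 35, true), (3, 5, true), (2, 42, true), (1, 7, true), (3, 27, true), (2, 37, true), (1, 42, true), (3, 36, true), (2, 42, true), (1, 7, true), (1, 6, true), (2, 26, true), (1, 35, true), (1, 35, false), (1, 6, false), (1, 7, false), (2,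 42, false), (3, 36, false), (1, 42, false), (2, 37, false), (1, 7, false), (2, 42, false), (0, 43, false), (1, 38, false), (2, 24, false), (0, 7, false), (1, 42, false), (2, 5, false), (3, 35, false), (0, 39, false), (0, 7, false), (1, 40, false), (2, 36, false), (0, 40, false), (1, 37, false), (0, 7, false), (1, 40, false), (0, 8, false), (1, 41, false), (2, 38, false), (3, 3, false), (2, 30, false), (1, 31, false), (1, 7, false), (2, 5, false), (0, 41, false), (1, 32, false), (0, 7, false), (1, 40, false), (2, 33, false), (1, 6, false), (0, 42, false), (1, 34, false), (2, 25, false), (0, 7, false), (1, 42, false), (2, 5, false), (3, 31, false), (0, 8, false), (1, 43, false), (2, 32, false), (1, 7, false), (2, 42, false), (3, 5, false), (1, 39, false), (1, 7, false), (2, 40, false), (3, 34, false), (4, 28, false), (2, 6, false), (3, 29, false)], [(3, 16, true), (2, 23, true), (1, 33, true), (0, 40, true), (2, 32, true), (1, 41, true), (0, 44, true), (1, 7, true), (1, 5, true), (2, 31, true), (4, 21, true), (3, 33, true), (2, 40, true), (1, 7, true), (2, 32, true), (1, 41, true), (0,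 8, true), (1, 5, true), (0, 7, true), (0, 3, true), (4, 19, true), (3, 40, true), (2, 42, true), (1, 7, true), (5, 1, true), (4, 34, true), (3, 37, true), (2, 40, true), (1, 42, true), (4, 36, true), (3, 40, true), (2, 42, true), (1, 7, true), (2, 39, true), (1, 42, true), (2, 6, true), (3, 35, true), (2, 5, true), (1, 7, true), (2, 33, true), (1, 37, true), (3, 32, true), (2, 38, true), (1, 44, true), (0, 8, true), (0, 7, true), (0, 35, true), (2, 31, true), (1, 35, true), (0, 5, true), (3, 15, true), (2, 34, true), (1, 37, true), (0, 7, true), (0, 36, true), (2, 35, true), (4, 32, true), (3, 38, true), (2, 41, true), (1, 43, true), (0, 44, true), (1, 7, true), (1, 42, true), (3, 40, true), (2, 42, true), (1, 7, true), (3, 35, true), (2, 5, true), (1, 42, true), (4, 30, true), (3, 4, true), (2, 43, true), (1, 44, true), (0, 8, true), (0, 7, true), (0, 6, true), (1, 3, true), (0, 41, true), (2, 40, true), (1, 7, true), (1, 39, true), (3, 5, true), (2, 42, true), (1, 7, true), (2, 14, true), (1, 43, true), (0, 8, true), (1, 42, true), (0, 7, true), (3, 13, true), (2, 29, true), (1,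 32, true), (0, 43, true), (4, 31, true), (3, 5, true), (2, 42, true), (1, 7, true), (2, 3, true), (1, 43, true), (0, 8, true), (1, 42, true), (0, 7, true), (0, 6, true), (1, 28, true), (0, 41, true), (2, 39, true), (1, 7, true), (2, 5, true), (1, 42, true), (3, 2, true), (2, 42, true), (1, 7, true), (4, 12, true), (3, 23, true), (2, 33, true), (1, 42, true), (3, 32, true), (2, 43, true), (1, 44, true), (0, 8, true), (0, 7, true), (2, 31, true), (1, 5, true), (0, 42, true), (3, 22, true), (2, 34, true), (1, 42, true), (0, 7, true), (0, 6, true), (1, 32, true), (0, 41, true), (2, 5, true), (1, 7, true), (1, 31, true), (3, 18, true), (2, 3, true), (1, 41, true), (0, 8, true), (1, 40, true), (0, 7, true), (0, 39, true), (2, 5, true), (1, 42, true), (0, 7, true), (1, 17, true), (5, 1, true), (4, 29, true), (3, 32, true), (2, 38, true), (1, 41, true), (0, 43, true), (2, 42, true), (1, 7, true), (2, 40, true), (1, 42, true), (4, 35, true), (3, 5, true), (2, 42, true), (1, 7, true), (3, 31, true), (2, 35, true), (4, 3, true), (3, 38, true), (2, 41, true), (1, 43, true), (0, 8, true), (1, 42,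 true), (0, 7, true), (1, 40, true), (0, 42, true), (3, 37, true), (2, 40, true), (1, 42, true), (0, 7, true), (2, 36, true), (1, 40, true), (0, 42, true), (2, 39, true), (1, 42, true), (0, 7, true), (0, 6, true), (1, 35, true), (0, 5, true), (2, 28, true), (1, 38, true), (0, 44, true), (1, 7, true), (1, 36, true), (3, 35, true), (5, 27, true), (4, 37, true), (3, 40, true), (2, 42, true), (1, 7, true), (3, 36, true), (2, 40, true), (1, 42, true), (3, 39, true), (2, 42, true), (1, 7, true), (1, 6, true), (3, 26, true), (2, 35, true), (1, 5, true), (5, 9, true), (4, 29, true), (3, 32, true), (2, 38, true), (1, 44, true), (0, 8, true), (0, 7, true), (0, 35, true), (2, 31, true), (1, 35, true), (0, 5, true), (2, 3, true), (1, 38, true), (0, 44, true), (1, 7, true), (1, 37, true), (2, 36, true), (1, 7, true), (2, 35, true), (4, 26, true), (3, 35, true), (2, 5, true), (1, 42, true), (5, 25, true), (4, 34, true), (3, 37, true), (2, 42, true), (1, 7, true), (2, 36, true), (1, 42, true), (2, 6, true), (2, 35, true), (4, 33, true), (3, 37, true), (2, 40, true), (1, 7, true), (3, 32, true), (2,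 38, true), (1, 41, true), (0, 8, true), (1, 40, true), (0, 7, true), (1, 35, true), (0, 5, true), (2, 31, true), (1, 35, true), (3, 30, true), (2, 4, true), (1, 41, true), (0, 44, true), (1, 7, true), (1, 39, true), (3, 5, true), (2, 42, true), (1, 7, true), (2, 3, true), (1, 43, true), (0, 8, true), (1, 42, true), (0, 7, true), (0, 6, true), (1, 24, true), (0, 41, true), (2, 40, true), (1, 7, true), (1, 39, true), (3, 5, true), (2, 42, true), (1, 7, true), (4, 0, true), (3, 29, true), (2, 32, true), (1, 43, true), (0, 8, true), (3, 31, true), (2, 5, true), (1, 42, true), (0, 7, true), (1, 3, true), (0, 43, true), (2, 42, true), (1, 7, true), (1, 6, true), (2, 28, true), (1, 41, true), (0, 8, true), (1, 39, true), (0, 7, true), (1, 5, true), (0, 42, true), (2, 27, true), (1, 42, true), (0, 7, true), (0, 6, true), (0, 26, true), (2, 25, true), (1, 34, true), (0, 40, true), (1, 39, true), (0, 7, true), (1, 5, true), (0, 42, true), (2, 33, true), (1, 42, true), (0, 7, true), (1, 32, true), (0, 43, true), (4, 31, true), (3, 5, true), (2, 42, true), (1, 7, true), (2, 30, true), (3, 3, true),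 (2, 38, true), (1, 43, true), (0, 8, true), (1, 42, true), (0, 7, true), (1, 37, true), (0, 42, true), (2, 36, true), (1, 42, true), (0, 7, true), (0, 6, true), (0, 35, true), (2, 2, true), (1, 37, true), (0, 40, true), (0, 40, false), (1, 37, false), (2, 2, false), (0, 35, false), (0, 6, false), (0, 7, false), (1, 42, false), (2, 36, false), (0, 42, false), (1, 37, false), (0, 7, false), (1, 42, false), (0, 8, false), (1, 43, false), (2, 38, false), (3, 3, false), (2, 30, false), (1, 7, false), (2, 42, false), (3, 5, false), (4, 31, false), (0, 43, false), (1, 32, false), (0, 7, false), (1, 42, false), (2, 33, false), (0, 42, false), (1, 5, false), (0, 7, false), (1, 39, false), (0, 40, false), (1, 34, false), (2, 25, false), (0, 26, false), (0, 6, false), (0, 7, false), (1, 42, false), (2, 27, false), (0, 42, false), (1, 5, false), (0, 7, false), (1, 39, false), (0, 8, false), (1, 41, false), (2, 28, false), (1, 6, false), (1, 7, false), (2, 42, false), (0, 43, false), (1, 3, false), (0, 7, false), (1, 42, false), (2, 5, false), (3, 31, false), (0, 8, false), (1, 43, false), (2,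 32, false), (3, 29, false), (4, 0, false), (1, 7, false), (2, 42, false), (3, 5, false), (1, 39, false), (1, 7, false), (2, 40, false), (0, 41, false), (1, 24, false), (0, 6, false), (0, 7, false), (1, 42, false), (0, 8, false), (1, 43, false), (2, 3, false), (1, 7, false), (2, 42, false), (3, 5, false), (1, 39, false), (1, 7, false), (0, 44, false), (1, 41, false), (2, 4, false), (3, 30, false), (1, 35, false), (2, 31, false), (0, 5, false), (1, 35, false), (0, 7, false), (1, 40, false), (0, 8, false), (1, 41, false), (2, 38, false), (3, 32, false), (1, 7, false), (2, 40, false), (3, 37, false), (4, 33, false), (2, 35, false), (2, 6, false), (1, 42, false), (2, 36, false), (1, 7, false), (2, 42, false), (3, 37, false), (4, 34, false), (5, 25, false), (1, 42, false), (2, 5, false), (3, 35, false), (4, 26, false), (2, 35, false), (1, 7, false), (2, 36, false), (1, 37, false), (1, 7, false), (0, 44, false), (1, 38, false), (2, 3, false), (0, 5, false), (1, 35, false), (2, 31, false), (0, 35, false), (0, 7, false), (0, 8, false), (1, 44, false), (2, 38, false), (3, 32, false), (4, 29,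 false), (5, 9, false), (1, 5, false), (1, 6, false), (1, 7, false), (2, 42, false), (3, 39, false), (1, 42, false), (2, 40, false), (1, 7, false), (2, 42, false), (0, 43, false), (1, 41, false), (2, 25, false), (0, 7, false), (0, 8, false), (1, 44, false), (2, 3, false), (1, 5, false), (2, 31, false), (3, 26, false), (1, 31, false), (1, 7, false), (2, 5, false), (0, 41, false), (1, 32, false), (0, 6, false), (0, 7, false), (1, 42, false), (2, 34, false), (3, 28, false), (4, 11, false), (0, 42, false), (1, 5, false), (2, 26, false), (0, 7, false), (1, 39, false), (0, 40, false), (1, 27, false), (0, 6, false), (0, 7, false), (0, 8, false), (1, 44, false), (2, 43, false), (3, 28, false), (1, 42, false), (2, 5, false), (1, 7, false), (2, 39, false), (1, 40, false), (1, 7, false), (0, 44, false), (1, 41, false), (2, 3, false), (1, 31, false), (0, 5, false), (0, 7, false), (0, 8, false), (1, 44, false), (2, 41, false), (3, 32, false), (4, 29, false), (5, 1, false), (2, 6, false), (0, 43, false), (1, 4, false), (0, 7, false), (1, 42, false), (2, 5, false), (3, 35, false), (4, 17, false),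 (2, 35, false), (0, 36, false), (0, 7, false), (0, 8, false), (1, 44, false), (2, 38, false), (3, 22, false), (1, 5, false), (2, 35, false), (1, 6, false), (1, 7, false), (2, 42, false), (3, 39, false), (1, 42, false), (2, 40, false), (3, 36, false), (1, 7, false), (2, 42, false), (3, 40, false), (4, 37, false), (5, 23, false), (6, 13, false)])]

/-- The certificate. -/
def twoHSCert : Schur.Tails.Cert where
  p := 2
  q := 4
  n := 9
  rels := [
    ([0, 0], [8, 7, 6, 5, 4, 2]),
    ([1, 1], [8, 7, 6, 5]),
    ([2, 2], [7, 3]),
    ([3, 3], [8, 7, 6, 5]),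
    ([4, 4], [8, 6, 5]),
    ([5, 5], [7]),
    ([6, 6], []),
    ([7, 7], []),
    ([8, 8], []),
    ([0, 1], [8, 5, 4, 3, 0]),
    ([0, 2], [6, 5, 4, 1, 0]),
    ([0, 3], [7, 5, 4, 0]),
    ([0, 4], [8, 7, 3, 2, 1, 0]),
    ([0, 5], [8, 7, 2, 1, 0]),
    ([0, 6], [8, 7, 3, 2, 0]),
    ([0, 7], [8, 6, 4, 3, 0]),
    ([0, 8], [8, 6, 4, 1, 0]),
    ([1, 2], [5, 4, 3, 2, 1]),
    ([1, 3], [3, 1]),
    ([1, 4], [7, 4, 3, 1]),
    ([1, 5], [8, 7, 6, 3, 1]),
    ([1, 6], [7, 6, 3, 1]),
    ([1, 7], [8, 6, 5, 1]),
    ([1, 8], [7, 6, 5, 1]),
    ([2, 3], [8, 7, 6, 5, 3, 2]),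
    ([2, 4], [8, 7, 6, 5, 4, 3, 2]),
    ([2, 5], [5, 3, 2]),
    ([2, 6], [7, 6, 2]),
    ([2, 7], [8, 6, 5, 2]),
    ([2, 8], [6, 5, 3, 2]),
    ([3, 4], [4, 3]),
    ([3, 5], [5, 3]),
    ([3, 6], [8, 5, 3]),
    ([3, 7], [7, 3]),
    ([3, 8], [7, 6, 5, 3]),
    ([4, 5], [5, 4]),
    ([4, 6], [7, 6, 4]),
    ([4, 7], [7, 4]),
    ([4, 8], [8, 7, 4]),
    ([5, 6], [7, 6, 5]),
    ([5, 7], [7, 5]),
    ([5, 8], [8, 7, 5]),
    ([6, 7], [7, 6]),
    ([6, 8], [8, 7, 6]),
    ([7, 8], [8, 7])]
  overlaps := twoHSOverlaps
  fus := [twoHSFus0, twoHSFus1, twoHSFus2, twoHSFus3, twoHSFus4]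
  mu := [[0, 0, 0, 0, 1, 0, 0, 0, 0, 0, 1, 0, 0, 0, 0, 0, 0, 0, 0, 0, 0, 0, 0, 0, 0, 0, 0, 0, 0, 0, 0, 0, 0, 0, 0, 0, 0, 0, 0, 0, 0, 0, 0, 0, 0, 1], [3, 2, 1, 0, 2, 0, 0, 0, 0, 3, 1, 0, 0, 0, 0, 0, 0, 0, 0, 0, 0, 0, 0, 0, 0, 0, 0, 0, 0, 0, 0, 0, 0, 0, 0, 0, 0, 0, 0, 0, 0, 0, 0, 0, 0, 2, 3], [2, 3, 0, 0, 3, 0, 0, 0, 0, 0, 3, 0, 0, 0, 0, 0, 0, 0, 0, 0, 0, 0, 0, 0, 0, 0, 0, 0, 0, 0, 0, 0, 0, 0, 0, 0, 0, 0, 0, 0, 0, 0, 0, 0, 0, 1, 3, 1], [0, 1, 3, 0, 1, 0, 0, 0, 0, 2, 2, 0, 0, 0, 0, 0, 0, 0, 0, 0, 0, 0, 0, 0, 0, 0, 0, 0, 0, 0, 0, 0, 0, 0, 0, 0, 0, 0, 0, 0, 0, 0, 0, 0, 0, 0, 2], [1, 0, 2, 0, 3, 0, 0, 0, 0, 2, 1, 0, 0, 0, 0, 0, 0, 0, 0, 0, 0, 0, 0, 0, 0, 0, 0, 0, 0, 0, 0, 0, 0, 0, 0, 0, 0, 0, 0, 0, 0, 0, 0, 0, 0, 1, 3, 3], [2, 2, 1, 0, 1, 0, 0, 0, 0, 3, 2, 0, 0, 0, 0, 0, 0, 0, 0, 0, 0, 0, 0, 0, 0, 0, 0, 0, 0, 0, 0, 0, 0, 0, 0, 0, 0, 0, 0, 0, 0, 0, 0, 0, 0, 1, 1, 1], [0, 3, 0, 0, 1, 0, 0, 0, 0, 0, 0, 0, 0, 0, 0, 0, 0, 0, 0, 0, 0, 0, 0, 0, 0, 0, 0, 0, 0, 0, 0, 0, 0, 0, 0, 0, 0, 0, 0, 0, 0, 0, 0, 0, 0, 1, 0, 1], [0, 1, 2, 0, 1, 0, 0, 0, 0, 2, 0, 0, 0, 0, 0, 0, 0, 0, 0, 0, 0, 0, 0, 0, 0, 0,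 0, 0, 0, 0, 0, 0, 0, 0, 0, 0, 0, 0, 0, 0, 0, 0, 0, 0, 0, 2, 0, 2], [0, 3, 3, 0, 1, 0, 0, 0, 0, 1, 0, 0, 0, 0, 0, 0, 0, 0, 0, 0, 0, 0, 0, 0, 0, 0, 0, 0, 0, 0, 0, 0, 0, 0, 0, 0, 0, 0, 0, 0, 0, 0, 0, 0, 0, 0, 1]]
  combos := [
    ([], 0),
    ([], 0),
    ([], 0),
    ([(0, 2), (1, 2), (2, 2), (3, 2), (5, 3), (6, 2), (7, 2), (8, 1), (9, 2), (11, 3), (12, 1), (14, 2), (16, 3), (17, 1), (18, 2), (19, 3), (20, 2), (21, 1), (22, 1), (24, 3), (26, 3), (27, 1), (28, 2), (29, 2), (31, 1), (32, 1), (34, 2), (35, 2), (37, 1), (39, 2), (40, 1), (41, 2), (45, 2), (46, 1)], 0),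
    ([], 0),
    ([(1, 2), (2, 1), (3, 2), (6, 3), (7, 2), (8, 1), (9, 3), (12, 1), (13, 1), (14, 1), (16, 2), (17, 1), (18, 3), (19, 1), (21, 2), (22, 1), (23, 1), (24, 2), (25, 3), (26, 2), (27, 1), (28, 3), (29, 2), (31, 3), (32, 1), (33, 2), (35, 1), (37, 1), (38, 2), (39, 2), (40, 3), (41, 2), (45, 2), (46, 1)], 2),
    ([(0, 1), (2, 2), (3, 3), (4, 2), (5, 3), (7, 1), (8, 3), (9, 1), (10, 2), (11, 3), (12, 1), (13, 3), (14, 3), (15, 1), (17, 2), (18, 1), (19, 2), (21, 1), (23, 2), (24, 1), (25, 1), (26, 1), (27, 3), (29, 3), (30, 1), (32, 2), (33, 1), (34, 2), (36, 3), (37, 2), (38, 3), (39, 1), (40, 3), (41, 2), (42, 1), (43, 3), (45, 2), (46, 1)], 1),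
    ([(1, 2), (2, 1), (4, 1), (5, 3), (6, 3), (7, 1), (9, 1), (11, 1), (12, 1), (13, 3), (15, 2), (16, 3), (17, 3), (18, 2), (19, 3), (20, 2), (21, 1), (22, 3), (24, 1), (25, 1), (26, 1), (27, 2), (28, 3), (29, 1), (32, 1), (33, 2), (35, 1), (38, 2), (39, 2), (40, 3), (41, 2), (45, 2), (46, 1)], 0),
    ([(0, 2), (1, 3), (3, 3), (4, 1), (6, 3), (9, 2), (11, 1), (14, 2), (15, 3), (16, 2), (17, 1), (19, 3), (20, 3), (21, 1), (22, 1), (23, 2), (24, 1), (25, 2), (27, 3), (31, 1), (32, 1), (33, 2), (34, 2), (35, 2), (37, 3), (38, 2), (39, 2), (40, 3), (42, 2), (46, 1)], 2),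
    ([], 0),
    ([], 0),
    ([(0, 2), (2, 2), (4, 3), (5, 3), (7, 1), (8, 1), (9, 2), (10, 2), (11, 2), (12, 1), (13, 1), (14, 2), (17, 2), (18, 1), (19, 3), (20, 3), (21, 3), (22, 2), (27, 2), (28, 3), (29, 1), (30, 1), (32, 2), (33, 3), (34, 2), (37, 1), (38, 1), (39, 1), (40, 3), (42, 3), (43, 3), (46, 1)], 3),
    ([(2, 2), (4, 3), (5, 3), (6, 3), (7, 1), (8, 2), (10, 1), (11, 2), (13, 3), (16, 3), (17, 3), (19, 3), (20, 2), (21, 3), (24, 3), (25, 1), (26, 3), (28, 2), (29, 2), (31, 1), (32, 1), (35, 1), (37, 1), (40, 3)], 0),
    ([(0, 3), (1, 3), (6, 3), (7, 1), (8, 1), (11, 3), (12, 1), (14, 1), (15, 3), (17, 3), (18, 3), (22, 2), (23, 2), (24, 2), (25, 1), (27, 2), (28, 1), (29, 2), (30, 1), (31, 1), (32, 3), (33, 3), (34, 2), (37, 1), (38, 3), (39, 3), (41, 2), (42, 3), (43, 3), (45, 2), (46, 1)], 3),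
    ([(0, 1), (1, 2), (2, 1), (3, 1), (6, 2), (8, 1), (9, 2), (10, 3), (11, 3), (12, 1), (13, 3), (14, 1), (16, 3), (17, 3), (18, 1), (19, 1), (20, 3), (21, 3), (22, 3), (23, 3), (24, 3), (25, 1), (26, 3), (27, 3), (28, 2), (29, 1), (30, 3), (31, 2), (32, 1), (33, 1), (34, 3), (35, 3), (36, 1), (37, 1), (38, 1), (39, 1), (40, 1), (41, 2), (42, 3), (43, 1), (45, 2)], 3),
    ([(1, 1), (3, 1), (4, 2), (6, 2), (7, 3), (8, 1), (9, 2), (11, 1), (12, 3), (13, 3), (14, 2), (16, 1), (17, 2), (18, 3), (19, 3), (20, 1), (21, 3), (22, 2), (23, 3), (24, 3), (25, 3), (26, 3), (27, 1), (28, 2), (29, 1), (31, 3), (32, 3), (33, 2), (34, 2), (37, 1), (38, 1), (42, 2)], 2),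
    ([(0, 3), (1, 1), (3, 2), (4, 3), (5, 2), (6, 1), (7, 2), (8, 3), (9, 2), (10, 3), (11, 2), (12, 3), (13, 2), (15, 2), (17, 3), (18, 2), (19, 3), (21, 3), (22, 3), (23, 2), (24, 2), (25, 2), (27, 2), (28, 2), (29, 2), (30, 3), (31, 2), (33, 3), (34, 1), (35, 2), (37, 1), (38, 2), (39, 3), (40, 2), (42, 3), (43, 1)], 3),
    ([(0, 3), (1, 2), (3, 3), (4, 2), (6, 3), (7, 1), (8, 3), (9, 3), (12, 2), (13, 2), (14, 2), (15, 2), (16, 2), (17, 3), (18, 3), (19, 2), (20, 2), (22, 1), (23, 3), (24, 3), (25, 1), (26, 3), (27, 1), (28, 3), (30, 3), (31, 1), (32, 1), (33, 3), (34, 2), (35, 3), (36, 3), (37, 1), (38, 2), (39, 3), (40, 2), (41, 2), (43, 1), (44, 1), (45, 3)], 3),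
    ([(0, 2), (1, 2), (2, 2), (3, 3), (4, 3), (5, 3), (7, 2), (8, 1), (9, 1), (10, 1), (11, 3), (13, 3), (14, 3), (15, 3), (16, 1), (17, 1), (18, 3), (19, 2), (21, 1), (22, 3), (24, 3), (25, 3), (26, 2), (27, 2), (28, 1), (29, 3), (31, 3), (32, 1), (34, 2), (35, 2), (38, 2), (39, 2), (40, 2), (41, 2), (42, 2), (45, 2)], 2),
    ([(0, 1), (2, 3), (3, 2), (4, 2), (5, 2), (6, 2), (7, 3), (8, 1), (9, 3), (10, 3), (11, 3), (12, 2), (13, 2), (14, 2), (17, 1), (18, 2), (21, 2), (22, 1), (24, 1), (25, 3), (26, 1), (27, 2), (28, 1), (31, 3), (32, 3), (35, 2), (36, 1), (37, 3), (38, 1), (39, 2), (40, 3), (41, 2), (42, 3), (44, 1), (45, 3), (46, 1)], 0),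
    ([(0, 3), (1, 1), (2, 2), (3, 2), (4, 3), (5, 1), (7, 2), (9, 2), (10, 2), (11, 1), (12, 2), (13, 1), (14, 2), (16, 1), (17, 3), (18, 3), (19, 1), (20, 3), (21, 3), (22, 1), (23, 3), (25, 1), (26, 1), (28, 1), (29, 1), (31, 3), (33, 2), (35, 2), (36, 3), (37, 1), (38, 3), (41, 2), (42, 3), (44, 1), (45, 3)], 0),
    ([(0, 3), (1, 1), (2, 3), (3, 1), (5, 2), (8, 3), (9, 1), (10, 1), (11, 2), (12, 1), (15, 1), (16, 1), (17, 3), (18, 2), (19, 2), (20, 3), (21, 3), (22, 1), (23, 3), (24, 1), (27, 1), (29, 1), (31, 2), (35, 3), (36, 3), (37, 1), (38, 3), (39, 2), (41, 2), (42, 2), (45, 2)], 2),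
    ([(2, 1), (3, 1), (5, 2), (6, 3), (7, 2), (8, 2), (9, 3), (10, 3), (11, 3), (12, 1), (14, 1), (15, 3), (17, 2), (18, 1), (19, 2), (21, 3), (22, 1), (24, 1), (25, 1), (26, 3), (28, 1), (29, 1), (31, 2), (32, 3), (34, 2), (35, 1), (36, 2), (37, 1)], 2),
    ([(1, 3), (2, 1), (3, 1), (5, 3), (7, 1), (8, 3), (9, 2), (10, 3), (11, 3), (12, 1), (13, 2), (14, 2), (15, 3), (16, 3), (17, 3), (18, 2), (19, 2), (20, 2), (23, 3), (24, 1), (25, 3), (26, 1), (27, 2), (29, 1), (31, 1), (32, 2), (33, 2), (34, 2), (35, 3), (36, 2), (38, 2), (39, 2), (42, 1), (44, 1), (45, 1)], 2),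
    ([(0, 2), (1, 3), (2, 3), (3, 1), (4, 1), (5, 1), (6, 1), (8, 1), (10, 1), (11, 2), (13, 2), (15, 1), (16, 2), (17, 2), (19, 1), (20, 1), (21, 3), (24, 2), (25, 3), (27, 1), (28, 1), (29, 1), (31, 1), (32, 2), (33, 2), (35, 2), (36, 2), (37, 3), (38, 2), (39, 2), (40, 3), (42, 2), (46, 1)], 2),
    ([(1, 3), (2, 2), (3, 2), (4, 3), (5, 2), (6, 3), (8, 3), (11, 1), (12, 2), (13, 3), (15, 3), (16, 2), (17, 1), (18, 1), (19, 1), (20, 3), (22, 1), (24, 1), (25, 3), (26, 3), (27, 3), (28, 1), (29, 1), (30, 1), (31, 2), (33, 2), (36, 2), (37, 2), (38, 2), (39, 1), (40, 2), (41, 2), (42, 3), (43, 3), (45, 2), (46, 1)], 3),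
    ([(1, 2), (2, 1), (3, 2), (4, 3), (5, 1), (7, 1), (8, 2), (10, 1), (11, 3), (15, 3), (17, 1), (18, 2), (19, 1), (20, 3), (21, 3), (22, 1), (23, 2), (26, 1), (28, 1), (29, 3), (30, 3), (31, 2), (33, 2), (35, 3), (36, 2), (37, 3), (38, 2), (39, 1), (40, 3), (42, 1), (43, 1)], 1),
    ([(0, 3), (1, 1), (3, 3), (4, 3), (6, 1), (8, 2), (9, 1), (10, 1), (12, 3), (13, 3), (14, 2), (15, 3), (16, 1), (17, 3), (18, 1), (20, 3), (22, 3), (23, 2), (24, 2), (26, 2), (27, 3), (29, 2), (31, 3), (32, 3), (33, 3), (35, 3), (36, 3), (37, 2), (38, 3), (39, 2), (40, 1), (42, 2)], 2),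
    ([(1, 2), (6, 2), (8, 3), (9, 2), (10, 1), (11, 2), (12, 3), (16, 2), (17, 2), (18, 2), (19, 1), (20, 3), (21, 2), (22, 1), (26, 2), (27, 2), (31, 3), (32, 2), (35, 1), (37, 3), (38, 2), (40, 3), (41, 2), (45, 2), (46, 1)], 0),
    ([(0, 1), (2, 2), (3, 2), (4, 1), (5, 3), (6, 3), (7, 2), (8, 3), (9, 2), (10, 1), (14, 1), (15, 1), (16, 1), (17, 1), (18, 3), (19, 2), (20, 1), (21, 2), (22, 2), (24, 3), (25, 3), (26, 1), (27, 2), (29, 2), (30, 1), (31, 3), (32, 3), (33, 1), (34, 2), (35, 2), (36, 1), (37, 1), (38, 3), (39, 1), (40, 1), (42, 3), (43, 3), (46, 1)], 1),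
    ([(0, 2), (1, 1), (2, 2), (3, 2), (4, 2), (5, 1), (6, 3), (7, 1), (9, 3), (11, 2), (12, 3), (13, 1), (14, 3), (15, 2), (17, 3), (18, 3), (19, 3), (20, 3), (23, 2), (24, 2), (25, 1), (26, 2), (27, 1), (28, 1), (29, 3), (31, 1), (32, 2), (34, 2), (35, 3)], 0),
    ([(0, 2), (1, 3), (5, 1), (8, 3), (9, 2), (10, 2), (11, 2), (12, 3), (13, 3), (14, 2), (16, 2), (17, 2), (18, 2), (19, 1), (20, 1), (21, 2), (22, 2), (23, 1), (24, 2), (27, 2), (29, 3), (31, 3), (32, 1), (34, 2), (35, 1)], 0),
    ([(1, 2), (3, 3), (4, 2), (5, 1), (6, 3), (7, 1), (8, 3), (11, 2), (12, 2), (13, 1), (14, 2), (15, 3), (16, 2), (17, 2), (18, 1), (19, 2), (20, 1), (21, 3), (22, 2), (23, 3), (24, 2), (25, 3), (27, 3), (31, 2), (32, 3), (34, 2), (35, 3), (36, 2), (37, 1), (38, 2), (39, 2), (40, 1), (41, 2), (42, 2), (45, 2), (46, 1)], 0),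
    ([(1, 2), (3, 2), (4, 3), (5, 1), (6, 1), (7, 3), (8, 2), (12, 1), (13, 1), (14, 1), (15, 2), (18, 1), (20, 2), (21, 3), (22, 2), (23, 2), (26, 1), (27, 3), (28, 2), (29, 3), (31, 2), (32, 1)], 0),
    ([(1, 1), (2, 3), (3, 2), (5, 3), (6, 2), (8, 2), (9, 2), (10, 1), (11, 2), (12, 1), (13, 1), (15, 2), (18, 2), (19, 3), (22, 2), (23, 3), (24, 1), (25, 1), (26, 3), (27, 1), (28, 2), (29, 1), (31, 1), (32, 1), (33, 2), (39, 2), (41, 2), (42, 2), (45, 2)], 0),
    ([(0, 2), (1, 1), (3, 3), (4, 2), (6, 1), (7, 1), (8, 3), (9, 3), (11, 3), (12, 3), (14, 2), (15, 3), (16, 2), (17, 1), (20, 1), (21, 2), (23, 3), (25, 3), (26, 2), (29, 2), (32, 2), (34, 2), (37, 2), (41, 2), (42, 2), (45, 2)], 0),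
    ([(0, 1), (1, 1), (2, 3), (3, 3), (4, 1), (6, 2), (10, 1), (11, 3), (12, 1), (14, 2), (15, 3), (16, 2), (18, 2), (19, 1), (21, 3), (22, 3), (24, 2), (25, 2), (26, 1), (28, 2), (29, 3), (30, 1), (31, 1), (32, 2), (33, 1), (34, 2), (35, 1), (36, 3), (37, 2), (38, 3), (39, 1), (40, 3), (41, 2), (42, 3), (43, 3), (45, 2), (46, 1)], 3),
    ([(2, 3), (3, 3), (4, 3), (7, 3), (8, 1), (9, 1), (10, 2), (11, 1), (12, 1), (14, 3), (15, 3), (16, 2), (17, 2), (18, 3), (19, 1), (20, 3), (21, 1), (22, 3), (23, 2), (24, 1), (25, 3), (26, 2), (27, 3), (28, 2), (29, 3)], 0),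
    ([(0, 1), (1, 1), (2, 2), (3, 2), (4, 3), (5, 2), (6, 1), (7, 2), (8, 3), (9, 3), (11, 2), (12, 1), (13, 2), (14, 1), (17, 1), (18, 3), (19, 3), (20, 2), (22, 2), (23, 2), (24, 2), (25, 1), (26, 2), (27, 1), (28, 1), (29, 1), (30, 3), (31, 3), (33, 1), (35, 2), (36, 1), (37, 2), (38, 1), (39, 3), (40, 2), (41, 2), (42, 3), (43, 1), (45, 2)], 3),
    ([(0, 1), (1, 1), (2, 3), (3, 3), (4, 1), (5, 2), (6, 3), (7, 1), (8, 2), (10, 2), (11, 2), (12, 3), (13, 3), (15, 3), (17, 1), (18, 1), (19, 1), (20, 1), (21, 1), (22, 1), (23, 1), (25, 1), (26, 2), (27, 1), (28, 1), (29, 2), (30, 1), (31, 2), (32, 1), (33, 1), (34, 2), (35, 1), (36, 3), (37, 2), (38, 3), (39, 1), (40, 3), (41, 2), (42, 3), (43, 3), (45, 2), (46, 1)], 3),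
    ([(0, 2), (1, 3), (2, 1), (3, 3), (5, 1), (6, 2), (7, 1), (9, 2), (10, 2), (11, 1), (13, 2), (14, 2), (15, 3), (16, 1), (17, 3), (18, 2), (19, 2), (20, 3), (23, 1), (24, 1), (26, 3), (27, 3), (28, 3), (29, 2), (31, 2), (34, 2), (37, 2), (41, 2), (42, 2), (45, 2)], 0),
    ([(0, 3), (1, 1), (2, 1), (3, 2), (5, 2), (6, 3), (8, 2), (9, 3), (10, 2), (11, 3), (13, 3), (16, 3), (17, 2), (18, 2), (20, 2), (21, 1), (22, 1), (24, 2), (25, 3), (28, 1), (30, 3), (31, 2), (32, 1), (33, 1), (34, 2), (35, 2), (36, 1), (38, 1), (39, 3), (40, 2), (42, 1), (43, 1)], 3),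
    ([(1, 2), (2, 3), (3, 2), (4, 1), (5, 1), (9, 1), (11, 2), (12, 3), (14, 2), (16, 1), (17, 2), (18, 3), (19, 1), (20, 2), (21, 3), (24, 2), (26, 1), (28, 3), (29, 2), (34, 2), (35, 1), (36, 2), (37, 2), (39, 2), (40, 1), (42, 2), (46, 1)], 0),
    ([(0, 3), (1, 1), (2, 1), (3, 3), (4, 1), (5, 2), (6, 3), (7, 1), (9, 2), (10, 2), (11, 2), (12, 3), (14, 3), (15, 3), (16, 1), (17, 3), (18, 3), (19, 3), (20, 1), (21, 3), (22, 1), (24, 1), (25, 2), (26, 3), (27, 3), (28, 3), (30, 1), (31, 2), (32, 1), (33, 1), (35, 1), (36, 3), (38, 3), (39, 1), (40, 3), (42, 1), (43, 3), (46, 1)], 3),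
    ([(1, 1), (2, 3), (3, 2), (4, 3), (5, 3), (6, 3), (9, 2), (10, 3), (14, 3), (16, 3), (17, 2), (18, 1), (19, 3), (20, 3), (21, 3), (23, 3), (24, 1), (25, 2), (28, 1), (29, 3), (32, 1), (34, 2), (35, 1), (36, 2), (37, 2), (39, 2), (40, 1), (42, 2), (46, 1)], 0)]
  tau := [0, 0, 0, 0, 0, 0, 0, 0, 0, 0, 0, 0, 0, 0, 0, 0, 0, 0, 0, 0, 0, 0, 0, 0, 0, 0, 0, 0, 0, 0, 0, 0, 3, 0, 3, 0, 0, 0, 0, 0, 0, 0, 0, 3, 0, 0, 0, 0, 2, 0, 2, 2]
  tauCombo := [(1, 1), (2, 1), (3, 3), (4, 2), (5, 1), (10, 1), (13, 3), (14, 1), (15, 1), (19, 3), (20, 1), (21, 3), (23, 3), (25, 3), (26, 1), (27, 2), (28, 2), (31, 1), (32, 2), (34, 2), (35, 1), (36, 2), (37, 2), (38, 2)]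

/-- The codes of the generators. -/
def twoHSGens : List ℕ := [
  0x3863272c482526593c43362141355244511b1e00320d053e5a154733604b0c101429505e495c3b120b11191a575b02302f084d5f1640075428561f611d5d09235545201803374f0e22622a582d13173a344c0f3f46394e240401312b0a4a2e3d421c0653,
  0x3d0439062e0a4e0f463a4c4201132b34174a1c313f5d15125a0c3356023e1d195c582a50281463433811323b1b59614954351e270816604f4551292c2f262337052521201f405541001a470357095e5b0e364b2d3c480d070b4d5f305210226218445324,
  0x1a04022c31010d363a3c3e18332d2825342e1e10162617140f2a052b1b5a4f2459035055514b0b4c3b432238084623474419453935484a410c0e1f5f495d0053150a20292160525657635e42324030111d5b5c3f12064e093d2f13541c073762584d6127,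
  0x6304395f10155d460f364b4227524134080e5528504e0a5a12483307253c51055b58453f31433d143859323b2411614954352c01172d09402a1d211e532644001902291f204f1c2b371a220330604d5c4a3a4c163e0c0d560b5e0657132e476218232f1b,
  0x633b0753080e26145b114b295535054f456144371b0d56361215284d165c255f43214733543e3d4604591362314c48501e4a34062d23194930015824414e602c2a1c421803002f173f1a1d2009270c3c5e3a5a570f395d320b5222510a0210381f2b2e40,
  0x3d3b4023194f265c434c59211c2417562a002f61350d28114b340e490646012d3e2930154d0f633c043a3f62075a2c520c310a5f1657275e440542392b4e2e135545580318324725480b411f60025014541236225b1b5d371a1e531d330809382051104a,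
  0x3d385030173f264b5a5b46292b1b19481d002261390d2c0f5c3413540959022e362123155e11633a043c4f620c43284a071e0a601044254d570858351c5d2d0e4151420318325327560b551f5f01401249143e2f4c244e371a31472a3305063b20451652,
  0x6304155541354e5c3e11595825136024054a16402c5d39364b521b0e084610270f425f50285b3d3c383a4d3b334c5e00370a1e19021c2b4f2d09293f440d5754170121201f31062e491a30182351611456125a45434826070b322a470c1d5362032f2234,
  0x63623216105e4e3a360f144247135154440755312c5d4d3e3c0c490e571241531158451e284c3d4b385c393b005b3533346150222306094f2a2b213f052608242f3029201f401c1d1b1a011802600a595646435f5a480d4a0b152d25522e270403171937]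

/-- The codes of the conjugating elements. -/
def twoHSHs : List ℕ := [
  0x305a592f3c535c261a380d050b1225023b1911575b2c2a6200485e49322e4e2d3d584a312b47504b361d41235528401837151027140c3329606320394d460113565d0e1635062404343a4c451e072154030f171f525f226143094f1c1b51443f0a08423e,
  0x475c243f512161573713500f39411208050c63264c541f002f2e172c251d4e3360435a1a3a30235e204d32293b534922441536023452090d3d59010b483e10461935271b0a4b115d145b2b3c1e5f034028550607562a184a58424f45161c3162040e2d38,
  0x4814421b2d443129032722460e452b201e490a32101740072c4b3643352a0409334e3d1d1526470d18054a21132f3f30254c0b23083b1a380f3a413e3c0c193937164d1c341224062e0228111f5b0051615650595e6253634f5f54586055525a5d575c01,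
  0x1c3d62544d5d42320028562e46431e2d3a36522322584e613712065c11403f5b0709132f30242a39451b41552b3551201f04193e5a153302500c1a0108262503144b0b6010172c4818294738530a164f594a31340e4c3b0f635f5e443c4957210d27051d,
  0x52485a17465603270d252d602e5f4a1504590a0b4329502226001d5b39303f3d1b612b4b3818531e282157020c0e4f2308584d3e332040352f455c411c3c341f2a125d062409054911011a4c3b4255075e102c13326236513154140f63473a444e163719]

/-- The order of the products by code. -/
def twoHSIdx : List ℕ := [458, 452, 327, 329, 488, 486, 357, 363, 362, 356, 453, 459, 328, 326, 487, 489, 358, 360, 454, 456, 331, 325, 491, 485, 330, 324, 490, 484, 455, 457, 359, 361, 501, 507, 376, 374, 473, 471, 347, 341, 470, 472, 340, 346, 506, 500, 375, 377, 342, 344, 475, 469, 373, 379, 503, 505, 378, 372, 504, 502, 468, 474, 345, 343, 245, 251, 217, 215, 119, 121, 84, 90, 250, 244, 216, 214, 120, 118, 85, 91, 235, 229, 74, 68, 201, 199, 198, 200, 234, 228, 105, 103, 102, 104, 75, 69, 197, 203, 107, 101, 232, 230, 231, 233, 196, 202, 71, 73, 72, 70, 106, 100, 247, 249, 246, 248, 219, 213, 218, 212, 88, 86, 89, 87, 122, 116, 123,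 117, 111, 99, 64, 76, 225, 237, 207, 195, 110, 98, 77, 65, 224, 236, 194, 206, 94, 82, 243, 255, 124, 112, 113, 125, 95, 83, 220, 208, 209, 221, 242, 254, 127, 115, 223, 211, 80, 92, 93, 81, 126, 114, 253, 241, 240, 252, 222, 210, 96, 108, 97, 109, 67, 79, 66, 78, 204, 192, 205, 193, 227, 239, 226, 238, 284, 272, 273, 285, 423, 425, 318, 306, 319, 307, 388, 394, 395, 389, 422, 424, 392, 390, 287, 275, 274, 286, 317, 305, 304, 316, 391, 393, 421, 427, 426, 420, 271, 259, 301, 289, 270, 258, 300, 288, 404, 410, 405, 411, 439, 441, 438, 440, 302, 290, 257, 269, 303, 291, 256, 268, 408, 406, 409, 407, 437, 443, 436, 442, 414, 402, 403, 415, 293, 299, 445, 433, 444, 432, 265, 263, 262, 264, 292, 298, 266, 260, 400, 412, 413, 401, 447, 435, 434, 446, 261, 267, 296, 294, 295, 297, 431, 419, 397, 385, 430, 418, 396, 384, 309, 315, 308, 314, 278, 280, 279, 281, 387, 399, 428, 416, 386, 398, 429, 417, 310, 312, 311, 313, 283, 277, 282, 276, 175, 163, 174, 162, 59, 53, 58, 52, 22, 24, 23, 25, 129, 141, 128, 140, 157, 145, 178, 190, 5, 11, 39, 41, 40, 38, 191, 179, 10, 4, 144, 156, 158, 146, 188,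 176, 36, 42, 9, 7, 6, 8, 147, 159, 43, 37, 177, 189, 27, 21, 172, 160, 20, 26, 57, 55, 131, 143, 54, 56, 142, 130, 161, 173, 370, 382, 509, 497, 336, 348, 479, 467, 466, 478, 383, 371, 496, 508, 349, 337, 465, 477, 369, 381, 510, 498, 350, 338, 499, 511, 339, 351, 380, 368, 476, 464, 367, 355, 480, 492, 332, 320, 462, 450, 333, 321, 463, 451, 354, 366, 493, 481, 448, 460, 335, 323, 494, 482, 364, 352, 483, 495, 353, 365, 334, 322, 449, 461, 15, 3, 14, 2, 148, 154, 149, 155, 183, 185, 182, 184, 45, 33, 44, 32, 18, 30, 48, 60, 135, 137, 170, 164, 165, 171, 61, 49, 136, 134, 31, 19, 28, 16, 51, 63, 166, 168, 132, 138, 139, 133, 17, 29, 169, 167, 62, 50, 187, 181, 13, 1, 186, 180, 151, 153, 34, 46, 152, 150, 47, 35, 12, 0]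

/-- A program from the two generators. -/
def twoHSSlp : List (ℕ × Bool × ℕ × ℕ) := [
  (0x636261605f5e5d5c5b5a595857565554535251504f4e4d4c4b4a494847464544434241403f3e3d3c3b3a393837363534333231302f2e2d2c2b2a292827262524232221201f1e1d1c1b1a191817161514131211100f0e0d0c0b0a09080706050403020100, true, 0, 0),
  (0x2f2940184845354d2d00563e1d3360191e20585b534a0107444726313f172c032105130d303a3b32431f4e1c110a160b3c245a462839275755631a3851542e5c081b120441023415595236105f0c4c4f063d232b61142237422a0e09494b625e505d0f25, false, 0, 1),
  (0xa542f0231333a144f3b070d5b22062d293d5e175a161e5124122521201c5758322e130359084363455d4c3560420c04274d5f40533628155c47194639610e0b1d0048183e5223624a5526502a10011f094411344e3f1b38373c2c2b491a050f304b4156, false, 3, 0),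
  (0x281a0d10312c16012725333a343c183602043e2d1e470f49033f545a305f575012620622461f432421414a15232a0c42325c0017384e511d602f521c5819394d09593d5e135d0b4c56200a2b483707534b3b0855404f1b110563140e264429455b35612e, false, 4, 1),
  (0x2a19285d5a3c1f4f534349222d1b4b271a3b455f000c02585c3d2e1204151d3e243906505609212f2c3507161805375e5101480d1e0a384c4d3f36174e401442342531103a2008294760545b632b0f410e03230b4a30591c113257552652626146441333, false, 5, 0),
  (0x5402a20121b0930412158505f590e531903611548371a4e013133243b164c452f14063e47342c3f3c440f1f4b112b10384f632800541e29423d270d0a4a575e2d435a5d226023620c4d2e46325b0235555c1808070425171c511d0b2636391356523a49, false, 6, 0),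
  (0x114a056024593404352c4e3e15255541405c1316632b190a4f5a492f031f29613f5706450c2d3c3d1b5202090e1c5b5d1e30322a482e00625e31532854071d105f211220504d18393742335651461a440b014b230f3b430d17384c082627143a47362258, false, 7, 0),
  (0x273e46244c2b1a1e4959342338202e605d504119313a26453b4a63473229565a39552528443c4f2f22376218515b1c3f5e21160d0f0a5f0e054d1f615354300b0c5c13065210025803110812174e48362c2d422a35434b143d041d3301401b15090757, false, 8, 1),
  (0xa0134172404314e3f4a4c2b423d130f461c062e3a051b3325352719152129083b0220381f483c456307585f10125b515a0e0c414b2a260b183e5232564d615e36285d50552230375747001d5c14590d09494403161e432d404f1a54112c602f23625339, false, 9, 1),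
  (0x262c2b14241a05595a270431034f502a1751550f1b3e2f11381e013a230c291d3537133d320d3c251953570b305c5b123b18282e2d163336103422210852560e091f1c0620075e5839150a545d404c4b624a4847413f434460454e6100494663425f4d02, false, 10, 1),
  (0x5c5226073a4f0d3f4b3c113d0f43625a2c4a630c285b1708181c0235510b36552556131d390919341a5f4c055060400633595d2b1b0a2d580e1e2a2e16414e1203272414311548463e10014245542f536138305e57231f21443b29470022374d32492004, false, 11, 0),
  (0x3f4a41005f281f39183430195725523c581c5c212e4b454742464940634460624e4361484c290106103a08370c071d2233110d0e3e3b2d3d23151e0a54135b38321612535d2f350b095e2056365a1b2c26052b4f0f033124551a2a51042750175902144d, false, 12, 12),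
  (0x4c46614d5f0a5d0856220e20575b1c06190b39123b426063434449483f62004a4b4e4140471e14274f3a510c24043516332b310329102d01321b2f1a3c261837115a05581f3e1d552a2853250734093d1350232e0f590d38525e155c1754213630022c45, false, 13, 13),
  (0xb0f361a430d23473a3b274446220814264b01381716622e5c5f593c125d1c042a0941514e575e4a56064d3e130c18602f0e0a6331494f0534215b6119394520503d481e402b37423524003f330353021032551115525a30282d2c1d0754251f1b29584c, false, 0, 0),
  (0x4f544403432c16532f590d23112d1e491a60401462211f0751520f171b0a1c3f5f42082261025e5c3c5835053733180c2a343d3830152e5013362b5d045b190e104e4b014106204d4c120b1d48282731293b5724633a5a55254a474500322656463e3909, false, 15, 1),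
  (0x335b4f06172d023a315e0722145a292f543b560a3d181a04344b095f600550405c19083f4c103c362c3e27161e2528012e534844620b304d0e5249381563470c115943032312572621130f464a1d1f5845513720351b4e5d552a1c24002b42396132410d, false, 16, 0),
  (0x302b221d171c181f2e092d02202a030b0601232f1a5239003f1b5b3d614850464b26295a38583c345f41214d574a28255c0e590a5d3504111e4f120540491553454c3b56083e0c270d60332443550762325e101344314e3742363a470f51542c14166319, false, 17, 1),
  (0x4510255173a52075c5b1c18133656351d25080b394f2c0f5a312b1a145950241b27032a05623c3f3d630d110c43284a4b1e4c2f3744004557223e484612400e3238012329415321196130473b422d5d160958600a2e4e1054341f15335e065f204d4926, false, 18, 1),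
  (0x5e1842171f4f2d4b2b3a5260342344554a29352c225f332a2e5139204c504731215636485d3c5a1a491945533b28431b57380b100a0f320c024159243e461e1605250803630e0d2614041501541c374d5b62612f5c4e58063f074030091d3d13111227, false, 19, 1),
  (0xf0952541707221c1b511f4f613f080a424303445f023d30365c5e2c133850152e0d233459373c2a391226320e01283b310c0535582f33165318634c474124574d484a2956491e192720004025063a10112b5d140b4b4e621d5a2d46045b551a60453e21, false, 20, 1),
  (0x1410f492c3f374b103c3034444e111b092b1a38052842470c4a212e433216032a242315274d391807453a22081d0629331c25525f005819575c0a352f0b2d3b615117544f205d5502535e605a403d1246360e1e2613484c6231501404630d3e595b561f, false, 21, 0),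
  (0x1d0b01202e4e4d13123947153848461041363e322506092f1c171f2a2b22191a182d23030261075c3f5b3d3711624054584b5a0f055e5f553b4a1b5200265029443c2c4934530e0d2857215931604245140c085d3a4351354c33161e040a245627634f30, false, 22, 0),
  (0x5f0a15602e160642581f4e4d5d33495e20543410094a560403430b25275a1959170d46485245071c2a4f28550e314062183b3c32353a2f44110153221a1b004b1402363e235b293d302b1d1e2c4c4705633961570f125108245c1350210c413f3837262d, false, 23, 1),
  (0x311b5f5b2533451205070448105163580a393f5a3c40201a3b362d17545544341c00465930142a011637470649244c3e2f422c15091d353d4b435e323a0f13625d1f2e604d2b61414a110b385c1e564f50030e29282702220818195721530d26520c234e, false, 24, 0),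
  (0x3553481e251940562f2d33452918601d5b3e4d582043262159271b3c522c443836416351324f2a3b17234a3d615c4c241c4b1f5a22281a5d495f2b55345e3a425030393f463762474e5431572e0804090c0714111505020e0d0112130b030a1610060f00, false, 25, 1),
  (0x1a034508251243041c1b194011013f281e24461d265f160b51055320101f44572747601855092a593c0f4e5d622e4c5c364930580e1521506148372c382b344b0c323e4d6323424a00523513390d3322062d4f545a2f02140a3b563a31075b17293d5e41, false, 26, 1),
  (0x2e2b1a232001092f222a0b181d02061c032d171f304c1e38493e4127245d504659346057000c3c48123d33433f0a0d4d2104394526350e4a4b052858155a565c111b250840524f5b5f6153293b13160f3a5162424e10322c143644543137475e55076319, false, 27, 0),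
  (0xe37181320444c162141010942360835234d401c1e055e3157102b30553950293e5b0602580f3c4927635f4a4f3b0d0a594b1b1f2c4e38113f1a525d462815043a002d17603d5c3319242e5425140b26072a0c614522326247482f56535103121d435a34, false, 28, 1),
  (0x38510914202f050b592b444c6148174e130a60355e1a12530222371e1d1b5054103308365d263c57305a19115c250d3b3e3f001c6245313a4f183d392952464b07584d400663045f34550e562d47012c43410f241f21320c034916152e2a2327424a285b, false, 29, 1),
  (0x255238631e4826212c3c5336353243595141271b000d13293f4d5b100a113a6057460854340730182f4a010517034740310b2d095e0e625f4b224e1c451f163b612b20144c550f231a4f37424956125a15025c04191d58390c3e50242e3d33285d2a0644, false, 30, 0),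
  (0x1641052555101f205f185103470b57532708451a4458154e34132c043e5c4a6335112459402e09425e4d0633495d0a542d0c6250481d521e3f2b0d233a4c562f384b145a294319614f0017465b32023c122a2128370f360139071b3b0e30311c26223d60, false, 31, 31),
  (0x322431565728295a554645263e3947273a3b4a006303025854121e1c2e2013160a212f51591d1b111015302d2c1f07535201411a04190843403f36384d4e0b4833343c180d35170544605b5c5f0c22422a2b142349375d3d060e4f5e0f5062614c4b0925, false, 32, 32),
  (0xb3b2d32351c4e3c43113a1f07010a454a2f4d44255d2a36590255230e1415563e205e27530f1a5c041209625f4c2e514106084f2837245754340305130d0c10314018425847493360632c211e392b46224b5a615b1726303d1d0048191b5238293f5016, false, 31, 33),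
  (0x3d0424062e335d5c3e5a125819501d1502282a560c4e344c3a3f0a3117462b010f421c134a5b633c384b003b3536374d5e1b4825055f10074551295222263061082721201f0e5541320b5718470954144059112d431e0d4f1a4916232c602f6203534439, false, 34, 34),
  (0x1436375410335d081e22502053121d09021a1b5b384216633a475e310762322c0f4e551344564c270c43454f350424600a2a4818215f2e1700392f0b5a2603615c3c05581f591c412b5257253f15063d400e232d4b3e0d3b28493411014d294630194a51, false, 14, 35),
  (0x3d0435092d0a5d11593c5b58020e1c3419522b1e4f4e15144307334801362a174b421d402c12635a3b0f3238244661544939312505105f3f5145212822263037082729201f504155001a530344064d4c133e5c2e3a560d0c0b5e60234a162f621857471b, false, 36, 36),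
  (0xc390b2b3c225752025e2e51385a103a0f321f5d0a1826190e484c2a4b3e05014a454104355056210d2953230828031e4f47333617003142205f146349152c60463b431a442455251634591b2d3f62061d5c13374d123d61302f1c11075b09584e544027, false, 15, 0),
  (0x28150c242a5a5012065619045d3d1d02395c583e33030f494743274a3223421f212c410116460d5f2254625710303f1a31522d0b0a59172560483a36004d1c1e385e3c2b5134130918204c4e2f1b2629110e0855534b3b63614f053707144540355b442e, false, 38, 0),
  (0x304d28344a3d464b290d49013e3b1106150e40232d3f3900523c2e215c5725585f1c411f183822485a5b26501d611b2b17122f0c334c0a091e43020b5953051a5d562a2404200845036027354f4e0f543747101362325e3663314255073a2c4416145119, false, 39, 0),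
  (0xa3a014e4a423f0f172e3d461331244c342b0406394344071f324d2d162f25353c45113b0b54225221510309084f1b615f1e56233662005d1d2820575802591237180e40415b1a26195c30552a634933140d38600c295e102c484b052747155a3e50531c, false, 40, 1),
  (0x4f020a5b2d3154293322073b065e14173a0d5a2f561b34581e0e1c3c2b095d0452591135193721284250493f242c6340000f2a013930362612324c23620c4b61132e4a4e465c3815431d4d3e48554451051f081a03161857105f2560272045530b47413d, false, 41, 0),
  (0x36203b552d251b44001c31541a5f4e305b40461734325327351602560b2a5d3e0e15145e2351211e3c4143263848632c52122e2f57035813240a5c09044c620f05190d5a115061493d2b4f604a1007394722371d013318084528294b4d1f3a42063f0c59, false, 42, 1),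
  (0x484c3650565f51333921275e171847002022422a2e635b04120d590e402613461e62143e3d053c0a253f071b4e45105a58444a3b344f57490f16302f0301292c1a1c2d55542b373a32240206286053414b353861430b190908525d1d4d5c150c231f1131, false, 43, 0),
  (0x4501482b0e18050b413c043e2a194b394c350c264a102003442d311e221b49420a291446321a25165f1f535147086055573328362e02343a2c0d003b4f435d5a172156505e243815630f592352065b3f1d124e3707401c2f095813614d3062113d5c5427, false, 44, 0),
  (0x34303e060e13105b57311805375850022b555e39200d114d4640014a3d2849232d154b193b3f25441e54633a385260080a2c21262f0703174748241b42004f331d32350c141f5a53272245615609042e5c3c1a0f36411c4e62160b5d59124c5f2a514329, false, 45, 1),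
  (0x31205090e0b0d040a0113100f160c070608140211485f59194130202a214961405350581b2e25464a4327175a5660522d4732394e364d1d383e1f282324422c5c3b555e4b543363293d345d3562182f51313f2226571c1a4c445b4f453c2b1e373a0015, false, 46, 1),
  (0x5624035420162e572f255958021c510a12311e21326006234755154008171d1446425061295c4a3e0b3a180d0c4c625e4d04350511344e632c41073936265b520f010e09103d3f2b48383037445d5f434f195a33272a3b281a2d4922451f53001b3c4b13, false, 47, 0),
  (0x4e1f585d2049605f4d15162e332d0934545e100a06410045612a24321b351d37552b511c39434a47404b48633f44624c462c01212827230f0c033d17140736044f29311e503a5218130856220e1a59113c255c38052f3b5a533e575b3019120b020d2642, false, 48, 1),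
  (0x41502e601e245d2000591a274623574c3449383e1951421d5803042c1362523f090c101848552a1b1c61324e39371f45350f263117144f055a024a0e1130440b063d013a0a4b5e223c5b2d292f08165c47365f63122840155443334d215625530d3b072b, false, 49, 49),
  (0x510a275d3a04601e42160814354f33454c24634356102b522e020b0f3c1f5e39575a38223209031318582c41483f501d620507010e110612150d2a2f5c213753194a264b3e614929474d233d285b1a5f1b44204e25171c5934554600312d36543b40300c, false, 49, 50),
  (0x63555c6058545d615a5b005f5056625e525351574f4e152411403425133e042c3516414a05463b1b3d1412380f3243490a36313017202d441a1c0d0e1e26484c2302212e09270b2a3c2b19032f424d3a47394b10372829081d331f0c07063f4518220159, false, 51, 51),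
  (0x3b454c06200a5d61465b395f19570b4d220e1c56084e4924140533312f3e1a0137162a47405a631b3811593d43320f15543c25483f58100704510d530226305c0c1e212e09286241361d5003131f5e3a4a004b2d3527294f2b3442234460175518522c12, false, 52, 35),
  (0x381a24602e345d4c3e46592050192b491e274157234e335c3a1754253f5a1d2c431f512f475b3b363d4b3963373c355e4d1b3031405f2d44551c2922522648614f2821584253452a326256184a090a11051214100f020d080415160c0106130b030e0700, false, 53, 53),
  (0x1714041b2a05032631275a50554f2b59241a51020f484007014b1533352d424e43091d3d36290d474a441825132f3f3021605e3e63534938100c34231f3a005211165c5841541e622e3228373c61190a5b5646200b063b08455f121c4c0e39225d574d2c, false, 39, 1),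
  (0x2f3a1754334f29060a0d073d023b5b311456222d5e3f241f605c2c431a25385147001d4e2e114a0c055719032b45615849263c040f286362524b593e530b123055272a1b503246394810155d5f3740441c01131e18351623082142204c34094d360e415a, false, 55, 0),
  (0x63343d3733423f40492c4f291e211b2854585031244b4d4c4e353a5e363c385d5c395b3b3e444a6043414862465f61454752272d23181f552b173225515953261c2e56221d5730195a1a2f202a08070f0e0d1110040a1613090c06121501140502030b00, false, 56, 1),
  (0x1f01290833064b07473a423f100c221837451d284d1705153b0a34240227382035191b21250f4a4e5e0b5a55302a615f5c2b2e3113044c1c463d573c5d3251520e3e58505b4126480036631256094f23032c441a2d491611146040532f0d54431e625939, false, 57, 1),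
  (0x2a321f41240c0f49234a152128160347012c43272e61375d2b58393545551c1d4e511b20000e5e3d06624f4b221409504c0756294d631348520a1831042d405f103a33083f3644541746341e6012050b533b30265a023e3c115c381a2f571959250d5b42, false, 58, 0),
  (0x13572112243861054c390c0f265c086341503f47370a592f2002322e25561c1e58540316310b5e2b355b1748446009144e523a273c5a5d10221f36551d18040753002c431b625f4f42452a1a3311154d0d4a0e4629233e30193d4940343b0106284b2d51, false, 59, 1),
  (0x601813622e5c0b234d5e2f16473e0d4c574a06563a09411d522c51585048103f2b04031e4253351f384b1561081911435d053321372a3c4f070263275a294914263924120f450e010a2232283d1a595b4020445f17250055304e1c463436542d313b1b0c, false, 60, 0),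
  (0x19296045583e53255b351d1e5600404d18202d483311575a05240c2b4a614f061f49033f0a2638025c3b590b0d301a123c233d133a323701142c4c212a171c43475e2e6216224454090751314e28414b4652080e15503927555d105f3463041b42360f2f, false, 61, 0),
  (0x301719222b0026504b385a3f4839465b29521b613d1a182a232e2f1f200b012d021c030609475c2c3e3641534055286237254e6033513a5443244d1332151012563558451e07080411140c425d31573b5f050d44594a5e21273c4f0e344c490f0a63161d, false, 62, 0),
  (0x551530071f39474a3b5c2a06615e5f4b17050f0b4e28293225581d025253541b2c10032d11563e2400635726462731453a505d193d0c3304122e5b6051594f6248382b223f140d491a432f0a3c4218360e2340084120351321370144344d1c16094c1e5a, false, 63, 0),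
  (0x27595514025e5620363e322d0b350e3b152316535d311751502b5a2c0526040f244f031b1a48002e394c18475f214222334a3c304e2f3d4962584b190c410145615c1f070643401c28121d09370a29634425460d57523860133a5408345b101e114d3f2a, false, 64, 0),
  (0x214127432c3548526300511b5338443659251e263c42150c4a1f2a24234749162e01030f286139585e4d29560e130a073d2037555d1d4e1c452b3b302f5754220b3e02142d12461031625a113a09174c08505f4018055c196033040d344b4f3f1a5b0632, false, 65, 0),
  (0x4e4b1b092c0442173d2a35484033141d43072d36152b3f340f05413c1a3749111f104438304c394a2406311c463a0a132e453e2619180c0b0e271247163b2f200828251e034d22293223210d0260515d5b00616255635c5f4f5852545a50595e53565701, false, 66, 1),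
  (0xc5048602c522b512e41044262581e180913031d3f275e5a38634b15533e490d05291433475d390f3c57320b22020a3a1f0e28365f553408461b4d37111216455b30072d44062031011a4e54254f3519562a4c23263d5c61594a172f21004324401c3b10, false, 67, 1),
  (0x2120c0615585d3d19395a331d5c562e502a243e280a09110e071005130b08030f16140d015b3c1b521c352b1e594f2d345125483f4e5f31456318365526173a62412c60421a4c4327464b404a545e572f38222032533037611f4923214d293b47004404, false, 68, 0),
  (0x5926021a055c5b53573c110d3e302f1912383b0b254f5055512c040f2a2b31241b1714032762526358005e5d566154605f3d4a0c284b3f433a072e484e32492d1d391506334622290a4510471f40091c230e1e4c351341363734082021181644014d425a, false, 69, 0),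
  (0x11324d45165357123e631e41620c28100e5d583749250b2f3b434435073a4a2d0a1f1c014e2638590d5a5c5b3002191a05522c364851271b00214b0f4f3d043f225e09185f2b392e34314c2a330308291d1346555423146156602006154740244250173c, false, 70, 70),
  (0x46520b4a030e621326112b1c32610f5523574130440456480d0a2d19155a4327605f2e17253d5b1e1463123e36504c31405d1b0235584f343c093b544938244e5e53202a16005c511a2c2f210542064b391d3a281022294d0c4518470807013f1f373359, false, 71, 71),
  (0x2b38372c01132623321e3a293d02352f1d3e140c2444300f41343f10093c1b4e1a054b1f495257461c590e62610b554a035b0a4d540d256063085819045d2d4f5c120607405a533b45432815161718515e2200484c392e503631472a2021422733565f11, false, 70, 72),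
  (0x4c125d0b5f5c2a594362094e1a3c510f1636412e04613b19565b064d572245080e39200a462f3d404f260023242135174a373f54113007131d583a31181e442b0228341f5501321b42032d2552055e0c3849144750330d3e534b1527635a6048102c291c, false, 1, 1),
  (0x75a4e055f15615e4a065c2a474b1f300b17550f3b5848630a331204103f45255b1b513c310c3d564d294213325235210e1d282e3e501902245d0122083a18373846364120262b001c574c27345309112c622f0354430d14604059442d49164f1a231e39, false, 74, 1),
  (0x523a0726044b0c43113d633c0f0d2c4a5a624f3f28350b081d36395b17130255561851251c384d5d152309611f605341195e344e3b4c3e003733302e5054592147065f052a572f165824121a40274829440a322b42104622140e45032d011b1e3149205c, false, 75, 0),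
  (0x3e013c270445354819394b0c2b0e054c26412a4a0b331e2d25103a283134021a36162c0d2e294d1d5b2058002f4053605637063f224208471f0757135530505e441c624f512321095c1752035f14633b493d38244e1146321b5d4359120a5a150f615418, false, 76, 1),
  (0x40303e23280e29113b4d2d0d4a464919013d153406532655376218364100472a1d502c1a5c445b0745616335051b144f08485f3c0b5222095e104c3f424e43602b3904270c17385a331f3a0f5d031e2059252f2158311c1332560224125716542e0a514b, false, 77, 0),
  (0x1b4e401736464431205b551a341c593b302554005f14014248044b1d3d35091507432c2a332b45100e0a1e294932032722115d3e063a0b5a6062193c5258024f4a4d28230d1f2f16535e182e560f2661243705386341393f13084721124c50515c570c2d, false, 78, 0),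
  (0xb4c1a0f36471426224b46443808233a17270d3b016251122a414e5f5c5d092e0416591c3c6145481d0c535a2f56033207604d003f63424a49401f3515195211243325542c0a4f1e2d3d1b2128135506575b2b5e3e203905501031021837300e34295843, false, 79, 1),
  (0x56190b0a5f0861200645121c3b3957224c5b0e5d4d03171560254304275a4a0d4852592e2d241d4047295514235013544226281a011b3f1e11413a00633e3132384b360f443d2b3062494e341021510c022a2f4f535c33350507095e181f16583c372c46, false, 80, 0),
  (0x3f1f1c215f090351424308614f070f1b0a544422174158182e5c194d3c284a3425305739000c1d60042c621e2b10135048114b5d35531538230b3d5a0d3a6326022d5b0e592932554627565e36051201374524491a06332f164020314e2a4c473b143e52, false, 81, 1),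
  (0x103a3f294d070c06011d1839223337421f4547284b130a0d115b5225541e3844606357344602040b091412030f16050e1551361c17563555265c1b5d531a20504f435f216127244c4123193b405e582c312e2b32623c2d5a2f484a494e3d303e002a5908, false, 82, 0),
  (0x353d395e4d4a13581552070c32482156290e61420a5c3e4e343c3a4b0036383b5b4c37335d2c04112559415524400516602643285a620d4f0f3f271e441b53513146454757145012085410495f2f18172a1d02231c012d2b300b0620192e1f0922031a63, false, 83, 1),
  (0x504414a3e3c2a0c180e192b264b45482701394c0b582c5c1611593463405525154e2460134f09025307372151331f2f5e1b5b1e523d2d0a1c5d44143b082961433638003217421d2056233a4d5a495f3f500331121a0d0f28302e471062570646225435, false, 84, 84),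
  (0x1f09373c2c113f2b4901100f1b34384b441a414e300c4f582f02071635332153185c515e2a0a0603291924456160575a4a0815140e040d0b12133b17252027395b405563265f4c50474831593e523a4d5d4222431d542d1c1e286200233d322e36465605, false, 84, 85),
  (0x266261030b222a120756431d475a452f5348510c141c300f0e462352574a5544592b411113283d363b313921373c1b0102003a4d542e2d1e425d293e27632524495e381f202c584e351615100a1a194f3f5c40184c4b0d505f1709055b06080460333432, false, 86, 86),
  (0x80a0c1404433363563a4535245d4f422760514c1e0715120d11010b0f0602031009050e133b4d2528545c47215f5340361f1c4a324e2d442f3c23341a575537492e412a2c205e5818313e59621b4b22613929173f1946385a1d4850523d265b2b003016, false, 77, 1),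
  (0x5f5708200b5d3b19224d120e4c4661560a395b061c53271a1f41161060474451255505031849283c43004b334f5a1b2a2d63620c1e3e32583711424a4e3f4840243a041435312926072f012b1d591554500d215e5c0f2e343836021752230930133d2c45, false, 88, 0),
  (0x32230e590b0253152d165d3b5e36143e202a355627113052030f571c1362442b412661464a54281f102c0758291d1b5a25373a06345c1a244f08314751424e635018395b0500404b45605f170438121e3d4d492f0c222e21093c1948010d0a434c333f55, false, 89, 1),
  (0x1d4232001c3654221e285246562e3d2d234d43623a1b2051373955412a5824351f4e612b45501008023312531409385b1a15040e275f344b630f3e065c0c195a5e160b593b60490a114f574c3c17302c48032940071318472125442f0131263f4a0d055d, false, 90, 0),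
  (0x494e155d0a092d1660064d582e5f10345e201f423311594314123d610f465a383b1b32632462402f0d1a03232c44531e4f303f135c1c5b371d075031224757283617215202005525293a5651083c0e4b414a3e2b01484c2a0b19352705040c4539182654, false, 91, 91),
  (0x3d110e2d19355b3c5d0459581c0a2b1e0952021b4f3e4d3b4b4a4015014606230d293049284e635c4c3a393637385e00331324411625602c5505423f170f2e314408212018541057501a5f1f272f48143212621d266143070b5653220c452a5a03514734, false, 92, 92),
  (0x315b513f3c1c18624f4c2257372f1a002b1e443a265f58070412390a4e33051b4825105a6306560e2a401642552d03284a203b5d614d1946080b243e011449471d35321f41296053274b0c1143302e17545e503436023d130921522c595c0f0d38231545, false, 38, 1),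
  (0x2d1431290a2f06021756075a3a3d544f5b5e0d333b032b01203245481e4246440e49101b271d2a0b1c232e181a09301f19624351260c61534712005d4d365228374c3c3f574b500f5f083938211158402c045560164e353e134a053459242515635c4122, false, 94, 0),
  (0x9362d4b483d1d4e402a011b33352c171404154243305b4d623c220e5e18530d0b5210445f371c122f5c58065413113f610221313b39260f28324f510c16051f3a560a295a085525034745634a382b2334201a502e1e4c5d3e1946605900494127245707, false, 95, 0),
  (0x26001b384846302b61223d1d501929394b3f5a175b324159441e3643272153633c252c3551231c620e57030f554a11130b2856425d2e4d3a542d08180d4f0c02345f0415105c1f58075e09600a3e013b242a374731404c1a49124e054520142f33061652, false, 96, 1),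
  (0x4d201d3e484e32010b3646304712152e38131039412d2f453540005b335653601e582919183b1c444316073a1f0a114a3c545f171a315934551b5c2163080d2824513f5a2c5702035227260504493d5d0622235e42614c3714622b0c092a4b0e500f4f25, false, 97, 1),
  (0xa084d575b123b615d1c4519394c060b20220e565f113863543f251e133a3410440d29605224431b4e0f3d321514495a5901041d41261a0328402e1731422b4a4736483e3027234b2d55005062052f160c351f0207335121373c535e095c584f182a2c46, false, 98, 0),
  (0x14420a271e4c24331643636056510c5d08354f3a04492031014846442232030e1b2b29102d474e40122a2f3b0637053e1a61624d5f00414b4a3f0b1d2607535a391c5b5719551f58112825183c50380f5e5415233d13361721593402092e0d2c525c3045, false, 99, 0),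
  (0x412e60501e3449381a464c2423595700273e195d203f2c09101342045262031848580c511d0f4e014430114b1f3c05371b4a1c3a173d3139060a55320e0b26615e2d354f292a5a2f452214025b21635f5c4347284d1636150d40335325540812563b072b, false, 100, 1),
  (0x315424211e333f631b42344928404f3d503729002c0a122551162e20561c0302132f5759325f4e10040745395a5b053c48062d5d154d095e1f602a6218550e4a5c1d3e190c3061112b524153350d4c173b460f223a1a36470801382614432744234b0b58, false, 101, 1),
  (0x5b55313020405f1a174e255900363b1b5446441c2d055018063e581337395e29100e57022b5c0460334b4c3f4f080d19096335242c4115114a163d5d4d3a383c28421e2149520f270a1f2e230153120726515a6145561d6247480322142a2f0b32430c34, false, 102, 0),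
  (0x83a5b5213365c56070418021c1d261755510b39350d544d631e3410463f1144603857290a2833164043125f3b475321151a01312d2e2c273c3e1b2441450319004e2030591f5a2f054a58324823504b22064f0f4c37425d62095e61143d0e0c2b2a4925, false, 103, 0),
  (0x4745081f101d28374b334d29394222073a060c3f015355411a202560515f270b160357440500403e362a505c266223302c56485b35582d2f191e17312e4c5e211c041352024a4f0e0d3c342b0932544361633b5a12464e245d15110f141b38490a3d5918, false, 104, 0),
  (0x624c474a60420046434041443f4e614b4563495f48233a2e56131816065c2f0c3e5e570b0d1c361e1d3d5428225d32522d3709080134350e2120075b581211303933101f293c3b385319250a152b552a0f1a264f50510431242c275a14170359051b024d, false, 105, 0),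
  (0x5d12623c164e1c512a362e0b5f040f434c1a595c0932455837104d3e63280e491e11570c53391d20421b550061242b1f354615474825013830134b08345027523f40604a44192603232118052c0a3a3d5a56223b5406335b312d2f4f14075e020d172941, false, 106, 0),
  (0x1070b0a162f323a354d4e1c3b2d4a253c1f4443451302140c0612090d150e0510030f04083d1d373e292338262c2b241e30405c5b54583f61621928494b34465a531a59571b525541635d4f60312e4817363921472a33225e20512718564c425f005011, false, 107, 1),
  (0x2c4b011b092d3d2a481d14044333173507364215402b3c49301a11101f383f4437340f05415a3e622f002e324a5e3159583a600b455d5b554606255c544751243b4d160a1c63394c1361125f204f0229270c2652230d5328221e0e21181903500856574e, false, 108, 0),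
  (0x5b19044f090e2b0258112d3d521e0a5d1b591c353c065018050d4b4008603f5f1a4c17335c293e30105713553920315e37464d152823493b4a0163384425543a274136420f00242e4e1f2c2116221445561d5a610b48532603622a51120c072f43324734, false, 109, 1),
  (0x20255b00401e2948453e183335535658191d2f604d311b444636341a59553b1c3054175f4e2710010e32142b0a032242490216043c2c282e3a0d5d15230b2a5e5211094f3d1f5a07064a4b4362215057510539241308413826373f6112634c475c0c0f2d, false, 110, 0),
  (0x4f2a452d5f1f5d1a3b274349221953334b5a3c001b16061c5503424a18560e07045862403123240f0802573a375c1154340c2147012e152c3241295052260d1e1d393f4d103d3e1263364630250960352f4c145e5161172b0b0a4e5b0520445948381328, false, 111, 111),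
  (0x4d0d3b28403d294a0e233034114b1949463e012d06216307565c5436435308124733255f16525e13610c35320a483958423809590f2c502e02175d601d0b411f5a144e1b24102705200355042a3f00223c44571e2f5b623a263731454c4f1c181a2b5115, false, 111, 112),
  (0x5e181f4f2c42294a52234434552d27002b60174b3a2158070c1637092a5302512f33053c5c0e4d133256156139480a633d2036411c401e4c08015d3e140b593b451d4e1b245b192538261104433149225f3057504710620603543f5a2e280f0d1a461235, false, 113, 35),
  (0x4204243a4c335d1660455163271e1435084f430c564e342e0631393f012b46171c3d0f134a10585f202d491f1509545e4d1b4805253c5b075a12290e22034432021921383b521159610b570d2f36371d2c41554b2a5018281a005c23403e47622653300a, false, 114, 114),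
  (0x3d62322d2e4d5d363a46434222521d5423561c281e4e5e3c3e48494a305a2b2f59582a2c314b634c385b393b375c353334613f47445f6040454129501926171b5357211f204f5551241a271825091511070f1406120c0d0e0b0a16021310010403080500, false, 115, 115),
  (0x6304395f10155d460f364b4227524134080e5528504e0a5a12483307253c51055b58453f31433d143859323b2411614954352c01172d09402a1d211e532644001902291f204f1c2b371a220330604d5c4a3a4c163e0c0d560b5e0657132e476218232f1b, false, 37, 116),
  (0x63623210164d5d3c3e111258530e4549570c411e284e5e363a075413441455470f4251312c5b3d5c3b4b3538004c39333461402f3009063f1d1c294f0826051b222321201f502b2a241a0218015f0a4648595a6043560d520b152e274a2d250403191737, false, 117, 117),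
  (0x3d11131d2f4d5b5c4e621258096106401c0730543f3e35383a0c1e3223142b01262902242c5d633c4c4b5e36343b3933000e4916415345281057424f220f2a5008442120181b5505311a511f471956461559042d0d0a43520b4825174a602e5a035f2737, false, 93, 118),
  (0x6304155541354e5c3e11595825136024054a16402c5d39364b521b0e084610270f425f50285b3d3c383a4d3b334c5e00370a1e19021c2b4f2d09293f440d5754170121201f31062e491a30182351611456125a45434826070b322a470c1d5362032f2234, false, 119, 119),
  (0xb38606135514e4c59145b2013050a2b48445e2f175d415c43081d530c1115524b1f4d1923121a36040f16622e3c5f1c2a10021e50371b2254330301070d0e063f2c1858423049342d3d40214f39455a573e46323a2526476355004a2724563b29312809, false, 116, 34),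
  (0xb3b55155e165d3659143e205653322d0e273502234e5f5c0f470605075a614a4b1f393017121a4c624351041c3c412e09452f3140334901243703220c26481d284f185842191b002b3d50212c4d1011255b460a3a570d086360345244541338291e3f2a, false, 120, 121),
  (0x266200181a302a3628405c1d534b55234750412c3e1c223c315b2f3f444f45574c2b513a1e073d123b0e1b21320f3902016111544d090613584e2914056308355e49381f200c425d24163310340b174a52435603595a0d485f192e27462d250460150a37, false, 87, 118),
  (0x6362371016544e0f143a36424731555e442c5113075d491211284d1e573e45533c58410e0c463d433b5a243861591b150a005623222e2d521d1c294a25262739302f21201f482b2a350b0103025f345b504c4b605c400d3f1a3309054f06080418171932, false, 123, 123),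
  (0x1a382e00241d4e5a3a5c431f3f1733512c2f5447255d2b463e194123504c341e59204927574b0b11045b066210142d455509080c526135534d151805400d4f5f4813034258445e0a16634a29561b2a36220f3c37120126303d1c32310239283b21070e60, false, 34, 37),
  (0x1a3b1c3454065d113a5c0f1f282337164f022408574e2d465b305f174036003159201b44254b0b5a623e1d0445142b10602a47074a155e053961185350262c410e56034258273532516352291349094c01433c3312220d193d2e0a1e2f4d3f38210c4855, false, 120, 125),
  (0xb3b2a155e064e4b5a0f5c1f4a30615f07173905475d2d3e142316020e5932563620355327111a3a62462b04455b1d60101c574f2834540824370344132652414031185842251b0051632c29504d0912193c430a4c2f0d013d2e334822490c38213f1e55, false, 124, 126),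
  (0x3d62370906495d140f4c4b42234f2a5e22502b0c0e4e541112404d3f2f5c1c305b581d07134363463b592438325a1b150a004a4744605f4841452156192617355357291f20525155390b0803052d333c2c3a362e3e280d1e1a3410023116010418272561, false, 127, 127),
  (0x2b385b4817302646520022291d391b3f3d504b5a1944130b59202f5e4e5135094c05140a603257231c415562110f0e034a371f544d472149533b58242a5d4245125c0607400c63084f4356155f01313c103a1e2c1a022e3e36180d0434252d2733281661, false, 73, 118),
  (0x5362525e5f545d5150615c5863554f60575a59005609103622074d30444b0e0d0b2d3c1848371d1208141b381e1a02332011403f134e062f3d1c29453b2605353a4625340a3e2b04194c393117161f232c410c49432847320f152e270342212a4a24015b, false, 129, 129),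
  (0x3d385030173f264b5a5b46292b1b19481d002261390d2c0f5c3413540959022e362123155e11633a043c4f620c43284a071e0a601044254d570858351c5d2d0e4151420318325327560b551f5f01401249143e2f4c244e371a31472a3305063b20451652, false, 129, 130),
  (0x633b28472531263e463a5a294524274a55005732390d4012363307541643085f5c2153154d143d5b044c1e620e595048134f0a2d062f175e22024235515d600c2a1c580318612319520b1d202e052c0f49114b443c1b4e371a3f3041340110381f2b0956, false, 131, 37),
  (0x383d223f4830265b5a4b46291d6152172b00501b390d2f123c4d014909430c2e4c211e0a33113b3e0b5c531a025957250523152d06404a34280e1f35415d60081c2a200318244f56270445585f13440f54143a2c36324e37624731515e07106342551619, false, 54, 132),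
  (0x3863272c482526593c43362141355244511b1e00320d053e5a154733604b0c101429505e495c3b120b11191a575b02302f084d5f1640075428561f611d5d09235545201803374f0e22622a582d13173a344c0f3f46394e240401312b0a4a2e3d421c0653, false, 37, 133),
  (0x3d0439062e0a4e0f463a4c4201132b34174a1c313f5d15125a0c3356023e1d195c582a50281463433811323b1b59614954351e270816604f4551292c2f262337052521201f405541001a470357095e5b0e364b2d3c480d070b4d5f305210226218445324, false, 124, 35),
  (0x63043455411b5d0f464b36422750103908285f0e524e2459112c3540053e60255c5816134a143d43385a493b0a12543261334801172a1d072d09290c530d475e021921201f56062e4d0b23033051375b314c3a453c1e264f1a001c573f2b446218222f15, false, 124, 120),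
  (0x3d3b4a192356264c595c43211c612f4f2a351724000d0e463e4d28150611302d4b29014934126336625b13043114481e500754165f085333254758371d4e093f45554203181b05442c1a412060220c5a0a0f3c023a325d390b52272b5e572e381f511040, false, 131, 136),
  (0x1a04022c31010d363a3c3e18332d2825342e1e10162617140f2a052b1b5a4f2459035055514b0b4c3b432238084623474419453935484a410c0e1f5f495d0053150a20292160525657635e42324030111d5b5c3f12064e093d2f13541c073762584d6127, false, 34, 137),
  (0x3d381323020c26113a143e291d35011e2b322f37240d525c0f15505e0936172e59213034544b635a044307623f3c4a284f483310605327494705421b2a4e2d404151581803004425311a551f16190e4c4d5b462212395d610b56571c0a08063b20455f2c, false, 124, 131),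
  (0x633b0753080e26145b114b295535054f456144371b0d56361215284d165c255f43214733543e3d4604591362314c48501e4a34062d23194930015824414e602c2a1c421803002f173f1a1d2009270c3c5e3a5a570f395d320b5222510a0210381f2b2e40, false, 116, 139),
  (0x633b0e054407264b115b1429556153404535081b370d4a0f3c5e310a5f5957164c212749345a3d3a625c520428430c2c3f56542d06172f3302225800515d60502a1c4203182419231e1a2b1f0947481215463e2536324e390b1301414d301038201d2e4f, false, 131, 35),
  (0x633b4008534f26114b145b295537440e451b0535610d285c435456331636475f1221254d153a3d5a620f2c044a3c3f520c315e2d0602220a172f4232514e10131c2a581803390130480b1d1f09571e4c343e462759005d241a50194149236038202b2e07, false, 124, 141),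
  (0x3d3b4023194f265c434c59211c2417562a002f61350d28114b340e490646012d3e2930154d0f633c043a3f62075a2c520c310a5f1657275e440542392b4e2e135545580318324725480b411f60025014541236225b1b5d371a1e531d330809382051104a, false, 37, 142),
  (0x63623216105e4e3a360f144247135154440755312c5d4d3e3c0c490e571241531158451e284c3d4b385c393b005b3533346150222306094f2a2b213f052608242f3029201f401c1d1b1a011802600a595646435f5a480d4a0b152d25522e270403171937, false, 37, 135),
  (0x605452575b0d3810294d08253f4644113a0a1e1334535a505e5f5c566261004f5d595155584715334b49480c2c1427053e43400728123b1621364a4e4c4245410f3d04263c24321b353739310e1a0b23031d1f2f0917062e2219022b2d3018201c012a63, false, 76, 0),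
  (0x14426024564647172315505513060329541d206140273a4c4304635d0a0c161e3345514f350f4b360d010b3844221a263b100e523439281b415f1107120902053f4d5b5725371f1853215c1c19315a492b5e2c3248623d4e2e3e002f2d4a592a58303c08, false, 145, 0),
  (0x220914375d060f62494b4c4f613d2b23425e2a0c0e1a5412105b08331d381b203602511e533f0d5f46305a47032e315728171960405c341805042952394800261315562455212c59274163583e1c3a012f43441f0b0a4d074e3b16322d11453c354a2550, false, 146, 0),
  (0x34114f1c5d161a3a2808060f1f3b245c3757552354043c2d1e0a090e35191b585b592b3d52010d10332527182c3e312e3605150c070b121303142138202939172f535e2a5130265a501d2232564e4c404a4b3f4160494d44455f62006343424661474802, false, 147, 1),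
  (0x12430f4e5d62044c3609161a415f2a0b1c2e515c3c1446633d49115461151b320a5a243b38400d1e0e4850132656313e5b03532344602d2f2c4f3019582120054a5257552b251727023534005e4506074708011d0c284d3f42103a39224b37331f182959, false, 148, 1),
  (0x2d4b1a455d3a14065b1162041d1055604e3e2b0b464f33223b28433c1f531b0049272a5f19070d3d5429022f175e31560a2c525c3f0c634a260f25153230580347382e512448055059611239574216441809403523364d01371e4c2034081c0e4113215a, false, 149, 1),
  (0x5e302d483c100736440d225f0b4d185b4b090e5352314e322c2e5a493e2f4a2b3d582a005947540f3a131614553742516306571a46123f500328605c0c234c561d115d450461401c4f2643411e393329203b1705021f3815010a1b353425272119082462, false, 150, 0),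
  (0x37235e61494d471f2954320053382044303b212f57424b0c065d623d0914500e0f4c2a2b4f1d3a2810083307180139453f361e2d5243461c562e5b1a12021b510b0d3c485f26172731035a190a414e13352c5540163e115c15634a053460582459250422, false, 151, 0),
  (0x10237263d381d3e133a0c2b2f113529232c24141e393012363c220f3b071c21281b2a0e310b102e4d254e4720154148461f0a5e575a5227515d442d43164a4553544961000355584256625963194b080506181733090d1a5c3f5040345b4c044f605f32, false, 152, 0),
  (0x525b2b193d50394b4622381d173f615a26480029305d04340e09021e4f0a1c593c5835112d0810360f5f422755634115285154141a331253203703072144431f05312c242a25454e323b0140495c0c57603a0b565e130d184c2e3e4a6206234d2f47161b, false, 153, 1),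
  (0x634452251e3f081357103411290d60465b3a4d0a54412621512c1b3c482753003643355932050f3750470c39614c5c24124b492b30011a4e1f095a14335e3e1517223d191d3b0b235d20022f2e40045f4a0e5545424f310718281c56620358162d062a38, false, 154, 0),
  (0x4c5e633b3c0d054f5f0f21590a314a57440e1627495c5b334b3d38363a394e4d373e35005d1750093f060408601840191a132e5254023023152c462b01421c2429101e2511205558411f1b2d282f26475651610b0c48221407125345625a432a32031d34, false, 155, 0),
  (0x305a592f3c535c261a380d050b1225023b1911575b2c2a6200485e49322e4e2d3d584a312b47504b361d41235528401837151027140c3329606320394d460113565d0e1635062404343a4c451e072154030f171f525f226143094f1c1b51443f0a08423e, false, 156, 1),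
  (0x2e322328434721272a0f2c16244a0115030c41491f365600223a5462463d1c1d524d1e2d5d315e5117394c50204818335f134e14556307103744060a3f2b04342961604008580e35091b4f454b250d303e590212382f5a57265c53190b3b1a3c11055b42, false, 16, 1),
  (0x73b16254353360d5f544721125c40632833081556443c0b2d2f321f114e1c453a35014a0a305e22625b09100e4b184852376149573800292023583d1d063f133e5d0c411e39344c42462e1960262c55050f311b142a5a021a5127044f59031724502b4d, false, 158, 1),
  (0x4b0607391f5c302a555e0b4a155a055f3b0f174e6118281d370c4d3a33102908223f0145423e622353502c36401a2641000d6016562e574c132f63493814274812544325214631034420322451193c5b042d0e3409115d3d02521c1b4f58352b0a591e47, false, 159, 0),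
  (0x1a144b463a5a3e115b621d454e5d0455062d2b1060263b380d4347220f364c17232701084412532f5c593c3005021925572a510761325603480c5f162e091c41155e1f394a200e3518134d0a522428501b3740312c3354493d0029344f633f1e4258210b, false, 160, 0),
  (0x2091a20225d12335053380810541b5b14371e365119062e2a1f0b232d30032b2f1c011718155c0c5a58283e043d24395611524b604d613541435507322c29254e623a464513403f26484742000a3b59340d050e3c0f5e1649574c314f5f272144634a1d, false, 161, 0),
  (0x615f080a224c193b560b5d120e57464d2039455b0643214f170f0951445203421f3f1b5407595c2a234a26354000243d2f416236163c2e4e041a13302b5532113418371e015825281d2d02313a493860635315484b505e05270c3329470d145a103e2c1c, false, 162, 1),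
  (0x55615851575950605c4f545b5e63565f535a526224202b41371c1f39354e452a321b421d34231a4c3e38194627491e2e3b3a0806021628110f4d363c4b333d0e0b220a122d1514430409100c31214a2917402526441830052f034847133f2c070d015d, false, 163, 0),
  (0x16135431510324212e1c5759252f0a02581e1256200f2c4742445562073a4e103714635e364a23411f014328150c49272a110b5230262b0e46612d35454d3c3b291d535a1b3e3d385d39004822054f060d5c3404086018403f1a503309175f4c5b194b32, false, 164, 1),
  (0x2b17590551500f4f2a550324041a5a2631271b022c614c095e6013205b0b4e4844380a2f35062342624b5d0e3d22490c37461d564008472915543e3a102d45110d361e1263013b4332071633533f5730191c4a39522e18345f41213c005c581f25284d14, false, 165, 1),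
  (0x475c243f512161573713500f39411208050c63264c541f002f2e172c251d4e3360435a1a3a30235e204d32293b534922441536023452090d3d59010b483e10461935271b0a4b115d145b2b3c1e5f034028550607562a184a58424f45161c3162040e2d38, false, 166, 1),
  (0x42610a522122083f1f435103171b094f54440f1c5f0c29394d4856323d35155e630e13584a1d4547334b013a0637101828142a2f5a2653620b122d40364e2c045b3b31020d551105165c25303c501e5d2b2460234c2000463827573449192e41591a3e07, false, 4, 0),
  (0x5319035021570c1e285622082327022652180d4f291241495820615f592a15304805091b405d454d323e1662113c1037630b3b1c464c395b060a55355e2d36142b4a440f134b0401073d42343138515a1a431d5c2f1f00602e473f2c25245433173a4e0e, false, 168, 1),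
  (0x3c2d534b5f275d1f5a45491b4f001a281943332a3b10525e0b440e4818625b0d4d360930072b320a573a510c022e380f391e3103294246011420261c4c2f3f3723562150083d1d54120661174734413e2c58110416594a356063155c2555054e40241322, false, 169, 0),
  (0x2e2f3c3d48002b593e325e302a4a2c5a2d584e623138194c1e21224d430c01330a3f090d122357202724415d1a603450461f47533b612954374428034216150f4f455f4b1b06110510140e406317523a5c0b021d5118561c35395b042526361307550849, false, 170, 0),
  (0x60162e064d4a23183a574c0d62565c3e2f0b130c47342d421f5f490a585d544e20150933104f27440055522b2c35174b2959633c310e3b050f215a5361515b502a32483d301402363837220739401924041e1a11414345031c46011d25283f0812261b5e, false, 171, 0),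
  (0x3b280d404d01341929494a2311463d0e064b303e2d21082533431647126354075f365c565324271f0a1b380502391735200f320c0341422a2c2e145d4e5a615904100b13095550525e58601d481c4c3126574f373c3a451a3f44185b221e2f00622b5115, false, 172, 1),
  (0x421e231c4d18214c20160134374413414035090e082e0022563a282d6232541d43523d465d31273347515e2a504817395f2c103e1a3c2504020d556307144e0f26534b305c1b593815123b5b0b3f4a032b4924580c29454f2f1f19616057060a11055a36, false, 173, 1),
  (0x4814421b2d443129032722460e452b201e490a32101740072c4b3643352a0409334e3d1d1526470d18054a21132f3f30254c0b23083b1a380f3a413e3c0c193937164d1c341224062e0228111f5b0051615650595e6253634f5f54586055525a5d575c01, false, 174, 0),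
  (0x211e4c014d3c2f330c3d190a2e0d3843124948223f35161837341c0e362313414044200842024f585c2c5e2a5153051f0759525d042d111b2b5b0f54305015171a625f0b4e031460611d06104b253b2627562432005728313e4a4547633a3929465a5509, false, 74, 0),
  (0x113a0a254d45353b071c3c2f324a0b2d011f4e43165b296308571e3f465213103460380d54264f370e55611b144b0553402b62223100181a514c0323410f305927424948202c175e093621475f3e19045a3d021d5d0c2824395833150656125c2e2a5044, false, 176, 1),
  (0x18562f3e4d335b19401e45351d5848002553202d294c5c060d0c3a162e621347575e0b4a23044f083f50091a175f054b34514243245d6327140a2c521003412b5a541f4e385559614446111549393c312a1c26362207280212373b30213d010e321b0f60, false, 177, 1),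
  (0x633d35394d3b4c3c343a335b36374e5d3e4b38005c0a0e214a075629324213150c61485852314f0d160f44275949055f5714542d0222065a172f5562472c10512a2353200b502b09602e18301f1245241b1e04464340282601081941111c253f1d1a035e, false, 178, 1),
  (0x61c5b124d190a4557563b4c46082022395f0b5d0e2f3f1158403d5c1d54133007094e3762244f4a2903605a2b1f05490c1723002643212a59355042155547141b524b38480f51445e326341530133021a3a312e2d342804250d3c10181e3e1636272c61, false, 179, 1),
  (0x1f55060f5c082434024f11375d281a571c3a165423053915174b61075f5a2a0b4a474e305e1b29351927330a202501382145535b0e63264414402200432d3c4946564d124c32313e2f593d360d413f0310582b51601d5242040c132e1850092c621e483b, false, 180, 0),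
  (0x252d1f3207281b1d032915305452100255582c5a53011c43454d3b4a3a0a4416353c4e0b2f461940081e3f241a04411226340d06233d0e3e494b575b636013385d4f5c0f37592b09051461620c3639272e172031335f560042212a51182247485e504c11, false, 181, 0),
  (0xe223036072a0139263b281b31210f3d321237021c4b48180b5f2d535e0d44624d0910525b2719454a4c053e2b0c410435494f5a0033435d1a1f590a165763342e2f582c4e1e383f113a25515c421523502946140603562047401d13611755085424603c, false, 182, 1),
  (0xc570e1e5321270323191852025650262229080d4f41321649583c4d123e5d3745631062112e4a1f2a2415010f47422c43395c301c25003f345f3d5a33061d04313b07361b3a46554b1a2d544051484c130b2b38055e2f0a20354414615909605b174e28, false, 183, 0),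
  (0x47060c3a4d562e5e4c4a16620d2f1323570b603e5c4222333907284529013f081f1d10374b312a5f21174827502051360003400e4f2d1c55045826302505442c0219531e521a2b0941343c5b3554322414490f4615123b5a0a435d38613d634e11591b18, false, 184, 0),
  (0x1c3d62544d5d42320028562e46431e2d3a36522322584e613712065c11403f5b0709132f30242a39451b41552b3551201f04193e5a153302500c1a0108262503144b0b6010172c4818294738530a164f594a31340e4c3b0f635f5e443c4957210d27051d, false, 185, 1),
  (0x3852222b5a570c0f512e3c1f0b32100a5d5e3a27023f61265030190046481d5b3d294b1b1741215c1213474c08633705244d255f1c4a5834182820153e364e010e563b450635420733042a553111491e444309600d535923622f4f1454031a2c2d164039, false, 6, 1),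
  (0x63363835003241531e21261b2759445152432c4825375d3e4d3b393d5e4c343a5c4e4b5b330e12285716490c10621145580f3122022a1c0701300a5f4a0d4f050b2e5a2b1f04091a3f18192d2f556113145008424746561523241d60542029401703063c, false, 187, 0),
  (0x1c201b55001d37615839324142242b2a35451f515d3040545b4636251731342d3b1a44595f13124d3d063f07092f11625c012e4815473e0b1038044c3a0a4a0f1433432c4b1605493c5e63605a23260203210e18221e56082928534f19505257270c0d4e, false, 188, 1),
  (0x3e504123005330265c361d3718282c4755624b2a40385719591e205d272e346046492b244c02125b250d3c0b055a112f3b10335108225414091b16312d043a01035f451f44060f3f4e171c4f432932150c39135e4858560e524d614a6321353d42070a1a, false, 189, 1),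
  (0x5a043e065d280258151219242a560c5c50393d2e3311552d10451a46620b144b5b3a2b604e03251b530732302c52291f54264341401c083f011e47512248612f1836002337171335380920424d4f570d4a59050f3c275f310e3b345e6316490a4c21441d, false, 190, 0),
  (0x52485a17465603270d252d602e5f4a1504590a0b4329502226001d5b39303f3d1b612b4b3818531e282157020c0e4f2308584d3e332040352f455c411c3c341f2a125d062409054911011a4c3b4255075e102c13326236513154140f63473a444e163719, false, 191, 0)]

/-- The overlaps. -/
def threeHSOverlaps : List (List ℕ × List Schur.Tails.Step × List Schur.Tails.Step) := []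

/-- A conjugation. -/
def threeHSFus0 : Schur.Tails.Fus where
  xs := [[1]]
  ys := [[0, 0]]
  rels := [
    ([0, 0, 0], [], [(0, 1, true)], [(0, 0, true), (0, 0, true)])]

/-- A conjugation. -/
def threeHSFus1 : Schur.Tails.Fus where
  xs := [[1]]
  ys := [[0]]
  rels := [
    ([0, 0, 0], [], [(0, 1, true)], [(0, 0, true)])]

/-- A conjugation. -/
def threeHSFus2 : Schur.Tails.Fus where
  xs := [[1, 0, 0], [0]]
  ys := [[1, 1, 0], [1, 1, 0, 0]]
  rels := [
    ([0, 1], [1, 0], [(1, 0, true), (1, 0, false), (0, 2, false)], [(2, 2, true), (0, 1, true), (0, 2, true), (1, 0, true), (1, 0, false), (0, 2, false), (1, 2, false), (0, 1, false), (2, 2, false), (3, 2, false)])]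

/-- The certificate. -/
def threeHSCert : Schur.Tails.Cert where
  p := 3
  q := 3
  n := 2
  rels := [
    ([0, 0, 0], []),
    ([1, 1, 1], []),
    ([0, 1], [1, 0])]
  overlaps := threeHSOverlaps
  fus := [threeHSFus0, threeHSFus1, threeHSFus2]
  mu := [[], []]
  combos := [
    ([(0, 2), (1, 1)], 0),
    ([(0, 2), (1, 2)], 0),
    ([(2, 1)], 0)]
  tau := []
  tauCombo := []

/-- The codes of the generators. -/
def threeHSGens : List ℕ := [
  0x103e14604b0b5d3a2b1a5b116206461d45044e552d380c5e270d530547504948331563292c57023c222e0f5132390a521f1230262f5c1925593b03285f313f54562a07614358243d1b004f4a174d082013371e41360e18164c09354201234434401c215a,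
  0x123e4813364c0e565b50591e620d3140633d142604204d0b392e41384730104e150132251d57195d5f062261453b0a1c08491a00602334242b273f280f5a54034a4b43444211292d1b55523a171621052f5358372a3c5c0c5e093507331851022c4f1f46]

/-- The codes of the conjugating elements. -/
def threeHSHs : List ℕ := [
  0x251d040826461a401b1e2843240312013f194111453617555b563a5213025139180b5c0735542d00312059344e305f3b442e323d4223224d5d620a2f57582116062b4a0f4c1f092a3c374f610e470d10152c33383e5a296050274b05481463530c495e1c,
  0x1149245a0a1f0c1960292f57454f052b58063f034a385d43153b32541b14634e3d0f12594653234d354b081d41095c0b5237442000225e304721550e07405b262a421c513962504c1348565f173c022c1a1e3e1001162d28333a2e043427250d31183661,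
  0x3d0a565e291358614d150c0e3548423952634a2132065b2f5414020d17332d3a5a314f223b0912111d4e405c1c3f6237300401080b05100f1603361b2c434b2a51252618553c5f45281f5344472b502e4c195d34241e3859603e57004620234927411a07]

/-- The order of the products by code. -/
def threeHSIdx : List ℕ := [3, 1, 7, 4, 6, 5, 8, 2, 0]

/-- A program from the two generators. -/
def threeHSSlp : List (ℕ × Bool × ℕ × ℕ) := [
  (0x636261605f5e5d5c5b5a595857565554535251504f4e4d4c4b4a494847464544434241403f3e3d3c3b3a393837363534333231302f2e2d2c2b2a292827262524232221201f1e1d1c1b1a191817161514131211100f0e0d0c0b0a09080706050403020100, true, 0, 0),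
  (0xb0f361a430d23473a3b274446220814264b01381716622e5c5f593c125d1c042a0941514e575e4a56064d3e130c18602f0e0a6331494f0534215b6119394520503d481e402b37423524003f330353021032551115525a30282d2c1d0754251f1b29584c, false, 0, 0),
  (0xc390b2b3c225752025e2e51385a103a0f321f5d0a1826190e484c2a4b3e05014a454104355056210d2953230828031e4f47333617003142205f146349152c60463b431a442455251634591b2d3f62061d5c13374d123d61302f1c11075b09584e544027, false, 3, 0),
  (0x28150c242a5a5012065619045d3d1d02395c583e33030f494743274a3223421f212c410116460d5f2254625710303f1a31522d0b0a59172560483a36004d1c1e385e3c2b5134130918204c4e2f1b2629110e0855534b3b63614f053707144540355b442e, false, 4, 0),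
  (0x304d28344a3d464b290d49013e3b1106150e40232d3f3900523c2e215c5725585f1c411f183822485a5b26501d611b2b17122f0c334c0a091e43020b5953051a5d562a2404200845036027354f4e0f543747101362325e3663314255073a2c4416145119, false, 5, 0),
  (0xa3a014e4a423f0f172e3d461331244c342b0406394344071f324d2d162f25353c45113b0b54225221510309084f1b615f1e56233662005d1d2820575802591237180e40415b1a26195c30552a634933140d38600c295e102c484b052747155a3e50531c, false, 6, 1),
  (0x4f020a5b2d3154293322073b065e14173a0d5a2f561b34581e0e1c3c2b095d0452591135193721284250493f242c6340000f2a013930362612324c23620c4b61132e4a4e465c3815431d4d3e48554451051f081a03161857105f2560272045530b47413d, false, 7, 0),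
  (0x36203b552d251b44001c31541a5f4e305b40461734325327351602560b2a5d3e0e15145e2351211e3c4143263848632c52122e2f57035813240a5c09044c620f05190d5a115061493d2b4f604a1007394722371d013318084528294b4d1f3a42063f0c59, false, 8, 1),
  (0x484c3650565f51333921275e171847002022422a2e635b04120d590e402613461e62143e3d053c0a253f071b4e45105a58444a3b344f57490f16302f0301292c1a1c2d55542b373a32240206286053414b353861430b190908525d1d4d5c150c231f1131, false, 9, 0),
  (0x4501482b0e18050b413c043e2a194b394c350c264a102003442d311e221b49420a291446321a25165f1f535147086055573328362e02343a2c0d003b4f435d5a172156505e243815630f592352065b3f1d124e3707401c2f095813614d3062113d5c5427, false, 10, 0),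
  (0x34303e060e13105b57311805375850022b555e39200d114d4640014a3d2849232d154b193b3f25441e54633a385260080a2c21262f0703174748241b42004f331d32350c141f5a53272245615609042e5c3c1a0f36411c4e62160b5d59124c5f2a514329, false, 11, 1),
  (0x31205090e0b0d040a0113100f160c070608140211485f59194130202a214961405350581b2e25464a4327175a5660522d4732394e364d1d383e1f282324422c5c3b555e4b543363293d345d3562182f51313f2226571c1a4c445b4f453c2b1e373a0015, false, 12, 1),
  (0x5624035420162e572f255958021c510a12311e21326006234755154008171d1446425061295c4a3e0b3a180d0c4c625e4d04350511344e632c41073936265b520f010e09103d3f2b48383037445d5f434f195a33272a3b281a2d4922451f53001b3c4b13, false, 13, 0),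
  (0x4e1f585d2049605f4d15162e332d0934545e100a06410045612a24321b351d37552b511c39434a47404b48633f44624c462c01212827230f0c033d17140736044f29311e503a5218130856220e1a59113c255c38052f3b5a533e575b3019120b020d2642, false, 14, 1),
  (0x41502e601e245d2000591a274623574c3449383e1951421d5803042c1362523f090c101848552a1b1c61324e39371f45350f263117144f055a024a0e1130440b063d013a0a4b5e223c5b2d292f08165c47365f63122840155443334d215625530d3b072b, false, 15, 15),
  (0x103e14604b0b5d3a2b1a5b116206461d45044e552d380c5e270d530547504948331563292c57023c222e0f5132390a521f1230262f5c1925593b03285f313f54562a07614358243d1b004f4a174d082013371e41360e18164c09354201234434401c215a, false, 16, 16),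
  (0x2f2940184845354d2d00563e1d3360191e20585b534a0107444726313f172c032105130d303a3b32431f4e1c110a160b3c245a462839275755631a3851542e5c081b120441023415595236105f0c4c4f063d232b61142237422a0e09494b625e505d0f25, false, 0, 1),
  (0x274b3e0c480e4a4c3c2645352b2a0439180b411901635e490d142953505a2c1047156033384f3b44310f5957345f160a21551b5b3761070811400217031a512406302058131f5c4e253f2f09124256285d003a52462d222362324d2e363d1e431d1c5405, false, 18, 1),
  (0x5f1a271f532a4f2d283b493319225d3c4b00435a1b161803552005470b57084144516010250631400e1c564a04624258074c123e012f374e2414395b61464d0a2b26480c353f3a1e6311291d32095e0f2e0d345c5950301723212c5236021554383d1345, false, 19, 0),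
  (0x62465f3f472206500f3103105a302e281a0d545712424b614c484544004a4e43404d6041632b0e142a3d5e4f5d23090c372d32271b29011e0a203c3e2f592c58193b531f3311341516240538211d181c5255043a560b265b1707085c3639511325023549, false, 20, 0),
  (0x139101d47084218374522063a071f293f0c33284b201336410b461225324e3848152e303e1c0e4c4435161e34210923400a3b575b5661195d5f114a433c2f2d52630d54603d585e4900625c5317031b02312b24270f26045114502c05551a2a5a4f594d, false, 21, 1),
  (0x213c013d12071c0f1b0e36302826023739312a323b093f430a0d4d480c1e19334c2f2e384952445f084f03421f511754611853104b625b5e2d0b2957562750233a45471d06002b1a205d465a145c13352c4134581625634a04404e24051115593e556022, false, 22, 0),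
  (0x51272100482652253544433832632c1b3c41591e531739561847224c31425e2a5f502e33203a080b0755131c02045c1d5b0f14013b464b1a230d371062164e54280e123d305d3415092d4d3e405a3f4f240a1f2b030c45574a61195805292f6049110636, false, 23, 0),
  (0x4b29385a4819173f5b2226522b613d46001d301b390d6005330c275349145e3e47152c63104f08184c06091a34405c045f230e1e5703562802215d422a37620f242041592e55541336315158124a433b11443a2d0135451f2f0b254e4d0a3c07321c1650, false, 24, 1),
  (0x40374b5553614f353b0805631b45115b294407140e5c002a234150471d1a283018622c3e36244c21191c43173d2f4a59563f1238395157130f0c461e030125042b22485a52313a3c0d0227320b5860064e333454094920421f5f5e2d4d5d1516100a2e26, false, 25, 0),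
  (0x2f01403147452449064c2a3e14204e3b3733161a124a29033f4826184417130721252c300d2b190c610a604f111f585a57350b4b0e27393c04415b3851095e591b085355630234155c0f50105f32001c2d233d3a431d221e425628544d46622e365d5205, false, 26, 0),
  (0x39463e3247284a00572645243a565527315a633b29412e4d301d0112360b131048154e20381c193f18525c3c345f581f2104081a1e43031b11400217075b51352d0d33162c0a596005442f5453422a0e5d4c2b0f4b06223d620c495e50233761144f0925, false, 27, 1),
  (0x32324424749412a2101284a0f0c1643321f2c272e40615020064629140813541d605556170e19301209051b5953585f48110d3b3d4b4d2d343e0a0b100207045d385a634e52355c2536395e3362451e4f261c441a57222b373f00512f4c31183a3c5b15, false, 28, 1),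
  (0x53020352290c0e571e19505627224f21232618080d583210115a151d1f1b2d2c30075554255d123e493c4541163762634d2a33242e393d5c0406433b4b1a005f0f0147424a361c314034463a3f5e6109512059350514380b2b4813442f0a605b174c4e28, false, 29, 0),
  (0x3d0a565e291358614d150c0e3548423952634a2132065b2f5414020d17332d3a5a314f223b0912111d4e405c1c3f6237300401080b05100f1603361b2c434b2a51252618553c5f45281f5344472b502e4c195d34241e3859603e57004620234927411a07, false, 30, 1),
  (0x123e4813364c0e565b50591e620d3140633d142604204d0b392e41384730104e150132251d57195d5f062261453b0a1c08491a00602334242b273f280f5a54034a4b43444211292d1b55523a171621052f5358372a3c5c0c5e093507331851022c4f1f46, false, 31, 31),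
  (0x17292d3a4f0a145b2f3d0756540d0233065a3b31223560442b52424a342c231f4b275518001348610938594e20050b514c1521584d630c39320e2e500f305c3610495f165d473e532a3762573c08040125401d241b033f461143451a191e1c262812415e, false, 1, 0),
  (0x53017474a0d130301484418313f252f2940262c210b060f155f5e4b5a4e393b615c551f2a10090e0a120414021108160c5b3c2d22624d5336523358631b4551543d4f3a56371d1c35324228435760381a2b203e59344950464c2324192e2741001e5d07, false, 33, 0),
  (0x4d2e18574a230b600c5e0d133e4c3a624716562f065241191f343021003c39285f1c253f583809154b5d35531d43081161363d2c50590f540217374e3b33635b1a2a402655125104075a05244f4644221e4810322d014920270e0345422b290a31141b5c, false, 34, 1),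
  (0xf2b13464a0352446130230b320e26595711556241170a423f012e06313d392434043a4c4e22091f211b0754514f08435f022a2f202d191a1d18123c28373b361e581656255d5b355c004d4540270d50145e385a2c0c4910291560630548474b3e53331c, false, 35, 1),
  (0x19480b274a60170d5f2e03525a15562d464325590a184b054c0c2b413e2a39450135260e3c50093f06335c1a5b40084f341d5862102c421e51135d3d24122802144e11553a1b36071c310f6316292320533022002f614938471f443b4d5e572132543704, false, 36, 1),
  (0x4012191b411550612009050e5949535f4830212a580846241d110401431a1e253f2826451c1406136054231756472955420d160b0a0f1007020c2d622c2f444f5a2e4a275231225718512b321f634b333b4c5b365c3e4e3d383439004d5d35373c5e3a03, false, 37, 0),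
  (0x472f40310149143e330624452a4e3b20124c371a1629482c0d4a033f3017072113442625185a600c155e4b505338632710611f19582b0a574f115f0b0f5c39555909411b0e515b350802043c34324654001d562223432e623d421e364d2d283a1c5d5205, false, 38, 0),
  (0xa2d4532011e29461003491422421b2b31270e2048113a4d25432f161c1f073c4a353b4e0b54600d3f5208575b346338134f091a62232c5953405117215f0f6100184c37265e554b05304736413d24585d065a0219332e56280c3e39041d12152a505c44, false, 39, 1),
  (0x345f0a5e1642543358604d4e202e5d102d06151f096331214f4c444a2757590e0d0f3b3c05003f401e5024291b283d372c4641454847624b61432b1a23193e382203013214305a1211532f2a0c363a5239255b55081c1817561307020451355c0b1d2649, false, 40, 0),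
  (0x281934304a2e001c523f213c1f1839585f255c57413d2d234601490d06294b15403e3b0e11221e43421d3a545d56363262330c0a092f4812384c1045470807372060165e4e535b356361440b132a3150024f1b5a2427031a172c5955042b0f260551144d, false, 41, 0),
  (0x482b3c2a4a593d3162492e005a2c5e2f30324e582d4c26040e271941050c4b0b0135391845501e460d1463125b133656403860571a2423205d345329151047330211255c3b1d373a4d06285516172109513f22610a52031b0f431c07444f5f421f54083e, false, 42, 1),
  (0x234f00174a1c4c214019593d61435c242a563b2f2634424418522b2d1f604b55273a5e2c29091e0e41084d2037163613015d11581b0a04025b3c1d0c0b5315385145324e391433633e054807250f2e1a54495006576203225f463147283f300d5a121035, false, 43, 1),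
  (0x43f3d0f4a31342e012b1c4c06464e0a17133924423c0d282c624f265a114b0752635c430c1a1e182d103e0233253616275b452f2257445137001460551d0b5d5429563b5e08384d351f2347325f591b1219090558400350300e211548492a416120533a, false, 44, 1),
  (0x251d040826461a401b1e2843240312013f194111453617555b563a5213025139180b5c0735542d00312059344e305f3b442e323d4223224d5d620a2f57582116062b4a0f4c1f092a3c374f610e470d10152c33383e5a296050274b05481463530c495e1c, false, 45, 0),
  (0xa542f0231333a144f3b070d5b22062d293d5e175a161e5124122521201c5758322e130359084363455d4c3560420c04274d5f40533628155c47194639610e0b1d0048183e5223624a5526502a10011f094411344e3f1b38373c2c2b491a050f304b4156, false, 18, 0),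
  (0x42610a522122083f1f435103171b094f54440f1c5f0c29394d4856323d35155e630e13584a1d4547334b013a0637101828142a2f5a2653620b122d40364e2c045b3b31020d551105165c25303c501e5d2b2460234c2000463827573449192e41591a3e07, false, 47, 0),
  (0x5319035021570c1e285622082327022652180d4f291241495820615f592a15304805091b405d454d323e1662113c1037630b3b1c464c395b060a55355e2d36142b4a440f134b0401073d42343138515a1a431d5c2f1f00602e473f2c25245433173a4e0e, false, 48, 1),
  (0x3c2d534b5f275d1f5a45491b4f001a281943332a3b10525e0b440e4818625b0d4d360930072b320a573a510c022e380f391e3103294246011420261c4c2f3f3723562150083d1d54120661174734413e2c58110416594a356063155c2555054e40241322, false, 49, 0),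
  (0x2e2f3c3d48002b593e325e302a4a2c5a2d584e623138194c1e21224d430c01330a3f090d122357202724415d1a603450461f47533b612954374428034216150f4f455f4b1b06110510140e406317523a5c0b021d5118561c35395b042526361307550849, false, 50, 0),
  (0x60162e064d4a23183a574c0d62565c3e2f0b130c47342d421f5f490a585d544e20150933104f27440055522b2c35174b2959633c310e3b050f215a5361515b502a32483d301402363837220739401924041e1a11414345031c46011d25283f0812261b5e, false, 51, 0),
  (0x355160140a564f43242742330c45043a161e085d63172f6159485e200b2b0513445b094e382a00214a2619235c1c403d3b18392e47223136505f3e3c0e41014b62574d060d371a3f340f491246072d551d1f2c025258325303295411255a151b1028304c, false, 52, 0),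
  (0x315a33070a54172d3b5e564f02290622143d0d3a2f5f1b254e58516310390512483f04453c550059203034361a46401c4450575d535261625c60372b133e0e181d381e0809264b194c0b35114d03424728272a0f2e24322c15214301491f164a0c23415b, false, 53, 1),
  (0x611f4f030a435f42445154170f210852071c09221b604a4945245a2f0c570511581906292b47004e63414c624b4d4046485c383a2c2e251d1a33263912371350283c3d0d043018345b1031011e155653235e550b5d3b322a16592d0e3527142002363e3f, false, 54, 1),
  (0x252717150a2d6056485a435f0b590d2e034604524a332035293b1f1b0238050124340821395300452f3e5b1d181e404d581a3c222a5d49284b4f30571126125c232b1c090641504c3f0c610e3d16542c365147103a443255144e4213315e07630f623719, false, 55, 1),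
  (0x495e5f160a423354581f2d60104e095d154d062e204f63312144274a0f3c050e3b4c0d59572c00291b373f28503d401e244b2b52553a3523181741380130111a36394604083e5c5b190225131c14432a625a530c22483247074556126151032f0b1d2634, false, 56, 1),
  (0x3d30493e4a4e2c482a0031592e3262585e5a2f3c2b4015014b46343b4d28230629110d0e19361b17421d43330907140435541c5f2025555b1a445d523a22561e101f0a16600253034f18270b451363371221505c3f0f39384724050c61414c265751082d, false, 57, 0),
  (0x7223d023b32360f371b010e3c39122a302126281c145e3a540a2d295a335b2f17560d064f1042444e51632c62471316554845492b2720031e46585f253f05042e004a3e5918504c401a3457240b151d0c4b0953434d1f523835235c615d110819416031, false, 58, 0),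
  (0x205d0e0b3b231415552d323653353e270216592a5e460861064d221c19455b570a4c12395f1d42542960400350241347171e002852433a2e623d18332f5825480c4f21260d510463315a075c4a38012b411b101a49371f0911440f05344b304e3c2c3f56, false, 59, 1),
  (0x245820511c351d372b4261392a1f41555d1b4e450013022f1e21560a16032e5954251257310c293d232c01143e1138263a154a0e5e075263484d272843490f47532d3b0b365a10304662223c445c08600506500440194f3309175b1a34184c3f5f4b0d32, false, 60, 0),
  (0x1149245a0a1f0c1960292f57454f052b58063f034a385d43153b32541b14634e3d0f12594653234d354b081d41095c0b5237442000225e304721550e07405b262a421c513962504c1348565f173c022c1a1e3e1001162d28333a2e043427250d31183661, false, 61, 0)]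

/-- The overlaps. -/
def fiveHSOverlaps : List (List ℕ × List Schur.Tails.Step × List Schur.Tails.Step) := [
  ([0, 0, 0, 0, 0, 2], [(0, 0, true)], [(4, 4, true), (3, 4, true), (2, 4, true), (1, 4, true), (0, 4, true), (2, 3, true), (4, 3, true), (3, 3, true), (6, 3, true), (5, 3, true), (4, 3, true), (8, 3, true), (7, 3, true), (6, 3, true), (5, 3, true), (1, 1, true), (1, 0, true)])]

/-- A conjugation. -/
def fiveHSFus0 : Schur.Tails.Fus where
  xs := [[0, 0, 0]]
  ys := [[1, 1, 1, 1, 0]]
  rels := [
    ([0, 0, 0, 0, 0], [], [(0, 0, true), (0, 0, true), (0, 0, true)], [(4, 3, true), (0, 1, true), (0, 3, true), (1, 3, true), (2, 3, true), (4, 3, true), (3, 3, true), (5, 3, true), (4, 3, true), (0, 1, true), (1, 3, true), (0, 3, true), (2, 3, true), (1, 3, true), (4, 3, true), (3, 3, true), (2, 3, true), (5, 3, true), (4, 3, true), (3, 3, true), (6, 3, true), (5, 3, true), (4, 3, true), (0, 1, true), (2, 3, true), (1, 3, true), (0, 3, true), (4, 3, true), (3, 3, true), (2, 3, true), (1, 3, true), (5, 3, true), (4, 3, true), (3, 3, true), (2, 3, true), (6, 3, true), (5, 3, true),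 (4, 3, true), (3, 3, true), (7, 3, true), (6, 3, true), (5, 3, true), (4, 3, true), (0, 1, true), (0, 0, true)])]

/-- A conjugation. -/
def fiveHSFus1 : Schur.Tails.Fus where
  xs := [[1, 0, 0, 0, 0]]
  ys := [[2, 0, 0, 0, 0]]
  rels := [
    ([0, 0, 0, 0, 0], [], [(4, 3, true), (3, 3, true), (2, 3, true), (1, 3, true), (2, 0, true), (4, 3, true), (3, 3, true), (2, 3, true), (3, 0, true), (4, 3, true), (3, 3, true), (4, 0, true), (4, 3, true), (0, 1, true), (0, 0, true)], [(4, 4, true), (3, 4, true), (2, 4, true), (1, 4, true), (3, 3, true), (5, 3, true), (4, 3, true), (7, 3, true), (6, 3, true), (5, 3, true), (6, 0, true), (8, 4, true), (7, 4, true), (6, 4, true), (5, 5, true), (4, 5, true), (3, 5, true), (2, 5, true), (3, 1, true), (3, 3, true), (5, 3, true), (4, 3, true), (5, 0, true), (6, 4, true), (5, 4, true), (4, 5, true), (3, 5, true), (7, 3, true), (8, 0, true), (8, 4, true), (7, 5, true), (6, 5, true), (5, 5, true), (4, 5, true), (0, 2, true), (0, 1, true), (0, 0, true)])]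

/-- A conjugation. -/
def fiveHSFus2 : Schur.Tails.Fus where
  xs := [[2, 2, 1, 0], [1], [1, 0, 0, 0]]
  ys := [[2, 2, 1, 0, 0], [1, 1], [2, 2, 1, 0, 0, 0]]
  rels := [
    ([0, 1], [1, 0], [(3, 3, true), (1, 5, false), (0, 5, false)], [(4, 3, true), (3, 3, true), (5, 3, true), (4, 3, true), (1, 5, false), (2, 5, false), (0, 5, false), (1, 5, false)]),
    ([1, 2], [2, 1], [(1, 3, false), (2, 3, false), (3, 3, false)], [(1, 5, true), (0, 5, true), (2, 5, true), (1, 5, true), (4, 3, false), (5, 3, false), (6, 3, false), (3, 3, false), (4, 3, false), (5, 3, false)])]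

/-- The certificate. -/
def fiveHSCert : Schur.Tails.Cert where
  p := 5
  q := 5
  n := 3
  rels := [
    ([0, 0, 0, 0, 0], []),
    ([1, 1, 1, 1, 1], []),
    ([2, 2, 2, 2, 2], []),
    ([0, 1], [1, 0]),
    ([0, 2], [2, 1, 0]),
    ([1, 2], [2, 1])]
  overlaps := fiveHSOverlaps
  fus := [fiveHSFus0, fiveHSFus1, fiveHSFus2]
  mu := [[], [0, 0, 0, 0, 1], []]
  combos := [
    ([(0, 3), (1, 3)], 0),
    ([(0, 4)], 0),
    ([(0, 1), (2, 4)], 0),
    ([(3, 1), (4, 3)], 0),
    ([], 0),
    ([(3, 2), (4, 2)], 0)]
  tau := []
  tauCombo := []

/-- The codes of the generators. -/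
def fiveHSGens : List ℕ := [
  0xe124c46564d220b5f06611c3920575d3b0845190a6236480d133d403e503163141e2659043009075e10184b3c5344522d37585c4e1d54113f2f34022905552b383335003a1b1a514f5a172560322349412a0f280c21150147424327162e4a03241f2c5b,
  0x322431565728295a554645263e3947273a3b4a006303025854121e1c2e2013160a212f51591d1b111015302d2c1f07535201411a04190843403f36384d4e0b4833343c180d35170544605b5c5f0c22422a2b142349375d3d060e4f5e0f5062614c4b0925,
  0xf2a0517555e1f390b304e4a475f064b153b615c072b275102312c59501a03141b4f2404262e3c32102257380c5d0a3a5249623e48002d3d2f580d285412463f3353636029431945111d25565b4234094c41012337163621204435080e18131c404d1e5a]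

/-- The codes of the conjugating elements. -/
def fiveHSHs : List ℕ := [
  0x493b160531012f33121a144720243e40372a064e450d210a3c27440f3459570e4f4a5e635f3843221e192e094d3d0c483f2346360817264b0b3a41002b5d5060351c421318615c56625b513904292c11155453302d321b1f020307582825105a551d524c,
  0x5d4c125f0b4d22465620080e6145395b06573b0a193662432e4109164e512a5c1a3c0f0459421e231d0032543d3a28522d373513404418342101582b1f24551b3f2f1107304f31260217034a254b10336314505e380c604947530d5a3e48152705292c1c,
  0x520b55261c320e614a41463062032b0f4411575923390756351d36255104183a08025b175c48154d420c58635e0a293d21102e4e471201383e202c091e603f5014165431370d0506344c402f24221b275a5f4b3c5d2d435345283b4f1f2a00191a493313]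

/-- The order of the products by code. -/
def fiveHSIdx : List ℕ := [89, 28, 107, 10, 51, 80, 21, 123, 34, 52, 56, 15, 33, 94, 112, 17, 63, 86, 45, 124, 82, 26, 3, 110, 64, 25, 91, 104, 22, 68, 103, 1, 57, 39, 85, 32, 101, 78, 14, 60, 19, 106, 65, 83, 37, 105, 59, 46, 77, 23, 120, 13, 92, 74, 36, 113, 67, 95, 49, 11, 50, 4, 47, 93, 116, 7, 114, 35, 53, 76, 5, 71, 102, 48, 84, 75, 72, 16, 118, 29, 96, 109, 30, 73, 2, 27, 55, 9, 121, 98, 31, 8, 69, 87, 115, 88, 70, 42, 111, 24, 81, 58, 119, 12, 40, 54, 41, 18, 100, 97, 44, 62, 90, 6, 108, 117, 20, 38, 99, 61, 79, 66, 43, 122, 0]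

/-- A program from the two generators. -/
def fiveHSSlp : List (ℕ × Bool × ℕ × ℕ) := [
  (0x636261605f5e5d5c5b5a595857565554535251504f4e4d4c4b4a494847464544434241403f3e3d3c3b3a393837363534333231302f2e2d2c2b2a292827262524232221201f1e1d1c1b1a191817161514131211100f0e0d0c0b0a09080706050403020100, true, 0, 0),
  (0x2f2940184845354d2d00563e1d3360191e20585b534a0107444726313f172c032105130d303a3b32431f4e1c110a160b3c245a462839275755631a3851542e5c081b120441023415595236105f0c4c4f063d232b61142237422a0e09494b625e505d0f25, false, 0, 1),
  (0xa542f0231333a144f3b070d5b22062d293d5e175a161e5124122521201c5758322e130359084363455d4c3560420c04274d5f40533628155c47194639610e0b1d0048183e5223624a5526502a10011f094411344e3f1b38373c2c2b491a050f304b4156, false, 3, 0),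
  (0x281a0d10312c16012725333a343c183602043e2d1e470f49033f545a305f575012620622461f432421414a15232a0c42325c0017384e511d602f521c5819394d09593d5e135d0b4c56200a2b483707534b3b0855404f1b110563140e264429455b35612e, false, 4, 1),
  (0x2a19285d5a3c1f4f534349222d1b4b271a3b455f000c02585c3d2e1204151d3e243906505609212f2c3507161805375e5101480d1e0a384c4d3f36174e401442342531103a2008294760545b632b0f410e03230b4a30591c113257552652626146441333, false, 5, 0),
  (0x5402a20121b0930412158505f590e531903611548371a4e013133243b164c452f14063e47342c3f3c440f1f4b112b10384f632800541e29423d270d0a4a575e2d435a5d226023620c4d2e46325b0235555c1808070425171c511d0b2636391356523a49, false, 6, 0),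
  (0x114a056024593404352c4e3e15255541405c1316632b190a4f5a492f031f29613f5706450c2d3c3d1b5202090e1c5b5d1e30322a482e00625e31532854071d105f211220504d18393742335651461a440b014b230f3b430d17384c082627143a47362258, false, 7, 0),
  (0x273e46244c2b1a1e4959342338202e605d504119313a26453b4a63473229565a39552528443c4f2f22376218515b1c3f5e21160d0f0a5f0e054d1f615354300b0c5c13065210025803110812174e48362c2d422a35434b143d041d3301401b15090757, false, 8, 1),
  (0x5153005263384435483c26254143361e272c1b32215b60615e5c575a5d625f504f545556580b2f054c094e2b201417130a1a123e19110d02303b2e160f2a041c2349244634032d40310e4a153d083a221d45181037470c1f4b3f2942334d390728010659, false, 9, 0),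
  (0xd4d250863295b3a0a573844103f46115213341e603b07335647532128125f155c40364316222f5e5a0631022d3d17144f3049321f37612320000362502e0f1a1d582c1b55091c4e595d5142244b2619013c0b0e3e480c18390535044a45274c412b2a54, false, 10, 1),
  (0x6145444b63353b264f53295b0e051b370814551107004c4a43484d6041495f42474e463f62192f56212a59231c24173d5c20581e183e331d2d250912150350300116133436061a3154280d042c39381f2b57225d320a0c0b275e3a0f513c525a10022e40, false, 11, 1),
  (0x240361066005190a1f2f4a3f110c2b4f45575a49581708152013404714231d5556504642540121253502383b1b27393433262c44070d18313048371e3e323a3d0e53634b5b282252002d4d105e044c2a0f431c1a594116120b5c5f5d51094e2e623c3629, false, 12, 0),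
  (0x27322428470c01412a21154249160f1f03432e232c39453e26632956573b315a253a4655000e3548053c4c192b0b044b180a5e61584d07523d134f440d595f34112f60063f2d1c4e173040625c1008025d201b223814531e12331d1a5137503654095b4a, false, 13, 0),
  (0x7374210471d390818290c012233064d284b3f1f451336515514322c545e3162634e0f1644023526565b17521c5c040b253d2f231e383e112b242d3b5a4f0d0a5d00432e463c344c4a57271a6012155809210e30612a531b5048415f402003054919593a, false, 14, 1),
  (0x5c4f073c2c33022a583551161f5309183721055e2f04285a3d433a634b52113f260d0f624a5d56241d1915390650122e3e08604245271e4c0a144d233861410b2229471001570e03132b3249481a365b5f551c341754003b1b253130402d4e594420460c, false, 15, 0),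
  (0x2a2f40244c3e20141612051a0137314906474e33455923355626195c3d211c4a6100174f4302530b0e3236152d5e55275d303c0d1138575a255b282239070f1b294d4b34461f54445f0a083a632b50582c09032e48180c1d13416042621e04513f10523b, false, 16, 16),
  (0x1445620b5a5d105b1a554e2b4606603a2d4b043e115122125361322a56470343070c482f2620371b540850361e330938024224001c391f3541582329154017134d283d2e5201183f2c2530195c0a5e164c31442763493b0e5f0f3c0d4f5759054a34211d, false, 16, 17),
  (0xb0f361a430d23473a3b274446220814264b01381716622e5c5f593c125d1c042a0941514e575e4a56064d3e130c18602f0e0a6331494f0534215b6119394520503d481e402b37423524003f330353021032551115525a30282d2c1d0754251f1b29584c, false, 0, 0),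
  (0x4f544403432c16532f590d23112d1e491a60401462211f0751520f171b0a1c3f5f42082261025e5c3c5835053733180c2a343d3830152e5013362b5d045b190e104e4b014106204d4c120b1d48282731293b5724633a5a55254a474500322656463e3909, false, 19, 1),
  (0x335b4f06172d023a315e0722145a292f543b560a3d181a04344b095f600550405c19083f4c103c362c3e27161e2528012e534844620b304d0e5249381563470c115943032312572621130f464a1d1f5845513720351b4e5d552a1c24002b42396132410d, false, 20, 0),
  (0x302b221d171c181f2e092d02202a030b0601232f1a5239003f1b5b3d614850464b26295a38583c345f41214d574a28255c0e590a5d3504111e4f120540491553454c3b56083e0c270d60332443550762325e101344314e3742363a470f51542c14166319, false, 21, 1),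
  (0x4510255173a52075c5b1c18133656351d25080b394f2c0f5a312b1a145950241b27032a05623c3f3d630d110c43284a4b1e4c2f3744004557223e484612400e3238012329415321196130473b422d5d160958600a2e4e1054341f15335e065f204d4926, false, 22, 1),
  (0x5e1842171f4f2d4b2b3a5260342344554a29352c225f332a2e5139204c504731215636485d3c5a1a491945533b28431b57380b100a0f320c024159243e461e1605250803630e0d2614041501541c374d5b62612f5c4e58063f074030091d3d13111227, false, 23, 1),
  (0xf0952541707221c1b511f4f613f080a424303445f023d30365c5e2c133850152e0d233459373c2a391226320e01283b310c0535582f33165318634c474124574d484a2956491e192720004025063a10112b5d140b4b4e621d5a2d46045b551a60453e21, false, 24, 1),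
  (0x1410f492c3f374b103c3034444e111b092b1a38052842470c4a212e433216032a242315274d391807453a22081d0629331c25525f005819575c0a352f0b2d3b615117544f205d5502535e605a403d1246360e1e2613484c6231501404630d3e595b561f, false, 25, 0),
  (0x1d0b01202e4e4d13123947153848461041363e322506092f1c171f2a2b22191a182d23030261075c3f5b3d3711624054584b5a0f055e5f553b4a1b5200265029443c2c4934530e0d2857215931604245140c085d3a4351354c33161e040a245627634f30, false, 26, 0),
  (0x5f0a15602e160642581f4e4d5d33495e20543410094a560403430b25275a1959170d46485245071c2a4f28550e314062183b3c32353a2f44110153221a1b004b1402363e235b293d302b1d1e2c4c4705633961570f125108245c1350210c413f3837262d, false, 27, 1),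
  (0x311b5f5b2533451205070448105163580a393f5a3c40201a3b362d17545544341c00465930142a011637470649244c3e2f422c15091d353d4b435e323a0f13625d1f2e604d2b61414a110b385c1e564f50030e29282702220818195721530d26520c234e, false, 28, 0),
  (0x3553481e251940562f2d33452918601d5b3e4d582043262159271b3c522c443836416351324f2a3b17234a3d615c4c241c4b1f5a22281a5d495f2b55345e3a425030393f463762474e5431572e0804090c0714111505020e0d0112130b030a1610060f00, false, 29, 1),
  (0x1a034508251243041c1b194011013f281e24461d265f160b51055320101f44572747601855092a593c0f4e5d622e4c5c364930580e1521506148372c382b344b0c323e4d6323424a00523513390d3322062d4f545a2f02140a3b563a31075b17293d5e41, false, 30, 1),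
  (0x2e2b1a232001092f222a0b181d02061c032d171f304c1e38493e4127245d504659346057000c3c48123d33433f0a0d4d2104394526350e4a4b052858155a565c111b250840524f5b5f6153293b13160f3a5162424e10322c143644543137475e55076319, false, 31, 0),
  (0xe37181320444c162141010942360835234d401c1e055e3157102b30553950293e5b0602580f3c4927635f4a4f3b0d0a594b1b1f2c4e38113f1a525d462815043a002d17603d5c3319242e5425140b26072a0c614522326247482f56535103121d435a34, false, 32, 1),
  (0x38510914202f050b592b444c6148174e130a60355e1a12530222371e1d1b5054103308365d263c57305a19115c250d3b3e3f001c6245313a4f183d392952464b07584d400663045f34550e562d47012c43410f241f21320c034916152e2a2327424a285b, false, 33, 1),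
  (0x255238631e4826212c3c5336353243595141271b000d13293f4d5b100a113a6057460854340730182f4a010517034740310b2d095e0e625f4b224e1c451f163b612b20144c550f231a4f37424956125a15025c04191d58390c3e50242e3d33285d2a0644, false, 34, 0),
  (0x1641052555101f205f185103470b57532708451a4458154e34132c043e5c4a6335112459402e09425e4d0633495d0a542d0c6250481d521e3f2b0d233a4c562f384b145a294319614f0017465b32023c122a2128370f360139071b3b0e30311c26223d60, false, 35, 35),
  (0x322431565728295a554645263e3947273a3b4a006303025854121e1c2e2013160a212f51591d1b111015302d2c1f07535201411a04190843403f36384d4e0b4833343c180d35170544605b5c5f0c22422a2b142349375d3d060e4f5e0f5062614c4b0925, false, 36, 36),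
  (0x421324064629235560470340205056150854611d144a342b3a31013f392e4c0a0f3d1c044e182c44275e001f35524f2d4b21482505300d072f26333622515f2a02381b193b095c59430b1a5b5a0e280c5841164d321e10375749115d633e456212533c17, false, 18, 37),
  (0xc4c135747234d600b564a2f2e3e065e0d3a621816613841082421265039120f63373f0551193543155d1d52094b111f533d2a1759003b4f1c40023328045a5834362c30543c5b4e075f251a5549290e2b480a224201271e4632441014200345312d1b5c, false, 18, 38),
  (0xe124c46564d220b5f06611c3920575d3b0845190a6236480d133d403e503163141e2659043009075e10184b3c5344522d37585c4e1d54113f2f34022905552b383335003a1b1a514f5a172560322349412a0f280c21150147424327162e4a03241f2c5b, false, 18, 39),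
  (0x51443a373114470732542c1655635e4e104213360f2f4526224f1a1e5b00572b3f4c183c1c5343035a61561d0b480c2a1260592d11404909230d5d5f5052585c4b46043e06414d4a2e30280e3d05333835251f2017271b08292401390a3b022134151962, false, 5, 1),
  (0x485251411e6353273843263c361b353244252100590c10506004623f421d09130358182b2e4b5a0d141533475e29053e49073d3a0f28114a5c4f4e2d4017012a5554313716301f022f231a34240e456139220b4d565b465f081257200a5d4c191c3b062c, false, 41, 0),
  (0x115d3c0e1e570c45496263534d123728413e1632104f190a2b5b52591c3d09340402351b2d615a603f062f4a1f240529035c54005f5650555e51301d134e4007392e252118152a332c4248203108260f3b434b233a38460b4c0d27011a22441436471758, false, 42, 1),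
  (0x244e1115591261380f5a0a1b32463b495d43143d540541135c2558043e4a5516604035342c393f515747260c374c08215045313c10485f33075b2800563a27294d621e0e53424b444f5e52360d201906012b1f2a2f1c2e1d0b0309231a3002172d221863, false, 43, 0),
  (0x5f301b2059090519505812612a030e4815215349415b171a341c4e542d31553625443b4600063f5c04184f334b0d084c6007623d1d2f134d3711424a16285645012c431435472926633e24231e0b0a10225a395e3c0f2e1f02513827522b5d57320c3a40, false, 44, 1),
  (0xd285f475403060f103f1a46492e2250305a5731620815160743402521334d535c563b3663010411090c0a050e020b1413191e1b41241d26451c483d2f3c384c2a585920613e395d5b374e325123171827344b294f2d2c4a1f60555e5242443a002b3512, false, 45, 0),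
  (0x23c0d3e252e012d18041636312c271028343a331e0b302f1959125c5a05265711383b535b2a091c032b1706221f23201d0f515f624e415d4c43501b244f5514493f544746374b44084540006032150c5e070e390a21583d4a134d29524856356342611a, false, 46, 0),
  (0x41483632254d0b151d122e013913474e3e2046103043355253213c1e635126005944272c1b0c09195c61085d4b60231f114c3f333d0a2f49220d37055750240f5e5b343a3b2b14171a5a0229544a166242042a455f18580e561c2d554007280331064f38, false, 47, 1),
  (0x2f07014a252d4316113c4d0b451c3a0a321f3b4e350d03402c184830313f262921174713056209531e4f1a491454236059225b100e5f525e4b362b510037574c421b204627610f083863415534562e3d06120c5a331d582a2819152402043e5c395d5044, false, 48, 1),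
  (0x54372f61301c621d3d0940134e58061107125c3f5b233200222044211f495e3b5357472938421e362d5d2e433a2856465216340135410e084c180a105f331560453c254a0b630c3e0d4b48391955034f242c140f1a311b512a59265a022b17500504274d, false, 49, 0),
  (0xe2b13553026230352441c620f594a4161460b11321850022931375b05345e39203e0658104f1e2221270d080c195628534c3c3f511a00453a2f63493b0a5f162438125c475d602e4d1f545a252a40350409424b013d1b1417361d15482c072d4e433357, false, 50, 1),
  (0x2c622a301d1840533726234b365c1a55284741502f2d48583d2b324e3c5e5a312e4a5949351e295b334d4560255619203a3811140102240c135d3439633b4c0410460b0627160d57050e1512171c5143444f1f3f521b420722035f540961210f080a3e, false, 51, 1),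
  (0x2563002732363552511e4859411b43532c44213c385655393a463e3128452447293b4a5a57045b131d081c185c07170b02401262500e140d4c3d1a11013f03194b37302a23054f612f0c2b0f22152d335f5860164d4e103442205e1f545d2e0a49090626, false, 52, 0),
  (0x325260140071744210531484a2f292c0d473013181b431c08450412112419281a1d461e410a515f4f1f610f52542242095a58633c4e3310395b0c600657492b3a5c623d4b2e380050344c4d372d1402325927155556160b3b2a362353350e203e5e5d3f, false, 53, 53),
  (0x49033f065a542247302e123146501a0d1028625f0f2f29611f240a5860192b110c4f45054a2021323823004d4453373b5e1e5925135602161c5134275d413e4c0852635b3a0e18263c0b39555c1433094048012d431b15421d3d074b2c174e2a04363557, false, 53, 54),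
  (0x1603455f5510271a2560514147570b081f530520440428312d62425806564a074f0e2a1c402e1e2c3a0d3e3301023c36340c131d3f505209482b4d235e2f5c4c222937394b211926351700305b0f5d0a12244315143254495a631b3b11464e5961383d18, false, 18, 18),
  (0x14042b5a1a2d5d0b3e06624560461d4b3a104e5b112a275902034f311750242c0f1b512605560e162315205e353632533b4240184a5f2807581c290854134761523444001f633941375c57253043223d484c0c33091e0d0a2e493c3801192f123f4d2155, false, 55, 56),
  (0x92a1c2e0b02221d2017032b0619181f232d2f3001515d1236040f595c5f4c16433c62414e501b1408335b5437531e10384f0555245a272c3126344b0d40603f283b11573a4900454447463e250c52215861425e070e153d560a324d353913484a29631a, false, 55, 57),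
  (0x75126561d3652185b5c041c1739553a0802132535622248532a4312475a61140c3203452f5f3c094b5e300d44100e2d4d0f4e1a4c2e5d1659413b1f1505064a27380146230a572b116019203e422863313f4f542c1b3321503d1e29370040582434490b, false, 55, 58),
  (0x4f04400618334b191a5b053f5c5060080d344c170945282a2d580731565562160e424a031c5a1b3c535d003b4327491f226351251239100a4e4854525e595761153621474d0f4641440b302e200c29142426113a352c023d3e3701231e1d2f2b1338325f, false, 18, 59),
  (0xf2a0517555e1f390b304e4a475f064b153b615c072b275102312c59501a03141b4f2404262e3c32102257380c5d0a3a5249623e48002d3d2f580d285412463f3353636029431945111d25565b4234094c41012337163621204435080e18131c404d1e5a, false, 55, 60),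
  (0x493b160531012f33121a144720243e40372a064e450d210a3c27440f3459570e4f4a5e635f3843221e192e094d3d0c483f2346360817264b0b3a41002b5d5060351c421318615c56625b513904292c11155453302d321b1f020307582825105a551d524c, false, 41, 1),
  (0x17292d3a4f0a145b2f3d0756540d0233065a3b31223560442b52424a342c231f4b275518001348610938594e20050b514c1521584d630c39320e2e500f305c3610495f165d473e532a3762573c08040125401d241b033f461143451a191e1c262812415e, false, 1, 0),
  (0x53017474a0d130301484418313f252f2940262c210b060f155f5e4b5a4e393b615c551f2a10090e0a120414021108160c5b3c2d22624d5336523358631b4551543d4f3a56371d1c35324228435760381a2b203e59344950464c2324192e2741001e5d07, false, 63, 0),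
  (0x111b05374b3f103438090f1f2c491a01302b414e3c0829635b4f0761401453260e45553b35540a520d1e60132546573a4d0343172142221c515f2f2d6259231631484a47183220270b365e004c2806122415021d045a3d58500c393e19335c5d2a2e5644, false, 64, 0),
  (0x22331f284b3908064d073f101d0c4742373a1801295f5d193b5a1b3c2a4353004f271a492d120a5b61560b1c204c57460e51484e5804633125053214262f620324352b41551e16604440113e4a500f212e09543617383d025c5234235e15300d2c135945, false, 65, 1),
  (0x4c2f221e3c0c1238210a1949013d2e4d33090d4348573726512b454f3a1c31185b621a004424610539130f08475c504163064a1f29115860035a424e041734461d074b28104054305f251b2c523e5d56233b20160b2a3514020e53365e3227592d15553f, false, 66, 0),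
  (0x5c174c404f3d242a56612600433523212f3b591c4a503304064b3f5b0908600d05341a185f1d395a0c155d122e023e2858385222481b2930462b4d1f110b5341010a3c1e492520275703452d0e2c3713365147540f3a074e146331165e42625544321019, false, 67, 0),
  (0x20b5c255b351d3a133904181c07365617515508523e2f11383c19053b1230595a531a0d57010c2b3d32372423142c1e292a0e4c4a454827414b21221b0f312843614f400003476250463f44632d331516062e205d090a1f4e5860545e4d34105f424926, false, 68, 0),
  (0x484d182d5b603e332919351d20584045251e00562f4b105e0d090b525f0e30443c62360722150c380549502747632c145a4161081f5d1143235c031259211b2a165751551a322837263b02544f4e044a423901464c130a2e342b3a313f06173d1c240f53, false, 69, 1),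
  (0x11061d4e5b3a4b045a0b603e462b555d2d141a45105c3d3f07134d2f1c61305409374058124a0c0d520f2643284f2c633c2357562e4c5e164718320e4403594142221e0036492a50535f48315134351f2419153b08290a011738331b0239250520272162, false, 70, 1),
  (0x4f0311492f2b4a291f0c3f58450a245a06190561572c2d44231e62091443161a0d594054534252183a27354b551734005e04511d10482e5041135d564c083363460b5b4e3e5f15255c474d2038313d0f1b07282a261c220e013c303b0232372112393660, false, 71, 0),
  (0x2e3258312f302c3d5e622b4a2a3c4e4849003e5a2d132102541c0357125116201e25240a560f522309365c50153834170d410b610e26444655115f431a5d4c041b5319054027633560144f3b5b013f10390c42471d1f2228371829334d07063a454b0859, false, 72, 1),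
  (0x385d2e27573c0f1f1052020a5a22395e320c3a510b34491a4119591e0050463e234c2420601b0911304b3f2c4e370105443d5b582d4f0e35041c4861261d29172a622f314a14420613550345183b2136335415635c125343280d16474d5f25085607402b, false, 73, 0),
  (0xe5f0a3b5716342144593c0f630d314f27054a5e491c084d20125d0b565b464519063922613609411e4013354218013723046251435c1a2a4e2e14503e48263d33600c3a244b173f2b0038472f28022d07521b555810531525111f29035432305a2c1d4c, false, 74, 1),
  (0x18480e4b0b0d36102d094d225e5307445f52305b6201273e040c4c1905352a4a412639452b331e2e162c02343125283a1a212f0a4938433f3d124f515c581f376359573b0f001b321c4e5d5a114708402920421713566050152346550314061d6154243c, false, 75, 0),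
  (0x431422470b4601081a4c0d3617233b384b3a0f4427121d0345564862612f2a5a0c32075351401e0419241c3f1b112825413d595b50133e63310e00354a4f5c21292b5230392c37023c05185557154d495409334e0a2d6042062e101f5d205f165e345826, false, 76, 1),
  (0x3e2036150b10124d414846014e2e3013472539381d0e165d532d14275e592a5556023b2335491e4562583c63375728110c312b44420a03291b222c2f5a004a3d54513a0f0724211c2661431f52060d50344c40055b1a60335f04085c18094b19173f4f32, false, 77, 1),
  (0x30901060b080e0d0c14101205040f0a1511071316221918231a201d172b2a1f2d1c302e2f501e53274f262921522857561b5138335b5d5437362459552c5a31343525393b583d3c325e3e5c3a5f46423f484961444160404b454d4a434c47624e630002, false, 78, 1),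
  (0x5d4c125f0b4d22465620080e6145395b06573b0a193662432e4109164e512a5c1a3c0f0459421e231d0032543d3a28522d373513404418342101582b1f24551b3f2f1107304f31260217034a254b10336314505e380c604947530d5a3e48152705292c1c, false, 79, 1),
  (0xc390b2b3c225752025e2e51385a103a0f321f5d0a1826190e484c2a4b3e05014a454104355056210d2953230828031e4f47333617003142205f146349152c60463b431a442455251634591b2d3f62061d5c13374d123d61302f1c11075b09584e544027, false, 19, 0),
  (0x315b513f3c1c18624f4c2257372f1a002b1e443a265f58070412390a4e33051b4825105a6306560e2a401642552d03284a203b5d614d1946080b243e011449471d35321f41296053274b0c1143302e17545e503436023d130921522c595c0f0d38231545, false, 81, 1),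
  (0x2d1431290a2f06021756075a3a3d544f5b5e0d333b032b01203245481e4246440e49101b271d2a0b1c232e181a09301f19624351260c61534712005d4d365228374c3c3f574b500f5f083938211158402c045560164e353e134a053459242515635c4122, false, 82, 0),
  (0x61245a110a05035819452f06604a3f0c291f574f2b1215591b4e143b63434638320f543d5d402a2048415f53502130090e474c333e1601371a314b4244004d622c275e0d1023282e221e2d343c1307265c561d0851173555250b025239045b1c3a183649, false, 83, 1),
  (0x10406130a0212070e140503080b0d161109100c15311c393d17242b3a4c46344e2e3f4a42262a1b3b362237283c3021321a274f5551592c505a2343384b44475c5d1f575441625f496361525e252f3e1845401e3319351d5b20584d2d5629486053000f, false, 84, 1),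
  (0x595603250a58312f322402121e205751132154161c5a482d4a19041560274652175f0d0b433e2a3d2b00492c625e303c4e505d0c1d33395c2806414c3423381a184209103f3647220f3a014d1f5b0555531426634f0e3540291b07446145113b08374b2e, false, 85, 1),
  (0x3945125b0a075a054e045831631b1033253c3f5148063b610b0e561c085d464d192257204c552a4a154b0f5c471f305e17284216404f2d186203362752413450534321540d001a492e6059440929021d37243e3a0c323526113d2f380114132b1e2c235f, false, 86, 1),
  (0x1f4139001c1b55321d2a61205135374e45242b5d4230255228215f193c5c183f4a34574d2e531503072c025a101129542d05091248594049500e33164f0c2f5e63040a5b31603e130662561e3d443b4b380b471a0f0843272617463a013622234c140d58, false, 87, 0),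
  (0x403620441c46303b2d5f1b551a175b590054314e250e23014d0841424c09181e21133735164b1528190d06493e3d29114a50045d270f52631039605c3f334f05382e242b572c5e02583c1f3a0a266148142a5362121d43472203322f560b4507515a0c34, false, 88, 1),
  (0x520b55261c320e614a41463062032b0f4411575923390756351d36255104183a08025b175c48154d420c58635e0a293d21102e4e471201383e202c091e603f5014165431370d0506344c402f24221b275a5f4b3c5d2d435345283b4f1f2a00191a493313, false, 89, 1)]

end CfsgLib.TailsData
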