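import Cfsg.Agent.Lib.Tails.HSTwoEqsFirst
import Cfsg.Agent.Lib.Tails.HSTwoEqsSecond
import Cfsg.Agent.Lib.Tails.HSTwoEqsThird

/-!
The equations of the certificate for HS at two, computed once.
-/

set_option autoImplicit false
set_option maxRecDepth 100000

namespace CfsgLib.Schur.Tails.HS

open CfsgLib.TailsData

theorem twoEqs_length : twoHSCert.eqs.length = 47 ∧ (twoEqs.map some).length = 47 := by
  constructor <;> decide +kernel

theorem twoEqs_eq : twoHSCert.eqs = twoEqs.map some := by
  have key : ∀ l : List (Option (List ℕ)), l.length = 47 →
      l = (l.drop 0).take 12 ++ ((l.drop 12).take 12 ++ (l.drop 24).take 23) := fun l hl => by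
    have h3 : (l.drop 24).take 23 = l.drop 24 := List.take_of_length_le (by simp; omega)
    have h2 : (l.drop 12).take 12 ++ l.drop 24 = l.drop 12 := by
      rw [show l.drop 24 = (l.drop 12).drop 12 from by rw [List.drop_drop], List.take_append_drop]
    rw [h3, h2, List.drop_zero, List.take_append_drop]
  rw [key _ twoEqs_length.1, key _ twoEqs_length.2, twoEqs_first, twoEqs_second, twoEqs_third]

/-- The check with the equations given. -/
def combosB (c : Cert) (vs : List (List ℕ)) : Bool :=
  (c.q == c.p || c.q == c.p * c.p) && c.shapeB &&
    sameB c.q (smulV c.q c.p c.tau) (combV c.q vs c.tauCombo) &&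
    (c.combos.length == c.rels.length) &&
    (List.range c.rels.length).all fun r =>
      let e := c.combos.getD r ([], 0)
      sameB c.q (subV c.q (addV c.q (unitV r) (c.muV (c.rels.getD r ([], [])).1))
        (c.muV (c.rels.getD r ([], [])).2)) (addV c.q (combV c.q vs e.1) (smulV c.q e.2 c.tau))

theorem checkB_of_eqs {c : Cert} {L : List (List ℕ)} (he : c.eqs = L.map some)
    (h : combosB c L = true) : c.checkB = true := by
  have hsome : (L.map some).all Option.isSome = true := by simp
  have hget : ((L.map some).map fun e => e.getD []) = L := by simp [List.map_map, Function.comp_def]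
  simp only [combosB, Bool.and_eq_true] at h
  simp only [Cert.checkB, Bool.and_eq_true, he, hget, hsome]
  simp only [h, and_self]

end CfsgLib.Schur.Tails.HS
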