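import Cfsg.Agent.Lib.Tails.HSData

/-!
The equations of the certificate for HS at two, listed.
-/

set_option autoImplicit false
set_option maxRecDepth 100000

namespace CfsgLib.Schur.Tails.HS

open CfsgLib.TailsData

/-- The equations. -/
def twoEqs : List (List ℕ) := [
  [0, 3, 3, 3, 3, 2, 0, 3, 2, 0, 0, 3, 3, 3, 0, 0, 0, 2, 2, 3, 3, 0, 3, 2, 2, 3, 1, 2, 3, 3, 3, 2, 2, 0, 2, 0, 2, 3, 0, 0, 3, 0, 3, 1, 0],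
  [0, 0, 0, 0, 0, 0, 0, 3, 0, 0, 0, 0, 0, 0, 0, 0, 0, 0, 3, 0, 0, 0, 0, 0, 0, 0, 0, 0, 0, 0, 1, 1, 0, 1, 0, 0, 0, 1, 3, 0, 0, 3, 0, 0, 3],
  [0, 0, 0, 2, 3, 1, 0, 3, 1, 0, 0, 3, 0, 0, 0, 3, 0, 0, 3, 1, 2, 0, 3, 3, 3, 2, 2, 0, 3, 1, 3, 0, 3, 2, 2, 3, 0, 3, 0, 1, 1, 2, 0, 1, 3],
  [0, 0, 0, 0, 2, 0, 2, 2, 2, 0, 0, 3, 0, 1, 3, 3, 3, 3, 1, 1, 1, 3, 2, 1, 3, 2, 2, 0, 3, 1, 2, 1, 0, 2, 2, 0, 0, 3, 1, 3, 3, 1, 1, 3, 1],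
  [0, 0, 0, 1, 3, 1, 3, 2, 0, 0, 0, 3, 0, 0, 0, 3, 0, 0, 0, 0, 0, 3, 0, 0, 3, 2, 2, 0, 3, 3, 3, 1, 2, 2, 2, 3, 0, 3, 0, 0, 1, 0, 0, 3, 0],
  [0, 3, 3, 0, 3, 2, 1, 3, 3, 0, 0, 0, 0, 3, 3, 1, 3, 2, 3, 0, 0, 0, 1, 2, 3, 3, 1, 2, 3, 3, 3, 2, 2, 2, 2, 2, 3, 1, 1, 2, 1, 3, 0, 0, 1],
  [0, 0, 3, 1, 0, 1, 0, 3, 2, 0, 0, 0, 0, 3, 3, 3, 1, 0, 3, 3, 3, 0, 0, 2, 0, 0, 0, 0, 3, 3, 0, 3, 0, 1, 3, 2, 2, 0, 1, 2, 1, 3, 2, 2, 1],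
  [0, 3, 3, 3, 2, 2, 1, 3, 1, 0, 0, 0, 0, 3, 3, 3, 3, 2, 2, 0, 1, 3, 3, 1, 2, 3, 1, 2, 3, 3, 3, 2, 2, 3, 1, 1, 2, 0, 0, 1, 1, 0, 0, 2, 3],
  [0, 3, 3, 1, 2, 0, 3, 2, 1, 0, 0, 3, 0, 3, 3, 3, 3, 3, 3, 1, 2, 2, 2, 2, 2, 0, 0, 2, 2, 0, 2, 2, 3, 0, 2, 3, 0, 2, 3, 2, 1, 0, 0, 1, 2],
  [0, 0, 0, 3, 0, 1, 3, 2, 2, 0, 0, 3, 0, 0, 0, 0, 0, 1, 0, 2, 2, 3, 0, 1, 3, 2, 2, 0, 3, 1, 3, 1, 0, 3, 3, 2, 3, 2, 3, 2, 1, 3, 0, 1, 3],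
  [0, 0, 0, 3, 0, 3, 3, 2, 3, 0, 0, 0, 0, 0, 0, 3, 0, 1, 1, 0, 0, 0, 1, 1, 0, 3, 3, 2, 0, 0, 0, 0, 3, 2, 2, 1, 2, 3, 3, 3, 0, 3, 3, 3, 3],
  [0, 3, 3, 1, 3, 2, 3, 1, 2, 0, 0, 0, 0, 3, 3, 1, 3, 2, 0, 1, 0, 1, 2, 3, 3, 3, 1, 2, 2, 3, 3, 2, 0, 3, 2, 1, 1, 0, 3, 3, 3, 2, 3, 0, 1],
  [0, 0, 3, 1, 0, 3, 2, 2, 3, 0, 0, 3, 0, 3, 3, 0, 1, 0, 0, 3, 2, 0, 3, 1, 0, 0, 0, 0, 3, 2, 0, 2, 0, 2, 2, 3, 0, 3, 1, 1, 1, 0, 0, 0, 0],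
  [0, 0, 0, 1, 0, 0, 3, 1, 3, 0, 0, 0, 0, 0, 0, 0, 0, 0, 0, 3, 3, 0, 3, 0, 2, 3, 3, 2, 2, 2, 2, 0, 0, 3, 2, 2, 2, 3, 3, 0, 0, 2, 0, 0, 2],
  [0, 0, 0, 1, 0, 3, 3, 2, 3, 0, 0, 0, 0, 0, 0, 0, 0, 0, 0, 3, 3, 0, 3, 0, 2, 3, 3, 2, 2, 2, 0, 3, 3, 0, 1, 0, 2, 2, 3, 3, 0, 2, 3, 1, 2],
  [0, 3, 0, 2, 3, 1, 3, 0, 0, 0, 0, 0, 0, 3, 1, 0, 3, 3, 0, 0, 0, 0, 3, 3, 0, 3, 2, 3, 2, 3, 0, 1, 1, 0, 3, 1, 2, 0, 0, 3, 2, 1, 1, 1, 1],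
  [0, 0, 0, 0, 0, 0, 0, 2, 0, 0, 0, 0, 0, 0, 0, 0, 0, 0, 0, 0, 0, 0, 0, 0, 0, 0, 0, 0, 0, 0, 3, 3, 0, 2, 0, 3, 1, 3, 1, 1, 2, 1, 3, 0, 1],
  [0, 0, 3, 1, 0, 0, 0, 2, 1, 0, 0, 0, 0, 3, 3, 3, 1, 0, 0, 3, 3, 0, 3, 0, 0, 0, 0, 0, 3, 3, 3, 3, 3, 1, 1, 0, 2, 0, 0, 2, 1, 3, 0, 1, 0],
  [0, 0, 0, 0, 0, 0, 3, 2, 0, 0, 0, 0, 0, 0, 0, 0, 0, 0, 3, 0, 0, 0, 0, 0, 3, 0, 0, 0, 0, 0, 0, 1, 1, 1, 0, 3, 0, 0, 0, 3, 0, 3, 0, 3, 3],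
  [0, 0, 0, 2, 0, 0, 1, 3, 3, 0, 0, 0, 0, 0, 0, 3, 0, 1, 1, 0, 0, 0, 1, 1, 1, 1, 3, 2, 0, 0, 0, 3, 2, 1, 3, 2, 3, 0, 2, 1, 3, 1, 2, 1, 0],
  [0, 0, 0, 2, 0, 1, 0, 1, 1, 0, 0, 0, 0, 0, 0, 0, 0, 0, 1, 1, 0, 1, 0, 1, 3, 1, 1, 2, 3, 0, 1, 1, 1, 2, 3, 0, 2, 1, 3, 1, 1, 3, 3, 1, 1],
  [0, 0, 0, 0, 3, 3, 1, 1, 2, 0, 0, 0, 0, 0, 0, 3, 0, 3, 2, 0, 0, 0, 3, 3, 2, 1, 1, 2, 3, 0, 0, 2, 2, 0, 2, 1, 0, 3, 1, 2, 3, 0, 0, 3, 0],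
  [0, 0, 0, 2, 0, 1, 2, 1, 3, 0, 0, 0, 0, 0, 0, 3, 0, 1, 1, 0, 0, 0, 1, 1, 2, 1, 3, 2, 0, 0, 1, 2, 2, 1, 0, 0, 2, 2, 0, 2, 2, 2, 2, 3, 1],
  [0, 0, 0, 2, 0, 0, 0, 3, 1, 0, 0, 0, 0, 0, 0, 0, 0, 0, 1, 1, 0, 1, 0, 1, 3, 1, 1, 2, 3, 0, 0, 3, 0, 2, 2, 0, 2, 2, 3, 0, 0, 3, 2, 0, 2],
  [0, 0, 0, 0, 3, 3, 1, 2, 2, 0, 0, 0, 0, 0, 0, 3, 0, 3, 3, 0, 0, 0, 3, 3, 2, 1, 1, 2, 3, 0, 2, 0, 2, 1, 2, 2, 3, 3, 1, 0, 2, 3, 2, 1, 0],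
  [0, 0, 0, 1, 0, 3, 1, 2, 2, 0, 0, 0, 0, 0, 0, 0, 0, 0, 0, 0, 0, 0, 0, 0, 1, 1, 0, 1, 0, 1, 0, 2, 2, 0, 0, 2, 0, 0, 1, 2, 3, 2, 2, 0, 2],
  [0, 0, 0, 3, 3, 1, 2, 2, 3, 0, 0, 0, 0, 0, 0, 3, 0, 3, 2, 3, 0, 3, 3, 2, 0, 1, 0, 1, 0, 1, 3, 3, 3, 2, 3, 3, 2, 1, 0, 3, 1, 3, 0, 1, 1],
  [0, 0, 0, 3, 0, 0, 3, 1, 0, 0, 0, 0, 0, 0, 0, 0, 0, 0, 3, 3, 0, 3, 0, 3, 0, 0, 0, 0, 0, 0, 0, 0, 1, 3, 1, 1, 3, 2, 1, 2, 2, 0, 1, 3, 0],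
  [0, 0, 0, 3, 0, 3, 2, 2, 3, 0, 0, 0, 0, 0, 0, 0, 0, 0, 0, 0, 3, 3, 3, 3, 0, 0, 0, 0, 0, 0, 3, 0, 0, 0, 0, 3, 1, 2, 1, 0, 1, 2, 0, 0, 0],
  [0, 0, 0, 3, 0, 1, 3, 0, 0, 0, 0, 0, 0, 0, 0, 0, 0, 0, 3, 0, 3, 3, 3, 3, 1, 0, 0, 0, 1, 0, 1, 2, 1, 0, 1, 0, 1, 2, 1, 0, 0, 3, 2, 0, 3],
  [0, 0, 0, 0, 0, 2, 1, 1, 1, 0, 0, 0, 0, 0, 0, 0, 0, 0, 3, 0, 0, 0, 0, 0, 1, 0, 3, 1, 1, 1, 0, 1, 1, 0, 0, 1, 0, 3, 0, 3, 1, 3, 3, 1, 2],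
  [0, 0, 0, 0, 0, 0, 3, 3, 0, 0, 0, 0, 0, 0, 0, 0, 0, 0, 0, 0, 3, 3, 1, 3, 0, 0, 1, 1, 3, 1, 0, 1, 0, 3, 3, 0, 2, 2, 2, 2, 1, 1, 0, 2, 0],
  [0, 0, 0, 3, 0, 1, 3, 2, 0, 0, 0, 0, 0, 0, 0, 0, 0, 0, 3, 0, 3, 3, 0, 1, 0, 0, 1, 1, 1, 3, 3, 1, 1, 0, 0, 1, 1, 2, 2, 1, 1, 3, 0, 2, 2],
  [0, 2, 3, 2, 2, 3, 1, 2, 0, 0, 3, 0, 3, 3, 3, 3, 3, 2, 2, 2, 3, 2, 2, 1, 0, 2, 0, 3, 3, 1, 2, 3, 1, 0, 3, 2, 0, 0, 1, 1, 1, 3, 3, 0, 2],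
  [0, 3, 3, 2, 2, 0, 2, 1, 3, 3, 0, 3, 3, 3, 0, 0, 3, 2, 0, 2, 2, 3, 1, 2, 3, 0, 3, 3, 2, 2, 2, 1, 1, 1, 3, 2, 3, 3, 2, 2, 3, 0, 3, 3, 3],
  [0, 2, 3, 3, 3, 0, 1, 3, 1, 2, 0, 0, 0, 3, 3, 3, 3, 2, 2, 3, 0, 3, 2, 1, 3, 3, 1, 2, 3, 3, 3, 3, 2, 2, 2, 3, 2, 3, 2, 2, 1, 0, 1, 1, 2],
  [3, 2, 2, 1, 1, 2, 2, 1, 1, 3, 3, 3, 3, 0, 3, 0, 3, 0, 0, 1, 2, 2, 3, 3, 3, 3, 2, 3, 0, 0, 2, 3, 3, 3, 3, 1, 0, 0, 3, 3, 0, 3, 1, 1, 1, 2],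
  [0, 1, 0, 0, 3, 3, 0, 0, 0, 0, 0, 0, 0, 0, 0, 0, 0, 0, 1, 0, 0, 0, 0, 0, 0, 0, 0, 0, 0, 0, 3, 3, 0, 0, 0, 3, 0, 0, 0, 0, 0, 0, 0, 0, 3, 0, 2],
  [3, 2, 2, 0, 2, 1, 3, 0, 0, 3, 3, 3, 0, 3, 3, 3, 3, 0, 0, 1, 2, 2, 3, 3, 2, 2, 2, 2, 0, 3, 3, 1, 3, 1, 3, 1, 3, 1, 2, 0, 2, 2, 1, 3, 0, 0, 0, 2],
  [3, 3, 0, 0, 3, 1, 2, 3, 3, 3, 0, 0, 3, 0, 0, 0, 0, 3, 3, 0, 0, 0, 3, 3, 0, 3, 1, 3, 2, 1, 0, 2, 1, 3, 2, 1, 1, 3, 3, 2, 0, 0, 3, 0, 2, 0, 0, 0, 2],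
  [0, 1, 0, 0, 2, 1, 2, 0, 0, 0, 1, 1, 3, 1, 1, 1, 1, 3, 3, 3, 2, 2, 0, 0, 1, 2, 0, 2, 0, 0, 3, 2, 2, 1, 0, 3, 1, 1, 2, 0, 2, 2, 1, 0, 1, 0, 0, 0, 0],
  [0, 0, 0, 0, 0, 1, 1, 2, 2, 0, 0, 0, 0, 0, 0, 0, 3, 3, 3, 0, 1, 1, 3, 0, 2, 1, 1, 2, 1, 0, 1, 3, 2, 2, 1, 1, 3, 3, 2, 1, 3, 2, 3, 3, 1, 0, 0, 0, 0, 2, 1, 1, 1],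
  [0, 1, 0, 1, 0, 3, 2, 2, 2, 0, 0, 0, 0, 0, 0, 0, 0, 0, 1, 0, 1, 1, 1, 0, 0, 0, 0, 0, 0, 0, 0, 1, 2, 1, 0, 0, 0, 0, 0, 2, 2, 1, 0, 1, 0, 0, 0, 0, 0, 0, 2],
  [1, 1, 2, 0, 3, 2, 3, 3, 3, 1, 1, 1, 0, 1, 1, 1, 1, 0, 0, 3, 1, 1, 0, 1, 2, 2, 2, 2, 0, 1, 2, 0, 0, 2, 0, 0, 1, 3, 2, 3, 1, 0, 0, 0, 0, 0, 0, 0, 0, 0, 0, 2],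
  [0, 0, 3, 2, 2, 3, 3, 2, 3, 3, 0, 3, 0, 3, 3, 3, 1, 2, 3, 1, 0, 1, 3, 0, 0, 1, 3, 2, 2, 2, 3, 1, 2, 1, 3, 2, 2, 0, 0, 1, 0, 0, 1, 0, 1, 0, 0, 0, 0, 0, 1, 3, 1],
  [0, 3, 2, 3, 1, 0, 2, 0, 3, 3, 0, 3, 0, 2, 2, 2, 0, 2, 3, 0, 0, 0, 3, 3, 0, 3, 1, 2, 1, 3, 1, 1, 3, 0, 1, 2, 1, 0, 2, 0, 2, 1, 1, 0, 0, 0, 0, 0, 0, 0, 1, 1, 3],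
  [0, 0, 3, 2, 2, 2, 3, 1, 1, 0, 1, 1, 3, 0, 0, 0, 0, 1, 1, 1, 1, 1, 1, 1, 2, 1, 2, 3, 3, 0, 1, 1, 3, 2, 3, 0, 0, 1, 2, 2, 0, 2, 0, 0, 1, 0, 0, 0, 0, 0, 0, 0, 0, 0, 0]]

end CfsgLib.Schur.Tails.HS
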