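import Cfsg.Agent.Lib.Tails.HSTwoEqsData

/-!
Part of the computation of the equations for HS at two.
-/

set_option autoImplicit false
set_option maxRecDepth 100000

namespace CfsgLib.Schur.Tails.HS

open CfsgLib.TailsData

set_option maxHeartbeats 4000000 in
theorem twoEqs_first : (twoHSCert.eqs.drop 0).take 12 = ((twoEqs.map some).drop 0).take 12 := by
  have h : ((twoHSCert.eqs.drop 0).take 12 == ((twoEqs.map some).drop 0).take 12) = true := by
    decide +kernel
  exact eq_of_beq h

end CfsgLib.Schur.Tails.HS
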