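import Cfsg.Agent.Lib.Tails.Cert

/-!
Generated data: a certificate for the Schur multiplier of He.
-/

set_option autoImplicit false
set_option maxRecDepth 20000

namespace CfsgLib.TailsData

open CfsgLib

/-- The overlaps. -/
def sevenHeOverlaps : List (List ℕ × List Schur.Tails.Step × List Schur.Tails.Step) := [
  ([0, 0, 0, 0, 0, 0, 0, 2], [(0, 0, true)], [(6, 4, true), (5, 4, true), (4, 4, true), (3, 4, true), (2, 4, true), (1, 4, true), (0, 4, true), (2, 3, true), (4, 3, true), (3, 3, true), (6, 3, true), (5, 3, true), (4, 3, true), (8, 3, true), (7, 3, true), (6, 3, true), (5, 3, true), (10, 3, true), (9, 3, true), (8, 3, true), (7, 3, true), (6, 3, true), (12, 3, true), (11, 3, true), (10, 3, true), (9, 3, true), (8, 3, true),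 (7, 3, true), (1, 1, true), (1, 0, true)])]

/-- A conjugation. -/
def sevenHeFus0 : Schur.Tails.Fus where
  xs := [[1, 1, 0, 0], [0, 0, 0]]
  ys := [[1, 0], [1]]
  rels := [
    ([0, 0, 0, 0, 0, 0, 0], [], [(3, 3, true), (2, 3, true), (4, 3, true), (3, 3, true), (7, 3, true), (6, 3, true), (5, 3, true), (4, 3, true), (8, 3, true), (7, 3, true), (6, 3, true), (5, 3, true), (11, 3, true), (10, 3, true), (9, 3, true), (8, 3, true), (7, 3, true), (6, 3, true), (0, 1, true), (5, 3, true), (4, 3, true), (3, 3, true), (2, 3, true), (1, 3, true), (0, 3, true), (1, 0, true), (1, 3, true), (2, 3, true), (5, 3, true), (4, 3, true), (3, 3, true), (6, 3, true), (5, 3, true), (4, 3, true), (9, 3, true), (8, 3, true), (7, 3, true), (6, 3, true),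 (5, 3, true), (10, 3, true), (9, 3, true), (8, 3, true), (7, 3, true), (6, 3, true), (0, 1, true), (0, 0, true)], [(1, 3, true), (3, 3, true), (2, 3, true), (5, 3, true), (4, 3, true), (3, 3, true), (7, 3, true), (6, 3, true), (5, 3, true), (4, 3, true), (9, 3, true), (8, 3, true), (7, 3, true), (6, 3, true), (5, 3, true), (11, 3, true), (10, 3, true), (9, 3, true), (8, 3, true), (7, 3, true), (6, 3, true), (0, 1, true), (0, 0, true)])]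

/-- A conjugation. -/
def sevenHeFus1 : Schur.Tails.Fus where
  xs := [[1, 1], [2, 0, 0, 0, 0]]
  ys := [[2, 1, 1, 0, 0], [2, 2, 2, 2, 1, 0]]
  rels := [
    ([0, 0, 0, 0, 0, 0, 0], [], [(0, 1, true), (0, 1, true)], [(4, 4, true), (3, 4, true), (2, 5, true), (1, 5, true), (5, 3, true), (7, 3, true), (6, 3, true), (8, 3, true), (7, 3, true), (11, 4, true), (10, 4, true), (9, 4, true), (8, 4, true), (7, 5, true), (6, 5, true), (5, 5, true), (4, 5, true), (3, 5, true), (2, 5, true), (3, 1, true), (3, 3, true), (5, 3, true), (4, 3, true), (7, 3, true), (6, 3, true), (5, 3, true), (9, 3, true), (8, 3, true), (7, 3, true), (6, 3, true), (10, 3, true), (9, 3, true), (8, 3, true), (7, 3, true), (13, 4, true), (12, 4, true), (11, 4, true),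 (10, 4, true), (9, 4, true), (8, 4, true), (7, 5, true), (6, 5, true), (5, 5, true), (4, 5, true), (3, 5, true), (10, 3, true), (4, 1, true), (5, 3, true), (4, 3, true), (7, 3, true), (6, 3, true), (5, 3, true), (9, 3, true), (8, 3, true), (7, 3, true), (6, 3, true), (11, 3, true), (10, 3, true), (9, 3, true), (8, 3, true), (7, 3, true), (13, 3, true), (12, 3, true), (11, 3, true), (10, 3, true), (9, 3, true), (8, 3, true), (14, 3, true), (13, 3, true), (12, 3, true), (11, 3, true), (10, 3, true), (9, 3, true), (10, 0, true), (10, 4, true), (9, 5, true), (8, 5, true), (7, 5, true), (6, 5, true), (5, 5, true), (4, 5, true), (5, 1, true), (5, 3, true), (6, 3, true), (9, 4, true), (8, 4, true), (7, 4, true), (6, 5, true), (5, 5, true),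 (9, 3, true), (11, 3, true), (10, 3, true), (13, 3, true), (12, 3, true), (11, 3, true), (14, 3, true), (13, 3, true), (12, 3, true), (6, 1, true), (10, 4, true), (9, 4, true), (8, 4, true), (7, 4, true), (6, 4, true), (0, 2, true), (1, 3, true), (3, 3, true), (2, 3, true), (5, 3, true), (4, 3, true), (3, 3, true), (7, 3, true), (6, 3, true), (5, 3, true), (4, 3, true), (9, 3, true), (8, 3, true), (7, 3, true), (6, 3, true), (5, 3, true), (10, 3, true), (9, 3, true), (8, 3, true), (7, 3, true), (6, 3, true), (0, 1, true), (0, 0, true)]),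
    ([0, 1], [1, 0], [(1, 5, true), (0, 5, true), (2, 3, false), (3, 3, false), (4, 3, false), (5, 3, false), (1, 3, false), (2, 3, false), (3, 3, false), (4, 3, false)], [(4, 4, true), (3, 4, true), (2, 5, true), (1, 5, true), (5, 3, true), (7, 4, true), (6, 4, true), (5, 5, true), (4, 5, true), (3, 5, true), (2, 5, true), (8, 3, true), (10, 4, true), (9, 4, true), (8, 5, true), (7, 5, true), (6, 5, true), (5, 5, true), (4, 5, true), (3, 5, true), (4, 1, true), (4, 3, true), (6, 4, true), (5, 4, true), (4, 5, true), (7, 3, true), (9, 3, true), (8, 3, true), (8, 3, false), (7, 3, false), (4, 5, false), (5, 4, false)])]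

/-- A conjugation. -/
def sevenHeFus2 : Schur.Tails.Fus where
  xs := [[2, 1, 1, 0, 0, 0, 0], [1]]
  ys := [[1, 1, 0], [0]]
  rels := [
    ([0, 1], [1, 0], [(6, 3, true), (5, 3, true), (4, 3, true), (3, 3, true), (0, 5, false)], [(1, 3, false), (0, 3, false)])]

/-- The certificate. -/
def sevenHeCert : Schur.Tails.Cert where
  p := 7
  q := 7
  n := 3
  rels := [
    ([0, 0, 0, 0, 0, 0, 0], []),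
    ([1, 1, 1, 1, 1, 1, 1], []),
    ([2, 2, 2, 2, 2, 2, 2], []),
    ([0, 1], [1, 0]),
    ([0, 2], [2, 1, 0]),
    ([1, 2], [2, 1])]
  overlaps := sevenHeOverlaps
  fus := [sevenHeFus0, sevenHeFus1, sevenHeFus2]
  mu := [[], [0, 0, 0, 0, 1], []]
  combos := [
    ([(0, 1), (1, 1)], 0),
    ([(0, 6)], 0),
    ([(0, 1), (1, 5), (2, 6)], 0),
    ([(0, 4), (3, 3), (4, 5)], 0),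
    ([], 0),
    ([(0, 3), (3, 4), (4, 1)], 0)]
  tau := []
  tauCombo := []

/-- The words of the generators. -/
def sevenHeGens : List (List ℕ) := [
  [0, 5, 3, 2, 1, 3, 2, 3, 2, 6, 3, 2, 1, 3, 4, 2, 3, 6, 2, 3, 2, 3, 1, 2, 3, 6, 4, 2, 1],
  [2, 1, 3, 2, 1, 5, 3, 2, 1, 4, 6, 3, 2, 3, 5, 6, 3, 4, 2, 3, 6, 1, 2, 3, 5, 2, 3, 2, 0],
  [2, 4, 3, 2, 1, 0, 3, 5, 6, 3, 2, 1, 3, 2, 6, 3, 1, 2, 3, 5, 1, 2, 3, 4, 2, 3, 6, 5, 1, 2]]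

/-- The words of the conjugating elements. -/
def sevenHeHs : List (List ℕ) := [
  [2, 5, 6, 3, 2, 4, 3, 2, 1, 3, 2, 3, 2, 6, 5, 3, 2, 3, 2, 1, 0],
  [3, 2, 3, 2, 1, 4, 3, 2, 1, 3, 5, 3, 2, 1, 3, 2, 3, 5, 3, 1, 2, 3, 2, 3, 6, 4, 3, 1, 2],
  [0, 6, 3, 5, 6, 3, 2, 1, 5, 3, 2, 3, 5, 6, 3, 2, 3, 1, 2, 3, 5, 6, 2, 3, 2, 3]]

/-- Orbits giving the order. -/
def sevenHeOrb : List (ℕ × List (List ℕ)) := [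
  (0, [[], [0, 0, 1, 2, 2], [0, 0, 0, 1, 1, 1, 1, 2, 2], [0, 0, 0, 0, 1, 1, 1, 1, 1, 1, 2, 2, 2], [0, 0, 0, 0, 1, 1, 2], [1, 1, 1, 2, 2, 2, 2, 2], [0, 0, 0, 0, 1, 1, 1, 1, 1, 1, 2, 2], [0, 1, 1, 1, 1, 1, 1, 2, 2, 2, 2, 2, 2], [0, 0, 0, 0, 1, 2, 2, 2, 2, 2, 2], [0, 1, 2, 2, 2], [0, 0, 1, 1, 1, 1, 2, 2, 2, 2, 2], [0, 1, 1, 1, 1, 1, 1], [0, 0, 1, 1, 1, 1, 2, 2, 2, 2], [0, 0, 0, 0, 0, 1, 1, 1, 2, 2, 2, 2], [0, 0, 1, 1, 1, 1, 1, 2, 2, 2, 2], [0, 0, 0, 0, 2, 2], [0, 0, 0, 0, 0, 0, 1, 1, 1, 1, 1, 2, 2, 2, 2], [1, 1, 1, 2, 2, 2, 2], [0, 0, 0, 0, 0, 1, 1, 2, 2, 2, 2, 2, 2], [0, 0, 0, 0, 0, 1, 1, 2], [0, 0, 0, 0, 1, 1, 2, 2, 2], [0, 0, 1, 1, 2, 2], [1, 1, 1, 1, 1, 1, 2, 2, 2, 2, 2, 2], [0, 0, 0, 0, 1, 1], [0, 0, 0, 0, 1, 2, 2, 2], [0, 0, 1,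 1, 1], [0, 0, 0, 0, 0, 1, 2, 2, 2, 2], [0, 0, 0, 1, 2, 2, 2, 2, 2], [0, 0, 0, 0, 1, 1, 1, 1, 1, 2, 2, 2, 2, 2], [0, 0, 0, 0, 0, 1, 1, 2, 2, 2, 2], [0, 1, 1, 1, 1, 2, 2, 2, 2, 2, 2], [0, 0, 0, 1, 1, 1, 1, 1, 2], [0, 0, 0, 1, 1, 2, 2, 2], [0, 0, 0, 0, 0, 1, 1, 1, 1, 2, 2], [0, 2, 2, 2], [0, 0, 0, 2, 2, 2, 2, 2, 2], [0, 2, 2, 2, 2, 2], [0, 0, 1, 1], [0, 0, 0, 0, 1, 1, 1, 1, 2, 2, 2, 2], [0, 0, 0, 0, 1, 1, 1], [0, 0, 1, 1, 1, 1, 2, 2, 2, 2, 2, 2], [0, 0, 0, 1, 1, 1, 1, 1, 2, 2, 2], [2, 2, 2, 2], [0, 0, 1, 1, 1, 1, 1, 2, 2, 2], [0, 0, 1, 2], [0, 0, 0, 0, 0, 0, 1, 1, 1, 1, 2, 2, 2, 2], [0, 1], [0, 0, 0, 0, 0, 0, 2, 2], [0, 0, 0, 0, 0, 0, 1, 1, 2, 2, 2], [0, 0, 0, 1, 1, 1, 2, 2], [0, 0, 0, 0, 0, 1, 2, 2, 2, 2, 2, 2], [0, 0, 0], [0, 0, 0,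 0, 0, 1, 1, 2, 2], [1, 2, 2, 2, 2, 2, 2], [0, 1, 1, 1, 2], [0, 0, 0, 0, 0, 0, 1, 1, 1, 1, 2, 2, 2, 2, 2, 2], [0, 0, 0, 0, 0, 0, 2, 2, 2, 2, 2], [0, 0], [1, 2, 2], [0, 1, 2, 2, 2, 2, 2, 2], [1, 1, 1, 1, 1, 1, 2], [1, 1, 1, 1], [0, 0, 0, 1, 1, 1, 2], [0, 1, 2, 2, 2, 2, 2], [0, 0, 0, 0, 0, 0, 1, 1, 2, 2], [0, 0, 1, 1, 2, 2, 2, 2, 2, 2], [0, 1, 1], [0, 0, 0, 0, 1, 1, 1, 1, 1], [0, 0, 0, 1, 2, 2, 2], [0, 0, 0, 0, 1, 1, 1, 1, 2, 2, 2, 2, 2, 2], [0, 0, 0, 1, 1, 1, 1, 1, 1, 2], [1, 1, 1, 1, 1, 2, 2], [0, 0, 0, 0, 0, 0, 1, 1], [0, 0, 0, 0, 0, 0, 1, 2, 2, 2, 2, 2, 2], [2, 2, 2, 2, 2], [0, 0, 0, 0, 0, 1, 1, 1, 1, 1], [0, 0, 0, 1, 1, 1, 1, 1, 1, 2, 2, 2], [0, 0, 2, 2, 2, 2, 2, 2], [0, 0, 0, 0, 0, 2, 2, 2, 2], [0, 0, 0, 0, 0, 2, 2, 2, 2, 2, 2],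 [1, 1, 1, 2, 2], [0, 0, 0, 0, 1, 1, 1, 1, 2, 2, 2, 2, 2], [0, 1, 1, 2, 2], [0, 0, 0, 0, 1, 1, 1, 1, 2, 2, 2], [0, 0, 0, 0, 0, 1, 1, 1, 1, 2], [0, 0, 0, 1, 1, 1, 1], [0, 0, 0, 1], [0, 0, 2, 2, 2, 2], [0], [0, 0, 0, 0, 0, 0, 1, 1, 1, 1, 1, 2, 2], [1, 1, 1, 1, 2], [0, 0, 0, 2, 2], [0, 0, 0, 0, 1, 2, 2, 2, 2, 2], [0, 0, 0, 0, 0, 1, 1, 2, 2, 2, 2, 2], [0, 0, 0, 0, 2, 2, 2, 2], [0, 0, 0, 0, 1, 1, 1, 1, 2], [0, 0, 0, 0, 0, 1, 1, 1, 1, 2, 2, 2], [0, 1, 1, 1, 2, 2, 2, 2, 2, 2], [0, 0, 0, 0, 2, 2, 2], [0, 2, 2, 2, 2, 2, 2], [0, 0, 0, 0, 0, 0, 1, 1, 1, 1, 1, 1, 2], [0, 0, 0, 0, 0, 1, 1, 1, 1, 1, 1, 2], [0, 0, 0, 0, 0, 0, 1, 1, 1, 2, 2, 2], [0, 0, 0, 0, 1, 1, 2, 2, 2, 2, 2], [1, 1, 1, 1, 1, 2, 2, 2, 2, 2, 2], [0, 0, 0, 0, 0, 1, 1, 1, 1, 2, 2,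 2, 2, 2], [0, 1, 1, 1, 1, 1, 1, 2], [0, 0, 0, 1, 1, 1, 1, 1, 1, 2, 2, 2, 2, 2], [0, 1, 1, 1, 2, 2], [0, 0, 1, 1, 1, 1, 1, 1, 2, 2, 2, 2, 2, 2], [0, 0, 0, 0, 0, 0, 1, 1, 1, 1, 2], [0, 0, 1, 1, 1, 1, 2, 2], [0, 0, 0, 0, 1, 1, 1, 1, 2, 2], [0, 0, 2, 2, 2], [0, 0, 0, 1, 1, 1, 1, 2, 2, 2], [0, 2, 2, 2, 2], [0, 0, 0, 0, 0, 1, 2, 2, 2], [1, 1, 1, 1, 1, 1, 2, 2, 2, 2, 2], [0, 1, 1, 2], [0, 0, 0, 1, 2, 2, 2, 2], [0, 1, 1, 1, 1, 1, 1, 2, 2, 2, 2, 2], [0, 1, 1, 1, 1, 1, 2, 2, 2, 2], [0, 0, 0, 0, 0, 1, 1, 1, 2, 2, 2], [0, 1, 1, 1, 1, 2], [0, 1, 1, 1, 2, 2, 2], [0, 0, 0, 0, 0, 0, 1, 1, 1, 1, 1, 1, 2, 2, 2, 2], [0, 0, 0, 1, 1, 2, 2, 2, 2], [0, 0, 0, 2, 2, 2], [0, 0, 1, 1, 2, 2, 2], [0, 0, 0, 1, 1, 1], [0, 0, 0, 0, 0], [0, 1, 1, 1, 1, 2, 2, 2, 2],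 [0, 0, 0, 0, 0, 0], [0, 0, 1, 1, 1, 1, 1, 1], [0, 0, 0, 0, 0, 1, 1, 1, 1, 1, 2, 2], [0, 1, 1, 1], [0, 0, 0, 0, 0, 2], [0, 0, 0, 1, 1, 1, 1, 2], [1, 1, 2], [0, 0, 1, 2, 2, 2, 2, 2, 2], [0, 0, 0, 0, 1, 1, 1, 1, 1, 2, 2], [0, 0, 0, 2, 2, 2, 2], [0, 1, 2, 2], [0, 0, 0, 0, 1, 1, 1, 2, 2, 2, 2, 2, 2], [1, 2, 2, 2, 2], [1, 1, 1, 1, 1, 2, 2, 2], [0, 0, 0, 0, 0, 0, 1, 2], [1, 1, 1, 2, 2, 2, 2, 2, 2], [0, 0, 0, 1, 2, 2], [0, 0, 1, 1, 2, 2, 2, 2, 2], [0, 1, 1, 2, 2, 2], [0, 0, 0, 0, 0, 1, 1, 1, 1, 1, 2, 2, 2, 2, 2], [0, 0, 0, 0, 0, 0, 1, 1, 1, 1], [0, 0, 1, 1, 1, 2, 2, 2], [0, 1, 1, 2, 2, 2, 2, 2, 2], [0, 0, 0, 0], [0, 0, 0, 0, 1], [0, 0, 0, 0, 0, 1, 1, 1, 1, 1, 1, 2, 2, 2, 2, 2, 2], [1, 1, 2, 2, 2], [0, 1, 1, 1, 1, 2, 2], [0, 0, 1, 1, 1, 1,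 2], [0, 0, 0, 0, 0, 1, 1, 1, 2, 2, 2, 2, 2, 2], [0, 0, 0, 1, 2], [0, 0, 0, 0, 0, 2, 2], [0, 0, 0, 1, 1, 1, 1, 1, 2, 2, 2, 2, 2, 2], [1, 2, 2, 2, 2, 2], [0, 0, 0, 0, 0, 0, 1, 1, 1, 1, 1, 1], [0, 0, 0, 1, 1, 1, 1, 2, 2, 2, 2, 2, 2], [0, 0, 0, 1, 1, 1, 1, 1, 1, 2, 2], [2, 2, 2, 2, 2, 2], [1, 1, 1], [0, 0, 0, 0, 0, 0, 1, 1, 1, 1, 1, 1, 2, 2], [0, 0, 1, 1, 1, 2], [0, 0, 0, 0, 0, 1, 1, 1, 1, 1, 2, 2, 2], [0, 0, 0, 0, 1, 1, 2, 2, 2, 2], [1, 1, 1, 1, 1, 2, 2, 2, 2], [0, 0, 0, 0, 0, 0, 1, 1, 1, 1, 2, 2, 2], [0, 0, 1, 1, 1, 1, 1, 1, 2, 2, 2, 2], [1, 1, 1, 1, 1], [0, 0, 1, 1, 1, 1, 1, 2], [0, 0, 0, 0, 0, 0, 1, 1, 1], [0, 0, 0, 0, 0, 1, 1], [0, 0, 0, 0, 0, 1, 1, 1, 1, 1, 2], [1, 1, 2, 2], [2], [0, 0, 0, 0, 1, 2], [0, 0, 1, 1, 1, 1, 1, 2, 2, 2,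 2, 2, 2], [0, 0, 0, 0, 1, 1, 1, 1, 1, 1, 2, 2, 2, 2, 2], [0, 0, 0, 1, 1, 1, 1, 1, 2, 2], [0, 0, 0, 0, 0, 1, 2, 2, 2, 2, 2], [0, 0, 1, 1, 1, 2, 2], [0, 0, 0, 0, 1, 1, 1, 1, 1, 1, 2, 2, 2, 2, 2, 2], [0, 1, 1, 1, 1, 2, 2, 2, 2, 2], [0, 0, 0, 1, 1, 2, 2, 2, 2, 2, 2], [1, 1, 1, 1, 1, 2, 2, 2, 2, 2], [1, 1, 1, 1, 1, 1, 2, 2], [0, 0, 0, 0, 1, 1, 1, 1, 1, 1], [0, 0, 0, 0, 0, 1, 2], [0, 0, 0, 0, 1, 1, 1, 1, 1, 2, 2, 2, 2], [0, 0, 0, 1, 1, 1, 1, 1, 2, 2, 2, 2], [1, 1, 1, 1, 2, 2, 2, 2, 2], [0, 0, 0, 0, 0, 0, 1, 1, 2, 2, 2, 2], [0, 0, 0, 0, 0, 0, 1, 1, 1, 2, 2], [0, 1, 1, 1, 1, 1, 1, 2, 2, 2, 2], [0, 0, 1, 1, 1, 1, 1, 1, 2], [1, 1, 1, 1, 1, 1], [0, 0, 0, 0, 0, 1, 1, 1, 1, 1, 1, 2, 2], [0, 1, 2, 2, 2, 2], [0, 0, 1, 1, 1, 1, 1, 1, 2, 2, 2, 2, 2],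 [0, 0, 2, 2], [2, 2, 2], [1, 1, 1, 1, 2, 2, 2, 2], [0, 0, 0, 1, 2, 2, 2, 2, 2, 2], [0, 2, 2], [0, 0, 0, 0, 0, 0, 1, 1, 1, 1, 1], [0, 0, 0, 0, 0, 1, 1, 1, 1, 2, 2, 2, 2], [1, 1, 1, 2, 2, 2], [0, 0, 0, 0, 0, 0, 1, 1, 1, 1, 1, 2, 2, 2, 2, 2], [0, 0, 0, 0, 1, 1, 2, 2], [1, 1, 2, 2, 2, 2, 2], [0, 0, 0, 1, 1, 1, 1, 1, 1], [0, 0, 0, 0, 0, 0, 1, 1, 1, 1, 1, 2], [0, 0, 0, 0, 1, 2, 2, 2, 2], [0, 1, 1, 1, 1, 1, 2, 2, 2], [0, 0, 0, 0, 1, 1, 1, 1, 1, 1, 2, 2, 2, 2], [0, 1, 1, 1, 1, 1, 2, 2], [0, 0, 0, 0, 0, 1, 1, 1, 2, 2, 2, 2, 2], [0, 0, 0, 0, 0, 1, 1, 1, 2, 2], [0, 0, 0, 0, 0, 0, 2], [0, 0, 0, 0, 0, 0, 1, 1, 1, 1, 1, 1, 2, 2, 2], [0, 0, 0, 1, 1, 2], [0, 0, 0, 0, 1, 1, 1, 2, 2, 2, 2], [1, 2, 2, 2], [0, 1, 1, 1, 1, 1, 2], [1, 1], [0, 1, 2], [0,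 0, 0, 0, 1, 1, 1, 1, 1, 1, 2], [0, 0, 0, 0, 0, 0, 1, 1, 1, 2, 2, 2, 2, 2], [0, 0, 1, 2, 2, 2, 2], [0, 0, 2, 2, 2, 2, 2], [0, 0, 0, 0, 0, 0, 1, 1, 1, 1, 1, 1, 2, 2, 2, 2, 2], [0, 0, 1, 1, 1, 2, 2, 2, 2, 2, 2], [0, 0, 1, 1, 2, 2, 2, 2], [0, 1, 1, 1, 1, 1], [1], [1, 1, 1, 1, 2, 2, 2], [0, 0, 0, 0, 0, 2, 2, 2, 2, 2], [0, 0, 0, 0, 0, 0, 1, 1, 1, 2, 2, 2, 2], [0, 0, 0, 2, 2, 2, 2, 2], [0, 0, 0, 0, 1, 1, 1, 1], [0, 0, 0, 0, 1, 1, 1, 1, 1, 2, 2, 2], [0, 0, 0, 0, 2, 2, 2, 2, 2, 2], [0, 0, 0, 0, 0, 2, 2, 2], [0, 0, 0, 0, 0, 0, 1, 1, 1, 1, 1, 1, 2, 2, 2, 2, 2, 2], [0, 0, 0, 1, 1, 1, 1, 1], [0, 0, 0, 0, 0, 1, 1, 1, 2], [0, 0, 0, 0, 0, 0, 1, 1, 2, 2, 2, 2, 2], [0, 0, 1], [0, 0, 0, 0, 0, 0, 1, 1, 1, 1, 1, 2, 2, 2, 2, 2, 2], [1, 1, 1, 1, 2, 2], [0,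 0, 0, 0, 0, 0, 1, 2, 2, 2], [0, 0, 1, 1, 1, 1, 1, 2, 2, 2, 2, 2], [0, 0, 0, 0, 2], [0, 0, 0, 0, 0, 0, 1, 1, 2], [0, 1, 1, 1, 1, 1, 1, 2, 2, 2], [0, 0, 0, 0, 0, 0, 2, 2, 2, 2, 2, 2], [0, 0, 0, 0, 0, 1], [0, 1, 1, 1, 1, 1, 2, 2, 2, 2, 2, 2], [0, 1, 1, 1, 1, 1, 1, 2, 2], [0, 0, 0, 0, 0, 0, 1, 2, 2], [0, 0, 0, 0, 0, 1, 1, 1, 1, 2, 2, 2, 2, 2, 2], [0, 0, 0, 0, 0, 1, 1, 2, 2, 2], [0, 0, 0, 0, 0, 0, 1, 1, 1, 1, 2, 2], [0, 0, 0, 0, 1, 1, 2, 2, 2, 2, 2, 2], [0, 0, 0, 0, 1, 1, 1, 2], [0, 0, 0, 0, 0, 0, 1], [0, 1, 1, 2, 2, 2, 2, 2], [0, 0, 0, 0, 0, 0, 1, 1, 1, 2, 2, 2, 2, 2, 2], [1, 1, 2, 2, 2, 2, 2, 2], [0, 0, 0, 0, 2, 2, 2, 2, 2], [1, 1, 1, 1, 1, 1, 2, 2, 2], [1, 1, 1, 1, 2, 2, 2, 2, 2, 2], [1, 1, 1, 2], [0, 0, 1, 2, 2, 2, 2, 2], [0, 0, 0,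 1, 1, 1, 2, 2, 2], [0, 0, 0, 0, 1, 1, 1, 2, 2], [0, 0, 0, 1, 1, 2, 2, 2, 2, 2], [0, 0, 0, 0, 0, 1, 1, 1, 1, 1, 1, 2, 2, 2, 2, 2], [0, 0, 1, 1, 1, 1, 1, 1, 2, 2, 2], [0, 0, 0, 0, 0, 0, 1, 1, 1, 1, 1, 2, 2, 2], [0, 0, 0, 0, 0, 0, 2, 2, 2, 2], [0, 0, 0, 0, 1, 1, 1, 2, 2, 2, 2, 2], [0, 0, 1, 1, 1, 1, 1, 1, 2, 2], [0, 0, 0, 1, 1, 1, 2, 2, 2, 2, 2], [0, 0, 0, 0, 1, 1, 1, 1, 1, 2], [0, 0, 0, 0, 1, 1, 1, 1, 1, 2, 2, 2, 2, 2, 2], [1, 1, 1, 1, 1, 1, 2, 2, 2, 2], [0, 0, 0, 1, 1, 1, 1, 2, 2, 2, 2, 2], [0, 0, 0, 1, 1, 1, 1, 2, 2, 2, 2], [0, 0, 0, 0, 0, 1, 1, 1], [0, 0, 0, 1, 1, 1, 1, 1, 1, 2, 2, 2, 2, 2, 2], [1, 1, 2, 2, 2, 2], [0, 0, 0, 0, 1, 1, 1, 2, 2, 2], [0, 0, 0, 0, 0, 0, 1, 1, 2, 2, 2, 2, 2, 2], [0, 0, 1, 1, 1, 1, 2, 2, 2], [0, 0, 0, 0,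 0, 1, 1, 1, 1, 1, 1], [0, 1, 1, 2, 2, 2, 2], [0, 1, 1, 1, 1], [0, 2], [0, 0, 0, 0, 0, 1, 2, 2], [0, 0, 0, 0, 0, 0, 1, 1, 1, 1, 2, 2, 2, 2, 2], [0, 0, 0, 1, 1, 1, 1, 1, 1, 2, 2, 2, 2], [0, 0, 1, 1, 1, 1, 1, 2, 2], [0, 0, 0, 0, 0, 1, 1, 1, 1], [0, 0, 1, 1, 1, 1], [0, 0, 0, 0, 0, 0, 1, 2, 2, 2, 2, 2], [0, 0, 0, 0, 0, 1, 1, 1, 1, 1, 2, 2, 2, 2], [0, 0, 1, 2, 2, 2], [0, 0, 0, 2], [0, 1, 1, 1, 1, 1, 2, 2, 2, 2, 2], [0, 0, 0, 1, 1, 1, 1, 1, 2, 2, 2, 2, 2], [0, 0, 0, 0, 0, 1, 1, 1, 1, 1, 2, 2, 2, 2, 2, 2], [0, 0, 0, 0, 0, 0, 1, 2, 2, 2, 2], [0, 0, 1, 1, 2], [0, 0, 0, 1, 1, 1, 2, 2, 2, 2], [0, 1, 1, 1, 2, 2, 2, 2, 2], [0, 0, 1, 1, 1, 2, 2, 2, 2], [0, 1, 1, 1, 2, 2, 2, 2], [0, 0, 0, 0, 0, 1, 1, 1, 1, 1, 1, 2, 2, 2], [1, 1, 1, 1, 1, 2], [0, 0,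 1, 1, 1, 1, 1], [0, 1, 1, 1, 1, 2, 2, 2], [0, 0, 0, 1, 1], [2, 2], [0, 0, 0, 0, 0, 0, 2, 2, 2], [0, 0, 0, 1, 1, 1, 2, 2, 2, 2, 2, 2], [0, 0, 2], [0, 0, 0, 0, 0, 0, 1, 1, 1, 2], [1, 2], [0, 0, 0, 0, 1, 2, 2], [0, 0, 0, 1, 1, 2, 2], [0, 0, 0, 0, 0, 1, 1, 1, 1, 1, 1, 2, 2, 2, 2], [0, 0, 1, 1, 1, 2, 2, 2, 2, 2]])]

end CfsgLib.TailsData
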