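import Cfsg.Agent.Lib.Tails.Cert

/-!
Generated data: a certificate for the Schur multiplier of He.
-/

set_option autoImplicit false
set_option maxRecDepth 20000

namespace CfsgLib.TailsData

open CfsgLib

/-- The overlaps. -/
def threeHeOverlaps : List (List ℕ × List Schur.Tails.Step × List Schur.Tails.Step) := [
  ([0, 0, 0, 2], [(0, 0, true)], [(2, 4, true), (1, 4, true), (0, 4, true), (3, 3, true), (1, 1, true), (1, 3, true), (3, 3, true), (2, 3, true), (4, 3, true), (3, 3, true), (1, 1, true), (1, 0, true)])]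

/-- A conjugation. -/
def threeHeFus0 : Schur.Tails.Fus where
  xs := [[2, 2, 1, 1, 0, 0]]
  ys := [[2, 1, 0]]
  rels := [
    ([0, 0, 0], [], [(5, 4, true), (4, 4, true), (3, 5, true), (2, 5, true), (0, 2, true), (0, 1, true), (1, 3, true), (2, 3, true), (0, 1, true), (1, 4, true), (0, 4, true), (3, 3, true), (1, 1, true), (1, 3, true), (3, 3, true), (2, 3, true), (4, 3, true), (3, 3, true), (1, 1, true), (1, 0, true), (1, 4, true), (4, 4, true), (3, 5, true), (2, 5, true), (0, 2, true), (0, 1, true), (1, 3, true), (2, 3, true), (0, 1, true), (0, 0, true)], [(2, 4, true), (1, 5, true), (2, 1, true), (2, 3, true), (4, 4, true), (3, 4, true), (2, 5, true), (0, 2, true), (0, 1, true), (0, 3, true), (1, 3, true), (3, 3, true), (2, 3, true), (0, 1, true), (0, 0, true)])]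

/-- A conjugation. -/
def threeHeFus1 : Schur.Tails.Fus where
  xs := [[2, 2, 1]]
  ys := [[2, 1, 0]]
  rels := [
    ([0, 0, 0], [], [(2, 5, true), (0, 2, true), (0, 5, true), (2, 5, true), (1, 5, true), (3, 5, true), (2, 5, true), (0, 2, true), (0, 1, true)], [(2, 4, true), (1, 5, true), (2, 1, true), (2, 3, true), (4, 4, true), (3, 4, true), (2, 5, true), (0, 2, true), (0, 1, true), (0, 3, true), (1, 3, true), (3, 3, true), (2, 3, true), (0, 1, true), (0, 0, true)])]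

/-- A conjugation. -/
def threeHeFus2 : Schur.Tails.Fus where
  xs := [[1, 1, 0, 0]]
  ys := [[1, 1, 0]]
  rels := [
    ([0, 0, 0], [], [(3, 3, true), (2, 3, true), (0, 1, true), (1, 3, true), (0, 3, true), (1, 0, true), (1, 3, true), (2, 3, true), (0, 1, true), (0, 0, true)], [(2, 3, true), (0, 1, true), (0, 3, true), (2, 3, true), (1, 3, true), (3, 3, true), (2, 3, true), (0, 1, true), (0, 0, true)])]

/-- A conjugation. -/
def threeHeFus3 : Schur.Tails.Fus where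
  xs := [[2, 2, 1, 1, 0]]
  ys := [[0, 0]]
  rels := [
    ([0, 0, 0], [], [(4, 4, true), (3, 5, true), (2, 5, true), (0, 2, true), (0, 1, true), (1, 4, true), (0, 5, true), (1, 1, true), (1, 3, true), (2, 3, true), (4, 4, true), (3, 4, true), (2, 5, true), (1, 5, true), (2, 1, true), (3, 3, true), (4, 3, true), (2, 1, true), (3, 4, true), (2, 4, true), (0, 2, true), (2, 3, true), (0, 1, true), (0, 3, true), (2, 3, true), (1, 3, true), (3, 3, true), (2, 3, true), (0, 1, true), (0, 0, true)], [(0, 0, true), (0, 0, true)])]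

/-- The certificate. -/
def threeHeCert : Schur.Tails.Cert where
  p := 3
  q := 3
  n := 3
  rels := [
    ([0, 0, 0], []),
    ([1, 1, 1], []),
    ([2, 2, 2], []),
    ([0, 1], [1, 0]),
    ([0, 2], [2, 1, 1, 0]),
    ([1, 2], [2, 1])]
  overlaps := threeHeOverlaps
  fus := [threeHeFus0, threeHeFus1, threeHeFus2, threeHeFus3]
  mu := [[], [0, 0, 0, 0, 2], []]
  combos := [
    ([(3, 1)], 0),
    ([(0, 1)], 0),
    ([(0, 1), (1, 2), (2, 2)], 0),
    ([(0, 1), (2, 2), (3, 1), (4, 2)], 0),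
    ([], 0),
    ([(1, 1), (4, 1)], 0)]
  tau := []
  tauCombo := []

/-- The words of the generators. -/
def threeHeGens : List (List ℕ) := [
  [2, 3, 2, 5, 3, 2, 3, 2, 1, 5, 3, 2, 3, 2, 4, 3, 5, 1, 2, 3, 2, 3, 5, 2, 3, 2],
  [3, 2, 5, 3, 6, 5, 3, 2, 1, 3, 2, 4, 3, 2, 3, 1, 2, 3, 5, 6, 3, 5, 1, 2, 3],
  [1, 2, 3, 2, 1, 6, 3, 2, 1, 3, 4, 6, 3, 2, 5, 3, 6, 4]]

/-- The words of the conjugating elements. -/
def threeHeHs : List (List ℕ) := [
  [0, 2, 1, 3, 2, 3, 2, 4, 5, 3, 2, 1, 3, 6, 3, 2, 3, 5, 3, 6, 3, 2],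
  [0, 2, 3, 2, 1, 4, 3, 2, 3, 2, 5, 3, 2, 3, 5, 4, 1, 2, 3, 2, 3, 5, 3, 2, 3, 2],
  [0, 3, 4, 6, 3, 2, 1, 3, 2, 3, 5, 6, 3, 2, 3, 1, 2, 3, 5, 2, 3, 6, 5, 2, 1, 0],
  [1, 3, 6, 5, 3, 2, 1, 3, 4, 6, 3, 2, 3, 5, 3, 1, 2, 3, 1, 2, 3, 6, 3, 2, 3, 1]]

/-- Orbits giving the order. -/
def threeHeOrb : List (ℕ × List (List ℕ)) := [
  (24, [[2, 2], [], [2]]),
  (230, [[], [1, 1], [1]]),
  (0, [[], [0], [0, 0]])]

end CfsgLib.TailsData
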