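import Cfsg.Agent.Lib.Tails.Cert

/-!
Generated data: a certificate for the Schur multiplier of He.
-/

set_option autoImplicit false
set_option maxRecDepth 20000

namespace CfsgLib.TailsData

open CfsgLib

/-- The overlaps. -/
def twoHeOverlaps : List (List ℕ × List Schur.Tails.Step × List Schur.Tails.Step) := [
  ([0, 1, 2], [(0, 10, true), (5, 11, true), (4, 26, true), (3, 37, true), (2, 42, true), (1, 46, true), (0, 53, true), (5, 25, true), (4, 3, true), (4, 23, true), (3, 44, true), (2, 48, true), (1, 7, true), (2, 43, true), (1, 45, true), (3, 42, true), (2, 46, true), (1, 54, true), (0, 9, true), (2, 41, true), (1, 47, true), (5, 22, true), (4, 39, true), (3, 44, true), (2, 48, true), (1, 49, true), (5, 37, true), (4, 42, true), (3, 46, true), (2, 51, true), (1, 53, true), (0, 54, true), (6, 36, true), (5, 41, true), (4, 47, true), (3, 6, true), (5, 35, true), (4, 44, true), (3, 48, true), (2, 7, true), (3, 43, true), (2, 45, true), (1, 8, true), (2, 42, true), (1, 46, true), (0, 9, true), (1, 41, true), (0, 47, true), (2, 40, true), (1, 47, true), (0,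 6, true), (0, 45, true), (1, 5, true), (0, 8, true), (2, 3, true)], [(1, 19, true), (0, 17, true), (5, 12, true), (4, 26, true), (3, 31, true), (2, 47, true), (1, 6, true), (1, 46, true), (0, 9, true), (3, 22, true), (2, 33, true), (1, 39, true), (0, 48, true), (2, 38, true), (1, 47, true), (3, 3, true), (3, 31, true), (2, 47, true), (1, 6, true), (1, 46, true), (0, 53, true), (4, 30, true), (3, 3, true), (3, 29, true), (2, 48, true), (1, 7, true), (1, 47, true), (4, 27, true), (3, 41, true), (2, 47, true), (1, 6, true), (4, 20, true), (3, 32, true), (2, 44, true), (1, 48, true), (3, 43, true), (2, 45, true), (1, 52, true), (4, 42, true), (3, 46, true), (2, 53, true), (1, 54, true), (0, 9, true), (3, 41, true), (2, 47, true), (7, 19, true), (6, 32, true), (5, 39, true), (4, 44, true), (3, 48, true), (2, 49, true), (1, 7, true), (4, 38, true), (3, 43, true), (2, 45, true), (1, 50, true), (0, 8, true), (3, 37, true), (2, 42, true), (1, 46, true), (0, 51, true), (4, 36, true), (3, 41, true), (2, 47, true), (1, 6, true), (3, 3, true), (3, 27, true), (2, 41, true),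 (1, 47, true), (4, 2, true), (3, 44, true), (2, 48, true), (1, 49, true), (4, 43, true), (3, 45, true), (2, 50, true), (1, 52, true), (5, 41, true), (4, 47, true), (3, 6, true), (4, 40, true), (3, 47, true), (4, 45, true), (3, 50, true), (2, 52, true), (1, 8, true), (3, 5, true), (2, 50, true), (1, 52, true), (3, 6, true), (3, 4, true), (2, 53, true), (1, 54, true), (0, 9, true), (1, 7, true), (2, 1, true), (1, 39, true), (0, 54, true), (2, 37, true), (4, 11, true), (3, 39, true), (2, 53, true), (1, 54, true), (0, 9, true), (2, 38, true), (1, 52, true), (0, 8, true), (1, 36, true), (2, 35, true), (1, 51, true), (0, 53, true), (2, 50, true), (1, 52, true), (3, 49, true), (2, 7, true), (2, 6, true), (4, 10, true), (3, 37, true), (2, 46, true), (1, 54, true), (0, 9, true), (2, 35, true), (1, 48, true), (2, 47, true), (3, 46, true), (2, 51, true), (1, 53, true), (0, 54, true), (4, 45, true), (3, 50, true), (2, 52, true), (1, 8, true), (3, 5, true), (2, 50, true), (1, 52, true), (3, 6, true), (3, 34, true), (2, 53, true), (1, 54, true), (0, 9, true), (1, 52, true),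 (0, 8, true), (0, 7, true), (2, 3, true)]),
  ([0, 1, 3], [(0, 10, true), (5, 12, true), (4, 26, true), (3, 37, true), (2, 42, true), (1, 46, true), (0, 53, true), (5, 22, true), (4, 39, true), (3, 44, true), (2, 48, true), (1, 7, true), (3, 37, true), (2, 42, true), (1, 46, true), (0, 9, true), (2, 36, true), (1, 41, true), (0, 47, true), (3, 35, true), (2, 44, true), (1, 48, true), (0, 49, true), (3, 43, true), (2, 45, true), (1, 50, true), (0, 52, true), (4, 42, true), (3, 46, true), (2, 51, true), (1, 53, true), (0, 54, true), (5, 41, true), (4, 47, true), (3, 6, true), (4, 40, true), (3, 47, true), (4, 45, true), (3, 50, true), (2, 52, true), (1, 8, true), (3, 5, true), (2, 50, true), (1, 52, true), (3, 6, true), (4, 3, true), (4, 20, true), (3, 43, true), (5, 19, true), (4, 43, true), (3, 6, true), (6, 1, true), (5, 33, true), (4, 39, true), (3, 44, true), (2, 53, true), (1, 54, true), (0, 9, true), (3, 38, true), (2, 43, true), (4, 3, true), (4, 31, true), (3, 43, true), (2, 6, true), (2, 42, true), (1, 7, true)], [(1, 20, true), (0, 17, true), (5, 10,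 true), (4, 24, true), (3, 33, true), (2, 48, true), (1, 49, true), (3, 47, true), (2, 6, true), (5, 22, true), (4, 33, true), (3, 39, true), (2, 48, true), (1, 7, true), (2, 38, true), (1, 47, true), (3, 3, true), (3, 31, true), (2, 47, true), (1, 6, true), (1, 46, true), (0, 9, true), (2, 30, true), (1, 3, true), (1, 29, true), (0, 48, true), (1, 47, true), (4, 27, true), (3, 41, true), (2, 47, true), (1, 6, true), (4, 21, true), (3, 33, true), (2, 44, true), (1, 48, true), (0, 7, true), (1, 43, true), (0, 45, true), (4, 31, true), (3, 38, true), (2, 43, true), (1, 45, true), (0, 8, true), (2, 37, true), (1, 42, true), (0, 46, true), (3, 3, true), (3, 28, true), (2, 42, true), (1, 46, true), (0, 9, true), (1, 41, true), (0, 47, true), (2, 40, true), (1, 47, true), (0, 6, true), (0, 45, true), (1, 5, true), (0, 8, true), (3, 20, true), (2, 32, true), (1, 44, true), (0, 51, true), (2, 43, true), (1, 6, true), (1, 42, true), (2, 41, true), (1, 52, true), (6, 1, true), (5, 33, true), (4, 39, true), (3, 44, true), (2, 53, true), (1, 54, true), (0, 9, true), (3,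 38, true), (2, 43, true), (4, 3, true), (4, 31, true), (3, 43, true), (2, 6, true), (2, 42, true), (1, 7, true)]),
  ([0, 1, 4], [(0, 10, true), (5, 13, true), (4, 26, true), (3, 37, true), (2, 42, true), (1, 46, true), (0, 53, true), (5, 25, true), (4, 3, true), (4, 24, true), (3, 44, true), (2, 48, true), (1, 7, true), (3, 21, true), (2, 44, true), (1, 48, true), (3, 42, true), (2, 46, true), (1, 53, true), (0, 9, true), (2, 4, true), (1, 48, true), (0, 7, true), (0, 46, true), (2, 20, true), (1, 47, true), (3, 1, true), (2, 48, true), (1, 49, true), (3, 46, true), (2, 51, true), (1, 53, true), (0, 9, true)], [(1, 21, true), (0, 18, true), (4, 16, true), (3, 26, true), (2, 42, true), (1, 46, true), (0, 51, true), (4, 24, true), (3, 44, true), (2, 48, true), (1, 49, true), (5, 23, true), (4, 44, true), (3, 48, true), (2, 49, true), (1, 7, true), (3, 43, true), (2, 45, true), (1, 50, true), (4, 42, true), (3, 46, true), (2, 51, true), (1, 54, true), (0, 9, true), (3, 41, true), (2, 47, true), (1, 6, true), (4, 22, true), (3, 39, true), (2, 44, true), (1, 48,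 true), (4, 37, true), (3, 42, true), (2, 46, true), (1, 53, true), (0, 54, true), (5, 36, true), (4, 41, true), (3, 47, true), (6, 35, true), (5, 44, true), (4, 48, true), (3, 49, true), (2, 7, true), (4, 43, true), (3, 45, true), (2, 50, true), (1, 8, true), (3, 42, true), (2, 46, true), (1, 51, true), (0, 9, true), (2, 41, true), (1, 47, true), (0, 6, true), (1, 40, true), (0, 47, true), (1, 45, true), (0, 50, true), (2, 5, true), (1, 50, true), (0, 8, true), (0, 6, true), (1, 3, true), (1, 21, true), (0, 44, true), (1, 42, true), (2, 4, true), (1, 53, true), (0, 9, true), (0, 7, true), (0, 1, true), (2, 13, true), (1, 53, true), (0, 9, true), (0, 52, true), (1, 7, true), (4, 10, true), (3, 24, true), (2, 39, true), (1, 44, true), (0, 54, true), (4, 22, true), (3, 39, true), (2, 44, true), (1, 54, true), (0, 9, true), (2, 37, true), (1, 42, true), (3, 36, true), (2, 41, true), (1, 52, true), (0, 8, true), (2, 35, true), (1, 44, true), (0, 53, true), (2, 43, true), (3, 42, true), (2, 49, true), (1, 7, true), (2, 41, true), (1, 50, true), (3, 40, true), (2,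 50, true), (1, 8, true), (1, 6, true), (3, 3, true), (3, 21, true), (2, 44, true), (1, 48, true), (3, 42, true), (2, 46, true), (1, 53, true), (0, 9, true), (2, 4, true), (1, 48, true), (0, 7, true), (0, 46, true), (2, 20, true), (1, 47, true), (3, 1, true), (2, 48, true), (1, 49, true), (3, 46, true), (2, 51, true), (1, 53, true), (0, 9, true)]),
  ([0, 1, 5], [(0, 10, true), (5, 14, true), (4, 24, true), (3, 39, true), (2, 44, true), (1, 48, true), (0, 7, true), (3, 19, true), (2, 38, true), (1, 43, true), (0, 45, true), (3, 3, true), (4, 1, true), (3, 33, true), (2, 44, true), (1, 48, true), (3, 43, true), (2, 45, true), (1, 52, true), (0, 8, true), (4, 31, true), (3, 38, true), (2, 43, true), (1, 45, true), (0, 52, true), (4, 37, true), (3, 42, true), (2, 46, true), (1, 53, true), (0, 54, true), (5, 3, true)], [(1, 22, true), (0, 18, true), (4, 16, true), (3, 26, true), (2, 42, true), (1, 46, true), (0, 51, true), (4, 24, true), (3, 44, true), (2, 48, true), (1, 49, true), (5, 23, true), (4, 44, true), (3, 48, true), (2, 49, true), (1, 7, true), (3, 43,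 true), (2, 45, true), (1, 50, true), (4, 42, true), (3, 46, true), (2, 51, true), (1, 54, true), (0, 9, true), (3, 41, true), (2, 47, true), (1, 6, true), (4, 22, true), (3, 39, true), (2, 44, true), (1, 48, true), (4, 37, true), (3, 42, true), (2, 46, true), (1, 53, true), (0, 54, true), (5, 36, true), (4, 41, true), (3, 47, true), (6, 35, true), (5, 44, true), (4, 48, true), (3, 49, true), (2, 7, true), (4, 43, true), (3, 45, true), (2, 50, true), (1, 8, true), (3, 42, true), (2, 46, true), (1, 51, true), (0, 9, true), (2, 41, true), (1, 47, true), (0, 6, true), (1, 40, true), (0, 47, true), (1, 45, true), (0, 50, true), (2, 5, true), (1, 50, true), (0, 8, true), (0, 6, true), (1, 3, true), (1, 21, true), (0, 44, true), (1, 42, true), (2, 4, true), (1, 53, true), (0, 9, true), (0, 7, true), (0, 1, true), (2, 15, true), (1, 53, true), (0, 9, true), (0, 7, true), (5, 14, true), (4, 24, true), (3, 33, true), (2, 39, true), (1, 44, true), (0, 51, true), (3, 38, true), (2, 43, true), (1, 6, true), (2, 3, true), (3, 19, true), (2, 32, true), (1, 44, true), (0,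 9, true), (0, 43, true), (1, 42, true), (0, 49, true), (2, 41, true), (1, 50, true), (0, 52, true), (5, 27, true), (4, 36, true), (3, 41, true), (2, 50, true), (1, 52, true), (0, 8, true), (4, 2, true), (3, 39, true), (2, 44, true), (1, 51, true), (0, 53, true), (4, 38, true), (3, 43, true), (2, 6, true), (3, 36, true), (2, 41, true), (1, 52, true), (4, 35, true), (3, 44, true), (2, 53, true), (1, 54, true), (0, 9, true), (2, 43, true), (3, 42, true), (2, 49, true), (1, 7, true), (2, 41, true), (1, 50, true), (0, 8, true), (1, 40, true), (0, 50, true), (1, 6, true), (3, 34, true), (2, 44, true), (1, 48, true), (3, 43, true), (2, 45, true), (1, 52, true), (0, 8, true), (2, 42, true), (1, 46, true), (0, 53, true), (3, 41, true), (2, 47, true), (4, 4, true), (3, 48, true), (2, 49, true), (1, 7, true), (2, 46, true), (1, 51, true), (0, 9, true), (2, 3, true), (2, 1, true), (1, 48, true), (0, 49, true), (2, 46, true), (1, 51, true), (0, 53, true), (4, 12, true), (3, 48, true), (2, 49, true), (1, 7, true), (2, 5, true), (1, 50, true), (2, 6, true), (5, 10, true),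 (4, 24, true), (3, 33, true), (2, 39, true), (1, 54, true), (0, 9, true), (1, 38, true), (0, 8, true), (0, 3, true), (1, 22, true), (0, 33, true), (3, 31, true), (2, 38, true), (1, 8, true), (1, 37, true), (2, 3, true), (2, 30, true), (3, 29, true), (2, 39, true), (1, 53, true), (0, 9, true), (1, 38, true), (0, 52, true), (2, 34, true), (1, 53, true), (0, 54, true), (2, 52, true), (1, 8, true), (1, 7, true), (4, 27, true), (3, 36, true), (2, 41, true), (1, 50, true), (6, 21, true), (5, 33, true), (4, 39, true), (3, 44, true), (2, 51, true), (1, 54, true), (0, 9, true), (3, 38, true), (2, 43, true), (1, 6, true), (2, 3, true), (2, 31, true), (1, 43, true), (2, 42, true), (1, 49, true), (5, 28, true), (4, 37, true), (3, 42, true), (2, 49, true), (1, 7, true), (3, 36, true), (2, 41, true), (1, 50, true), (0, 8, true), (2, 35, true), (1, 44, true), (0, 51, true), (2, 43, true), (1, 6, true), (1, 42, true), (2, 41, true), (1, 52, true), (3, 40, true), (2, 52, true), (1, 8, true), (7, 20, true), (6, 32, true), (5, 39, true), (4, 44, true), (3, 48, true), (2, 49,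 true), (1, 7, true), (4, 38, true), (3, 43, true), (2, 45, true), (1, 50, true), (5, 37, true), (4, 42, true), (3, 46, true), (2, 51, true), (1, 54, true), (0, 9, true), (4, 36, true), (3, 41, true), (2, 47, true), (1, 6, true), (3, 3, true), (4, 1, true), (3, 33, true), (2, 44, true), (1, 48, true), (3, 43, true), (2, 45, true), (1, 52, true), (0, 8, true), (4, 31, true), (3, 38, true), (2, 43, true), (1, 45, true), (0, 52, true), (4, 37, true), (3, 42, true), (2, 46, true), (1, 53, true), (0, 54, true), (5, 3, true)]),
  ([0, 1, 6], [(0, 10, true), (5, 15, true), (4, 26, true), (3, 37, true), (2, 42, true), (1, 46, true), (0, 53, true), (5, 24, true), (4, 39, true), (3, 44, true), (2, 48, true), (1, 7, true), (4, 23, true), (3, 39, true), (2, 44, true), (1, 48, true), (4, 38, true), (3, 43, true), (2, 45, true), (1, 52, true), (5, 37, true), (4, 42, true), (3, 46, true), (2, 53, true), (1, 54, true), (0, 9, true), (4, 36, true), (3, 41, true), (2, 47, true), (5, 3, true), (5, 21, true), (4, 44, true), (3, 48, true), (2, 49, true), (1, 7, true), (3, 42, true),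 (2, 46, true), (1, 51, true), (0, 54, true), (4, 4, true), (3, 48, true), (2, 49, true), (4, 46, true), (3, 51, true), (2, 53, true), (1, 54, true), (0, 9, true), (4, 20, true), (3, 47, true), (2, 6, true), (3, 19, true), (2, 47, true), (6, 1, true), (5, 33, true), (4, 39, true), (3, 48, true), (2, 49, true), (1, 7, true), (3, 38, true), (2, 47, true), (1, 6, true), (2, 3, true), (2, 31, true), (1, 47, true), (2, 46, true), (1, 51, true), (0, 54, true)], [(1, 23, true), (0, 18, true), (4, 17, true), (3, 26, true), (2, 42, true), (1, 46, true), (0, 51, true), (4, 23, true), (3, 44, true), (2, 48, true), (1, 49, true), (4, 43, true), (3, 45, true), (2, 50, true), (1, 52, true), (5, 42, true), (4, 46, true), (3, 51, true), (2, 53, true), (1, 54, true), (0, 9, true), (4, 41, true), (3, 47, true), (2, 6, true), (5, 22, true), (4, 39, true), (3, 44, true), (2, 48, true), (1, 7, true), (3, 37, true), (2, 42, true), (1, 46, true), (0, 54, true), (4, 36, true), (3, 41, true), (2, 47, true), (5, 35, true), (4, 44, true), (3, 48, true), (2, 49, true), (5, 43, true), (4,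 45, true), (3, 50, true), (2, 52, true), (1, 8, true), (4, 42, true), (3, 46, true), (2, 51, true), (1, 53, true), (0, 9, true), (3, 41, true), (2, 47, true), (1, 6, true), (2, 40, true), (1, 47, true), (2, 45, true), (1, 50, true), (0, 52, true), (3, 5, true), (2, 50, true), (1, 52, true), (0, 8, true), (1, 6, true), (2, 3, true), (2, 19, true), (1, 43, true), (5, 1, true), (4, 33, true), (3, 39, true), (2, 44, true), (1, 51, true), (0, 53, true), (4, 38, true), (3, 43, true), (2, 6, true), (3, 3, true), (3, 31, true), (2, 43, true), (3, 42, true), (2, 49, true), (1, 7, true), (5, 16, true), (4, 33, true), (3, 39, true), (2, 44, true), (1, 51, true), (0, 9, true), (2, 38, true), (1, 43, true), (0, 6, true), (1, 3, true), (1, 31, true), (0, 43, true), (1, 42, true), (0, 49, true), (4, 30, true), (3, 3, true), (3, 29, true), (2, 44, true), (1, 51, true), (0, 53, true), (3, 43, true), (2, 6, true), (2, 4, true), (1, 53, true), (0, 9, true), (0, 7, true), (0, 28, true), (5, 15, true), (4, 26, true), (3, 31, true), (2, 47, true), (1, 6, true), (1, 46, true), (0,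 53, true), (5, 24, true), (4, 33, true), (3, 39, true), (2, 48, true), (1, 7, true), (2, 38, true), (1, 47, true), (3, 3, true), (4, 23, true), (3, 33, true), (2, 48, true), (1, 49, true), (3, 47, true), (2, 6, true), (4, 32, true), (3, 39, true), (2, 48, true), (1, 7, true), (2, 38, true), (1, 47, true), (3, 37, true), (2, 46, true), (1, 51, true), (0, 9, true), (2, 36, true), (1, 45, true), (0, 50, true), (3, 3, true), (3, 31, true), (2, 47, true), (1, 6, true), (1, 46, true), (0, 54, true), (4, 30, true), (3, 3, true), (3, 27, true), (2, 45, true), (1, 8, true), (3, 21, true), (2, 33, true), (1, 48, true), (2, 47, true), (5, 31, true), (4, 38, true), (3, 47, true), (2, 6, true), (3, 37, true), (2, 46, true), (1, 53, true), (0, 9, true), (2, 3, true), (2, 28, true), (1, 46, true), (0, 53, true), (2, 45, true), (1, 52, true), (3, 5, true), (2, 52, true), (1, 8, true), (4, 20, true), (3, 32, true), (2, 51, true), (1, 53, true), (0, 9, true), (1, 50, true), (0, 52, true), (2, 49, true), (1, 7, true), (1, 6, true), (3, 19, true), (2, 32, true), (1, 39, true),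 (0, 54, true), (2, 38, true), (1, 8, true), (1, 37, true), (2, 36, true), (3, 3, true), (3, 27, true), (2, 6, true), (2, 2, true), (1, 53, true), (0, 9, true), (0, 52, true), (6, 1, true), (5, 39, true), (4, 44, true), (3, 48, true), (2, 49, true), (1, 7, true), (4, 37, true), (3, 42, true), (2, 46, true), (1, 51, true), (0, 54, true), (6, 12, true), (5, 39, true), (4, 44, true), (3, 48, true), (2, 49, true), (6, 35, true), (5, 44, true), (4, 48, true), (3, 49, true), (2, 7, true), (4, 43, true), (3, 45, true), (2, 50, true), (1, 8, true), (3, 42, true), (2, 46, true), (1, 51, true), (0, 9, true), (2, 41, true), (1, 47, true), (0, 6, true), (1, 40, true), (0, 47, true), (1, 45, true), (0, 50, true), (2, 5, true), (1, 50, true), (0, 8, true), (0, 6, true), (1, 3, true), (3, 10, true), (2, 24, true), (1, 33, true), (0, 44, true), (1, 43, true), (5, 22, true), (4, 33, true), (3, 39, true), (2, 44, true), (1, 51, true), (0, 9, true), (2, 38, true), (1, 43, true), (0, 6, true), (1, 3, true), (1, 31, true), (0, 43, true), (1, 42, true), (0, 49, true), (4, 30, true),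 (3, 3, true), (3, 29, true), (2, 44, true), (1, 51, true), (0, 53, true), (3, 43, true), (2, 6, true), (2, 4, true), (1, 53, true), (0, 9, true), (0, 7, true), (0, 27, true), (2, 21, true), (1, 33, true), (0, 51, true), (1, 50, true), (4, 31, true), (3, 38, true), (2, 50, true), (1, 8, true), (2, 37, true), (1, 49, true), (3, 3, true), (3, 28, true), (2, 49, true), (1, 7, true), (1, 6, true), (3, 20, true), (2, 32, true), (1, 48, true), (2, 47, true), (3, 46, true), (2, 51, true), (1, 53, true), (0, 9, true), (2, 45, true), (1, 50, true), (0, 52, true), (6, 1, true), (5, 33, true), (4, 39, true), (3, 48, true), (2, 49, true), (1, 7, true), (3, 38, true), (2, 47, true), (1, 6, true), (2, 3, true), (2, 31, true), (1, 47, true), (2, 46, true), (1, 51, true), (0, 54, true)]),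
  ([0, 1, 7], [(0, 10, true), (5, 16, true), (4, 26, true), (3, 37, true), (2, 42, true), (1, 46, true), (0, 53, true), (5, 24, true), (4, 39, true), (3, 44, true), (2, 48, true), (1, 7, true), (4, 23, true), (3, 39, true), (2, 44, true), (1, 48, true), (4, 38, true), (3, 43, true), (2, 45, true), (1, 52, true), (5, 37, true), (4, 42, true), (3, 46, true), (2, 53, true), (1, 54, true), (0, 9, true), (4, 36, true), (3, 41, true), (2, 47, true), (5, 3, true), (5, 22, true), (4, 44, true), (3, 48, true), (2, 49, true), (1, 7, true), (3, 42, true), (2, 46, true), (1, 51, true), (0, 54, true), (4, 41, true), (3, 47, true), (2, 6, true), (3, 40, true), (2, 47, true), (3, 45, true), (2, 50, true), (1, 8, true), (2, 5, true), (1, 50, true), (2, 6, true), (4, 21, true), (3, 39, true), (2, 44, true), (1, 54, true), (0, 9, true), (2, 37, true), (1, 42, true), (3, 34, true), (2, 44, true), (1, 53, true), (0, 54, true), (3, 43, true), (4, 42, true), (3, 49, true), (2, 7, true), (3, 41, true), (2, 50, true), (1, 8, true), (2, 4, true), (1, 51, true), (0, 9, true), (0, 49,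 true), (3, 1, true), (2, 39, true), (1, 51, true), (0, 53, true), (3, 37, true), (2, 49, true), (1, 7, true)], [(1, 24, true), (0, 18, true), (4, 10, true), (3, 24, true), (2, 44, true), (1, 48, true), (0, 49, true), (4, 22, true), (3, 44, true), (2, 48, true), (1, 49, true), (0, 7, true), (2, 42, true), (1, 46, true), (0, 51, true), (3, 41, true), (2, 47, true), (1, 6, true), (2, 40, true), (1, 47, true), (2, 45, true), (1, 50, true), (3, 5, true), (2, 50, true), (1, 8, true), (1, 6, true), (3, 21, true), (2, 39, true), (1, 44, true), (0, 9, true), (1, 37, true), (0, 42, true), (2, 34, true), (1, 44, true), (0, 53, true), (2, 43, true), (3, 42, true), (2, 49, true), (1, 7, true), (2, 41, true), (1, 50, true), (3, 4, true), (2, 51, true), (1, 54, true), (0, 9, true), (1, 49, true), (4, 20, true), (3, 38, true), (2, 50, true), (1, 52, true), (0, 8, true), (3, 1, true), (2, 39, true), (1, 51, true), (0, 53, true), (3, 37, true), (2, 49, true), (1, 7, true)]),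
  ([0, 1, 8], [(0, 10, true), (5, 17, true), (4, 26, true), (3, 37, true), (2, 42, true), (1, 46, true), (0, 53, true), (5, 23, true), (4, 39, true), (3, 44, true), (2, 48, true), (1, 7, true), (3, 38, true), (2, 43, true), (1, 45, true), (4, 37, true), (3, 42, true), (2, 46, true), (1, 54, true), (0, 9, true), (3, 36, true), (2, 41, true), (1, 47, true), (4, 3, true), (4, 22, true), (3, 44, true), (2, 48, true), (1, 49, true), (4, 42, true), (3, 46, true), (2, 51, true), (1, 53, true), (0, 54, true), (5, 41, true), (4, 47, true), (3, 6, true), (4, 40, true), (3, 47, true), (4, 45, true), (3, 50, true), (2, 52, true), (1, 8, true), (3, 5, true), (2, 50, true), (1, 52, true), (3, 6, true), (5, 19, true), (4, 38, true), (3, 43, true), (5, 3, true), (6, 1, true), (5, 33, true), (4, 44, true), (3, 51, true), (2, 53, true), (1, 54, true), (0, 9, true), (3, 43, true), (2, 6, true), (4, 31, true), (3, 38, true), (2, 43, true), (4, 37, true), (3, 42, true), (2, 49, true), (1, 7, true), (3, 3, true)], [(1, 25, true), (0, 12, true), (5, 10, true), (4, 24, true), (3,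 33, true), (2, 39, true), (1, 48, true), (3, 38, true), (2, 47, true), (4, 3, true), (5, 22, true), (4, 33, true), (3, 48, true), (2, 49, true), (1, 7, true), (2, 47, true), (1, 6, true), (3, 31, true), (2, 38, true), (1, 47, true), (3, 37, true), (2, 46, true), (1, 51, true), (0, 9, true), (2, 3, true), (2, 30, true), (3, 29, true), (2, 39, true), (1, 48, true), (0, 49, true), (3, 38, true), (2, 47, true), (1, 6, true), (2, 34, true), (1, 48, true), (0, 7, true), (0, 47, true), (1, 46, true), (0, 51, true), (2, 45, true), (1, 50, true), (6, 27, true), (5, 36, true), (4, 41, true), (3, 47, true), (2, 6, true), (6, 21, true), (5, 33, true), (4, 39, true), (3, 44, true), (2, 48, true), (5, 38, true), (4, 43, true), (3, 45, true), (2, 52, true), (1, 8, true), (4, 3, true), (4, 31, true), (3, 43, true), (2, 45, true), (1, 52, true), (4, 42, true), (3, 46, true), (2, 53, true), (1, 54, true), (0, 9, true), (5, 28, true), (4, 37, true), (3, 42, true), (2, 46, true), (1, 53, true), (0, 54, true), (5, 36, true), (4, 41, true), (3, 47, true), (6, 35, true), (5, 44,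 true), (4, 48, true), (3, 49, true), (2, 7, true), (4, 43, true), (3, 45, true), (2, 50, true), (1, 8, true), (3, 42, true), (2, 46, true), (1, 51, true), (0, 9, true), (2, 41, true), (1, 47, true), (0, 6, true), (1, 40, true), (0, 47, true), (1, 45, true), (0, 50, true), (2, 5, true), (1, 50, true), (0, 8, true), (0, 6, true), (3, 20, true), (2, 32, true), (1, 39, true), (0, 44, true), (2, 38, true), (1, 43, true), (3, 37, true), (2, 42, true), (1, 49, true), (4, 36, true), (3, 41, true), (2, 50, true), (1, 52, true), (5, 3, true), (6, 1, true), (5, 33, true), (4, 44, true), (3, 51, true), (2, 53, true), (1, 54, true), (0, 9, true), (3, 43, true), (2, 6, true), (4, 31, true), (3, 38, true), (2, 43, true), (4, 37, true), (3, 42, true), (2, 49, true), (1, 7, true), (3, 3, true)]),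
  ([0, 1, 9], [(0, 10, true), (5, 18, true), (4, 23, true), (3, 39, true), (2, 44, true), (1, 48, true), (0, 7, true), (2, 38, true), (1, 43, true), (0, 45, true), (3, 37, true), (2, 42, true), (1, 46, true), (0, 54, true), (4, 36, true), (3, 41, true), (2, 47, true), (5, 3, true), (5, 22, true), (4, 44, true), (3, 48, true), (2, 49, true), (5, 42, true), (4, 46, true), (3, 51, true), (2, 53, true), (1, 54, true), (0, 9, true), (4, 41, true), (3, 47, true), (2, 6, true), (3, 40, true), (2, 47, true), (3, 45, true), (2, 50, true), (1, 52, true), (0, 8, true), (2, 5, true), (1, 50, true), (0, 52, true), (2, 6, true), (4, 21, true), (3, 39, true), (2, 44, true), (1, 53, true), (0, 54, true), (4, 37, true), (3, 42, true), (2, 7, true), (3, 34, true), (2, 44, true), (1, 54, true), (0, 9, true), (1, 43, true), (2, 42, true), (1, 49, true), (3, 41, true), (2, 50, true), (1, 52, true), (0, 8, true), (2, 4, true), (1, 51, true), (0, 53, true), (2, 49, true), (1, 7, true), (3, 1, true), (2, 39, true), (1, 51, true), (0, 9, true), (1, 37, true), (0, 49, true)], [(1, 26,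 true), (0, 16, true), (6, 10, true), (5, 24, true), (4, 44, true), (3, 48, true), (2, 49, true), (1, 7, true), (4, 22, true), (3, 44, true), (2, 48, true), (1, 49, true), (4, 42, true), (3, 46, true), (2, 51, true), (1, 53, true), (0, 9, true), (3, 41, true), (2, 47, true), (1, 6, true), (2, 40, true), (1, 47, true), (2, 45, true), (1, 50, true), (0, 52, true), (3, 5, true), (2, 50, true), (1, 52, true), (0, 8, true), (1, 6, true), (3, 21, true), (2, 39, true), (1, 44, true), (0, 53, true), (3, 37, true), (2, 42, true), (1, 7, true), (2, 34, true), (1, 44, true), (0, 9, true), (0, 43, true), (1, 42, true), (0, 49, true), (2, 41, true), (1, 50, true), (0, 52, true), (3, 4, true), (2, 51, true), (1, 53, true), (0, 54, true), (3, 49, true), (2, 7, true), (4, 20, true), (3, 38, true), (2, 50, true), (1, 8, true), (3, 1, true), (2, 39, true), (1, 51, true), (0, 9, true), (1, 37, true), (0, 49, true)]),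
  ([0, 2, 3], [(0, 11, true), (4, 12, true), (3, 48, true), (2, 49, true), (4, 5, true), (3, 50, true), (2, 52, true), (1, 8, true), (2, 6, true)], [(1, 27, true), (0, 15, true), (7, 11, true), (6, 26, true), (5, 31, true), (4, 38, true), (3, 43, true), (2, 6, true), (3, 37, true), (2, 42, true), (1, 7, true), (2, 3, true), (3, 25, true), (2, 27, true), (1, 41, true), (4, 23, true), (3, 33, true), (2, 44, true), (1, 54, true), (0, 9, true), (1, 43, true), (4, 32, true), (3, 39, true), (2, 44, true), (1, 51, true), (0, 54, true), (4, 38, true), (3, 43, true), (2, 6, true), (3, 37, true), (2, 42, true), (4, 36, true), (3, 41, true), (2, 52, true), (1, 8, true), (3, 3, true), (3, 31, true), (2, 43, true), (3, 42, true), (2, 49, true), (1, 7, true), (4, 30, true), (3, 3, true), (3, 27, true), (2, 41, true), (1, 50, true), (5, 22, true), (4, 33, true), (3, 44, true), (2, 51, true), (1, 54, true), (0, 9, true), (2, 43, true), (1, 6, true), (3, 31, true), (2, 38, true), (1, 43, true), (3, 37, true), (2, 42, true), (1, 49, true), (4, 3, true), (4, 30, true), (5, 29,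 true), (4, 39, true), (3, 44, true), (2, 51, true), (1, 53, true), (0, 54, true), (5, 38, true), (4, 43, true), (3, 6, true), (4, 34, true), (3, 44, true), (2, 53, true), (1, 54, true), (0, 9, true), (2, 43, true), (3, 42, true), (2, 49, true), (1, 7, true), (2, 41, true), (1, 50, true), (0, 8, true), (1, 4, true), (0, 51, true), (1, 49, true), (4, 27, true), (3, 36, true), (2, 6, true)]),
  ([0, 2, 4], [(0, 11, true), (4, 13, true), (3, 48, true), (2, 49, true), (4, 47, true), (3, 6, true), (3, 46, true), (2, 53, true), (1, 54, true), (0, 9, true)], [(1, 28, true), (0, 16, true), (6, 15, true), (5, 26, true), (4, 42, true), (3, 46, true), (2, 51, true), (1, 53, true), (0, 9, true), (4, 24, true), (3, 44, true), (2, 48, true), (1, 49, true), (0, 7, true), (3, 23, true), (2, 44, true), (1, 48, true), (0, 49, true), (3, 43, true), (2, 45, true), (1, 50, true), (0, 52, true), (4, 42, true), (3, 46, true), (2, 51, true), (1, 53, true), (0, 54, true), (5, 41, true), (4, 47, true), (3, 6, true), (6, 21, true), (5, 39, true), (4, 44, true), (3, 48, true), (2, 7, true),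 (4, 37, true), (3, 42, true), (2, 46, true), (1, 54, true), (0, 9, true), (3, 34, true), (2, 44, true), (1, 48, true), (3, 43, true), (2, 45, true), (1, 52, true), (0, 8, true), (2, 42, true), (1, 46, true), (0, 53, true), (3, 41, true), (2, 47, true), (4, 4, true), (3, 48, true), (2, 49, true), (1, 7, true), (2, 46, true), (1, 51, true), (0, 9, true), (3, 20, true), (2, 38, true), (1, 47, true), (0, 6, true), (2, 19, true), (1, 38, true), (0, 47, true), (2, 3, true), (3, 1, true), (2, 33, true), (1, 48, true), (0, 49, true), (2, 47, true), (1, 6, true), (3, 31, true), (2, 38, true), (1, 47, true), (3, 37, true), (2, 46, true), (1, 51, true), (0, 53, true), (4, 3, true), (5, 14, true), (4, 31, true), (3, 47, true), (2, 6, true), (2, 46, true), (1, 53, true), (0, 9, true), (3, 2, true), (2, 39, true), (1, 48, true), (0, 7, true), (1, 38, true), (0, 47, true), (2, 36, true), (1, 45, true), (0, 50, true), (3, 35, true), (2, 48, true), (1, 49, true), (3, 47, true), (2, 6, true), (2, 46, true), (1, 53, true), (0, 54, true), (3, 45, true), (2, 52, true), (1, 8, true),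 (2, 5, true), (1, 52, true), (4, 34, true), (3, 51, true), (2, 53, true), (1, 54, true), (0, 9, true), (2, 50, true), (1, 52, true), (0, 8, true), (1, 49, true), (0, 7, true), (0, 6, true), (1, 3, true), (2, 11, true), (1, 26, true), (0, 42, true), (2, 25, true), (3, 23, true), (2, 39, true), (1, 44, true), (0, 53, true), (3, 38, true), (2, 43, true), (4, 37, true), (3, 42, true), (2, 49, true), (1, 7, true), (3, 36, true), (2, 41, true), (1, 50, true), (4, 3, true), (4, 22, true), (3, 44, true), (2, 51, true), (1, 54, true), (0, 9, true), (2, 42, true), (1, 49, true), (3, 41, true), (2, 50, true), (1, 52, true), (0, 8, true), (2, 40, true), (1, 50, true), (0, 52, true), (2, 6, true)]),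
  ([0, 2, 5], [(0, 11, true), (4, 14, true), (3, 46, true), (2, 51, true), (1, 54, true), (0, 9, true)], [(1, 29, true), (0, 18, true), (4, 17, true), (3, 26, true), (2, 42, true), (1, 46, true), (0, 51, true), (4, 23, true), (3, 44, true), (2, 48, true), (1, 49, true), (4, 43, true), (3, 45, true), (2, 50, true), (1, 52, true), (5, 42, true), (4, 46, true), (3, 51, true), (2, 53, true), (1, 54, true), (0, 9, true), (4, 41, true), (3, 47, true), (2, 6, true), (5, 22, true), (4, 39, true), (3, 44, true), (2, 48, true), (1, 7, true), (3, 37, true), (2, 42, true), (1, 46, true), (0, 54, true), (4, 36, true), (3, 41, true), (2, 47, true), (5, 35, true), (4, 44, true), (3, 48, true), (2, 49, true), (5, 43, true), (4, 45, true), (3, 50, true), (2, 52, true), (1, 8, true), (4, 42, true), (3, 46, true), (2, 51, true), (1, 53, true), (0, 9, true), (3, 41, true), (2, 47, true), (1, 6, true), (2, 40, true), (1, 47, true), (2, 45, true), (1, 50, true), (0, 52, true), (3, 5, true), (2, 50, true), (1, 52, true), (0, 8, true), (1, 6, true), (2, 3, true), (2, 19, true), (1,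 43, true), (5, 1, true), (4, 33, true), (3, 39, true), (2, 44, true), (1, 51, true), (0, 53, true), (4, 38, true), (3, 43, true), (2, 6, true), (3, 3, true), (3, 31, true), (2, 43, true), (3, 42, true), (2, 49, true), (1, 7, true), (5, 13, true), (4, 33, true), (3, 39, true), (2, 44, true), (1, 51, true), (0, 9, true), (2, 38, true), (1, 43, true), (0, 6, true), (1, 3, true), (1, 32, true), (0, 44, true), (1, 43, true), (2, 42, true), (1, 49, true), (3, 41, true), (2, 50, true), (1, 52, true), (6, 31, true), (5, 38, true), (4, 43, true), (3, 6, true), (4, 37, true), (3, 42, true), (2, 7, true), (3, 3, true), (3, 28, true), (2, 42, true), (3, 41, true), (2, 52, true), (1, 8, true), (2, 40, true), (1, 52, true), (6, 27, true), (5, 41, true), (4, 47, true), (3, 6, true), (7, 11, true), (6, 26, true), (5, 31, true), (4, 43, true), (3, 45, true), (2, 52, true), (1, 8, true), (3, 42, true), (2, 46, true), (1, 53, true), (0, 9, true), (5, 25, true), (4, 27, true), (3, 36, true), (2, 41, true), (1, 47, true), (6, 23, true), (5, 33, true), (4, 39, true), (3, 44, true),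 (2, 48, true), (1, 49, true), (0, 7, true), (3, 38, true), (2, 43, true), (1, 45, true), (0, 50, true), (4, 3, true), (4, 32, true), (3, 44, true), (2, 48, true), (1, 49, true), (4, 43, true), (3, 45, true), (2, 50, true), (1, 52, true), (0, 8, true), (3, 42, true), (2, 46, true), (1, 51, true), (0, 53, true), (4, 41, true), (3, 47, true), (2, 6, true), (5, 31, true), (4, 38, true), (3, 43, true), (2, 45, true), (1, 52, true), (5, 37, true), (4, 42, true), (3, 46, true), (2, 53, true), (1, 54, true), (0, 9, true), (4, 3, true), (4, 30, true), (5, 27, true), (4, 36, true), (3, 41, true), (2, 47, true), (7, 22, true), (6, 33, true), (5, 39, true), (4, 44, true), (3, 48, true), (2, 49, true), (1, 7, true), (4, 38, true), (3, 43, true), (2, 45, true), (1, 50, true), (0, 8, true), (3, 3, true), (3, 31, true), (2, 43, true), (1, 45, true), (0, 50, true), (3, 42, true), (2, 46, true), (1, 51, true), (0, 54, true), (6, 30, true), (5, 3, true), (5, 29, true), (4, 44, true), (3, 48, true), (2, 49, true), (5, 43, true), (4, 45, true), (3, 50, true), (2, 52, true), (1,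 8, true), (4, 4, true), (3, 48, true), (2, 49, true), (1, 7, true), (2, 46, true), (1, 51, true), (0, 9, true), (2, 27, true), (1, 45, true), (0, 50, true)]),
  ([0, 2, 6], [(0, 11, true), (4, 15, true), (3, 48, true), (2, 49, true), (4, 46, true), (3, 51, true), (2, 53, true), (1, 54, true), (0, 9, true), (3, 45, true), (2, 50, true), (1, 52, true), (0, 8, true)], [(1, 30, true), (0, 12, true), (5, 11, true), (4, 26, true), (3, 31, true), (2, 38, true), (1, 47, true), (3, 37, true), (2, 46, true), (1, 51, true), (0, 9, true), (2, 3, true), (3, 25, true), (2, 27, true), (1, 45, true), (0, 50, true), (4, 23, true), (3, 33, true), (2, 48, true), (1, 49, true), (3, 47, true), (2, 6, true), (4, 32, true), (3, 39, true), (2, 48, true), (1, 7, true), (2, 38, true), (1, 47, true), (3, 37, true), (2, 46, true), (1, 51, true), (0, 54, true), (4, 36, true), (3, 45, true), (2, 50, true), (1, 8, true), (3, 3, true), (3, 31, true), (2, 47, true), (1, 6, true), (1, 46, true), (0, 9, true), (2, 30, true), (1, 3, true), (1, 27, true), (0, 45, true), (3, 22, true), (2, 33,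 true), (1, 48, true), (2, 47, true), (5, 31, true), (4, 38, true), (3, 47, true), (2, 6, true), (3, 37, true), (2, 46, true), (1, 53, true), (0, 54, true), (4, 3, true), (4, 30, true), (5, 29, true), (4, 39, true), (3, 48, true), (2, 7, true), (3, 38, true), (2, 47, true), (4, 34, true), (3, 48, true), (2, 49, true), (4, 47, true), (3, 6, true), (3, 46, true), (2, 53, true), (1, 54, true), (0, 9, true), (2, 45, true), (1, 52, true), (0, 8, true), (4, 27, true), (3, 36, true), (2, 41, true), (1, 47, true)]),
  ([0, 2, 7], [(0, 11, true), (4, 16, true), (3, 48, true), (2, 49, true), (4, 46, true), (3, 51, true), (2, 53, true), (1, 54, true), (0, 9, true), (3, 45, true), (2, 50, true), (1, 52, true), (0, 8, true), (2, 5, true), (1, 50, true), (0, 52, true), (2, 6, true)], [(1, 31, true), (0, 17, true), (5, 16, true), (4, 26, true), (3, 31, true), (2, 47, true), (1, 6, true), (1, 46, true), (0, 9, true), (3, 24, true), (2, 33, true), (1, 39, true), (0, 48, true), (2, 38, true), (1, 47, true), (3, 3, true), (4, 23, true), (3, 33, true), (2, 48, true), (1, 49, true),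 (0, 7, true), (1, 47, true), (0, 6, true), (2, 32, true), (1, 39, true), (0, 48, true), (2, 38, true), (1, 47, true), (3, 37, true), (2, 46, true), (1, 51, true), (0, 53, true), (4, 36, true), (3, 45, true), (2, 50, true), (1, 52, true), (5, 3, true), (5, 31, true), (4, 47, true), (3, 6, true), (3, 46, true), (2, 53, true), (1, 54, true), (0, 9, true), (4, 30, true), (3, 3, true), (3, 27, true), (2, 45, true), (1, 52, true), (0, 8, true), (3, 22, true), (2, 33, true), (1, 48, true), (0, 7, true), (0, 47, true), (3, 31, true), (2, 38, true), (1, 47, true), (0, 6, true), (1, 37, true), (0, 46, true), (2, 3, true), (2, 30, true), (3, 29, true), (2, 39, true), (1, 48, true), (3, 38, true), (2, 47, true), (4, 34, true), (3, 48, true), (2, 49, true), (1, 7, true), (2, 47, true), (1, 6, true), (1, 46, true), (0, 9, true), (0, 45, true), (4, 27, true), (3, 36, true), (2, 41, true), (1, 47, true), (6, 21, true), (5, 33, true), (4, 39, true), (3, 44, true), (2, 48, true), (1, 49, true), (5, 38, true), (4, 43, true), (3, 45, true), (2, 50, true), (1, 52, true), (0, 8,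 true), (4, 3, true), (4, 31, true), (3, 43, true), (2, 45, true), (1, 50, true), (0, 52, true), (4, 42, true), (3, 46, true), (2, 51, true), (1, 53, true), (0, 54, true), (7, 28, true), (6, 37, true), (5, 42, true), (4, 46, true), (3, 51, true), (2, 53, true), (1, 54, true), (0, 9, true), (5, 36, true), (4, 41, true), (3, 47, true), (2, 6, true), (4, 35, true), (3, 44, true), (2, 48, true), (1, 7, true), (2, 43, true), (1, 45, true), (0, 8, true), (1, 42, true), (0, 46, true), (2, 41, true), (1, 47, true), (3, 40, true), (2, 47, true), (1, 6, true), (1, 45, true), (2, 5, true), (1, 8, true), (5, 1, true), (4, 33, true), (3, 39, true), (2, 44, true), (1, 51, true), (0, 9, true), (2, 38, true), (1, 43, true), (0, 6, true), (1, 3, true), (1, 31, true), (0, 43, true), (1, 42, true), (0, 49, true), (5, 12, true), (4, 33, true), (3, 39, true), (2, 44, true), (1, 51, true), (0, 53, true), (4, 38, true), (3, 43, true), (2, 6, true), (3, 3, true), (3, 29, true), (2, 44, true), (1, 53, true), (0, 9, true), (1, 43, true), (2, 4, true), (1, 51, true), (0, 53, true), (2,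 49, true), (1, 7, true), (2, 27, true), (1, 6, true), (1, 2, true), (0, 9, true), (6, 11, true), (5, 26, true), (4, 37, true), (3, 42, true), (2, 46, true), (1, 51, true), (0, 54, true), (6, 25, true), (5, 3, true), (5, 23, true), (4, 44, true), (3, 48, true), (2, 49, true), (5, 43, true), (4, 45, true), (3, 50, true), (2, 52, true), (1, 8, true), (4, 42, true), (3, 46, true), (2, 51, true), (1, 53, true), (0, 9, true), (3, 41, true), (2, 47, true), (1, 6, true), (4, 22, true), (3, 39, true), (2, 44, true), (1, 48, true), (0, 7, true), (2, 37, true), (1, 42, true), (0, 46, true), (3, 36, true), (2, 41, true), (1, 47, true), (4, 35, true), (3, 44, true), (2, 48, true), (1, 49, true), (4, 43, true), (3, 45, true), (2, 50, true), (1, 52, true), (5, 42, true), (4, 46, true), (3, 51, true), (2, 53, true), (1, 54, true), (0, 9, true), (4, 41, true), (3, 47, true), (2, 6, true), (3, 40, true), (2, 47, true), (3, 45, true), (2, 50, true), (1, 52, true), (0, 8, true), (2, 5, true), (1, 50, true), (0, 52, true), (2, 6, true), (3, 3, true)]),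
  ([0, 2, 8], [(0, 11, true), (4, 17, true), (3, 48, true), (2, 49, true), (4, 45, true), (3, 50, true), (2, 52, true), (1, 8, true), (3, 5, true), (2, 50, true), (1, 52, true), (3, 6, true)], [(1, 32, true), (0, 18, true), (4, 17, true), (3, 26, true), (2, 42, true), (1, 46, true), (0, 51, true), (4, 23, true), (3, 44, true), (2, 48, true), (1, 49, true), (4, 43, true), (3, 45, true), (2, 50, true), (1, 52, true), (5, 42, true), (4, 46, true), (3, 51, true), (2, 53, true), (1, 54, true), (0, 9, true), (4, 41, true), (3, 47, true), (2, 6, true), (5, 22, true), (4, 39, true), (3, 44, true), (2, 48, true), (1, 7, true), (3, 37, true), (2, 42, true), (1, 46, true), (0, 54, true), (4, 36, true), (3, 41, true), (2, 47, true), (5, 35, true), (4, 44, true), (3, 48, true), (2, 49, true), (5, 43, true), (4, 45, true), (3, 50, true), (2, 52, true), (1, 8, true), (4, 42, true), (3, 46, true), (2, 51, true), (1, 53, true), (0, 9, true), (3, 41, true), (2, 47, true), (1, 6, true), (2, 40, true), (1, 47, true), (2, 45, true), (1, 50, true), (0, 52, true), (3, 5, true), (2,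 50, true), (1, 52, true), (0, 8, true), (1, 6, true), (2, 3, true), (2, 19, true), (1, 43, true), (5, 1, true), (4, 33, true), (3, 39, true), (2, 44, true), (1, 51, true), (0, 53, true), (4, 38, true), (3, 43, true), (2, 6, true), (3, 3, true), (3, 31, true), (2, 43, true), (3, 42, true), (2, 49, true), (1, 7, true), (5, 16, true), (4, 33, true), (3, 39, true), (2, 44, true), (1, 51, true), (0, 9, true), (2, 38, true), (1, 43, true), (0, 6, true), (1, 3, true), (1, 31, true), (0, 43, true), (1, 42, true), (0, 49, true), (4, 30, true), (3, 3, true), (3, 29, true), (2, 44, true), (1, 51, true), (0, 53, true), (3, 43, true), (2, 6, true), (2, 4, true), (1, 53, true), (0, 9, true), (0, 7, true), (0, 28, true), (5, 15, true), (4, 26, true), (3, 31, true), (2, 47, true), (1, 6, true), (1, 46, true), (0, 53, true), (5, 24, true), (4, 33, true), (3, 39, true), (2, 48, true), (1, 7, true), (2, 38, true), (1, 47, true), (3, 3, true), (4, 23, true), (3, 33, true), (2, 48, true), (1, 49, true), (3, 47, true), (2, 6, true), (4, 32, true), (3, 39, true), (2, 48, true), (1,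 7, true), (2, 38, true), (1, 47, true), (3, 37, true), (2, 46, true), (1, 51, true), (0, 9, true), (2, 36, true), (1, 45, true), (0, 50, true), (3, 3, true), (3, 31, true), (2, 47, true), (1, 6, true), (1, 46, true), (0, 54, true), (4, 30, true), (3, 3, true), (3, 27, true), (2, 45, true), (1, 8, true), (3, 21, true), (2, 33, true), (1, 48, true), (2, 47, true), (5, 31, true), (4, 38, true), (3, 47, true), (2, 6, true), (3, 37, true), (2, 46, true), (1, 53, true), (0, 9, true), (2, 3, true), (2, 28, true), (1, 46, true), (0, 53, true), (2, 45, true), (1, 52, true), (3, 5, true), (2, 52, true), (1, 8, true), (4, 20, true), (3, 32, true), (2, 51, true), (1, 53, true), (0, 9, true), (1, 50, true), (0, 52, true), (2, 49, true), (1, 7, true), (1, 6, true), (3, 19, true), (2, 32, true), (1, 39, true), (0, 54, true), (2, 38, true), (1, 8, true), (1, 37, true), (2, 36, true), (3, 3, true), (3, 27, true), (2, 6, true), (2, 2, true), (1, 53, true), (0, 9, true), (0, 52, true), (6, 1, true), (5, 39, true), (4, 44, true), (3, 48, true), (2, 49, true), (1, 7, true), (4,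 37, true), (3, 42, true), (2, 46, true), (1, 51, true), (0, 54, true), (6, 12, true), (5, 39, true), (4, 44, true), (3, 48, true), (2, 49, true), (6, 35, true), (5, 44, true), (4, 48, true), (3, 49, true), (2, 7, true), (4, 43, true), (3, 45, true), (2, 50, true), (1, 8, true), (3, 42, true), (2, 46, true), (1, 51, true), (0, 9, true), (2, 41, true), (1, 47, true), (0, 6, true), (1, 40, true), (0, 47, true), (1, 45, true), (0, 50, true), (2, 5, true), (1, 50, true), (0, 8, true), (0, 6, true), (1, 3, true), (3, 11, true), (2, 26, true), (1, 31, true), (0, 43, true), (1, 42, true), (0, 49, true), (5, 25, true), (4, 27, true), (3, 36, true), (2, 41, true), (1, 50, true), (0, 52, true), (6, 23, true), (5, 33, true), (4, 39, true), (3, 44, true), (2, 51, true), (1, 53, true), (0, 54, true), (5, 38, true), (4, 43, true), (3, 6, true), (4, 3, true), (4, 32, true), (3, 44, true), (2, 53, true), (1, 54, true), (0, 9, true), (2, 43, true), (3, 42, true), (2, 49, true), (1, 7, true), (2, 41, true), (1, 50, true), (0, 8, true), (3, 31, true), (2, 38, true), (1, 43, true),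 (0, 6, true), (1, 37, true), (0, 42, true), (2, 3, true), (2, 30, true), (3, 27, true), (2, 36, true), (1, 41, true), (0, 52, true), (5, 22, true), (4, 33, true), (3, 39, true), (2, 44, true), (1, 53, true), (0, 54, true), (4, 38, true), (3, 43, true), (5, 3, true), (5, 31, true), (4, 43, true), (3, 6, true), (3, 42, true), (2, 7, true), (4, 30, true), (3, 3, true), (3, 29, true), (2, 44, true), (1, 54, true), (0, 9, true), (1, 43, true), (2, 4, true), (1, 51, true), (0, 54, true), (2, 49, true), (4, 27, true), (3, 6, true)]),
  ([0, 2, 9], [(0, 11, true), (4, 18, true), (3, 45, true), (2, 50, true), (1, 8, true), (2, 5, true), (1, 50, true), (2, 6, true)], [(1, 33, true), (0, 18, true), (4, 17, true), (3, 26, true), (2, 42, true), (1, 46, true), (0, 51, true), (4, 23, true), (3, 44, true), (2, 48, true), (1, 49, true), (4, 43, true), (3, 45, true), (2, 50, true), (1, 52, true), (5, 42, true), (4, 46, true), (3, 51, true), (2, 53, true), (1, 54, true), (0, 9, true), (4, 41, true), (3, 47, true), (2, 6, true), (5, 22, true), (4, 39, true), (3, 44, true), (2,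 48, true), (1, 7, true), (3, 37, true), (2, 42, true), (1, 46, true), (0, 54, true), (4, 36, true), (3, 41, true), (2, 47, true), (5, 35, true), (4, 44, true), (3, 48, true), (2, 49, true), (5, 43, true), (4, 45, true), (3, 50, true), (2, 52, true), (1, 8, true), (4, 42, true), (3, 46, true), (2, 51, true), (1, 53, true), (0, 9, true), (3, 41, true), (2, 47, true), (1, 6, true), (2, 40, true), (1, 47, true), (2, 45, true), (1, 50, true), (0, 52, true), (3, 5, true), (2, 50, true), (1, 52, true), (0, 8, true), (1, 6, true), (2, 3, true), (2, 19, true), (1, 43, true), (5, 1, true), (4, 33, true), (3, 39, true), (2, 44, true), (1, 51, true), (0, 53, true), (4, 38, true), (3, 43, true), (2, 6, true), (3, 3, true), (3, 31, true), (2, 43, true), (3, 42, true), (2, 49, true), (1, 7, true), (5, 12, true), (4, 33, true), (3, 39, true), (2, 44, true), (1, 51, true), (0, 9, true), (2, 38, true), (1, 43, true), (0, 6, true), (1, 3, true), (1, 29, true), (0, 44, true), (1, 43, true), (2, 4, true), (1, 51, true), (0, 9, true), (0, 49, true), (2, 27, true), (1, 6, true),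 (1, 2, true), (0, 53, true), (1, 52, true), (8, 11, true), (7, 26, true), (6, 37, true), (5, 42, true), (4, 46, true), (3, 51, true), (2, 53, true), (1, 54, true), (0, 9, true), (6, 25, true), (5, 3, true), (5, 23, true), (4, 44, true), (3, 48, true), (2, 49, true), (1, 7, true), (3, 43, true), (2, 45, true), (1, 50, true), (0, 8, true), (2, 42, true), (1, 46, true), (0, 51, true), (3, 41, true), (2, 47, true), (1, 6, true), (4, 22, true), (3, 39, true), (2, 44, true), (1, 48, true), (4, 37, true), (3, 42, true), (2, 46, true), (1, 53, true), (0, 9, true), (3, 36, true), (2, 41, true), (1, 47, true), (4, 35, true), (3, 44, true), (2, 48, true), (1, 49, true), (0, 7, true), (2, 43, true), (1, 45, true), (0, 50, true), (3, 42, true), (2, 46, true), (1, 51, true), (0, 54, true), (4, 41, true), (3, 47, true), (2, 6, true), (3, 40, true), (2, 47, true), (3, 45, true), (2, 50, true), (1, 8, true), (2, 5, true), (1, 50, true), (2, 6, true), (3, 3, true)]),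
  ([0, 3, 4], [(0, 12, true), (5, 13, true), (4, 26, true), (3, 31, true), (2, 38, true), (1, 47, true), (3, 37, true), (2, 46, true), (1, 51, true), (0, 9, true), (2, 3, true), (3, 25, true), (2, 27, true), (1, 45, true), (0, 50, true), (4, 24, true), (3, 33, true), (2, 48, true), (1, 49, true), (3, 47, true), (2, 6, true), (5, 21, true), (4, 33, true), (3, 39, true), (2, 48, true), (1, 7, true), (2, 38, true), (1, 47, true), (3, 3, true), (3, 31, true), (2, 47, true), (1, 6, true), (1, 46, true), (0, 54, true), (4, 28, true), (3, 37, true), (2, 46, true), (1, 54, true), (0, 9, true), (2, 36, true), (1, 45, true), (0, 8, true), (1, 35, true), (0, 48, true), (1, 47, true), (2, 46, true), (1, 51, true), (0, 53, true), (3, 45, true), (2, 50, true), (1, 52, true), (4, 5, true), (3, 50, true), (2, 52, true), (1, 8, true), (2, 6, true), (4, 20, true), (3, 32, true), (2, 39, true), (1, 53, true), (0, 9, true), (1, 38, true), (0, 52, true), (2, 37, true), (1, 7, true), (1, 36, true), (2, 3, true), (3, 1, true), (2, 33, true), (1, 51, true), (0, 54, true), (2, 50,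 true), (1, 8, true), (3, 31, true), (2, 38, true), (1, 50, true), (3, 37, true), (2, 49, true), (4, 3, true)], [(1, 34, true), (0, 18, true), (4, 17, true), (3, 26, true), (2, 42, true), (1, 46, true), (0, 51, true), (4, 23, true), (3, 44, true), (2, 48, true), (1, 49, true), (4, 43, true), (3, 45, true), (2, 50, true), (1, 52, true), (5, 42, true), (4, 46, true), (3, 51, true), (2, 53, true), (1, 54, true), (0, 9, true), (4, 41, true), (3, 47, true), (2, 6, true), (5, 22, true), (4, 39, true), (3, 44, true), (2, 48, true), (1, 7, true), (3, 37, true), (2, 42, true), (1, 46, true), (0, 54, true), (4, 36, true), (3, 41, true), (2, 47, true), (5, 35, true), (4, 44, true), (3, 48, true), (2, 49, true), (5, 43, true), (4, 45, true), (3, 50, true), (2, 52, true), (1, 8, true), (4, 42, true), (3, 46, true), (2, 51, true), (1, 53, true), (0, 9, true), (3, 41, true), (2, 47, true), (1, 6, true), (2, 40, true), (1, 47, true), (2, 45, true), (1, 50, true), (0, 52, true), (3, 5, true), (2, 50, true), (1, 52, true), (0, 8, true), (1, 6, true), (2, 3, true), (2, 19, true),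 (1, 43, true), (5, 1, true), (4, 33, true), (3, 39, true), (2, 44, true), (1, 51, true), (0, 53, true), (4, 38, true), (3, 43, true), (2, 6, true), (3, 3, true), (3, 31, true), (2, 43, true), (3, 42, true), (2, 49, true), (1, 7, true), (5, 16, true), (4, 33, true), (3, 39, true), (2, 44, true), (1, 51, true), (0, 9, true), (2, 38, true), (1, 43, true), (0, 6, true), (1, 3, true), (1, 31, true), (0, 43, true), (1, 42, true), (0, 49, true), (4, 30, true), (3, 3, true), (3, 29, true), (2, 44, true), (1, 51, true), (0, 53, true), (3, 43, true), (2, 6, true), (2, 4, true), (1, 53, true), (0, 9, true), (0, 7, true), (0, 28, true), (5, 15, true), (4, 26, true), (3, 31, true), (2, 47, true), (1, 6, true), (1, 46, true), (0, 53, true), (5, 24, true), (4, 33, true), (3, 39, true), (2, 48, true), (1, 7, true), (2, 38, true), (1, 47, true), (3, 3, true), (4, 23, true), (3, 33, true), (2, 48, true), (1, 49, true), (3, 47, true), (2, 6, true), (4, 32, true), (3, 39, true), (2, 48, true), (1, 7, true), (2, 38, true), (1, 47, true), (3, 37, true), (2, 46, true), (1, 51, true),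 (0, 9, true), (2, 36, true), (1, 45, true), (0, 50, true), (3, 3, true), (3, 31, true), (2, 47, true), (1, 6, true), (1, 46, true), (0, 54, true), (4, 30, true), (3, 3, true), (3, 27, true), (2, 45, true), (1, 8, true), (3, 21, true), (2, 33, true), (1, 48, true), (2, 47, true), (5, 31, true), (4, 38, true), (3, 47, true), (2, 6, true), (3, 37, true), (2, 46, true), (1, 53, true), (0, 9, true), (2, 3, true), (2, 28, true), (1, 46, true), (0, 53, true), (2, 45, true), (1, 52, true), (3, 5, true), (2, 52, true), (1, 8, true), (4, 20, true), (3, 32, true), (2, 51, true), (1, 53, true), (0, 9, true), (1, 50, true), (0, 52, true), (2, 49, true), (1, 7, true), (1, 6, true), (3, 19, true), (2, 32, true), (1, 39, true), (0, 54, true), (2, 38, true), (1, 8, true), (1, 37, true), (2, 36, true), (3, 3, true), (3, 27, true), (2, 6, true), (2, 2, true), (1, 53, true), (0, 9, true), (0, 52, true), (6, 1, true), (5, 39, true), (4, 44, true), (3, 48, true), (2, 49, true), (1, 7, true), (4, 37, true), (3, 42, true), (2, 46, true), (1, 51, true), (0, 54, true), (6, 13, true),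 (5, 39, true), (4, 44, true), (3, 48, true), (2, 49, true), (6, 38, true), (5, 43, true), (4, 45, true), (3, 50, true), (2, 52, true), (1, 8, true), (5, 37, true), (4, 42, true), (3, 46, true), (2, 51, true), (1, 53, true), (0, 9, true), (4, 34, true), (3, 44, true), (2, 48, true), (1, 49, true), (0, 7, true), (2, 43, true), (1, 45, true), (0, 50, true), (3, 42, true), (2, 46, true), (1, 51, true), (0, 54, true), (4, 41, true), (3, 47, true), (2, 6, true), (3, 4, true), (2, 48, true), (3, 46, true), (2, 53, true), (1, 54, true), (0, 9, true), (3, 3, true), (4, 12, true), (3, 26, true), (2, 46, true), (1, 53, true), (0, 54, true), (4, 22, true), (3, 48, true), (2, 7, true), (2, 46, true), (1, 54, true), (0, 9, true), (1, 45, true), (0, 8, true), (0, 5, true), (3, 20, true), (2, 38, true), (1, 50, true), (0, 8, true), (2, 19, true), (1, 38, true), (0, 50, true), (2, 3, true), (3, 1, true), (2, 33, true), (1, 51, true), (0, 54, true), (2, 50, true), (1, 8, true), (3, 31, true), (2, 38, true), (1, 50, true), (3, 37, true), (2, 49, true), (4, 3, true)]),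
  ([0, 3, 5], [(0, 12, true), (5, 14, true), (4, 24, true), (3, 33, true), (2, 39, true), (1, 48, true), (3, 38, true), (2, 47, true), (4, 3, true), (5, 19, true), (4, 32, true), (3, 48, true), (2, 49, true), (1, 7, true), (2, 47, true), (1, 6, true), (1, 46, true), (0, 9, true), (0, 45, true), (3, 27, true), (2, 36, true), (1, 45, true), (0, 8, true), (2, 2, true), (1, 39, true), (0, 48, true), (2, 38, true), (1, 47, true), (3, 36, true), (2, 45, true), (1, 50, true), (0, 52, true), (4, 35, true), (3, 48, true), (2, 49, true), (1, 7, true), (2, 47, true), (1, 6, true), (1, 46, true), (0, 54, true), (2, 45, true), (1, 8, true), (1, 5, true), (3, 34, true), (2, 51, true), (1, 54, true), (0, 9, true), (1, 50, true), (0, 8, true), (0, 49, true), (1, 6, true), (2, 3, true), (2, 1, true), (1, 44, true), (0, 53, true), (2, 42, true), (1, 7, true)], [(1, 35, true), (0, 18, true), (4, 17, true), (3, 26, true), (2, 42, true), (1, 46, true), (0, 51, true), (4, 23, true), (3, 44, true), (2, 48, true), (1, 49, true), (4, 43, true), (3, 45, true), (2, 50, true), (1, 52,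 true), (5, 42, true), (4, 46, true), (3, 51, true), (2, 53, true), (1, 54, true), (0, 9, true), (4, 41, true), (3, 47, true), (2, 6, true), (5, 22, true), (4, 39, true), (3, 44, true), (2, 48, true), (1, 7, true), (3, 37, true), (2, 42, true), (1, 46, true), (0, 54, true), (4, 36, true), (3, 41, true), (2, 47, true), (5, 35, true), (4, 44, true), (3, 48, true), (2, 49, true), (5, 43, true), (4, 45, true), (3, 50, true), (2, 52, true), (1, 8, true), (4, 42, true), (3, 46, true), (2, 51, true), (1, 53, true), (0, 9, true), (3, 41, true), (2, 47, true), (1, 6, true), (2, 40, true), (1, 47, true), (2, 45, true), (1, 50, true), (0, 52, true), (3, 5, true), (2, 50, true), (1, 52, true), (0, 8, true), (1, 6, true), (2, 3, true), (2, 19, true), (1, 43, true), (5, 1, true), (4, 33, true), (3, 39, true), (2, 44, true), (1, 51, true), (0, 53, true), (4, 38, true), (3, 43, true), (2, 6, true), (3, 3, true), (3, 31, true), (2, 43, true), (3, 42, true), (2, 49, true), (1, 7, true), (5, 16, true), (4, 33, true), (3, 39, true), (2, 44, true), (1, 51, true), (0, 9, true), (2,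 38, true), (1, 43, true), (0, 6, true), (1, 3, true), (1, 31, true), (0, 43, true), (1, 42, true), (0, 49, true), (4, 30, true), (3, 3, true), (3, 29, true), (2, 44, true), (1, 51, true), (0, 53, true), (3, 43, true), (2, 6, true), (2, 4, true), (1, 53, true), (0, 9, true), (0, 7, true), (0, 28, true), (5, 15, true), (4, 26, true), (3, 31, true), (2, 47, true), (1, 6, true), (1, 46, true), (0, 53, true), (5, 24, true), (4, 33, true), (3, 39, true), (2, 48, true), (1, 7, true), (2, 38, true), (1, 47, true), (3, 3, true), (4, 23, true), (3, 33, true), (2, 48, true), (1, 49, true), (3, 47, true), (2, 6, true), (4, 32, true), (3, 39, true), (2, 48, true), (1, 7, true), (2, 38, true), (1, 47, true), (3, 37, true), (2, 46, true), (1, 51, true), (0, 9, true), (2, 36, true), (1, 45, true), (0, 50, true), (3, 3, true), (3, 31, true), (2, 47, true), (1, 6, true), (1, 46, true), (0, 54, true), (4, 30, true), (3, 3, true), (3, 27, true), (2, 45, true), (1, 8, true), (3, 21, true), (2, 33, true), (1, 48, true), (2, 47, true), (5, 31, true), (4, 38, true), (3, 47, true),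 (2, 6, true), (3, 37, true), (2, 46, true), (1, 53, true), (0, 9, true), (2, 3, true), (2, 28, true), (1, 46, true), (0, 53, true), (2, 45, true), (1, 52, true), (3, 5, true), (2, 52, true), (1, 8, true), (4, 20, true), (3, 32, true), (2, 51, true), (1, 53, true), (0, 9, true), (1, 50, true), (0, 52, true), (2, 49, true), (1, 7, true), (1, 6, true), (3, 19, true), (2, 32, true), (1, 39, true), (0, 54, true), (2, 38, true), (1, 8, true), (1, 37, true), (2, 36, true), (3, 3, true), (3, 27, true), (2, 6, true), (2, 2, true), (1, 53, true), (0, 9, true), (0, 52, true), (6, 1, true), (5, 39, true), (4, 44, true), (3, 48, true), (2, 49, true), (1, 7, true), (4, 37, true), (3, 42, true), (2, 46, true), (1, 51, true), (0, 54, true), (6, 14, true), (5, 37, true), (4, 42, true), (3, 46, true), (2, 51, true), (1, 54, true), (0, 9, true), (7, 12, true), (6, 26, true), (5, 31, true), (4, 38, true), (3, 43, true), (2, 45, true), (1, 50, true), (0, 8, true), (3, 37, true), (2, 42, true), (1, 46, true), (0, 51, true), (4, 3, true), (5, 22, true), (4, 33, true), (3, 44, true),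 (2, 48, true), (1, 49, true), (4, 43, true), (3, 45, true), (2, 50, true), (1, 52, true), (7, 31, true), (6, 38, true), (5, 43, true), (4, 45, true), (3, 50, true), (2, 52, true), (1, 8, true), (5, 37, true), (4, 42, true), (3, 46, true), (2, 51, true), (1, 53, true), (0, 9, true), (4, 3, true), (4, 30, true), (5, 29, true), (4, 39, true), (3, 44, true), (2, 48, true), (1, 49, true), (0, 7, true), (3, 38, true), (2, 43, true), (1, 45, true), (0, 50, true), (4, 34, true), (3, 44, true), (2, 48, true), (1, 49, true), (4, 43, true), (3, 45, true), (2, 50, true), (1, 52, true), (0, 8, true), (3, 42, true), (2, 46, true), (1, 51, true), (0, 53, true), (4, 41, true), (3, 47, true), (2, 6, true), (3, 4, true), (2, 48, true), (1, 7, true), (1, 46, true), (0, 9, true), (2, 27, true), (1, 36, true), (0, 45, true), (4, 20, true), (3, 32, true), (2, 39, true), (1, 48, true), (3, 38, true), (2, 47, true), (4, 37, true), (3, 46, true), (2, 51, true), (1, 53, true), (0, 54, true), (5, 36, true), (4, 45, true), (3, 50, true), (2, 52, true), (1, 8, true), (4, 3, true), (5,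 19, true), (4, 32, true), (3, 48, true), (2, 49, true), (1, 7, true), (2, 47, true), (1, 6, true), (1, 46, true), (0, 9, true), (0, 45, true), (3, 27, true), (2, 36, true), (1, 45, true), (0, 8, true), (2, 2, true), (1, 39, true), (0, 48, true), (2, 38, true), (1, 47, true), (3, 36, true), (2, 45, true), (1, 50, true), (0, 52, true), (4, 35, true), (3, 48, true), (2, 49, true), (1, 7, true), (2, 47, true), (1, 6, true), (1, 46, true), (0, 54, true), (2, 45, true), (1, 8, true), (1, 5, true), (3, 34, true), (2, 51, true), (1, 54, true), (0, 9, true), (1, 50, true), (0, 8, true), (0, 49, true), (1, 6, true), (2, 3, true), (2, 1, true), (1, 44, true), (0, 53, true), (2, 42, true), (1, 7, true)]),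
  ([0, 3, 6], [(0, 12, true), (5, 15, true), (4, 26, true), (3, 31, true), (2, 38, true), (1, 47, true), (3, 37, true), (2, 46, true), (1, 51, true), (0, 9, true), (2, 3, true), (3, 24, true), (2, 33, true), (1, 48, true), (0, 49, true), (2, 47, true), (1, 6, true), (4, 23, true), (3, 33, true), (2, 39, true), (1, 48, true), (0, 7, true), (1, 38, true), (0, 47, true), (2, 3, true), (2, 32, true), (1, 48, true), (0, 49, true), (2, 47, true), (1, 6, true), (1, 46, true), (0, 53, true), (2, 45, true), (1, 52, true), (5, 31, true), (4, 38, true), (3, 47, true), (5, 37, true), (4, 46, true), (3, 51, true), (2, 53, true), (1, 54, true), (0, 9, true), (4, 3, true), (4, 30, true), (5, 27, true), (4, 36, true), (3, 45, true), (2, 50, true), (1, 52, true), (0, 8, true), (5, 21, true), (4, 33, true), (3, 39, true), (2, 48, true), (1, 49, true), (0, 7, true), (2, 38, true), (1, 47, true), (0, 6, true), (1, 3, true), (1, 31, true), (0, 47, true), (1, 46, true), (0, 51, true), (4, 28, true), (3, 37, true), (2, 46, true), (1, 51, true), (0, 9, true), (2, 36, true), (1, 45,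 true), (0, 50, true), (3, 35, true), (2, 48, true), (1, 49, true), (3, 47, true), (2, 6, true), (2, 46, true), (1, 53, true), (0, 54, true), (3, 45, true), (2, 52, true), (1, 8, true), (2, 5, true), (1, 52, true), (6, 20, true), (5, 32, true), (4, 39, true), (3, 51, true), (2, 53, true), (1, 54, true), (0, 9, true), (3, 38, true), (2, 50, true), (1, 52, true), (0, 8, true), (2, 37, true), (1, 49, true), (0, 7, true), (1, 36, true), (0, 6, true), (0, 3, true), (1, 19, true), (0, 32, true), (5, 27, true), (4, 36, true), (3, 6, true), (4, 2, true), (3, 39, true), (2, 53, true), (1, 54, true), (0, 9, true), (2, 38, true), (1, 52, true), (0, 8, true), (1, 36, true), (2, 35, true), (1, 51, true), (0, 53, true), (2, 50, true), (1, 52, true), (3, 49, true), (2, 7, true), (2, 6, true), (3, 34, true), (2, 48, true), (3, 47, true), (4, 46, true), (3, 51, true), (2, 53, true), (1, 54, true), (0, 9, true), (3, 45, true), (2, 50, true), (1, 52, true), (0, 8, true), (4, 3, true), (4, 1, true), (3, 44, true), (2, 48, true), (1, 49, true), (0, 7, true), (2, 42, true), (1, 46,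 true), (0, 51, true)], [(1, 36, true), (0, 15, true), (7, 12, true), (6, 26, true), (5, 31, true), (4, 38, true), (3, 43, true), (2, 6, true), (3, 37, true), (2, 42, true), (1, 7, true), (2, 3, true), (3, 22, true), (2, 33, true), (1, 44, true), (0, 9, true), (0, 43, true), (3, 31, true), (2, 38, true), (1, 43, true), (0, 6, true), (1, 37, true), (0, 42, true), (2, 3, true), (2, 30, true), (3, 29, true), (2, 39, true), (1, 44, true), (0, 53, true), (3, 38, true), (2, 43, true), (4, 34, true), (3, 44, true), (2, 51, true), (1, 53, true), (0, 9, true), (2, 43, true), (1, 6, true), (1, 42, true), (0, 7, true), (0, 41, true), (1, 4, true), (0, 54, true), (4, 27, true), (3, 36, true), (6, 20, true), (5, 32, true), (4, 39, true), (3, 51, true), (2, 53, true), (1, 54, true), (0, 9, true), (3, 38, true), (2, 50, true), (1, 52, true), (0, 8, true), (2, 37, true), (1, 49, true), (0, 7, true), (1, 36, true), (0, 6, true), (0, 3, true), (1, 19, true), (0, 32, true), (5, 27, true), (4, 36, true), (3, 6, true), (4, 2, true), (3, 39, true), (2, 53, true), (1, 54, true), (0,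 9, true), (2, 38, true), (1, 52, true), (0, 8, true), (1, 36, true), (2, 35, true), (1, 51, true), (0, 53, true), (2, 50, true), (1, 52, true), (3, 49, true), (2, 7, true), (2, 6, true), (3, 34, true), (2, 48, true), (3, 47, true), (4, 46, true), (3, 51, true), (2, 53, true), (1, 54, true), (0, 9, true), (3, 45, true), (2, 50, true), (1, 52, true), (0, 8, true), (4, 3, true), (4, 1, true), (3, 44, true), (2, 48, true), (1, 49, true), (0, 7, true), (2, 42, true), (1, 46, true), (0, 51, true)]),
  ([0, 3, 7], [(0, 12, true), (5, 16, true), (4, 26, true), (3, 31, true), (2, 38, true), (1, 47, true), (3, 37, true), (2, 46, true), (1, 51, true), (0, 9, true), (2, 3, true), (3, 24, true), (2, 33, true), (1, 48, true), (0, 49, true), (2, 47, true), (1, 6, true), (4, 23, true), (3, 33, true), (2, 39, true), (1, 48, true), (0, 7, true), (1, 38, true), (0, 47, true), (2, 3, true), (2, 32, true), (1, 48, true), (0, 49, true), (2, 47, true), (1, 6, true), (1, 46, true), (0, 53, true), (2, 45, true), (1, 52, true), (5, 31, true), (4, 38, true), (3, 47, true), (5, 37, true),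 (4, 46, true), (3, 51, true), (2, 53, true), (1, 54, true), (0, 9, true), (4, 3, true), (4, 30, true), (5, 27, true), (4, 36, true), (3, 45, true), (2, 50, true), (1, 52, true), (0, 8, true), (5, 22, true), (4, 33, true), (3, 39, true), (2, 48, true), (1, 49, true), (0, 7, true), (2, 38, true), (1, 47, true), (0, 6, true), (1, 3, true), (1, 31, true), (0, 47, true), (1, 46, true), (0, 51, true), (4, 30, true), (3, 3, true), (3, 29, true), (2, 48, true), (1, 49, true), (3, 47, true), (2, 6, true), (4, 27, true), (3, 41, true), (2, 47, true), (6, 21, true), (5, 33, true), (4, 44, true), (3, 48, true), (2, 49, true), (1, 7, true), (3, 43, true), (2, 45, true), (1, 50, true), (6, 31, true), (5, 38, true), (4, 43, true), (3, 45, true), (2, 50, true), (1, 8, true), (4, 37, true), (3, 42, true), (2, 46, true), (1, 51, true), (0, 9, true), (3, 3, true), (3, 28, true), (2, 42, true), (1, 46, true), (0, 51, true), (3, 41, true), (2, 47, true), (1, 6, true), (2, 40, true), (1, 47, true), (2, 45, true), (1, 50, true), (3, 5, true), (2, 50, true), (1, 8, true), (1, 6, true),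 (3, 1, true), (2, 33, true), (1, 44, true), (0, 9, true), (0, 43, true), (3, 31, true), (2, 38, true), (1, 43, true), (0, 6, true), (1, 37, true), (0, 42, true), (2, 3, true)], [(1, 37, true), (0, 16, true), (6, 12, true), (5, 26, true), (4, 42, true), (3, 46, true), (2, 51, true), (1, 53, true), (0, 9, true), (4, 22, true), (3, 44, true), (2, 48, true), (1, 49, true), (0, 7, true), (2, 42, true), (1, 46, true), (0, 51, true), (3, 41, true), (2, 47, true), (1, 6, true), (2, 40, true), (1, 47, true), (2, 45, true), (1, 50, true), (3, 5, true), (2, 50, true), (1, 8, true), (1, 6, true), (3, 20, true), (2, 38, true), (1, 43, true), (4, 19, true), (3, 38, true), (2, 43, true), (1, 6, true), (2, 3, true), (3, 1, true), (2, 33, true), (1, 44, true), (0, 9, true), (0, 43, true), (3, 31, true), (2, 38, true), (1, 43, true), (0, 6, true), (1, 37, true), (0, 42, true), (2, 3, true)]),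
  ([0, 3, 8], [(0, 12, true), (5, 17, true), (4, 26, true), (3, 31, true), (2, 38, true), (1, 47, true), (3, 37, true), (2, 46, true), (1, 51, true), (0, 9, true), (2, 3, true), (3, 23, true), (2, 33, true), (1, 48, true), (0, 49, true), (2, 47, true), (1, 6, true), (3, 32, true), (2, 39, true), (1, 48, true), (0, 7, true), (1, 38, true), (0, 47, true), (2, 37, true), (1, 46, true), (0, 51, true), (3, 36, true), (2, 45, true), (1, 50, true), (4, 3, true), (4, 31, true), (3, 47, true), (2, 6, true), (2, 46, true), (1, 54, true), (0, 9, true), (3, 30, true), (2, 3, true), (2, 27, true), (1, 45, true), (0, 8, true), (2, 22, true), (1, 33, true), (0, 48, true), (1, 47, true), (4, 31, true), (3, 38, true), (2, 47, true), (1, 6, true), (2, 37, true), (1, 46, true), (0, 53, true), (3, 3, true), (3, 30, true), (4, 29, true), (3, 39, true), (2, 48, true), (1, 7, true), (2, 38, true), (1, 47, true), (3, 34, true), (2, 48, true), (1, 49, true), (3, 47, true), (2, 6, true), (2, 46, true), (1, 53, true), (0, 9, true), (1, 45, true), (0, 52, true), (5, 27, true), (4, 36,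 true), (3, 41, true), (2, 47, true), (7, 19, true), (6, 32, true), (5, 39, true), (4, 44, true), (3, 48, true), (2, 49, true), (1, 7, true), (4, 38, true), (3, 43, true), (2, 45, true), (1, 50, true), (0, 8, true), (3, 37, true), (2, 42, true), (1, 46, true), (0, 51, true), (4, 36, true), (3, 41, true), (2, 47, true), (1, 6, true), (3, 3, true), (3, 27, true), (2, 41, true), (1, 47, true), (4, 2, true), (3, 44, true), (2, 48, true), (1, 49, true), (4, 43, true), (3, 45, true), (2, 50, true), (1, 52, true), (5, 41, true), (4, 47, true), (3, 6, true), (4, 40, true), (3, 47, true), (4, 45, true), (3, 50, true), (2, 52, true), (1, 8, true), (3, 5, true), (2, 50, true), (1, 52, true), (3, 6, true), (3, 4, true), (2, 53, true), (1, 54, true), (0, 9, true), (1, 7, true), (2, 1, true), (1, 39, true), (0, 54, true), (2, 37, true)], [(1, 38, true), (0, 17, true), (5, 12, true), (4, 26, true), (3, 31, true), (2, 47, true), (1, 6, true), (1, 46, true), (0, 9, true), (3, 22, true), (2, 33, true), (1, 39, true), (0, 48, true), (2, 38, true), (1, 47, true), (3, 3, true),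 (3, 31, true), (2, 47, true), (1, 6, true), (1, 46, true), (0, 53, true), (4, 30, true), (3, 3, true), (3, 29, true), (2, 48, true), (1, 7, true), (1, 47, true), (4, 27, true), (3, 41, true), (2, 47, true), (1, 6, true), (4, 20, true), (3, 32, true), (2, 44, true), (1, 48, true), (3, 43, true), (2, 45, true), (1, 52, true), (4, 42, true), (3, 46, true), (2, 53, true), (1, 54, true), (0, 9, true), (3, 41, true), (2, 47, true), (7, 19, true), (6, 32, true), (5, 39, true), (4, 44, true), (3, 48, true), (2, 49, true), (1, 7, true), (4, 38, true), (3, 43, true), (2, 45, true), (1, 50, true), (0, 8, true), (3, 37, true), (2, 42, true), (1, 46, true), (0, 51, true), (4, 36, true), (3, 41, true), (2, 47, true), (1, 6, true), (3, 3, true), (3, 27, true), (2, 41, true), (1, 47, true), (4, 2, true), (3, 44, true), (2, 48, true), (1, 49, true), (4, 43, true), (3, 45, true), (2, 50, true), (1, 52, true), (5, 41, true), (4, 47, true), (3, 6, true), (4, 40, true), (3, 47, true), (4, 45, true), (3, 50, true), (2, 52, true), (1, 8, true), (3, 5, true), (2, 50, true), (1, 52,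 true), (3, 6, true), (3, 4, true), (2, 53, true), (1, 54, true), (0, 9, true), (1, 7, true), (2, 1, true), (1, 39, true), (0, 54, true), (2, 37, true)]),
  ([0, 3, 9], [(0, 12, true), (5, 18, true), (4, 23, true), (3, 33, true), (2, 39, true), (1, 48, true), (3, 38, true), (2, 47, true), (4, 3, true), (4, 32, true), (3, 48, true), (2, 49, true), (1, 7, true), (2, 47, true), (1, 6, true), (1, 46, true), (0, 9, true), (0, 45, true), (3, 31, true), (2, 38, true), (1, 47, true), (3, 37, true), (2, 46, true), (1, 51, true), (0, 54, true), (4, 3, true), (4, 30, true), (5, 27, true), (4, 36, true), (3, 45, true), (2, 50, true), (1, 8, true), (5, 22, true), (4, 33, true), (3, 39, true), (2, 48, true), (1, 49, true), (4, 38, true), (3, 47, true), (2, 6, true), (3, 3, true), (3, 31, true), (2, 47, true), (3, 46, true), (2, 51, true), (1, 53, true), (0, 9, true), (4, 30, true), (3, 3, true), (3, 29, true), (2, 48, true), (1, 49, true), (0, 7, true), (1, 47, true), (0, 6, true), (2, 27, true), (1, 41, true), (0, 47, true), (4, 21, true), (3, 33, true), (2, 44, true), (1,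 48, true), (0, 49, true), (3, 43, true), (2, 45, true), (1, 50, true), (0, 52, true), (6, 31, true), (5, 38, true), (4, 43, true), (3, 45, true), (2, 50, true), (1, 52, true), (0, 8, true), (4, 37, true), (3, 42, true), (2, 46, true), (1, 51, true), (0, 53, true), (5, 3, true), (5, 28, true), (4, 42, true), (3, 46, true), (2, 51, true), (1, 53, true), (0, 9, true), (3, 41, true), (2, 47, true), (1, 6, true), (2, 40, true), (1, 47, true), (2, 45, true), (1, 50, true), (0, 52, true), (3, 5, true), (2, 50, true), (1, 52, true), (0, 8, true), (1, 6, true), (3, 1, true), (2, 33, true), (1, 44, true), (0, 53, true), (2, 43, true), (5, 31, true), (4, 38, true), (3, 43, true), (2, 6, true), (3, 37, true), (2, 42, true), (1, 7, true), (2, 3, true)], [(1, 39, true), (0, 18, true), (4, 12, true), (3, 26, true), (2, 42, true), (1, 46, true), (0, 51, true), (4, 22, true), (3, 44, true), (2, 48, true), (1, 49, true), (4, 42, true), (3, 46, true), (2, 51, true), (1, 53, true), (0, 9, true), (3, 41, true), (2, 47, true), (1, 6, true), (2, 40, true), (1, 47, true), (2, 45,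 true), (1, 50, true), (0, 52, true), (3, 5, true), (2, 50, true), (1, 52, true), (0, 8, true), (1, 6, true), (3, 20, true), (2, 38, true), (1, 43, true), (4, 19, true), (3, 38, true), (2, 43, true), (1, 6, true), (2, 3, true), (3, 1, true), (2, 33, true), (1, 44, true), (0, 53, true), (2, 43, true), (5, 31, true), (4, 38, true), (3, 43, true), (2, 6, true), (3, 37, true), (2, 42, true), (1, 7, true), (2, 3, true)]),
  ([0, 4, 5], [(0, 13, true), (6, 14, true), (5, 24, true), (4, 39, true), (3, 44, true), (2, 53, true), (1, 54, true), (0, 9, true), (4, 19, true), (3, 38, true), (2, 43, true), (4, 3, true), (5, 1, true), (4, 33, true), (3, 44, true), (2, 51, true), (1, 53, true), (0, 54, true), (4, 43, true), (3, 6, true), (5, 31, true), (4, 38, true), (3, 43, true), (5, 37, true), (4, 42, true), (3, 49, true), (2, 7, true), (4, 3, true)], [(1, 40, true), (0, 17, true), (5, 15, true), (4, 26, true), (3, 31, true), (2, 47, true), (1, 6, true), (1, 46, true), (0, 9, true), (3, 24, true), (2, 33, true), (1, 39, true), (0, 48, true), (2, 38, true), (1, 47, true),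 (3, 3, true), (4, 23, true), (3, 33, true), (2, 48, true), (1, 49, true), (0, 7, true), (1, 47, true), (0, 6, true), (2, 32, true), (1, 39, true), (0, 48, true), (2, 38, true), (1, 47, true), (3, 37, true), (2, 46, true), (1, 51, true), (0, 53, true), (4, 36, true), (3, 45, true), (2, 50, true), (1, 52, true), (5, 3, true), (5, 31, true), (4, 47, true), (3, 6, true), (3, 46, true), (2, 53, true), (1, 54, true), (0, 9, true), (4, 30, true), (3, 3, true), (3, 27, true), (2, 45, true), (1, 52, true), (0, 8, true), (3, 21, true), (2, 33, true), (1, 48, true), (0, 7, true), (0, 47, true), (3, 31, true), (2, 38, true), (1, 47, true), (0, 6, true), (1, 37, true), (0, 46, true), (2, 3, true), (2, 28, true), (1, 46, true), (0, 9, true), (0, 45, true), (1, 5, true), (0, 8, true), (2, 20, true), (1, 32, true), (0, 51, true), (1, 50, true), (2, 49, true), (3, 6, true), (5, 19, true), (4, 32, true), (3, 39, true), (2, 53, true), (1, 54, true), (0, 9, true), (2, 38, true), (1, 52, true), (0, 8, true), (1, 37, true), (0, 7, true), (0, 36, true), (1, 3, true), (1, 27, true),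 (0, 6, true), (0, 2, true), (6, 1, true), (5, 39, true), (4, 44, true), (3, 48, true), (2, 49, true), (6, 37, true), (5, 42, true), (4, 46, true), (3, 51, true), (2, 53, true), (1, 54, true), (0, 9, true), (6, 14, true), (5, 37, true), (4, 42, true), (3, 46, true), (2, 51, true), (1, 53, true), (0, 54, true), (9, 13, true), (8, 26, true), (7, 31, true), (6, 38, true), (5, 43, true), (4, 45, true), (3, 50, true), (2, 52, true), (1, 8, true), (5, 37, true), (4, 42, true), (3, 46, true), (2, 51, true), (1, 53, true), (0, 9, true), (4, 3, true), (5, 25, true), (4, 27, true), (3, 41, true), (2, 47, true), (1, 6, true), (4, 24, true), (3, 33, true), (2, 44, true), (1, 48, true), (0, 7, true), (1, 43, true), (0, 45, true), (5, 21, true), (4, 33, true), (3, 39, true), (2, 44, true), (1, 48, true), (4, 38, true), (3, 43, true), (2, 45, true), (1, 52, true), (0, 8, true), (3, 3, true), (3, 31, true), (2, 43, true), (1, 45, true), (0, 52, true), (3, 42, true), (2, 46, true), (1, 53, true), (0, 54, true), (6, 28, true), (5, 37, true), (4, 42, true), (3, 46, true), (2,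 53, true), (1, 54, true), (0, 9, true), (4, 36, true), (3, 41, true), (2, 47, true), (5, 35, true), (4, 44, true), (3, 48, true), (2, 49, true), (1, 7, true), (3, 43, true), (2, 45, true), (1, 50, true), (0, 8, true), (2, 42, true), (1, 46, true), (0, 51, true), (3, 41, true), (2, 47, true), (1, 6, true), (2, 40, true), (1, 47, true), (2, 45, true), (1, 50, true), (3, 5, true), (2, 50, true), (1, 8, true), (1, 6, true), (4, 20, true), (3, 32, true), (2, 39, true), (1, 44, true), (0, 9, true), (1, 38, true), (0, 43, true), (2, 37, true), (1, 42, true), (0, 49, true), (3, 36, true), (2, 41, true), (1, 50, true), (0, 52, true), (4, 3, true), (5, 1, true), (4, 33, true), (3, 44, true), (2, 51, true), (1, 53, true), (0, 54, true), (4, 43, true), (3, 6, true), (5, 31, true), (4, 38, true), (3, 43, true), (5, 37, true), (4, 42, true), (3, 49, true), (2, 7, true), (4, 3, true)]),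
  ([0, 4, 6], [(0, 13, true), (6, 15, true), (5, 26, true), (4, 37, true), (3, 42, true), (2, 7, true), (4, 24, true), (3, 39, true), (2, 44, true), (1, 54, true), (0, 9, true), (3, 23, true), (2, 39, true), (1, 44, true), (0, 54, true), (3, 38, true), (2, 43, true), (4, 37, true), (3, 42, true), (2, 49, true), (5, 36, true), (4, 41, true), (3, 50, true), (2, 52, true), (1, 8, true), (4, 3, true), (4, 21, true), (3, 44, true), (2, 51, true), (1, 53, true), (0, 9, true), (2, 42, true), (1, 49, true), (0, 7, true), (1, 4, true), (0, 51, true), (1, 49, true), (3, 20, true), (2, 50, true), (1, 52, true), (4, 19, true), (3, 50, true), (2, 52, true), (1, 8, true), (5, 1, true), (4, 33, true), (3, 39, true), (2, 51, true), (1, 53, true), (0, 9, true), (2, 38, true), (1, 50, true), (0, 52, true), (3, 3, true), (3, 31, true), (2, 50, true), (1, 52, true), (0, 8, true), (1, 49, true), (0, 7, true)], [(1, 41, true), (0, 17, true), (5, 13, true), (4, 26, true), (3, 31, true), (2, 47, true), (1, 6, true), (1, 46, true), (0, 9, true), (3, 25, true), (2, 27, true), (1, 36,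 true), (0, 45, true), (4, 24, true), (3, 33, true), (2, 39, true), (1, 48, true), (3, 38, true), (2, 47, true), (4, 3, true), (5, 21, true), (4, 33, true), (3, 48, true), (2, 49, true), (1, 7, true), (2, 47, true), (1, 6, true), (3, 31, true), (2, 38, true), (1, 47, true), (3, 37, true), (2, 46, true), (1, 51, true), (0, 54, true), (4, 3, true), (4, 28, true), (3, 46, true), (2, 51, true), (1, 54, true), (0, 9, true), (2, 45, true), (1, 50, true), (0, 8, true), (1, 5, true), (0, 50, true), (1, 6, true), (2, 20, true), (1, 32, true), (0, 54, true), (1, 8, true), (5, 1, true), (4, 33, true), (3, 39, true), (2, 51, true), (1, 53, true), (0, 9, true), (2, 38, true), (1, 50, true), (0, 52, true), (3, 3, true), (3, 31, true), (2, 50, true), (1, 52, true), (0, 8, true), (1, 49, true), (0, 7, true)]),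
  ([0, 4, 7], [(0, 13, true), (6, 16, true), (5, 26, true), (4, 37, true), (3, 42, true), (2, 7, true), (4, 24, true), (3, 39, true), (2, 44, true), (1, 54, true), (0, 9, true), (3, 23, true), (2, 39, true), (1, 44, true), (0, 54, true), (3, 38, true), (2, 43, true), (4, 37, true), (3, 42, true), (2, 49, true), (5, 36, true), (4, 41, true), (3, 50, true), (2, 52, true), (1, 8, true), (4, 3, true), (4, 22, true), (3, 44, true), (2, 51, true), (1, 53, true), (0, 9, true), (2, 42, true), (1, 49, true), (0, 7, true), (1, 41, true), (0, 50, true), (2, 40, true), (1, 50, true), (0, 8, true), (0, 6, true), (3, 21, true), (2, 39, true), (1, 44, true), (0, 48, true), (3, 37, true), (2, 42, true), (1, 46, true), (0, 53, true), (4, 34, true), (3, 44, true), (2, 48, true), (1, 7, true), (2, 43, true), (1, 45, true), (3, 42, true), (2, 46, true), (1, 54, true), (0, 9, true), (2, 41, true), (1, 47, true), (3, 4, true), (2, 48, true), (1, 49, true), (3, 46, true), (2, 51, true), (1, 53, true), (0, 54, true), (6, 1, true), (5, 39, true), (4, 48, true), (3, 49, true), (2, 7,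 true), (4, 37, true), (3, 46, true), (2, 51, true), (1, 54, true), (0, 9, true)], [(1, 42, true), (0, 16, true), (6, 13, true), (5, 26, true), (4, 42, true), (3, 46, true), (2, 51, true), (1, 53, true), (0, 9, true), (4, 25, true), (5, 24, true), (4, 39, true), (3, 44, true), (2, 48, true), (1, 49, true), (0, 7, true), (4, 21, true), (3, 39, true), (2, 44, true), (1, 48, true), (0, 49, true), (4, 37, true), (3, 42, true), (2, 46, true), (1, 51, true), (0, 53, true), (5, 34, true), (4, 44, true), (3, 48, true), (2, 49, true), (1, 7, true), (3, 43, true), (2, 45, true), (1, 50, true), (4, 42, true), (3, 46, true), (2, 51, true), (1, 54, true), (0, 9, true), (3, 41, true), (2, 47, true), (1, 6, true), (2, 4, true), (1, 48, true), (2, 46, true), (1, 53, true), (0, 54, true), (5, 20, true), (4, 38, true), (3, 47, true), (6, 1, true), (5, 39, true), (4, 48, true), (3, 49, true), (2, 7, true), (4, 37, true), (3, 46, true), (2, 51, true), (1, 54, true), (0, 9, true)]),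
  ([0, 4, 8], [(0, 13, true), (6, 17, true), (5, 26, true), (4, 37, true), (3, 42, true), (2, 7, true), (4, 23, true), (3, 39, true), (2, 44, true), (1, 54, true), (0, 9, true), (2, 38, true), (1, 43, true), (3, 37, true), (2, 42, true), (1, 49, true), (4, 36, true), (3, 41, true), (2, 50, true), (1, 52, true), (0, 8, true), (3, 3, true), (3, 22, true), (2, 44, true), (1, 51, true), (0, 53, true), (3, 42, true), (2, 49, true), (1, 7, true), (2, 41, true), (1, 50, true), (3, 40, true), (2, 50, true), (1, 8, true), (1, 6, true), (4, 19, true), (3, 38, true), (2, 43, true), (1, 45, true), (4, 3, true), (5, 1, true), (4, 33, true), (3, 44, true), (2, 48, true), (4, 43, true), (3, 45, true), (2, 52, true), (1, 8, true), (5, 31, true), (4, 38, true), (3, 43, true), (2, 45, true), (1, 52, true), (5, 37, true), (4, 42, true), (3, 46, true), (2, 53, true), (1, 54, true), (0, 9, true), (4, 3, true)], [(1, 43, true), (0, 15, true), (7, 13, true), (6, 26, true), (5, 31, true), (4, 38, true), (3, 43, true), (2, 6, true), (3, 37, true), (2, 42, true), (1, 7, true), (2, 3,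 true), (3, 25, true), (2, 27, true), (1, 41, true), (4, 24, true), (3, 33, true), (2, 44, true), (1, 54, true), (0, 9, true), (1, 43, true), (5, 21, true), (4, 33, true), (3, 39, true), (2, 44, true), (1, 51, true), (0, 54, true), (4, 38, true), (3, 43, true), (2, 6, true), (3, 3, true), (3, 31, true), (2, 43, true), (3, 42, true), (2, 49, true), (6, 28, true), (5, 37, true), (4, 42, true), (3, 49, true), (2, 7, true), (4, 36, true), (3, 41, true), (2, 50, true), (1, 8, true), (3, 35, true), (2, 44, true), (1, 51, true), (0, 9, true), (1, 43, true), (0, 6, true), (0, 42, true), (1, 41, true), (0, 52, true), (2, 40, true), (1, 52, true), (0, 8, true), (6, 20, true), (5, 32, true), (4, 39, true), (3, 44, true), (2, 48, true), (1, 49, true), (0, 7, true), (3, 38, true), (2, 43, true), (1, 45, true), (0, 50, true), (4, 37, true), (3, 42, true), (2, 46, true), (1, 51, true), (0, 54, true), (5, 36, true), (4, 41, true), (3, 47, true), (2, 6, true), (4, 3, true), (5, 1, true), (4, 33, true), (3, 44, true), (2, 48, true), (4, 43, true), (3, 45, true), (2, 52, true),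 (1, 8, true), (5, 31, true), (4, 38, true), (3, 43, true), (2, 45, true), (1, 52, true), (5, 37, true), (4, 42, true), (3, 46, true), (2, 53, true), (1, 54, true), (0, 9, true), (4, 3, true)]),
  ([0, 4, 9], [(0, 13, true), (6, 18, true), (5, 23, true), (4, 39, true), (3, 44, true), (2, 53, true), (1, 54, true), (0, 9, true), (3, 38, true), (2, 43, true), (4, 37, true), (3, 42, true), (2, 49, true), (1, 7, true), (3, 36, true), (2, 41, true), (1, 50, true), (0, 8, true), (2, 3, true), (2, 22, true), (1, 44, true), (0, 51, true), (2, 42, true), (1, 49, true), (3, 41, true), (2, 50, true), (1, 52, true), (4, 40, true), (3, 50, true), (2, 52, true), (1, 8, true), (2, 6, true), (5, 21, true), (4, 39, true), (3, 44, true), (2, 48, true), (1, 7, true), (3, 37, true), (2, 42, true), (1, 46, true), (0, 9, true), (2, 34, true), (1, 44, true), (0, 48, true), (2, 43, true), (1, 45, true), (0, 52, true), (3, 42, true), (2, 46, true), (1, 53, true), (0, 54, true), (4, 41, true), (3, 47, true), (5, 4, true), (4, 48, true), (3, 49, true), (2, 7, true), (3, 46, true), (2,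 51, true), (1, 54, true), (0, 9, true), (4, 1, true), (3, 39, true), (2, 48, true), (1, 49, true), (4, 37, true), (3, 46, true), (2, 51, true), (1, 53, true), (0, 54, true)], [(1, 44, true), (0, 18, true), (4, 13, true), (3, 26, true), (2, 42, true), (1, 46, true), (0, 51, true), (4, 25, true), (5, 24, true), (4, 39, true), (3, 44, true), (2, 48, true), (1, 49, true), (6, 21, true), (5, 39, true), (4, 44, true), (3, 48, true), (2, 49, true), (1, 7, true), (4, 37, true), (3, 42, true), (2, 46, true), (1, 51, true), (0, 9, true), (3, 34, true), (2, 44, true), (1, 48, true), (0, 49, true), (3, 43, true), (2, 45, true), (1, 50, true), (0, 52, true), (4, 42, true), (3, 46, true), (2, 51, true), (1, 53, true), (0, 54, true), (5, 41, true), (4, 47, true), (3, 6, true), (4, 4, true), (3, 48, true), (2, 7, true), (2, 46, true), (1, 54, true), (0, 9, true), (3, 20, true), (2, 38, true), (1, 47, true), (4, 1, true), (3, 39, true), (2, 48, true), (1, 49, true), (4, 37, true), (3, 46, true), (2, 51, true), (1, 53, true), (0, 54, true)]),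
  ([0, 5, 6], [(0, 14, true), (3, 15, true), (2, 26, true), (1, 31, true), (0, 52, true), (1, 7, true), (3, 24, true), (2, 33, true), (1, 39, true), (0, 54, true), (2, 38, true), (1, 8, true), (1, 3, true), (2, 23, true), (1, 33, true), (0, 9, true), (2, 32, true), (1, 39, true), (0, 54, true), (2, 38, true), (1, 8, true), (1, 37, true), (2, 36, true), (3, 3, true), (3, 31, true), (2, 50, true), (1, 52, true), (3, 49, true), (2, 7, true), (4, 30, true), (3, 3, true), (3, 27, true), (2, 6, true), (3, 21, true), (2, 33, true), (1, 54, true), (0, 9, true), (0, 8, true), (1, 31, true), (0, 38, true), (1, 37, true), (2, 3, true), (2, 28, true), (1, 7, true), (4, 20, true), (3, 32, true), (2, 48, true), (1, 49, true), (3, 47, true), (2, 6, true), (2, 46, true), (1, 53, true), (0, 54, true), (3, 45, true), (2, 52, true), (1, 8, true), (5, 19, true), (4, 32, true), (3, 39, true), (2, 48, true), (1, 7, true), (2, 38, true), (1, 47, true), (3, 37, true), (2, 46, true), (1, 51, true), (0, 9, true), (2, 36, true), (1, 45, true), (0, 50, true), (3, 3, true), (3, 27, true),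 (2, 45, true), (1, 50, true), (0, 8, true), (2, 2, true), (1, 48, true), (0, 49, true), (2, 47, true), (1, 6, true), (1, 45, true), (0, 52, true), (2, 5, true), (1, 52, true), (0, 8, true), (4, 1, true), (3, 39, true), (2, 44, true), (1, 51, true), (0, 53, true), (4, 37, true), (3, 42, true), (2, 49, true), (1, 7, true)], [(1, 45, true), (0, 17, true), (5, 14, true), (4, 24, true), (3, 33, true), (2, 48, true), (1, 49, true), (3, 47, true), (2, 6, true), (5, 19, true), (4, 32, true), (3, 39, true), (2, 48, true), (1, 7, true), (2, 38, true), (1, 47, true), (3, 37, true), (2, 46, true), (1, 51, true), (0, 9, true), (2, 36, true), (1, 45, true), (0, 50, true), (3, 3, true), (3, 27, true), (2, 45, true), (1, 50, true), (0, 8, true), (2, 2, true), (1, 48, true), (0, 49, true), (2, 47, true), (1, 6, true), (1, 45, true), (0, 52, true), (2, 5, true), (1, 52, true), (0, 8, true), (4, 1, true), (3, 39, true), (2, 44, true), (1, 51, true), (0, 53, true), (4, 37, true), (3, 42, true), (2, 49, true), (1, 7, true)]),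
  ([0, 5, 7], [(0, 14, true), (3, 16, true), (2, 26, true), (1, 31, true), (0, 52, true), (1, 7, true), (3, 24, true), (2, 33, true), (1, 39, true), (0, 54, true), (2, 38, true), (1, 8, true), (1, 3, true), (2, 23, true), (1, 33, true), (0, 9, true), (2, 32, true), (1, 39, true), (0, 54, true), (2, 38, true), (1, 8, true), (1, 37, true), (2, 36, true), (3, 3, true), (3, 31, true), (2, 50, true), (1, 52, true), (3, 49, true), (2, 7, true), (4, 30, true), (3, 3, true), (3, 27, true), (2, 6, true), (3, 22, true), (2, 33, true), (1, 54, true), (0, 9, true), (0, 8, true), (1, 31, true), (0, 38, true), (1, 37, true), (2, 3, true), (2, 30, true), (3, 29, true), (2, 39, true), (1, 53, true), (0, 54, true), (3, 38, true), (2, 52, true), (1, 8, true), (2, 34, true), (1, 53, true), (0, 9, true), (0, 52, true), (1, 7, true), (4, 27, true), (3, 36, true), (2, 41, true), (1, 50, true), (0, 8, true), (4, 21, true), (3, 33, true), (2, 39, true), (1, 44, true), (0, 51, true), (3, 38, true), (2, 43, true), (1, 6, true), (2, 3, true), (2, 31, true), (1, 43, true), (2, 42, true),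 (1, 49, true), (5, 28, true), (4, 37, true), (3, 42, true), (2, 49, true), (1, 7, true), (3, 36, true), (2, 41, true), (1, 50, true), (4, 35, true), (3, 44, true), (2, 51, true), (1, 54, true), (0, 9, true), (2, 43, true), (1, 6, true), (1, 42, true), (2, 41, true), (1, 52, true), (0, 8, true), (1, 40, true), (0, 52, true), (7, 1, true), (6, 33, true), (5, 39, true), (4, 44, true), (3, 48, true), (2, 49, true), (1, 7, true), (4, 38, true), (3, 43, true), (2, 45, true), (1, 50, true), (0, 8, true), (3, 3, true), (3, 31, true), (2, 43, true), (1, 45, true), (0, 50, true), (3, 42, true), (2, 46, true), (1, 51, true), (0, 54, true)], [(1, 46, true), (0, 18, true), (4, 14, true), (3, 24, true), (2, 44, true), (1, 48, true), (0, 49, true), (4, 19, true), (3, 43, true), (2, 45, true), (1, 50, true), (0, 52, true), (7, 1, true), (6, 33, true), (5, 39, true), (4, 44, true), (3, 48, true), (2, 49, true), (1, 7, true), (4, 38, true), (3, 43, true), (2, 45, true), (1, 50, true), (0, 8, true), (3, 3, true), (3, 31, true), (2, 43, true), (1, 45, true), (0, 50, true), (3,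 42, true), (2, 46, true), (1, 51, true), (0, 54, true)]),
  ([0, 5, 8], [(0, 14, true), (3, 17, true), (2, 26, true), (1, 31, true), (0, 52, true), (1, 7, true), (3, 23, true), (2, 33, true), (1, 39, true), (0, 54, true), (2, 38, true), (1, 8, true), (1, 3, true), (1, 32, true), (0, 9, true), (4, 31, true), (3, 38, true), (2, 50, true), (1, 52, true), (0, 8, true), (2, 37, true), (1, 49, true), (0, 7, true), (1, 3, true), (1, 30, true), (2, 27, true), (1, 36, true), (0, 6, true), (2, 22, true), (1, 33, true), (0, 39, true), (1, 38, true), (2, 3, true), (2, 31, true), (1, 8, true), (3, 30, true), (2, 3, true), (2, 29, true), (1, 53, true), (0, 9, true), (0, 52, true), (3, 27, true), (2, 41, true), (1, 52, true), (0, 8, true), (3, 19, true), (2, 32, true), (1, 44, true), (0, 53, true), (2, 43, true), (3, 42, true), (2, 49, true), (1, 7, true), (2, 41, true), (1, 50, true), (5, 27, true), (4, 36, true), (3, 41, true), (2, 50, true), (1, 8, true), (4, 2, true), (3, 39, true), (2, 44, true), (1, 51, true), (0, 9, true), (2, 38, true), (1, 43, true), (0, 6, true),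 (1, 36, true), (0, 41, true), (2, 35, true), (1, 44, true), (0, 54, true), (2, 43, true), (3, 42, true), (2, 49, true), (4, 41, true), (3, 50, true), (2, 52, true), (1, 8, true), (3, 40, true), (2, 50, true), (1, 52, true), (3, 6, true), (5, 34, true), (4, 44, true), (3, 48, true), (2, 7, true), (3, 43, true), (2, 45, true), (1, 8, true), (2, 42, true), (1, 46, true), (0, 9, true), (1, 41, true), (0, 47, true), (2, 4, true), (1, 48, true), (0, 49, true), (2, 46, true), (1, 51, true), (0, 53, true), (4, 3, true), (4, 1, true), (3, 48, true), (2, 49, true), (1, 7, true), (2, 46, true), (1, 51, true), (0, 9, true)], [(1, 47, true), (0, 15, true), (7, 14, true), (6, 24, true), (5, 33, true), (4, 39, true), (3, 44, true), (2, 51, true), (1, 53, true), (0, 9, true), (3, 38, true), (2, 43, true), (1, 6, true), (2, 3, true), (3, 19, true), (2, 32, true), (1, 44, true), (0, 53, true), (2, 43, true), (3, 42, true), (2, 49, true), (1, 7, true), (2, 41, true), (1, 50, true), (5, 27, true), (4, 36, true), (3, 41, true), (2, 50, true), (1, 8, true), (4, 2, true), (3, 39,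 true), (2, 44, true), (1, 51, true), (0, 9, true), (2, 38, true), (1, 43, true), (0, 6, true), (1, 36, true), (0, 41, true), (2, 35, true), (1, 44, true), (0, 54, true), (2, 43, true), (3, 42, true), (2, 49, true), (4, 41, true), (3, 50, true), (2, 52, true), (1, 8, true), (3, 40, true), (2, 50, true), (1, 52, true), (3, 6, true), (5, 34, true), (4, 44, true), (3, 48, true), (2, 7, true), (3, 43, true), (2, 45, true), (1, 8, true), (2, 42, true), (1, 46, true), (0, 9, true), (1, 41, true), (0, 47, true), (2, 4, true), (1, 48, true), (0, 49, true), (2, 46, true), (1, 51, true), (0, 53, true), (4, 3, true), (4, 1, true), (3, 48, true), (2, 49, true), (1, 7, true), (2, 46, true), (1, 51, true), (0, 9, true)]),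
  ([0, 5, 9], [(0, 14, true), (3, 18, true), (2, 23, true), (1, 33, true), (0, 53, true), (1, 52, true), (4, 32, true), (3, 39, true), (2, 53, true), (1, 54, true), (0, 9, true), (2, 38, true), (1, 52, true), (0, 8, true), (1, 37, true), (0, 7, true), (0, 36, true), (1, 3, true), (1, 31, true), (0, 50, true), (1, 49, true), (4, 30, true), (3, 3, true), (3, 27, true), (2, 6, true), (3, 22, true), (2, 33, true), (1, 53, true), (0, 54, true), (2, 52, true), (1, 8, true), (3, 31, true), (2, 38, true), (1, 52, true), (3, 37, true), (2, 7, true), (2, 3, true), (2, 30, true), (3, 29, true), (2, 39, true), (1, 54, true), (0, 9, true), (1, 38, true), (0, 8, true), (0, 34, true), (6, 27, true), (5, 36, true), (4, 41, true), (3, 50, true), (2, 52, true), (1, 8, true), (6, 21, true), (5, 33, true), (4, 39, true), (3, 44, true), (2, 51, true), (1, 53, true), (0, 9, true), (3, 38, true), (2, 43, true), (1, 6, true), (2, 3, true), (2, 31, true), (1, 43, true), (2, 42, true), (1, 49, true), (0, 7, true), (3, 28, true), (2, 37, true), (1, 42, true), (0, 49, true), (3, 36, true),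 (2, 41, true), (1, 50, true), (0, 52, true), (4, 35, true), (3, 44, true), (2, 51, true), (1, 53, true), (0, 54, true), (4, 43, true), (3, 6, true), (3, 42, true), (2, 7, true), (2, 41, true), (1, 8, true), (1, 40, true), (7, 1, true), (6, 33, true), (5, 39, true), (4, 44, true), (3, 48, true), (2, 49, true), (6, 38, true), (5, 43, true), (4, 45, true), (3, 50, true), (2, 52, true), (1, 8, true), (5, 3, true), (5, 31, true), (4, 43, true), (3, 45, true), (2, 50, true), (1, 52, true), (5, 42, true), (4, 46, true), (3, 51, true), (2, 53, true), (1, 54, true), (0, 9, true)], [(1, 48, true), (0, 16, true), (6, 14, true), (5, 24, true), (4, 44, true), (3, 48, true), (2, 49, true), (1, 7, true), (4, 19, true), (3, 43, true), (2, 45, true), (1, 50, true), (7, 1, true), (6, 33, true), (5, 39, true), (4, 44, true), (3, 48, true), (2, 49, true), (6, 38, true), (5, 43, true), (4, 45, true), (3, 50, true), (2, 52, true), (1, 8, true), (5, 3, true), (5, 31, true), (4, 43, true), (3, 45, true), (2, 50, true), (1, 52, true), (5, 42, true), (4, 46, true), (3, 51, true), (2,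 53, true), (1, 54, true), (0, 9, true)]),
  ([0, 6, 7], [(0, 15, true), (7, 16, true), (6, 26, true), (5, 31, true), (4, 38, true), (3, 43, true), (2, 6, true), (3, 37, true), (2, 42, true), (1, 7, true), (2, 3, true), (3, 24, true), (2, 33, true), (1, 44, true), (0, 9, true), (0, 43, true), (4, 23, true), (3, 33, true), (2, 39, true), (1, 44, true), (0, 51, true), (3, 38, true), (2, 43, true), (1, 6, true), (2, 3, true), (2, 32, true), (1, 44, true), (0, 9, true), (0, 43, true), (1, 42, true), (0, 49, true), (2, 41, true), (1, 50, true), (0, 52, true), (5, 31, true), (4, 38, true), (3, 43, true), (2, 6, true), (3, 37, true), (2, 42, true), (1, 7, true), (2, 3, true), (2, 30, true), (3, 27, true), (2, 36, true), (1, 41, true), (0, 8, true), (3, 22, true), (2, 33, true), (1, 39, true), (0, 44, true), (2, 38, true), (1, 43, true), (3, 3, true), (3, 31, true), (2, 43, true), (1, 6, true), (1, 42, true), (4, 30, true), (3, 3, true), (3, 29, true), (2, 44, true), (1, 53, true), (0, 9, true), (1, 43, true), (2, 4, true), (1, 51, true), (0, 53, true), (2, 49, true),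 (1, 7, true), (2, 27, true), (1, 6, true), (2, 21, true), (1, 33, true), (0, 9, true), (2, 31, true), (1, 38, true), (0, 8, true), (0, 37, true), (1, 3, true), (1, 28, true), (0, 7, true), (3, 1, true), (2, 33, true), (1, 48, true), (0, 49, true), (2, 47, true), (1, 6, true), (3, 31, true), (2, 38, true), (1, 47, true), (3, 37, true), (2, 46, true), (1, 51, true), (0, 53, true), (4, 3, true)], [(1, 49, true), (0, 16, true), (6, 15, true), (5, 26, true), (4, 42, true), (3, 46, true), (2, 51, true), (1, 53, true), (0, 9, true), (4, 24, true), (3, 44, true), (2, 48, true), (1, 49, true), (0, 7, true), (3, 23, true), (2, 44, true), (1, 48, true), (0, 49, true), (3, 43, true), (2, 45, true), (1, 50, true), (0, 52, true), (4, 42, true), (3, 46, true), (2, 51, true), (1, 53, true), (0, 54, true), (5, 41, true), (4, 47, true), (3, 6, true), (6, 21, true), (5, 39, true), (4, 44, true), (3, 48, true), (2, 7, true), (4, 37, true), (3, 42, true), (2, 46, true), (1, 54, true), (0, 9, true), (3, 34, true), (2, 44, true), (1, 48, true), (3, 43, true), (2, 45, true), (1, 52,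 true), (0, 8, true), (2, 42, true), (1, 46, true), (0, 53, true), (3, 41, true), (2, 47, true), (4, 4, true), (3, 48, true), (2, 49, true), (1, 7, true), (2, 46, true), (1, 51, true), (0, 9, true), (3, 20, true), (2, 38, true), (1, 47, true), (0, 6, true), (2, 19, true), (1, 38, true), (0, 47, true), (2, 3, true), (3, 1, true), (2, 33, true), (1, 48, true), (0, 49, true), (2, 47, true), (1, 6, true), (3, 31, true), (2, 38, true), (1, 47, true), (3, 37, true), (2, 46, true), (1, 51, true), (0, 53, true), (4, 3, true)]),
  ([0, 6, 8], [(0, 15, true), (7, 17, true), (6, 26, true), (5, 31, true), (4, 38, true), (3, 43, true), (2, 6, true), (3, 37, true), (2, 42, true), (1, 7, true), (2, 3, true), (3, 23, true), (2, 33, true), (1, 44, true), (0, 9, true), (0, 43, true), (3, 32, true), (2, 39, true), (1, 44, true), (0, 51, true), (3, 38, true), (2, 43, true), (1, 6, true), (2, 37, true), (1, 42, true), (3, 36, true), (2, 41, true), (1, 52, true), (4, 3, true), (4, 31, true), (3, 43, true), (4, 42, true), (3, 49, true), (2, 7, true), (5, 30, true), (4, 3, true), (4,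 27, true), (3, 41, true), (2, 50, true), (1, 8, true), (4, 22, true), (3, 33, true), (2, 44, true), (1, 51, true), (0, 9, true), (1, 43, true), (0, 6, true), (2, 31, true), (1, 38, true), (0, 43, true), (2, 37, true), (1, 42, true), (0, 49, true), (3, 3, true), (3, 30, true), (4, 29, true), (3, 39, true), (2, 44, true), (1, 51, true), (0, 53, true), (4, 38, true), (3, 43, true), (2, 6, true), (3, 34, true), (2, 44, true), (1, 53, true), (0, 9, true), (1, 43, true), (2, 42, true), (1, 49, true), (0, 7, true), (1, 41, true), (0, 50, true), (2, 4, true), (1, 51, true), (0, 54, true), (2, 49, true), (5, 27, true), (4, 36, true), (3, 6, true), (5, 19, true), (4, 32, true), (3, 39, true), (2, 53, true), (1, 54, true), (0, 9, true), (2, 38, true), (1, 52, true), (0, 8, true), (1, 37, true), (0, 7, true), (0, 36, true), (1, 3, true), (1, 27, true), (0, 6, true), (0, 2, true), (6, 1, true), (5, 39, true), (4, 44, true), (3, 48, true), (2, 49, true), (6, 37, true), (5, 42, true), (4, 46, true), (3, 51, true), (2, 53, true), (1, 54, true), (0, 9, true)], [(1, 50, true),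 (0, 17, true), (5, 15, true), (4, 26, true), (3, 31, true), (2, 47, true), (1, 6, true), (1, 46, true), (0, 9, true), (3, 24, true), (2, 33, true), (1, 39, true), (0, 48, true), (2, 38, true), (1, 47, true), (3, 3, true), (4, 23, true), (3, 33, true), (2, 48, true), (1, 49, true), (0, 7, true), (1, 47, true), (0, 6, true), (2, 32, true), (1, 39, true), (0, 48, true), (2, 38, true), (1, 47, true), (3, 37, true), (2, 46, true), (1, 51, true), (0, 53, true), (4, 36, true), (3, 45, true), (2, 50, true), (1, 52, true), (5, 3, true), (5, 31, true), (4, 47, true), (3, 6, true), (3, 46, true), (2, 53, true), (1, 54, true), (0, 9, true), (4, 30, true), (3, 3, true), (3, 27, true), (2, 45, true), (1, 52, true), (0, 8, true), (3, 21, true), (2, 33, true), (1, 48, true), (0, 7, true), (0, 47, true), (3, 31, true), (2, 38, true), (1, 47, true), (0, 6, true), (1, 37, true), (0, 46, true), (2, 3, true), (2, 28, true), (1, 46, true), (0, 9, true), (0, 45, true), (1, 5, true), (0, 8, true), (2, 20, true), (1, 32, true), (0, 51, true), (1, 50, true), (2, 49, true), (3, 6, true),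 (5, 19, true), (4, 32, true), (3, 39, true), (2, 53, true), (1, 54, true), (0, 9, true), (2, 38, true), (1, 52, true), (0, 8, true), (1, 37, true), (0, 7, true), (0, 36, true), (1, 3, true), (1, 27, true), (0, 6, true), (0, 2, true), (6, 1, true), (5, 39, true), (4, 44, true), (3, 48, true), (2, 49, true), (6, 37, true), (5, 42, true), (4, 46, true), (3, 51, true), (2, 53, true), (1, 54, true), (0, 9, true)]),
  ([0, 6, 9], [(0, 15, true), (7, 18, true), (6, 23, true), (5, 33, true), (4, 39, true), (3, 44, true), (2, 51, true), (1, 53, true), (0, 9, true), (3, 38, true), (2, 43, true), (1, 6, true), (2, 3, true), (2, 32, true), (1, 44, true), (0, 53, true), (2, 43, true), (3, 42, true), (2, 49, true), (1, 7, true), (2, 41, true), (1, 50, true), (5, 31, true), (4, 38, true), (3, 43, true), (2, 6, true), (3, 37, true), (2, 42, true), (4, 3, true), (4, 30, true), (5, 27, true), (4, 36, true), (3, 41, true), (2, 52, true), (1, 8, true), (5, 22, true), (4, 33, true), (3, 39, true), (2, 44, true), (1, 53, true), (0, 9, true), (2, 38, true), (1, 43, true), (3, 3,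 true), (3, 31, true), (2, 43, true), (1, 6, true), (1, 42, true), (0, 7, true), (2, 30, true), (1, 3, true), (1, 29, true), (0, 44, true), (1, 43, true), (2, 4, true), (1, 51, true), (0, 9, true), (0, 49, true), (2, 27, true), (1, 6, true), (2, 21, true), (1, 33, true), (0, 53, true), (1, 52, true), (4, 31, true), (3, 38, true), (2, 52, true), (1, 8, true), (2, 37, true), (1, 7, true), (1, 3, true), (1, 28, true), (5, 1, true), (4, 33, true), (3, 48, true), (2, 49, true), (1, 7, true), (2, 47, true), (1, 6, true), (3, 31, true), (2, 38, true), (1, 47, true), (3, 37, true), (2, 46, true), (1, 51, true), (0, 9, true), (2, 3, true)], [(1, 51, true), (0, 18, true), (4, 15, true), (3, 26, true), (2, 42, true), (1, 46, true), (0, 51, true), (4, 24, true), (3, 44, true), (2, 48, true), (1, 49, true), (5, 23, true), (4, 44, true), (3, 48, true), (2, 49, true), (1, 7, true), (3, 43, true), (2, 45, true), (1, 50, true), (4, 42, true), (3, 46, true), (2, 51, true), (1, 54, true), (0, 9, true), (3, 41, true), (2, 47, true), (1, 6, true), (4, 21, true), (3, 39, true), (2,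 44, true), (1, 48, true), (4, 37, true), (3, 42, true), (2, 46, true), (1, 53, true), (0, 54, true), (5, 34, true), (4, 44, true), (3, 48, true), (2, 7, true), (3, 43, true), (2, 45, true), (1, 8, true), (2, 42, true), (1, 46, true), (0, 9, true), (1, 41, true), (0, 47, true), (2, 4, true), (1, 48, true), (0, 49, true), (2, 46, true), (1, 51, true), (0, 53, true), (5, 20, true), (4, 38, true), (3, 47, true), (2, 6, true), (4, 19, true), (3, 38, true), (2, 47, true), (4, 3, true), (5, 1, true), (4, 33, true), (3, 48, true), (2, 49, true), (1, 7, true), (2, 47, true), (1, 6, true), (3, 31, true), (2, 38, true), (1, 47, true), (3, 37, true), (2, 46, true), (1, 51, true), (0, 9, true), (2, 3, true)]),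
  ([0, 7, 8], [(0, 16, true), (6, 17, true), (5, 26, true), (4, 42, true), (3, 46, true), (2, 51, true), (1, 53, true), (0, 9, true), (4, 23, true), (3, 44, true), (2, 48, true), (1, 49, true), (0, 7, true), (2, 43, true), (1, 45, true), (0, 50, true), (3, 42, true), (2, 46, true), (1, 51, true), (0, 54, true), (4, 41, true), (3, 47, true), (2, 6, true), (5, 22, true), (4, 39, true), (3, 44, true), (2, 48, true), (5, 37, true), (4, 42, true), (3, 46, true), (2, 53, true), (1, 54, true), (0, 9, true), (4, 36, true), (3, 41, true), (2, 47, true), (5, 35, true), (4, 44, true), (3, 48, true), (2, 49, true), (1, 7, true), (3, 43, true), (2, 45, true), (1, 50, true), (0, 8, true), (2, 42, true), (1, 46, true), (0, 51, true), (3, 41, true), (2, 47, true), (1, 6, true), (2, 40, true), (1, 47, true), (2, 45, true), (1, 50, true), (3, 5, true), (2, 50, true), (1, 8, true), (1, 6, true), (2, 3, true), (2, 19, true), (1, 43, true), (5, 1, true), (4, 33, true), (3, 39, true), (2, 44, true), (1, 51, true), (0, 9, true), (2, 38, true), (1, 43, true), (0, 6, true), (1, 3,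 true), (1, 31, true), (0, 43, true), (1, 42, true), (0, 49, true)], [(1, 52, true), (0, 17, true), (5, 16, true), (4, 26, true), (3, 31, true), (2, 47, true), (1, 6, true), (1, 46, true), (0, 9, true), (3, 24, true), (2, 33, true), (1, 39, true), (0, 48, true), (2, 38, true), (1, 47, true), (3, 3, true), (4, 23, true), (3, 33, true), (2, 48, true), (1, 49, true), (0, 7, true), (1, 47, true), (0, 6, true), (2, 32, true), (1, 39, true), (0, 48, true), (2, 38, true), (1, 47, true), (3, 37, true), (2, 46, true), (1, 51, true), (0, 53, true), (4, 36, true), (3, 45, true), (2, 50, true), (1, 52, true), (5, 3, true), (5, 31, true), (4, 47, true), (3, 6, true), (3, 46, true), (2, 53, true), (1, 54, true), (0, 9, true), (4, 30, true), (3, 3, true), (3, 27, true), (2, 45, true), (1, 52, true), (0, 8, true), (3, 22, true), (2, 33, true), (1, 48, true), (0, 7, true), (0, 47, true), (3, 31, true), (2, 38, true), (1, 47, true), (0, 6, true), (1, 37, true), (0, 46, true), (2, 3, true), (2, 30, true), (3, 29, true), (2, 39, true), (1, 48, true), (3, 38, true), (2, 47, true),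 (4, 34, true), (3, 48, true), (2, 49, true), (1, 7, true), (2, 47, true), (1, 6, true), (1, 46, true), (0, 9, true), (0, 45, true), (4, 27, true), (3, 36, true), (2, 41, true), (1, 47, true), (6, 21, true), (5, 33, true), (4, 39, true), (3, 44, true), (2, 48, true), (1, 49, true), (5, 38, true), (4, 43, true), (3, 45, true), (2, 50, true), (1, 52, true), (0, 8, true), (4, 3, true), (4, 31, true), (3, 43, true), (2, 45, true), (1, 50, true), (0, 52, true), (4, 42, true), (3, 46, true), (2, 51, true), (1, 53, true), (0, 54, true), (7, 28, true), (6, 37, true), (5, 42, true), (4, 46, true), (3, 51, true), (2, 53, true), (1, 54, true), (0, 9, true), (5, 36, true), (4, 41, true), (3, 47, true), (2, 6, true), (4, 35, true), (3, 44, true), (2, 48, true), (1, 7, true), (2, 43, true), (1, 45, true), (0, 8, true), (1, 42, true), (0, 46, true), (2, 41, true), (1, 47, true), (3, 40, true), (2, 47, true), (1, 6, true), (1, 45, true), (2, 5, true), (1, 8, true), (5, 1, true), (4, 33, true), (3, 39, true), (2, 44, true), (1, 51, true), (0, 9, true), (2, 38, true), (1, 43,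 true), (0, 6, true), (1, 3, true), (1, 31, true), (0, 43, true), (1, 42, true), (0, 49, true)]),
  ([1, 2, 3], [(0, 19, true), (3, 20, true), (2, 32, true), (1, 39, true), (0, 54, true), (2, 38, true), (1, 8, true), (1, 37, true), (2, 36, true), (3, 3, true)], [(1, 27, true), (0, 23, true), (5, 19, true), (4, 38, true), (3, 50, true), (2, 52, true), (1, 8, true), (3, 3, true)]),
  ([0, 0, 2], [(0, 0, true)], [(1, 11, true), (0, 18, true), (4, 17, true), (3, 26, true), (2, 42, true), (1, 46, true), (0, 51, true), (4, 23, true), (3, 44, true), (2, 48, true), (1, 49, true), (4, 43, true), (3, 45, true), (2, 50, true), (1, 52, true), (5, 42, true), (4, 46, true), (3, 51, true), (2, 53, true), (1, 54, true), (0, 9, true), (4, 41, true), (3, 47, true), (2, 6, true), (5, 22, true), (4, 39, true), (3, 44, true), (2, 48, true), (1, 7, true), (3, 37, true), (2, 42, true), (1, 46, true), (0, 54, true), (4, 36, true), (3, 41, true), (2, 47, true), (5, 35, true), (4, 44, true), (3, 48, true), (2, 49, true), (5, 43, true), (4, 45, true), (3, 50, true), (2, 52, true), (1,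 8, true), (4, 42, true), (3, 46, true), (2, 51, true), (1, 53, true), (0, 9, true), (3, 41, true), (2, 47, true), (1, 6, true), (2, 40, true), (1, 47, true), (2, 45, true), (1, 50, true), (0, 52, true), (3, 5, true), (2, 50, true), (1, 52, true), (0, 8, true), (1, 6, true), (2, 3, true), (2, 19, true), (1, 43, true), (5, 1, true), (4, 33, true), (3, 39, true), (2, 44, true), (1, 51, true), (0, 53, true), (4, 38, true), (3, 43, true), (2, 6, true), (3, 3, true), (3, 31, true), (2, 43, true), (3, 42, true), (2, 49, true), (1, 7, true), (5, 15, true), (4, 33, true), (3, 39, true), (2, 44, true), (1, 51, true), (0, 9, true), (2, 38, true), (1, 43, true), (0, 6, true), (1, 3, true), (1, 31, true), (0, 43, true), (1, 42, true), (0, 49, true), (4, 30, true), (3, 3, true), (3, 28, true), (2, 42, true), (1, 49, true), (0, 7, true), (1, 41, true), (0, 50, true), (2, 40, true), (1, 50, true), (0, 8, true), (0, 6, true), (2, 27, true), (1, 41, true), (0, 47, true), (3, 2, true), (2, 44, true), (1, 48, true), (0, 49, true), (3, 43, true), (2, 45, true), (1, 50, true), (0,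 52, true), (4, 41, true), (3, 47, true), (2, 6, true), (3, 40, true), (2, 47, true), (3, 45, true), (2, 50, true), (1, 52, true), (0, 8, true), (2, 5, true), (1, 50, true), (0, 52, true), (2, 6, true), (2, 4, true), (1, 53, true), (0, 54, true), (2, 7, true), (4, 14, true), (3, 24, true), (2, 39, true), (1, 54, true), (0, 9, true), (2, 19, true), (1, 38, true), (0, 8, true), (0, 3, true), (1, 1, true), (0, 33, true), (3, 31, true), (2, 38, true), (1, 8, true), (1, 37, true), (2, 3, true), (3, 0, true), (2, 31, true), (1, 52, true), (2, 7, true), (3, 29, true), (2, 39, true), (1, 54, true), (0, 9, true), (1, 38, true), (0, 8, true), (0, 34, true), (6, 28, true), (5, 37, true), (4, 42, true), (3, 49, true), (2, 7, true), (4, 36, true), (3, 41, true), (2, 50, true), (1, 8, true), (3, 35, true), (2, 44, true), (1, 51, true), (0, 9, true), (1, 43, true), (0, 6, true), (0, 42, true), (1, 41, true), (0, 52, true), (2, 40, true), (1, 52, true), (0, 8, true), (5, 27, true), (4, 36, true), (3, 41, true), (2, 47, true), (1, 6, true)]),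
  ([0, 0, 3], [(0, 0, true), (3, 3, true)], [(1, 12, true), (0, 18, true), (4, 14, true), (3, 24, true), (2, 44, true), (1, 48, true), (0, 49, true), (4, 19, true), (3, 43, true), (2, 45, true), (1, 50, true), (0, 52, true), (7, 1, true), (6, 33, true), (5, 39, true), (4, 44, true), (3, 48, true), (2, 49, true), (1, 7, true), (4, 38, true), (3, 43, true), (2, 45, true), (1, 50, true), (0, 8, true), (3, 3, true), (3, 31, true), (2, 43, true), (1, 45, true), (0, 50, true), (3, 42, true), (2, 46, true), (1, 51, true), (0, 54, true), (7, 12, true), (6, 33, true), (5, 39, true), (4, 44, true), (3, 48, true), (2, 49, true), (6, 38, true), (5, 43, true), (4, 45, true), (3, 50, true), (2, 52, true), (1, 8, true), (5, 3, true), (5, 29, true), (4, 44, true), (3, 48, true), (2, 49, true), (1, 7, true), (3, 43, true), (2, 45, true), (1, 50, true), (4, 4, true), (3, 48, true), (2, 49, true), (4, 46, true), (3, 51, true), (2, 53, true), (1, 54, true), (0, 9, true), (4, 27, true), (3, 45, true), (2, 50, true), (1, 52, true), (0, 8, true), (3, 2, true), (2, 48, true), (1,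 49, true), (0, 7, true), (1, 47, true), (0, 6, true), (0, 45, true), (1, 5, true), (0, 8, true), (4, 11, true), (3, 26, true), (2, 37, true), (1, 42, true), (0, 49, true), (4, 25, true), (3, 3, true), (3, 23, true), (2, 44, true), (1, 51, true), (0, 53, true), (3, 43, true), (2, 6, true), (2, 42, true), (1, 7, true), (1, 41, true), (4, 22, true), (3, 39, true), (2, 44, true), (1, 54, true), (0, 9, true), (2, 37, true), (1, 42, true), (3, 36, true), (2, 41, true), (1, 52, true), (0, 8, true), (2, 35, true), (1, 44, true), (0, 53, true), (2, 43, true), (3, 42, true), (2, 49, true), (1, 7, true), (2, 41, true), (1, 50, true), (3, 40, true), (2, 50, true), (1, 8, true), (1, 6, true), (3, 3, true), (4, 10, true), (3, 24, true), (2, 44, true), (1, 48, true), (4, 22, true), (3, 44, true), (2, 48, true), (1, 7, true), (2, 42, true), (1, 46, true), (0, 9, true), (1, 41, true), (0, 47, true), (2, 40, true), (1, 47, true), (0, 6, true), (0, 45, true), (1, 5, true), (0, 8, true), (3, 21, true), (2, 39, true), (1, 44, true), (0, 51, true), (3, 37, true), (2, 42, true),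 (1, 49, true), (4, 34, true), (3, 44, true), (2, 51, true), (1, 53, true), (0, 9, true), (2, 43, true), (1, 6, true), (1, 42, true), (0, 7, true), (0, 41, true), (1, 4, true), (0, 54, true), (4, 20, true), (3, 38, true), (2, 52, true), (1, 8, true), (3, 1, true), (2, 39, true), (1, 53, true), (0, 9, true), (1, 37, true), (0, 7, true), (1, 0, true), (0, 37, true), (1, 35, true), (0, 53, true), (1, 52, true), (2, 7, true), (4, 34, true), (3, 48, true), (2, 49, true), (4, 47, true), (3, 6, true), (3, 46, true), (2, 53, true), (1, 54, true), (0, 9, true), (2, 45, true), (1, 52, true), (0, 8, true), (3, 3, true)])]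

/-- A conjugation. -/
def twoHeFus0 : Schur.Tails.Fus where
  xs := [[7, 6, 5, 1], [9, 8, 6, 5, 3]]
  ys := [[6, 3], [7, 5, 3, 2, 1]]
  rels := [
    ([0, 0], [], [(3, 24, true), (2, 48, true), (1, 49, true), (0, 7, true), (2, 23, true), (1, 48, true), (0, 49, true), (2, 47, true), (1, 6, true), (1, 46, true), (0, 53, true), (2, 45, true), (1, 52, true), (5, 22, true), (4, 39, true), (3, 48, true), (2, 7, true), (3, 37, true), (2, 46, true), (1, 54, true), (0, 9, true), (2, 36, true), (1, 45, true), (0, 8, true), (1, 35, true), (0, 48, true), (1, 47, true), (2, 46, true), (1, 51, true), (0, 53, true), (3, 45, true), (2, 50, true), (1, 52, true), (4, 5, true), (3, 50, true), (2, 52, true), (1, 8, true), (2, 6, true), (2, 3, true), (2, 1, true), (1, 53, true), (0, 9, true), (0, 7, true)], [(1, 36, true), (0, 6, true), (0, 3, true)]),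
    ([1, 1], [], [(4, 39, true), (3, 48, true), (2, 49, true), (5, 38, true), (4, 47, true), (3, 6, true), (4, 36, true), (3, 45, true), (2, 52, true), (1, 8, true), (3, 35, true), (2, 48, true), (1, 7, true), (1, 47, true), (2, 46, true), (1, 51, true), (0, 9, true), (1, 45, true), (0, 50, true), (2, 5, true), (1, 50, true), (0, 8, true), (0, 6, true), (0, 3, true)], [(4, 24, true), (3, 33, true), (2, 39, true), (1, 48, true), (0, 7, true), (1, 38, true), (0, 47, true), (2, 3, true), (3, 22, true), (2, 33, true), (1, 48, true), (0, 49, true), (2, 47, true), (1, 6, true), (3, 31, true), (2, 38, true), (1, 47, true), (3, 37, true), (2, 46, true), (1, 51, true), (0, 53, true), (4, 3, true), (4, 30, true), (5, 29, true), (4, 39, true), (3, 48, true), (2, 49, true), (1, 7, true), (3, 38, true), (2, 47, true), (1, 6, true), (2, 34, true), (1, 48, true), (2, 47, true), (3, 46, true), (2, 51, true), (1, 53, true), (0, 9, true), (2, 45, true), (1, 50, true), (0, 52, true), (6, 27, true), (5, 36, true), (4, 41, true), (3, 47, true), (2, 6, true), (6, 20, true), (5,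 32, true), (4, 39, true), (3, 44, true), (2, 48, true), (1, 7, true), (3, 38, true), (2, 43, true), (1, 45, true), (0, 8, true), (2, 37, true), (1, 42, true), (0, 46, true), (3, 36, true), (2, 41, true), (1, 47, true), (4, 3, true), (5, 19, true), (4, 32, true), (3, 44, true), (2, 48, true), (1, 49, true), (4, 43, true), (3, 45, true), (2, 50, true), (1, 52, true), (5, 42, true), (4, 46, true), (3, 51, true), (2, 53, true), (1, 54, true), (0, 9, true), (4, 41, true), (3, 47, true), (2, 6, true), (5, 27, true), (4, 36, true), (3, 41, true), (2, 47, true), (6, 2, true), (5, 39, true), (4, 44, true), (3, 48, true), (2, 49, true), (1, 7, true), (4, 38, true), (3, 43, true), (2, 45, true), (1, 50, true), (0, 8, true), (3, 36, true), (2, 41, true), (1, 47, true), (0, 6, true), (2, 35, true), (1, 44, true), (0, 48, true), (2, 43, true), (1, 45, true), (0, 52, true), (3, 42, true), (2, 46, true), (1, 53, true), (0, 54, true), (4, 41, true), (3, 47, true), (5, 40, true), (4, 47, true), (3, 6, true), (3, 45, true), (2, 52, true), (1, 8, true), (2, 5, true), (1, 52, true),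 (5, 34, true), (4, 44, true), (3, 51, true), (2, 53, true), (1, 54, true), (0, 9, true), (3, 43, true), (2, 6, true), (2, 42, true), (1, 7, true), (1, 41, true), (0, 8, true), (0, 4, true), (2, 3, true), (2, 1, true), (1, 53, true), (0, 9, true), (0, 7, true)]),
    ([0, 1], [1, 0], [(3, 26, true), (2, 46, true), (1, 51, true), (0, 53, true), (4, 25, true), (5, 23, true), (4, 39, true), (3, 48, true), (2, 49, true), (1, 7, true), (3, 38, true), (2, 47, true), (1, 6, true), (2, 37, true), (1, 46, true), (0, 9, true), (1, 36, true), (0, 45, true), (2, 3, true), (2, 22, true), (1, 48, true), (2, 46, true), (1, 53, true), (0, 54, true), (3, 45, true), (2, 52, true), (1, 8, true), (2, 5, true), (1, 52, true), (5, 20, true), (4, 38, true), (3, 50, true), (2, 52, true), (1, 8, true), (1, 8, false), (2, 52, false), (3, 5, false), (1, 52, false), (2, 45, false), (0, 53, false), (1, 46, false), (1, 6, false), (2, 47, false), (0, 49, false), (1, 48, false), (2, 35, false), (0, 8, false), (1, 50, false), (2, 45, false), (3, 36, false), (0, 9, false), (1, 54, false), (2,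 51, false), (3, 46, false), (4, 37, false)], [(1, 37, true), (0, 49, true), (2, 35, true), (1, 51, true), (0, 53, true), (2, 50, true), (1, 52, true), (3, 49, true), (2, 7, true), (2, 6, true), (3, 3, true), (3, 3, false), (1, 45, false), (2, 36, false), (0, 46, false), (1, 37, false), (0, 6, false), (1, 47, false), (2, 38, false), (0, 7, false), (1, 49, false), (2, 48, false), (3, 39, false), (4, 32, false), (5, 20, false), (0, 8, false), (1, 52, false), (2, 50, false), (3, 45, false), (4, 36, false), (5, 27, false), (4, 30, false), (4, 3, false), (0, 9, false), (1, 54, false), (2, 53, false), (3, 51, false), (4, 46, false), (5, 37, false), (3, 47, false), (4, 38, false), (5, 31, false), (1, 52, false), (2, 45, false), (0, 53, false), (1, 46, false), (1, 6, false), (2, 47, false), (0, 49, false), (1, 48, false), (2, 32, false), (2, 3, false), (0, 47, false), (1, 38, false), (0, 7, false), (1, 48, false), (2, 39, false), (3, 33, false), (4, 23, false)])]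

/-- A conjugation. -/
def twoHeFus1 : Schur.Tails.Fus where
  xs := [[9, 6, 5, 4, 1]]
  ys := [[9, 8, 6, 5, 3]]
  rels := [
    ([0, 0], [], [(4, 26, true), (3, 42, true), (2, 46, true), (1, 51, true), (0, 9, true), (3, 23, true), (2, 44, true), (1, 48, true), (0, 49, true), (3, 43, true), (2, 45, true), (1, 50, true), (0, 52, true), (4, 42, true), (3, 46, true), (2, 51, true), (1, 53, true), (0, 54, true), (5, 41, true), (4, 47, true), (3, 6, true), (6, 22, true), (5, 39, true), (4, 44, true), (3, 48, true), (2, 7, true), (4, 37, true), (3, 42, true), (2, 46, true), (1, 54, true), (0, 9, true), (3, 36, true), (2, 41, true), (1, 47, true), (4, 35, true), (3, 44, true), (2, 48, true), (1, 49, true), (4, 43, true), (3, 45, true), (2, 50, true), (1, 52, true), (0, 8, true), (3, 42, true), (2, 46, true), (1, 51, true), (0, 53, true), (4, 41, true), (3, 47, true), (2, 6, true), (3, 40, true), (2, 47, true), (3, 45, true), (2, 50, true), (1, 52, true), (4, 5, true), (3, 50, true), (2, 52, true), (1, 8, true), (2, 6, true), (3, 3, true), (3, 21, true), (2, 44, true),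 (1, 53, true), (0, 9, true), (1, 42, true), (0, 7, true), (0, 4, true), (2, 1, true), (1, 53, true), (0, 9, true), (0, 7, true)], [(4, 39, true), (3, 48, true), (2, 49, true), (5, 38, true), (4, 47, true), (3, 6, true), (4, 36, true), (3, 45, true), (2, 52, true), (1, 8, true), (3, 35, true), (2, 48, true), (1, 7, true), (1, 47, true), (2, 46, true), (1, 51, true), (0, 9, true), (1, 45, true), (0, 50, true), (2, 5, true), (1, 50, true), (0, 8, true), (0, 6, true), (0, 3, true)])]

/-- A conjugation. -/
def twoHeFus2 : Schur.Tails.Fus where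
  xs := [[7, 4, 1], [9, 6, 5, 4]]
  ys := [[7, 6, 5, 4], [9, 5, 3]]
  rels := [
    ([0, 0], [], [(2, 24, true), (1, 44, true), (0, 53, true), (3, 21, true), (2, 44, true), (1, 53, true), (0, 9, true), (1, 42, true), (0, 7, true), (0, 4, true), (2, 1, true), (1, 53, true), (0, 9, true), (0, 7, true)], [(3, 42, true), (2, 46, true), (1, 51, true), (0, 53, true), (4, 41, true), (3, 47, true), (2, 6, true), (3, 40, true), (2, 47, true), (3, 45, true), (2, 50, true), (1, 52, true), (4, 5, true), (3, 50, true), (2, 52, true), (1, 8, true), (2, 6, true), (2, 4, true), (1, 53, true), (0, 9, true), (0, 7, true)])]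

/-- A conjugation. -/
def twoHeFus3 : Schur.Tails.Fus where
  xs := [[8, 7, 6, 5, 3], [8, 4, 3]]
  ys := [[9, 8, 6, 5, 4, 3, 1], [9, 8, 7, 6, 5, 4, 3, 1]]
  rels := [
    ([1, 1], [], [(2, 38, true), (1, 43, true), (3, 34, true), (2, 44, true), (1, 51, true), (0, 54, true), (3, 43, true), (2, 6, true), (2, 42, true), (3, 41, true), (2, 52, true), (1, 8, true), (2, 4, true), (1, 53, true), (0, 9, true), (0, 7, true), (0, 3, true)], [(7, 26, true), (6, 37, true), (5, 42, true), (4, 46, true), (3, 51, true), (2, 53, true), (1, 54, true), (0, 9, true), (6, 25, true), (5, 3, true), (5, 24, true), (4, 44, true), (3, 48, true), (2, 49, true), (1, 7, true), (4, 23, true), (3, 44, true), (2, 48, true), (1, 49, true), (4, 43, true), (3, 45, true), (2, 50, true), (1, 52, true), (0, 8, true), (3, 42, true), (2, 46, true), (1, 51, true), (0, 53, true), (4, 41, true), (3, 47, true), (2, 6, true), (5, 22, true), (4, 39, true), (3, 44, true), (2, 48, true), (1, 7, true), (3, 37, true), (2, 42, true), (1, 46, true), (0, 9, true), (2, 36, true), (1, 41, true), (0, 47, true),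 (3, 35, true), (2, 44, true), (1, 48, true), (0, 49, true), (3, 43, true), (2, 45, true), (1, 50, true), (0, 52, true), (4, 42, true), (3, 46, true), (2, 51, true), (1, 53, true), (0, 54, true), (5, 41, true), (4, 47, true), (3, 6, true), (4, 40, true), (3, 47, true), (4, 45, true), (3, 50, true), (2, 52, true), (1, 8, true), (3, 5, true), (2, 50, true), (1, 52, true), (3, 6, true), (4, 3, true), (4, 21, true), (3, 44, true), (2, 53, true), (1, 54, true), (0, 9, true), (2, 42, true), (1, 7, true), (1, 4, true), (0, 54, true), (3, 20, true), (2, 52, true), (1, 8, true), (2, 1, true), (1, 53, true), (0, 9, true), (0, 7, true)])]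

/-- A conjugation. -/
def twoHeFus4 : Schur.Tails.Fus where
  xs := [[9, 4, 0]]
  ys := [[9, 7, 6, 4, 2, 1]]
  rels := [
    ([0, 0], [], [(2, 18, true), (1, 41, true), (2, 40, true), (1, 8, true), (3, 4, true), (2, 48, true), (1, 49, true), (3, 46, true), (2, 51, true), (1, 53, true), (0, 9, true), (4, 13, true), (3, 26, true), (2, 46, true), (1, 51, true), (0, 53, true), (4, 25, true), (5, 24, true), (4, 39, true), (3, 48, true), (2, 49, true), (1, 7, true), (4, 21, true), (3, 39, true), (2, 48, true), (1, 49, true), (4, 37, true), (3, 46, true), (2, 51, true), (1, 53, true), (0, 9, true), (3, 34, true), (2, 48, true), (1, 49, true), (0, 7, true), (1, 47, true), (0, 6, true), (0, 46, true), (1, 45, true), (5, 20, true), (4, 38, true), (3, 43, true), (2, 45, true), (1, 8, true), (4, 1, true), (3, 39, true), (2, 44, true), (1, 48, true), (4, 37, true), (3, 42, true), (2, 46, true), (1, 53, true), (0, 9, true), (4, 0, true), (3, 37, true), (2, 42, true), (1, 46, true), (0, 53, true), (4, 35, true), (3, 44, true), (2, 48, true), (1, 7, true), (2, 43, true),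 (1, 45, true), (3, 42, true), (2, 46, true), (1, 54, true), (0, 9, true), (2, 41, true), (1, 47, true), (3, 40, true), (2, 47, true), (1, 6, true), (1, 45, true), (0, 8, true), (0, 5, true), (3, 34, true), (2, 44, true), (1, 51, true), (0, 54, true), (3, 43, true), (2, 6, true), (2, 42, true), (3, 41, true), (2, 52, true), (1, 8, true), (2, 4, true), (1, 53, true), (0, 9, true), (0, 7, true), (0, 3, true)], [(5, 26, true), (4, 31, true), (3, 43, true), (2, 6, true), (2, 42, true), (1, 7, true), (4, 24, true), (3, 33, true), (2, 39, true), (1, 44, true), (0, 9, true), (1, 38, true), (0, 43, true), (2, 3, true), (3, 23, true), (2, 33, true), (1, 44, true), (0, 51, true), (2, 43, true), (1, 6, true), (3, 32, true), (2, 39, true), (1, 44, true), (0, 9, true), (1, 38, true), (0, 43, true), (2, 37, true), (1, 42, true), (0, 49, true), (3, 36, true), (2, 41, true), (1, 50, true), (0, 52, true), (4, 3, true), (4, 31, true), (3, 43, true), (2, 6, true), (2, 42, true), (1, 7, true), (3, 30, true), (2, 3, true), (2, 27, true), (1, 41, true), (0, 8, true), (2, 21, true),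 (1, 33, true), (0, 44, true), (1, 43, true), (4, 31, true), (3, 38, true), (2, 43, true), (1, 6, true), (2, 37, true), (1, 42, true), (3, 3, true), (3, 28, true), (2, 42, true), (1, 7, true), (1, 41, true), (2, 40, true), (1, 8, true), (5, 19, true), (4, 32, true), (3, 44, true), (2, 48, true), (1, 49, true), (4, 43, true), (3, 45, true), (2, 50, true), (1, 52, true), (5, 42, true), (4, 46, true), (3, 51, true), (2, 53, true), (1, 54, true), (0, 9, true), (4, 41, true), (3, 47, true), (2, 6, true), (5, 27, true), (4, 36, true), (3, 41, true), (2, 47, true), (6, 2, true), (5, 39, true), (4, 44, true), (3, 48, true), (2, 49, true), (1, 7, true), (4, 38, true), (3, 43, true), (2, 45, true), (1, 50, true), (0, 8, true), (3, 36, true), (2, 41, true), (1, 47, true), (0, 6, true), (2, 35, true), (1, 44, true), (0, 48, true), (2, 43, true), (1, 45, true), (0, 52, true), (3, 42, true), (2, 46, true), (1, 53, true), (0, 54, true), (4, 41, true), (3, 47, true), (5, 40, true), (4, 47, true), (3, 6, true), (3, 45, true), (2, 52, true), (1, 8, true), (2, 5, true), (1, 52,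 true), (5, 34, true), (4, 44, true), (3, 51, true), (2, 53, true), (1, 54, true), (0, 9, true), (3, 43, true), (2, 6, true), (2, 42, true), (1, 7, true), (1, 41, true), (0, 8, true), (0, 4, true), (2, 3, true), (2, 1, true), (1, 53, true), (0, 9, true), (0, 7, true)])]

/-- A conjugation. -/
def twoHeFus5 : Schur.Tails.Fus where
  xs := [[9, 8, 6, 5, 4, 3, 1], [9, 5, 2, 1, 0], [8, 5]]
  ys := [[9, 8, 7, 4, 2, 1], [9, 7, 6, 3, 1], [9, 8, 5, 3, 2]]
  rels := [
    ([0, 0], [], [(6, 26, true), (5, 37, true), (4, 42, true), (3, 46, true), (2, 51, true), (1, 54, true), (0, 9, true), (5, 25, true), (4, 3, true), (4, 23, true), (3, 44, true), (2, 48, true), (1, 49, true), (4, 43, true), (3, 45, true), (2, 50, true), (1, 52, true), (0, 8, true), (3, 42, true), (2, 46, true), (1, 51, true), (0, 53, true), (4, 41, true), (3, 47, true), (2, 6, true), (5, 22, true), (4, 39, true), (3, 44, true), (2, 48, true), (1, 7, true), (3, 37, true), (2, 42, true), (1, 46, true), (0, 9, true), (2, 36, true), (1, 41, true), (0, 47, true), (3, 35, true), (2, 44, true), (1, 48, true),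 (0, 49, true), (3, 43, true), (2, 45, true), (1, 50, true), (0, 52, true), (4, 42, true), (3, 46, true), (2, 51, true), (1, 53, true), (0, 54, true), (5, 41, true), (4, 47, true), (3, 6, true), (4, 40, true), (3, 47, true), (4, 45, true), (3, 50, true), (2, 52, true), (1, 8, true), (3, 5, true), (2, 50, true), (1, 52, true), (3, 6, true), (4, 3, true), (4, 21, true), (3, 44, true), (2, 53, true), (1, 54, true), (0, 9, true), (2, 42, true), (1, 7, true), (1, 4, true), (0, 54, true), (3, 20, true), (2, 52, true), (1, 8, true), (2, 1, true), (1, 53, true), (0, 9, true), (0, 7, true)], [(5, 26, true), (4, 31, true), (3, 43, true), (4, 42, true), (3, 49, true), (2, 7, true), (6, 25, true), (5, 27, true), (4, 36, true), (3, 41, true), (2, 50, true), (1, 8, true), (5, 24, true), (4, 33, true), (3, 39, true), (2, 44, true), (1, 51, true), (0, 9, true), (2, 38, true), (1, 43, true), (0, 6, true), (1, 3, true), (2, 21, true), (1, 33, true), (0, 44, true), (1, 43, true), (4, 31, true), (3, 38, true), (2, 43, true), (1, 6, true), (2, 37, true), (1, 42, true), (3, 3, true),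 (3, 28, true), (2, 42, true), (1, 7, true), (1, 41, true), (2, 40, true), (1, 8, true), (5, 19, true), (4, 32, true), (3, 44, true), (2, 48, true), (1, 49, true), (4, 43, true), (3, 45, true), (2, 50, true), (1, 52, true), (5, 42, true), (4, 46, true), (3, 51, true), (2, 53, true), (1, 54, true), (0, 9, true), (4, 41, true), (3, 47, true), (2, 6, true), (5, 27, true), (4, 36, true), (3, 41, true), (2, 47, true), (6, 2, true), (5, 39, true), (4, 44, true), (3, 48, true), (2, 49, true), (1, 7, true), (4, 38, true), (3, 43, true), (2, 45, true), (1, 50, true), (0, 8, true), (3, 36, true), (2, 41, true), (1, 47, true), (0, 6, true), (2, 35, true), (1, 44, true), (0, 48, true), (2, 43, true), (1, 45, true), (0, 52, true), (3, 42, true), (2, 46, true), (1, 53, true), (0, 54, true), (4, 41, true), (3, 47, true), (5, 40, true), (4, 47, true), (3, 6, true), (3, 45, true), (2, 52, true), (1, 8, true), (2, 5, true), (1, 52, true), (5, 34, true), (4, 44, true), (3, 51, true), (2, 53, true), (1, 54, true), (0, 9, true), (3, 43, true), (2, 6, true), (2, 42, true), (1, 7,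 true), (1, 41, true), (0, 8, true), (0, 4, true), (2, 3, true), (2, 1, true), (1, 53, true), (0, 9, true), (0, 7, true)]),
    ([1, 1], [], [(4, 18, true), (3, 23, true), (2, 33, true), (1, 48, true), (2, 47, true), (5, 32, true), (4, 39, true), (3, 48, true), (2, 49, true), (1, 7, true), (3, 38, true), (2, 47, true), (1, 6, true), (2, 37, true), (1, 46, true), (0, 9, true), (1, 36, true), (0, 45, true), (2, 3, true), (2, 31, true), (1, 47, true), (2, 46, true), (1, 51, true), (0, 54, true), (5, 30, true), (4, 3, true), (4, 27, true), (3, 45, true), (2, 50, true), (1, 8, true), (4, 22, true), (3, 33, true), (2, 48, true), (1, 49, true), (3, 47, true), (2, 6, true), (4, 31, true), (3, 38, true), (2, 47, true), (4, 37, true), (3, 46, true), (2, 51, true), (1, 53, true), (0, 9, true), (3, 3, true), (3, 30, true), (4, 29, true), (3, 39, true), (2, 48, true), (1, 49, true), (0, 7, true), (2, 38, true), (1, 47, true), (0, 6, true), (1, 34, true), (0, 48, true), (1, 47, true), (2, 46, true), (1, 51, true), (0, 53, true), (3, 45, true), (2, 50, true), (1, 52, true),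 (7, 27, true), (6, 36, true), (5, 41, true), (4, 47, true), (3, 6, true), (7, 21, true), (6, 33, true), (5, 39, true), (4, 44, true), (3, 48, true), (2, 7, true), (4, 38, true), (3, 43, true), (2, 45, true), (1, 8, true), (3, 3, true), (3, 31, true), (2, 43, true), (1, 45, true), (3, 42, true), (2, 46, true), (1, 54, true), (0, 9, true), (4, 28, true), (3, 37, true), (2, 42, true), (1, 46, true), (0, 54, true), (4, 36, true), (3, 41, true), (2, 47, true), (5, 35, true), (4, 44, true), (3, 48, true), (2, 49, true), (5, 43, true), (4, 45, true), (3, 50, true), (2, 52, true), (1, 8, true), (4, 42, true), (3, 46, true), (2, 51, true), (1, 53, true), (0, 9, true), (3, 41, true), (2, 47, true), (1, 6, true), (2, 40, true), (1, 47, true), (2, 45, true), (1, 50, true), (0, 52, true), (3, 5, true), (2, 50, true), (1, 52, true), (0, 8, true), (1, 6, true), (4, 1, true), (3, 33, true), (2, 39, true), (1, 44, true), (0, 53, true), (3, 38, true), (2, 43, true), (4, 3, true), (4, 31, true), (3, 43, true), (2, 6, true), (2, 42, true), (1, 7, true), (4, 14, true), (3, 31,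 true), (2, 38, true), (1, 43, true), (3, 37, true), (2, 42, true), (1, 49, true), (4, 3, true), (4, 2, true), (3, 44, true), (2, 51, true), (1, 53, true), (0, 9, true), (2, 43, true), (1, 6, true), (1, 41, true), (0, 52, true), (2, 40, true), (1, 52, true), (0, 8, true), (3, 4, true), (2, 48, true), (1, 49, true), (0, 7, true), (1, 46, true), (0, 51, true), (5, 11, true), (4, 26, true), (3, 37, true), (2, 46, true), (1, 51, true), (0, 9, true), (3, 25, true), (2, 3, true), (2, 23, true), (1, 48, true), (0, 49, true), (2, 47, true), (1, 6, true), (1, 46, true), (0, 53, true), (2, 45, true), (1, 52, true), (5, 22, true), (4, 39, true), (3, 48, true), (2, 7, true), (3, 37, true), (2, 46, true), (1, 54, true), (0, 9, true), (2, 36, true), (1, 45, true), (0, 8, true), (1, 35, true), (0, 48, true), (1, 47, true), (2, 46, true), (1, 51, true), (0, 53, true), (3, 45, true), (2, 50, true), (1, 52, true), (4, 5, true), (3, 50, true), (2, 52, true), (1, 8, true), (2, 6, true), (2, 3, true), (3, 10, true), (2, 24, true), (1, 53, true), (0, 9, true), (1, 22, true), (0,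 53, true), (1, 7, true), (4, 21, true), (3, 39, true), (2, 48, true), (1, 49, true), (4, 37, true), (3, 46, true), (2, 51, true), (1, 53, true), (0, 9, true), (3, 34, true), (2, 48, true), (1, 49, true), (0, 7, true), (1, 47, true), (0, 6, true), (0, 46, true), (1, 45, true), (5, 20, true), (4, 38, true), (3, 43, true), (2, 45, true), (1, 8, true), (4, 1, true), (3, 39, true), (2, 44, true), (1, 48, true), (4, 37, true), (3, 42, true), (2, 46, true), (1, 53, true), (0, 9, true), (4, 0, true), (3, 37, true), (2, 42, true), (1, 46, true), (0, 53, true), (4, 35, true), (3, 44, true), (2, 48, true), (1, 7, true), (2, 43, true), (1, 45, true), (3, 42, true), (2, 46, true), (1, 54, true), (0, 9, true), (2, 41, true), (1, 47, true), (3, 40, true), (2, 47, true), (1, 6, true), (1, 45, true), (0, 8, true), (0, 5, true), (3, 34, true), (2, 44, true), (1, 51, true), (0, 54, true), (3, 43, true), (2, 6, true), (2, 42, true), (3, 41, true), (2, 52, true), (1, 8, true), (2, 4, true), (1, 53, true), (0, 9, true), (0, 7, true), (0, 3, true)], [(4, 26, true), (3, 37, true),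 (2, 49, true), (1, 7, true), (3, 24, true), (2, 39, true), (1, 51, true), (0, 9, true), (2, 23, true), (1, 39, true), (0, 51, true), (2, 38, true), (1, 50, true), (3, 37, true), (2, 49, true), (4, 36, true), (3, 6, true), (3, 3, true), (3, 20, true), (2, 52, true), (1, 8, true), (2, 1, true), (1, 53, true), (0, 9, true), (0, 7, true)]),
    ([2, 2], [], [(1, 47, true), (2, 5, true), (1, 50, true), (0, 8, true), (0, 6, true)], [(4, 33, true), (3, 39, true), (2, 48, true), (4, 38, true), (3, 47, true), (5, 3, true), (5, 32, true), (4, 48, true), (3, 49, true), (2, 7, true), (3, 47, true), (2, 6, true), (2, 46, true), (1, 54, true), (0, 9, true), (1, 45, true), (0, 8, true), (2, 29, true), (1, 39, true), (0, 48, true), (2, 38, true), (1, 47, true), (3, 34, true), (2, 48, true), (1, 49, true), (0, 7, true), (1, 47, true), (0, 6, true), (0, 46, true), (1, 45, true), (5, 27, true), (4, 36, true), (3, 41, true), (2, 47, true), (6, 2, true), (5, 39, true), (4, 44, true), (3, 48, true), (2, 49, true), (6, 38, true), (5, 43, true), (4, 45, true), (3, 50, true), (2, 52,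 true), (1, 8, true), (5, 36, true), (4, 41, true), (3, 47, true), (2, 6, true), (4, 35, true), (3, 44, true), (2, 48, true), (1, 7, true), (2, 43, true), (1, 45, true), (3, 42, true), (2, 46, true), (1, 54, true), (0, 9, true), (2, 41, true), (1, 47, true), (3, 40, true), (2, 47, true), (1, 6, true), (1, 45, true), (0, 8, true), (0, 5, true), (3, 34, true), (2, 44, true), (1, 51, true), (0, 54, true), (3, 43, true), (2, 6, true), (2, 42, true), (3, 41, true), (2, 52, true), (1, 8, true), (2, 4, true), (1, 53, true), (0, 9, true), (0, 7, true), (0, 3, true)]),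
    ([0, 1], [1, 0], [(6, 26, true), (5, 37, true), (4, 42, true), (3, 46, true), (2, 51, true), (1, 54, true), (0, 9, true), (5, 22, true), (4, 39, true), (3, 44, true), (2, 48, true), (1, 49, true), (5, 37, true), (4, 42, true), (3, 46, true), (2, 51, true), (1, 53, true), (0, 54, true), (6, 36, true), (5, 41, true), (4, 47, true), (3, 6, true), (5, 35, true), (4, 44, true), (3, 48, true), (2, 7, true), (3, 43, true), (2, 45, true), (1, 8, true), (2, 42, true), (1, 46, true), (0, 9, true), (1, 41, true), (0, 47, true), (2, 40, true), (1, 47, true), (0, 6, true), (0, 45, true), (1, 5, true), (0, 8, true), (2, 3, true), (2, 19, true), (1, 43, true), (0, 6, true), (3, 1, true), (2, 33, true), (1, 39, true), (0, 44, true), (2, 38, true), (1, 43, true), (3, 3, true), (3, 31, true), (2, 43, true), (1, 6, true), (1, 42, true), (1, 42, false), (1, 6, false), (2, 43, false), (3, 31, false), (3, 3, false), (1, 43, false), (2, 38, false), (0, 44, false), (1, 39, false), (2, 33, false), (3, 1, false), (0, 8, false), (1, 41, false), (1, 7, false), (2, 42, false), (2,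 6, false), (3, 43, false), (0, 9, false), (1, 54, false), (2, 53, false), (3, 51, false), (4, 44, false), (5, 32, false), (6, 20, false), (1, 52, false), (2, 5, false), (1, 8, false), (2, 52, false), (3, 45, false), (3, 6, false), (4, 47, false), (5, 40, false), (3, 47, false), (4, 41, false), (0, 54, false), (1, 53, false), (2, 46, false), (3, 42, false), (4, 28, false), (4, 3, false), (0, 9, false), (1, 54, false), (2, 53, false), (3, 46, false), (4, 42, false), (5, 37, false), (1, 52, false), (2, 45, false), (3, 43, false), (4, 38, false), (5, 31, false), (1, 8, false), (2, 52, false), (3, 45, false), (4, 43, false), (2, 48, false), (3, 44, false), (4, 33, false), (5, 21, false), (2, 6, false), (3, 47, false), (4, 41, false), (5, 27, false), (2, 47, false), (2, 7, false), (3, 48, false), (4, 29, false), (4, 3, false), (5, 30, false), (0, 54, false), (1, 53, false), (2, 46, false), (2, 6, false), (3, 47, false), (4, 31, false), (4, 3, false), (2, 47, false), (3, 38, false), (1, 48, false), (2, 39, false), (3, 33, false), (4, 22, false), (1, 6, false), (2,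 47, false), (1, 7, false), (2, 49, false), (3, 48, false), (4, 33, false), (5, 24, false), (6, 10, false), (4, 3, false), (0, 9, false), (1, 35, false), (0, 39, false), (1, 12, false), (0, 7, false), (1, 37, false), (0, 9, false), (1, 53, false), (2, 39, false), (3, 1, false), (1, 8, false), (2, 52, false), (3, 38, false), (4, 20, false), (0, 54, false), (1, 4, false), (0, 41, false), (0, 7, false), (1, 42, false), (1, 6, false), (2, 43, false), (0, 9, false), (1, 53, false), (2, 51, false), (3, 44, false), (4, 34, false), (1, 49, false), (2, 42, false), (3, 37, false), (0, 51, false), (1, 44, false), (2, 39, false), (3, 21, false), (0, 9, false), (1, 51, false), (2, 44, false), (3, 39, false), (4, 24, false), (3, 25, false), (1, 7, false), (2, 49, false), (3, 42, false), (4, 26, false), (5, 13, false), (4, 3, false), (1, 8, false), (0, 54, false), (1, 34, false), (1, 6, false), (0, 50, false), (1, 5, false), (0, 8, false), (1, 50, false), (2, 45, false), (0, 9, false), (1, 54, false), (2, 51, false), (3, 46, false), (2, 47, false), (2, 7, false), (3, 48, false),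 (4, 35, false), (1, 52, false), (2, 45, false), (3, 36, false), (2, 6, false), (3, 47, false), (4, 38, false), (1, 49, false), (2, 48, false), (3, 39, false), (4, 2, false), (0, 51, false), (1, 46, false), (0, 47, false), (1, 31, false), (2, 14, false), (1, 3, false), (0, 9, false), (1, 46, false), (2, 37, false), (1, 6, false), (2, 47, false), (3, 38, false), (4, 31, false), (1, 47, false), (1, 7, false), (2, 48, false), (3, 33, false), (4, 1, false), (3, 3, false), (2, 6, false), (3, 47, false), (4, 38, false), (5, 19, false), (2, 47, false), (3, 38, false), (4, 20, false), (0, 53, false), (1, 46, false), (0, 48, false), (1, 4, false), (0, 6, false), (1, 47, false), (2, 41, false), (0, 9, false), (1, 51, false), (2, 46, false), (3, 42, false), (1, 8, false), (2, 50, false), (3, 45, false), (4, 43, false), (2, 7, false), (3, 49, false), (4, 48, false), (5, 44, false), (6, 34, false), (0, 54, false), (1, 53, false), (2, 51, false), (3, 46, false), (4, 42, false), (5, 37, false), (1, 49, false), (2, 48, false), (3, 44, false), (4, 39, false), (5, 21, false),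 (1, 47, false), (2, 41, false), (0, 9, false), (1, 54, false), (2, 46, false), (3, 42, false), (1, 45, false), (2, 43, false), (1, 7, false), (2, 48, false), (3, 44, false), (4, 23, false), (1, 48, false), (2, 44, false), (3, 24, false), (0, 46, false), (1, 42, false), (2, 26, false), (3, 15, false), (2, 3, false), (0, 8, false), (1, 45, false), (0, 9, false), (1, 54, false), (2, 46, false), (2, 6, false), (3, 47, false), (2, 7, false), (3, 49, false), (4, 48, false), (5, 34, false), (0, 35, false), (0, 6, false), (1, 36, false), (0, 8, false), (1, 50, false), (2, 38, false), (0, 9, false), (1, 54, false), (2, 51, false), (3, 39, false), (4, 2, false), (2, 7, false), (3, 49, false), (0, 54, false), (1, 53, false), (2, 51, false), (3, 4, false), (0, 52, false), (1, 50, false), (2, 41, false), (0, 49, false), (1, 42, false), (0, 43, false), (0, 9, false), (1, 44, false), (2, 34, false), (1, 6, false), (2, 43, false), (3, 38, false), (0, 51, false), (1, 44, false), (2, 39, false), (3, 29, false), (2, 30, false), (2, 3, false), (0, 43, false), (1, 38, false), (0,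 9, false), (1, 44, false), (2, 39, false), (3, 33, false), (4, 17, false), (1, 7, false), (2, 42, false), (2, 6, false), (3, 43, false), (4, 31, false), (4, 3, false), (2, 43, false), (3, 38, false), (0, 53, false), (1, 44, false), (2, 39, false), (3, 33, false), (4, 1, false), (1, 6, false), (0, 8, false), (1, 52, false), (2, 50, false), (3, 5, false), (0, 52, false), (1, 50, false), (2, 45, false), (1, 47, false), (2, 40, false), (1, 6, false), (2, 47, false), (3, 41, false), (0, 9, false), (1, 53, false), (2, 51, false), (3, 46, false), (4, 42, false), (1, 8, false), (2, 52, false), (3, 50, false), (4, 45, false), (5, 43, false), (2, 49, false), (3, 48, false), (4, 44, false), (5, 35, false), (2, 47, false), (3, 41, false), (4, 36, false), (0, 54, false), (1, 46, false), (2, 42, false), (3, 37, false), (4, 28, false), (0, 9, false), (1, 54, false), (2, 46, false), (3, 42, false), (1, 45, false), (2, 43, false), (3, 31, false), (3, 3, false), (1, 8, false), (2, 45, false), (3, 43, false), (4, 38, false), (2, 7, false), (3, 48, false), (4, 44, false), (5,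 39, false), (6, 33, false), (7, 21, false), (3, 6, false), (4, 47, false), (5, 41, false), (6, 36, false), (7, 27, false), (1, 52, false), (2, 50, false), (3, 45, false), (0, 53, false), (1, 51, false), (2, 46, false), (1, 47, false), (0, 48, false), (1, 34, false), (0, 6, false), (1, 47, false), (2, 38, false), (0, 7, false), (1, 49, false), (2, 48, false), (3, 39, false), (4, 29, false), (3, 30, false), (3, 3, false), (0, 9, false), (1, 53, false), (2, 51, false), (3, 46, false), (4, 37, false), (2, 47, false), (3, 38, false), (4, 31, false), (2, 6, false), (3, 47, false), (1, 49, false), (2, 48, false), (3, 33, false), (4, 22, false), (1, 8, false), (2, 50, false), (3, 45, false), (4, 27, false), (4, 3, false), (5, 30, false), (0, 54, false), (1, 51, false), (2, 46, false), (1, 47, false), (2, 31, false), (2, 3, false), (0, 45, false), (1, 36, false), (0, 9, false), (1, 46, false), (2, 37, false), (1, 6, false), (2, 47, false), (3, 38, false), (1, 7, false), (2, 49, false), (3, 48, false), (4, 39, false), (5, 32, false), (2, 47, false), (1, 48, false), (2,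 33, false), (3, 23, false), (4, 18, false)], [(5, 26, true), (4, 31, true), (3, 43, true), (4, 42, true), (3, 49, true), (2, 7, true), (6, 24, true), (5, 33, true), (4, 39, true), (3, 44, true), (2, 51, true), (1, 54, true), (0, 9, true), (3, 38, true), (2, 43, true), (1, 6, true), (2, 3, true), (3, 23, true), (2, 33, true), (1, 44, true), (0, 54, true), (2, 43, true), (5, 32, true), (4, 39, true), (3, 44, true), (2, 51, true), (1, 54, true), (0, 9, true), (3, 38, true), (2, 43, true), (1, 6, true), (2, 37, true), (1, 42, true), (3, 36, true), (2, 41, true), (1, 52, true), (0, 8, true), (2, 3, true), (2, 31, true), (1, 43, true), (2, 42, true), (1, 49, true), (0, 7, true), (3, 30, true), (2, 3, true), (2, 27, true), (1, 41, true), (0, 50, true), (4, 20, true), (3, 32, true), (2, 44, true), (1, 51, true), (0, 54, true), (3, 43, true), (2, 6, true), (2, 42, true), (3, 41, true), (2, 52, true), (1, 8, true), (5, 1, true), (4, 33, true), (3, 39, true), (2, 44, true), (1, 53, true), (0, 9, true), (2, 38, true), (1, 43, true), (3, 3, true), (3, 31, true), (2, 43,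 true), (1, 6, true), (1, 42, true), (0, 7, true), (0, 7, false), (1, 42, false), (1, 6, false), (2, 43, false), (3, 31, false), (3, 3, false), (1, 43, false), (2, 38, false), (0, 9, false), (1, 53, false), (2, 44, false), (3, 39, false), (4, 33, false), (5, 1, false), (2, 6, false), (3, 43, false), (4, 19, false), (1, 49, false), (0, 51, false), (1, 21, false), (0, 9, false), (1, 51, false), (2, 24, false), (2, 3, false), (3, 25, false), (1, 7, false), (2, 49, false), (3, 37, false), (4, 26, false)])]

/-- A conjugation. -/
def twoHeFus6 : Schur.Tails.Fus where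
  xs := [[7, 4, 0]]
  ys := [[6, 5, 2]]
  rels := [
    ([0, 0], [], [(2, 16, true), (1, 44, true), (0, 53, true), (2, 42, true), (1, 7, true), (1, 41, true), (2, 40, true), (1, 8, true), (3, 4, true), (2, 48, true), (1, 49, true), (3, 46, true), (2, 51, true), (1, 53, true), (0, 9, true), (4, 13, true), (3, 26, true), (2, 46, true), (1, 51, true), (0, 53, true), (4, 25, true), (5, 24, true), (4, 39, true), (3, 48, true), (2, 49, true), (1, 7, true), (4, 21, true), (3, 39, true), (2, 48, true), (1, 49, true), (4, 37, true), (3, 46, true), (2, 51, true), (1, 53, true), (0, 9, true), (3, 34, true), (2, 48, true), (1, 49, true), (0, 7, true), (1, 47, true), (0, 6, true), (0, 46, true), (1, 45, true), (5, 20, true), (4, 38, true), (3, 43, true), (2, 45, true), (1, 8, true), (4, 1, true), (3, 39, true), (2, 44, true), (1, 48, true), (4, 37, true), (3, 42, true), (2, 46, true), (1, 53, true), (0, 9, true), (4, 0, true), (3, 37, true), (2, 42, true), (1, 46, true), (0, 53, true), (4, 35, true), (3, 44, true), (2, 48, true), (1, 7, true), (2, 43, true), (1, 45, true),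 (3, 42, true), (2, 46, true), (1, 54, true), (0, 9, true), (2, 41, true), (1, 47, true), (3, 40, true), (2, 47, true), (1, 6, true), (1, 45, true), (0, 8, true), (0, 5, true), (3, 34, true), (2, 44, true), (1, 51, true), (0, 54, true), (3, 43, true), (2, 6, true), (2, 42, true), (3, 41, true), (2, 52, true), (1, 8, true), (2, 4, true), (1, 53, true), (0, 9, true), (0, 7, true), (0, 3, true)], [(2, 30, true), (3, 29, true), (2, 39, true), (1, 48, true), (0, 49, true), (3, 38, true), (2, 47, true), (1, 6, true), (2, 34, true), (1, 48, true), (0, 7, true), (0, 47, true), (1, 46, true), (0, 51, true), (2, 45, true), (1, 50, true), (6, 2, true), (5, 39, true), (4, 44, true), (3, 48, true), (2, 49, true), (6, 38, true), (5, 43, true), (4, 45, true), (3, 50, true), (2, 52, true), (1, 8, true), (5, 36, true), (4, 41, true), (3, 47, true), (2, 6, true), (4, 35, true), (3, 44, true), (2, 48, true), (1, 7, true), (2, 43, true), (1, 45, true), (3, 42, true), (2, 46, true), (1, 54, true), (0, 9, true), (2, 41, true), (1, 47, true), (3, 40, true), (2, 47, true), (1, 6, true),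 (1, 45, true), (0, 8, true), (0, 5, true), (3, 34, true), (2, 44, true), (1, 51, true), (0, 54, true), (3, 43, true), (2, 6, true), (2, 42, true), (3, 41, true), (2, 52, true), (1, 8, true), (2, 4, true), (1, 53, true), (0, 9, true), (0, 7, true), (0, 3, true)])]

/-- The certificate. -/
def twoHeCert : Schur.Tails.Cert where
  p := 2
  q := 2
  n := 10
  rels := [
    ([0, 0], [7, 5, 4, 3]),
    ([1, 1], [9, 7]),
    ([2, 2], [9, 8, 6, 5, 4, 3]),
    ([3, 3], []),
    ([4, 4], [9, 7]),
    ([5, 5], [8, 6]),
    ([6, 6], []),
    ([7, 7], []),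
    ([8, 8], []),
    ([9, 9], []),
    ([0, 1], [7, 5, 4, 3, 1, 0]),
    ([0, 2], [9, 8, 6, 5, 0]),
    ([0, 3], [9, 5, 3, 2, 1, 0]),
    ([0, 4], [9, 8, 7, 4, 3, 1, 0]),
    ([0, 5], [7, 2, 1, 0]),
    ([0, 6], [9, 7, 6, 4, 3, 2, 1, 0]),
    ([0, 7], [9, 7, 6, 5, 4, 1, 0]),
    ([0, 8], [9, 6, 5, 2, 1, 0]),
    ([0, 9], [6, 5, 4, 1, 0]),
    ([1, 2], [8, 3, 2, 1]),
    ([1, 3], [8, 1]),
    ([1, 4], [9, 7, 4, 1]),
    ([1, 5], [9, 7, 6, 5, 3, 1]),
    ([1, 6], [9, 8, 7, 6, 3, 1]),
    ([1, 7], [9, 1]),
    ([1, 8], [3, 1]),
    ([1, 9], [7, 1]),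
    ([2, 3], [6, 2]),
    ([2, 4], [7, 6, 5, 2]),
    ([2, 5], [9, 8, 4, 2]),
    ([2, 6], [3, 2]),
    ([2, 7], [8, 7, 3, 2]),
    ([2, 8], [9, 8, 7, 6, 3, 2]),
    ([2, 9], [9, 8, 3, 2]),
    ([3, 4], [9, 8, 7, 6, 4, 3]),
    ([3, 5], [9, 8, 7, 6, 5, 3]),
    ([3, 6], [6, 3]),
    ([3, 7], [7, 3]),
    ([3, 8], [8, 3]),
    ([3, 9], [9, 3]),
    ([4, 5], [8, 6, 5, 4]),
    ([4, 6], [8, 4]),
    ([4, 7], [7, 4]),
    ([4, 8], [6, 4]),
    ([4, 9], [9, 4]),
    ([5, 6], [8, 5]),
    ([5, 7], [9, 5]),
    ([5, 8], [6, 5]),
    ([5, 9], [7, 5]),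
    ([6, 7], [7, 6]),
    ([6, 8], [8, 6]),
    ([6, 9], [9, 6]),
    ([7, 8], [8, 7]),
    ([7, 9], [9, 7]),
    ([8, 9], [9, 8])]
  overlaps := twoHeOverlaps
  fus := [twoHeFus0, twoHeFus1, twoHeFus2, twoHeFus3, twoHeFus4, twoHeFus5, twoHeFus6]
  mu := [[], [1, 1, 1, 0, 0, 0, 0, 0, 0, 0, 0, 1, 1], [1, 0, 0, 0, 0, 0, 0, 0, 0, 0, 0, 0, 1, 1], [1, 0, 1, 0, 0, 0, 0, 0, 0, 0, 0, 1, 1, 1], [], [0, 1, 1, 0, 0, 0, 0, 0, 0, 0, 0, 1, 1, 1], [1, 1, 1], [0, 1], [], []]
  combos := [
    ([], 0),
    ([], 0),
    ([], 0),
    ([(0, 1), (1, 1), (3, 1), (4, 1), (5, 1), (7, 1), (10, 1), (11, 1), (13, 1), (14, 1), (16, 1), (17, 1), (21, 1), (22, 1), (23, 1), (24, 1), (28, 1), (30, 1), (33, 1), (34, 1), (35, 1), (36, 1), (37, 1), (38, 1), (41, 1), (44, 1), (46, 1), (47, 1)], 0),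
    ([(0, 1), (3, 1), (7, 1), (8, 1), (10, 1), (11, 1), (12, 1), (18, 1), (21, 1), (22, 1), (23, 1), (25, 1), (27, 1), (28, 1), (29, 1), (30, 1), (32, 1), (35, 1), (36, 1), (40, 1), (41, 1), (44, 1), (46, 1), (47, 1)], 0),
    ([(0, 1), (4, 1), (7, 1), (8, 1), (9, 1), (12, 1), (14, 1), (15, 1), (17, 1), (18, 1), (19, 1), (20, 1), (21, 1), (22, 1), (23, 1), (24, 1), (26, 1), (28, 1), (29, 1), (31, 1), (32, 1), (33, 1), (35, 1), (37, 1), (38, 1), (39, 1), (40, 1), (43, 1), (45, 1), (46, 1), (47, 1), (48, 1)], 0),
    ([(0, 1), (5, 1), (6, 1), (7, 1), (9, 1), (11, 1), (13, 1), (14, 1), (15, 1), (16, 1), (18, 1), (20, 1), (21, 1), (24, 1), (26, 1), (27, 1), (29, 1), (30, 1), (31, 1), (35, 1), (36, 1), (37, 1), (38, 1), (41, 1), (44, 1), (46, 1), (47, 1)], 0),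
    ([(1, 1), (4, 1), (5, 1), (6, 1), (7, 1), (10, 1), (11, 1), (12, 1), (13, 1), (14, 1), (16, 1), (17, 1), (18, 1), (19, 1), (21, 1), (23, 1), (26, 1), (27, 1), (28, 1), (30, 1), (32, 1), (34, 1), (35, 1), (36, 1), (37, 1), (41, 1), (42, 1), (44, 1), (46, 1), (47, 1)], 0),
    ([(0, 1), (1, 1), (2, 1), (4, 1), (5, 1), (7, 1), (9, 1), (15, 1), (17, 1), (19, 1), (21, 1), (22, 1), (23, 1), (30, 1), (32, 1), (33, 1), (35, 1), (36, 1), (37, 1), (38, 1), (41, 1), (44, 1), (46, 1), (47, 1)], 0),
    ([(1, 1), (4, 1), (6, 1), (10, 1), (11, 1), (12, 1), (13, 1), (14, 1), (16, 1), (17, 1), (19, 1), (20, 1), (21, 1), (23, 1), (26, 1), (27, 1), (28, 1), (34, 1), (35, 1), (36, 1), (37, 1), (41, 1), (42, 1), (44, 1), (46, 1), (47, 1)], 0),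
    ([(0, 1), (3, 1), (4, 1), (5, 1), (6, 1), (7, 1), (9, 1), (11, 1), (12, 1), (13, 1), (16, 1), (17, 1), (18, 1), (21, 1), (25, 1), (26, 1), (29, 1), (31, 1), (32, 1), (36, 1), (37, 1), (40, 1), (45, 1), (47, 1)], 0),
    ([], 0),
    ([], 0),
    ([], 0),
    ([(0, 1), (2, 1), (3, 1), (4, 1), (5, 1), (7, 1), (8, 1), (9, 1), (11, 1), (13, 1), (14, 1), (16, 1), (17, 1), (18, 1), (22, 1), (26, 1), (31, 1), (33, 1), (36, 1), (37, 1), (38, 1), (39, 1), (40, 1), (41, 1), (43, 1), (44, 1), (45, 1)], 0),
    ([(2, 1), (4, 1), (5, 1), (6, 1), (8, 1), (9, 1), (11, 1), (12, 1), (13, 1), (15, 1), (17, 1), (18, 1), (19, 1), (22, 1), (23, 1), (24, 1), (25, 1), (26, 1), (28, 1), (33, 1), (35, 1), (37, 1), (38, 1), (42, 1), (45, 1), (47, 1)], 0),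
    ([(2, 1), (4, 1), (5, 1), (7, 1), (9, 1), (15, 1), (16, 1), (17, 1), (18, 1), (19, 1), (20, 1), (23, 1), (25, 1), (28, 1), (30, 1), (32, 1), (35, 1), (37, 1), (38, 1), (39, 1), (40, 1), (43, 1), (45, 1), (46, 1), (47, 1)], 0),
    ([(2, 1), (3, 1), (4, 1), (9, 1), (10, 1), (13, 1), (15, 1), (17, 1), (19, 1), (20, 1), (26, 1), (27, 1), (28, 1), (30, 1), (32, 1), (33, 1), (36, 1), (37, 1), (38, 1), (39, 1), (40, 1), (41, 1), (43, 1), (45, 1), (46, 1), (48, 1)], 0),
    ([(1, 1), (7, 1), (8, 1), (9, 1), (10, 1), (12, 1), (13, 1), (19, 1), (21, 1), (24, 1), (26, 1), (27, 1), (30, 1), (31, 1), (36, 1), (38, 1), (39, 1), (40, 1), (41, 1), (42, 1), (43, 1), (44, 1), (45, 1)], 0),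
    ([(0, 1), (1, 1), (2, 1), (7, 1), (8, 1), (14, 1), (16, 1), (17, 1), (19, 1), (20, 1), (21, 1), (24, 1), (26, 1), (30, 1), (31, 1), (33, 1), (38, 1), (39, 1), (40, 1), (41, 1), (43, 1), (45, 1), (46, 1), (47, 1), (48, 1)], 0),
    ([(0, 1), (1, 1), (4, 1), (5, 1), (6, 1), (9, 1), (13, 1), (15, 1), (16, 1), (17, 1), (18, 1), (21, 1), (22, 1), (24, 1), (27, 1), (30, 1), (31, 1), (35, 1), (36, 1), (41, 1), (43, 1), (45, 1), (46, 1), (48, 1)], 0),
    ([(0, 1), (1, 1), (5, 1), (9, 1), (10, 1), (13, 1), (14, 1), (16, 1), (18, 1), (19, 1), (20, 1), (21, 1), (22, 1), (23, 1), (24, 1), (25, 1), (30, 1), (31, 1), (33, 1), (34, 1)], 0),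
    ([(0, 1), (2, 1), (3, 1), (4, 1), (6, 1), (7, 1), (8, 1), (10, 1), (12, 1), (13, 1), (18, 1), (26, 1), (27, 1), (28, 1), (31, 1), (35, 1), (39, 1), (40, 1), (41, 1), (44, 1), (46, 1)], 0),
    ([(3, 1), (7, 1), (8, 1), (9, 1), (12, 1), (13, 1), (14, 1), (15, 1), (27, 1), (30, 1), (31, 1), (33, 1), (35, 1), (36, 1), (39, 1), (40, 1), (41, 1), (42, 1), (44, 1), (45, 1), (46, 1)], 0),
    ([(0, 1), (1, 1), (3, 1), (4, 1), (5, 1), (6, 1), (8, 1), (9, 1), (10, 1), (12, 1), (13, 1), (16, 1), (19, 1), (20, 1), (21, 1), (23, 1), (24, 1), (25, 1), (28, 1), (30, 1), (34, 1), (37, 1), (42, 1)], 0),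
    ([(2, 1), (5, 1), (6, 1), (7, 1), (10, 1), (12, 1), (14, 1), (15, 1), (16, 1), (17, 1), (19, 1), (20, 1), (21, 1), (23, 1), (25, 1), (30, 1), (31, 1), (32, 1), (33, 1), (35, 1), (36, 1), (41, 1), (43, 1), (45, 1), (46, 1), (48, 1)], 0),
    ([(1, 1), (2, 1), (3, 1), (5, 1), (16, 1), (17, 1), (18, 1), (19, 1), (20, 1), (24, 1), (25, 1), (28, 1), (32, 1), (33, 1), (37, 1), (42, 1)], 0),
    ([(3, 1), (4, 1), (7, 1), (8, 1), (10, 1), (15, 1), (16, 1), (18, 1), (19, 1), (20, 1), (21, 1), (22, 1), (24, 1), (26, 1), (27, 1), (28, 1), (29, 1), (30, 1), (32, 1), (33, 1), (34, 1), (35, 1), (39, 1), (41, 1), (42, 1), (43, 1), (44, 1), (46, 1), (48, 1)], 0),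
    ([(2, 1), (10, 1), (14, 1), (17, 1), (18, 1), (21, 1), (23, 1), (24, 1), (25, 1), (26, 1), (29, 1), (30, 1), (31, 1), (34, 1), (35, 1), (36, 1), (38, 1), (39, 1), (40, 1), (45, 1)], 0),
    ([(0, 1), (1, 1), (3, 1), (5, 1), (8, 1), (9, 1), (10, 1), (13, 1), (14, 1), (16, 1), (17, 1), (18, 1), (19, 1), (21, 1), (26, 1), (29, 1), (30, 1), (36, 1), (37, 1), (40, 1), (41, 1), (44, 1), (47, 1)], 0),
    ([(1, 1), (2, 1), (3, 1), (5, 1), (8, 1), (9, 1), (10, 1), (11, 1), (12, 1), (13, 1), (16, 1), (20, 1), (22, 1), (23, 1), (25, 1), (27, 1), (32, 1), (34, 1), (36, 1), (37, 1), (40, 1), (42, 1), (43, 1), (47, 1), (48, 1)], 0),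
    ([(4, 1), (8, 1), (9, 1), (10, 1), (11, 1), (12, 1), (13, 1), (14, 1), (15, 1), (20, 1), (23, 1), (29, 1), (30, 1), (31, 1), (32, 1), (34, 1), (37, 1), (38, 1), (39, 1), (42, 1), (43, 1), (45, 1), (46, 1), (47, 1), (48, 1)], 0),
    ([(1, 1), (4, 1), (5, 1), (7, 1), (8, 1), (9, 1), (12, 1), (13, 1), (15, 1), (16, 1), (17, 1), (18, 1), (20, 1), (22, 1), (24, 1), (25, 1), (26, 1), (28, 1), (29, 1), (30, 1), (31, 1), (32, 1), (33, 1), (34, 1), (35, 1), (40, 1), (41, 1), (46, 1)], 0),
    ([(0, 1), (2, 1), (3, 1), (5, 1), (6, 1), (7, 1), (11, 1), (12, 1), (13, 1), (19, 1), (20, 1), (22, 1), (23, 1), (25, 1), (27, 1), (28, 1), (30, 1), (32, 1), (34, 1), (37, 1), (44, 1), (45, 1), (46, 1), (47, 1)], 0),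
    ([(1, 1), (4, 1), (5, 1), (11, 1), (12, 1), (18, 1), (26, 1), (27, 1), (30, 1), (36, 1), (37, 1), (43, 1), (44, 1), (45, 1), (48, 1)], 0),
    ([(0, 1), (1, 1), (4, 1), (7, 1), (10, 1), (12, 1), (13, 1), (15, 1), (17, 1), (21, 1), (22, 1), (25, 1), (30, 1), (31, 1), (32, 1), (34, 1), (35, 1), (38, 1), (40, 1), (41, 1), (42, 1), (44, 1), (45, 1), (46, 1), (47, 1)], 0),
    ([(2, 1), (3, 1), (7, 1), (8, 1), (10, 1), (14, 1), (16, 1), (19, 1), (21, 1), (22, 1), (24, 1), (27, 1), (29, 1), (33, 1), (35, 1), (36, 1), (41, 1), (44, 1), (46, 1), (47, 1)], 0),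
    ([(1, 1), (4, 1), (5, 1), (6, 1), (7, 1), (9, 1), (10, 1), (11, 1), (12, 1), (13, 1), (17, 1), (18, 1), (19, 1), (20, 1), (22, 1), (23, 1), (27, 1), (29, 1), (30, 1), (31, 1), (38, 1), (39, 1), (42, 1), (43, 1), (44, 1), (48, 1)], 0),
    ([(0, 1), (1, 1), (3, 1), (4, 1), (6, 1), (9, 1), (10, 1), (13, 1), (17, 1), (20, 1), (21, 1), (23, 1), (25, 1), (26, 1), (27, 1), (28, 1), (29, 1), (30, 1), (31, 1), (33, 1), (34, 1)], 0),
    ([(1, 1), (2, 1), (5, 1), (11, 1), (13, 1), (14, 1), (16, 1), (18, 1), (21, 1), (22, 1), (27, 1), (28, 1), (30, 1), (33, 1), (38, 1), (39, 1), (42, 1), (43, 1), (44, 1), (48, 1)], 0),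
    ([(4, 1), (5, 1), (6, 1), (8, 1), (10, 1), (11, 1), (12, 1), (13, 1), (14, 1), (15, 1), (16, 1), (18, 1), (19, 1), (23, 1), (24, 1), (29, 1), (30, 1), (31, 1), (34, 1), (35, 1), (37, 1), (38, 1), (39, 1), (44, 1), (45, 1), (46, 1), (47, 1)], 0),
    ([(0, 1), (4, 1), (7, 1), (9, 1), (14, 1), (16, 1), (17, 1), (18, 1), (22, 1), (23, 1), (27, 1), (28, 1), (29, 1), (33, 1), (35, 1), (37, 1), (39, 1), (40, 1), (41, 1), (42, 1), (44, 1), (45, 1), (46, 1), (47, 1)], 0),
    ([(3, 1), (4, 1), (12, 1), (14, 1), (17, 1), (22, 1), (23, 1), (25, 1), (32, 1), (37, 1), (40, 1), (41, 1), (42, 1)], 0),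
    ([(0, 1), (1, 1), (4, 1), (8, 1), (9, 1), (14, 1), (16, 1), (17, 1), (19, 1), (20, 1), (22, 1), (26, 1), (28, 1), (29, 1), (31, 1), (33, 1), (35, 1), (37, 1), (39, 1), (40, 1), (41, 1), (42, 1), (44, 1), (45, 1), (46, 1), (47, 1)], 0),
    ([(2, 1), (4, 1), (5, 1), (8, 1), (9, 1), (10, 1), (12, 1), (13, 1), (18, 1), (20, 1), (22, 1), (23, 1), (24, 1), (26, 1), (29, 1), (37, 1), (40, 1), (41, 1), (42, 1)], 0),
    ([(0, 1), (1, 1), (3, 1), (6, 1), (8, 1), (9, 1), (12, 1), (13, 1), (15, 1), (17, 1), (19, 1), (21, 1), (22, 1), (23, 1), (24, 1), (25, 1), (27, 1), (32, 1), (33, 1), (34, 1), (35, 1), (38, 1), (39, 1), (41, 1), (43, 1), (45, 1), (46, 1), (47, 1), (48, 1)], 0),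
    ([(0, 1), (4, 1), (5, 1), (6, 1), (8, 1), (10, 1), (12, 1), (15, 1), (16, 1), (17, 1), (20, 1), (21, 1), (23, 1), (25, 1), (26, 1), (28, 1), (29, 1), (30, 1), (32, 1), (35, 1), (36, 1), (37, 1), (38, 1), (39, 1), (42, 1), (43, 1), (46, 1), (47, 1), (48, 1)], 0),
    ([(0, 1), (1, 1), (4, 1), (6, 1), (8, 1), (12, 1), (13, 1), (14, 1), (15, 1), (18, 1), (21, 1), (22, 1), (23, 1), (24, 1), (27, 1), (29, 1), (30, 1), (31, 1), (32, 1), (34, 1), (36, 1), (38, 1), (39, 1), (43, 1), (44, 1), (45, 1), (48, 1)], 0),
    ([(0, 1), (3, 1), (7, 1), (10, 1), (13, 1), (15, 1), (17, 1), (19, 1), (24, 1), (29, 1), (31, 1), (32, 1), (33, 1), (35, 1), (36, 1), (37, 1), (38, 1), (39, 1), (42, 1), (43, 1), (46, 1), (47, 1), (48, 1)], 0),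
    ([(1, 1), (4, 1), (5, 1), (6, 1), (12, 1), (15, 1), (16, 1), (18, 1), (20, 1), (25, 1), (26, 1), (28, 1), (29, 1), (31, 1), (34, 1), (38, 1), (39, 1), (42, 1), (43, 1), (44, 1), (48, 1)], 0),
    ([(0, 1), (2, 1), (3, 1), (4, 1), (6, 1), (8, 1), (10, 1), (11, 1), (12, 1), (15, 1), (16, 1), (20, 1), (23, 1), (24, 1), (25, 1), (26, 1), (27, 1), (28, 1), (31, 1), (34, 1), (35, 1), (36, 1), (41, 1), (44, 1), (46, 1), (47, 1)], 0),
    ([(4, 1), (6, 1), (8, 1), (12, 1), (18, 1), (22, 1), (23, 1), (25, 1), (26, 1), (27, 1), (28, 1), (29, 1), (30, 1), (31, 1), (34, 1), (38, 1), (39, 1), (42, 1), (43, 1), (44, 1), (48, 1)], 0),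
    ([(0, 1), (1, 1), (4, 1), (5, 1), (6, 1), (7, 1), (9, 1), (10, 1), (11, 1), (14, 1), (15, 1), (17, 1), (18, 1), (19, 1), (21, 1), (27, 1), (29, 1), (31, 1), (33, 1), (38, 1), (39, 1), (42, 1), (43, 1), (44, 1), (48, 1)], 0),
    ([(0, 1), (2, 1), (4, 1), (6, 1), (11, 1), (15, 1), (16, 1), (17, 1), (20, 1), (23, 1), (24, 1), (25, 1), (26, 1), (27, 1), (28, 1), (29, 1), (30, 1), (32, 1), (33, 1), (34, 1)], 0),
    ([(0, 1), (1, 1), (2, 1), (5, 1), (8, 1), (9, 1), (10, 1), (13, 1), (21, 1), (24, 1), (26, 1), (29, 1), (38, 1), (39, 1), (42, 1), (43, 1), (44, 1), (48, 1)], 0)]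
  tau := []
  tauCombo := []

/-- The words of the generators. -/
def twoHeGens : List (List ℕ) := [
  [1, 5, 6, 3, 2, 3, 2, 1, 4, 5, 3, 2, 4, 3, 6, 5, 3, 1, 2, 3, 0, 1, 2, 3, 1, 2, 0],
  [3, 5, 3, 6, 3, 2, 1, 3, 2, 3, 2, 6, 3, 5, 6, 3, 4, 1, 2, 3, 2, 3, 5, 6, 0, 1],
  [1, 2, 1, 5, 3, 2, 1, 4, 3, 2, 5, 3, 2, 3, 5, 3, 6, 1, 2, 3, 5, 4, 2, 3, 2, 3, 1],
  [3, 2, 3, 2, 5, 3, 2, 1, 3, 2, 6, 3, 2, 4, 3, 6, 5, 3, 2, 3, 1, 2, 3, 5, 1, 2, 3, 2, 3],
  [2, 3, 2, 4, 3, 2, 1, 0, 6, 3, 2, 3, 2, 5, 3, 1, 2, 3, 6, 2, 3, 5, 6, 0, 1, 2],
  [1, 2, 4, 3, 2, 1, 3, 6, 3, 2, 1, 3, 2, 3, 5, 3, 4, 1, 2, 3, 6, 2, 3, 5, 6, 0, 1, 2],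
  [1, 2, 3, 6, 5, 3, 2, 1, 3, 2, 3, 4, 5, 3, 4, 2, 3, 1, 2, 3, 1, 2, 3, 5, 6, 1, 2, 0],
  [0, 3, 5, 6, 3, 2, 1, 4, 3, 2, 1, 5, 3, 2, 3, 5, 1, 2, 3, 4, 1, 2, 3, 6, 5, 3, 0],
  [3, 6, 3, 2, 5, 3, 2, 1, 3, 2, 1, 4, 3, 2, 5, 3, 4, 1, 2, 3, 1, 2, 3, 5, 2, 3, 6, 3],
  [4, 3, 2, 1, 3, 5, 3, 2, 4, 3, 2, 1, 3, 2, 5, 3, 6, 1, 2, 3, 2, 3, 4, 2]]

/-- The words of the conjugating elements. -/
def twoHeHs : List (List ℕ) := [
  [3, 4, 5, 3, 2, 1, 3, 6, 3, 2, 4, 3, 2, 5, 3, 6, 5, 1, 2, 3, 2, 3, 0, 1, 2, 3, 6, 2],
  [4, 3, 6, 3, 2, 1, 3, 2, 6, 3, 5, 6, 3, 2, 3, 5, 3, 1, 2, 3, 6, 0, 1],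
  [0, 1, 4, 3, 6, 5, 3, 2, 1, 3, 2, 6, 3, 2, 4, 3, 5, 1, 2, 3, 6, 2, 3],
  [2, 4, 6, 3, 2, 3, 4, 5, 3, 2, 1, 3, 2, 3, 5, 4, 2, 3, 2, 3, 1, 2, 3, 6, 2, 3, 5, 6, 2],
  [1, 2, 4, 3, 2, 1, 3, 5, 3, 2, 3, 2, 1, 3, 4, 2, 3, 5, 6, 3, 2, 3, 1, 2],
  [6, 3, 2, 1, 4, 3, 2, 1, 3, 4, 6, 3, 2, 5, 3, 2, 3, 4, 3, 1, 2, 3, 6, 2, 3, 4, 2, 1],
  [0, 1, 2, 1, 6, 3, 2, 1, 0, 3, 2, 3, 6, 5, 3, 1, 2, 3, 5, 4, 1, 2, 3, 2, 3, 6, 5, 0]]

/-- Orbits giving the order. -/
def twoHeOrb : List (ℕ × List (List ℕ)) := [
  (681, [[], [9]]),
  (474, [[], [0, 5], [0, 8, 9], [0, 5, 6], [8], [6, 8], [6], [0, 9]]),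
  (1209, [[], [4]]),
  (72, [[], [2, 4], [1], [2, 3, 4, 6]]),
  (714, [[], [4, 5, 8, 9]]),
  (1437, [[1, 3, 8], []]),
  (0, [[], [7, 9]])]

end CfsgLib.TailsData
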