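import Cfsg.Agent.Lib.Tails.Words
import Cfsg.Agent.Lib.Tails.TwoHeData
import Cfsg.Agent.Lib.Tails.ThreeHeData
import Cfsg.Agent.Lib.Tails.FiveHeData
import Cfsg.Agent.Lib.Tails.SevenHeData
import Cfsg.Agent.Lib.He.PermData

/-!
# The checks of the certificates for He
-/

set_option autoImplicit false
set_option maxRecDepth 100000

namespace CfsgLib.Schur.Tails.He

open CfsgLib.TailsData

/-- The base. -/
def base : List ℕ := [0] ++ CfsgLib.He.levels.map PresCert.Level.base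

theorem two_rels : Words.relsT CfsgLib.He.tab base twoHeGens twoHeCert twoHeHs = true := by
  decide +kernel

theorem two_many : Words.orbB CfsgLib.He.tab twoHeGens [] twoHeOrb = true := by
  decide +kernel

theorem odd_checks : (threeHeCert.checkB = true ∧ fiveHeCert.checkB = true ∧ sevenHeCert.checkB = true) ∧
    (Words.relsT CfsgLib.He.tab base threeHeGens threeHeCert threeHeHs = true ∧
      Words.relsT CfsgLib.He.tab base fiveHeGens fiveHeCert fiveHeHs = true ∧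
      Words.relsT CfsgLib.He.tab base sevenHeGens sevenHeCert sevenHeHs = true) ∧
    (Words.orbB CfsgLib.He.tab threeHeGens [] threeHeOrb = true ∧
      Words.orbB CfsgLib.He.tab fiveHeGens [] fiveHeOrb = true ∧
      Words.orbB CfsgLib.He.tab sevenHeGens [] sevenHeOrb = true) := by
  refine ⟨⟨?_, ?_, ?_⟩, ⟨?_, ?_, ?_⟩, ?_, ?_, ?_⟩ <;> decide +kernel

theorem size_facts :
    (twoHeCert.p = 2 ∧ twoHeCert.q = 2 ∧ twoHeCert.tau = [] ∧ twoHeCert.n = 10 ∧ (twoHeOrb.map fun l => l.2.length).prod = 1024) ∧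
    (threeHeCert.p = 3 ∧ threeHeCert.q = 3 ∧ threeHeCert.tau = [] ∧ threeHeCert.n = 3 ∧ (threeHeOrb.map fun l => l.2.length).prod = 27) ∧
    (fiveHeCert.p = 5 ∧ fiveHeCert.q = 5 ∧ fiveHeCert.tau = [] ∧ fiveHeCert.n = 2 ∧ (fiveHeOrb.map fun l => l.2.length).prod = 25) ∧
    (sevenHeCert.p = 7 ∧ sevenHeCert.q = 7 ∧ sevenHeCert.tau = [] ∧ sevenHeCert.n = 3 ∧ (sevenHeOrb.map fun l => l.2.length).prod = 343) := by
  refine ⟨⟨?_, ?_, ?_, ?_, ?_⟩, ⟨?_, ?_, ?_, ?_, ?_⟩, ⟨?_, ?_, ?_, ?_, ?_⟩, ?_, ?_, ?_, ?_, ?_⟩ <;> decide +kernel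

end CfsgLib.Schur.Tails.He
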