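import Cfsg.Agent.Lib.Tails.Words
import Cfsg.Agent.Lib.Tails.TwoHeData
import Cfsg.Agent.Lib.Tails.ThreeHeData
import Cfsg.Agent.Lib.Tails.FiveHeData
import Cfsg.Agent.Lib.Tails.SevenHeData
import Cfsg.Agent.Lib.He.PermData

/-!
# The check of the certificate at two for He
-/

set_option autoImplicit false
set_option maxRecDepth 100000

namespace CfsgLib.Schur.Tails.He

open CfsgLib.TailsData

theorem two_cert : twoHeCert.checkB = true := by decide +kernel

end CfsgLib.Schur.Tails.He
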