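import Cfsg.Agent.Lib.Tails.HeCheck
import Cfsg.Agent.Lib.Tails.HeCheckTwo
import Cfsg.Agent.Lib.He.Perm

/-!
# The multiplier of He
-/

set_option autoImplicit false
set_option maxRecDepth 100000

namespace CfsgLib.Schur.Tails.He

open Cfsg CfsgLib.TailsData

theorem squarefree17 : Squarefree 17 := (by norm_num : Nat.Prime 17).squarefree

attribute [local irreducible] twoHeCert threeHeCert fiveHeCert sevenHeCert twoHeGens threeHeGens
  fiveHeGens sevenHeGens twoHeHs threeHeHs fiveHeHs sevenHeHs twoHeOrb threeHeOrb fiveHeOrb sevenHeOrb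

theorem multiplier_He : Cfsg.HasCyclicSchurMultiplier Cfsg.Spor.He 1 := by
  haveI := CfsgLib.He.card_he.1
  obtain ⟨⟨c3, c5, c7⟩, ⟨r3, r5, r7⟩, m3, m5, m7⟩ := odd_checks
  obtain ⟨⟨a2, b2, t2, n2, o2⟩, ⟨a3, b3, t3, n3, o3⟩, ⟨a5, b5, t5, n5, o5⟩, a7, b7, t7, n7, o7⟩ :=
    size_facts
  refine CfsgLib.Schur.hasCyclicSchurMultiplier_one fun Γ _ _ σ hσ => ?_
  rw [← MonoidHom.ker_eq_bot_iff, ← Subgroup.card_eq_one]
  by_contra hne
  obtain ⟨p, hp, hdvd⟩ := Nat.exists_prime_and_dvd hne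
  have := Fact.mk hp
  have R := CfsgLib.He.realised
  have hb : PresCert.fixSub CfsgLib.He.phi base = ⊥ := CfsgLib.He.base_trivial
  have hcard := CfsgLib.He.card_he.2
  by_cases hsq : p ^ 2 ∣ Nat.card Cfsg.Spor.He
  · have h4 : p = 2 ∨ p = 3 ∨ p = 5 ∨ p = 7 := by
      by_contra hcon
      push Not at hcon
      obtain ⟨h2, h3, h5, h7⟩ := hcon
      rw [hcard, show (4030387200 : ℕ) = (2 ^ 10 * 3 ^ 3 * 5 ^ 2 * 7 ^ 3) * 17 by norm_num] at hsq
      have hco : Nat.Coprime (p ^ 2) (2 ^ 10 * 3 ^ 3 * 5 ^ 2 * 7 ^ 3) :=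
        Nat.Coprime.mul_right (Nat.Coprime.mul_right (Nat.Coprime.mul_right
          (Nat.Coprime.pow 2 10 ((Nat.coprime_primes hp Nat.prime_two).2 h2))
          (Nat.Coprime.pow 2 3 ((Nat.coprime_primes hp Nat.prime_three).2 h3)))
          (Nat.Coprime.pow 2 2 ((Nat.coprime_primes hp (by norm_num)).2 h5)))
          (Nat.Coprime.pow 2 3 ((Nat.coprime_primes hp (by norm_num)).2 h7))
      exact hp.not_isUnit (squarefree17 p (by rw [← pow_two]; exact hco.dvd_of_dvd_mul_left hsq))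
    rcases h4 with rfl | rfl | rfl | rfl
    · have : Fact twoHeCert.p.Prime := ⟨a2 ▸ hp⟩
      exact (Words.realised R hb two_cert two_rels two_many (by rw [a2, n2, o2]; norm_num)
        (by rw [a2, n2, hcard]; decide)).not_dvd a2 b2 t2 hσ hdvd
    · have : Fact threeHeCert.p.Prime := ⟨a3 ▸ hp⟩
      exact (Words.realised R hb c3 r3 m3 (by rw [a3, n3, o3]; norm_num)
        (by rw [a3, n3, hcard]; decide)).not_dvd a3 b3 t3 hσ hdvd
    · have : Fact fiveHeCert.p.Prime := ⟨a5 ▸ hp⟩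
      exact (Words.realised R hb c5 r5 m5 (by rw [a5, n5, o5]; norm_num)
        (by rw [a5, n5, hcard]; decide)).not_dvd a5 b5 t5 hσ hdvd
    · have : Fact sevenHeCert.p.Prime := ⟨a7 ▸ hp⟩
      exact (Words.realised R hb c7 r7 m7 (by rw [a7, n7, o7]; norm_num)
        (by rw [a7, n7, hcard]; decide)).not_dvd a7 b7 t7 hσ hdvd
  · exact not_dvd_of_sq hσ hsq hdvd

end CfsgLib.Schur.Tails.He
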