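import Cfsg.Agent.Lib.Tails.Coded
import Cfsg.Agent.Lib.Tails.J1Data
import Cfsg.Agent.Lib.Golay.J1
import Cfsg.Prelude.Def_Spor_J1

/-!
# The multiplier of J1
-/

set_option autoImplicit false
set_option maxRecDepth 100000

namespace CfsgLib.Schur.Tails.J1

open Cfsg CfsgLib.Golay CfsgLib.TailsData
open scoped MatrixGroups Pointwise

theorem j1_eq : Cfsg.Spor.J1 = J1.grpJ1 := by
  obtain ⟨-, -, -, -, okX, okY⟩ := J1.slp_ok
  rw [J1.grpJ1_eq, Cfsg.Spor.J1]
  congr 2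
  · exact Units.ext (by rw [J1.val_coe okX, J1.gens_coe.1]; rfl)
  · congr 1
    exact Units.ext (by rw [J1.val_coe okY, J1.gens_coe.2]; rfl)

theorem mul_one_inj : ∀ a b, J1.okM a = true → J1.okM b = true → J1.val a = J1.val b →
    J1.mulM a J1.oneM = J1.mulM b J1.oneM := by
  intro a b ha hb h
  have e := congrArg Units.val h
  rw [J1.val_coe ha, J1.val_coe hb] at e
  have h1 : J1.smallM J1.oneM = true := by decide +kernel
  have e2 : J1.toMat (J1.mulM a J1.oneM) = J1.toMat (J1.mulM b J1.oneM) := by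
    rw [J1.toMat_mulM (J1.orth_of_ok ha).1 h1, J1.toMat_mulM (J1.orth_of_ok hb).1 h1, e]
  rw [J1.mulM_eq_packM a J1.oneM, J1.mulM_eq_packM b J1.oneM]
  refine J1.packM_congr fun i hi => ?_
  rw [← J1.packV_slot (J1.rowC_lt (J1.mulM a J1.oneM) i),
    ← J1.packV_slot (J1.rowC_lt (J1.mulM b J1.oneM) i)]
  simp only [J1.packV]
  have ha' := J1.smallM_mulM a J1.oneM
  have hb' := J1.smallM_mulM b J1.oneM
  rw [J1.code_ext ha' hb' e2 hi (by omega : 0 < 7), J1.code_ext ha' hb' e2 hi (by omega : 1 < 7),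
    J1.code_ext ha' hb' e2 hi (by omega : 2 < 7), J1.code_ext ha' hb' e2 hi (by omega : 3 < 7),
    J1.code_ext ha' hb' e2 hi (by omega : 4 < 7), J1.code_ext ha' hb' e2 hi (by omega : 5 < 7),
    J1.code_ext ha' hb' e2 hi (by omega : 6 < 7)]

theorem checks : twoJ1Cert.checkB = true ∧
    Coded.relsB J1.ops [J1.oneM] twoJ1Gens twoJ1Cert twoJ1Hs = true ∧
    Coded.manyB J1.ops 2 twoJ1Gens twoJ1Idx 8 = true ∧
    Bsgs.slpCheck J1.ops [J1.codeX, J1.codeY] twoJ1Slp = true ∧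
    (twoJ1Gens ++ twoJ1Hs).all (fun g => ([J1.codeX, J1.codeY] ++ twoJ1Slp.map (·.1)).contains g) = true := by
  refine ⟨?_, ?_, ?_, ?_, ?_⟩ <;> decide +kernel

theorem size_facts : twoJ1Cert.p = 2 ∧ twoJ1Cert.q = 2 ∧ twoJ1Cert.tau = [] ∧ twoJ1Cert.n = 3 ∧
    twoJ1Gens.length = 3 := by
  refine ⟨?_, ?_, ?_, ?_, ?_⟩ <;> decide +kernel

attribute [local irreducible] J1.mulM J1.okM J1.val J1.oneM twoJ1Cert twoJ1Gens twoJ1Hs twoJ1Slp
  twoJ1Idx J1.codeX J1.codeY

theorem codes_mem : ∀ g ∈ twoJ1Gens ++ twoJ1Hs, J1.ops.ok g = true ∧ J1.ops.val g ∈ J1.grpJ1 := by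
  obtain ⟨-, -, -, hslp, hall⟩ := checks
  obtain ⟨-, -, hX, hY, okX, okY⟩ := J1.slp_ok
  intro g hg
  simp only [List.all_eq_true, List.contains_iff_mem] at hall
  refine Bsgs.slp_sound J1.ops _ hslp (fun c hc => ?_) g (hall g hg)
  simp only [List.mem_cons, List.not_mem_nil, or_false] at hc
  rcases hc with rfl | rfl
  exacts [⟨okX, J1.val_mem hX⟩, ⟨okY, J1.val_mem hY⟩]

theorem squarefree_rest : Squarefree (3 * 5 * 7 * 11 * 19) := by
  have e : ∀ p : ℕ, p.Prime → Squarefree p := fun p hp => hp.squarefree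
  rw [Nat.squarefree_mul (by norm_num), Nat.squarefree_mul (by norm_num),
    Nat.squarefree_mul (by norm_num), Nat.squarefree_mul (by norm_num)]
  exact ⟨⟨⟨⟨e _ (by norm_num), e _ (by norm_num)⟩, e _ (by norm_num)⟩, e _ (by norm_num)⟩,
    e _ (by norm_num)⟩

theorem multiplier_J1 : Cfsg.HasCyclicSchurMultiplier ↥Cfsg.Spor.J1 1 := by
  rw [j1_eq]
  obtain ⟨hc, hr, hm, -, -⟩ := checks
  obtain ⟨fp, fq, ft, fn, fl⟩ := size_facts
  have hmem := codes_mem
  refine CfsgLib.Schur.hasCyclicSchurMultiplier_one fun Γ _ _ σ hσ => ?_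
  rw [← MonoidHom.ker_eq_bot_iff, ← Subgroup.card_eq_one]
  by_contra hne
  obtain ⟨p, hp, hdvd⟩ := Nat.exists_prime_and_dvd hne
  have := Fact.mk hp
  by_cases hsq : p ^ 2 ∣ Nat.card J1.grpJ1
  · have hp2 : p = 2 := by
      by_contra hne2
      rw [J1.card_grpJ1, show (175560 : ℕ) = 2 ^ 3 * (3 * 5 * 7 * 11 * 19) by norm_num] at hsq
      exact hp.not_isUnit (squarefree_rest p (by
        rw [← pow_two]
        exact (Nat.Coprime.pow 2 3 ((Nat.coprime_primes hp Nat.prime_two).2 hne2)).dvd_of_dvd_mul_left hsq))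
    subst hp2
    have : Fact twoJ1Cert.p.Prime := ⟨fp ▸ hp⟩
    refine (Coded.realised (O := J1.ops) (H := J1.grpJ1) (MonoidHom.id _) hc
      (fun g hg => (hmem g (List.mem_append_left _ hg)).2)
      (fun g hg => (hmem g (List.mem_append_right _ hg)).2)
      (fun z hz => ?_) hr (fun g hg => ?_) (by rw [fp, fn, J1.card_grpJ1]; decide)).not_dvd fp fq ft hσ hdvd
    · rw [List.mem_singleton.1 hz]
      exact ⟨by rw [show J1.ops.val J1.oneM = 1 from J1.ops.val_one]; exact one_mem _,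
        Subtype.ext J1.ops.val_one⟩
    · have hK : Nat.card ((Subgroup.closure (g '' {k | k < twoJ1Cert.n})).map J1.grpJ1.subtype) =
          Nat.card (Subgroup.closure (g '' {k | k < twoJ1Cert.n})) :=
        Subgroup.card_map_of_injective J1.grpJ1.subtype_injective
      show twoJ1Cert.p ^ twoJ1Cert.n ≤ Nat.card (Subgroup.closure ((fun i => MonoidHom.id _ (g i)) '' {k | k < twoJ1Cert.n}))
      rw [fp]
      show 2 ^ twoJ1Cert.n ≤ Nat.card (Subgroup.closure (g '' {k | k < twoJ1Cert.n}))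
      rw [show 2 ^ twoJ1Cert.n = 8 by rw [fn]; norm_num]
      rw [← hK]
      refine Coded.le_card_of_manyB mul_one_inj hm fun x hx => ?_
      obtain ⟨i, hi, rfl⟩ := List.getElem_of_mem hx
      refine ⟨(hmem _ (List.mem_append_left _ (List.getElem_mem hi))).1, ⟨g i, ?_, ?_⟩⟩
      · exact Subgroup.subset_closure ⟨i, show i < twoJ1Cert.n by omega, rfl⟩
      · show (g i : GL (Fin 7) (ZMod 11)) = _
        rw [hg i hi, List.getD_eq_getElem _ _ hi]
  · exact not_dvd_of_sq hσ hsq hdvd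

end CfsgLib.Schur.Tails.J1
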