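import Cfsg.Agent.Lib.Tails.Cert

/-!
Generated data: certificates for the Schur multiplier of J3.
-/

set_option autoImplicit false
set_option maxRecDepth 20000

namespace CfsgLib.TailsData

open CfsgLib

/-- The overlaps. -/
def twoJ3Overlaps : List (List ℕ × List Schur.Tails.Step × List Schur.Tails.Step) := [
  ([0, 1, 2], [(0, 7, true), (1, 8, true), (0, 27, true)], [(1, 13, true), (0, 10, true), (1, 8, true), (0, 26, true), (1, 4, true), (2, 7, true), (1, 16, true)]),
  ([0, 1, 3], [(0, 7, true), (1, 9, true)], [(1, 14, true), (0, 9, true), (2, 7, true), (1, 23, true), (0, 25, true)]),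
  ([0, 1, 4], [(0, 7, true), (1, 10, true)], [(1, 15, true), (0, 10, true), (1, 7, true), (0, 25, true)]),
  ([0, 1, 5], [(0, 7, true), (1, 11, true)], [(1, 16, true), (0, 11, true), (3, 10, true), (2, 15, true), (1, 22, true), (0, 4, true), (2, 7, true), (1, 16, true), (0, 23, true), (1, 22, true)]),
  ([0, 1, 6], [(0, 7, true), (1, 12, true), (0, 5, true)], [(1, 17, true), (0, 12, true), (2, 10, true), (1, 19, true), (3, 9, true), (2, 19, true), (1, 4, true), (1, 18, true), (3, 7, true), (2, 20, true), (1, 23, true), (0, 5, true), (0, 3, true)]),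
  ([0, 2, 3], [(0, 8, true), (3, 9, true), (2, 15, true), (1, 4, true), (1, 14, true)], [(1, 18, true), (0, 9, true), (2, 8, true), (1, 24, true), (0, 26, true), (2, 22, true), (1, 4, true)]),
  ([0, 2, 4], [(0, 8, true), (3, 10, true), (2, 15, true), (1, 4, true)], [(1, 19, true), (0, 10, true), (1, 8, true), (0, 26, true), (1, 4, true)]),
  ([0, 2, 5], [(0, 8, true), (3, 11, true), (2, 15, true), (1, 4, true), (1, 14, true), (2, 1, true)], [(1, 20, true), (0, 11, true), (3, 9, true), (2, 15, true), (1, 22, true), (0, 4, true), (1, 14, true), (0, 3, true), (1, 8, true), (0, 17, true), (3, 15, true), (2, 22, true), (1, 4, true), (2, 1, true)]),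
  ([0, 2, 6], [(0, 8, true), (3, 12, true), (2, 16, true), (1, 25, true), (2, 4, true), (2, 13, true)], [(1, 21, true), (0, 12, true), (2, 10, true), (1, 19, true), (3, 8, true), (2, 21, true), (1, 26, true), (0, 27, true), (2, 4, true), (2, 19, true)]),
  ([0, 3, 6], [(0, 9, true), (2, 12, true), (1, 23, true), (0, 25, true)], [(1, 24, true), (0, 12, true), (2, 9, true), (1, 19, true), (2, 18, true)]),
  ([0, 5, 6], [(0, 11, true), (3, 12, true), (2, 16, true), (1, 23, true), (0, 25, true), (2, 22, true), (1, 4, true), (2, 13, true), (1, 22, true)], [(1, 27, true), (0, 12, true), (2, 11, true), (1, 19, true), (2, 18, true)]),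
  ([1, 2, 5], [(0, 13, true), (2, 16, true), (1, 20, true), (0, 25, true), (3, 19, true), (2, 22, true), (1, 4, true)], [(1, 20, true), (0, 16, true), (2, 14, true), (3, 13, true), (2, 22, true), (1, 4, true)]),
  ([0, 0, 0], [(0, 0, true)], [(1, 0, true), (0, 12, true), (2, 11, true), (1, 19, true), (2, 18, true), (5, 8, true), (4, 17, true), (3, 21, true), (2, 24, true), (1, 26, true), (0, 27, true), (3, 22, true), (2, 4, true), (3, 19, true), (2, 22, true), (4, 18, true), (3, 3, true), (4, 15, true), (3, 19, true), (2, 4, true), (3, 1, true)]),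
  ([0, 0, 1], [(0, 0, true)], [(1, 7, true), (0, 11, true), (3, 0, true), (2, 17, true), (1, 24, true), (0, 26, true), (2, 22, true), (1, 4, true), (1, 3, true), (1, 16, true), (3, 13, true), (2, 4, true)]),
  ([0, 1, 1], [(0, 7, true), (1, 7, true), (0, 5, true)], [(1, 1, true)]),
  ([0, 0, 2], [(0, 0, true), (2, 2, true)], [(1, 8, true), (0, 12, true), (2, 10, true), (1, 19, true), (3, 7, true), (2, 20, true), (1, 25, true), (0, 5, true), (3, 0, true), (2, 21, true), (1, 24, true), (0, 26, true), (2, 22, true), (1, 4, true), (2, 20, true), (1, 23, true), (2, 3, true), (2, 2, true)]),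
  ([0, 2, 2], [(0, 8, true), (3, 8, true), (2, 17, true), (1, 26, true), (0, 6, true), (0, 4, true), (1, 15, true), (0, 22, true), (2, 1, true)], [(1, 2, true), (0, 9, true)]),
  ([0, 6, 6], [(0, 12, true), (2, 12, true), (1, 20, true), (0, 5, true), (1, 2, true), (0, 3, true)], [(1, 6, true)])]

/-- A conjugation. -/
def twoJ3Fus0 : Schur.Tails.Fus where
  xs := [[5, 3, 2, 1]]
  ys := [[5, 3, 2, 0]]
  rels := [
    ([0, 0], [], [(3, 16, true), (2, 20, true), (1, 23, true), (0, 5, true), (0, 3, true), (0, 19, true), (2, 14, true), (1, 18, true), (3, 13, true), (2, 19, true), (1, 22, true), (0, 4, true), (1, 2, true), (0, 3, true), (0, 1, true)], [(3, 11, true), (2, 19, true), (1, 22, true), (3, 18, true), (2, 3, true), (4, 9, true), (3, 15, true), (2, 19, true), (1, 4, true), (2, 14, true), (1, 18, true), (4, 8, true), (3, 17, true), (2, 21, true), (1, 24, true), (0, 27, true), (2, 22, true), (4, 19, true), (3, 22, true), (2, 4, true), (3, 18, true), (2, 3, true), (3, 15, true), (2, 19, true), (4, 1, true), (4, 0, true),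 (3, 21, true), (2, 26, true), (1, 27, true), (0, 6, true), (1, 4, true), (1, 20, true), (0, 5, true), (1, 2, true), (0, 3, true)])]

/-- A conjugation. -/
def twoJ3Fus1 : Schur.Tails.Fus where
  xs := [[5, 4, 3, 2, 0]]
  ys := [[5, 2]]
  rels := [
    ([0, 0], [], [(4, 11, true), (3, 19, true), (2, 22, true), (1, 4, true), (2, 18, true), (1, 3, true), (3, 10, true), (2, 15, true), (1, 19, true), (4, 9, true), (3, 15, true), (2, 19, true), (1, 4, true), (2, 14, true), (1, 18, true), (4, 8, true), (3, 17, true), (2, 21, true), (1, 24, true), (0, 27, true), (2, 22, true), (4, 19, true), (3, 22, true), (2, 4, true), (3, 18, true), (2, 3, true), (3, 15, true), (2, 19, true), (4, 1, true), (4, 0, true), (3, 21, true), (2, 26, true), (1, 27, true), (0, 6, true), (1, 4, true), (1, 20, true), (0, 5, true), (1, 2, true), (0, 3, true)], [(1, 20, true), (0, 5, true), (1, 2, true), (0, 3, true)])]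

/-- A conjugation. -/
def twoJ3Fus2 : Schur.Tails.Fus where
  xs := [[6, 3, 0], [4]]
  ys := [[5, 3, 2, 0], [5, 4, 3, 2, 0]]
  rels := [
    ([1, 1], [], [(0, 4, true)], [(4, 11, true), (3, 19, true), (2, 22, true), (1, 4, true), (2, 18, true), (1, 3, true), (3, 10, true), (2, 15, true), (1, 19, true), (4, 9, true), (3, 15, true), (2, 19, true), (1, 4, true), (2, 14, true), (1, 18, true), (4, 8, true), (3, 17, true), (2, 21, true), (1, 24, true), (0, 27, true), (2, 22, true), (4, 19, true), (3, 22, true), (2, 4, true), (3, 18, true), (2, 3, true), (3, 15, true), (2, 19, true), (4, 1, true), (4, 0, true), (3, 21, true), (2, 26, true), (1, 27, true), (0, 6, true), (1, 4, true), (1, 20, true), (0, 5, true), (1, 2, true), (0, 3, true)])]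

/-- A conjugation. -/
def twoJ3Fus3 : Schur.Tails.Fus where
  xs := [[5, 3], [5, 4], [6, 4, 3], [5, 4, 3]]
  ys := [[6, 5], [5], [5, 4], [6, 4, 3]]
  rels := [
    ([0, 0], [], [(1, 23, true), (0, 5, true), (0, 3, true)], [(1, 27, true), (0, 6, true), (0, 5, true)])]

/-- A conjugation. -/
def twoJ3Fus4 : Schur.Tails.Fus where
  xs := [[5, 3, 1], [3], [6, 5, 2], [4], [5, 3, 2, 0]]
  ys := [[5, 1], [5, 3, 2, 0], [6, 5, 4, 3, 1, 0], [4], [6, 5, 4, 1, 0]]
  rels := [
    ([0, 0], [3], [(2, 16, true), (1, 23, true), (0, 5, true), (0, 22, true), (2, 14, true), (1, 3, true), (1, 1, true)], [(1, 16, true), (0, 5, true), (1, 1, true)]),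
    ([2, 2], [3], [(2, 21, true), (1, 27, true), (0, 6, true), (2, 20, true), (1, 25, true), (0, 5, true), (2, 2, true), (1, 3, true)], [(5, 12, true), (4, 16, true), (3, 23, true), (2, 25, true), (1, 5, true), (2, 22, true), (1, 4, true), (2, 13, true), (1, 22, true), (5, 11, true), (4, 15, true), (3, 19, true), (2, 22, true), (1, 4, true), (3, 14, true), (2, 18, true), (1, 3, true), (2, 1, true), (2, 10, true), (1, 19, true), (3, 9, true), (2, 19, true), (1, 4, true), (1, 18, true), (3, 7, true), (2, 20, true), (1, 23, true), (2, 3, true), (3, 0, true), (2, 21, true), (1, 27, true), (0, 6, true), (2, 20, true), (1, 25, true), (0, 5, true), (2, 2, true), (1, 3, true)]),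
    ([0, 1], [1, 0], [(2, 14, true), (1, 3, true), (1, 3, false), (0, 23, false)], [(1, 16, true), (0, 5, true), (1, 14, true), (2, 13, true), (1, 22, true), (0, 4, true), (0, 4, false), (1, 22, false), (2, 19, false), (0, 5, false), (1, 25, false), (2, 20, false), (3, 16, false), (4, 7, false), (2, 3, false), (3, 18, false), (1, 22, false), (2, 19, false), (3, 11, false)])]

/-- The certificate. -/
def twoJ3Cert : Schur.Tails.Cert where
  p := 2
  q := 2
  n := 7
  rels := [
    ([0, 0], [6, 5, 2]),
    ([1, 1], []),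
    ([2, 2], [3]),
    ([3, 3], []),
    ([4, 4], []),
    ([5, 5], []),
    ([6, 6], []),
    ([0, 1], [5, 0]),
    ([0, 2], [6, 4, 1, 0]),
    ([0, 3], [4, 3, 0]),
    ([0, 4], [4, 0]),
    ([0, 5], [4, 3, 1, 0]),
    ([0, 6], [5, 2, 0]),
    ([1, 2], [4, 2, 1]),
    ([1, 3], [3, 1]),
    ([1, 4], [4, 1]),
    ([1, 5], [5, 4, 1]),
    ([1, 6], [6, 4, 3, 1]),
    ([2, 3], [3, 2]),
    ([2, 4], [4, 2]),
    ([2, 5], [5, 3, 2]),
    ([2, 6], [6, 4, 2]),
    ([3, 4], [4, 3]),
    ([3, 5], [5, 3]),
    ([3, 6], [6, 3]),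
    ([4, 5], [5, 4]),
    ([4, 6], [6, 4]),
    ([5, 6], [6, 5])]
  overlaps := twoJ3Overlaps
  fus := [twoJ3Fus0, twoJ3Fus1, twoJ3Fus2, twoJ3Fus3, twoJ3Fus4]
  mu := [[], [0, 0, 0, 0, 0, 0, 0, 1], [1], [0, 0, 1], [1, 0, 0, 0, 0, 0, 0, 1, 1], [], []]
  combos := [
    ([], 0),
    ([(0, 1), (2, 1), (3, 1), (6, 1), (7, 1), (8, 1), (10, 1), (11, 1), (14, 1), (16, 1), (18, 1), (20, 1), (21, 1)], 0),
    ([], 0),
    ([(0, 1), (1, 1), (3, 1), (5, 1), (6, 1), (7, 1), (8, 1), (10, 1), (12, 1), (13, 1), (15, 1), (16, 1), (17, 1)], 0),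
    ([(4, 1), (6, 1), (7, 1), (8, 1), (10, 1)], 0),
    ([(0, 1), (2, 1), (3, 1), (6, 1), (7, 1), (8, 1), (10, 1), (11, 1), (16, 1), (18, 1), (20, 1), (21, 1)], 0),
    ([(4, 1), (6, 1), (7, 1), (8, 1), (10, 1), (17, 1), (19, 1), (20, 1)], 0),
    ([], 0),
    ([], 0),
    ([(0, 1), (1, 1), (2, 1), (6, 1), (7, 1), (8, 1), (11, 1), (13, 1), (14, 1), (16, 1), (18, 1), (19, 1), (20, 1)], 0),
    ([(3, 1), (4, 1), (5, 1), (6, 1), (8, 1), (9, 1), (10, 1), (11, 1), (14, 1), (16, 1), (17, 1)], 0),
    ([(1, 1), (3, 1), (5, 1), (7, 1), (11, 1), (14, 1), (17, 1), (19, 1)], 0),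
    ([(0, 1), (1, 1), (3, 1), (4, 1), (6, 1), (7, 1), (8, 1), (10, 1), (11, 1), (12, 1), (14, 1), (15, 1), (16, 1), (17, 1), (22, 1), (23, 1)], 0),
    ([(0, 1), (3, 1), (4, 1), (5, 1), (8, 1), (10, 1), (11, 1), (18, 1), (21, 1), (24, 1)], 0),
    ([(1, 1), (2, 1), (5, 1), (7, 1), (9, 1), (11, 1), (14, 1), (16, 1), (17, 1)], 0),
    ([(0, 1), (2, 1), (4, 1), (6, 1), (7, 1), (10, 1)], 0),
    ([(2, 1), (3, 1), (4, 1), (5, 1), (8, 1), (9, 1), (11, 1), (12, 1), (13, 1), (14, 1), (15, 1), (17, 1), (18, 1), (19, 1), (20, 1), (24, 1)], 0),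
    ([(0, 1), (1, 1), (2, 1), (3, 1), (4, 1), (6, 1), (13, 1), (14, 1), (20, 1), (21, 1)], 0),
    ([(3, 1), (6, 1), (8, 1), (10, 1)], 0),
    ([(0, 1), (1, 1), (2, 1), (4, 1), (5, 1), (6, 1), (9, 1), (10, 1), (14, 1), (16, 1), (17, 1)], 0),
    ([(1, 1), (2, 1), (4, 1), (5, 1), (6, 1), (7, 1), (8, 1), (10, 1), (11, 1), (12, 1), (13, 1), (15, 1), (17, 1), (18, 1), (19, 1), (21, 1)], 0),
    ([(0, 1), (2, 1), (3, 1), (4, 1), (7, 1), (11, 1), (13, 1), (14, 1), (15, 1), (16, 1), (18, 1), (20, 1), (21, 1), (22, 1), (23, 1)], 0),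
    ([(1, 1), (5, 1), (6, 1), (9, 1)], 0),
    ([(0, 1), (2, 1), (4, 1), (5, 1), (6, 1), (9, 1), (10, 1), (11, 1), (14, 1), (16, 1), (17, 1)], 0),
    ([(0, 1), (1, 1), (3, 1), (4, 1), (7, 1), (8, 1), (9, 1), (11, 1)], 0),
    ([(0, 1), (4, 1), (6, 1), (7, 1), (10, 1)], 0),
    ([(1, 1), (5, 1), (6, 1), (7, 1), (9, 1), (14, 1), (16, 1), (17, 1)], 0),
    ([(1, 1), (2, 1), (3, 1), (6, 1), (9, 1), (10, 1), (11, 1), (12, 1), (13, 1), (14, 1), (15, 1), (17, 1), (19, 1), (20, 1), (21, 1)], 0)]
  tau := []
  tauCombo := []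

/-- The codes of the generators. -/
def twoJ3Gens : List ℕ := [
  0x13766728878733d688972e85ceb7817ce1843feb8,
  0x11e4f6a35c43299e17fae82970dd964653b6ff86c,
  0x1a658d2728e73864c154076007c63381691a244b9,
  0x12ef1723aef002f3dec2195125da616f23d9ed93,
  0x3deaa252026583b85204af1814322b26209c5212c,
  0x27b3889ac8a4b6afc83f7c71485757fdc2c30fb45,
  0x34eb43361bf499c22b04a93850d8ab624198fb92c]

/-- The codes of the conjugating elements. -/
def twoJ3Hs : List ℕ := [
  0x126977cb36e942ffa7780327105545d87eb927028,
  0x143e5d3412f3f2ae95d4c7b61001bab10b0787737,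
  0xba527e21006c7cac6079cc0aa14a48284197b72c,
  0x308a4613a03949da63bf933365c6f474be77f5318,
  0x1e19c58b12f82a478e32bea5b257f6513d5dfe9f1]

/-- The codes the program starts from. -/
def twoJ3Base : List ℕ := [
  0x8002100101080000000040010800000000420001,
  0x6030000404000000000022126040c26c44251240,
  0x20080000802000020080100001004000040100001,
  0x20080200802008000000100401000000000100401,
  0x20080200802008020000300001004000040000400,
  0x20080200802000020080300400000000040100400,
  0x10000000400000000000000204002008100080204,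
  0x401000000000000000002000020080200c010040,
  0x20080200802008020080100400004010000000001,
  0x20080200802008020080200000000000000000000]

/-- A program for both. -/
def twoJ3Slp : List (ℕ × Bool × ℕ × ℕ) := [
  (0x100401004010040100401, true, 9, 9),
  (0x20080200802008020080300401004010040100401, false, 9, 9),
  (0x4100000410000041000000800100080010008001, false, 0, 0),
  (0x2c22000184800c46040010094244014448030240, false, 12, 1),
  (0x2210c6045038824010c400882104001401b080220, false, 13, 0),
  (0x28a3cac754e9d125200d988dfc4210f7cc708016, false, 14, 1),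
  (0x1a5cd3ba47aa376e282304aa38a59157549518110, false, 15, 0),
  (0x2357620989b1f0990cb189031ff87a65ed2fb0a14, false, 16, 1),
  (0x20a13f8cb817b745a654e12a76bde2de48032ff2f, false, 17, 1),
  (0x2f6ffe3832a3c6aaf6bc49fc59e3cb8b192c7b64c, false, 18, 1),
  (0x1a5cd3ba47aa376e282304aa38a59157549518110, false, 19, 1),
  (0x1ad93ede34b4489f5a7068fbe4998fc90b6b8642d, false, 16, 16),
  (0x8a7c3f92a7caee1282769e756c8b64ee3680eefd, false, 21, 21),
  (0x11b2f0023413b1d1213719e0b8c9cfc953836dd05, false, 20, 22),
  (0x180c00180c000bf9f91b4196c77abd981, false, 1, 1),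
  (0x643400000000004c2500401a0072c26046, false, 24, 1),
  (0x140a0000208480071304030900049404880088130, false, 25, 0),
  (0x6422006221004044002c000210101091a2270212, false, 26, 1),
  (0x2190410208801c0110a200c0a08180810820c0708, false, 27, 0),
  (0x1273b032b762a75cc2048b18f85b2a64033b593ba, false, 28, 1),
  (0x20f458c37c531515889b409cec41aa7e8b2f5c746, false, 29, 0),
  (0x322db606cc525185c8bd04119a2133b48c25e4fda, false, 30, 0),
  (0x53854161d96c1c5d00dc6bd58809ad63474e2b84, false, 31, 0),
  (0x39d5f46f1989c5b3e0f3ed6a08da80331fda2fb1f, false, 32, 1),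
  (0x33fed728dd58fe32b3cb003f9e4346d934036846c, false, 33, 1),
  (0x4f323eb88edd53f667bffc2b8ae29ffce39baae1, false, 34, 34),
  (0x97db5ba99d80f7f3fd60cb96485a22bc8a02237a, false, 35, 35),
  (0x10082102000c260208410c0e10e3114211040620, false, 1, 0),
  (0x80089012091201040000d04840580508100e0604, false, 37, 0),
  (0x323981a0e452340b08801830110b4ba745b65b709, false, 38, 1),
  (0x96881e32d869ed96b98109e54b1bfd7878ae4e41, false, 39, 0),
  (0x1e19c58b12f82a478e32bea5b257f6513d5dfe9f1, false, 40, 1),
  (0x32a812a2b245272e6a2f280d252dade7581cd3dc7, false, 41, 1),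
  (0x2f2445f24d3bc49b62096049cb084661125203447, false, 42, 1),
  (0x96881e32d869ed96b98109e54b1bfd7878ae4e41, false, 43, 1),
  (0x1e19c58b12f82a478e32bea5b257f6513d5dfe9f1, false, 44, 1),
  (0x2e2653451b9b8f8aa2e329957437c6933ccd0c98, false, 41, 41),
  (0xf4558094552685a419f89c1df467884813382b2c, false, 46, 46),
  (0x3deaa252026583b85204af1814322b26209c5212c, false, 45, 47),
  (0x3deaa252026583b85204af1814322b26209c5212c, false, 48, 10),
  (0xb76b59c4fac406f615eb5783f342c7b33fac6e07, false, 36, 49),
  (0x249e5365b0e570dff33a76f23b22b4f959b255aed, false, 50, 50),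
  (0x3feff6f7aa98b64a1b4c130f67cf57ccf977bd182, false, 51, 51),
  (0x840000200400400800004000401000802000001, false, 12, 0),
  (0x213811062112301205801090009b1000110502040, false, 53, 1),
  (0x3d4460363bb8009fe9801da0065b1c305fcfc0d81, false, 54, 1),
  (0x16001d003a60002564000b0006801c002612b2046, false, 55, 1),
  (0x4012144018a090108400c00013204c186001130, false, 56, 0),
  (0x30001801086008236009010000c014b0030184044, false, 57, 0),
  (0x100106600048088011404200102400ec84c08490, false, 58, 0),
  (0x1400158113004a220c01da0002800510200224004, false, 59, 0),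
  (0x84010504091a0481232044000324002400809890, false, 60, 0),
  (0x210408089812200102420880020408891a05a0022, false, 61, 1),
  (0x355813165bf02654fe02d9c0015233ec9ce9844af, false, 62, 1),
  (0x29c0196740d5d861a233c9421050169c22f53dd1b, false, 63, 0),
  (0x3164052e050c09be630313b8443ec293742637365, false, 64, 1),
  (0x29ac06a99634270b179d9833055c4701513b902f9, false, 65, 0),
  (0x1a624388479113df66875a30156e4a89834e95685, false, 66, 0),
  (0x29e14729340549a843b1d6982534b2e18c63b929f, false, 67, 0),
  (0x3f73f7d581524bca8683c5d85d08dfe3de078fe4a, false, 68, 1),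
  (0x741aa054784ad350c7f0f11e4f5b644e6f6343ec, false, 69, 69),
  (0x19b2290360553584246147dea3b70bb43ebd12260, false, 70, 70),
  (0x141e1eca011b97f4239c15c7da1fffa958816b3d, false, 71, 48),
  (0x2f961e76255971c20d1256af403f5d0856cc4940, false, 72, 72),
  (0x36572ece259d959e11b6e5f05c2c1903f0c8fabde, false, 73, 73),
  (0x30289034271014100c00181448580000180984440, false, 0, 1),
  (0x8decd076b1d3f030000046ee6986000006597f81, false, 75, 1),
  (0x2607e21613219dad23885104a451d4c26654a2643, false, 76, 0),
  (0x8996a42d8543bf0762400c5f1c2c1687c6238701, false, 77, 0),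
  (0x1118015e926f51c88246881166474a3d1ee7adc42, false, 78, 1),
  (0x35816bbc27e5e5307a23254439c2b2e1788235b38, false, 79, 1),
  (0x163b639f2a7cd8cb827b8bee2684fbd3eae61a39a, false, 80, 1),
  (0x1077ea5cb3ece2e9aaca51c1e1bda7af6c82147a8, false, 81, 0),
  (0x19bbb612540f1aa458e3cb550ffed47835ea197a8, false, 82, 1),
  (0x2a977965efe10505df0197d2977d68296b6e18998, false, 83, 1),
  (0x1386352b0b0f4bb8cc94352977261bfe19eb959a8, false, 84, 1),
  (0x1077ea5cb3ece2e9aaca51c1e1bda7af6c82147a8, false, 85, 1),
  (0x3931092afbb5aec4e0f9c527e747cf3d029ab0a6a, false, 86, 0),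
  (0xde14b68710018ef33f3f2e8a70482e3aca1a9e86, false, 87, 1),
  (0x2160a1ca226b27092e34e180a8e80349a590a2cb0, false, 88, 88),
  (0x20016f7b769720e06aa9d1a6bd158241305295f, false, 88, 89),
  (0x64240b6169e137856071ffe4fd9c41ac76f047bb, false, 90, 90),
  (0x2f43d2465b663bb598cb5ba3149f37cc8628b7a0c, false, 91, 48),
  (0x1d67f300674e76aa09527117506aa0a19b8b940d, false, 92, 92),
  (0x3bee67d82bc47127badeca3acf92f8a9730de05f4, false, 93, 93),
  (0x2d7ca07abbd3a0b726e299d5d6527803fb197cd52, false, 92, 94),
  (0x2d7ca07abbd3a0b726e299d5d6527803fb197cd52, false, 95, 10),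
  (0x484751d605e35ccb41b9cdfd4b30cb9f7bdcfbc2, false, 74, 96),
  (0x38f49835c37d51eb55bc4e5db0b13928104dbf3b1, false, 52, 97),
  (0x3c1ea4d408ffbdd3c902d6b2d3370fc800ca14af8, false, 98, 98),
  (0x23da8a365429c280f6213ef551290132c1dc29025, false, 99, 99),
  (0x34fac2cad4ad01de6952faedb3e83e62048b46e4f, false, 23, 100),
  (0x388d17a853bb4745e7646243e258b4c4bb0877bd2, false, 101, 101),
  (0x505246c3919753d29091dccbfce994f21f3cf297, false, 101, 102),
  (0x5e3ba3a10a00c41ac8660aefd04c48a896220460, false, 52, 95),
  (0x2a9227900dd3a7134385641bf5196229315f90144, false, 74, 104),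
  (0x13766728878733d688972e85ceb7817ce1843feb8, false, 103, 105),
  (0x11e4f6a35c43299e17fae82970dd964653b6ff86c, false, 103, 74),
  (0x36afdc511c27586e2da8793ade7ebe5875728cbfc, false, 103, 52),
  (0x3df297613ba3108c32de6733d67f1fcc7b1e3d160, false, 52, 108),
  (0x328141cd3c6168e16bdf04e6b636350f66a18b2ee, false, 95, 109),
  (0x1a658d2728e73864c154076007c63381691a244b9, false, 103, 110),
  (0x12ef1723aef002f3dec2195125da616f23d9ed93, false, 74, 48),
  (0x27b3889ac8a4b6afc83f7c71485757fdc2c30fb45, false, 74, 109),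
  (0x11cb258e88361cf41f60ace4a3844288ca20374c0, false, 95, 52),
  (0x2d3b3a7ab0ea6487373c299ffcac7907786f3c94b, false, 103, 114),
  (0x7c2d1af2e9bb4ed495e4b9a7b99084d154abd361, false, 52, 115),
  (0x34eb43361bf499c22b04a93850d8ab624198fb92c, false, 74, 116),
  (0x371a884660211ccaa740ca353d23190d9c7c5f216, false, 37, 1),
  (0x37db8d56206c95bcb4f40dbf906d4ec3cd71cbba6, false, 118, 1),
  (0x1dae98ebb417b25de800f28f5dfc55c9891eed90, false, 119, 1),
  (0x37d5c30fc9d9c1d0f8095a2cb4f7483656e473842, false, 120, 0),
  (0x3b4d264d29308727b3b418cdd1d479b6388146980, false, 121, 0),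
  (0x1012a36a8b55e4e4eb420a79bb6123b6e8d263216, false, 122, 1),
  (0x6905a326e42b83fb044dd2f106cc5b6f89afb986, false, 123, 1),
  (0x2734b19d0ce9bce4fd72d189c55e3d86f3bda2196, false, 124, 1),
  (0x8b4db2f24bcfa57956a48c505f6617edef405d18, false, 125, 0),
  (0x126977cb36e942ffa7780327105545d87eb927028, false, 126, 0),
  (0x26ce28621a7cd377e8485edd671fa32fa467c3714, false, 119, 0),
  (0x3251a49ed0556af59c23140509dfa26c1d922ef0d, false, 128, 1),
  (0x1733575cfe0eb4686475983391c7a316a0864e6f3, false, 129, 1),
  (0x19e31d4fdeb27c4009575cdb621d5f10378aed7e5, false, 130, 0),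
  (0x3ba70f41dc9b00025fe2b768a7d0b414ffddde8c8, false, 131, 1),
  (0x28181149c6c02284f2eda239eaf92d2fef90d183d, false, 132, 1),
  (0x8cd0581d81ee50c0c336109e5a7d35bbf85e0f5, false, 133, 0),
  (0x25374b0f032b992936f9de56fe80157b29f876aec, false, 134, 1),
  (0x1c6b621a01eaa1b771e6cb7af89ac52bf592df2d0, false, 135, 0),
  (0x29594ac0d1d852c691f25e4e6e1a3965703809b83, false, 136, 1),
  (0x105090ec26452e7390512b8b36596accc1e8e80ef, false, 137, 1),
  (0x31ce569a3f4dd6a99844e00d8769a676c3d9481b1, false, 138, 0),
  (0x3205bf1eee715ab6896b6c23252343769c8640847, false, 139, 0),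
  (0x55adf2f2dc1440e85753684c0191bbc54b9429d9, false, 140, 0),
  (0x26ec16c3db66ba73dbff03dcd641ca87ed32a1e79, false, 141, 1),
  (0x322cb614ea1f66dbd54405db03a03b5df64136acf, false, 142, 0),
  (0x143e5d3412f3f2ae95d4c7b61001bab10b0787737, false, 143, 0),
  (0x2000040020040010100010100010000200000801, false, 53, 0),
  (0x4400080020800400008002000440000002001, false, 145, 0),
  (0x109122240016090980188000511381080c00c40, false, 146, 1),
  (0x1da9ffb001a65fe58018e184ffb846030032181, false, 147, 1),
  (0x18584a89f84114ced488552756752930ab2381043, false, 148, 0),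
  (0x2d0b661e5890700de224142b00ed7c449c760d101, false, 149, 0),
  (0x7ba4b66001391b3e78690ad2d445888dd0241e42, false, 150, 1),
  (0xba527e21006c7cac6079cc0aa14a48284197b72c, false, 151, 0),
  (0x548a222895044021000002410150480824160210, false, 38, 0),
  (0x22f25442ef74b89cec440994ed251a0495dacc426, false, 153, 1),
  (0x3269f3043f1848348a4004b2bb8d3adee7eb6dd14, false, 154, 0),
  (0x1927adb9292e0927ff820e03bde9e78be7b477b0d, false, 155, 1),
  (0x14fa0f8ebbb663ddd499080cecbb0749f9a0d7a59, false, 156, 0),
  (0x3e430fb861e16eb3c707a0478871be4bbf375aa5f, false, 157, 1),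
  (0x21822ca8895978dfac86a7e179fb770fca15df7bd, false, 158, 0),
  (0x1468fbcabd662b3f236d3992f626ee4a9495d88d7, false, 159, 1),
  (0x1d67c259299b77dcb94bbc8cff38c680fe15d3863, false, 160, 1),
  (0x1853060242c873ff36aac2f2c63e9c149315d476e, false, 161, 1),
  (0x308a4613a03949da63bf933365c6f474be77f5318, false, 162, 0)]

/-- The order of the products by code. -/
def twoJ3Idx : List ℕ := [0, 217, 276, 447, 309, 20, 417, 32, 296, 453, 291, 184, 129, 33, 444, 443, 379, 412, 233, 445, 208, 253, 96, 35, 124, 228, 28, 439, 63, 347, 332, 132, 360, 247, 156, 248, 37, 352, 388, 505, 299, 491, 179, 433, 275, 123, 297, 223, 100, 85, 425, 109, 169, 261, 397, 68, 448, 55, 477, 23, 264, 88, 188, 400, 244, 21, 73, 24, 168, 173, 353, 44, 77, 120, 241, 385, 104, 475, 221, 225, 36, 480, 327, 460, 375, 144, 269, 183, 287, 139, 48, 121, 255, 220, 301, 407, 356, 204, 245, 421, 348, 377, 279, 31, 97, 277, 408, 331, 355, 117, 152, 43, 192, 39, 99, 57, 163, 257, 288, 171, 67, 29, 317, 289, 113, 252, 376, 365, 216, 219, 131, 141, 315, 191, 159,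 361, 231, 187, 351, 52, 260, 60, 81, 185, 196, 323, 93, 476, 429, 128, 167, 383, 40, 7, 105, 61, 497, 511, 161, 484, 343, 229, 213, 372, 256, 364, 293, 157, 268, 65, 337, 147, 363, 224, 369, 404, 45, 209, 263, 89, 307, 53, 211, 401, 344, 189, 308, 373, 311, 492, 396, 127, 148, 108, 504, 479, 405, 467, 64, 456, 393, 107, 125, 345, 41, 47, 239, 415, 283, 367, 259, 160, 507, 349, 19, 503, 111, 12, 91, 200, 413, 471, 399, 227, 403, 9, 271, 145, 1, 3, 155, 473, 207, 84, 441, 340, 427, 452, 395, 267, 440, 455, 319, 411, 17, 115, 71, 281, 69, 496, 339, 92, 380, 13, 149, 195, 303, 464, 181, 212, 5, 76, 304, 420, 424, 501, 357, 468, 459, 483, 8, 87, 371, 313, 272, 300, 235, 143, 493, 165, 265, 472, 391, 359, 232, 423, 193, 205, 273, 83, 419, 316, 112, 508, 180, 485, 416, 481, 436, 237, 197, 153, 203, 320, 409, 437, 79, 431, 389, 295, 336, 333, 324, 236, 495, 101, 136, 305, 341, 75, 488, 243, 435, 328, 56, 201, 175, 119, 335, 4, 95, 215, 284, 499, 49, 489, 381, 27, 387, 432, 103, 461, 164, 392, 11, 280, 500, 116, 140, 251, 469,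 312, 325, 133, 137, 172, 72, 240, 177, 15, 449, 199, 292, 451, 368, 151, 463, 457, 249, 80, 51, 285, 16, 59, 487, 176, 384, 329, 135, 428, 321, 25, 465, 509]

/-- The overlaps. -/
def threeJ3Overlaps : List (List ℕ × List Schur.Tails.Step × List Schur.Tails.Step) := [
  ([0, 1, 2], [(0, 5, true), (6, 6, true), (5, 9, true), (3, 2, true)], [(1, 9, true), (0, 6, true), (1, 5, true), (0, 13, true), (1, 12, true), (2, 12, true), (3, 2, true)]),
  ([0, 1, 3], [(0, 5, true), (6, 7, true), (5, 10, true), (4, 13, true), (3, 13, true), (2, 14, true), (1, 14, true), (5, 13, true), (4, 13, true), (3, 14, true), (2, 14, true), (0, 4, true), (4, 9, true), (2, 2, true)], [(1, 10, true), (0, 8, true), (3, 8, true), (2, 13, true), (1, 13, true), (2, 2, true), (3, 5, true), (2, 13, true), (0, 4, true), (0, 12, true), (1, 12, true), (2, 2, true)]),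
  ([0, 1, 4], [(0, 5, true), (6, 8, true), (5, 11, true), (4, 13, true), (3, 13, true), (2, 14, true), (1, 14, true), (5, 13, true), (4, 13, true), (3, 14, true), (2, 14, true), (0, 4, true), (3, 12, true), (2, 12, true), (0, 3, true), (2, 9, true), (0, 2, true), (0, 9, true)], [(1, 11, true), (0, 8, true), (3, 8, true), (2, 13, true), (1, 13, true), (2, 2, true), (3, 7, true), (2, 12, true), (5, 5, true), (4, 13, true), (3, 13, true), (2, 14, true), (0, 4, true), (2, 12, true), (1, 12, true), (3, 12, true), (2, 12, true), (0, 3, true), (0, 2, true)]),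
  ([0, 3, 4], [(0, 7, true), (2, 8, true), (1, 13, true), (0, 14, true), (2, 2, true)], [(1, 14, true), (0, 8, true), (3, 7, true), (2, 12, true), (1, 12, true), (2, 2, true)]),
  ([0, 0, 0, 0], [(0, 0, true)], [(1, 0, true), (0, 8, true), (3, 7, true), (2, 12, true), (1, 12, true), (2, 2, true), (2, 6, true)]),
  ([0, 0, 0, 1], [(0, 0, true)], [(2, 5, true), (1, 8, true), (0, 8, true), (3, 6, true), (1, 2, true), (1, 6, true), (3, 7, true), (2, 7, true), (1, 12, true), (4, 6, true), (2, 2, true), (3, 7, true), (2, 7, true), (4, 6, true), (6, 6, true), (5, 6, true), (3, 2, true), (4, 6, true), (3, 6, true), (5, 5, true), (4, 8, true), (3, 13, true), (2, 14, true), (1, 14, true), (4, 2, true), (4, 7, true), (2, 3, true), (3, 7, true), (2, 12, true), (5, 6, true), (3, 2, true), (3, 6, true), (4, 5, true), (3, 13, true), (2, 14, true), (0, 4, true), (1, 12, true), (2, 12, true), (0, 3, true), (0, 2, true), (1, 0, true), (0, 11, true), (3, 10, true), (2, 14, true), (0, 4, true), (0, 14, true), (2, 9, true)]),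
  ([0, 1, 1, 1], [(0, 5, true), (6, 5, true), (5, 11, true), (4, 13, true), (3, 13, true), (2, 14, true), (1, 14, true), (5, 13, true), (4, 13, true), (3, 14, true), (2, 14, true), (0, 4, true), (3, 12, true), (2, 12, true), (0, 3, true), (2, 10, true), (1, 13, true), (0, 13, true), (2, 13, true), (1, 13, true), (4, 10, true), (3, 13, true), (2, 13, true), (0, 4, true), (1, 13, true), (0, 13, true), (3, 9, true), (1, 2, true), (1, 9, true), (4, 5, true), (3, 11, true), (2, 11, true), (1, 13, true), (2, 13, true), (0, 4, true), (0, 12, true), (2, 11, true), (1, 13, true), (0, 14, true), (2, 13, true), (1, 14, true), (3, 12, true), (5, 10, true), (4, 13, true), (3, 14, true), (2, 14, true), (0, 4, true), (2, 13, true), (1, 14, true), (0, 14, true), (5, 10, true), (4, 11, true), (3, 13, true), (2, 14, true), (1, 14, true), (4, 13, true), (3, 14, true), (2, 14, true), (0, 4, true), (2, 12, true), (0, 3, true), (1, 11, true), (0, 13, true), (1, 13, true), (2, 12, true), (5, 10, true), (4, 11, true), (3, 13, true), (2, 14,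 true), (0, 4, true), (1, 13, true), (0, 14, true), (2, 12, true), (4, 11, true), (3, 13, true), (2, 14, true), (1, 14, true), (4, 13, true), (3, 14, true), (2, 14, true), (0, 4, true), (2, 12, true), (0, 3, true), (2, 9, true), (1, 9, true), (3, 9, true), (2, 9, true), (0, 2, true), (0, 1, true)], [(1, 1, true), (0, 8, true), (3, 8, true), (2, 13, true), (1, 13, true), (2, 2, true), (3, 7, true), (2, 12, true), (5, 7, true), (4, 12, true), (3, 12, true), (4, 2, true), (4, 6, true)]),
  ([0, 0, 0, 2], [(0, 0, true)], [(2, 6, true), (1, 6, true), (0, 6, true), (1, 0, true), (0, 13, true), (1, 12, true)]),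
  ([0, 3, 3, 3], [(0, 7, true), (2, 7, true), (1, 12, true), (4, 7, true), (3, 12, true), (2, 12, true), (0, 3, true), (0, 2, true)], [(1, 3, true)]),
  ([1, 1, 1, 1], [(0, 1, true)], [(1, 1, true), (0, 11, true), (3, 11, true), (2, 14, true), (0, 4, true), (0, 14, true), (3, 10, true), (2, 14, true), (1, 14, true), (3, 14, true), (2, 14, true), (0, 4, true), (2, 10, true), (1, 14, true), (0, 14, true), (2, 14, true), (1, 14, true), (4, 9, true)])]

/-- A conjugation. -/
def threeJ3Fus0 : Schur.Tails.Fus where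
  xs := [[4, 4, 3, 2, 2, 0, 0], [4, 2, 2, 1, 1], [4, 4, 3, 2, 2], [4, 3], [4, 4, 2, 2]]
  ys := [[3, 2, 1, 1], [3, 3, 2, 2, 1, 0, 0], [4, 3, 3, 2, 2], [4, 3, 2], [4, 2, 2]]
  rels := [
    ([0, 0, 0], [4, 4, 2, 2], [(6, 8, true), (5, 8, true), (4, 13, true), (3, 13, true), (2, 14, true), (0, 4, true), (1, 2, true), (2, 6, true), (3, 6, true), (1, 2, true), (2, 8, true), (1, 8, true), (0, 14, true), (4, 6, true), (2, 2, true), (2, 6, true), (4, 7, true), (3, 7, true), (2, 12, true), (5, 6, true), (3, 2, true), (4, 6, true), (3, 6, true), (5, 6, true), (4, 6, true), (5, 0, true), (4, 13, true), (3, 13, true), (2, 14, true), (1, 14, true), (5, 12, true), (4, 12, true), (2, 3, true), (2, 2, true), (2, 8, true), (0, 4, true), (2, 8, true), (1, 13, true), (0, 13, true), (1, 2, true), (2, 7, true), (1, 12, true), (4, 6, true), (2, 2, true), (2, 6, true), (3, 0, true), (2, 13, true), (1, 14, true), (3, 12, true), (1, 14, false), (0, 14, false), (1, 2, false), (0, 12, false), (0, 4, false), (2, 13, false), (1, 13, false), (1,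 2, false), (0, 13, false), (1, 13, false), (0, 4, false), (2, 13, false), (3, 13, false)], [(3, 10, true), (2, 11, true), (1, 13, true), (0, 14, true), (2, 13, true), (1, 14, true), (3, 12, true), (5, 11, true), (4, 13, true), (3, 14, true), (2, 14, true), (0, 4, true), (2, 13, true), (1, 14, true), (0, 14, true), (3, 12, true), (1, 3, true), (3, 9, true), (2, 9, true), (3, 1, true), (2, 13, true), (1, 13, true), (3, 13, true), (2, 13, true), (0, 4, true), (1, 12, true), (0, 12, true), (2, 12, true), (1, 12, true), (2, 2, true), (2, 10, true), (1, 14, true), (0, 14, true), (2, 14, true), (1, 14, true), (4, 9, true), (5, 1, true), (4, 13, true), (3, 14, true), (2, 14, true), (0, 4, true), (2, 13, true), (1, 14, true), (0, 14, true), (3, 12, true), (1, 3, true), (1, 12, true), (1, 3, false), (0, 14, false), (1, 14, false), (2, 2, false), (1, 12, false), (0, 12, false), (0, 4, false), (2, 13, false), (2, 2, false), (1, 13, false), (2, 13, false)]),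
    ([1, 1, 1], [4, 4, 3, 3, 2, 2], [(4, 11, true), (3, 11, true), (2, 13, true), (1, 13, true), (3, 13, true), (2, 13, true), (0, 4, true), (1, 12, true), (0, 12, true), (3, 11, true), (2, 13, true), (1, 13, true), (0, 14, true), (3, 13, true), (2, 13, true), (1, 14, true), (4, 12, true), (3, 12, true), (6, 10, true), (5, 13, true), (4, 13, true), (3, 14, true), (2, 14, true), (0, 4, true), (3, 13, true), (2, 13, true), (1, 14, true), (0, 14, true), (6, 9, true), (5, 9, true), (3, 2, true), (4, 9, true), (3, 9, true), (4, 1, true), (3, 13, true), (2, 14, true), (1, 14, true), (4, 13, true), (3, 14, true), (2, 14, true), (0, 4, true), (2, 12, true), (0, 3, true), (0, 12, true), (3, 11, true), (2, 13, true), (1, 13, true), (0, 14, true), (3, 13, true), (2, 13, true), (1, 14, true), (4, 12, true), (3, 12, true), (6, 9, true), (4, 2, true), (4, 9, true), (5, 1, true), (4, 13, true), (3, 14, true), (2, 14, true), (0, 4, true), (2, 13, true), (1, 14, true), (0, 14, true), (3, 12, true), (1, 3, true), (1, 12, true), (0, 4,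 false), (2, 2, false), (2, 3, false), (4, 12, false), (1, 14, false), (2, 14, false), (3, 13, false), (0, 14, false), (1, 14, false), (2, 13, false), (1, 12, false), (0, 4, false), (2, 14, false), (3, 13, false), (2, 12, false), (1, 13, false), (1, 2, false), (0, 13, false), (1, 13, false), (0, 4, false), (2, 13, false), (3, 13, false)], [(6, 7, true), (5, 7, true), (4, 10, true), (3, 13, true), (2, 13, true), (1, 14, true), (0, 14, true), (4, 13, true), (3, 13, true), (2, 14, true), (1, 14, true), (6, 9, true), (4, 2, true), (5, 6, true), (4, 9, true), (7, 7, true), (6, 7, true), (5, 10, true), (4, 13, true), (3, 14, true), (2, 14, true), (0, 4, true), (2, 13, true), (1, 14, true), (0, 14, true), (4, 9, true), (6, 6, true), (5, 9, true), (3, 2, true), (5, 6, true), (4, 6, true), (3, 9, true), (6, 6, true), (5, 6, true), (4, 9, true), (7, 5, true), (6, 8, true), (5, 11, true), (4, 13, true), (3, 13, true), (2, 14, true), (1, 14, true), (5, 13, true), (4, 13, true), (3, 14, true), (2, 14, true), (0, 4, true), (3, 12,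 true), (2, 12, true), (0, 3, true), (2, 9, true), (0, 2, true), (0, 9, true), (2, 7, true), (1, 10, true), (0, 13, true), (1, 13, true), (3, 9, true), (5, 7, true), (4, 10, true), (3, 13, true), (2, 13, true), (0, 4, true), (1, 13, true), (0, 13, true), (3, 9, true), (1, 2, true), (2, 6, true), (1, 9, true), (3, 6, true), (2, 9, true), (4, 5, true), (3, 11, true), (2, 13, true), (1, 13, true), (3, 13, true), (2, 13, true), (0, 4, true), (1, 12, true), (0, 12, true), (3, 10, true), (2, 13, true), (1, 13, true), (0, 14, true), (3, 13, true), (2, 13, true), (1, 14, true), (5, 10, true), (4, 13, true), (3, 13, true), (2, 14, true), (0, 4, true), (2, 13, true), (1, 13, true), (0, 14, true), (4, 9, true), (2, 2, true), (2, 9, true), (5, 0, true), (4, 11, true), (3, 11, true), (2, 13, true), (1, 14, true), (3, 13, true), (2, 14, true), (0, 4, true), (1, 12, true), (3, 11, true), (2, 13, true), (1, 14, true), (0, 14, true), (3, 13, true), (2, 14, true), (1, 14, true), (4, 12, true), (2, 3, true), (3, 10, true), (2, 13, true),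 (0, 4, true), (0, 13, true), (3, 10, true), (2, 11, true), (1, 13, true), (2, 13, true), (0, 4, true), (0, 12, true), (2, 11, true), (1, 13, true), (0, 14, true), (2, 13, true), (1, 14, true), (3, 12, true), (6, 9, true), (5, 9, true), (8, 7, true), (7, 10, true), (6, 11, true), (5, 13, true), (4, 13, true), (3, 14, true), (2, 14, true), (0, 4, true), (3, 13, true), (2, 13, true), (1, 14, true), (0, 14, true), (4, 12, true), (3, 12, true), (1, 3, true), (3, 11, true), (2, 13, true), (1, 13, true), (3, 13, true), (2, 13, true), (0, 4, true), (1, 12, true), (0, 12, true), (4, 9, true), (3, 9, true), (1, 2, true), (3, 7, true), (2, 10, true), (1, 11, true), (0, 14, true), (1, 14, true), (4, 11, true), (3, 14, true), (2, 14, true), (0, 4, true), (1, 14, true), (0, 14, true), (1, 3, true), (2, 9, true), (1, 9, true), (4, 6, true), (3, 9, true), (2, 9, true), (5, 6, true), (4, 9, true), (3, 9, true), (1, 2, true), (3, 5, true), (2, 11, true), (1, 11, true), (0, 4, true), (1, 11, true), (0, 14, true), (1, 14, true), (4, 10,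 true), (3, 14, true), (2, 14, true), (0, 4, true), (1, 14, true), (0, 14, true), (4, 10, true), (3, 11, true), (2, 14, true), (1, 14, true), (3, 14, true), (2, 14, true), (0, 4, true), (0, 3, true), (0, 11, true), (4, 10, true), (3, 11, true), (2, 14, true), (0, 4, true), (0, 14, true), (3, 11, true), (2, 14, true), (1, 14, true), (3, 14, true), (2, 14, true), (0, 4, true), (0, 3, true), (1, 9, true), (0, 9, true), (2, 9, true), (1, 9, true), (2, 1, true), (1, 13, true), (0, 13, true), (2, 13, true), (1, 13, true), (3, 12, true), (2, 12, true), (4, 12, true), (3, 12, true), (4, 2, true), (4, 0, true), (3, 14, true), (2, 14, true), (0, 4, true), (0, 3, true), (0, 2, false), (0, 3, false), (2, 12, false), (3, 12, false), (1, 12, false), (2, 12, false), (0, 4, false), (2, 14, false), (3, 13, false), (4, 13, false), (2, 3, false), (1, 14, false), (2, 14, false), (3, 2, false), (2, 12, false), (3, 12, false), (0, 14, false), (1, 13, false), (2, 13, false), (0, 12, false), (0, 4, false), (2, 13, false), (2, 2, false), (1,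 13, false), (2, 13, false)]),
    ([2, 2, 2], [], [(4, 13, true), (3, 13, true), (2, 14, true), (0, 4, true), (2, 13, true), (1, 13, true), (0, 14, true), (3, 12, true), (2, 12, true), (3, 2, true), (3, 13, true), (2, 14, true), (1, 14, true), (4, 13, true), (3, 14, true), (2, 14, true), (0, 4, true), (2, 12, true), (0, 3, true), (0, 2, true)], [(4, 13, true), (3, 13, true), (2, 14, true), (1, 14, true), (5, 12, true), (4, 12, true), (2, 3, true), (3, 12, true), (2, 12, true), (3, 2, true), (3, 13, true), (2, 14, true), (0, 4, true), (1, 12, true), (2, 12, true), (0, 3, true), (0, 2, true)]),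
    ([0, 1], [4, 3, 1, 0], [(6, 8, true), (5, 8, true), (4, 13, true), (3, 13, true), (2, 14, true), (0, 4, true), (1, 2, true), (2, 6, true), (3, 6, true), (1, 2, true), (2, 6, true), (1, 6, true), (3, 6, true), (2, 6, true), (4, 5, true), (3, 8, true), (2, 13, true), (1, 13, true), (0, 14, true), (2, 2, true), (3, 7, true), (2, 12, true), (5, 7, true), (4, 12, true), (3, 12, true), (1, 3, true), (1, 2, true), (1, 6, true), (2, 6, true), (3, 5, true), (2, 13, true), (1, 13, true), (3, 12, true), (2, 12, true), (4, 12, true), (3, 12, true), (4, 2, true), (7, 5, true), (6, 8, true), (5, 11, true), (4, 13, true), (3, 14, true), (2, 14, true), (0, 4, true), (2, 13, true), (1, 14, true), (0, 14, true), (3, 12, true), (1, 3, true), (2, 9, true), (3, 9, true), (1, 2, true), (2, 7, true), (1, 10, true), (0, 4, true), (0, 9, true), (2, 7, true), (1, 10, true), (0, 13, true), (1, 13, true), (3, 9, true), (5, 6, true), (4, 9, true), (2, 2, true), (3, 6, true), (2, 9, true), (4, 5, true), (3, 11, true), (2, 13, true), (0, 4, true),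 (0, 13, true), (1, 12, true), (3, 10, true), (2, 13, true), (1, 14, true), (3, 13, true), (2, 14, true), (0, 4, true), (2, 10, true), (1, 13, true), (0, 14, true), (2, 13, true), (1, 14, true), (4, 9, true), (5, 9, true), (3, 2, true), (3, 2, false), (5, 9, false), (6, 9, false), (4, 9, false), (5, 9, false), (2, 12, false), (1, 13, false), (0, 13, false), (1, 11, false), (0, 3, false), (2, 12, false), (0, 4, false), (2, 14, false), (3, 14, false), (4, 13, false), (1, 14, false), (2, 14, false), (3, 13, false), (4, 11, false), (5, 10, false), (0, 14, false), (1, 14, false), (2, 13, false), (0, 4, false), (2, 14, false), (3, 14, false), (4, 13, false), (5, 10, false), (3, 12, false), (1, 14, false), (2, 13, false), (0, 14, false), (1, 13, false), (2, 11, false), (0, 12, false), (0, 4, false), (2, 13, false), (1, 13, false), (2, 11, false), (3, 11, false), (0, 13, false), (0, 4, false), (2, 13, false), (3, 10, false), (2, 3, false), (4, 12, false), (1, 14, false), (2, 14, false), (3, 13, false), (0, 14, false), (1, 14,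 false), (2, 13, false), (3, 11, false), (1, 12, false), (0, 4, false), (2, 14, false), (3, 13, false), (1, 14, false), (2, 13, false), (3, 11, false), (4, 11, false), (2, 2, false), (0, 14, false), (1, 13, false), (2, 13, false), (0, 12, false), (1, 12, false), (0, 4, false), (2, 13, false), (3, 13, false)], [(3, 10, true), (2, 11, true), (1, 13, true), (0, 14, true), (2, 13, true), (1, 14, true), (3, 12, true), (5, 11, true), (4, 13, true), (3, 14, true), (2, 14, true), (0, 4, true), (2, 13, true), (1, 14, true), (0, 14, true), (3, 12, true), (1, 3, true), (3, 10, true), (2, 11, true), (1, 13, true), (2, 13, true), (0, 4, true), (0, 12, true), (2, 11, true), (1, 13, true), (0, 14, true), (2, 13, true), (1, 14, true), (3, 12, true), (6, 9, true), (5, 9, true), (7, 9, true), (6, 9, true), (4, 2, true), (4, 1, true), (3, 14, true), (2, 14, true), (0, 4, true), (1, 14, true), (0, 14, true), (1, 3, true), (1, 3, false), (0, 14, false), (1, 14, false), (0, 4, false), (2, 14, false), (3, 14, false), (4, 1, false), (4, 2, false),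 (6, 9, false), (7, 9, false), (5, 9, false), (6, 9, false), (3, 12, false), (1, 14, false), (2, 13, false), (0, 14, false), (1, 13, false), (2, 11, false), (0, 12, false), (0, 4, false), (2, 13, false), (1, 13, false), (2, 11, false), (3, 10, false), (1, 3, false), (3, 12, false), (0, 14, false), (1, 14, false), (2, 13, false), (0, 4, false), (2, 14, false), (3, 14, false), (4, 13, false), (5, 11, false), (3, 12, false), (1, 14, false), (2, 13, false), (0, 14, false), (1, 13, false), (2, 11, false), (3, 10, false), (0, 4, false), (2, 14, false), (3, 13, false), (1, 14, false), (2, 13, false), (3, 10, false), (1, 12, false), (0, 13, false), (0, 4, false), (2, 13, false), (3, 11, false), (2, 3, false), (4, 12, false), (1, 14, false), (2, 14, false), (3, 13, false), (0, 14, false), (1, 14, false), (2, 13, false), (3, 11, false), (4, 11, false), (5, 5, false), (2, 9, false), (3, 9, false), (4, 6, false), (2, 2, false), (4, 9, false), (5, 9, false), (6, 6, false), (3, 9, false), (4, 9, false), (1, 12, false), (0, 4, false),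 (2, 14, false), (3, 13, false), (1, 14, false), (2, 13, false), (3, 11, false), (1, 12, false), (0, 13, false), (0, 4, false), (2, 13, false), (3, 11, false), (4, 10, false), (5, 7, false), (2, 9, false), (3, 9, false), (2, 3, false), (1, 14, false), (2, 14, false), (0, 14, false), (1, 14, false), (2, 11, false), (0, 4, false), (2, 14, false), (1, 14, false), (2, 11, false), (3, 10, false), (4, 7, false), (2, 2, false), (4, 9, false), (5, 9, false), (3, 9, false), (4, 9, false), (0, 14, false), (1, 13, false), (0, 4, false), (2, 14, false), (3, 13, false), (4, 10, false), (2, 12, false), (1, 13, false), (0, 13, false), (1, 11, false), (0, 3, false), (2, 12, false), (0, 4, false), (2, 14, false), (3, 14, false), (4, 13, false), (1, 14, false), (2, 14, false), (3, 13, false), (4, 11, false), (5, 11, false), (6, 8, false), (7, 5, false), (3, 9, false), (3, 2, false), (5, 9, false), (0, 14, false), (1, 14, false), (2, 13, false), (3, 13, false), (0, 4, false), (2, 14, false), (3, 14, false), (4, 13, false), (5, 13, false),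 (6, 10, false), (1, 14, false), (2, 14, false), (3, 13, false), (4, 13, false), (0, 14, false), (1, 14, false), (2, 13, false), (3, 13, false), (4, 10, false), (1, 12, false), (2, 12, false), (0, 4, false), (2, 14, false), (3, 13, false), (4, 13, false), (1, 14, false), (2, 13, false), (3, 13, false), (4, 11, false), (5, 5, false), (3, 9, false), (4, 6, false), (2, 9, false), (3, 6, false), (2, 2, false), (4, 9, false), (0, 14, false), (1, 13, false), (2, 13, false), (0, 4, false), (2, 14, false), (3, 13, false), (4, 13, false), (5, 10, false), (6, 7, false), (4, 9, false), (1, 14, false), (2, 13, false), (0, 14, false), (1, 13, false), (2, 10, false), (3, 7, false), (1, 9, false), (1, 2, false), (3, 9, false), (0, 12, false), (1, 12, false), (0, 4, false), (2, 13, false), (3, 13, false), (1, 13, false), (2, 13, false), (3, 11, false), (4, 8, false), (5, 5, false), (2, 9, false), (3, 6, false), (4, 6, false), (1, 9, false), (2, 6, false), (1, 2, false), (3, 9, false), (0, 13, false), (1, 13, false), (0, 4, false), (2,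 13, false), (3, 13, false), (4, 10, false), (5, 7, false), (6, 7, false), (2, 3, false), (3, 2, false), (2, 12, false), (3, 12, false), (1, 13, false), (2, 13, false)]),
    ([0, 2], [4, 3, 3, 2, 2, 0], [(6, 8, true), (5, 8, true), (4, 13, true), (3, 13, true), (2, 14, true), (0, 4, true), (1, 2, true), (2, 6, true), (3, 6, true), (1, 2, true), (2, 8, true), (1, 8, true), (0, 14, true), (4, 6, true), (2, 2, true), (2, 6, true), (4, 7, true), (3, 7, true), (2, 12, true), (5, 6, true), (3, 2, true), (4, 6, true), (3, 6, true), (5, 6, true), (4, 6, true), (0, 14, false), (0, 4, false), (2, 14, false), (3, 2, false), (2, 12, false), (1, 13, false), (0, 13, false), (0, 2, false), (0, 3, false), (2, 12, false), (3, 12, false), (0, 4, false), (2, 14, false), (3, 14, false), (4, 13, false), (5, 13, false), (1, 14, false), (2, 14, false), (3, 13, false), (4, 13, false), (2, 12, false), (3, 12, false), (0, 14, false), (1, 13, false), (2, 13, false), (0, 12, false), (1, 12, false), (0, 4, false), (2, 13, false), (3, 13, false)],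 [(3, 11, true), (2, 11, true), (1, 13, true), (0, 14, true), (2, 13, true), (1, 14, true), (3, 12, true), (5, 11, true), (4, 13, true), (3, 14, true), (2, 14, true), (0, 4, true), (2, 13, true), (1, 14, true), (0, 14, true), (3, 12, true), (1, 3, true), (2, 10, true), (1, 13, true), (2, 13, true), (0, 4, true), (2, 10, true), (1, 11, true), (0, 13, true), (1, 13, true), (2, 12, true), (4, 11, true), (3, 13, true), (2, 14, true), (0, 4, true), (1, 13, true), (0, 14, true), (2, 12, true), (5, 10, true), (4, 11, true), (3, 13, true), (2, 14, true), (1, 14, true), (4, 13, true), (3, 14, true), (2, 14, true), (0, 4, true), (2, 12, true), (0, 3, true), (1, 11, true), (0, 13, true), (1, 13, true), (2, 12, true), (5, 9, true), (4, 9, true), (6, 9, true), (5, 9, true), (3, 2, true), (3, 2, false), (2, 12, false), (3, 12, false), (2, 3, false), (1, 14, false), (2, 2, false), (1, 12, false), (1, 3, false), (3, 12, false), (0, 14, false), (1, 14, false), (2, 13, false), (0, 4, false), (2, 14, false), (3, 2, false), (2, 12, false),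 (3, 12, false), (1, 13, false), (2, 13, false)]),
    ([1, 2], [3, 3, 2, 1], [(4, 11, true), (3, 11, true), (2, 13, true), (1, 13, true), (3, 13, true), (2, 13, true), (0, 4, true), (1, 12, true), (0, 12, true), (3, 11, true), (2, 13, true), (1, 13, true), (0, 14, true), (3, 13, true), (2, 13, true), (1, 14, true), (4, 12, true), (3, 12, true), (6, 10, true), (5, 13, true), (4, 13, true), (3, 14, true), (2, 14, true), (0, 4, true), (3, 13, true), (2, 13, true), (1, 14, true), (0, 14, true), (6, 11, true), (5, 11, true), (4, 13, true), (3, 13, true), (2, 14, true), (1, 14, true), (5, 13, true), (4, 13, true), (3, 14, true), (2, 14, true), (0, 4, true), (3, 12, true), (2, 12, true), (0, 3, true), (2, 11, true), (1, 13, true), (0, 13, true), (2, 13, true), (1, 13, true), (3, 12, true), (2, 12, true), (5, 10, true), (4, 13, true), (3, 13, true), (2, 14, true), (0, 4, true), (2, 13, true), (1, 13, true), (0, 14, true), (5, 10, true), (4, 11, true), (3, 13, true), (2, 13, true), (1, 14, true), (4, 13, true), (3, 13, true),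 (2, 14, true), (0, 4, true), (2, 12, true), (1, 12, true), (4, 11, true), (3, 13, true), (2, 13, true), (1, 14, true), (0, 14, true), (4, 13, true), (3, 13, true), (2, 14, true), (1, 14, true), (5, 12, true), (4, 12, true), (2, 3, true), (5, 9, true), (4, 9, true), (2, 2, true), (3, 9, true), (2, 9, true), (2, 2, false), (1, 13, false), (2, 13, false), (1, 3, false), (0, 14, false), (1, 14, false), (0, 4, false), (2, 14, false), (3, 14, false), (1, 14, false)], [(6, 8, true), (5, 8, true), (4, 11, true), (3, 13, true), (2, 13, true), (1, 14, true), (0, 14, true), (4, 13, true), (3, 13, true), (2, 14, true), (1, 14, true), (5, 12, true), (4, 12, true), (2, 3, true), (4, 9, true), (2, 2, true), (2, 9, true), (4, 6, true), (3, 9, true), (5, 6, true), (4, 9, true), (2, 2, true), (4, 7, true), (3, 7, true), (2, 10, true), (0, 4, true), (1, 9, true), (3, 6, true), (2, 9, true), (5, 7, true), (4, 7, true), (3, 10, true), (2, 13, true), (1, 13, true), (3, 13, true), (2, 13, true), (0, 4, true), (2, 9, true), (0, 2, true), (1,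 6, true), (0, 9, true), (3, 6, true), (2, 6, true), (1, 9, true), (4, 6, true), (3, 6, true), (2, 9, true), (0, 2, true), (0, 2, false), (0, 3, false), (2, 12, false), (1, 12, false), (1, 2, false), (0, 12, false), (1, 12, false), (0, 3, false), (2, 12, false), (3, 12, false), (0, 4, false), (2, 14, false), (3, 14, false), (4, 13, false), (5, 13, false), (3, 12, false), (1, 14, false), (2, 13, false)])]

/-- The certificate. -/
def threeJ3Cert : Schur.Tails.Cert where
  p := 3
  q := 9
  n := 5
  rels := [
    ([0, 0, 0], [4, 3, 2]),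
    ([1, 1, 1], [4, 4, 3, 3, 2]),
    ([2, 2, 2], []),
    ([3, 3, 3], []),
    ([4, 4, 4], []),
    ([0, 1], [4, 3, 3, 2, 2, 1, 0]),
    ([0, 2], [2, 0]),
    ([0, 3], [3, 2, 0]),
    ([0, 4], [4, 2, 2, 0]),
    ([1, 2], [2, 1]),
    ([1, 3], [4, 4, 1]),
    ([1, 4], [4, 4, 3, 1]),
    ([2, 3], [3, 2]),
    ([2, 4], [4, 2]),
    ([3, 4], [4, 3])]
  overlaps := threeJ3Overlaps
  fus := [threeJ3Fus0]
  mu := [[5, 5, 0, 0, 0, 2, 0, 0, 0, 0, 0, 0, 0, 0, 0, 2, 1], [5, 0, 0, 0, 0, 7, 0, 0, 0, 0, 0, 0, 0, 0, 0, 7, 1], [8, 2, 0, 0, 0, 0, 0, 0, 0, 0, 0, 0, 0, 0, 0, 0, 3], [3, 1, 0, 0, 0, 4, 0, 0, 0, 0, 0, 0, 0, 0, 0, 3, 3], [5, 3, 0, 0, 0, 2, 0, 0, 0, 0, 0, 0, 0, 0, 0, 3, 6]]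
  combos := [
    ([], 0),
    ([], 0),
    ([(0, 6), (3, 1), (4, 3), (5, 3), (6, 6), (7, 4), (8, 4), (11, 6), (12, 3), (15, 3)], 3),
    ([(0, 8), (1, 4), (3, 1), (4, 6), (5, 4), (6, 8), (7, 4), (8, 7), (10, 6), (11, 6), (12, 6), (14, 6), (15, 6)], 3),
    ([(0, 2), (1, 7), (2, 6), (3, 1), (5, 1), (6, 2), (7, 7), (8, 7), (10, 6), (11, 3), (12, 4), (13, 6), (15, 3)], 6),
    ([], 0),
    ([(0, 3), (2, 5), (3, 4), (4, 7), (5, 2), (6, 3), (7, 8), (8, 6), (9, 6), (12, 8), (13, 3), (14, 8), (15, 4)], 8),
    ([(0, 4), (1, 6), (2, 8), (3, 5), (4, 3), (5, 7), (6, 1), (7, 5), (8, 2), (10, 6), (11, 1), (12, 4), (13, 6), (14, 2), (15, 3)], 7),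
    ([(0, 1), (1, 3), (2, 5), (3, 4), (4, 4), (5, 6), (6, 8), (7, 1), (8, 6), (9, 3), (10, 3), (11, 2), (12, 3), (14, 8), (15, 8)], 0),
    ([(0, 4), (1, 3), (2, 1), (3, 2), (4, 5), (5, 8), (6, 3), (7, 2), (8, 3), (9, 6), (12, 5), (13, 3), (14, 5), (15, 7)], 5),
    ([(0, 6), (1, 2), (2, 1), (3, 4), (4, 4), (5, 4), (6, 6), (7, 7), (8, 4), (10, 4), (11, 3), (12, 1), (13, 6), (14, 3)], 2),
    ([(0, 5), (1, 7), (3, 2), (4, 8), (5, 5), (6, 1), (7, 2), (8, 6), (9, 6), (10, 8), (11, 3), (12, 5), (13, 3), (14, 8), (15, 1)], 6),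
    ([(0, 2), (3, 2)], 0),
    ([(0, 4), (3, 5)], 0),
    ([(1, 4), (2, 7), (3, 7), (4, 3), (7, 2), (8, 5)], 0)]
  tau := [0, 0, 0, 0, 0, 0, 0, 0, 0, 0, 2, 0, 0, 0, 0, 0, 0, 2, 0, 2]
  tauCombo := [(0, 6), (3, 1), (7, 1), (9, 3), (14, 6), (15, 3)]

/-- The codes of the generators. -/
def threeJ3Gens : List ℕ := [
  0x10040800401000010000800200000000100000204,
  0x80204401020010040800000022000100,
  0x20080000802000020080100001004000040100001,
  0x20080200802008020080100400004010000000001,
  0x20000200002000020000300401004000040100401]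

/-- The codes of the conjugating elements. -/
def threeJ3Hs : List ℕ := [
  0x840000200400400800004000401000802000001]

/-- The codes the program starts from. -/
def threeJ3Base : List ℕ := [
  0x8002100101080000000040010800000000420001,
  0x6030000404000000000022126040c26c44251240,
  0x20080000802000020080100001004000040100001,
  0x20080200802008000000100401000000000100401,
  0x20080200802008020000300001004000040000400,
  0x20080200802000020080300400000000040100400,
  0x10000000400000000000000204002008100080204,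
  0x401000000000000000002000020080200c010040,
  0x20080200802008020080100400004010000000001,
  0x20080200802008020080200000000000000000000]

/-- A program for both. -/
def threeJ3Slp : List (ℕ × Bool × ℕ × ℕ) := [
  (0x100401004010040100401, true, 9, 9),
  (0x20080200802008020080300401004010040100401, false, 9, 9),
  (0x20000200002008020080000401004010000100001, false, 3, 2),
  (0x10040800401000010000800200000000100000204, false, 6, 12),
  (0x10000100401802008020080200802004010000, false, 7, 5),
  (0x80204401020010040800000022000100, false, 6, 14),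
  (0x20080000802000020080000401000010040000401, false, 2, 2),
  (0x80200800000000080300000004010040100000, false, 5, 16),
  (0x20000200002000020000300401004000040100401, false, 5, 17),
  (0x4100000410000041000000800100080010008001, false, 0, 0),
  (0x840000200400400800004000401000802000001, false, 19, 0)]

/-- The order of the products by code. -/
def threeJ3Idx : List ℕ := [0, 388, 160, 183, 687, 598, 252, 490, 424, 345, 359, 122, 81, 587, 636, 529, 559, 291, 303, 39, 78, 196, 227, 650, 727, 474, 437, 453, 485, 445, 416, 466, 405, 187, 182, 232, 228, 192, 191, 713, 664, 695, 705, 669, 682, 577, 646, 608, 629, 567, 615, 348, 356, 342, 391, 353, 394, 146, 138, 98, 114, 103, 127, 20, 10, 71, 49, 32, 61, 525, 563, 564, 494, 524, 486, 271, 317, 248, 310, 287, 268, 658, 719, 679, 698, 708, 666, 661, 690, 684, 716, 672, 656, 702, 721, 724, 653, 701, 676, 429, 428, 438, 433, 469, 473, 452, 481, 457, 477, 409, 461, 441, 449, 462, 413, 421, 417, 209, 241, 219, 201, 164, 178, 236, 210, 237, 214, 200, 223, 205, 218, 174, 169, 165,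 173, 91, 112, 101, 129, 143, 150, 134, 86, 105, 117, 110, 88, 124, 93, 158, 153, 136, 148, 593, 630, 590, 595, 601, 633, 626, 605, 618, 570, 623, 611, 640, 573, 612, 643, 580, 583, 383, 402, 340, 364, 326, 369, 329, 334, 375, 361, 332, 372, 396, 380, 337, 399, 386, 367, 245, 262, 313, 274, 284, 323, 288, 307, 281, 297, 294, 251, 277, 300, 265, 320, 258, 255, 73, 38, 43, 77, 4, 8, 56, 28, 63, 45, 33, 57, 53, 67, 14, 25, 21, 15, 536, 552, 513, 497, 548, 510, 498, 544, 517, 509, 505, 551, 502, 540, 521, 556, 537, 532, 167, 175, 215, 235, 216, 204, 171, 163, 179, 168, 239, 207, 240, 211, 203, 220, 199, 224, 190, 233, 222, 198, 170, 172, 193, 212, 230, 180, 238, 186, 229, 225, 195, 194, 206, 217, 202, 221, 177, 166, 162, 176, 242, 184, 181, 213, 226, 185, 188, 231, 189, 234, 197, 208, 651, 723, 691, 686, 655, 722, 700, 677, 668, 709, 718, 714, 660, 659, 696, 704, 673, 678, 683, 694, 703, 674, 675, 699, 707, 715, 670, 663, 711, 662, 671, 648, 726, 706, 720, 680, 654, 697, 667, 710, 725, 652, 665, 689, 685, 657, 728, 681, 717,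 688, 693, 712, 692, 649, 442, 460, 419, 411, 482, 456, 422, 471, 440, 408, 468, 448, 479, 430, 434, 463, 450, 427, 464, 465, 447, 446, 406, 478, 455, 410, 451, 420, 483, 415, 412, 432, 418, 414, 475, 407, 470, 436, 426, 484, 423, 467, 435, 458, 472, 480, 425, 476, 454, 444, 459, 439, 443, 431, 366, 338, 376, 328, 378, 398, 384, 325, 370, 401, 360, 381, 335, 404, 363, 341, 373, 331, 352, 343, 374, 330, 400, 385, 395, 333, 354, 350, 362, 390, 392, 357, 393, 347, 397, 379, 365, 339, 371, 368, 336, 324, 403, 358, 355, 389, 377, 349, 344, 387, 346, 382, 351, 327, 154, 157, 84, 119, 87, 125, 135, 149, 141, 152, 111, 106, 92, 133, 130, 95, 108, 100, 115, 97, 94, 109, 147, 137, 126, 144, 140, 107, 132, 104, 102, 128, 83, 120, 123, 99, 131, 89, 151, 142, 156, 155, 118, 82, 139, 90, 159, 121, 85, 145, 161, 96, 113, 116, 574, 622, 579, 644, 620, 603, 613, 634, 610, 589, 600, 639, 572, 591, 624, 596, 584, 632, 582, 617, 606, 641, 568, 571, 576, 609, 628, 647, 614, 625, 642, 594, 581, 627, 638, 569, 585, 602, 645, 631, 616, 637,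 597, 619, 599, 586, 604, 635, 575, 592, 588, 621, 578, 607, 539, 549, 519, 507, 500, 542, 547, 501, 514, 506, 557, 511, 531, 543, 535, 518, 553, 496, 533, 493, 487, 555, 516, 526, 523, 545, 562, 565, 503, 504, 495, 541, 560, 528, 512, 520, 566, 522, 488, 561, 491, 508, 554, 558, 538, 492, 550, 515, 534, 489, 499, 527, 530, 546, 302, 295, 256, 290, 260, 298, 264, 283, 249, 314, 275, 318, 322, 306, 263, 279, 244, 276, 278, 319, 309, 285, 267, 315, 280, 246, 266, 308, 270, 250, 259, 321, 269, 293, 247, 273, 304, 257, 253, 305, 299, 261, 272, 286, 316, 243, 312, 296, 311, 282, 292, 301, 289, 254, 16, 23, 46, 65, 58, 35, 6, 3, 26, 13, 36, 72, 29, 55, 68, 52, 75, 42, 62, 31, 51, 66, 12, 24, 11, 19, 54, 27, 50, 70, 79, 41, 69, 48, 44, 76, 34, 59, 22, 17, 5, 7, 30, 60, 40, 80, 64, 47, 74, 37, 18, 9, 1, 2]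

end CfsgLib.TailsData
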