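import Cfsg.Agent.Lib.Tails.Coded
import Cfsg.Agent.Lib.Tails.J3Data
import Cfsg.Agent.Lib.J3.Simple

/-!
# The multiplier of J3
-/

set_option autoImplicit false
set_option maxRecDepth 100000

namespace CfsgLib.Schur.Tails.J3M

open Cfsg Cfsg.Spor CfsgLib.Golay CfsgLib.TailsData Subgroup
open scoped MatrixGroups

variable {F : Type*} [Field F] (K : J3.Fld F)

theorem relsB_congr {F' : Type*} [Field F'] (K' : J3.Fld F') (Z gens : List ℕ) (c : Cert)
    (hs : List ℕ) :
    Coded.relsB (J3.ops K) Z gens c hs = Coded.relsB (J3.ops K') Z gens c hs := by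
  have hev : ∀ gs w, Coded.evO (J3.ops K) gs w = Coded.evO (J3.ops K') gs w := by
    intro gs w
    induction w with
    | nil => rfl
    | cons i w ih => show J3.mulM _ _ = J3.mulM _ _; rw [ih]; rfl
  simp only [Coded.relsB, hev]
  rfl

theorem manyB_congr {F' : Type*} [Field F'] (K' : J3.Fld F') (p : ℕ) (gens idx : List ℕ) (m : ℕ) :
    Coded.manyB (J3.ops K) p gens idx m = Coded.manyB (J3.ops K') p gens idx m := by
  have hpow : ∀ g k, Coded.powO (J3.ops K) g k = Coded.powO (J3.ops K') g k := by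
    intro g k
    induction k with
    | zero => rfl
    | succ k ih => show J3.mulM _ _ = J3.mulM _ _; rw [ih]
  have hexp : ∀ gs, Coded.expandO (J3.ops K) p gs = Coded.expandO (J3.ops K') p gs := by
    intro gs
    induction gs with
    | nil => rfl
    | cons g gs ih =>
      simp only [Coded.expandO, ih, hpow]
      rfl
  simp only [Coded.manyB, hexp]
  rfl

theorem mul_one_inj : ∀ a b, J3.okM a = true → J3.okM b = true → J3.val K a = J3.val K b →
    J3.mulM a J3.oneM = J3.mulM b J3.oneM := by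
  intro a b ha hb h
  have e := congrArg Units.val h
  rw [J3.val_coe K ha, J3.val_coe K hb] at e
  exact J3.toMat_inj K (J3.mulM_lt _ _) (J3.mulM_lt _ _) (by rw [J3.toMat_mulM, J3.toMat_mulM, e])

/-- A checked bundle of data at one prime. -/
def dataB {F : Type*} [Field F] (K : J3.Fld F) (c : Cert) (gens hs base idx pad : List ℕ)
    (stp : List (ℕ × Bool × ℕ × ℕ)) (m : ℕ) : Bool :=
  Coded.relsB (J3.ops K) J3.scalList gens c hs &&
    Coded.manyB (J3.ops K) c.p (gens ++ pad) idx m &&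
    Bsgs.slpCheck (J3.ops K) base stp &&
    (base.all fun b => J3.okM b && ([J3.codeX, J3.codeY, J3.omCode] ++
      J3.genTable.map fun e => e.2.2.1).contains b) &&
    ((gens ++ hs).all fun g => (base ++ stp.map (·.1)).contains g) &&
    (pad.all J3.scalList.contains) && decide (gens.length = c.n) &&
    decide (3 * c.p ^ c.n ≤ m)

theorem dataB_congr {F' : Type*} [Field F'] (K' : J3.Fld F') (c : Cert)
    (gens hs base idx pad : List ℕ) (stp : List (ℕ × Bool × ℕ × ℕ)) (m : ℕ) :
    dataB K c gens hs base idx pad stp m = dataB K' c gens hs base idx pad stp m := by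
  simp only [dataB, relsB_congr K K', manyB_congr K K', J3.slp_congr K K']

theorem checks : twoJ3Cert.checkB = true ∧ threeJ3Cert.checkB = true ∧
    dataB J3.K0 twoJ3Cert twoJ3Gens twoJ3Hs twoJ3Base twoJ3Idx [J3.omCode, J3.omCode] twoJ3Slp 384 =
      true ∧
    dataB J3.K0 threeJ3Cert threeJ3Gens threeJ3Hs threeJ3Base threeJ3Idx [J3.omCode] threeJ3Slp 729 =
      true := by
  refine ⟨?_, ?_, ?_, ?_⟩ <;> decide +kernel

theorem size_facts : twoJ3Cert.p = 2 ∧ twoJ3Cert.q = 2 ∧ twoJ3Cert.tau = [] ∧ twoJ3Cert.n = 7 ∧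
    threeJ3Cert.p = 3 ∧ threeJ3Cert.q = 9 ∧ threeJ3Cert.n = 5 := by
  refine ⟨?_, ?_, ?_, ?_, ?_, ?_, ?_⟩ <;> decide +kernel

/-- The group of which the multiplier is computed. -/
abbrev Q := ↥(J3.grpG K) ⧸ center ↥(J3.grpG K)

/-- The covering map. -/
abbrev π : ↥(J3.grpG K) →* Q K := QuotientGroup.mk' _

attribute [local irreducible] J3.mulM J3.okM J3.val J3.oneM J3.genTable twoJ3Cert twoJ3Gens twoJ3Hs
  twoJ3Base twoJ3Slp twoJ3Idx threeJ3Cert threeJ3Gens threeJ3Hs threeJ3Base threeJ3Slp threeJ3Idx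
  J3.codeX J3.codeY J3.omCode J3.scalList

theorem omCode_mem : J3.omCode ∈ J3.scalList := by decide +kernel

variable [Finite F]

theorem mem_base {b : ℕ}
    (hb : b ∈ [J3.codeX, J3.codeY, J3.omCode] ++ J3.genTable.map fun e => e.2.2.1) :
    J3.val K b ∈ J3.grpG K := by
  rcases List.mem_append.1 hb with h | h
  · simp only [List.mem_cons, List.not_mem_nil, or_false] at h
    rcases h with rfl | rfl | rfl
    exacts [Subgroup.subset_closure (Set.mem_insert _ _),
      Subgroup.subset_closure (Set.mem_insert_of_mem _ rfl), J3.scal_mem K omCode_mem]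
  · obtain ⟨e, he, rfl⟩ := List.mem_map.1 h
    have ht := J3.table_in_grpG
    simp only [List.all_eq_true, Bool.and_eq_true, Nat.blt_eq, Nat.beq_eq] at ht
    obtain ⟨h1, h2⟩ := ht e he
    obtain ⟨h3, h4⟩ := (J3.grpH_spec K).2.1
      [e.2.2.2.2.getD 0 0, e.2.2.2.2.getD 1 0, e.2.2.2.2.getD 2 0]
    rw [h2]
    exact (J3.val_mulM K (J3.ok_rep h1 K) h3).symm ▸ J3.decomp_mem K h1 h4

/-- A prime's certificate is realised in the quotient. -/
theorem realised {c : Cert} (hc : c.checkB = true) {gens hs base idx pad : List ℕ}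
    {stp : List (ℕ × Bool × ℕ × ℕ)} {m : ℕ}
    (h : dataB K c gens hs base idx pad stp m = true)
    (hdiv : ¬ c.p ^ (c.n + 1) ∣ 50232960) : c.Realised (Q K) := by
  simp only [dataB, Bool.and_eq_true, List.all_eq_true, List.contains_iff_mem,
    decide_eq_true_eq] at h
  obtain ⟨⟨⟨⟨⟨⟨⟨hr, hm⟩, hslp⟩, hbase⟩, hall⟩, hpad⟩, hlen⟩, hm'⟩ := h
  have hmem : ∀ g ∈ gens ++ hs, (J3.ops K).ok g = true ∧ (J3.ops K).val g ∈ J3.grpG K :=
    fun g hg => Bsgs.slp_sound (J3.ops K) _ hslp
      (fun b hb => ⟨(hbase b hb).1, mem_base K (hbase b hb).2⟩) g (hall g hg)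
  have hker : (π K).ker = center _ := QuotientGroup.ker_mk' _
  refine Coded.realised (O := J3.ops K) (π K) hc
    (fun g hg => (hmem g (List.mem_append_left _ hg)).2)
    (fun g hg => (hmem g (List.mem_append_right _ hg)).2)
    (fun z hz => ⟨J3.scal_mem K hz, (QuotientGroup.eq_one_iff _).2
      ((J3.center_eq K).2 ⟨z, hz, rfl⟩)⟩) hr (fun g hg => ?_)
    (by rwa [J3.card_quotient K])
  let K₁ : Subgroup ↥(J3.grpG K) := closure (g '' {k | k < c.n}) ⊔ center _
  have hmap : K₁.map (π K) = closure ((fun i => π K (g i)) '' {k | k < c.n}) := by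
    rw [Subgroup.map_sup, MonoidHom.map_closure, Set.image_image]
    have e : (center ↥(J3.grpG K)).map (π K) = ⊥ := by
      rw [Subgroup.map_eq_bot_iff, hker]
    rw [e, sup_bot_eq]
  have hcard : 3 * c.p ^ c.n ≤ Nat.card K₁ := by
    refine hm'.trans ?_
    rw [← Subgroup.card_map_of_injective (J3.grpG K).subtype_injective]
    refine Coded.le_card_of_manyB (O := J3.ops K) (mul_one_inj K) hm fun x hx => ?_
    rcases List.mem_append.1 hx with hx | hx
    · obtain ⟨i, hi, rfl⟩ := List.getElem_of_mem hx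
      refine ⟨(hmem _ (List.mem_append_left _ (List.getElem_mem hi))).1, ⟨g i, ?_, ?_⟩⟩
      · exact mem_sup_left (subset_closure ⟨i, show i < c.n by omega, rfl⟩)
      · show (g i : GL F9 F) = _
        rw [hg i hi, List.getD_eq_getElem _ _ hi]
    · have hs' := hpad x hx
      exact ⟨List.all_eq_true.1 J3.scalList_ok x hs', ⟨⟨_, J3.scal_mem K hs'⟩,
        mem_sup_right ((J3.center_eq K).2 ⟨x, hs', rfl⟩), rfl⟩⟩
  have h2 : Nat.card K₁ = 3 * Nat.card (K₁.map (π K)) := by
    have hle : (π K).ker ≤ K₁ := hker.le.trans le_sup_right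
    have e := Subgroup.card_mul_index ((π K).subgroupMap K₁).ker
    rw [Subgroup.index_ker, MonoidHom.range_eq_top.2 (MonoidHom.subgroupMap_surjective _ _),
      Subgroup.card_top] at e
    rw [← e]
    congr 1
    refine Eq.trans ?_ ((congrArg (fun H : Subgroup ↥(J3.grpG K) => Nat.card H) hker).trans
      (J3.card_center K))
    refine Nat.card_congr (Equiv.ofBijective (fun x => ⟨x.1.1, congrArg Subtype.val x.2⟩) ⟨?_, ?_⟩)
    · intro a b h
      exact Subtype.ext (Subtype.ext (congrArg (fun z : (π K).ker => (z : ↥(J3.grpG K))) h))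
    · rintro ⟨x, hx⟩
      exact ⟨⟨⟨x, hle hx⟩, Subtype.ext hx⟩, rfl⟩
  rw [← hmap]
  exact Nat.le_of_mul_le_mul_left (h2 ▸ hcard) (by norm_num)

theorem squarefree_rest : Squarefree (5 * 17 * 19) := by
  have e : ∀ p : ℕ, p.Prime → Squarefree p := fun p hp => hp.squarefree
  rw [Nat.squarefree_mul (by norm_num), Nat.squarefree_mul (by norm_num)]
  exact ⟨⟨e _ (by norm_num), e _ (by norm_num)⟩, e _ (by norm_num)⟩

theorem bound {Γ : Type*} [Group Γ] [Finite Γ] (σ : Γ →* Q K) (hσ : Cfsg.IsStemExtension σ) :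
    IsCyclic σ.ker ∧ Nat.card σ.ker ∣ 3 := by
  obtain ⟨c2, c3, d2, d3⟩ := checks
  obtain ⟨fp, fq, ft, fn, gp, gq, gn⟩ := size_facts
  have hne : ∀ p : ℕ, p.Prime → p ≠ 3 → ¬ p ∣ Nat.card σ.ker := by
    intro p hp hp3
    have := Fact.mk hp
    by_cases hp2 : p = 2
    · subst hp2
      have : Fact twoJ3Cert.p.Prime := ⟨fp ▸ hp⟩
      exact (realised K c2 ((dataB_congr K J3.K0 _ _ _ _ _ _ _ _).trans d2)
        (by rw [fp, fn]; decide)).not_dvd fp fq ft hσ
    · refine not_dvd_of_sq hσ fun hsq => ?_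
      rw [J3.card_quotient K, show (50232960 : ℕ) = (2 ^ 7 * 3 ^ 5) * (5 * 17 * 19) by norm_num] at hsq
      have hco : Nat.Coprime (p ^ 2) (2 ^ 7 * 3 ^ 5) := Nat.Coprime.mul_right
        (Nat.Coprime.pow 2 7 ((Nat.coprime_primes hp Nat.prime_two).2 hp2))
        (Nat.Coprime.pow 2 5 ((Nat.coprime_primes hp Nat.prime_three).2 hp3))
      exact hp.not_isUnit (squarefree_rest p (by rw [← pow_two]; exact hco.dvd_of_dvd_mul_left hsq))
  have h9 : ¬ 3 ^ 2 ∣ Nat.card σ.ker := by
    have : Fact (Nat.Prime 3) := ⟨Nat.prime_three⟩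
    have : Fact threeJ3Cert.p.Prime := ⟨gp ▸ Nat.prime_three⟩
    exact (realised K c3 ((dataB_congr K J3.K0 _ _ _ _ _ _ _ _).trans d3)
      (by rw [gp, gn]; decide)).sq_not_dvd gp (by rw [gq]) hσ
  have hdvd : Nat.card σ.ker ∣ 3 := by
    rw [Nat.dvd_iff_prime_pow_dvd_dvd]
    intro p k hp hpk
    rcases Nat.eq_zero_or_pos k with rfl | hk
    · simp
    obtain rfl : p = 3 := by
      by_contra hne3
      exact hne p hp hne3 ((dvd_pow_self p hk.ne').trans hpk)
    have : k ≤ 1 := by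
      by_contra hcon
      exact h9 ((pow_dvd_pow 3 (by omega)).trans hpk)
    exact (pow_dvd_pow 3 this).trans (by norm_num)
  refine ⟨?_, hdvd⟩
  rcases (Nat.dvd_prime Nat.prime_three).1 hdvd with h | h
  · have : Subsingleton σ.ker := (Nat.card_eq_one_iff_unique.1 h).1
    infer_instance
  · have : Fact (Nat.Prime 3) := ⟨Nat.prime_three⟩
    exact isCyclic_of_prime_card (p := 3) h

theorem multiplier_J3 : Cfsg.HasCyclicSchurMultiplier (Q K) 3 := by
  have : Finite (GL F9 F) := inferInstance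
  refine hasCyclic_of_bound ⟨↥(J3.grpG K), inferInstance, inferInstance, π K,
    ⟨QuotientGroup.mk'_surjective _, ?_, ?_⟩, ?_⟩ fun Γ _ _ σ hσ => bound K σ hσ
  · rw [QuotientGroup.ker_mk']
  · rw [QuotientGroup.ker_mk', J3.grpG_perfect]
    exact le_top
  · have : Fact (Nat.Prime 3) := ⟨Nat.prime_three⟩
    have hc : Nat.card (π K).ker = 3 := by rw [QuotientGroup.ker_mk', J3.card_center K]
    have := isCyclic_of_prime_card hc
    exact ⟨(zmodCyclicMulEquiv this).symm.trans
      (AddEquiv.toMultiplicative (ZMod.ringEquivCongr hc).toAddEquiv)⟩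

/-- Equal subgroups have the same quotient by the centre. -/
theorem multiplier_of_eq {G : Type*} [Group G] {A B : Subgroup G} (e : A = B) {n : ℕ}
    (h : Cfsg.HasCyclicSchurMultiplier (A ⧸ center A) n) :
    Cfsg.HasCyclicSchurMultiplier (B ⧸ center B) n := by
  subst e; exact h

end CfsgLib.Schur.Tails.J3M
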