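import Cfsg.Agent.Lib.Tails.JTwoData
import Cfsg.Agent.Lib.Tails.AltBasic
import Cfsg.Agent.Lib.Ico.J2

/-!
# The certificates for J2
-/

set_option autoImplicit false
set_option maxRecDepth 100000

namespace CfsgLib.Schur.Tails.JTwo

open CfsgLib.Golay CfsgLib.TailsData

/-- The codes of the images of the four reflections. -/
def base : List ℕ := (List.range 4).map fun k => Ico.invCode (Ico.genLine k)

/-- The coded permutations. -/
noncomputable abbrev ops : Bsgs.Ops (Equiv.Perm (Fin 100)) (Fin 100) := PermCover.ops 100 (by norm_num)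

theorem base_spec : ∀ b ∈ base, ops.ok b = true ∧ ops.val b ∈ J2.grpJ2 := fun b hb => by
  obtain ⟨k, hk, rfl⟩ := List.mem_map.1 hb
  rw [List.mem_range] at hk
  exact ⟨Ico.inv_ok (Ico.genIx ⟨k, hk⟩), Ico.invPerm_gen_mem ⟨k, hk⟩⟩

/-- The data at one prime. -/
noncomputable def primeB (c : Cert) (gens hs : List ℕ) (stp : List (ℕ × Bool × ℕ × ℕ))
    (idx : List ℕ) : Bool :=
  Coded.relsB ops [ops.one] gens c hs && Coded.manyB ops c.p gens idx (c.p ^ c.n) &&
    Bsgs.slpCheck ops base stp &&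
    ((gens ++ hs).all fun g => (base ++ stp.map (·.1)).contains g)

theorem realised {c : Cert} {gens hs idx : List ℕ} {stp : List (ℕ × Bool × ℕ × ℕ)}
    (hc : c.checkB = true) (h : primeB c gens hs stp idx = true)
    (hdiv : ¬ c.p ^ (c.n + 1) ∣ Nat.card J2.grpJ2) : c.Realised ↥J2.grpJ2 := by
  simp only [primeB, Bool.and_eq_true, List.all_eq_true, List.contains_iff_mem] at h
  obtain ⟨⟨⟨hr, hm⟩, hslp⟩, hall⟩ := h
  have hmem : ∀ g ∈ gens ++ hs, ops.ok g = true ∧ ops.val g ∈ J2.grpJ2 :=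
    fun g hg => Bsgs.slp_sound ops _ hslp base_spec g (hall g hg)
  refine Coded.realised (O := ops) (MonoidHom.id _) hc
    (fun g hg => (hmem g (List.mem_append_left _ hg)).2)
    (fun g hg => (hmem g (List.mem_append_right _ hg)).2) (fun z hz => ?_) hr (fun g hg => ?_) hdiv
  · rw [List.mem_singleton.1 hz]
    exact ⟨by rw [ops.val_one]; exact one_mem _, Subtype.ext ops.val_one⟩
  · show c.p ^ c.n ≤ Nat.card (Subgroup.closure (g '' {k | k < c.n}))
    rw [← Subgroup.card_map_of_injective J2.grpJ2.subtype_injective]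
    refine Coded.le_card_of_manyB (Alt.mul_one_inj (by norm_num)) hm fun x hx => ?_
    obtain ⟨i, hi, rfl⟩ := List.getElem_of_mem hx
    refine ⟨(hmem _ (List.mem_append_left _ (List.getElem_mem hi))).1, ⟨g i, ?_, ?_⟩⟩
    · have hlen : gens.length = c.n := by
        simp only [Coded.relsB, Bool.and_eq_true, decide_eq_true_eq] at hr
        exact hr.1.1.1.2
      exact Subgroup.subset_closure ⟨i, show i < c.n by omega, rfl⟩
    · show (g i : Equiv.Perm (Fin 100)) = _
      rw [hg i hi, List.getD_eq_getElem _ _ hi]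

theorem two_cert : twoJTwoCert.checkB = true := by decide +kernel

theorem odd_certs : threeJTwoCert.checkB = true ∧ fiveJTwoCert.checkB = true := by
  constructor <;> decide +kernel

theorem prime_data : primeB twoJTwoCert twoJTwoGens twoJTwoHs twoJTwoSlp twoJTwoIdx = true ∧
    primeB threeJTwoCert threeJTwoGens threeJTwoHs threeJTwoSlp threeJTwoIdx = true ∧
    primeB fiveJTwoCert fiveJTwoGens fiveJTwoHs fiveJTwoSlp fiveJTwoIdx = true := by
  refine ⟨?_, ?_, ?_⟩ <;> decide +kernel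

theorem sizes : (twoJTwoCert.p = 2 ∧ twoJTwoCert.q = 4 ∧ twoJTwoCert.n = 7) ∧
    (threeJTwoCert.p = 3 ∧ threeJTwoCert.q = 3 ∧ threeJTwoCert.tau = [] ∧ threeJTwoCert.n = 3) ∧
    (fiveJTwoCert.p = 5 ∧ fiveJTwoCert.q = 5 ∧ fiveJTwoCert.tau = [] ∧ fiveJTwoCert.n = 2) := by
  refine ⟨⟨?_, ?_, ?_⟩, ⟨?_, ?_, ?_, ?_⟩, ?_, ?_, ?_, ?_⟩ <;> decide +kernel

/-- A word applied to a vector of icosians. -/
def app (w : List ℕ) (x : Ico.IV) : Ico.IV :=
  w.foldr (fun k y => Ico.reflV (Ico.lineV (Ico.genLine k)) y) x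

/-- The word squares to the identity below and not above. -/
noncomputable def wordB : Bool :=
  jTwoWord.all (fun k => Nat.blt k 4) &&
    (Coded.evO ops base (jTwoWord ++ jTwoWord) == ops.one) &&
    !(app (jTwoWord ++ jTwoWord) (Ico.lineV 0) == Ico.lineV 0)

theorem word_ok : wordB = true := by decide +kernel

end CfsgLib.Schur.Tails.JTwo
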