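import Cfsg.Agent.Lib.Tails.M12CoverData
import Cfsg.Agent.Lib.MathieuOut.Groups
import Cfsg.Agent.Lib.Golay.PackPerm
import Cfsg.Prelude.Def_KGroupFacts

/-!
# The double cover of M12

The cover consists of the pairs of an element of M12 and a signed permutation of the twelve
coordinates of the ternary Golay code over it; it is presented on 48 points.
-/

set_option autoImplicit false
set_option maxRecDepth 100000
set_option maxHeartbeats 1000000

namespace CfsgLib.Schur.Tails.M12Cover

open Cfsg CfsgLib.Golay CfsgLib.M24Cert CfsgLib.MathieuOut CfsgLib.TailsData Subgroup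

theorem valid48 : validL 48 (List.range 48) = true := by decide +kernel

/-- The coded symmetric group on 48 points. -/
noncomputable def O : Bsgs.Ops (Equiv.Perm (Fin 48)) (Fin 48) :=
  PackPerm.ops 48 (by norm_num) valid48

/-- The embedding of pairs on 48 points. -/
def ι : Equiv.Perm GolayPt × Equiv.Perm (Fin 24) →* Equiv.Perm (Fin 48) :=
  (finSumFinEquiv (m := 24) (n := 24)).permCongrHom.toMonoidHom.comp
    ((Equiv.Perm.sumCongrHom (Fin 24) (Fin 24)).comp
      (MonoidHom.prodMap ptEquiv.permCongrHom.toMonoidHom (MonoidHom.id _)))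

theorem ι_injective : Function.Injective ι :=
  (finSumFinEquiv (m := 24) (n := 24)).permCongrHom.injective.comp
    (Equiv.Perm.sumCongrHom_injective.comp (fun a b h => by
      refine Prod.ext (ptEquiv.permCongrHom.injective (congrArg Prod.fst h)) (congrArg Prod.snd h :)))

/-- The part of a code on the first 24 points. -/
def lowL (A : ℕ) : List ℕ := (List.range 24).map (PackPerm.getP A)

/-- The part of a code on the last 24 points. -/
def highL (A : ℕ) : List ℕ := (List.range 24).map fun i => PackPerm.getP A (24 + i) - 24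

/-- The pair of a code. -/
noncomputable def pair (A : ℕ) : Equiv.Perm GolayPt × Equiv.Perm (Fin 24) :=
  (pL (lowL A), permOf (Equiv.refl (Fin 24)) (highL A))

/-- A code respects the two halves and lies over M12. -/
noncomputable def splitB (A : ℕ) : Bool :=
  PackPerm.okP 48 A && memG [340831] (lowL A) && validL 24 (highL A) &&
    (List.range 24).all fun i => Nat.ble 24 (PackPerm.getP A (24 + i))

theorem ι_pair {A : ℕ} (h : splitB A = true) : ι (pair A) = O.val A := by
  simp only [splitB, Bool.and_eq_true, List.all_eq_true, List.mem_range, Nat.ble_eq] at h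
  obtain ⟨⟨⟨hok, hlow⟩, hhigh⟩, hbig⟩ := h
  have hv := PackPerm.validL_of_okP hok
  have hlv : validL 24 (lowL A) = true := (m12_cut.of_test hlow).1
  refine Equiv.ext fun x => Fin.ext ?_
  show ((ι (pair A)) x).val = (permOf (Equiv.refl (Fin 48)) (PackPerm.toL 48 A) x).val
  have e := permOf_apply (Equiv.refl (Fin 48)) hv x
  simp only [Equiv.refl_apply] at e
  rw [e, PackPerm.toL_getD A x.isLt]
  obtain ⟨y, rfl⟩ := (finSumFinEquiv (m := 24) (n := 24)).surjective x
  rcases y with i | i
  · have h1 := permOf_apply ptEquiv hlv (ptEquiv.symm i)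
    simp only [Equiv.apply_symm_apply] at h1
    show (finSumFinEquiv (Sum.map (fun j => ptEquiv (pL (lowL A) (ptEquiv.symm j)))
      (permOf (Equiv.refl (Fin 24)) (highL A))
      ((finSumFinEquiv (m := 24) (n := 24)).symm (finSumFinEquiv (Sum.inl i))))).val =
      PackPerm.getP A ((finSumFinEquiv (m := 24) (n := 24)) (Sum.inl i)).val
    rw [Equiv.symm_apply_apply, Sum.map_inl, finSumFinEquiv_apply_left, finSumFinEquiv_apply_left,
      Fin.val_castAdd, Fin.val_castAdd]
    refine h1.trans ?_
    rw [lowL, List.getD_eq_getElem _ _ (by simp)]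
    simp
  · have h1 := permOf_apply (Equiv.refl (Fin 24)) hhigh i
    simp only [Equiv.refl_apply] at h1
    show (finSumFinEquiv (Sum.map (fun j => ptEquiv (pL (lowL A) (ptEquiv.symm j)))
      (permOf (Equiv.refl (Fin 24)) (highL A))
      ((finSumFinEquiv (m := 24) (n := 24)).symm (finSumFinEquiv (Sum.inr i))))).val =
      PackPerm.getP A ((finSumFinEquiv (m := 24) (n := 24)) (Sum.inr i)).val
    rw [Equiv.symm_apply_apply, Sum.map_inr, finSumFinEquiv_apply_right, finSumFinEquiv_apply_right,
      Fin.val_natAdd, Fin.val_natAdd, h1, highL, List.getD_eq_getElem _ _ (by simp)]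
    simp only [List.getElem_map, List.getElem_range]
    have := hbig i.val i.isLt
    omega

theorem eq_or_of_card_two {G : Type*} [Group G] (h : Nat.card G = 2) {b : G} (hb : b ≠ 1) (a : G) :
    a = 1 ∨ a = b := by
  obtain ⟨x, y, -, hxy⟩ := Nat.card_eq_two_iff.1 h
  have k : ∀ c : G, c = x ∨ c = y := fun c => by
    have := Set.mem_univ c
    rw [← hxy] at this
    simpa using this
  rcases k a with e | e <;> rcases k b with e' | e' <;> rcases k 1 with e'' | e'' <;> grind

theorem code_eq_of_val {A : ℕ} (h : PackPerm.okP 48 A = true) (e : O.val A = 1) :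
    PackPerm.toL 48 A = List.range 48 := by
  have hv := PackPerm.validL_of_okP h
  refine List.ext_getElem (by simp [PackPerm.toL_length]) fun i h1 h2 => ?_
  have hi : i < 48 := by simpa using h2
  have := permOf_apply (Equiv.refl (Fin 48)) hv ⟨i, hi⟩
  rw [show permOf (Equiv.refl (Fin 48)) (PackPerm.toL 48 A) = 1 from e] at this
  simp only [Equiv.Perm.one_apply, Equiv.refl_apply] at this
  rw [List.getD_eq_getElem _ _ (by simpa [PackPerm.toL_length] using hi)] at this
  simp only [List.getElem_range]
  exact this.symm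

theorem checks : Bsgs.check O [] coverM12Levels = true ∧
    (Bsgs.allGens coverM12Levels).all splitB = true ∧
    (coverM12Levels.map fun l => l.reps.length).prod = 190080 ∧
    (coverM12Gens.all fun L => (Bsgs.allGens coverM12Levels).any fun r => lowL r == L) = true ∧
    chainCheck 24 coverM12Gens coverM12Steps [] coverM12Low = true ∧
    (coverM12Low.map fun l => l.imgs.length).prod = 95040 ∧
    splitB coverM12Z = true ∧ lowL coverM12Z = List.range 24 ∧
    PackPerm.toL 48 coverM12Z ≠ List.range 48 ∧
    Bsgs.commCheck O coverM12Levels coverM12Z coverM12U coverM12V = true := by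
  refine ⟨?_, ?_, ?_, ?_, ?_, ?_, ?_, ?_, ?_, ?_⟩ <;> decide +kernel

attribute [local irreducible] coverM12Levels coverM12Gens coverM12Steps coverM12Low coverM12Z
  coverM12U coverM12V

/-- The generating pairs. -/
def genSet : Set (Equiv.Perm GolayPt × Equiv.Perm (Fin 24)) :=
  {x | ∃ r ∈ Bsgs.allGens coverM12Levels, pair r = x}

/-- The cover. -/
def Cov : Subgroup (Equiv.Perm GolayPt × Equiv.Perm (Fin 24)) := Subgroup.closure genSet

theorem map_Cov : Cov.map ι = Bsgs.grp O coverM12Levels := by
  obtain ⟨-, hs, -⟩ := checks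
  simp only [List.all_eq_true] at hs
  rw [Cov, MonoidHom.map_closure, Bsgs.grp]
  congr 1
  ext g
  constructor
  · rintro ⟨_, ⟨r, hr, rfl⟩, rfl⟩
    exact ⟨r, hr, (ι_pair (hs r hr)).symm⟩
  · rintro ⟨r, hr, rfl⟩
    exact ⟨_, ⟨r, hr, rfl⟩, ι_pair (hs r hr)⟩

theorem card_Cov : Nat.card Cov = 190080 := by
  obtain ⟨hc, -, hp, -⟩ := checks
  rw [← Subgroup.card_map_of_injective ι_injective, map_Cov, ← hp]
  exact (Bsgs.spec O (fun f hf => absurd hf List.not_mem_nil) hc).2.2.2.1

/-- The projection. -/
noncomputable def proj : Cov →* Equiv.Perm GolayPt := (MonoidHom.fst _ _).comp Cov.subtype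

theorem range_proj : proj.range = Cfsg.Spor.M12 := by
  obtain ⟨-, hs, -, hg, hch, hcard, -⟩ := checks
  simp only [List.all_eq_true, List.any_eq_true, beq_iff_eq] at hs hg
  have hle : proj.range ≤ Cfsg.Spor.M12 := by
    rw [proj, MonoidHom.range_comp, Subgroup.range_subtype, Cov, MonoidHom.map_closure,
      Subgroup.closure_le]
    rintro _ ⟨_, ⟨r, hr, rfl⟩, rfl⟩
    have := hs r hr
    simp only [splitB, Bool.and_eq_true] at this
    exact (m12_cut.of_test this.1.1.2).2
  have hge : 95040 ≤ Nat.card proj.range := by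
    have h := chain_card_ge proj.range (chainCheck_ok hch)
      (chainCheck_reps ptEquiv proj.range hch fun L hL => ?_)
    · rwa [fixNums_nil, hcard] at h
    · obtain ⟨r, hr, rfl⟩ := hg L hL
      exact ⟨⟨pair r, Subgroup.subset_closure ⟨r, hr, rfl⟩⟩, rfl⟩
  exact Subgroup.eq_of_le_of_card_ge hle (by rw [card_M12]; exact hge)

/-- The covering map. -/
noncomputable def σ : Cov →* Cfsg.Spor.M12 :=
  (MulEquiv.subgroupCongr range_proj).toMonoidHom.comp proj.rangeRestrict

theorem σ_surjective : Function.Surjective σ :=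
  (MulEquiv.subgroupCongr range_proj).surjective.comp proj.rangeRestrict_surjective

theorem card_ker : Nat.card σ.ker = 2 := by
  have h := σ.ker.card_mul_index
  rw [Subgroup.index_ker, MonoidHom.range_eq_top.2 σ_surjective, Subgroup.card_top, card_M12,
    card_Cov] at h
  refine Nat.eq_of_mul_eq_mul_right (show 0 < 95040 by norm_num) (h.trans ?_)
  norm_num

theorem stem : Cfsg.IsStemExtension σ := by
  obtain ⟨hc, -, -, -, -, -, hz, hzlow, hzne, hcomm⟩ := checks
  have hzs := ι_pair hz
  have hzok : O.ok coverM12Z = true := by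
    simp only [splitB, Bool.and_eq_true] at hz; exact hz.1.1.1
  have h1 := Bsgs.comm_sound O hc hzok hcomm
  rw [← map_Cov, ← Subgroup.map_commutator, ← hzs] at h1
  obtain ⟨x, hx, hxe⟩ := h1
  have hxz : x = pair coverM12Z := ι_injective hxe
  have hzC : pair coverM12Z ∈ Cov := hxz ▸ Subgroup.commutator_le_self Cov hx
  let z : Cov := ⟨pair coverM12Z, hzC⟩
  have hzker : z ∈ σ.ker := by
    refine Subtype.ext ?_
    show proj z = 1
    show pL (lowL coverM12Z) = 1
    rw [hzlow, pL_range]
  have hz1 : z ≠ 1 := by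
    intro h
    have e : pair coverM12Z = 1 := congrArg Subtype.val h
    rw [e, map_one] at hzs
    exact hzne (code_eq_of_val hzok hzs.symm)
  have hzcomm : z ∈ commutator Cov := by
    have : (commutator Cov).map Cov.subtype = ⁅Cov, Cov⁆ := by
      rw [_root_.commutator_def, Subgroup.map_commutator, ← MonoidHom.range_eq_map, Subgroup.range_subtype]
    rw [← hxz] at hzC
    obtain ⟨y, hy, hye⟩ := this.symm.le hx
    have : y = z := Subtype.ext (hye.trans hxz)
    exact this ▸ hy
  refine ⟨σ_surjective, fun k hk => ?_, fun k hk => ?_⟩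
  · refine Subgroup.mem_center_iff.2 fun g => ?_
    have hgk : g * k * g⁻¹ ∈ σ.ker := σ.normal_ker.conj_mem k hk g
    have key : ∀ a : σ.ker, a = 1 ∨ a = ⟨z, hzker⟩ := fun a => eq_or_of_card_two card_ker (by
      intro h; exact hz1 (congrArg Subtype.val h)) a
    rcases key ⟨k, hk⟩ with e | e
    · have : k = 1 := congrArg Subtype.val e
      simp [this]
    · have ek : k = z := congrArg Subtype.val e
      rcases key ⟨_, hgk⟩ with e' | e'
      · have h' : g * k * g⁻¹ = 1 := congrArg Subtype.val e'
        rw [mul_inv_eq_one, mul_eq_left] at h'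
        simp [h']
      · have h' : g * k * g⁻¹ = k := (congrArg Subtype.val e').trans ek.symm
        exact mul_inv_eq_iff_eq_mul.1 h'
  · rcases eq_or_of_card_two card_ker (b := ⟨z, hzker⟩) (fun h => hz1 (congrArg Subtype.val h))
      ⟨k, hk⟩ with e | e
    · rw [show k = 1 from congrArg Subtype.val e]; exact one_mem _
    · rw [show k = z from congrArg Subtype.val e]; exact hzcomm

theorem exists_cover : ∃ (Γ : Type) (_ : Group Γ) (_ : Finite Γ) (σ : Γ →* Cfsg.Spor.M12),
    Cfsg.IsStemExtension σ ∧ Nonempty (σ.ker ≃* Multiplicative (ZMod 2)) := by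
  refine ⟨Cov, inferInstance, inferInstance, σ, stem, ?_⟩
  have : Fact (Nat.Prime 2) := ⟨Nat.prime_two⟩
  have := isCyclic_of_prime_card card_ker
  exact ⟨(zmodCyclicMulEquiv this).symm.trans
    (AddEquiv.toMultiplicative (ZMod.ringEquivCongr card_ker).toAddEquiv)⟩

end CfsgLib.Schur.Tails.M12Cover
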