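import Cfsg.Agent.Lib.Tails.Perm

/-!
Generated data: certificates for the Schur multiplier of M12.
-/

set_option autoImplicit false
set_option maxRecDepth 20000

namespace CfsgLib.TailsData

open CfsgLib

/-- The overlaps. -/
def twoM12Overlaps : List (List ℕ × List Schur.Tails.Step × List Schur.Tails.Step) := [
  ([0, 1, 2], [(0, 6, true), (3, 7, true), (2, 19, true), (1, 20, true), (0, 5, true), (1, 3, true)], [(1, 11, true), (0, 7, true), (3, 6, true), (2, 14, true), (1, 19, true), (0, 5, true), (0, 3, true), (0, 13, true), (2, 12, true), (1, 3, true)]),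
  ([0, 1, 3], [(0, 6, true), (3, 8, true), (2, 3, true)], [(1, 12, true), (0, 8, true), (1, 6, true), (0, 19, true), (1, 18, true), (2, 3, true)]),
  ([0, 1, 4], [(0, 6, true), (3, 9, true), (2, 19, true), (1, 20, true), (0, 5, true), (1, 18, true), (0, 4, true), (0, 3, true)], [(1, 13, true), (0, 9, true), (5, 8, true), (4, 12, true), (3, 15, true), (2, 3, true), (4, 6, true), (3, 14, true), (2, 17, true), (1, 20, true), (0, 5, true), (2, 15, true), (1, 3, true), (2, 13, true), (1, 16, true), (0, 4, true), (0, 15, true), (2, 12, true), (1, 15, true), (0, 3, true)]),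
  ([0, 1, 5], [(0, 6, true), (3, 10, true), (2, 19, true), (1, 20, true), (0, 5, true), (1, 18, true), (0, 4, true)], [(1, 14, true), (0, 10, true), (3, 8, true), (2, 15, true), (4, 6, true), (3, 17, true), (2, 19, true), (1, 20, true), (0, 5, true), (1, 3, true), (1, 16, true), (0, 4, true), (0, 15, true)]),
  ([0, 2, 3], [(0, 7, true), (3, 8, true), (2, 12, true), (1, 3, true)], [(1, 15, true), (0, 8, true), (1, 7, true), (0, 19, true), (1, 3, true)]),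
  ([0, 2, 4], [(0, 7, true), (3, 9, true), (2, 14, true), (1, 19, true), (0, 5, true), (0, 3, true), (0, 13, true), (2, 12, true), (1, 3, true), (1, 11, true), (2, 1, true)], [(1, 16, true), (0, 9, true), (5, 7, true), (4, 14, true), (3, 17, true), (2, 19, true), (1, 20, true), (0, 5, true), (1, 3, true), (1, 15, true), (3, 12, true), (2, 15, true), (1, 3, true), (2, 1, true)]),
  ([0, 2, 5], [(0, 7, true), (3, 10, true), (2, 14, true), (1, 19, true), (0, 5, true), (0, 3, true), (0, 13, true), (2, 11, true)], [(1, 17, true), (0, 10, true), (3, 8, true), (2, 15, true), (4, 7, true), (3, 17, true), (2, 19, true), (1, 20, true), (0, 5, true), (1, 3, true), (1, 15, true)]),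
  ([1, 2, 4], [(0, 11, true), (1, 13, true), (0, 16, true), (1, 15, true)], [(1, 16, true), (0, 13, true), (2, 11, true)]),
  ([1, 2, 5], [(0, 11, true), (1, 14, true), (0, 17, true), (2, 15, true), (1, 3, true)], [(1, 17, true), (0, 14, true), (2, 12, true), (1, 3, true), (1, 11, true)]),
  ([0, 0, 0], [(0, 0, true)], [(1, 0, true), (0, 10, true), (3, 9, true), (2, 17, true), (1, 20, true), (0, 5, true), (2, 16, true), (1, 18, true), (0, 4, true), (1, 15, true), (0, 3, true), (0, 2, true), (2, 8, true), (1, 12, true), (0, 3, true), (1, 6, true), (0, 14, true), (2, 13, true), (1, 18, true), (2, 3, true), (2, 12, true)]),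
  ([0, 1, 1], [(0, 6, true), (3, 6, true), (2, 19, true), (1, 20, true), (0, 5, true), (1, 18, true), (0, 4, true), (0, 3, true)], [(1, 1, true)]),
  ([0, 0, 2], [(0, 0, true), (3, 11, true)], [(1, 7, true), (0, 10, true), (3, 8, true), (2, 15, true), (4, 6, true), (3, 17, true), (2, 19, true), (1, 20, true), (0, 5, true), (1, 3, true), (1, 16, true), (0, 4, true), (0, 15, true), (2, 0, true), (1, 17, true), (0, 19, true), (1, 3, true), (1, 16, true), (2, 15, true)]),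
  ([0, 2, 2], [(0, 7, true), (3, 7, true), (2, 14, true), (1, 19, true), (0, 5, true), (0, 3, true), (0, 12, true), (1, 1, true)], [(1, 2, true), (0, 8, true)]),
  ([0, 0, 4], [(0, 0, true), (3, 13, true), (2, 18, true), (1, 4, true), (1, 3, true)], [(1, 9, true), (0, 10, true), (3, 9, true), (2, 17, true), (1, 20, true), (0, 5, true), (2, 16, true), (1, 18, true), (0, 4, true), (1, 15, true), (0, 3, true), (0, 2, true), (2, 8, true), (1, 12, true), (0, 3, true), (1, 7, true), (0, 14, true), (2, 12, true), (1, 3, true), (1, 1, true), (1, 6, true), (0, 5, true), (2, 0, true), (1, 19, true), (0, 20, true), (2, 18, true), (1, 4, true), (1, 3, true)]),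
  ([0, 5, 5], [(0, 10, true), (3, 10, true), (2, 17, true), (1, 20, true), (0, 5, true), (2, 16, true), (1, 18, true), (0, 4, true), (1, 2, true), (0, 3, true)], [(1, 5, true)])]

/-- A conjugation. -/
def twoM12Fus0 : Schur.Tails.Fus where
  xs := [[5, 4, 3], [5]]
  ys := [[5, 4, 3, 2], [5, 4, 2, 1]]
  rels := [
    ([0, 0], [], [(2, 19, true), (1, 20, true), (0, 5, true), (1, 18, true), (0, 4, true), (0, 3, true)], [(3, 17, true), (2, 19, true), (1, 20, true), (0, 5, true), (1, 3, true), (1, 16, true), (0, 4, true), (0, 15, true), (1, 2, true), (0, 3, true)]),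
    ([1, 1], [], [(0, 5, true)], [(3, 14, true), (2, 17, true), (1, 20, true), (0, 5, true), (2, 15, true), (1, 3, true), (2, 13, true), (1, 16, true), (0, 4, true), (0, 15, true), (2, 11, true), (1, 2, true), (0, 3, true), (0, 1, true)])]

/-- A conjugation. -/
def twoM12Fus1 : Schur.Tails.Fus where
  xs := [[1, 0]]
  ys := [[5, 2]]
  rels := [
    ([0, 0], [], [(1, 6, true), (0, 14, true), (2, 13, true), (1, 18, true), (2, 3, true), (2, 12, true), (4, 0, true), (3, 14, true), (2, 19, true), (1, 20, true), (0, 5, true), (1, 3, true), (1, 13, true), (0, 4, true), (1, 12, true), (0, 3, true), (0, 1, true)], [(1, 17, true), (0, 5, true), (1, 2, true), (0, 3, true)])]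

/-- A conjugation. -/
def twoM12Fus2 : Schur.Tails.Fus where
  xs := [[5, 4, 3, 0], [1, 0]]
  ys := [[3], [4, 2, 1]]
  rels := [
    ([0, 0], [], [(3, 10, true), (2, 19, true), (1, 20, true), (0, 5, true), (1, 18, true), (0, 4, true), (2, 9, true), (1, 17, true), (0, 19, true), (1, 3, true), (1, 16, true), (2, 15, true), (3, 2, true), (2, 3, true), (3, 8, true), (2, 12, true), (4, 0, true), (3, 14, true), (2, 19, true), (1, 20, true), (0, 5, true), (1, 3, true), (1, 13, true), (0, 4, true), (1, 12, true), (0, 3, true), (0, 1, true)], [(0, 3, true)]),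
    ([0, 1], [1, 0], [(3, 6, true), (2, 19, true), (1, 20, true), (0, 5, true), (1, 18, true), (0, 4, true), (0, 3, true), (0, 0, true), (0, 0, false), (0, 3, false), (1, 8, false), (1, 1, false), (0, 2, false), (1, 11, false), (0, 3, false), (1, 15, false), (2, 12, false), (0, 15, false), (0, 4, false), (1, 16, false), (2, 13, false), (1, 3, false), (2, 15, false), (0, 5, false), (1, 20, false), (2, 17, false), (3, 14, false), (4, 9, false), (2, 11, false), (2, 3, false), (1, 18, false), (2, 13, false), (0, 14, false), (1, 10, false)], [(0, 18, true), (1, 15, false), (2, 12, false)])]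

/-- A conjugation. -/
def twoM12Fus3 : Schur.Tails.Fus where
  xs := [[1], [3, 1, 0], [5, 4, 1], [5, 4, 0]]
  ys := [[4], [5, 4, 3, 1], [5, 3, 2], [5, 4, 1]]
  rels := [
    ([0, 2], [2, 0], [(0, 14, true), (2, 13, true), (1, 18, true), (2, 3, true), (2, 1, true), (2, 1, false)], [(0, 20, true), (1, 18, false), (2, 16, false)])]

/-- The certificate. -/
def twoM12Cert : Schur.Tails.Cert where
  p := 2
  q := 4
  n := 6
  rels := [
    ([0, 0], [5, 4, 3, 1]),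
    ([1, 1], []),
    ([2, 2], [3]),
    ([3, 3], []),
    ([4, 4], []),
    ([5, 5], []),
    ([0, 1], [5, 4, 3, 0]),
    ([0, 2], [5, 3, 1, 0]),
    ([0, 3], [3, 0]),
    ([0, 4], [5, 4, 3, 2, 1, 0]),
    ([0, 5], [5, 4, 2, 0]),
    ([1, 2], [2, 1]),
    ([1, 3], [3, 1]),
    ([1, 4], [4, 3, 1]),
    ([1, 5], [5, 3, 1]),
    ([2, 3], [3, 2]),
    ([2, 4], [4, 2]),
    ([2, 5], [5, 3, 2]),
    ([3, 4], [4, 3]),
    ([3, 5], [5, 3]),
    ([4, 5], [5, 4])]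
  overlaps := twoM12Overlaps
  fus := [twoM12Fus0, twoM12Fus1, twoM12Fus2, twoM12Fus3]
  mu := [[2, 0, 1, 0, 0, 0, 0, 1, 0, 0, 0, 0, 0, 0, 0, 0, 0, 0, 0, 0, 0, 0, 0, 1], [3, 0, 2, 0, 0, 0, 0, 1, 0, 0, 0, 0, 0, 0, 0, 0, 0, 0, 0, 0, 0, 0, 3, 2], [2, 0, 2, 0, 0, 0, 0, 0, 0, 0, 0, 0, 0, 0, 0, 0, 0, 0, 0, 0, 0, 3, 0, 2], [0, 0, 1, 0, 0, 0, 0, 0, 0, 0, 0, 0, 0, 0, 0, 0, 0, 0, 0, 0, 0, 2], [3, 0, 0, 0, 0, 0, 0, 1, 0, 0, 0, 0, 0, 0, 0, 0, 0, 0, 0, 0, 0, 1], [3, 0, 3, 0, 0, 0, 0, 0, 0, 0, 0, 0, 0, 0, 0, 0, 0, 0, 0, 0, 0, 1, 1]]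
  combos := [
    ([], 0),
    ([(0, 1), (1, 2), (2, 2), (3, 3), (5, 2), (9, 2), (10, 3), (12, 3), (16, 1), (18, 2)], 3),
    ([], 0),
    ([(0, 2), (2, 3), (3, 3), (4, 3), (6, 2), (7, 2), (8, 3), (9, 2), (10, 2), (15, 2), (19, 2)], 0),
    ([(1, 3), (2, 2), (3, 1), (4, 3), (5, 2), (7, 1), (8, 1), (9, 2), (10, 1), (12, 1), (15, 1), (16, 2), (18, 2)], 3),
    ([(0, 3), (1, 2), (2, 1), (3, 1), (5, 2), (8, 3), (10, 3), (12, 2), (15, 1), (16, 3), (18, 2), (19, 2)], 1),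
    ([(2, 1), (3, 1), (5, 2), (7, 3), (9, 1), (10, 2), (11, 3), (13, 1), (14, 3), (16, 3), (17, 3), (18, 2), (19, 3), (20, 1)], 0),
    ([], 0),
    ([(0, 3), (1, 2), (2, 1), (3, 3), (4, 1), (5, 2), (6, 3), (7, 1), (8, 2), (16, 2), (17, 2), (18, 2), (19, 2)], 2),
    ([(0, 3), (1, 1), (2, 1), (3, 1), (4, 2), (6, 2), (7, 3), (8, 2), (9, 1), (10, 2), (11, 1), (15, 1), (19, 2)], 1),
    ([(0, 3), (1, 1), (2, 1), (3, 2), (4, 2), (5, 2), (6, 3), (7, 2), (8, 1), (9, 2), (10, 1), (11, 2), (12, 1), (13, 1), (14, 3), (17, 1), (18, 2), (19, 2), (20, 1)], 0),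
    ([(0, 1), (7, 2), (8, 1), (9, 1), (10, 1), (19, 3)], 1),
    ([(7, 1), (8, 3)], 0),
    ([(0, 3), (1, 2), (2, 2), (3, 1), (4, 2), (5, 2), (6, 1), (7, 1), (8, 3), (9, 1), (10, 1), (15, 1), (16, 2), (17, 2), (18, 2), (19, 1)], 0),
    ([(0, 1), (1, 2), (2, 3), (4, 3), (5, 2), (6, 1), (7, 2), (8, 2), (15, 1), (16, 2), (17, 2), (18, 2), (19, 2)], 2),
    ([(7, 1)], 0),
    ([(0, 1), (1, 1), (2, 2), (4, 1), (7, 1), (8, 3), (9, 3), (11, 3), (13, 1), (14, 3), (19, 3), (20, 1)], 3),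
    ([(0, 1), (2, 1), (3, 1), (4, 3), (5, 2), (7, 3), (9, 3), (11, 3), (13, 1), (14, 3), (15, 1), (16, 2), (17, 2), (18, 2), (19, 1), (20, 1)], 1),
    ([(1, 3), (4, 1), (7, 3), (8, 2)], 0),
    ([(4, 3), (8, 3)], 0),
    ([], 3)]
  tau := [0, 0, 0, 0, 0, 0, 0, 0, 0, 0, 0, 0, 0, 0, 0, 0, 0, 0, 0, 0, 3]
  tauCombo := [(0, 1), (1, 1), (2, 2), (4, 1), (8, 1), (9, 2), (10, 1), (11, 1), (13, 3), (14, 1)]

/-- The generators. -/
def twoM12Gens : List (List ℕ) := [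
  [12, 2, 1, 16, 9, 23, 18, 21, 6, 3, 14, 5, 0, 8, 7, 11, 4, 17, 13, 19, 20, 10, 22, 15],
  [2, 12, 0, 16, 9, 11, 8, 21, 6, 4, 14, 5, 1, 18, 10, 23, 3, 22, 13, 20, 19, 7, 17, 15],
  [6, 18, 8, 3, 4, 17, 12, 21, 1, 9, 14, 22, 13, 0, 10, 20, 16, 15, 2, 11, 5, 7, 23, 19],
  [12, 2, 1, 3, 4, 15, 13, 7, 18, 9, 10, 23, 0, 6, 14, 5, 16, 20, 8, 22, 17, 21, 19, 11],
  [8, 6, 13, 4, 3, 19, 1, 21, 0, 16, 14, 17, 18, 2, 10, 22, 9, 11, 12, 5, 23, 7, 15, 20],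
  [6, 8, 18, 16, 9, 17, 0, 10, 1, 4, 7, 19, 13, 12, 21, 20, 3, 5, 2, 11, 15, 14, 23, 22]]

/-- The conjugating elements. -/
def twoM12Hs : List (List ℕ) := [
  [16, 6, 4, 12, 2, 22, 9, 19, 0, 8, 11, 21, 1, 18, 15, 14, 13, 23, 3, 10, 7, 17, 20, 5],
  [4, 9, 6, 18, 12, 23, 16, 19, 8, 1, 15, 22, 13, 3, 21, 11, 2, 7, 0, 17, 20, 10, 14, 5],
  [8, 18, 1, 0, 12, 10, 3, 23, 13, 4, 11, 22, 2, 9, 7, 14, 16, 20, 6, 5, 15, 21, 17, 19],
  [4, 16, 3, 0, 12, 17, 2, 19, 13, 18, 22, 11, 9, 1, 15, 20, 8, 10, 6, 7, 21, 5, 14, 23]]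

/-- The program of the chain. -/
def twoM12Steps : List CfsgLib.Golay.Step := [
  ([0, 1, 2, 3, 4, 5, 6, 7, 8, 9, 10, 11, 12, 13, 14, 15, 16, 17, 18, 19, 20, 21, 22, 23], true, 0, 0),
  ([0, 1, 2, 4, 3, 15, 13, 10, 18, 16, 7, 23, 12, 6, 21, 5, 9, 17, 8, 19, 20, 14, 22, 11], false, 0, 0),
  ([8, 6, 13, 3, 4, 22, 2, 14, 12, 9, 21, 20, 18, 1, 7, 19, 16, 11, 0, 5, 23, 10, 15, 17], true, 4, 7),
  ([1, 0, 12, 4, 3, 5, 6, 10, 18, 9, 7, 23, 2, 13, 14, 15, 16, 22, 8, 20, 19, 21, 17, 11], false, 0, 1),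
  ([1, 12, 0, 3, 4, 23, 8, 10, 13, 9, 7, 5, 2, 18, 21, 11, 16, 22, 6, 17, 19, 14, 20, 15], false, 2, 8)]

/-- The chain. -/
def twoM12Levels : List CfsgLib.Golay.Level := [
  ⟨9, [[0, 1, 2, 3, 4, 5, 6, 7, 8, 9, 10, 11, 12, 13, 14, 15, 16, 17, 18, 19, 20, 21, 22, 23], [12, 2, 1, 16, 9, 23, 18, 21, 6, 3, 14, 5, 0, 8, 7, 11, 4, 17, 13, 19, 20, 10, 22, 15], [2, 12, 0, 16, 9, 11, 8, 21, 6, 4, 14, 5, 1, 18, 10, 23, 3, 22, 13, 20, 19, 7, 17, 15], [8, 6, 13, 4, 3, 19, 1, 21, 0, 16, 14, 17, 18, 2, 10, 22, 9, 11, 12, 5, 23, 7, 15, 20]], [9, 3, 4, 16]⟩,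
  ⟨21, [[0, 1, 2, 3, 4, 5, 6, 7, 8, 9, 10, 11, 12, 13, 14, 15, 16, 17, 18, 19, 20, 21, 22, 23], [8, 6, 13, 3, 4, 22, 2, 14, 12, 9, 21, 20, 18, 1, 7, 19, 16, 11, 0, 5, 23, 10, 15, 17], [6, 18, 8, 3, 4, 17, 12, 21, 1, 9, 14, 22, 13, 0, 10, 20, 16, 15, 2, 11, 5, 7, 23, 19], [1, 12, 0, 3, 4, 23, 8, 10, 13, 9, 7, 5, 2, 18, 21, 11, 16, 22, 6, 17, 19, 14, 20, 15]], [21, 10, 7, 14]⟩,
  ⟨13, [[0, 1, 2, 3, 4, 5, 6, 7, 8, 9, 10, 11, 12, 13, 14, 15, 16, 17, 18, 19, 20, 21, 22, 23], [12, 2, 1, 3, 4, 15, 13, 7, 18, 9, 10, 23, 0, 6, 14, 5, 16, 20, 8, 22, 17, 21, 19, 11]], [13, 6]⟩,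
  ⟨11, [[0, 1, 2, 3, 4, 5, 6, 7, 8, 9, 10, 11, 12, 13, 14, 15, 16, 17, 18, 19, 20, 21, 22, 23], [1, 0, 12, 4, 3, 5, 6, 10, 18, 9, 7, 23, 2, 13, 14, 15, 16, 22, 8, 20, 19, 21, 17, 11]], [11, 23]⟩]

/-- The overlaps. -/
def threeM12Overlaps : List (List ℕ × List Schur.Tails.Step × List Schur.Tails.Step) := [
  ([0, 0, 0, 2], [(0, 0, true)], [(2, 4, true), (1, 4, true), (0, 4, true), (3, 3, true), (1, 1, true), (1, 3, true), (3, 3, true), (2, 3, true), (4, 3, true), (3, 3, true), (1, 1, true), (1, 0, true)])]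

/-- A conjugation. -/
def threeM12Fus0 : Schur.Tails.Fus where
  xs := [[1], [2, 2, 1, 1, 0]]
  ys := [[2, 0, 0], [2, 2, 0]]
  rels := [
    ([0, 0, 0], [], [(0, 1, true)], [(2, 4, true), (1, 4, true), (4, 3, true), (2, 1, true), (2, 3, true), (3, 0, true), (3, 4, true), (2, 5, true), (0, 2, true), (0, 1, true), (0, 0, true)]),
    ([0, 1], [1, 0], [(0, 5, true), (1, 5, true), (2, 1, true), (2, 1, false), (4, 3, false)], [(2, 4, true), (1, 4, true), (4, 3, true), (2, 1, true), (2, 3, true), (4, 4, true), (3, 4, true), (2, 5, true), (0, 2, true), (0, 1, true), (0, 3, true), (1, 3, true), (2, 0, true), (2, 0, false), (0, 2, false), (2, 4, false)])]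

/-- A conjugation. -/
def threeM12Fus1 : Schur.Tails.Fus where
  xs := [[1, 1, 0]]
  ys := [[2, 2, 0, 0]]
  rels := [
    ([0, 0, 0], [], [(2, 3, true), (0, 1, true), (0, 3, true), (2, 3, true), (1, 3, true), (3, 3, true), (2, 3, true), (0, 1, true), (0, 0, true)], [(3, 4, true), (2, 4, true), (0, 2, true), (2, 3, true), (0, 1, true), (0, 3, true), (2, 4, true), (1, 4, true), (0, 5, true), (1, 1, true), (1, 3, true), (2, 3, true), (3, 0, true), (3, 4, true), (2, 5, true), (1, 5, true), (2, 1, true), (3, 4, true), (2, 5, true), (0, 2, true), (0, 1, true), (0, 0, true)])]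

/-- A conjugation. -/
def threeM12Fus2 : Schur.Tails.Fus where
  xs := [[2, 2, 0]]
  ys := [[2, 2]]
  rels := [
    ([0, 0, 0], [], [(2, 4, true), (0, 2, true), (2, 4, true), (1, 5, true), (0, 5, true), (1, 1, true), (3, 4, true), (2, 4, true), (1, 5, true), (2, 1, true), (2, 3, true), (3, 3, true), (5, 4, true), (4, 4, true), (3, 5, true), (2, 5, true), (0, 2, true), (0, 1, true), (1, 3, true), (2, 3, true), (0, 1, true), (0, 0, true)], [(0, 2, true), (0, 2, true)])]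

/-- The certificate. -/
def threeM12Cert : Schur.Tails.Cert where
  p := 3
  q := 3
  n := 3
  rels := [
    ([0, 0, 0], []),
    ([1, 1, 1], []),
    ([2, 2, 2], []),
    ([0, 1], [1, 0]),
    ([0, 2], [2, 1, 1, 0]),
    ([1, 2], [2, 1])]
  overlaps := threeM12Overlaps
  fus := [threeM12Fus0, threeM12Fus1, threeM12Fus2]
  mu := [[], [0, 0, 0, 0, 2], []]
  combos := [
    ([(1, 2), (2, 2), (3, 2), (4, 1)], 0),
    ([(0, 1)], 0),
    ([(0, 1), (1, 2), (4, 1)], 0),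
    ([(0, 2), (1, 2), (2, 1), (3, 2)], 0),
    ([], 0),
    ([(1, 1), (3, 1)], 0)]
  tau := []
  tauCombo := []

/-- The generators. -/
def threeM12Gens : List (List ℕ) := [
  [12, 0, 3, 13, 16, 10, 4, 17, 9, 18, 11, 5, 1, 2, 19, 7, 6, 15, 8, 21, 22, 14, 23, 20],
  [16, 4, 0, 12, 13, 21, 3, 10, 8, 9, 14, 19, 6, 1, 7, 5, 2, 11, 18, 17, 20, 15, 22, 23],
  [6, 0, 12, 4, 16, 5, 1, 10, 8, 9, 14, 17, 13, 2, 7, 15, 3, 19, 18, 11, 22, 21, 23, 20]]

/-- The conjugating elements. -/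
def threeM12Hs : List (List ℕ) := [
  [3, 18, 6, 1, 9, 21, 4, 5, 0, 2, 17, 15, 13, 8, 10, 14, 12, 7, 16, 19, 20, 11, 23, 22],
  [16, 4, 0, 3, 13, 23, 6, 20, 12, 1, 7, 5, 8, 18, 10, 19, 9, 15, 2, 22, 14, 11, 21, 17],
  [1, 8, 6, 4, 9, 11, 16, 19, 2, 13, 7, 17, 3, 18, 23, 20, 0, 22, 12, 14, 5, 10, 15, 21]]

/-- The program of the chain. -/
def threeM12Steps : List CfsgLib.Golay.Step := [
  ([0, 1, 2, 3, 4, 5, 6, 7, 8, 9, 10, 11, 12, 13, 14, 15, 16, 17, 18, 19, 20, 21, 22, 23], true, 0, 0),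
  ([1, 12, 13, 2, 6, 11, 16, 15, 18, 8, 5, 10, 0, 3, 21, 17, 4, 7, 9, 14, 23, 19, 20, 22], false, 0, 0),
  ([2, 13, 16, 6, 1, 15, 12, 14, 8, 9, 7, 17, 3, 4, 10, 21, 0, 19, 18, 11, 20, 5, 22, 23], false, 1, 1),
  ([1, 6, 13, 16, 3, 5, 0, 14, 8, 9, 7, 19, 2, 12, 10, 15, 4, 11, 18, 17, 23, 21, 20, 22], false, 2, 2)]

/-- The chain. -/
def threeM12Levels : List CfsgLib.Golay.Level := [
  ⟨9, [[0, 1, 2, 3, 4, 5, 6, 7, 8, 9, 10, 11, 12, 13, 14, 15, 16, 17, 18, 19, 20, 21, 22, 23], [12, 0, 3, 13, 16, 10, 4, 17, 9, 18, 11, 5, 1, 2, 19, 7, 6, 15, 8, 21, 22, 14, 23, 20], [1, 12, 13, 2, 6, 11, 16, 15, 18, 8, 5, 10, 0, 3, 21, 17, 4, 7, 9, 14, 23, 19, 20, 22]], [9, 18, 8]⟩,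
  ⟨5, [[0, 1, 2, 3, 4, 5, 6, 7, 8, 9, 10, 11, 12, 13, 14, 15, 16, 17, 18, 19, 20, 21, 22, 23], [16, 4, 0, 12, 13, 21, 3, 10, 8, 9, 14, 19, 6, 1, 7, 5, 2, 11, 18, 17, 20, 15, 22, 23], [2, 13, 16, 6, 1, 15, 12, 14, 8, 9, 7, 17, 3, 4, 10, 21, 0, 19, 18, 11, 20, 5, 22, 23]], [5, 21, 15]⟩,
  ⟨6, [[0, 1, 2, 3, 4, 5, 6, 7, 8, 9, 10, 11, 12, 13, 14, 15, 16, 17, 18, 19, 20, 21, 22, 23], [6, 0, 12, 4, 16, 5, 1, 10, 8, 9, 14, 17, 13, 2, 7, 15, 3, 19, 18, 11, 22, 21, 23, 20], [1, 6, 13, 16, 3, 5, 0, 14, 8, 9, 7, 19, 2, 12, 10, 15, 4, 11, 18, 17, 23, 21, 20, 22]], [6, 1, 0]⟩]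

end CfsgLib.TailsData
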