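import Cfsg.Agent.Lib.Tails.M12Data
import Cfsg.Agent.Lib.Tails.M12Cover
import Cfsg.Agent.Lib.Tails.MathieuThm

/-!
# The multiplier of M12
-/

set_option autoImplicit false
set_option maxRecDepth 100000

namespace CfsgLib.Schur.Tails.M12

open Cfsg CfsgLib.Golay CfsgLib.MathieuOut CfsgLib.TailsData

set_option maxHeartbeats 4000000 in
theorem checks : twoM12Cert.checkB = true ∧ threeM12Cert.checkB = true ∧
    Perm.realisedB [340831] twoM12Gens twoM12Cert twoM12Hs twoM12Steps twoM12Levels = true ∧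
    Perm.realisedB [340831] threeM12Gens threeM12Cert threeM12Hs threeM12Steps threeM12Levels = true := by
  refine ⟨?_, ?_, ?_, ?_⟩ <;> decide +kernel

theorem bound {Γ : Type} [Group Γ] [Finite Γ] (σ : Γ →* ↥Cfsg.Spor.M12)
    (hσ : Cfsg.IsStemExtension σ) : IsCyclic σ.ker ∧ Nat.card σ.ker ∣ 2 := by
  obtain ⟨h2, h3, r2, r3⟩ := checks
  have hne : ∀ p : ℕ, p.Prime → p ≠ 2 → ¬ p ∣ Nat.card σ.ker := by
    intro p hp hp2
    have := Fact.mk hp
    by_cases hsq : p ^ 2 ∣ Nat.card Cfsg.Spor.M12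
    · rcases two_or_three hp 6 3 (5 * 11) (by rw [card_M12]; norm_num)
        squarefree_facts.2 hsq with rfl | rfl
      · exact absurd rfl hp2
      · have : Fact threeM12Cert.p.Prime := ⟨hp⟩
        exact (Perm.realised m12_cut h3 r3 (by rw [card_M12]; decide)).not_dvd rfl rfl rfl hσ
    · exact not_dvd_of_sq hσ hsq
  have h4 : ¬ 2 ^ 2 ∣ Nat.card σ.ker := by
    have : Fact (Nat.Prime 2) := ⟨Nat.prime_two⟩
    have : Fact twoM12Cert.p.Prime := ⟨Nat.prime_two⟩
    exact (Perm.realised m12_cut h2 r2 (by rw [card_M12]; decide)).sq_not_dvd rfl rfl hσ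
  have hdvd : Nat.card σ.ker ∣ 2 := by
    rw [Nat.dvd_iff_prime_pow_dvd_dvd]
    intro p k hp hpk
    rcases Nat.eq_zero_or_pos k with rfl | hk
    · simp
    obtain rfl : p = 2 := by
      by_contra hne2
      exact hne p hp hne2 ((dvd_pow_self p hk.ne').trans hpk)
    have : k ≤ 1 := by
      by_contra hcon
      exact h4 ((pow_dvd_pow 2 (by omega)).trans hpk)
    exact (pow_dvd_pow 2 this).trans (by norm_num)
  refine ⟨?_, hdvd⟩
  rcases (Nat.dvd_prime Nat.prime_two).1 hdvd with h | h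
  · have : Subsingleton σ.ker := (Nat.card_eq_one_iff_unique.1 h).1
    infer_instance
  · have : Fact (Nat.Prime 2) := ⟨Nat.prime_two⟩
    exact isCyclic_of_prime_card (p := 2) h

theorem multiplier_M12 : Cfsg.HasCyclicSchurMultiplier ↥Cfsg.Spor.M12 2 :=
  hasCyclic_of_bound M12Cover.exists_cover fun _ _ _ σ hσ => bound σ hσ

end CfsgLib.Schur.Tails.M12
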