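import Cfsg.Agent.Lib.Tails.Perm
import Cfsg.Agent.Lib.Tails.CertCyclic

/-!
Generated data: certificates for the Schur multiplier of M22.
-/

set_option autoImplicit false
set_option maxRecDepth 20000

namespace CfsgLib.TailsData

open CfsgLib

/-- The overlaps. -/
def twoM22Overlaps : List (List ℕ × List Schur.Tails.Step × List Schur.Tails.Step) := [
  ([0, 1, 2], [(0, 7, true), (2, 8, true), (1, 14, true), (0, 3, true), (0, 13, true)], [(1, 13, true), (0, 12, true), (5, 11, true), (4, 16, true), (3, 20, true), (2, 24, true), (1, 26, true), (0, 5, true), (1, 3, true), (2, 14, true), (1, 18, true), (3, 1, true), (3, 10, true), (2, 21, true), (1, 23, true), (0, 25, true), (2, 3, true), (2, 20, true), (1, 26, true), (4, 2, true), (4, 7, true), (3, 3, true)]),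
  ([0, 1, 4], [(0, 7, true), (2, 10, true), (1, 17, true), (0, 24, true), (1, 3, true), (1, 16, true), (2, 13, true), (1, 27, true), (0, 6, true), (0, 5, true)], [(1, 15, true), (0, 12, true), (5, 11, true), (4, 16, true), (3, 20, true), (2, 24, true), (1, 26, true), (0, 5, true), (1, 3, true), (2, 14, true), (1, 18, true), (3, 1, true), (3, 9, true), (2, 18, true), (1, 3, true), (2, 8, true), (1, 18, true), (2, 2, true), (2, 7, true), (1, 3, true)]),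
  ([0, 1, 5], [(0, 7, true), (2, 11, true), (1, 16, true), (0, 23, true), (2, 14, true), (1, 3, true), (1, 1, true)], [(1, 16, true), (0, 11, true), (3, 7, true), (2, 14, true), (1, 3, true), (1, 1, true)]),
  ([0, 1, 6], [(0, 7, true), (2, 12, true), (1, 16, true), (0, 23, true), (2, 15, true), (1, 24, true), (0, 27, true), (2, 23, true), (1, 5, true), (1, 3, true), (2, 14, true), (1, 18, true), (3, 13, true), (2, 21, true), (1, 23, true), (2, 3, true), (2, 20, true), (1, 27, true), (0, 6, true), (2, 19, true), (1, 22, true), (4, 1, true)], [(1, 17, true), (0, 12, true), (5, 9, true), (4, 14, true), (3, 18, true), (2, 3, true), (4, 7, true), (3, 14, true), (2, 18, true), (4, 1, true)]),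
  ([0, 2, 4], [(0, 8, true), (2, 10, true), (1, 21, true), (0, 23, true), (1, 3, true), (1, 20, true), (0, 27, true), (3, 2, true)], [(1, 19, true), (0, 10, true), (3, 8, true), (2, 18, true), (3, 2, true)]),
  ([0, 2, 5], [(0, 8, true), (2, 11, true), (1, 20, true), (0, 24, true), (1, 3, true), (1, 18, true)], [(1, 20, true), (0, 12, true), (5, 9, true), (4, 14, true), (3, 18, true), (2, 3, true), (4, 8, true), (3, 14, true), (2, 18, true), (4, 13, true), (3, 21, true), (2, 23, true), (1, 25, true), (0, 27, true), (3, 3, true), (3, 20, true), (2, 26, true), (1, 5, true), (3, 19, true), (2, 22, true), (1, 4, true)]),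
  ([0, 2, 6], [(0, 8, true), (2, 12, true), (1, 20, true), (0, 24, true), (1, 3, true), (1, 19, true), (2, 18, true), (3, 2, true)], [(1, 21, true), (0, 11, true), (3, 9, true), (2, 14, true), (1, 3, true), (2, 8, true), (1, 14, true), (2, 13, true), (1, 24, true), (0, 27, true), (2, 23, true), (1, 5, true), (1, 22, true)]),
  ([0, 3, 4], [(0, 9, true), (1, 10, true), (0, 24, true), (1, 23, true)], [(1, 22, true), (0, 10, true), (3, 9, true), (2, 18, true)]),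
  ([0, 3, 5], [(0, 9, true), (1, 11, true), (0, 23, true), (1, 3, true)], [(1, 23, true), (0, 11, true), (3, 9, true), (2, 14, true), (1, 3, true)]),
  ([0, 3, 6], [(0, 9, true), (1, 12, true), (0, 23, true), (1, 22, true), (2, 3, true)], [(1, 24, true), (0, 12, true), (5, 9, true), (4, 14, true), (3, 18, true), (2, 3, true)]),
  ([0, 4, 5], [(0, 10, true), (3, 11, true), (2, 20, true), (1, 27, true), (0, 6, true), (2, 18, true), (1, 3, true)], [(1, 25, true), (0, 12, true), (5, 10, true), (4, 17, true), (3, 21, true), (2, 23, true), (1, 25, true), (0, 27, true), (3, 3, true), (3, 18, true), (5, 16, true), (4, 20, true), (3, 24, true), (2, 26, true), (1, 5, true), (2, 3, true), (3, 13, true), (2, 21, true), (1, 25, true), (0, 6, true), (2, 20, true), (1, 24, true), (0, 26, true), (2, 3, true), (2, 19, true), (1, 4, true)]),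
  ([0, 4, 6], [(0, 10, true), (3, 12, true), (2, 20, true), (1, 27, true), (0, 6, true), (2, 19, true), (1, 22, true), (3, 18, true), (2, 3, true), (2, 2, true)], [(1, 26, true), (0, 11, true), (3, 10, true), (2, 17, true), (1, 24, true), (0, 27, true), (2, 3, true), (2, 16, true), (1, 5, true), (1, 13, true), (0, 6, true)]),
  ([0, 5, 6], [(0, 11, true), (3, 12, true), (2, 16, true), (1, 23, true), (0, 5, true), (1, 15, true), (0, 24, true), (1, 23, true), (2, 3, true), (3, 14, true), (2, 18, true), (4, 13, true), (3, 21, true), (2, 23, true), (1, 5, true), (1, 3, true), (1, 20, true), (0, 6, true), (1, 19, true), (0, 22, true), (3, 1, true)], [(1, 27, true), (0, 12, true), (5, 11, true), (4, 16, true), (3, 20, true), (2, 24, true), (1, 26, true), (0, 5, true), (1, 3, true), (2, 14, true), (1, 18, true), (3, 1, true)]),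
  ([1, 2, 4], [(0, 13, true), (3, 15, true), (2, 26, true), (1, 5, true), (1, 25, true), (0, 6, true)], [(1, 19, true), (0, 15, true), (4, 13, true), (3, 21, true), (2, 23, true), (1, 5, true), (1, 3, true), (1, 20, true), (0, 6, true), (1, 19, true), (0, 22, true)]),
  ([1, 2, 5], [(0, 13, true), (3, 16, true), (2, 25, true), (1, 27, true), (0, 6, true)], [(1, 20, true), (0, 17, true), (2, 14, true), (1, 3, true), (1, 13, true), (0, 6, true)]),
  ([1, 2, 6], [(0, 13, true), (3, 17, true), (2, 26, true), (1, 5, true)], [(1, 21, true), (0, 16, true), (1, 14, true), (2, 13, true), (1, 24, true), (0, 27, true), (2, 23, true), (1, 5, true), (1, 22, true)]),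
  ([1, 4, 5], [(0, 15, true), (4, 16, true), (3, 20, true), (2, 24, true), (1, 27, true), (0, 6, true), (1, 3, true)], [(1, 25, true), (0, 17, true), (2, 15, true), (1, 24, true), (0, 6, true), (0, 23, true), (1, 3, true)]),
  ([0, 0, 0], [(0, 0, true)], [(1, 0, true), (0, 12, true), (5, 11, true), (4, 16, true), (3, 20, true), (2, 24, true), (1, 26, true), (0, 5, true), (1, 3, true), (2, 14, true), (1, 18, true), (3, 1, true), (3, 10, true), (2, 21, true), (1, 23, true), (0, 25, true), (2, 3, true), (2, 20, true), (1, 26, true), (4, 2, true), (4, 9, true), (3, 3, true), (3, 8, true)]),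
  ([0, 0, 1], [(0, 0, true)], [(1, 7, true), (0, 9, true), (1, 7, true), (0, 3, true), (1, 0, true), (0, 17, true), (2, 16, true), (1, 23, true), (3, 15, true), (2, 24, true), (1, 27, true), (0, 6, true), (1, 23, true), (0, 5, true), (0, 3, true), (1, 14, true), (0, 18, true), (2, 13, true), (1, 21, true), (0, 23, true), (1, 3, true), (1, 20, true), (0, 27, true), (3, 19, true), (2, 22, true)]),
  ([0, 1, 1], [(0, 7, true), (2, 7, true), (1, 14, true), (0, 3, true), (0, 1, true)], [(1, 1, true)]),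
  ([0, 4, 4], [(0, 10, true), (3, 10, true), (2, 21, true), (1, 5, true), (2, 20, true), (1, 24, true), (0, 6, true), (0, 3, true), (0, 2, true)], [(1, 4, true)]),
  ([0, 0, 5], [(0, 0, true), (4, 20, true), (3, 24, true), (2, 26, true), (1, 5, true), (2, 3, true)], [(1, 11, true), (0, 11, true), (3, 9, true), (2, 14, true), (1, 3, true), (2, 7, true), (1, 14, true), (2, 1, true), (2, 0, true), (1, 24, true), (0, 27, true), (2, 23, true), (1, 5, true), (1, 22, true), (2, 3, true)]),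
  ([0, 5, 5], [(0, 11, true), (3, 11, true), (2, 16, true), (1, 23, true), (0, 5, true), (1, 14, true), (0, 3, true), (0, 1, true)], [(1, 5, true)])]

/-- A conjugation. -/
def twoM22Fus0 : Schur.Tails.Fus where
  xs := [[6, 5], [4, 3]]
  ys := [[3, 1], [6, 5, 0]]
  rels := [
    ([0, 0], [], [(1, 27, true), (0, 6, true), (0, 5, true)], [(1, 14, true), (0, 3, true), (0, 1, true)]),
    ([1, 1], [], [(1, 22, true), (0, 4, true), (0, 3, true)], [(2, 12, true), (1, 5, true), (5, 11, true), (4, 16, true), (3, 20, true), (2, 24, true), (1, 26, true), (3, 3, true), (4, 14, true), (3, 18, true), (5, 1, true), (5, 0, true), (4, 21, true), (3, 23, true), (2, 25, true), (1, 27, true), (0, 6, true), (2, 3, true), (2, 20, true), (1, 26, true), (0, 5, true), (2, 19, true), (1, 22, true), (0, 4, true), (1, 18, true), (0, 3, true), (0, 2, true)]),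
    ([0, 1], [1, 0], [(0, 27, false), (1, 25, false), (2, 23, false), (0, 26, false), (1, 24, false)], [(1, 17, true), (0, 24, true), (1, 3, true), (1, 16, true), (2, 3, false), (3, 7, false), (2, 9, false)])]

/-- A conjugation. -/
def twoM22Fus1 : Schur.Tails.Fus where
  xs := [[6]]
  ys := [[4, 2, 0]]
  rels := [
    ([0, 0], [], [(0, 6, true)], [(2, 10, true), (1, 21, true), (0, 25, true), (3, 20, true), (2, 24, true), (1, 26, true), (3, 3, true), (3, 2, true), (3, 8, true), (5, 0, true), (4, 21, true), (3, 23, true), (2, 25, true), (1, 27, true), (0, 6, true), (2, 3, true), (2, 20, true), (1, 26, true), (0, 5, true), (2, 19, true), (1, 22, true), (0, 4, true), (1, 18, true), (0, 3, true), (0, 2, true)])]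

/-- A conjugation. -/
def twoM22Fus2 : Schur.Tails.Fus where
  xs := [[6, 5, 1, 0], [4, 3, 2, 0]]
  ys := [[3, 2], [6, 5, 3]]
  rels := [
    ([0, 0], [], [(3, 12, true), (2, 16, true), (1, 5, true), (1, 15, true), (0, 6, true), (3, 14, true), (2, 18, true), (1, 3, true), (2, 13, true), (1, 21, true), (0, 5, true), (1, 20, true), (0, 24, true), (1, 3, true), (1, 19, true), (3, 1, true), (3, 11, true), (2, 20, true), (1, 26, true), (4, 18, true), (3, 3, true), (5, 7, true), (4, 14, true), (3, 18, true), (5, 1, true), (5, 0, true), (4, 21, true), (3, 23, true), (2, 25, true), (1, 27, true), (0, 6, true), (2, 3, true), (2, 20, true), (1, 26, true), (0, 5, true), (2, 19, true), (1, 22, true), (0, 4, true), (1, 18, true), (0, 3, true), (0, 2, true)], [(1, 18, true), (0, 3, true), (0, 2, true)]),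
    ([1, 1], [], [(3, 10, true), (2, 21, true), (1, 23, true), (0, 25, true), (2, 3, true), (2, 20, true), (1, 26, true), (4, 2, true), (4, 9, true), (3, 3, true), (3, 8, true), (5, 0, true), (4, 21, true), (3, 23, true), (2, 25, true), (1, 27, true), (0, 6, true), (2, 3, true), (2, 20, true), (1, 26, true), (0, 5, true), (2, 19, true), (1, 22, true), (0, 4, true), (1, 18, true), (0, 3, true), (0, 2, true)], [(2, 24, true), (1, 27, true), (0, 6, true), (1, 23, true), (0, 5, true), (0, 3, true)])]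

/-- A conjugation. -/
def twoM22Fus3 : Schur.Tails.Fus where
  xs := [[4, 3, 2, 0], [6, 5, 4, 3, 2, 1], [1], [6, 5, 4, 2, 1]]
  ys := [[6, 5, 4, 3, 2], [6, 5, 4, 2, 1], [4, 3, 2, 1, 0], [3]]
  rels := [
    ([0, 0], [], [(3, 10, true), (2, 21, true), (1, 23, true), (0, 25, true), (2, 3, true), (2, 20, true), (1, 26, true), (4, 2, true), (4, 9, true), (3, 3, true), (3, 8, true), (5, 0, true), (4, 21, true), (3, 23, true), (2, 25, true), (1, 27, true), (0, 6, true), (2, 3, true), (2, 20, true), (1, 26, true), (0, 5, true), (2, 19, true), (1, 22, true), (0, 4, true), (1, 18, true), (0, 3, true), (0, 2, true)], [(4, 21, true), (3, 23, true), (2, 25, true), (1, 27, true), (0, 6, true), (2, 3, true), (2, 20, true), (1, 26, true), (0, 5, true), (2, 19, true), (1, 22, true), (0, 4, true), (1, 18, true), (0, 3, true), (0, 2, true)]),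
    ([1, 1], [], [(5, 17, true), (4, 21, true), (3, 23, true), (2, 25, true), (1, 27, true), (0, 6, true), (2, 3, true), (2, 18, true), (4, 16, true), (3, 20, true), (2, 24, true), (1, 26, true), (0, 5, true), (1, 3, true), (2, 15, true), (1, 21, true), (0, 25, true), (3, 20, true), (2, 24, true), (1, 26, true), (3, 3, true), (3, 18, true), (4, 2, true), (4, 14, true), (3, 3, true), (3, 13, true), (2, 26, true), (1, 5, true), (1, 25, true), (0, 6, true), (0, 4, true), (0, 1, true)], [(4, 17, true), (3, 21, true), (2, 25, true), (1, 27, true), (0, 6, true), (3, 18, true), (2, 3, true), (3, 16, true), (2, 20, true), (1, 26, true), (0, 5, true), (3, 15, true), (2, 21, true), (1, 23, true), (0, 25, true), (2, 3, true), (2, 20, true), (1, 26, true), (4, 18, true), (3, 3, true), (3, 2, true), (3, 13, true), (2, 26, true), (1, 5, true), (1, 25, true), (0, 6, true), (0, 4, true), (0, 1, true)]),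
    ([2, 2], [], [(0, 1, true)], [(4, 10, true), (3, 17, true), (2, 21, true), (1, 23, true), (0, 25, true), (2, 3, true), (2, 18, true), (4, 16, true), (3, 20, true), (2, 24, true), (1, 26, true), (3, 3, true), (4, 13, true), (3, 21, true), (2, 25, true), (1, 27, true), (0, 6, true), (3, 20, true), (2, 24, true), (1, 26, true), (0, 5, true), (1, 3, true), (1, 19, true), (0, 4, true), (2, 9, true), (1, 14, true), (0, 18, true), (3, 8, true), (2, 14, true), (1, 18, true), (0, 3, true), (1, 13, true), (0, 21, true), (2, 20, true), (1, 24, true), (0, 27, true), (2, 3, true), (2, 19, true), (5, 7, true), (4, 14, true), (3, 18, true), (5, 1, true), (5, 0, true), (4, 21, true), (3, 23, true), (2, 25, true), (1, 27, true), (0, 6, true), (2, 3, true), (2, 20, true), (1, 26, true), (0, 5, true), (2, 19, true), (1, 22, true), (0, 4, true), (1, 18, true), (0, 3, true), (0, 2, true)]),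
    ([3, 3], [], [(4, 17, true), (3, 21, true), (2, 25, true), (1, 27, true), (0, 6, true), (3, 18, true), (2, 3, true), (3, 16, true), (2, 20, true), (1, 26, true), (0, 5, true), (3, 15, true), (2, 21, true), (1, 23, true), (0, 25, true), (2, 3, true), (2, 20, true), (1, 26, true), (4, 18, true), (3, 3, true), (3, 2, true), (3, 13, true), (2, 26, true), (1, 5, true), (1, 25, true), (0, 6, true), (0, 4, true), (0, 1, true)], [(0, 3, true)]),
    ([0, 1], [1, 0], [(3, 12, true), (2, 20, true), (1, 24, true), (0, 26, true), (2, 3, true), (2, 19, true), (1, 4, true), (1, 18, true), (2, 2, true), (3, 11, true), (2, 16, true), (1, 23, true), (0, 5, true), (1, 14, true), (0, 3, true), (0, 1, true), (0, 10, true), (3, 9, true), (2, 18, true), (4, 8, true), (3, 18, true), (2, 3, true), (2, 2, true), (2, 7, true), (2, 4, false), (3, 22, false), (0, 27, false), (1, 25, false), (2, 23, false), (0, 26, false),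 (1, 24, false), (2, 13, false), (1, 14, false), (1, 2, false), (1, 3, false), (2, 18, false), (0, 5, false), (1, 26, false), (2, 20, false), (2, 3, false), (0, 6, false), (1, 27, false), (2, 25, false), (3, 23, false), (4, 21, false), (5, 15, false)], [(4, 21, true), (3, 23, true), (2, 25, true), (1, 27, true), (0, 6, true), (2, 3, true), (2, 20, true), (1, 26, true), (0, 5, true), (2, 19, true), (1, 22, true), (0, 4, true), (1, 2, true), (0, 4, false), (1, 22, false), (0, 6, false), (1, 25, false), (2, 23, false), (1, 5, false), (2, 26, false), (3, 24, false), (4, 13, false), (3, 14, false), (3, 2, false), (3, 3, false), (4, 18, false), (1, 26, false), (2, 20, false), (2, 3, false), (0, 25, false), (1, 23, false), (2, 21, false), (3, 15, false), (0, 5, false), (1, 26, false), (2, 20, false), (3, 16, false), (2, 3, false), (3, 18, false), (0, 6, false), (1, 27, false), (2, 25, false), (3, 21, false),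 (4, 17, false)])]

/-- The certificate. -/
def twoM22Cert : Schur.Tails.Cert where
  p := 2
  q := 8
  n := 7
  rels := [
    ([0, 0], [6, 5, 4, 3, 2]),
    ([1, 1], []),
    ([2, 2], []),
    ([3, 3], []),
    ([4, 4], []),
    ([5, 5], []),
    ([6, 6], []),
    ([0, 1], [3, 1, 0]),
    ([0, 2], [3, 2, 0]),
    ([0, 3], [3, 0]),
    ([0, 4], [6, 5, 2, 0]),
    ([0, 5], [5, 3, 1, 0]),
    ([0, 6], [5, 4, 3, 2, 1, 0]),
    ([1, 2], [6, 5, 4, 1]),
    ([1, 3], [3, 1]),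
    ([1, 4], [6, 5, 3, 2, 1]),
    ([1, 5], [5, 1]),
    ([1, 6], [6, 3, 1]),
    ([2, 3], [3, 2]),
    ([2, 4], [4, 2]),
    ([2, 5], [6, 3, 2]),
    ([2, 6], [5, 3, 2]),
    ([3, 4], [4, 3]),
    ([3, 5], [5, 3]),
    ([3, 6], [6, 3]),
    ([4, 5], [6, 4]),
    ([4, 6], [5, 4]),
    ([5, 6], [6, 5])]
  overlaps := twoM22Overlaps
  fus := [twoM22Fus0, twoM22Fus1, twoM22Fus2, twoM22Fus3]
  mu := [[7, 0, 7, 0, 1, 0, 0, 1, 0, 0, 0, 0, 0, 0, 0, 0, 0, 0, 0, 0, 0, 0, 0, 0, 0, 0, 0, 0, 0, 0, 0, 0, 1], [0, 0, 0, 0, 0, 0, 0, 7, 0, 0, 0, 1], [0, 0, 7, 0, 1, 3, 0, 7, 0, 0, 0, 0, 0, 0, 0, 0, 0, 0, 0, 0, 6, 0, 0, 0, 0, 0, 0, 0, 0, 5, 2, 0, 3], [0, 0, 0, 0, 0, 0, 0, 1], [7, 0, 7, 0, 1, 7, 0, 3, 0, 0, 0, 0, 0, 0, 0, 0, 0, 0, 0, 0, 1, 0, 0, 0, 0, 0, 0, 0, 0, 3, 0, 0, 1], [0, 0, 0, 0, 0, 3, 0, 4, 0, 0, 0, 0, 0, 0, 0, 0, 0, 0, 0, 0, 4, 0, 0, 0, 0, 0, 0, 0, 0, 0, 3, 0, 3], [0, 0, 0, 0, 0, 3, 0, 3, 0, 0, 0, 0, 0, 0,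 0, 0, 0, 0, 0, 0, 5, 0, 0, 0, 0, 0, 0, 0, 0, 0, 3, 0, 3]]
  combos := [
    ([], 0),
    ([(0, 5), (1, 6), (2, 5), (3, 2), (4, 2), (5, 6), (6, 3), (7, 7), (8, 5), (9, 3), (10, 2), (11, 7), (12, 3), (14, 3), (15, 2), (17, 2), (18, 1), (19, 5), (20, 2), (21, 1), (22, 4), (23, 4), (24, 4), (25, 6), (26, 4), (27, 4), (28, 6), (29, 4), (30, 2), (31, 6), (33, 3)], 2),
    ([(0, 3), (1, 3), (3, 5), (4, 1), (6, 5), (7, 5), (8, 3), (9, 2), (11, 7), (13, 4), (14, 1), (15, 2), (20, 3), (22, 4), (24, 7), (25, 3), (26, 2), (27, 4), (28, 3), (30, 2), (31, 6), (32, 4), (33, 5)], 2),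
    ([(0, 7), (1, 5), (2, 4), (3, 1), (4, 5), (5, 6), (6, 6), (7, 4), (8, 2), (9, 6), (10, 4), (11, 2), (12, 6), (13, 5), (14, 6), (15, 2), (17, 6), (18, 2), (19, 2), (20, 2), (21, 6), (22, 4), (24, 4), (25, 4), (27, 4), (28, 4), (31, 4), (32, 4), (33, 4)], 0),
    ([(0, 2), (1, 2), (2, 3), (3, 2), (4, 2), (5, 1), (6, 7), (7, 1), (8, 4), (9, 3), (10, 6), (11, 4), (12, 3), (14, 7), (15, 4), (17, 6), (18, 1), (19, 5), (20, 3), (21, 6), (22, 2), (24, 5), (25, 7), (26, 4), (28, 5), (30, 6), (31, 6), (33, 3)], 2),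
    ([(1, 1), (2, 1), (3, 1), (4, 7), (5, 3), (6, 1), (7, 4), (8, 3), (9, 3), (10, 7), (11, 1), (12, 3), (14, 7), (15, 2), (18, 1), (19, 5), (21, 4), (22, 4), (23, 4), (24, 4), (25, 5), (26, 5), (27, 4), (28, 7), (29, 4), (30, 2), (31, 6), (33, 1)], 6),
    ([(0, 4), (1, 6), (2, 2), (3, 6), (4, 2), (5, 7), (7, 7), (8, 5), (9, 1), (10, 4), (11, 3), (12, 1), (13, 7), (15, 2), (17, 7), (18, 3), (19, 7), (20, 3), (25, 7), (26, 5), (28, 7), (30, 2), (31, 2), (33, 1)], 6),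
    ([], 0),
    ([(0, 3), (1, 4), (3, 5), (4, 6), (5, 7), (6, 5), (7, 1), (9, 2), (10, 1), (12, 5), (14, 2), (15, 2), (17, 6), (18, 7), (19, 3), (20, 3), (21, 6), (22, 3), (25, 2), (26, 6), (28, 3), (30, 1), (31, 5)], 7),
    ([(1, 3), (3, 5), (4, 3), (5, 4), (7, 2), (8, 3), (9, 2), (10, 6), (11, 2), (12, 4), (13, 3), (14, 2), (15, 2), (17, 5), (18, 4), (19, 4), (20, 4), (21, 6), (22, 6), (26, 4), (28, 6), (30, 2), (31, 2)], 2),
    ([(0, 2), (1, 2), (3, 3), (4, 3), (5, 1), (6, 4), (8, 4), (9, 7), (10, 6), (12, 6), (13, 5), (14, 2), (17, 6), (18, 2), (19, 2), (20, 6), (21, 6), (22, 3), (24, 1), (26, 2), (28, 5), (30, 7), (31, 3), (33, 6)], 5),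
    ([], 0),
    ([(0, 6), (1, 4), (2, 6), (3, 4), (4, 7), (5, 3), (6, 1), (7, 5), (8, 3), (9, 6), (12, 6), (13, 4), (14, 5), (15, 2), (17, 1), (18, 2), (19, 2), (21, 2), (22, 7), (24, 4), (25, 1), (26, 1), (28, 2), (30, 4), (31, 4), (33, 2)], 4),
    ([(0, 1), (1, 6), (2, 7), (3, 4), (4, 2), (5, 7), (6, 2), (7, 5), (8, 4), (9, 3), (10, 6), (11, 4), (12, 5), (13, 1), (15, 4), (17, 1), (18, 7), (19, 3), (20, 7), (22, 1), (23, 4), (24, 3), (25, 7), (26, 6), (27, 4), (28, 6), (29, 4), (31, 4), (33, 6)], 0),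
    ([(8, 7)], 0),
    ([(0, 4), (1, 1), (2, 4), (6, 6), (7, 1), (8, 4), (9, 6), (10, 6), (11, 1), (12, 4), (13, 6), (15, 6), (17, 3), (18, 4), (19, 4), (20, 4), (21, 4), (22, 5), (24, 1), (25, 6), (26, 4), (28, 2), (30, 6), (31, 6)], 6),
    ([(1, 5), (2, 2), (3, 5), (4, 5), (5, 4), (6, 7), (7, 5), (8, 6), (9, 3), (10, 6), (11, 3), (12, 3), (13, 3), (14, 3), (15, 4), (18, 1), (19, 5), (21, 1), (22, 1), (23, 4), (24, 4), (25, 6), (26, 4), (27, 4), (28, 6), (29, 4), (30, 2), (31, 6), (33, 5)], 6),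
    ([(0, 4), (1, 2), (2, 1), (4, 4), (5, 7), (6, 1), (7, 1), (9, 1), (10, 5), (11, 3), (12, 7), (13, 1), (14, 5), (15, 3), (17, 4), (18, 5), (19, 1), (21, 3), (22, 3), (23, 4), (25, 4), (29, 4), (30, 4), (31, 4), (32, 4), (33, 2)], 4),
    ([(1, 5), (2, 7), (3, 3), (4, 7), (5, 6), (6, 3), (7, 1), (8, 2), (9, 4), (11, 3), (12, 2), (13, 6), (14, 7), (15, 6), (17, 3), (18, 6), (19, 6), (23, 4), (24, 4), (25, 6), (26, 4), (27, 4), (28, 2), (29, 4), (30, 6), (31, 2)], 6),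
    ([(0, 4), (2, 3), (4, 5), (5, 5), (6, 4), (7, 1), (8, 3), (9, 6), (10, 7), (12, 2), (13, 3), (14, 1), (15, 2), (17, 5), (18, 6), (19, 6), (20, 4), (21, 2), (22, 2), (23, 4), (24, 4), (25, 5), (27, 4), (28, 4), (29, 4), (30, 4), (33, 1)], 0),
    ([], 0),
    ([(1, 7), (2, 6), (3, 7), (4, 3), (5, 5), (6, 3), (7, 3), (8, 7), (9, 5), (10, 5), (11, 7), (12, 1), (13, 7), (14, 4), (15, 1), (17, 3), (18, 3), (19, 7), (21, 4), (22, 4), (23, 4), (24, 4), (25, 2), (26, 4), (27, 4), (28, 6), (29, 4), (30, 2), (31, 6), (33, 2)], 2),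
    ([(1, 7), (2, 4), (3, 1), (4, 7), (6, 5), (7, 4), (8, 2), (10, 6), (11, 1), (12, 6), (13, 1), (14, 2), (15, 5), (17, 3), (18, 2), (19, 2), (21, 4), (22, 4), (23, 4), (24, 4), (26, 4), (27, 4), (28, 2), (29, 4), (30, 6), (31, 2), (33, 2)], 2),
    ([(2, 1)], 0),
    ([(2, 6), (4, 2), (5, 2), (7, 2), (9, 4), (10, 6), (12, 4), (13, 7), (14, 1), (15, 3), (17, 2), (18, 4), (19, 4), (21, 4), (22, 4), (25, 2), (33, 2)], 0),
    ([(1, 7), (3, 3), (4, 1), (5, 7), (7, 3), (8, 7), (9, 1), (10, 3), (11, 2), (12, 1), (13, 6), (14, 5), (15, 6), (17, 3), (18, 3), (19, 7), (20, 4), (21, 4), (22, 4), (25, 5), (26, 4), (28, 6), (30, 2), (31, 2), (33, 2)], 2),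
    ([(1, 5), (2, 7), (3, 7), (4, 3), (5, 7), (6, 7), (7, 7), (10, 3), (11, 3), (12, 6), (13, 6), (14, 4), (15, 1), (17, 1), (18, 2), (19, 2), (20, 4), (21, 4), (22, 4), (25, 7), (26, 4), (28, 6), (30, 2), (31, 2), (33, 6)], 6),
    ([(2, 5), (3, 6), (4, 6), (5, 7), (6, 1), (7, 6), (8, 2), (9, 1), (10, 5), (11, 3), (12, 7), (13, 5), (14, 3), (15, 6), (17, 1), (18, 5), (19, 1), (21, 2), (22, 2), (25, 5), (28, 4), (30, 4), (31, 4), (33, 1)], 0)]
  tau := [0, 0, 0, 0, 0, 0, 0, 0, 0, 0, 1, 0, 0, 0, 0, 7, 0, 0, 0, 0, 0, 1, 0, 0, 0, 0, 5, 0, 0, 0, 4, 0, 2, 0, 6, 6]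
  tauCombo := [(1, 6), (2, 1), (3, 2), (4, 4), (5, 1), (6, 5), (7, 2), (9, 3), (10, 3), (11, 7), (12, 6), (13, 5), (14, 2), (15, 5), (16, 7), (17, 4), (18, 2), (19, 2), (20, 4), (21, 4), (22, 4), (23, 4), (24, 4), (25, 6), (27, 4), (28, 4), (29, 4), (30, 4), (33, 2)]

/-- The generators. -/
def twoM22Gens : List (List ℕ) := [
  [0, 1, 12, 13, 3, 14, 9, 17, 5, 18, 11, 10, 16, 21, 20, 2, 15, 7, 19, 6, 8, 4, 22, 23],
  [0, 1, 5, 14, 6, 2, 4, 7, 21, 12, 10, 11, 9, 18, 3, 19, 20, 17, 13, 15, 16, 8, 22, 23],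
  [0, 1, 16, 15, 13, 6, 5, 10, 8, 9, 7, 17, 21, 4, 14, 3, 2, 11, 20, 19, 18, 12, 22, 23],
  [0, 1, 4, 12, 2, 6, 5, 7, 19, 14, 10, 11, 3, 16, 9, 21, 13, 17, 20, 8, 18, 15, 22, 23],
  [0, 1, 4, 21, 2, 18, 20, 11, 8, 9, 17, 7, 15, 16, 14, 12, 13, 10, 5, 19, 6, 3, 22, 23],
  [0, 22, 2, 9, 4, 5, 6, 17, 21, 3, 10, 11, 14, 16, 12, 19, 13, 7, 20, 15, 18, 8, 1, 23],
  [0, 22, 2, 8, 4, 6, 5, 7, 3, 21, 11, 10, 19, 16, 15, 14, 13, 17, 18, 12, 20, 9, 1, 23]]

/-- The conjugating elements. -/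
def twoM22Hs : List (List ℕ) := [
  [0, 17, 7, 14, 1, 15, 8, 19, 13, 20, 4, 5, 16, 11, 9, 18, 10, 21, 6, 3, 2, 12, 22, 23],
  [0, 16, 22, 15, 10, 20, 8, 11, 13, 14, 12, 4, 2, 9, 19, 18, 6, 7, 1, 3, 17, 5, 21, 23],
  [0, 22, 2, 3, 15, 10, 9, 5, 13, 11, 20, 1, 4, 17, 19, 14, 8, 18, 16, 12, 21, 7, 6, 23],
  [0, 1, 5, 2, 16, 3, 8, 7, 18, 21, 11, 22, 20, 12, 14, 9, 19, 17, 6, 4, 13, 15, 10, 23]]

/-- The program of the chain. -/
def twoM22Steps : List CfsgLib.Golay.Step := [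
  ([0, 1, 2, 3, 4, 5, 6, 7, 8, 9, 10, 11, 12, 13, 14, 15, 16, 17, 18, 19, 20, 21, 22, 23], true, 0, 0),
  ([0, 1, 9, 18, 14, 3, 12, 17, 2, 13, 11, 10, 20, 8, 16, 5, 19, 7, 15, 4, 21, 6, 22, 23], false, 1, 0),
  ([0, 1, 21, 4, 15, 14, 9, 11, 6, 20, 17, 7, 2, 12, 18, 16, 3, 10, 19, 5, 8, 13, 22, 23], false, 2, 0),
  ([0, 1, 3, 16, 12, 9, 14, 17, 6, 20, 11, 10, 13, 15, 18, 4, 21, 7, 8, 5, 19, 2, 22, 23], false, 3, 0),
  ([0, 1, 15, 16, 21, 14, 9, 10, 18, 5, 7, 17, 13, 3, 6, 4, 12, 11, 19, 20, 8, 2, 22, 23], false, 4, 0),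
  ([0, 22, 14, 16, 9, 12, 3, 7, 5, 20, 11, 10, 13, 8, 18, 2, 19, 17, 15, 6, 21, 4, 1, 23], false, 5, 0),
  ([0, 22, 19, 16, 8, 15, 21, 17, 6, 18, 10, 11, 13, 9, 20, 2, 14, 7, 12, 5, 3, 4, 1, 23], false, 6, 0),
  ([0, 1, 6, 14, 5, 16, 13, 10, 12, 21, 7, 17, 9, 20, 15, 19, 18, 11, 4, 3, 2, 8, 22, 23], false, 2, 1),
  ([0, 1, 18, 14, 20, 4, 2, 11, 3, 15, 17, 7, 9, 5, 21, 19, 6, 10, 16, 12, 13, 8, 22, 23], false, 4, 1),
  ([0, 1, 20, 19, 18, 4, 2, 10, 21, 12, 7, 17, 8, 6, 3, 14, 5, 11, 16, 15, 13, 9, 22, 23], false, 1, 2),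
  ([0, 1, 13, 21, 16, 5, 6, 10, 19, 14, 7, 17, 15, 2, 9, 12, 4, 11, 18, 8, 20, 3, 22, 23], false, 3, 2),
  ([0, 1, 8, 6, 19, 3, 12, 11, 4, 16, 17, 7, 5, 9, 13, 20, 14, 10, 15, 2, 21, 18, 22, 23], false, 1, 9),
  ([0, 1, 2, 15, 4, 20, 18, 11, 19, 14, 17, 7, 21, 13, 9, 3, 16, 10, 6, 8, 5, 12, 22, 23], false, 4, 3),
  ([0, 1, 2, 21, 4, 6, 5, 17, 9, 8, 11, 10, 15, 13, 19, 12, 16, 7, 20, 14, 18, 3, 22, 23], false, 6, 5),
  ([0, 1, 16, 21, 13, 20, 18, 7, 14, 19, 10, 11, 15, 4, 8, 12, 2, 17, 6, 9, 5, 3, 22, 23], false, 0, 0),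
  ([0, 1, 2, 12, 4, 18, 20, 10, 14, 19, 7, 17, 3, 13, 8, 21, 16, 11, 5, 9, 6, 15, 22, 23], false, 2, 21),
  ([0, 22, 2, 19, 4, 18, 20, 11, 15, 12, 7, 17, 8, 16, 3, 9, 13, 10, 6, 21, 5, 14, 1, 23], false, 5, 19),
  ([0, 22, 2, 14, 4, 20, 18, 10, 12, 15, 17, 7, 9, 16, 21, 8, 13, 11, 5, 3, 6, 19, 1, 23], false, 6, 19)]

/-- The chain. -/
def twoM22Levels : List CfsgLib.Golay.Level := [
  ⟨2, [[0, 1, 2, 3, 4, 5, 6, 7, 8, 9, 10, 11, 12, 13, 14, 15, 16, 17, 18, 19, 20, 21, 22, 23], [0, 1, 12, 13, 3, 14, 9, 17, 5, 18, 11, 10, 16, 21, 20, 2, 15, 7, 19, 6, 8, 4, 22, 23], [0, 1, 5, 14, 6, 2, 4, 7, 21, 12, 10, 11, 9, 18, 3, 19, 20, 17, 13, 15, 16, 8, 22, 23], [0, 1, 16, 15, 13, 6, 5, 10, 8, 9, 7, 17, 21, 4, 14, 3, 2, 11, 20, 19, 18, 12, 22, 23], [0, 1, 4, 12, 2, 6, 5, 7, 19, 14, 10, 11, 3, 16, 9, 21, 13, 17, 20, 8, 18, 15, 22, 23], [0, 1, 9, 18, 14, 3, 12, 17, 2, 13, 11, 10, 20, 8, 16, 5, 19, 7, 15, 4, 21, 6,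 22, 23], [0, 1, 21, 4, 15, 14, 9, 11, 6, 20, 17, 7, 2, 12, 18, 16, 3, 10, 19, 5, 8, 13, 22, 23], [0, 1, 3, 16, 12, 9, 14, 17, 6, 20, 11, 10, 13, 15, 18, 4, 21, 7, 8, 5, 19, 2, 22, 23], [0, 1, 15, 16, 21, 14, 9, 10, 18, 5, 7, 17, 13, 3, 6, 4, 12, 11, 19, 20, 8, 2, 22, 23], [0, 22, 14, 16, 9, 12, 3, 7, 5, 20, 11, 10, 13, 8, 18, 2, 19, 17, 15, 6, 21, 4, 1, 23], [0, 22, 19, 16, 8, 15, 21, 17, 6, 18, 10, 11, 13, 9, 20, 2, 14, 7, 12, 5, 3, 4, 1, 23], [0, 1, 6, 14, 5, 16, 13, 10, 12, 21, 7, 17, 9, 20, 15, 19, 18, 11, 4, 3, 2, 8, 22, 23], [0, 1, 18, 14, 20, 4, 2, 11, 3, 15, 17, 7, 9, 5, 21, 19, 6, 10, 16, 12, 13, 8, 22, 23], [0, 1, 20, 19, 18, 4, 2, 10, 21, 12, 7, 17, 8, 6, 3, 14, 5, 11, 16, 15, 13, 9, 22, 23], [0, 1, 13, 21, 16, 5, 6, 10, 19, 14, 7, 17, 15, 2, 9, 12, 4, 11, 18, 8, 20, 3, 22, 23], [0, 1, 8, 6, 19, 3, 12, 11, 4, 16, 17, 7, 5, 9, 13, 20, 14, 10, 15, 2, 21, 18, 22, 23]], [2, 12, 5, 16, 4, 9,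 21, 3, 15, 14, 19, 6, 18, 20, 13, 8]⟩,
  ⟨3, [[0, 1, 2, 3, 4, 5, 6, 7, 8, 9, 10, 11, 12, 13, 14, 15, 16, 17, 18, 19, 20, 21, 22, 23], [0, 22, 2, 9, 4, 5, 6, 17, 21, 3, 10, 11, 14, 16, 12, 19, 13, 7, 20, 15, 18, 8, 1, 23], [0, 22, 2, 8, 4, 6, 5, 7, 3, 21, 11, 10, 19, 16, 15, 14, 13, 17, 18, 12, 20, 9, 1, 23], [0, 1, 2, 15, 4, 20, 18, 11, 19, 14, 17, 7, 21, 13, 9, 3, 16, 10, 6, 8, 5, 12, 22, 23], [0, 1, 2, 21, 4, 6, 5, 17, 9, 8, 11, 10, 15, 13, 19, 12, 16, 7, 20, 14, 18, 3, 22, 23], [0, 1, 2, 12, 4, 18, 20, 10, 14, 19, 7, 17, 3, 13, 8, 21, 16, 11, 5, 9, 6, 15, 22, 23], [0, 22, 2, 19, 4, 18, 20, 11, 15, 12, 7, 17, 8, 16, 3, 9, 13, 10, 6, 21, 5, 14, 1, 23], [0, 22, 2, 14, 4, 20, 18, 10, 12, 15, 17, 7, 9, 16, 21, 8, 13, 11, 5, 3, 6, 19, 1, 23]], [3, 9, 8, 15, 21, 12, 19, 14]⟩]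

/-- The certificate with its exponent. -/
def twoM22Cyclic : Schur.Tails.CyclicCert := ⟨twoM22Cert, 2⟩

/-- The overlaps. -/
def threeM22Overlaps : List (List ℕ × List Schur.Tails.Step × List Schur.Tails.Step) := [
  ([0, 0, 0, 1], [(0, 0, true)], [(2, 2, true), (1, 2, true), (0, 2, true), (1, 0, true)])]

/-- A conjugation. -/
def threeM22Fus0 : Schur.Tails.Fus where
  xs := [[1, 1]]
  ys := [[1]]
  rels := [
    ([0, 0, 0], [], [(0, 1, true), (0, 1, true)], [(0, 1, true)])]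

/-- A conjugation. -/
def threeM22Fus1 : Schur.Tails.Fus where
  xs := [[1, 1, 0, 0]]
  ys := [[1, 1]]
  rels := [
    ([0, 0, 0], [], [(3, 2, true), (2, 2, true), (0, 1, true), (1, 2, true), (0, 2, true), (1, 0, true), (1, 2, true), (2, 2, true), (0, 1, true), (0, 0, true)], [(0, 1, true), (0, 1, true)])]

/-- The certificate. -/
def threeM22Cert : Schur.Tails.Cert where
  p := 3
  q := 9
  n := 2
  rels := [
    ([0, 0, 0], []),
    ([1, 1, 1], []),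
    ([0, 1], [1, 0])]
  overlaps := threeM22Overlaps
  fus := [threeM22Fus0, threeM22Fus1]
  mu := [[0, 0, 0, 0, 1], [0, 0, 0, 2]]
  combos := [
    ([(2, 5)], 3),
    ([(1, 1)], 0),
    ([], 8)]
  tau := [0, 0, 8]
  tauCombo := [(0, 1)]

/-- The generators. -/
def threeM22Gens : List (List ℕ) := [
  [0, 4, 22, 21, 13, 5, 14, 3, 18, 8, 10, 15, 11, 1, 19, 12, 2, 17, 9, 6, 20, 7, 16, 23],
  [0, 13, 2, 19, 1, 20, 9, 14, 7, 21, 10, 15, 11, 4, 8, 12, 16, 5, 3, 18, 17, 6, 22, 23]]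

/-- The conjugating elements. -/
def threeM22Hs : List (List ℕ) := [
  [0, 9, 16, 14, 21, 5, 18, 1, 13, 19, 2, 15, 12, 6, 4, 11, 22, 20, 8, 7, 17, 3, 10, 23],
  [0, 2, 14, 19, 16, 12, 18, 6, 3, 21, 22, 17, 5, 10, 4, 20, 7, 15, 1, 9, 11, 13, 8, 23]]

/-- The program of the chain. -/
def threeM22Steps : List CfsgLib.Golay.Step := [
  ([0, 1, 2, 3, 4, 5, 6, 7, 8, 9, 10, 11, 12, 13, 14, 15, 16, 17, 18, 19, 20, 21, 22, 23], true, 0, 0),
  ([0, 13, 16, 7, 1, 5, 19, 21, 9, 18, 10, 12, 15, 4, 6, 11, 22, 17, 8, 14, 20, 3, 2, 23], false, 0, 0),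
  ([0, 1, 22, 6, 4, 20, 8, 19, 3, 7, 10, 12, 15, 13, 18, 11, 2, 5, 21, 9, 17, 14, 16, 23], false, 1, 0),
  ([0, 4, 2, 18, 13, 17, 21, 8, 14, 6, 10, 12, 15, 1, 7, 11, 16, 20, 19, 3, 5, 9, 22, 23], false, 1, 1),
  ([0, 4, 16, 14, 13, 20, 18, 6, 21, 3, 10, 11, 12, 1, 9, 15, 22, 5, 7, 8, 17, 19, 2, 23], false, 1, 3),
  ([0, 13, 22, 9, 1, 17, 7, 18, 19, 14, 10, 11, 12, 4, 3, 15, 2, 20, 6, 21, 5, 8, 16, 23], false, 1, 4),
  ([0, 1, 16, 8, 4, 17, 3, 9, 6, 19, 10, 15, 11, 13, 21, 12, 22, 20, 14, 7, 5, 18, 2, 23], false, 1, 6)]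

/-- The chain. -/
def threeM22Levels : List CfsgLib.Golay.Level := [
  ⟨3, [[0, 1, 2, 3, 4, 5, 6, 7, 8, 9, 10, 11, 12, 13, 14, 15, 16, 17, 18, 19, 20, 21, 22, 23], [0, 4, 22, 21, 13, 5, 14, 3, 18, 8, 10, 15, 11, 1, 19, 12, 2, 17, 9, 6, 20, 7, 16, 23], [0, 13, 2, 19, 1, 20, 9, 14, 7, 21, 10, 15, 11, 4, 8, 12, 16, 5, 3, 18, 17, 6, 22, 23], [0, 13, 16, 7, 1, 5, 19, 21, 9, 18, 10, 12, 15, 4, 6, 11, 22, 17, 8, 14, 20, 3, 2, 23], [0, 1, 22, 6, 4, 20, 8, 19, 3, 7, 10, 12, 15, 13, 18, 11, 2, 5, 21, 9, 17, 14, 16, 23], [0, 4, 2, 18, 13, 17, 21, 8, 14, 6, 10, 12, 15, 1, 7, 11, 16, 20, 19, 3, 5, 9, 22, 23], [0, 4, 16, 14, 13, 20, 18, 6, 21, 3, 10, 11, 12, 1, 9, 15, 22, 5, 7, 8, 17, 19, 2, 23], [0, 13, 22, 9, 1, 17, 7, 18, 19, 14, 10, 11, 12, 4, 3, 15, 2, 20, 6, 21, 5, 8, 16, 23], [0, 1, 16, 8, 4, 17, 3, 9, 6, 19, 10, 15, 11, 13, 21, 12, 22, 20, 14, 7, 5, 18, 2, 23]], [3, 21, 19, 7, 6, 18, 14, 9, 8]⟩]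

end CfsgLib.TailsData
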