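import Cfsg.Agent.Lib.Tails.M22CertData
import Cfsg.Agent.Lib.MathieuOut.Groups

/-!
# The checks of the certificates for M22
-/

set_option autoImplicit false
set_option maxRecDepth 100000

namespace CfsgLib.TailsData

open CfsgLib

set_option maxHeartbeats 4000000 in
theorem check_twoM22 : twoM22Cyclic.checkB = true ∧
    Schur.Tails.Perm.realisedB [8388608, 1] twoM22Gens twoM22Cert twoM22Hs twoM22Steps twoM22Levels = true := by
  refine ⟨?_, ?_⟩ <;> decide +kernel

set_option maxHeartbeats 4000000 in
theorem check_threeM22 : threeM22Cert.checkB = true ∧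
    Schur.Tails.Perm.realisedB [8388608, 1] threeM22Gens threeM22Cert threeM22Hs threeM22Steps threeM22Levels = true := by
  refine ⟨?_, ?_⟩ <;> decide +kernel

end CfsgLib.TailsData
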