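import Cfsg.Agent.Lib.Tails.M22FourData

/-!
A check of the table for the stem extension of M22.
-/

set_option autoImplicit false

namespace CfsgLib.TailsData

theorem fourM22_cy : fourM22Table.coordB fourM22Table.y fourM22Table.cy = true :=
  by decide +kernel

end CfsgLib.TailsData
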