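import Cfsg.Agent.Lib.Tails.M22Check
import Cfsg.Agent.Lib.Tails.M22FourGroup
import Cfsg.Agent.Lib.Tails.M22FourCoc
import Cfsg.Agent.Lib.Tails.M22FourReps
import Cfsg.Agent.Lib.Tails.M22FourOrd
import Cfsg.Agent.Lib.Tails.M22FourCoordX
import Cfsg.Agent.Lib.Tails.M22FourCoordY
import Cfsg.Agent.Lib.Tails.M22FourPair
import Cfsg.Agent.Lib.Tails.M22ThreeGroup
import Cfsg.Agent.Lib.Tails.M22ThreeCoc
import Cfsg.Agent.Lib.Tails.M22ThreeReps
import Cfsg.Agent.Lib.Tails.M22ThreeOrd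
import Cfsg.Agent.Lib.Tails.M22ThreeCoordX
import Cfsg.Agent.Lib.Tails.M22ThreeCoordY
import Cfsg.Agent.Lib.Tails.M22ThreePair
import Cfsg.Agent.Lib.Tails.MathieuThm
import Cfsg.Agent.Lib.Tails.Combine

/-!
# The multiplier of M22
-/

set_option autoImplicit false
set_option maxRecDepth 100000

namespace CfsgLib.Schur.Tails.M22Mult

open Cfsg CfsgLib.Golay CfsgLib.M24Cert CfsgLib.MathieuOut CfsgLib.TailsData
open scoped commutatorElement

theorem realised_cyclic {G : Subgroup (Equiv.Perm GolayPt)} {masks : List ℕ} (hG : Cut G masks) {d : CyclicCert}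
    (hc : d.checkB = true) {gens hs : List (List ℕ)} {steps : List CfsgLib.Golay.Step}
    {levels : List Level} (h : Perm.realisedB masks gens d.base hs steps levels = true)
    (hdiv : ¬ d.base.p ^ (d.base.n + 1) ∣ Nat.card G) : d.Realised ↥G := by
  refine ⟨hc, ?_⟩
  simp only [Perm.realisedB, Bool.and_eq_true, allB_iff, Nat.beq_eq, Nat.ble_eq] at h
  obtain ⟨⟨⟨⟨⟨⟨⟨hgens, hhs⟩, hn⟩, hrel⟩, hlen⟩, hfus⟩, hchain⟩, hprod⟩ := h
  have hv : ∀ L ∈ gens, validL 24 L = true := fun L hL => (hG.of_test (hgens L hL)).1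
  let g : ℕ → ↥G := fun i =>
    if h : i < gens.length then ⟨pL gens[i], (hG.of_test (hgens _ (List.getElem_mem h))).2⟩ else 1
  have hg : ∀ w, ((evW g w : ↥G) : Equiv.Perm GolayPt) = pL (evalL gens w) := fun w => by
    rw [(pL_evalL hv w).2, ← Perm.evW_evalG]
    show G.subtype (evW g w) = _
    rw [map_evW]
    congr 1
    funext i
    simp only [g, Subgroup.coe_subtype]
    split_ifs with hi
    · rw [List.getD_eq_getElem _ _ (by simpa using hi)]
      simp
    · rw [List.getD_eq_default _ _ (by simpa using hi)]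
      rfl
  refine ⟨g, fun r hr => Subtype.ext ?_, fun f hf => ?_, ?_, hdiv⟩
  · rw [hg, hg, eqB_eq (hrel r hr)]
  · obtain ⟨i, hi, rfl⟩ := List.getElem_of_mem hf
    have hi' : i < hs.length := by omega
    obtain ⟨hhv, hhm⟩ := hG.of_test (hhs _ (List.getElem_mem hi'))
    refine ⟨⟨pL hs[i], hhm⟩, fun k hk => Subtype.ext ?_⟩
    have h1 := allLt_spec hfus i hi
    simp only [List.getD_eq_getElem _ _ hi, List.getD_eq_getElem _ _ hi'] at h1
    have h2 := congrArg pL (eqB_eq (allLt_spec h1 k hk))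
    rw [pL_compL hhv (pL_evalL hv _).1, pL_compL (pL_evalL hv _).1 hhv] at h2
    rw [Subgroup.coe_mul, Subgroup.coe_mul, hg, hg]
    exact h2
  · refine le_trans hprod (le_trans ?_ (le_of_eq (Subgroup.card_map_of_injective (f := G.subtype)
      (K := Subgroup.closure (g '' {k | k < d.base.n})) G.subtype_injective)))
    set K := (Subgroup.closure (g '' {k | k < d.base.n})).map G.subtype
    have hmem : ∀ L ∈ gens, pL L ∈ K := fun L hL => by
      obtain ⟨i, hi, rfl⟩ := List.getElem_of_mem hL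
      refine ⟨g i, Subgroup.subset_closure ⟨i, show i < d.base.n by omega, rfl⟩, ?_⟩
      simp only [g, Subgroup.coe_subtype, dif_pos hi]
    have h := chain_card_ge K (chainCheck_ok hchain)
      (chainCheck_reps ptEquiv K hchain fun L hL => hmem L hL)
    rwa [fixNums_nil] at h

theorem exists_four : ∃ (Γ : Type) (_ : Group Γ) (_ : Finite Γ) (σ : Γ →* ↥Cfsg.Spor.M22),
    Cfsg.IsStemExtension σ ∧ Nonempty (σ.ker ≃* Multiplicative (ZMod 4)) := by
  have : NeZero fourM22Table.q := ⟨show (4 : ℕ) ≠ 0 by decide⟩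
  exact PermTable.exists_stem fourM22Table m22_cut
    (show Nat.card Cfsg.Spor.M22 = 3465 * 128 by rw [card_sporM22])
    fourM22_group.1 fourM22_group.2 fourM22_coc fourM22_reps fourM22_ord fourM22_cx fourM22_cy fourM22_pair

theorem exists_three : ∃ (Γ : Type) (_ : Group Γ) (_ : Finite Γ) (σ : Γ →* ↥Cfsg.Spor.M22),
    Cfsg.IsStemExtension σ ∧ Nonempty (σ.ker ≃* Multiplicative (ZMod 3)) := by
  have : NeZero threeM22Table.q := ⟨show (3 : ℕ) ≠ 0 by decide⟩
  exact PermTable.exists_stem threeM22Table m22_cut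
    (show Nat.card Cfsg.Spor.M22 = 6160 * 72 by rw [card_sporM22])
    threeM22_group.1 threeM22_group.2 threeM22_coc threeM22_reps threeM22_ord threeM22_cx threeM22_cy
    threeM22_pair

theorem perfect_M22 : commutator ↥Cfsg.Spor.M22 = ⊤ := by
  have := sporM22_simple
  refine ((inferInstance : (commutator ↥Cfsg.Spor.M22).Normal).eq_bot_or_eq_top).resolve_left fun h => ?_
  have hc : ∀ a b : ↥Cfsg.Spor.M22, a * b = b * a := fun a b => by
    have hm : ⁅a, b⁆ ∈ commutator ↥Cfsg.Spor.M22 :=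
      Subgroup.commutator_mem_commutator (Subgroup.mem_top _) (Subgroup.mem_top _)
    rw [h, Subgroup.mem_bot] at hm
    exact commutatorElement_eq_one_iff_mul_comm.1 hm
  let _ : CommGroup ↥Cfsg.Spor.M22 := { (inferInstance : Group ↥Cfsg.Spor.M22) with mul_comm := hc }
  have hp := IsSimpleGroup.prime_card (α := ↥Cfsg.Spor.M22)
  rw [card_sporM22] at hp
  exact absurd hp (by norm_num)

theorem bound {Γ : Type} [Group Γ] [Finite Γ] (σ : Γ →* ↥Cfsg.Spor.M22)
    (hσ : Cfsg.IsStemExtension σ) : IsCyclic σ.ker ∧ Nat.card σ.ker ∣ 12 := by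
  obtain ⟨h2, r2⟩ := check_twoM22
  obtain ⟨h3, r3⟩ := check_threeM22
  have h9 : ¬ 3 ^ 2 ∣ Nat.card σ.ker := by
    have : Fact (Nat.Prime 3) := ⟨Nat.prime_three⟩
    have : Fact threeM22Cert.p.Prime := ⟨Nat.prime_three⟩
    exact (Perm.realised m22_cut h3 r3 (by rw [card_sporM22]; decide)).sq_not_dvd rfl rfl hσ
  have : Fact twoM22Cyclic.base.p.Prime := ⟨Nat.prime_two⟩
  obtain ⟨h8, a, ha⟩ := (realised_cyclic (d := twoM22Cyclic) m22_cut h2 r2
    (by rw [card_sporM22]; decide)).bound hσ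
  have h8' : ¬ 2 ^ 3 ∣ Nat.card σ.ker := h8
  have hne : ∀ p : ℕ, p.Prime → p ≠ 2 → p ≠ 3 → ¬ p ∣ Nat.card σ.ker := by
    intro p hp hp2 hp3
    have := Fact.mk hp
    refine not_dvd_of_sq hσ fun hsq => ?_
    rcases two_or_three hp 7 2 (5 * 7 * 11) (by rw [card_sporM22]; norm_num)
      (squarefree_facts.1.squarefree_of_dvd (Dvd.intro 23 rfl)) hsq with h | h
    · exact hp2 h
    · exact hp3 h
  have hdvd : Nat.card σ.ker ∣ 12 := by
    rw [Nat.dvd_iff_prime_pow_dvd_dvd]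
    intro p k hp hpk
    rcases Nat.eq_zero_or_pos k with rfl | hk
    · simp
    have hpd := (dvd_pow_self p hk.ne').trans hpk
    by_cases hp2 : p = 2
    · subst hp2
      have : k ≤ 2 := by
        by_contra hcon
        exact h8' ((pow_dvd_pow 2 (by omega)).trans hpk)
      exact (pow_dvd_pow 2 this).trans (by norm_num)
    · obtain rfl : p = 3 := by
        by_contra hp3
        exact hne p hp hp2 hp3 hpd
      have : k ≤ 1 := by
        by_contra hcon
        exact h9 ((pow_dvd_pow 3 (by omega)).trans hpk)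
      exact (pow_dvd_pow 3 this).trans (by norm_num)
  refine ⟨?_, hdvd⟩
  let _ : CommGroup σ.ker := { (inferInstance : Group σ.ker) with
    mul_comm := fun u v => Subtype.ext (Subgroup.mem_center_iff.1 (hσ.2.1 v.2) u.1) }
  have h12 : ∀ x : σ.ker, x ^ 12 = 1 := fun x => by
    obtain ⟨c, hc⟩ := hdvd
    rw [hc, pow_mul, pow_card_eq_one', one_pow]
  have hu : ∀ x : σ.ker, x ^ 3 ∈ Subgroup.zpowers (a ^ 3) := fun x => by
    obtain ⟨k, y, hxy⟩ := ha x
    refine ⟨k, ?_⟩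
    show (a ^ 3) ^ k = x ^ 3
    rw [hxy, mul_pow, ← pow_mul y, show twoM22Cyclic.base.q * 3 = 12 * 2 from rfl, pow_mul, h12, one_pow,
      mul_one, ← zpow_natCast, ← zpow_natCast, ← zpow_mul, ← zpow_mul, mul_comm]
  let f : σ.ker →* σ.ker := powMonoidHom 4
  obtain ⟨w, hw⟩ : ∃ w : σ.ker, ∀ x : σ.ker, x ^ 4 ∈ Subgroup.zpowers w ∧ w ^ 3 = 1 := by
    have hf3 : ∀ z ∈ f.range, z ^ 3 = 1 := by
      rintro _ ⟨y, rfl⟩
      show (y ^ 4) ^ 3 = 1
      rw [← pow_mul, h12]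
    by_cases hex : ∀ z ∈ f.range, z = 1
    · exact ⟨1, fun x => ⟨by rw [show x ^ 4 = 1 from hex _ ⟨x, rfl⟩]; exact one_mem _, one_pow 3⟩⟩
    · push Not at hex
      obtain ⟨w, hwr, hw1⟩ := hex
      have : Fact (Nat.Prime 3) := ⟨Nat.prime_three⟩
      have hcard : Nat.card f.range = 3 := by
        obtain ⟨k, hk⟩ := IsPGroup.iff_card.1 (show IsPGroup 3 f.range from
          fun z => ⟨1, Subtype.ext (by rw [Subgroup.coe_pow, pow_one, hf3 _ z.2, Subgroup.coe_one])⟩)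
        have hd : Nat.card f.range ∣ Nat.card σ.ker := Subgroup.card_subgroup_dvd_card _
        have hk1 : k ≤ 1 := by
          by_contra hcon
          exact h9 ((pow_dvd_pow 3 (by omega : 2 ≤ k)).trans (hk ▸ hd))
        have hk0 : k ≠ 0 := fun h0 => hw1 (by
          have : Subsingleton f.range := (Nat.card_eq_one_iff_unique.1 (by rw [hk, h0, pow_zero])).1
          exact congrArg Subtype.val (Subsingleton.elim (⟨w, hwr⟩ : f.range) 1))
        rw [hk, show k = 1 by omega, pow_one]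
      have hle : Subgroup.zpowers w = f.range := Subgroup.eq_of_le_of_card_ge (Subgroup.zpowers_le.2 hwr) (by
        rw [hcard, Nat.card_zpowers, orderOf_eq_prime (hf3 w hwr) hw1])
      exact ⟨w, fun x => ⟨hle ▸ ⟨x, rfl⟩, hf3 w hwr⟩⟩
  have hw3 : w ^ 3 = 1 := (hw 1).2
  have hu4 : (a ^ 3) ^ 4 = 1 := by rw [← pow_mul, h12]
  refine ⟨⟨a ^ 3 * w, fun x => ?_⟩⟩
  have e1 : w = (a ^ 3 * w) ^ 4 := by
    rw [mul_pow, hu4, one_mul, show (4 : ℕ) = 3 + 1 from rfl, pow_succ, hw3, one_mul]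
  have e2 : a ^ 3 = (a ^ 3 * w) ^ 9 := by
    rw [mul_pow, show w ^ 9 = (w ^ 3) ^ 3 by rw [← pow_mul], hw3, one_pow, mul_one,
      show (a ^ 3) ^ 9 = ((a ^ 3) ^ 4) ^ 2 * a ^ 3 by rw [← pow_mul, ← pow_mul, ← pow_mul, ← pow_add], hu4, one_pow, one_mul]
  have hx : x = x ^ 4 * (x ^ 3)⁻¹ := by
    rw [show (4 : ℕ) = 3 + 1 from rfl, pow_succ']
    simp
  show x ∈ Subgroup.zpowers (a ^ 3 * w)
  have g4 := Subgroup.pow_mem _ (Subgroup.mem_zpowers (a ^ 3 * w)) 4
  have g9 := Subgroup.pow_mem _ (Subgroup.mem_zpowers (a ^ 3 * w)) 9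
  rw [← e1] at g4
  rw [← e2] at g9
  rw [hx]
  exact mul_mem ((Subgroup.zpowers_le.2 g4) (hw x).1) (inv_mem ((Subgroup.zpowers_le.2 g9) (hu x)))

theorem multiplier_M22 : Cfsg.HasCyclicSchurMultiplier ↥Cfsg.Spor.M22 12 := by
  obtain ⟨A, iA, fA, σ₁, h₁, ⟨e₁⟩⟩ := exists_four
  obtain ⟨B, iB, fB, σ₂, h₂, ⟨e₂⟩⟩ := exists_three
  refine hasCyclic_of_two perfect_M22 h₁ h₂ ?_ fun Γ _ _ σ hσ => bound σ hσ
  rw [Nat.card_congr e₁.toEquiv, Nat.card_congr e₂.toEquiv, Nat.card_congr Multiplicative.toAdd,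
    Nat.card_congr Multiplicative.toAdd, Nat.card_zmod, Nat.card_zmod]
  rfl

end CfsgLib.Schur.Tails.M22Mult
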