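import Cfsg.Agent.Lib.Tails.Perm

/-!
Generated data: certificates for the Schur multiplier of M23.
-/

set_option autoImplicit false
set_option maxRecDepth 20000

namespace CfsgLib.TailsData

open CfsgLib

/-- The overlaps. -/
def twoM23Overlaps : List (List ℕ × List Schur.Tails.Step × List Schur.Tails.Step) := [
  ([0, 1, 2], [(0, 7, true), (5, 8, true), (4, 17, true), (3, 24, true), (2, 26, true), (1, 27, true), (0, 6, true), (2, 22, true), (1, 4, true), (2, 14, true), (1, 24, true), (0, 27, true), (2, 23, true), (1, 5, true), (1, 22, true), (3, 13, true), (2, 22, true), (1, 4, true), (3, 1, true)], [(1, 13, true), (0, 10, true), (1, 8, true), (0, 26, true), (5, 7, true), (4, 17, true), (3, 21, true), (2, 24, true), (1, 26, true), (0, 6, true), (1, 23, true), (0, 25, true), (3, 19, true), (2, 24, true), (1, 26, true), (0, 27, true), (3, 23, true), (2, 25, true), (1, 5, true), (2, 22, true), (1, 4, true), (1, 3, true),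 (2, 16, true), (1, 21, true), (0, 6, true), (1, 18, true), (0, 5, true), (2, 15, true), (1, 19, true), (0, 24, true), (1, 23, true), (2, 22, true), (3, 3, true), (4, 14, true), (3, 21, true), (2, 26, true), (1, 27, true), (0, 6, true), (1, 25, true), (0, 5, true), (1, 20, true), (0, 25, true), (2, 19, true), (1, 26, true), (0, 27, true), (2, 25, true), (1, 5, true), (1, 4, true), (3, 1, true)]),
  ([0, 1, 3], [(0, 7, true), (5, 9, true), (4, 17, true), (3, 24, true), (2, 26, true), (1, 27, true), (0, 6, true), (2, 22, true), (1, 4, true), (2, 16, true), (1, 24, true), (0, 27, true), (2, 3, true)], [(1, 14, true), (0, 12, true), (3, 11, true), (2, 23, true), (1, 25, true), (0, 5, true), (1, 22, true), (0, 4, true), (1, 10, true), (0, 22, true), (2, 7, true), (1, 24, true), (0, 26, true), (2, 23, true), (1, 25, true), (3, 22, true), (2, 4, true), (2, 3, true)]),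
  ([0, 1, 4], [(0, 7, true), (5, 10, true), (4, 15, true), (3, 22, true), (2, 4, true)], [(1, 15, true), (0, 10, true), (1, 7, true), (0, 26, true), (1, 25, true), (2, 4, true)]),
  ([0, 1, 5], [(0, 7, true), (5, 11, true), (4, 16, true), (3, 24, true), (2, 26, true), (1, 27, true), (0, 6, true), (2, 3, true), (2, 15, true), (1, 4, true)], [(1, 16, true), (0, 12, true), (3, 9, true), (2, 24, true), (1, 26, true), (0, 27, true), (3, 23, true), (2, 25, true), (1, 5, true), (3, 7, true), (2, 24, true), (1, 26, true), (0, 6, true), (1, 23, true), (0, 25, true), (2, 22, true), (1, 4, true), (1, 3, true)]),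
  ([0, 1, 6], [(0, 7, true), (5, 12, true), (4, 16, true), (3, 24, true), (2, 26, true), (1, 27, true), (0, 6, true), (2, 3, true), (2, 15, true), (1, 4, true), (1, 14, true), (0, 27, true), (1, 5, true)], [(1, 17, true), (0, 12, true), (3, 10, true), (2, 22, true), (1, 4, true), (2, 7, true), (1, 24, true), (0, 27, true), (2, 23, true), (1, 5, true), (1, 22, true), (2, 3, true)]),
  ([0, 2, 3], [(0, 8, true), (4, 9, true), (3, 17, true), (2, 21, true), (1, 24, true), (0, 6, true), (0, 23, true), (2, 19, true), (1, 24, true), (0, 27, true), (2, 23, true), (1, 5, true), (1, 22, true), (2, 3, true), (3, 16, true), (2, 21, true), (1, 26, true), (0, 6, true), (0, 25, true), (2, 18, true), (1, 25, true), (0, 5, true)], [(1, 18, true), (0, 11, true), (2, 9, true), (1, 26, true), (0, 27, true), (2, 25, true), (1, 5, true), (2, 8, true), (1, 26, true), (0, 6, true)]),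
  ([0, 2, 4], [(0, 8, true), (4, 10, true), (3, 15, true), (2, 19, true), (1, 24, true), (0, 6, true), (0, 23, true), (1, 22, true), (2, 3, true)], [(1, 19, true), (0, 12, true), (3, 11, true), (2, 23, true), (1, 25, true), (0, 5, true), (1, 22, true), (0, 4, true), (1, 10, true), (0, 22, true), (2, 9, true), (1, 24, true), (0, 26, true), (2, 23, true), (1, 25, true), (4, 8, true), (3, 24, true), (2, 26, true), (1, 27, true), (0, 6, true), (2, 3, true)]),
  ([0, 2, 5], [(0, 8, true), (4, 11, true), (3, 16, true), (2, 21, true), (1, 24, true), (0, 6, true), (0, 23, true), (2, 18, true), (1, 23, true), (0, 5, true), (0, 3, true), (1, 15, true), (0, 19, true)], [(1, 20, true), (0, 11, true), (2, 8, true), (1, 26, true), (0, 27, true)]),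
  ([0, 2, 6], [(0, 8, true), (4, 12, true), (3, 16, true), (2, 21, true), (1, 24, true), (0, 6, true), (0, 23, true), (2, 18, true), (1, 23, true), (0, 5, true), (0, 3, true), (1, 15, true), (0, 19, true), (5, 14, true), (4, 21, true), (3, 24, true), (2, 26, true), (1, 27, true), (0, 6, true), (2, 23, true), (1, 25, true), (0, 5, true), (2, 20, true), (1, 23, true), (0, 25, true), (3, 19, true), (2, 24, true), (1, 26, true), (0, 27, true), (3, 23, true), (2, 25, true), (1, 5, true), (2, 22, true), (1, 4, true), (1, 3, true)], [(1, 21, true), (0, 12, true), (3, 11, true), (2, 23, true), (1, 25, true), (0, 5, true), (1, 22, true), (0, 4, true), (1, 8, true), (0, 24, true), (1, 3, true)]),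
  ([0, 3, 5], [(0, 9, true), (2, 11, true), (1, 5, true)], [(1, 23, true), (0, 11, true), (2, 9, true), (1, 26, true), (0, 27, true), (2, 25, true), (1, 5, true)]),
  ([1, 2, 3], [(0, 13, true), (2, 14, true), (1, 21, true), (0, 26, true), (1, 25, true), (3, 20, true), (2, 25, true), (1, 5, true), (2, 19, true), (1, 26, true), (0, 6, true), (0, 25, true), (1, 4, true)], [(1, 18, true), (0, 16, true), (2, 14, true), (1, 24, true), (0, 6, true), (0, 23, true), (1, 22, true), (3, 13, true), (2, 22, true), (1, 4, true)]),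
  ([1, 2, 4], [(0, 13, true), (2, 15, true), (1, 19, true), (0, 26, true), (1, 25, true), (2, 4, true)], [(1, 19, true), (0, 17, true), (2, 16, true), (1, 26, true), (0, 6, true), (2, 15, true), (1, 22, true), (0, 4, true), (1, 14, true), (0, 24, true), (1, 23, true), (2, 22, true), (4, 13, true), (3, 22, true), (2, 4, true)]),
  ([1, 2, 5], [(0, 13, true), (2, 16, true), (1, 21, true), (0, 26, true), (1, 25, true), (3, 18, true), (2, 25, true), (1, 5, true)], [(1, 20, true), (0, 16, true), (2, 13, true), (1, 22, true)]),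
  ([1, 2, 6], [(0, 13, true), (2, 17, true), (1, 21, true), (0, 26, true), (1, 25, true), (3, 19, true), (2, 26, true), (1, 27, true), (0, 6, true), (1, 25, true), (0, 5, true), (0, 4, true)], [(1, 21, true), (0, 17, true), (2, 16, true), (1, 26, true), (0, 6, true), (2, 13, true), (1, 22, true), (0, 4, true)]),
  ([2, 3, 6], [(0, 18, true), (2, 21, true), (1, 24, true), (0, 27, true), (2, 23, true), (1, 5, true)], [(1, 24, true), (0, 21, true), (2, 18, true), (1, 5, true)]),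
  ([0, 0, 2], [(0, 0, true)], [(1, 8, true), (0, 12, true), (3, 9, true), (2, 24, true), (1, 26, true), (0, 27, true), (3, 23, true), (2, 25, true), (1, 5, true), (3, 8, true), (2, 24, true), (1, 26, true), (0, 6, true), (1, 3, true), (3, 7, true), (2, 17, true), (1, 21, true), (0, 26, true), (1, 25, true), (3, 19, true), (2, 26, true), (1, 27, true), (0, 6, true), (1, 25, true), (0, 5, true), (0, 4, true), (2, 16, true), (1, 21, true), (0, 24, true), (1, 23, true), (3, 18, true), (2, 23, true), (1, 5, true), (1, 3, true), (2, 15, true), (1, 19, true), (0, 6, true), (4, 14, true), (3, 21, true), (2, 24, true), (1, 26, true), (0, 27, true), (3, 23, true), (2, 25, true), (1, 5, true), (3, 20, true), (2, 23, true), (1, 25, true), (4, 19, true), (3, 24, true), (2, 26, true), (1, 27, true), (0, 6, true), (2, 23, true), (1, 25, true), (0, 5, true), (1, 22, true), (0, 4, true), (0, 3, true), (1, 1, true), (1, 0, true), (0,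 21, true), (2, 20, true), (1, 5, true), (1, 18, true)]),
  ([0, 2, 2], [(0, 8, true), (4, 8, true), (3, 17, true), (2, 21, true), (1, 24, true), (0, 6, true), (0, 23, true), (2, 19, true), (1, 24, true), (0, 27, true), (2, 23, true), (1, 5, true), (1, 22, true), (2, 3, true), (3, 14, true), (2, 21, true), (1, 26, true), (0, 6, true), (0, 25, true), (2, 20, true), (1, 25, true), (0, 5, true), (1, 19, true), (0, 26, true), (1, 25, true), (2, 4, true), (4, 13, true), (3, 19, true), (2, 24, true), (1, 27, true), (0, 6, true), (1, 23, true), (0, 5, true), (0, 22, true), (1, 3, true), (1, 2, true), (0, 25, true), (2, 1, true)], [(1, 2, true), (0, 11, true)]),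
  ([2, 2, 2], [(0, 2, true)], [(1, 2, true), (0, 20, true)])]

/-- A conjugation. -/
def twoM23Fus0 : Schur.Tails.Fus where
  xs := [[6]]
  ys := [[6, 3]]
  rels := [
    ([0, 0], [], [(0, 6, true)], [(1, 24, true), (0, 6, true), (0, 3, true)])]

/-- A conjugation. -/
def twoM23Fus1 : Schur.Tails.Fus where
  xs := [[3, 2], [6, 2]]
  ys := [[6, 5, 3, 1], [6, 2, 1]]
  rels := [
    ([0, 0], [], [(1, 18, true), (0, 23, true), (1, 3, true), (1, 2, true), (0, 5, true)], [(3, 17, true), (2, 24, true), (1, 27, true), (0, 6, true), (1, 22, true), (3, 16, true), (2, 24, true), (1, 26, true), (0, 27, true), (3, 3, true), (3, 14, true), (2, 26, true), (1, 27, true), (0, 6, true), (1, 25, true), (0, 5, true), (0, 4, true), (0, 1, true)]),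
    ([0, 1], [1, 0], [(1, 21, true), (0, 24, true), (1, 23, true), (3, 2, true), (2, 23, true), (1, 5, true), (1, 5, false), (2, 23, false), (3, 2, false), (1, 18, false)], [(3, 17, true), (2, 24, true), (1, 27, true), (0, 6, true), (1, 22, true), (3, 13, true), (2, 22, true), (1, 4, true), (3, 1, true), (3, 1, false), (1, 4, false), (0, 25, false), (0, 6, false), (1, 26, false), (2, 19, false), (1, 5, false), (2, 25, false), (3, 20, false), (1, 25, false), (0, 26, false), (1, 21, false), (2, 14, false), (1, 3, false), (0, 5, false), (1, 25, false), (2, 23, false), (3, 18, false), (0, 25, false), (1, 23, false), (0, 6, false), (1, 26, false), (2, 24, false), (3, 21, false), (4, 16, false), (1, 5, false), (0, 27, false), (1, 19, false), (0, 6, false), (1, 21, false), (2, 17, false)])]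

/-- A conjugation. -/
def twoM23Fus2 : Schur.Tails.Fus where
  xs := [[6, 4, 3], [6, 5, 4]]
  ys := [[4], [6, 5, 0]]
  rels := [
    ([0, 0], [], [(2, 24, true), (1, 26, true), (0, 6, true), (1, 22, true), (0, 4, true), (0, 3, true)], [(0, 4, true)]),
    ([1, 1], [], [(2, 26, true), (1, 27, true), (0, 6, true), (1, 25, true), (0, 5, true), (0, 4, true)], [(2, 12, true), (1, 5, true), (3, 11, true), (2, 23, true), (1, 25, true), (3, 22, true), (2, 4, true), (3, 0, true), (2, 24, true), (1, 27, true), (0, 6, true), (1, 23, true), (0, 5, true), (0, 3, true)])]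

/-- A conjugation. -/
def twoM23Fus3 : Schur.Tails.Fus where
  xs := [[6, 4, 1], [4, 3], [4], [3, 0], [4, 3, 1, 0], [6, 5, 0]]
  ys := [[6, 1, 0], [6, 5], [6, 5, 4, 3], [4, 3, 0], [6, 5, 3, 1], [6, 5, 4, 0]]
  rels := [
    ([0, 0], [2], [(2, 17, true), (1, 26, true), (0, 6, true), (0, 4, true), (0, 15, true), (1, 1, true)], [(2, 12, true), (1, 16, true), (0, 6, true), (1, 15, true), (0, 22, true), (2, 14, true), (1, 24, true), (0, 26, true), (2, 23, true), (1, 25, true), (3, 22, true), (2, 4, true), (4, 7, true), (3, 17, true), (2, 24, true), (1, 27, true), (0, 6, true), (1, 22, true), (3, 16, true), (2, 24, true), (1, 26, true), (0, 27, true), (3, 3, true), (3, 15, true), (2, 4, true), (2, 14, true), (1, 27, true), (0, 6, true), (0, 5, true), (1, 1, true), (1, 0, true), (0, 26, true), (1, 25, true)]),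
    ([0, 1], [5, 3, 2, 1, 0], [(2, 15, true), (1, 4, true), (1, 14, true), (0, 6, true), (0, 6, false), (1, 27, false), (2, 3, false), (2, 4, false), (3, 22, false), (2, 22, false), (0, 0, false), (0, 5, false), (0, 6, false), (1, 27, false), (2, 9, false)], [(2, 12, true), (1, 16, true), (0, 6, true), (1, 15, true), (0, 22, true), (2, 14, true), (1, 24, true), (0, 26, true), (2, 23, true), (1, 25, true), (3, 22, true), (2, 4, true), (4, 11, true), (3, 16, true), (2, 24, true), (1, 27, true), (0, 6, true), (1, 3, true), (1, 15, true), (0, 6, false), (1, 27, false), (2, 26, false), (1, 25, false), (0, 26, false), (1, 3, false), (0, 22, false), (0, 5, false), (1, 23, false), (0, 6, false), (1, 27, false), (2, 24, false), (0, 0, false), (0, 5, false), (0, 6, false), (1, 27, false), (2, 9, false), (2, 4, false), (3, 10, false)]),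
    ([1, 3], [5, 1], [(1, 3, true), (0, 5, false), (1, 25, false), (0, 6, false), (1, 27, false), (2, 26, false), (3, 9, false), (2, 10, false)], [(2, 22, false), (1, 23, false), (2, 11, false), (1, 4, false), (1, 5, false), (2, 25, false), (3, 12, false)])]

/-- The certificate. -/
def twoM23Cert : Schur.Tails.Cert where
  p := 2
  q := 2
  n := 7
  rels := [
    ([0, 0], [6, 5, 3]),
    ([1, 1], []),
    ([2, 2], [5]),
    ([3, 3], []),
    ([4, 4], []),
    ([5, 5], []),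
    ([6, 6], []),
    ([0, 1], [6, 5, 4, 3, 1, 0]),
    ([0, 2], [6, 3, 2, 1, 0]),
    ([0, 3], [6, 5, 0]),
    ([0, 4], [4, 0]),
    ([0, 5], [5, 4, 0]),
    ([0, 6], [5, 4, 3, 0]),
    ([1, 2], [4, 2, 1]),
    ([1, 3], [6, 5, 4, 1]),
    ([1, 4], [4, 1]),
    ([1, 5], [6, 3, 1]),
    ([1, 6], [6, 4, 1]),
    ([2, 3], [5, 3, 2]),
    ([2, 4], [6, 5, 4, 3, 2]),
    ([2, 5], [5, 2]),
    ([2, 6], [6, 5, 2]),
    ([3, 4], [4, 3]),
    ([3, 5], [5, 3]),
    ([3, 6], [6, 3]),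
    ([4, 5], [5, 4]),
    ([4, 6], [6, 4]),
    ([5, 6], [6, 5])]
  overlaps := twoM23Overlaps
  fus := [twoM23Fus0, twoM23Fus1, twoM23Fus2, twoM23Fus3]
  mu := [[], [1, 0, 1, 0, 0, 0, 0, 0, 1], [], [1, 0, 1], [1, 0, 0, 0, 0, 0, 0, 1], [0, 0, 1], []]
  combos := [
    ([], 0),
    ([(7, 1), (8, 1), (9, 1), (10, 1), (11, 1), (12, 1), (13, 1), (14, 1), (16, 1), (20, 1), (21, 1)], 0),
    ([], 0),
    ([(2, 1), (3, 1), (5, 1), (6, 1), (7, 1), (8, 1), (9, 1), (11, 1), (14, 1), (18, 1), (21, 1)], 0),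
    ([(1, 1), (2, 1), (3, 1), (4, 1), (9, 1)], 0),
    ([(1, 1), (3, 1), (4, 1), (5, 1), (7, 1), (8, 1), (9, 1), (10, 1), (11, 1), (12, 1), (13, 1), (21, 1)], 0),
    ([(1, 1), (4, 1), (6, 1), (18, 1), (21, 1)], 0),
    ([], 0),
    ([], 0),
    ([(1, 1), (3, 1), (4, 1), (6, 1), (7, 1), (9, 1), (10, 1), (18, 1), (21, 1), (22, 1)], 0),
    ([(0, 1), (1, 1), (3, 1), (4, 1), (5, 1), (8, 1), (9, 1), (11, 1), (14, 1)], 0),
    ([(3, 1), (7, 1), (12, 1), (13, 1), (23, 1), (24, 1), (25, 1)], 0),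
    ([(5, 1), (6, 1), (8, 1), (9, 1), (10, 1), (11, 1), (18, 1), (21, 1), (22, 1), (23, 1), (24, 1), (25, 1)], 0),
    ([(0, 1), (1, 1), (3, 1), (5, 1), (6, 1), (7, 1), (9, 1), (13, 1), (14, 1), (17, 1), (20, 1), (23, 1), (24, 1), (25, 1)], 0),
    ([(3, 1), (5, 1), (7, 1), (8, 1), (10, 1), (11, 1), (12, 1), (13, 1), (15, 1), (16, 1), (18, 1), (20, 1)], 0),
    ([(1, 1), (2, 1), (3, 1), (4, 1), (5, 1), (8, 1), (10, 1), (11, 1), (14, 1)], 0),
    ([(1, 1), (3, 1), (4, 1), (8, 1), (10, 1), (13, 1), (15, 1), (16, 1), (20, 1), (23, 1), (24, 1), (25, 1)], 0),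
    ([(0, 1), (1, 1), (5, 1), (7, 1), (10, 1), (11, 1), (12, 1), (21, 1), (23, 1), (24, 1), (25, 1)], 0),
    ([(0, 1), (2, 1), (3, 1), (4, 1), (6, 1), (7, 1), (8, 1), (9, 1), (11, 1), (12, 1), (13, 1), (14, 1), (16, 1), (18, 1), (19, 1), (20, 1)], 0),
    ([(0, 1), (4, 1), (8, 1), (10, 1), (11, 1), (12, 1), (13, 1), (14, 1), (15, 1), (16, 1), (20, 1), (23, 1), (24, 1), (25, 1)], 0),
    ([(17, 1)], 0),
    ([(0, 1), (2, 1), (4, 1), (5, 1), (10, 1), (12, 1), (14, 1), (16, 1), (17, 1), (18, 1), (19, 1), (20, 1), (21, 1)], 0),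
    ([(2, 1), (9, 1), (14, 1)], 0),
    ([(0, 1), (1, 1), (5, 1), (6, 1), (7, 1), (8, 1), (9, 1), (10, 1), (21, 1)], 0),
    ([(2, 1), (3, 1), (5, 1), (6, 1), (7, 1), (8, 1), (9, 1), (11, 1), (14, 1), (21, 1)], 0),
    ([(1, 1), (2, 1), (4, 1), (6, 1)], 0),
    ([(1, 1), (2, 1), (4, 1), (6, 1), (9, 1), (14, 1)], 0),
    ([(0, 1), (1, 1), (5, 1), (6, 1), (7, 1), (8, 1), (9, 1), (10, 1), (14, 1), (21, 1)], 0)]
  tau := []
  tauCombo := []

/-- The generators. -/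
def twoM23Gens : List (List ℕ) := [
  [9, 12, 14, 8, 5, 17, 6, 16, 3, 13, 22, 11, 10, 18, 2, 21, 15, 20, 0, 19, 4, 7, 1, 23],
  [21, 7, 2, 3, 9, 12, 6, 1, 8, 4, 15, 11, 5, 16, 14, 10, 13, 18, 17, 19, 22, 0, 20, 23],
  [16, 10, 14, 2, 15, 0, 11, 4, 3, 9, 1, 6, 5, 21, 8, 17, 12, 7, 18, 19, 13, 22, 20, 23],
  [0, 10, 14, 8, 15, 16, 6, 17, 3, 18, 1, 11, 12, 13, 2, 4, 5, 7, 9, 19, 21, 20, 22, 23],
  [12, 18, 2, 3, 15, 21, 6, 17, 8, 10, 9, 11, 0, 22, 14, 4, 20, 7, 1, 19, 16, 5, 13, 23],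
  [12, 1, 8, 14, 17, 16, 6, 15, 2, 9, 10, 11, 0, 22, 3, 7, 5, 4, 18, 19, 21, 20, 13, 23],
  [22, 1, 3, 2, 15, 20, 6, 17, 14, 9, 10, 11, 13, 12, 8, 4, 21, 7, 18, 19, 5, 16, 0, 23]]

/-- The conjugating elements. -/
def twoM23Hs : List (List ℕ) := [
  [20, 15, 21, 5, 12, 22, 7, 18, 2, 4, 6, 17, 3, 14, 8, 13, 10, 9, 19, 11, 0, 1, 16, 23],
  [20, 8, 11, 21, 19, 12, 10, 1, 6, 16, 2, 7, 9, 18, 13, 15, 17, 3, 0, 14, 4, 5, 22, 23],
  [4, 13, 0, 10, 20, 19, 11, 17, 12, 22, 1, 3, 5, 15, 9, 16, 6, 7, 18, 14, 2, 8, 21, 23],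
  [17, 16, 8, 2, 9, 13, 6, 10, 14, 20, 21, 19, 15, 4, 3, 1, 22, 18, 5, 11, 0, 12, 7, 23]]

/-- The program of the chain. -/
def twoM23Steps : List CfsgLib.Golay.Step := [
  ([0, 1, 2, 3, 4, 5, 6, 7, 8, 9, 10, 11, 12, 13, 14, 15, 16, 17, 18, 19, 20, 21, 22, 23], true, 0, 0),
  ([4, 5, 14, 8, 12, 18, 6, 13, 3, 16, 20, 11, 15, 17, 2, 0, 10, 22, 21, 19, 9, 1, 7, 23], false, 1, 0),
  ([9, 5, 8, 3, 0, 7, 11, 12, 2, 21, 20, 6, 1, 18, 14, 22, 17, 13, 16, 19, 15, 4, 10, 23], false, 2, 0),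
  ([10, 0, 14, 8, 21, 7, 6, 20, 3, 22, 13, 11, 9, 1, 2, 5, 4, 16, 12, 19, 15, 17, 18, 23], false, 4, 0),
  ([9, 13, 8, 14, 20, 7, 6, 21, 2, 12, 0, 11, 10, 18, 3, 16, 4, 5, 22, 19, 15, 17, 1, 23], false, 6, 0),
  ([7, 16, 14, 8, 13, 10, 6, 12, 3, 5, 21, 11, 17, 15, 2, 22, 18, 0, 20, 19, 1, 9, 4, 23], false, 0, 1),
  ([22, 4, 14, 2, 9, 5, 11, 10, 3, 15, 17, 6, 0, 12, 8, 1, 21, 18, 7, 19, 20, 16, 13, 23], false, 2, 1),
  ([20, 15, 8, 14, 9, 0, 6, 1, 2, 17, 7, 11, 16, 5, 3, 10, 22, 18, 4, 19, 13, 12, 21, 23], false, 5, 1),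
  ([9, 22, 2, 3, 21, 15, 6, 20, 8, 0, 12, 11, 10, 18, 14, 5, 17, 16, 13, 19, 7, 4, 1, 23], false, 0, 3),
  ([12, 9, 14, 8, 4, 20, 6, 7, 3, 1, 18, 11, 0, 22, 2, 15, 21, 17, 10, 19, 5, 16, 13, 23], false, 4, 3),
  ([15, 21, 14, 8, 0, 1, 6, 22, 3, 20, 16, 11, 4, 7, 2, 12, 9, 13, 5, 19, 10, 18, 17, 23], false, 4, 8),
  ([13, 17, 3, 8, 9, 16, 11, 10, 14, 7, 4, 6, 12, 0, 2, 1, 20, 18, 15, 19, 21, 5, 22, 23], false, 0, 9),
  ([13, 1, 14, 8, 7, 21, 6, 4, 3, 9, 10, 11, 22, 0, 2, 17, 20, 15, 18, 19, 16, 5, 12, 23], false, 0, 15)]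

/-- The chain. -/
def twoM23Levels : List CfsgLib.Golay.Level := [
  ⟨9, [[0, 1, 2, 3, 4, 5, 6, 7, 8, 9, 10, 11, 12, 13, 14, 15, 16, 17, 18, 19, 20, 21, 22, 23], [9, 12, 14, 8, 5, 17, 6, 16, 3, 13, 22, 11, 10, 18, 2, 21, 15, 20, 0, 19, 4, 7, 1, 23], [21, 7, 2, 3, 9, 12, 6, 1, 8, 4, 15, 11, 5, 16, 14, 10, 13, 18, 17, 19, 22, 0, 20, 23], [0, 10, 14, 8, 15, 16, 6, 17, 3, 18, 1, 11, 12, 13, 2, 4, 5, 7, 9, 19, 21, 20, 22, 23], [12, 18, 2, 3, 15, 21, 6, 17, 8, 10, 9, 11, 0, 22, 14, 4, 20, 7, 1, 19, 16, 5, 13, 23], [4, 5, 14, 8, 12, 18, 6, 13, 3, 16, 20, 11, 15, 17, 2, 0, 10, 22, 21, 19, 9, 1, 7, 23], [9, 5, 8, 3, 0, 7, 11, 12, 2, 21, 20, 6, 1, 18, 14, 22, 17, 13, 16, 19, 15, 4, 10, 23], [10, 0, 14, 8, 21, 7, 6, 20, 3, 22, 13, 11, 9, 1, 2, 5, 4, 16, 12, 19, 15, 17, 18, 23], [9, 13, 8, 14, 20, 7, 6, 21, 2, 12, 0, 11, 10, 18, 3, 16, 4, 5, 22, 19, 15, 17, 1, 23], [7, 16, 14, 8, 13, 10, 6, 12, 3, 5, 21, 11, 17, 15, 2, 22, 18,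 0, 20, 19, 1, 9, 4, 23], [22, 4, 14, 2, 9, 5, 11, 10, 3, 15, 17, 6, 0, 12, 8, 1, 21, 18, 7, 19, 20, 16, 13, 23], [20, 15, 8, 14, 9, 0, 6, 1, 2, 17, 7, 11, 16, 5, 3, 10, 22, 18, 4, 19, 13, 12, 21, 23], [9, 22, 2, 3, 21, 15, 6, 20, 8, 0, 12, 11, 10, 18, 14, 5, 17, 16, 13, 19, 7, 4, 1, 23], [12, 9, 14, 8, 4, 20, 6, 7, 3, 1, 18, 11, 0, 22, 2, 15, 21, 17, 10, 19, 5, 16, 13, 23], [15, 21, 14, 8, 0, 1, 6, 22, 3, 20, 16, 11, 4, 7, 2, 12, 9, 13, 5, 19, 10, 18, 17, 23], [13, 17, 3, 8, 9, 16, 11, 10, 14, 7, 4, 6, 12, 0, 2, 1, 20, 18, 15, 19, 21, 5, 22, 23]], [9, 13, 4, 18, 10, 16, 21, 22, 12, 5, 15, 17, 0, 1, 20, 7]⟩,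
  ⟨1, [[0, 1, 2, 3, 4, 5, 6, 7, 8, 9, 10, 11, 12, 13, 14, 15, 16, 17, 18, 19, 20, 21, 22, 23], [16, 10, 14, 2, 15, 0, 11, 4, 3, 9, 1, 6, 5, 21, 8, 17, 12, 7, 18, 19, 13, 22, 20, 23]], [1, 10]⟩,
  ⟨4, [[0, 1, 2, 3, 4, 5, 6, 7, 8, 9, 10, 11, 12, 13, 14, 15, 16, 17, 18, 19, 20, 21, 22, 23], [22, 1, 3, 2, 15, 20, 6, 17, 14, 9, 10, 11, 13, 12, 8, 4, 21, 7, 18, 19, 5, 16, 0, 23], [13, 1, 14, 8, 7, 21, 6, 4, 3, 9, 10, 11, 22, 0, 2, 17, 20, 15, 18, 19, 16, 5, 12, 23], [12, 1, 8, 14, 17, 16, 6, 15, 2, 9, 10, 11, 0, 22, 3, 7, 5, 4, 18, 19, 21, 20, 13, 23]], [4, 15, 7, 17]⟩]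

/-- The overlaps. -/
def threeM23Overlaps : List (List ℕ × List Schur.Tails.Step × List Schur.Tails.Step) := []

/-- A conjugation. -/
def threeM23Fus0 : Schur.Tails.Fus where
  xs := [[1, 1, 0]]
  ys := [[0, 0]]
  rels := [
    ([0, 0, 0], [], [(2, 2, true), (0, 1, true), (0, 2, true), (2, 2, true), (1, 2, true), (3, 2, true), (2, 2, true), (0, 1, true), (0, 0, true)], [(0, 0, true), (0, 0, true)])]

/-- A conjugation. -/
def threeM23Fus1 : Schur.Tails.Fus where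
  xs := [[0, 0]]
  ys := [[1, 0]]
  rels := [
    ([0, 0, 0], [], [(0, 0, true), (0, 0, true)], [(1, 2, true), (3, 2, true), (2, 2, true), (0, 1, true), (0, 0, true)])]

/-- A conjugation. -/
def threeM23Fus2 : Schur.Tails.Fus where
  xs := [[1, 1], [1, 0, 0]]
  ys := [[0], [1]]
  rels := [
    ([0, 1], [1, 0], [(0, 1, true), (0, 1, false), (2, 2, false), (3, 2, false), (1, 2, false), (2, 2, false)], [(0, 2, true)])]

/-- The certificate. -/
def threeM23Cert : Schur.Tails.Cert where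
  p := 3
  q := 3
  n := 2
  rels := [
    ([0, 0, 0], []),
    ([1, 1, 1], []),
    ([0, 1], [1, 0])]
  overlaps := threeM23Overlaps
  fus := [threeM23Fus0, threeM23Fus1, threeM23Fus2]
  mu := [[], []]
  combos := [
    ([(0, 1), (1, 2)], 0),
    ([(0, 1), (1, 1)], 0),
    ([(2, 1)], 0)]
  tau := []
  tauCombo := []

/-- The generators. -/
def threeM23Gens : List (List ℕ) := [
  [6, 1, 2, 5, 4, 16, 21, 7, 10, 11, 17, 14, 22, 15, 9, 20, 3, 8, 12, 19, 13, 0, 18, 23],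
  [8, 1, 4, 16, 7, 3, 10, 2, 22, 9, 18, 11, 21, 15, 14, 20, 5, 12, 6, 19, 13, 17, 0, 23]]

/-- The conjugating elements. -/
def threeM23Hs : List (List ℕ) := [
  [10, 19, 15, 12, 20, 22, 6, 13, 21, 14, 3, 11, 0, 4, 9, 1, 18, 17, 8, 2, 7, 16, 5, 23],
  [4, 5, 3, 17, 1, 6, 2, 19, 13, 21, 15, 18, 12, 9, 8, 14, 22, 20, 0, 16, 11, 7, 10, 23],
  [10, 19, 5, 15, 3, 20, 0, 16, 8, 2, 21, 7, 22, 11, 4, 9, 13, 18, 6, 1, 14, 12, 17, 23]]

/-- The program of the chain. -/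
def threeM23Steps : List CfsgLib.Golay.Step := [
  ([0, 1, 2, 3, 4, 5, 6, 7, 8, 9, 10, 11, 12, 13, 14, 15, 16, 17, 18, 19, 20, 21, 22, 23], true, 0, 0),
  ([22, 1, 7, 5, 2, 16, 18, 4, 0, 9, 6, 11, 17, 20, 14, 13, 3, 21, 10, 19, 15, 12, 8, 23], false, 1, 1),
  ([21, 1, 2, 16, 4, 3, 0, 7, 17, 14, 8, 9, 18, 20, 11, 13, 5, 10, 22, 19, 15, 6, 12, 23], false, 0, 0)]

/-- The chain. -/
def threeM23Levels : List CfsgLib.Golay.Level := [
  ⟨2, [[0, 1, 2, 3, 4, 5, 6, 7, 8, 9, 10, 11, 12, 13, 14, 15, 16, 17, 18, 19, 20, 21, 22, 23], [8, 1, 4, 16, 7, 3, 10, 2, 22, 9, 18, 11, 21, 15, 14, 20, 5, 12, 6, 19, 13, 17, 0, 23], [22, 1, 7, 5, 2, 16, 18, 4, 0, 9, 6, 11, 17, 20, 14, 13, 3, 21, 10, 19, 15, 12, 8, 23]], [2, 4, 7]⟩,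
  ⟨10, [[0, 1, 2, 3, 4, 5, 6, 7, 8, 9, 10, 11, 12, 13, 14, 15, 16, 17, 18, 19, 20, 21, 22, 23], [6, 1, 2, 5, 4, 16, 21, 7, 10, 11, 17, 14, 22, 15, 9, 20, 3, 8, 12, 19, 13, 0, 18, 23], [21, 1, 2, 16, 4, 3, 0, 7, 17, 14, 8, 9, 18, 20, 11, 13, 5, 10, 22, 19, 15, 6, 12, 23]], [10, 17, 8]⟩]

end CfsgLib.TailsData
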