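import Cfsg.Agent.Lib.Tails.Perm

/-!
Generated data: certificates for the Schur multiplier of M24.
-/

set_option autoImplicit false
set_option maxRecDepth 20000

namespace CfsgLib.TailsData

open CfsgLib

/-- The overlaps. -/
def twoM24Overlaps : List (List ℕ × List Schur.Tails.Step × List Schur.Tails.Step) := [
  ([0, 1, 2], [(0, 10, true), (4, 11, true)], [(1, 19, true), (0, 17, true), (3, 15, true), (2, 5, true), (2, 13, true), (1, 52, true), (4, 11, true), (5, 10, true), (4, 25, true), (3, 47, true), (2, 52, true), (1, 8, true), (3, 23, true), (2, 47, true), (1, 52, true), (3, 45, true), (5, 21, true), (4, 48, true), (3, 51, true), (2, 53, true), (1, 54, true), (0, 9, true), (3, 47, true), (2, 50, true), (1, 52, true), (0, 8, true), (2, 46, true), (1, 49, true), (0, 7, true), (1, 45, true), (0, 6, true), (0, 5, true), (0, 19, true)]),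
  ([0, 1, 3], [(0, 10, true), (4, 12, true), (3, 33, true), (2, 44, true), (1, 51, true), (0, 54, true), (3, 41, true), (2, 6, true), (2, 4, true), (2, 32, true), (1, 54, true), (0, 9, true), (0, 8, true), (4, 30, true), (3, 44, true), (2, 48, true), (1, 51, true), (0, 53, true), (4, 43, true), (3, 47, true), (2, 50, true), (1, 52, true), (5, 41, true), (4, 45, true), (3, 6, true), (4, 40, true), (3, 5, true), (4, 29, true), (3, 44, true), (2, 53, true), (1, 54, true), (0, 9, true), (2, 42, true), (1, 7, true), (2, 28, true), (1, 44, true), (0, 54, true), (2, 43, true), (1, 8, true), (1, 40, true), (2, 4, true), (2, 27, true), (1, 45, true), (2, 5, true), (3, 2, true), (2, 39, true), (1, 49, true), (4, 38, true), (3, 42, true), (2, 49, true), (1, 7, true), (3, 35, true), (2, 44, true), (1, 51, true), (0, 9, true), (1, 42, true), (0, 49, true), (2, 40, true), (3, 4, true)], [(1, 20, true), (0, 17, true), (3, 16, true), (2, 47, true), (1, 52, true), (3, 46, true), (2, 7, true), (2, 45, true), (5, 15, true), (4, 40, true), (3, 5, true), (4, 14, true),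 (3, 42, true), (2, 49, true), (4, 4, true), (4, 12, true), (3, 51, true), (2, 53, true), (1, 54, true), (0, 9, true), (2, 50, true), (1, 52, true), (0, 8, true), (1, 6, true), (6, 10, true), (5, 25, true), (4, 32, true), (3, 39, true), (2, 42, true), (1, 46, true), (0, 7, true), (1, 4, true), (1, 38, true), (0, 46, true), (2, 37, true), (1, 47, true), (0, 52, true), (3, 36, true), (2, 48, true), (1, 53, true), (0, 54, true), (3, 46, true), (2, 7, true), (2, 45, true), (5, 35, true), (4, 44, true), (3, 48, true), (2, 51, true), (1, 54, true), (0, 9, true), (3, 42, true), (2, 46, true), (1, 49, true), (4, 40, true), (3, 5, true), (3, 4, true), (3, 34, true), (2, 51, true), (1, 53, true), (0, 54, true), (3, 50, true), (2, 52, true), (1, 8, true), (5, 23, true), (4, 32, true), (3, 39, true), (2, 49, true), (1, 7, true), (3, 38, true), (2, 42, true), (1, 49, true), (4, 37, true), (3, 43, true), (2, 50, true), (1, 52, true), (5, 36, true), (4, 44, true), (3, 51, true), (2, 53, true), (1, 54, true), (0, 9, true), (3, 42, true), (2, 49, true), (1, 7, true),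 (2, 41, true), (1, 6, true), (1, 4, true), (1, 35, true), (0, 54, true), (5, 34, true), (4, 44, true), (3, 48, true), (2, 53, true), (1, 54, true), (0, 9, true), (3, 43, true), (2, 47, true), (1, 52, true), (0, 8, true), (4, 30, true), (3, 39, true), (2, 42, true), (1, 46, true), (0, 7, true), (1, 4, true), (1, 38, true), (0, 46, true), (2, 36, true), (1, 48, true), (0, 53, true), (2, 46, true), (1, 7, true), (1, 45, true), (4, 35, true), (3, 44, true), (2, 48, true), (1, 51, true), (0, 9, true), (2, 42, true), (1, 46, true), (0, 49, true), (3, 40, true), (2, 5, true), (2, 4, true), (4, 21, true), (3, 33, true), (2, 39, true), (1, 49, true), (0, 7, true), (2, 36, true), (1, 44, true), (0, 51, true), (2, 42, true), (1, 49, true), (3, 41, true), (2, 6, true), (2, 4, true), (2, 34, true), (1, 53, true), (0, 9, true), (0, 52, true), (3, 32, true), (2, 39, true), (1, 7, true), (2, 38, true), (1, 42, true), (3, 37, true), (2, 43, true), (1, 52, true), (0, 8, true), (2, 36, true), (1, 44, true), (0, 53, true), (2, 42, true), (1, 7, true), (1, 41, true),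 (2, 4, true), (2, 35, true), (1, 51, true), (0, 9, true), (0, 49, true), (4, 34, true), (3, 44, true), (2, 48, true), (1, 51, true), (0, 53, true), (4, 43, true), (3, 47, true), (2, 50, true), (1, 52, true), (7, 31, true), (6, 39, true), (5, 42, true), (4, 46, true), (3, 49, true), (2, 7, true), (4, 4, true), (4, 36, true), (3, 48, true), (2, 51, true), (1, 54, true), (0, 9, true), (2, 46, true), (1, 49, true), (3, 45, true), (2, 6, true), (4, 35, true), (3, 44, true), (2, 48, true), (1, 53, true), (0, 54, true), (4, 42, true), (3, 46, true), (2, 7, true), (3, 40, true), (2, 5, true), (2, 4, true), (2, 34, true), (1, 54, true), (0, 9, true), (0, 8, true), (1, 30, true), (0, 39, true), (2, 38, true), (1, 42, true), (0, 7, true), (1, 36, true), (0, 44, true), (1, 42, true), (2, 41, true), (3, 4, true), (3, 35, true), (2, 51, true), (1, 53, true), (0, 9, true), (1, 49, true), (0, 7, true), (4, 29, true), (3, 39, true), (2, 42, true), (1, 46, true), (0, 49, true), (3, 4, true), (3, 37, true), (2, 47, true), (1, 50, true), (0, 52, true), (6, 19, true),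 (5, 32, true), (4, 39, true), (3, 46, true), (2, 49, true), (1, 7, true), (4, 38, true), (3, 42, true), (2, 46, true), (1, 49, true), (5, 37, true), (4, 43, true), (3, 47, true), (2, 50, true), (1, 52, true), (0, 8, true), (4, 36, true), (3, 44, true), (2, 48, true), (1, 51, true), (0, 53, true), (4, 42, true), (3, 46, true), (2, 49, true), (1, 7, true), (3, 41, true), (2, 45, true), (1, 6, true), (2, 4, true), (2, 35, true), (1, 48, true), (0, 9, true), (0, 46, true), (1, 5, true), (2, 34, true), (1, 44, true), (0, 53, true), (2, 43, true), (1, 52, true), (5, 30, true), (4, 39, true), (3, 42, true), (2, 7, true), (2, 4, true), (2, 38, true), (3, 36, true), (2, 53, true), (1, 54, true), (0, 9, true), (1, 7, true), (3, 35, true), (2, 44, true), (1, 51, true), (0, 54, true), (3, 42, true), (2, 49, true), (4, 40, true), (5, 4, true), (6, 28, true), (5, 39, true), (4, 46, true), (3, 49, true), (2, 7, true), (5, 38, true), (4, 42, true), (3, 46, true), (2, 49, true), (6, 35, true), (5, 44, true), (4, 48, true), (3, 51, true), (2, 53, true), (1, 54,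 true), (0, 9, true), (4, 42, true), (3, 46, true), (2, 49, true), (1, 7, true), (3, 40, true), (2, 5, true), (2, 4, true), (2, 34, true), (1, 51, true), (0, 54, true), (2, 50, true), (1, 8, true), (3, 2, true), (2, 39, true), (1, 49, true), (4, 38, true), (3, 42, true), (2, 49, true), (1, 7, true), (3, 35, true), (2, 44, true), (1, 51, true), (0, 9, true), (1, 42, true), (0, 49, true), (2, 40, true), (3, 4, true)]),
  ([0, 1, 4], [(0, 10, true), (4, 13, true), (3, 32, true), (2, 44, true), (1, 51, true), (0, 54, true), (3, 43, true), (2, 50, true), (1, 8, true), (2, 42, true), (1, 49, true), (3, 41, true), (2, 6, true), (2, 40, true), (3, 4, true), (3, 29, true), (2, 48, true), (1, 53, true), (0, 9, true), (1, 46, true), (0, 7, true)], [(1, 21, true), (0, 18, true), (4, 17, true), (3, 44, true), (2, 48, true), (1, 53, true), (0, 9, true), (2, 42, true), (1, 46, true), (0, 7, true), (1, 40, true), (0, 5, true), (1, 16, true), (0, 43, true), (1, 42, true), (2, 41, true), (3, 4, true), (3, 15, true), (4, 14, true), (3, 46, true), (2, 49, true), (1,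 7, true), (4, 10, true), (3, 43, true), (2, 47, true), (1, 50, true), (0, 8, true), (2, 41, true), (1, 45, true), (0, 6, true), (1, 4, true)]),
  ([0, 1, 5], [(0, 10, true), (4, 14, true), (3, 31, true), (2, 44, true), (1, 51, true), (0, 54, true), (3, 41, true), (2, 6, true), (2, 40, true), (3, 4, true), (3, 28, true), (2, 48, true), (1, 54, true), (0, 9, true), (1, 47, true), (0, 8, true), (0, 5, true)], [(1, 22, true), (0, 16, true), (4, 14, true), (3, 42, true), (2, 49, true), (1, 7, true), (2, 4, true), (2, 10, true), (1, 50, true), (0, 8, true), (0, 6, true)]),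
  ([0, 1, 6], [(0, 10, true), (4, 15, true), (3, 29, true), (2, 44, true), (1, 51, true), (0, 54, true), (3, 42, true), (2, 49, true)], [(1, 23, true), (0, 17, true), (3, 15, true), (2, 5, true), (2, 10, true), (1, 52, true)]),
  ([0, 1, 7], [(0, 10, true), (4, 16, true), (3, 32, true), (2, 44, true), (1, 51, true), (0, 54, true), (3, 43, true), (2, 50, true), (1, 8, true), (2, 42, true), (1, 49, true), (3, 41, true), (2, 6, true), (2, 40, true), (3, 4, true), (3, 31, true), (2, 48, true), (1, 53, true), (0, 9, true), (1, 45, true), (2, 5, true), (3, 30, true), (2, 44, true), (1, 51, true), (0, 53, true), (3, 43, true), (2, 50, true), (1, 52, true), (4, 41, true), (3, 6, true), (3, 40, true), (5, 28, true), (4, 44, true), (3, 48, true), (2, 53, true), (1, 54, true), (0, 9, true), (3, 43, true), (2, 47, true), (1, 52, true), (0, 8, true), (2, 40, true), (1, 5, true), (1, 4, true)], [(1, 24, true), (0, 16, true), (4, 10, true), (3, 43, true), (2, 50, true), (1, 52, true), (0, 8, true), (2, 41, true), (1, 6, true), (1, 4, true)]),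
  ([0, 1, 8], [(0, 10, true), (4, 17, true), (3, 33, true), (2, 44, true), (1, 51, true), (0, 54, true), (3, 41, true), (2, 6, true), (2, 4, true), (2, 31, true), (1, 54, true), (0, 9, true), (4, 29, true), (3, 44, true), (2, 48, true), (1, 51, true), (0, 54, true), (4, 42, true), (3, 46, true), (2, 49, true)], [(1, 25, true), (0, 17, true), (3, 10, true), (2, 47, true), (1, 52, true), (3, 45, true)]),
  ([0, 1, 9], [(0, 10, true), (4, 18, true), (3, 33, true), (2, 44, true), (1, 51, true), (0, 54, true), (3, 41, true), (2, 6, true), (2, 4, true), (2, 31, true), (1, 54, true), (0, 9, true), (4, 29, true), (3, 44, true), (2, 48, true), (1, 51, true), (0, 54, true), (4, 42, true), (3, 46, true), (2, 49, true), (6, 28, true), (5, 44, true), (4, 48, true), (3, 51, true), (2, 53, true), (1, 54, true), (0, 9, true), (4, 43, true), (3, 47, true), (2, 50, true), (1, 52, true), (0, 8, true), (3, 40, true), (2, 5, true), (2, 4, true)], [(1, 26, true), (0, 15, true), (1, 14, true), (0, 46, true), (3, 13, true), (2, 43, true), (1, 47, true), (0, 52, true),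 (3, 40, true), (2, 5, true), (3, 10, true), (2, 43, true), (1, 52, true), (0, 8, true), (1, 41, true), (2, 4, true)]),
  ([0, 2, 3], [(0, 11, true), (1, 12, true), (0, 26, true), (3, 25, true), (2, 43, true), (1, 47, true), (0, 50, true), (4, 23, true), (3, 43, true), (2, 47, true), (1, 50, true), (0, 8, true), (2, 41, true), (1, 45, true), (0, 6, true), (2, 22, true), (1, 42, true), (0, 46, true), (2, 40, true), (1, 5, true), (2, 21, true), (1, 44, true), (0, 53, true), (2, 43, true), (1, 52, true), (3, 42, true), (2, 7, true), (2, 41, true), (3, 40, true), (5, 20, true), (4, 43, true), (3, 47, true), (2, 50, true), (1, 8, true), (3, 42, true), (2, 46, true), (1, 49, true), (4, 41, true), (3, 45, true), (2, 6, true), (3, 40, true), (2, 5, true), (4, 19, true), (3, 38, true), (2, 42, true), (1, 7, true), (2, 36, true), (1, 44, true), (0, 9, true), (0, 42, true), (1, 41, true), (2, 4, true), (2, 34, true), (1, 51, true), (0, 53, true), (2, 50, true), (1, 52, true), (6, 1, true), (5, 31, true), (4, 39, true), (3, 49, true), (2, 7, true), (4, 36,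 true), (3, 44, true), (2, 51, true), (1, 54, true), (0, 9, true), (2, 42, true), (1, 49, true), (3, 41, true), (2, 6, true), (2, 4, true), (2, 35, true), (1, 53, true), (0, 54, true), (2, 7, true), (4, 34, true), (3, 44, true), (2, 48, true), (1, 54, true), (0, 9, true), (2, 43, true), (1, 47, true), (0, 8, true)], [(1, 27, true), (0, 15, true), (1, 14, true), (0, 46, true), (3, 12, true), (2, 44, true), (1, 48, true), (0, 53, true), (3, 43, true), (2, 47, true), (1, 52, true), (4, 41, true), (3, 45, true), (5, 40, true), (4, 5, true), (4, 4, true), (7, 11, true), (6, 1, true), (5, 31, true), (4, 39, true), (3, 49, true), (2, 7, true), (4, 36, true), (3, 44, true), (2, 51, true), (1, 54, true), (0, 9, true), (2, 42, true), (1, 49, true), (3, 41, true), (2, 6, true), (2, 4, true), (2, 35, true), (1, 53, true), (0, 54, true), (2, 7, true), (4, 34, true), (3, 44, true), (2, 48, true), (1, 54, true), (0, 9, true), (2, 43, true), (1, 47, true), (0, 8, true)]),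
  ([0, 2, 4], [(0, 11, true), (1, 13, true), (0, 25, true), (1, 22, true)], [(1, 28, true), (0, 18, true), (4, 17, true), (3, 44, true), (2, 48, true), (1, 53, true), (0, 9, true), (2, 42, true), (1, 46, true), (0, 7, true), (1, 40, true), (0, 5, true), (1, 14, true), (0, 42, true), (1, 4, true), (1, 13, true), (0, 52, true), (3, 11, true)]),
  ([0, 2, 5], [(0, 11, true), (1, 14, true), (0, 24, true), (1, 21, true), (0, 53, true), (1, 52, true), (2, 7, true)], [(1, 29, true), (0, 18, true), (4, 16, true), (3, 43, true), (2, 47, true), (1, 52, true), (4, 42, true), (3, 46, true), (2, 7, true), (3, 41, true), (2, 45, true), (4, 4, true), (4, 11, true)]),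
  ([0, 2, 6], [(0, 11, true), (1, 15, true), (0, 22, true)], [(1, 30, true), (0, 18, true), (4, 17, true), (3, 44, true), (2, 48, true), (1, 53, true), (0, 9, true), (2, 42, true), (1, 46, true), (0, 7, true), (1, 40, true), (0, 5, true), (1, 15, true), (0, 40, true), (2, 14, true), (1, 42, true), (0, 46, true), (2, 4, true), (2, 11, true)]),
  ([0, 2, 7], [(0, 11, true), (1, 16, true), (0, 25, true), (1, 24, true), (2, 23, true), (1, 52, true), (0, 8, true), (2, 21, true), (1, 51, true), (0, 53, true), (2, 50, true), (1, 52, true), (3, 49, true), (2, 7, true), (2, 6, true)], [(1, 31, true), (0, 18, true), (4, 15, true), (3, 40, true), (2, 5, true), (3, 14, true), (2, 42, true), (1, 7, true), (1, 4, true), (1, 13, true), (3, 11, true)]),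
  ([0, 2, 8], [(0, 11, true), (1, 17, true), (0, 26, true), (3, 24, true), (2, 42, true), (1, 46, true), (0, 49, true), (4, 22, true), (3, 42, true), (2, 46, true), (1, 49, true), (0, 7, true), (2, 40, true), (1, 5, true)], [(1, 32, true), (0, 18, true), (4, 17, true), (3, 44, true), (2, 48, true), (1, 53, true), (0, 9, true), (2, 42, true), (1, 46, true), (0, 7, true), (1, 40, true), (0, 5, true), (1, 16, true), (0, 43, true), (1, 42, true), (2, 41, true), (3, 4, true), (3, 15, true), (4, 14, true), (3, 46, true), (2, 49, true), (1, 7, true), (4, 13, true), (3, 43, true), (2, 47, true), (1, 50, true), (0, 8, true), (2, 40, true), (1, 5, true), (2, 11, true)]),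
  ([0, 2, 9], [(0, 11, true), (1, 18, true), (0, 26, true), (3, 24, true), (2, 42, true), (1, 46, true), (0, 49, true), (4, 22, true), (3, 42, true), (2, 46, true), (1, 49, true), (0, 7, true), (2, 40, true), (1, 5, true), (2, 21, true), (1, 44, true), (0, 51, true), (2, 43, true), (1, 50, true), (3, 42, true), (2, 49, true), (4, 41, true), (3, 6, true), (3, 40, true)], [(1, 33, true), (0, 18, true), (4, 15, true), (3, 40, true), (2, 5, true), (3, 13, true), (2, 43, true), (1, 52, true), (3, 40, true), (5, 11, true)]),
  ([0, 3, 4], [(0, 12, true), (8, 13, true), (7, 25, true), (6, 32, true), (5, 39, true), (4, 42, true), (3, 46, true), (2, 49, true), (5, 4, true), (5, 38, true), (4, 46, true), (3, 49, true), (2, 7, true), (4, 37, true), (3, 47, true), (2, 50, true), (1, 8, true), (3, 36, true), (2, 48, true), (1, 51, true), (0, 9, true), (1, 46, true), (0, 49, true), (2, 45, true), (1, 6, true), (3, 35, true), (2, 44, true), (1, 48, true), (0, 53, true), (3, 42, true), (2, 46, true), (1, 7, true), (2, 40, true), (1, 5, true), (1, 4, true), (1,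 34, true), (0, 9, true), (3, 22, true), (2, 31, true), (1, 39, true), (3, 36, true), (2, 44, true), (1, 53, true), (0, 54, true), (3, 42, true), (2, 7, true), (2, 41, true), (3, 4, true), (3, 35, true), (2, 51, true), (1, 54, true), (0, 9, true), (1, 49, true), (5, 34, true), (4, 44, true), (3, 48, true), (2, 51, true), (1, 53, true), (0, 54, true), (5, 43, true), (4, 47, true), (3, 50, true), (2, 52, true), (1, 8, true), (6, 29, true), (5, 39, true), (4, 42, true), (3, 46, true), (2, 49, true), (1, 7, true), (3, 4, true), (3, 37, true), (2, 47, true), (1, 50, true)], [(1, 34, true), (0, 18, true), (4, 17, true), (3, 44, true), (2, 48, true), (1, 53, true), (0, 9, true), (2, 42, true), (1, 46, true), (0, 7, true), (1, 40, true), (0, 5, true), (1, 12, true), (0, 44, true), (1, 43, true), (2, 41, true), (3, 40, true), (4, 4, true)]),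
  ([0, 3, 5], [(0, 12, true), (8, 14, true), (7, 24, true), (6, 31, true), (5, 39, true), (4, 42, true), (3, 46, true), (2, 49, true), (5, 4, true), (5, 36, true), (4, 48, true), (3, 51, true), (2, 53, true), (1, 54, true), (0, 9, true), (3, 46, true), (2, 49, true), (1, 7, true), (2, 45, true), (1, 6, true), (3, 35, true), (2, 44, true), (1, 48, true), (0, 54, true), (3, 42, true), (2, 46, true), (4, 40, true), (3, 5, true), (3, 4, true), (3, 34, true), (2, 53, true), (1, 54, true), (0, 9, true), (1, 52, true), (0, 8, true), (3, 21, true), (2, 33, true), (1, 39, true), (0, 7, true), (1, 36, true), (0, 44, true), (1, 42, true), (2, 41, true), (3, 4, true), (3, 34, true), (2, 51, true), (1, 53, true), (0, 9, true), (1, 50, true), (0, 52, true), (4, 32, true), (3, 39, true), (2, 49, true), (1, 7, true), (3, 38, true), (2, 42, true), (1, 49, true), (4, 37, true), (3, 43, true), (2, 50, true), (1, 52, true), (0, 8, true), (3, 36, true), (2, 44, true), (1, 51, true), (0, 53, true), (3, 42, true), (2, 49, true), (1, 7, true), (2, 41, true), (1, 6, true),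 (1, 4, true), (1, 35, true), (0, 9, true), (3, 34, true), (2, 44, true), (1, 48, true), (0, 53, true), (3, 43, true), (2, 47, true), (1, 52, true), (6, 31, true), (5, 39, true), (4, 42, true), (3, 46, true), (2, 7, true), (3, 4, true), (3, 36, true), (2, 48, true), (1, 54, true), (0, 9, true), (1, 46, true), (2, 45, true), (5, 35, true), (4, 44, true), (3, 48, true), (2, 51, true), (1, 53, true), (0, 54, true), (5, 42, true), (4, 46, true), (3, 49, true), (2, 7, true), (4, 40, true), (3, 5, true), (3, 4, true), (3, 34, true), (2, 51, true), (1, 54, true), (0, 9, true), (1, 50, true), (0, 8, true), (2, 30, true), (1, 39, true), (0, 49, true), (3, 38, true), (2, 42, true), (1, 49, true), (0, 7, true), (2, 36, true), (1, 44, true), (0, 51, true), (2, 42, true), (1, 49, true), (3, 41, true), (2, 6, true), (2, 4, true), (2, 35, true), (1, 53, true), (0, 9, true), (0, 7, true), (3, 29, true), (2, 39, true), (1, 42, true), (0, 46, true), (2, 4, true), (2, 37, true), (1, 47, true), (0, 52, true)], [(1, 35, true), (0, 18, true), (4, 16, true), (3, 43, true),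 (2, 47, true), (1, 52, true), (4, 42, true), (3, 46, true), (2, 7, true), (3, 41, true), (2, 45, true), (4, 4, true), (4, 14, true), (3, 46, true), (2, 49, true), (6, 13, true), (5, 43, true), (4, 47, true), (3, 50, true), (2, 52, true), (1, 8, true), (4, 40, true), (3, 5, true), (4, 12, true), (3, 44, true), (2, 51, true), (1, 53, true), (0, 9, true), (2, 43, true), (1, 50, true), (0, 52, true), (3, 41, true), (2, 6, true), (2, 40, true), (3, 4, true)]),
  ([0, 3, 6], [(0, 12, true), (8, 15, true), (7, 22, true), (6, 31, true), (5, 39, true), (4, 42, true), (3, 46, true), (2, 49, true), (5, 4, true), (5, 36, true), (4, 48, true), (3, 51, true), (2, 53, true), (1, 54, true), (0, 9, true), (3, 46, true), (2, 49, true), (1, 7, true), (2, 45, true), (1, 6, true), (3, 35, true), (2, 44, true), (1, 48, true), (0, 54, true), (3, 42, true), (2, 46, true), (4, 40, true), (3, 5, true), (3, 4, true), (3, 34, true), (2, 53, true), (1, 54, true), (0, 9, true), (1, 52, true), (0, 8, true), (2, 29, true), (1, 39, true), (0, 7, true), (1, 37, true), (0, 43, true)],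 [(1, 36, true), (0, 18, true), (4, 16, true), (3, 43, true), (2, 47, true), (1, 52, true), (4, 42, true), (3, 46, true), (2, 7, true), (3, 41, true), (2, 45, true), (4, 4, true), (4, 15, true), (3, 5, true), (3, 13, true), (2, 50, true), (1, 8, true), (3, 12, true), (2, 48, true), (1, 51, true), (0, 9, true), (1, 47, true), (0, 50, true), (2, 45, true), (1, 6, true), (1, 5, true)]),
  ([0, 3, 7], [(0, 12, true), (8, 16, true), (7, 25, true), (6, 32, true), (5, 39, true), (4, 42, true), (3, 46, true), (2, 49, true), (5, 4, true), (5, 38, true), (4, 46, true), (3, 49, true), (2, 7, true), (4, 37, true), (3, 47, true), (2, 50, true), (1, 8, true), (3, 36, true), (2, 48, true), (1, 51, true), (0, 9, true), (1, 46, true), (0, 49, true), (2, 45, true), (1, 6, true), (3, 35, true), (2, 44, true), (1, 48, true), (0, 53, true), (3, 42, true), (2, 46, true), (1, 7, true), (2, 40, true), (1, 5, true), (1, 4, true), (1, 34, true), (0, 9, true), (3, 24, true), (2, 31, true), (1, 39, true), (3, 36, true), (2, 44, true), (1, 53, true), (0, 54, true), (3, 42,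 true), (2, 7, true), (2, 41, true), (3, 4, true), (3, 35, true), (2, 51, true), (1, 54, true), (0, 9, true), (1, 49, true), (5, 34, true), (4, 44, true), (3, 48, true), (2, 51, true), (1, 53, true), (0, 54, true), (5, 43, true), (4, 47, true), (3, 50, true), (2, 52, true), (1, 8, true), (7, 23, true), (6, 32, true), (5, 39, true), (4, 42, true), (3, 46, true), (2, 49, true), (1, 7, true), (3, 4, true), (3, 38, true), (2, 46, true), (1, 49, true), (4, 37, true), (3, 47, true), (2, 50, true), (1, 52, true), (5, 36, true), (4, 48, true), (3, 51, true), (2, 53, true), (1, 54, true), (0, 9, true), (3, 46, true), (2, 49, true), (1, 7, true), (2, 45, true), (1, 6, true), (3, 35, true), (2, 44, true), (1, 48, true), (0, 54, true), (3, 42, true), (2, 46, true), (4, 40, true), (3, 5, true), (3, 4, true), (3, 34, true), (2, 53, true), (1, 54, true), (0, 9, true), (1, 52, true), (0, 8, true), (2, 30, true), (1, 39, true), (0, 7, true), (1, 38, true), (0, 42, true), (2, 36, true), (1, 44, true), (0, 53, true), (2, 42, true), (1, 7, true), (1, 41, true), (2,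 4, true), (2, 35, true), (1, 51, true), (0, 9, true), (0, 49, true), (6, 21, true), (5, 33, true), (4, 39, true), (3, 42, true), (2, 46, true), (1, 49, true), (0, 7, true), (2, 4, true), (2, 36, true), (1, 48, true), (0, 51, true), (2, 46, true), (1, 49, true), (3, 45, true), (2, 6, true), (4, 34, true), (3, 44, true), (2, 48, true), (1, 53, true), (0, 9, true), (2, 43, true), (1, 47, true), (0, 52, true), (5, 32, true), (4, 39, true), (3, 42, true), (2, 46, true), (1, 7, true), (2, 4, true), (2, 38, true), (1, 46, true), (3, 37, true), (2, 47, true), (1, 52, true), (0, 8, true), (2, 36, true), (1, 48, true), (0, 53, true), (2, 46, true), (1, 7, true), (1, 45, true), (4, 35, true), (3, 44, true), (2, 48, true), (1, 51, true), (0, 9, true), (2, 42, true), (1, 46, true), (0, 49, true), (3, 40, true), (2, 5, true), (2, 4, true), (2, 34, true), (1, 51, true), (0, 53, true), (2, 50, true), (1, 52, true), (5, 31, true), (4, 39, true), (3, 49, true), (2, 7, true), (4, 36, true), (3, 44, true), (2, 51, true), (1, 54, true), (0, 9, true), (2, 42, true),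 (1, 49, true), (3, 41, true), (2, 6, true), (2, 4, true), (2, 35, true), (1, 53, true), (0, 54, true), (2, 7, true), (4, 34, true), (3, 44, true), (2, 48, true), (1, 54, true), (0, 9, true), (2, 43, true), (1, 47, true), (0, 8, true), (3, 30, true), (2, 39, true), (1, 42, true), (0, 46, true), (2, 4, true), (2, 38, true), (1, 46, true), (0, 7, true), (1, 36, true), (0, 48, true), (1, 46, true), (2, 45, true), (5, 35, true), (4, 44, true), (3, 48, true), (2, 51, true), (1, 53, true), (0, 9, true), (3, 42, true), (2, 46, true), (1, 49, true), (0, 7, true), (2, 40, true), (1, 5, true), (1, 4, true), (2, 29, true), (1, 39, true), (0, 49, true), (3, 37, true), (2, 43, true), (1, 50, true), (0, 52, true)], [(1, 37, true), (0, 17, true), (3, 12, true), (2, 48, true), (1, 53, true), (0, 9, true), (1, 47, true), (0, 52, true), (2, 45, true), (3, 5, true)]),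
  ([0, 3, 8], [(0, 12, true), (8, 17, true), (7, 26, true), (6, 30, true), (5, 39, true), (4, 42, true), (3, 46, true), (2, 49, true), (5, 4, true), (5, 38, true), (4, 46, true), (3, 49, true), (2, 7, true), (4, 36, true), (3, 48, true), (2, 51, true), (1, 54, true), (0, 9, true), (2, 46, true), (1, 49, true), (3, 45, true), (2, 6, true), (4, 35, true), (3, 44, true), (2, 48, true), (1, 53, true), (0, 54, true), (4, 42, true), (3, 46, true), (2, 7, true), (3, 40, true), (2, 5, true), (2, 4, true), (3, 29, true), (2, 39, true), (4, 37, true), (3, 43, true), (2, 52, true), (1, 8, true), (4, 28, true), (3, 39, true), (2, 42, true), (1, 7, true), (1, 4, true), (1, 38, true), (2, 35, true), (1, 53, true), (0, 9, true), (0, 7, true), (2, 34, true), (1, 44, true), (0, 48, true), (2, 43, true), (1, 47, true), (6, 24, true), (5, 31, true), (4, 39, true), (3, 42, true), (2, 46, true), (4, 4, true), (4, 36, true), (3, 48, true), (2, 53, true), (1, 54, true), (0, 9, true), (2, 46, true), (1, 7, true), (1, 45, true), (4, 35, true), (3, 44, true), (2, 48, true),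 (1, 51, true), (0, 54, true), (4, 42, true), (3, 46, true), (2, 49, true), (5, 40, true), (4, 5, true), (4, 4, true), (4, 34, true), (3, 51, true), (2, 53, true), (1, 54, true), (0, 9, true), (2, 50, true), (1, 52, true), (0, 8, true), (4, 22, true), (3, 31, true), (2, 39, true), (1, 49, true), (0, 7, true), (2, 36, true), (1, 44, true), (0, 51, true), (2, 42, true), (1, 49, true), (3, 41, true), (2, 6, true), (2, 4, true), (2, 35, true), (1, 53, true), (0, 9, true), (0, 7, true), (2, 34, true), (1, 44, true), (0, 48, true), (2, 43, true), (1, 47, true), (5, 29, true), (4, 39, true), (3, 42, true), (2, 46, true), (4, 4, true), (4, 37, true), (3, 47, true), (2, 52, true), (1, 8, true)], [(1, 38, true), (0, 16, true), (4, 12, true), (3, 44, true), (2, 51, true), (1, 53, true), (0, 54, true), (4, 43, true), (3, 50, true), (2, 52, true), (1, 8, true), (3, 41, true), (2, 6, true), (2, 40, true), (3, 4, true)]),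
  ([0, 3, 9], [(0, 12, true), (8, 18, true), (7, 26, true), (6, 30, true), (5, 39, true), (4, 42, true), (3, 46, true), (2, 49, true), (5, 4, true), (5, 38, true), (4, 46, true), (3, 49, true), (2, 7, true), (4, 36, true), (3, 48, true), (2, 51, true), (1, 54, true), (0, 9, true), (2, 46, true), (1, 49, true), (3, 45, true), (2, 6, true), (4, 35, true), (3, 44, true), (2, 48, true), (1, 53, true), (0, 54, true), (4, 42, true), (3, 46, true), (2, 7, true), (3, 40, true), (2, 5, true), (2, 4, true), (3, 29, true), (2, 39, true), (4, 37, true), (3, 43, true), (2, 52, true), (1, 8, true), (4, 28, true), (3, 39, true), (2, 42, true), (1, 7, true), (1, 4, true), (1, 38, true), (2, 35, true), (1, 53, true), (0, 9, true), (0, 7, true), (2, 34, true), (1, 44, true), (0, 48, true), (2, 43, true), (1, 47, true), (6, 24, true), (5, 31, true), (4, 39, true), (3, 42, true), (2, 46, true), (4, 4, true), (4, 36, true), (3, 48, true), (2, 53, true), (1, 54, true), (0, 9, true), (2, 46, true), (1, 7, true), (1, 45, true), (4, 35, true), (3, 44, true), (2, 48, true),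 (1, 51, true), (0, 54, true), (4, 42, true), (3, 46, true), (2, 49, true), (5, 40, true), (4, 5, true), (4, 4, true), (4, 34, true), (3, 51, true), (2, 53, true), (1, 54, true), (0, 9, true), (2, 50, true), (1, 52, true), (0, 8, true), (4, 22, true), (3, 31, true), (2, 39, true), (1, 49, true), (0, 7, true), (2, 36, true), (1, 44, true), (0, 51, true), (2, 42, true), (1, 49, true), (3, 41, true), (2, 6, true), (2, 4, true), (2, 35, true), (1, 53, true), (0, 9, true), (0, 7, true), (2, 34, true), (1, 44, true), (0, 48, true), (2, 43, true), (1, 47, true), (5, 29, true), (4, 39, true), (3, 42, true), (2, 46, true), (4, 4, true), (4, 37, true), (3, 47, true), (2, 52, true), (1, 8, true), (5, 21, true), (4, 33, true), (3, 39, true), (2, 46, true), (1, 7, true), (3, 36, true), (2, 44, true), (1, 48, true), (0, 9, true), (1, 42, true), (0, 46, true), (2, 41, true), (1, 45, true), (3, 4, true), (3, 34, true), (2, 48, true), (1, 51, true), (0, 53, true), (3, 47, true), (2, 50, true), (1, 52, true), (6, 32, true), (5, 39, true), (4, 46, true), (3, 49, true),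 (2, 7, true), (5, 38, true), (4, 42, true), (3, 46, true), (2, 49, true), (6, 37, true), (5, 43, true), (4, 47, true), (3, 50, true), (2, 52, true), (1, 8, true), (5, 36, true), (4, 44, true), (3, 48, true), (2, 51, true), (1, 53, true), (0, 9, true), (3, 42, true), (2, 46, true), (1, 49, true), (0, 7, true), (2, 41, true), (1, 45, true), (0, 6, true), (1, 4, true), (1, 35, true), (0, 48, true), (1, 46, true), (2, 5, true), (3, 34, true), (2, 44, true), (1, 53, true), (0, 9, true), (1, 43, true), (0, 52, true), (4, 31, true), (3, 39, true), (2, 42, true), (1, 7, true), (1, 4, true), (1, 36, true), (0, 54, true), (5, 35, true), (4, 44, true), (3, 51, true), (2, 53, true), (1, 54, true), (0, 9, true), (3, 42, true), (2, 49, true), (1, 7, true), (2, 40, true), (3, 4, true), (3, 34, true), (2, 48, true), (1, 51, true), (0, 54, true), (3, 47, true), (2, 50, true), (1, 8, true), (4, 30, true), (3, 39, true), (2, 46, true), (1, 49, true), (5, 38, true), (4, 42, true), (3, 46, true), (2, 49, true), (1, 7, true), (4, 36, true), (3, 44, true), (2, 48, true),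 (1, 51, true), (0, 9, true), (2, 42, true), (1, 46, true), (0, 49, true), (3, 41, true), (2, 45, true), (1, 6, true), (2, 4, true), (2, 35, true), (1, 48, true), (0, 53, true), (2, 46, true), (1, 7, true), (1, 5, true), (3, 29, true), (2, 39, true), (1, 42, true), (2, 4, true), (2, 37, true), (1, 52, true)], [(1, 39, true), (0, 16, true), (4, 13, true), (3, 43, true), (2, 50, true), (1, 52, true), (0, 8, true), (2, 40, true), (4, 12, true), (3, 44, true), (2, 48, true), (1, 51, true), (0, 53, true), (4, 43, true), (3, 47, true), (2, 50, true), (1, 52, true), (5, 41, true), (4, 45, true), (3, 6, true), (4, 40, true), (3, 5, true), (3, 4, true)]),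
  ([0, 4, 5], [(0, 13, true), (2, 14, true), (1, 46, true)], [(1, 40, true), (0, 14, true), (2, 13, true), (1, 43, true), (0, 52, true), (2, 40, true)]),
  ([0, 4, 6], [(0, 13, true), (2, 15, true), (1, 5, true)], [(1, 41, true), (0, 15, true), (1, 13, true), (0, 47, true), (1, 5, true)]),
  ([0, 4, 7], [(0, 13, true), (2, 16, true), (1, 47, true), (0, 8, true), (0, 46, true), (1, 45, true)], [(1, 42, true), (0, 16, true), (4, 13, true), (3, 43, true), (2, 50, true), (1, 52, true), (0, 8, true), (2, 40, true)]),
  ([0, 4, 8], [(0, 13, true), (2, 17, true), (1, 48, true), (0, 54, true), (2, 46, true), (3, 5, true)], [(1, 43, true), (0, 17, true), (3, 13, true), (2, 47, true), (1, 52, true), (3, 5, true)]),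
  ([0, 4, 9], [(0, 13, true), (2, 18, true), (1, 48, true), (0, 54, true), (2, 46, true), (3, 5, true)], [(1, 44, true), (0, 18, true), (4, 13, true), (3, 43, true), (2, 47, true), (1, 52, true), (4, 40, true), (3, 5, true)]),
  ([0, 5, 6], [(0, 14, true), (2, 15, true), (1, 40, true)], [(1, 45, true), (0, 15, true), (1, 14, true), (0, 46, true)]),
  ([0, 5, 7], [(0, 14, true), (2, 16, true), (1, 43, true), (0, 52, true), (2, 42, true), (1, 7, true), (1, 41, true), (2, 4, true)], [(1, 46, true), (0, 16, true), (4, 14, true), (3, 42, true), (2, 49, true), (1, 7, true), (2, 4, true)]),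
  ([0, 5, 8], [(0, 14, true), (2, 17, true), (1, 44, true), (0, 53, true), (2, 42, true), (1, 7, true), (1, 40, true)], [(1, 47, true), (0, 17, true), (3, 14, true), (2, 46, true), (1, 7, true)]),
  ([0, 5, 9], [(0, 14, true), (2, 18, true), (1, 44, true), (0, 53, true), (2, 42, true), (1, 7, true), (1, 40, true), (2, 4, true)], [(1, 48, true), (0, 18, true), (4, 14, true), (3, 42, true), (2, 46, true), (1, 7, true), (2, 4, true)]),
  ([0, 6, 9], [(0, 15, true), (1, 18, true), (0, 48, true), (1, 46, true), (2, 5, true)], [(1, 51, true), (0, 18, true), (4, 15, true), (3, 40, true), (2, 5, true)]),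
  ([1, 2, 4], [(0, 19, true), (4, 21, true), (3, 33, true), (2, 44, true), (1, 51, true), (0, 54, true), (3, 41, true), (2, 6, true), (2, 4, true), (2, 32, true), (1, 54, true), (0, 9, true), (0, 8, true), (4, 31, true), (3, 44, true), (2, 48, true), (1, 51, true), (0, 53, true), (4, 41, true), (3, 45, true), (2, 6, true), (3, 40, true), (2, 5, true), (2, 4, true), (2, 30, true), (1, 53, true), (0, 9, true), (0, 52, true), (4, 29, true), (3, 48, true), (2, 51, true), (1, 53, true), (0, 54, true), (4, 46, true), (3, 49, true), (2, 7, true)], [(1, 28, true), (0, 26, true), (3, 25, true), (2, 43, true), (1, 47, true), (0, 50, true), (4, 22, true), (3, 42, true), (2, 46, true), (1, 49, true), (4, 40, true), (3, 5, true), (4, 21, true), (3, 44, true), (2, 51, true), (1, 53, true), (0, 54, true), (4, 43, true), (3, 50, true), (2, 52, true), (1, 8, true), (3, 42, true), (2, 49, true), (1, 7, true), (2, 41, true), (1, 6, true), (1, 40, true), (3, 19, true), (2, 43, true), (1, 47, true), (3, 41, true), (2, 45, true), (4, 4, true)]),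
  ([1, 3, 4], [(0, 20, true), (5, 21, true), (4, 39, true), (3, 46, true), (2, 49, true), (1, 7, true), (4, 38, true), (3, 42, true), (2, 46, true), (1, 49, true), (5, 37, true), (4, 43, true), (3, 47, true), (2, 50, true), (1, 52, true), (0, 8, true), (4, 36, true), (3, 44, true), (2, 48, true), (1, 51, true), (0, 53, true), (4, 42, true), (3, 46, true), (2, 49, true), (1, 7, true), (3, 41, true), (2, 45, true), (1, 6, true), (2, 4, true), (2, 35, true), (1, 48, true), (0, 9, true), (0, 46, true), (1, 5, true)], [(1, 34, true), (0, 26, true), (3, 25, true), (2, 43, true), (1, 47, true), (0, 50, true), (4, 20, true), (3, 43, true), (2, 47, true), (1, 50, true), (0, 8, true), (2, 42, true), (1, 46, true), (0, 49, true), (3, 41, true), (2, 45, true), (1, 6, true), (2, 40, true), (1, 5, true)]),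
  ([0, 0, 0], [(0, 0, true)], [(1, 0, true), (0, 17, true), (3, 15, true), (2, 5, true), (2, 13, true), (1, 52, true), (4, 11, true), (5, 10, true), (4, 25, true), (3, 47, true), (2, 52, true), (1, 8, true), (3, 23, true), (2, 47, true), (1, 52, true), (3, 45, true), (5, 21, true), (4, 48, true), (3, 51, true), (2, 53, true), (1, 54, true), (0, 9, true), (3, 47, true), (2, 50, true), (1, 52, true), (0, 8, true), (2, 46, true), (1, 49, true), (0, 7, true), (1, 45, true), (0, 6, true), (0, 5, true), (0, 19, true)]),
  ([0, 1, 1], [(0, 10, true), (4, 10, true), (3, 32, true), (2, 44, true), (1, 51, true), (0, 54, true), (3, 43, true), (2, 50, true), (1, 8, true), (2, 42, true), (1, 49, true), (3, 41, true), (2, 6, true), (2, 40, true), (3, 4, true), (3, 30, true), (2, 48, true), (1, 53, true), (0, 9, true), (1, 47, true), (0, 52, true), (2, 45, true), (3, 5, true), (3, 28, true), (2, 51, true), (1, 53, true), (0, 54, true), (3, 50, true), (2, 52, true), (1, 8, true), (5, 2, true), (4, 44, true), (3, 48, true), (2, 51, true), (1, 53, true), (0, 9,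 true), (3, 43, true), (2, 47, true), (1, 50, true), (0, 52, true), (4, 40, true), (3, 5, true)], [(1, 1, true), (0, 16, true)]),
  ([0, 0, 3], [(0, 0, true), (4, 20, true), (3, 32, true), (2, 44, true), (1, 51, true), (0, 54, true), (3, 43, true), (2, 50, true), (1, 8, true), (2, 42, true), (1, 49, true), (3, 41, true), (2, 6, true), (2, 40, true), (3, 4, true), (3, 31, true), (2, 48, true), (1, 53, true), (0, 9, true), (1, 45, true), (2, 5, true), (3, 30, true), (2, 44, true), (1, 51, true), (0, 53, true), (3, 43, true), (2, 50, true), (1, 52, true), (4, 41, true), (3, 6, true), (3, 40, true), (5, 29, true), (4, 44, true), (3, 48, true), (2, 53, true), (1, 54, true), (0, 9, true), (3, 42, true), (2, 46, true), (1, 7, true), (3, 27, true), (2, 41, true), (1, 45, true), (3, 40, true), (2, 5, true)], [(1, 12, true), (0, 18, true), (4, 17, true), (3, 44, true), (2, 48, true), (1, 53, true), (0, 9, true), (2, 42, true), (1, 46, true), (0, 7, true), (1, 40, true), (0, 5, true), (1, 15, true), (0, 40, true), (2, 14, true), (1, 42, true), (0, 46, true),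 (2, 4, true), (2, 13, true), (1, 47, true), (0, 52, true), (2, 5, true), (2, 12, true), (1, 53, true), (0, 54, true), (2, 52, true), (1, 8, true), (8, 11, true), (7, 1, true), (6, 31, true), (5, 39, true), (4, 42, true), (3, 46, true), (2, 49, true), (1, 7, true), (3, 4, true), (3, 36, true), (2, 48, true), (1, 51, true), (0, 9, true), (1, 46, true), (0, 49, true), (2, 45, true), (1, 6, true), (3, 35, true), (2, 44, true), (1, 48, true), (0, 53, true), (3, 42, true), (2, 46, true), (1, 7, true), (2, 40, true), (1, 5, true), (1, 4, true), (1, 34, true), (0, 9, true), (3, 10, true), (2, 32, true), (1, 39, true), (3, 38, true), (2, 42, true), (1, 7, true), (2, 37, true), (1, 43, true), (0, 8, true), (1, 36, true), (0, 44, true), (1, 42, true), (2, 41, true), (3, 4, true), (3, 35, true), (2, 51, true), (1, 53, true), (0, 9, true), (1, 49, true), (0, 7, true), (3, 34, true), (2, 44, true), (1, 48, true), (0, 51, true), (3, 43, true), (2, 47, true), (1, 50, true), (6, 30, true), (5, 39, true), (4, 42, true), (3, 46, true), (2, 49, true), (5, 4, true),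 (5, 38, true), (4, 46, true), (3, 49, true), (2, 7, true), (4, 36, true), (3, 48, true), (2, 51, true), (1, 54, true), (0, 9, true), (2, 46, true), (1, 49, true), (3, 45, true), (2, 6, true), (4, 35, true), (3, 44, true), (2, 48, true), (1, 53, true), (0, 54, true), (4, 42, true), (3, 46, true), (2, 7, true), (3, 40, true), (2, 5, true), (2, 4, true), (3, 28, true), (2, 39, true), (4, 38, true), (3, 42, true), (2, 7, true), (3, 35, true), (2, 44, true), (1, 54, true), (0, 9, true), (1, 42, true), (2, 40, true), (3, 4, true), (3, 34, true), (2, 48, true), (1, 53, true), (0, 54, true), (3, 47, true), (2, 52, true), (1, 8, true), (4, 2, true), (3, 39, true), (2, 46, true), (1, 7, true), (3, 38, true), (2, 42, true), (1, 46, true), (4, 35, true), (3, 44, true), (2, 48, true), (1, 53, true), (0, 9, true), (2, 42, true), (1, 46, true), (0, 7, true), (1, 40, true), (0, 5, true), (0, 4, true), (1, 0, true), (0, 38, true), (1, 36, true), (0, 53, true), (1, 7, true), (3, 34, true), (2, 44, true), (1, 51, true), (0, 9, true), (1, 43, true), (0, 50, true)]),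
  ([0, 3, 3], [(0, 12, true), (8, 12, true), (7, 26, true), (6, 30, true), (5, 39, true), (4, 42, true), (3, 46, true), (2, 49, true), (5, 4, true), (5, 38, true), (4, 46, true), (3, 49, true), (2, 7, true), (4, 36, true), (3, 48, true), (2, 51, true), (1, 54, true), (0, 9, true), (2, 46, true), (1, 49, true), (3, 45, true), (2, 6, true), (4, 35, true), (3, 44, true), (2, 48, true), (1, 53, true), (0, 54, true), (4, 42, true), (3, 46, true), (2, 7, true), (3, 40, true), (2, 5, true), (2, 4, true), (3, 29, true), (2, 39, true), (4, 37, true), (3, 43, true), (2, 52, true), (1, 8, true), (4, 28, true), (3, 39, true), (2, 42, true), (1, 7, true), (1, 4, true), (1, 38, true), (2, 35, true), (1, 53, true), (0, 9, true), (0, 7, true), (2, 34, true), (1, 44, true), (0, 48, true), (2, 43, true), (1, 47, true), (6, 25, true), (5, 32, true), (4, 39, true), (3, 42, true), (2, 46, true), (4, 4, true), (4, 38, true), (3, 46, true), (2, 7, true), (3, 37, true), (2, 47, true), (1, 8, true), (2, 36, true), (1, 48, true), (0, 9, true), (0, 46, true), (1, 45, true),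 (4, 35, true), (3, 44, true), (2, 48, true), (1, 51, true), (0, 53, true), (4, 42, true), (3, 46, true), (2, 49, true), (1, 7, true), (3, 40, true), (2, 5, true), (2, 4, true), (2, 34, true), (1, 51, true), (0, 9, true), (0, 50, true), (4, 23, true), (3, 32, true), (2, 39, true), (1, 49, true), (4, 38, true), (3, 42, true), (2, 49, true), (1, 7, true), (3, 37, true), (2, 43, true), (1, 50, true), (0, 8, true), (2, 36, true), (1, 44, true), (0, 51, true), (2, 42, true), (1, 49, true), (3, 41, true), (2, 6, true), (2, 4, true), (2, 35, true), (1, 53, true), (0, 9, true), (0, 7, true), (2, 34, true), (1, 44, true), (0, 48, true), (2, 43, true), (1, 47, true), (5, 30, true), (4, 39, true), (3, 42, true), (2, 46, true), (4, 4, true), (4, 38, true), (3, 46, true), (2, 7, true), (3, 36, true), (2, 48, true), (1, 54, true), (0, 9, true), (1, 46, true), (2, 45, true), (5, 35, true), (4, 44, true), (3, 48, true), (2, 51, true), (1, 53, true), (0, 54, true), (5, 42, true), (4, 46, true), (3, 49, true), (2, 7, true), (4, 40, true), (3, 5, true), (3, 4, true),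 (5, 22, true), (4, 31, true), (3, 39, true), (2, 49, true), (5, 36, true), (4, 44, true), (3, 51, true), (2, 53, true), (1, 54, true), (0, 9, true), (3, 42, true), (2, 49, true), (1, 7, true), (2, 41, true), (1, 6, true), (1, 4, true), (1, 35, true), (0, 54, true), (5, 34, true), (4, 44, true), (3, 48, true), (2, 53, true), (1, 54, true), (0, 9, true), (3, 43, true), (2, 47, true), (1, 52, true), (0, 8, true), (4, 29, true), (3, 39, true), (2, 42, true), (1, 46, true), (0, 7, true), (1, 4, true), (1, 37, true), (0, 47, true), (4, 21, true), (3, 33, true), (2, 39, true), (1, 46, true), (4, 36, true), (3, 44, true), (2, 48, true), (1, 53, true), (0, 54, true), (4, 42, true), (3, 46, true), (2, 7, true), (3, 41, true), (2, 45, true), (4, 4, true), (4, 34, true), (3, 48, true), (2, 51, true), (1, 54, true), (0, 9, true), (2, 47, true), (1, 50, true), (0, 8, true), (3, 32, true), (2, 39, true), (1, 46, true), (0, 49, true), (4, 38, true), (3, 42, true), (2, 46, true), (1, 49, true), (0, 7, true), (3, 37, true), (2, 43, true), (1, 47, true), (0, 50,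 true), (4, 36, true), (3, 44, true), (2, 48, true), (1, 51, true), (0, 54, true), (4, 42, true), (3, 46, true), (2, 49, true), (5, 41, true), (4, 45, true), (3, 6, true), (4, 4, true), (4, 35, true), (3, 48, true), (2, 53, true), (1, 54, true), (0, 9, true), (2, 46, true), (1, 7, true), (1, 5, true), (2, 34, true), (1, 44, true), (0, 54, true), (2, 43, true), (1, 8, true), (3, 31, true), (2, 39, true), (1, 42, true), (2, 4, true), (2, 36, true), (1, 53, true), (0, 9, true), (0, 7, true), (2, 35, true), (1, 44, true), (0, 51, true), (2, 42, true), (1, 49, true), (3, 40, true), (4, 4, true), (4, 34, true), (3, 48, true), (2, 51, true), (1, 53, true), (0, 9, true), (2, 47, true), (1, 50, true), (0, 52, true), (5, 30, true), (4, 39, true), (3, 46, true), (2, 49, true), (1, 7, true), (4, 38, true), (3, 42, true), (2, 46, true), (1, 49, true), (5, 36, true), (4, 44, true), (3, 48, true), (2, 51, true), (1, 53, true), (0, 54, true), (5, 42, true), (4, 46, true), (3, 49, true), (2, 7, true), (4, 41, true), (3, 45, true), (2, 6, true), (3, 4, true), (3,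 35, true), (2, 48, true), (1, 54, true), (0, 9, true), (1, 46, true), (2, 5, true), (4, 29, true), (3, 39, true), (2, 42, true), (1, 7, true), (1, 4, true), (1, 37, true), (0, 8, true), (2, 20, true), (1, 32, true), (0, 39, true), (2, 38, true), (1, 42, true), (0, 7, true), (1, 37, true), (0, 43, true), (2, 36, true), (1, 44, true), (0, 54, true), (2, 42, true), (3, 41, true), (4, 4, true), (4, 35, true), (3, 51, true), (2, 53, true), (1, 54, true), (0, 9, true), (2, 49, true), (1, 7, true), (4, 34, true), (3, 44, true), (2, 48, true), (1, 51, true), (0, 54, true), (4, 43, true), (3, 47, true), (2, 50, true), (1, 8, true), (5, 31, true), (4, 39, true), (3, 42, true), (2, 46, true), (1, 49, true), (4, 4, true), (4, 36, true), (3, 48, true), (2, 51, true), (1, 53, true), (0, 9, true), (2, 46, true), (1, 49, true), (0, 7, true), (1, 45, true), (0, 6, true), (2, 35, true), (1, 44, true), (0, 48, true), (2, 42, true), (1, 46, true), (3, 40, true), (2, 5, true), (2, 4, true), (2, 34, true), (1, 53, true), (0, 9, true), (0, 52, true), (3, 30, true), (2,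 39, true), (1, 7, true), (2, 38, true), (1, 42, true), (3, 36, true), (2, 44, true), (1, 53, true), (0, 54, true), (3, 42, true), (2, 7, true), (2, 41, true), (3, 4, true), (3, 35, true), (2, 51, true), (1, 54, true), (0, 9, true), (1, 49, true), (6, 29, true), (5, 39, true), (4, 42, true), (3, 46, true), (2, 49, true), (1, 7, true), (3, 4, true), (3, 37, true), (2, 47, true), (1, 50, true), (0, 8, true), (3, 27, true), (2, 36, true), (1, 48, true), (0, 51, true), (2, 46, true), (1, 49, true), (3, 45, true), (2, 6, true), (4, 35, true), (3, 44, true), (2, 48, true), (1, 53, true), (0, 9, true), (2, 42, true), (1, 46, true), (0, 7, true), (1, 40, true), (0, 5, true), (0, 4, true), (0, 3, true), (1, 19, true), (0, 32, true), (6, 30, true), (5, 44, true), (4, 48, true), (3, 51, true), (2, 53, true), (1, 54, true), (0, 9, true), (4, 43, true), (3, 47, true), (2, 50, true), (1, 52, true), (0, 8, true), (3, 41, true), (2, 45, true), (1, 6, true), (2, 40, true), (1, 5, true), (2, 28, true), (1, 44, true), (0, 53, true), (2, 43, true), (1, 52, true), (3,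 40, true), (4, 4, true), (4, 2, true), (3, 48, true), (2, 53, true), (1, 54, true), (0, 9, true), (2, 47, true), (1, 52, true), (0, 8, true), (1, 5, true), (1, 1, true), (0, 7, true)], [(1, 3, true)])]

/-- A conjugation. -/
def twoM24Fus0 : Schur.Tails.Fus where
  xs := [[9, 8, 6, 4], [4], [9, 8, 5, 4, 3, 2, 1, 0]]
  ys := [[9, 8, 4, 2, 1], [7, 5, 4, 2, 0], [8, 4, 3, 2, 1, 0]]
  rels := [
    ([0, 0], [], [(3, 44, true), (2, 51, true), (1, 54, true), (0, 9, true), (2, 43, true), (1, 50, true), (0, 8, true), (1, 41, true), (0, 6, true), (0, 4, true)], [(4, 26, true), (3, 30, true), (2, 44, true), (1, 54, true), (0, 9, true), (1, 43, true), (0, 8, true), (0, 41, true), (1, 40, true), (3, 29, true), (2, 44, true), (1, 48, true), (0, 51, true), (3, 42, true), (2, 46, true), (1, 49, true), (5, 28, true), (4, 44, true), (3, 48, true), (2, 51, true), (1, 53, true), (0, 9, true), (3, 43, true), (2, 47, true), (1, 50, true), (0, 52, true), (4, 40, true), (3, 5, true), (3, 4, true), (4, 25, true), (3, 32, true), (2, 51, true), (1, 53, true), (0, 54, true),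 (3, 50, true), (2, 52, true), (1, 8, true), (2, 49, true), (1, 7, true), (1, 6, true), (4, 21, true), (3, 33, true), (2, 44, true), (1, 48, true), (0, 9, true), (1, 41, true), (0, 45, true), (2, 4, true), (2, 32, true), (1, 48, true), (0, 51, true), (2, 47, true), (1, 50, true), (3, 46, true), (2, 49, true), (4, 45, true), (3, 6, true), (3, 5, true), (4, 31, true), (3, 44, true), (2, 53, true), (1, 54, true), (0, 9, true), (2, 41, true), (3, 40, true), (4, 4, true), (4, 30, true), (3, 48, true), (2, 51, true), (1, 53, true), (0, 54, true), (4, 47, true), (3, 50, true), (2, 52, true), (1, 8, true), (3, 45, true), (2, 6, true), (2, 5, true), (2, 29, true), (1, 53, true), (0, 9, true), (0, 7, true), (1, 19, true), (0, 32, true), (6, 30, true), (5, 44, true), (4, 48, true), (3, 51, true), (2, 53, true), (1, 54, true), (0, 9, true), (4, 43, true), (3, 47, true), (2, 50, true), (1, 52, true), (0, 8, true), (3, 41, true), (2, 45, true), (1, 6, true), (2, 40, true), (1, 5, true), (2, 28, true), (1, 44, true), (0, 53, true), (2, 43, true), (1, 52, true),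 (3, 40, true), (4, 4, true), (4, 2, true), (3, 48, true), (2, 53, true), (1, 54, true), (0, 9, true), (2, 47, true), (1, 52, true), (0, 8, true), (1, 5, true), (1, 1, true), (0, 7, true)]),
    ([1, 1], [], [(0, 4, true)], [(4, 16, true), (3, 32, true), (2, 44, true), (1, 48, true), (0, 53, true), (3, 43, true), (2, 47, true), (1, 52, true), (4, 42, true), (3, 46, true), (2, 7, true), (3, 41, true), (2, 45, true), (4, 40, true), (3, 5, true), (3, 4, true), (3, 31, true), (2, 51, true), (1, 54, true), (0, 9, true), (1, 6, true), (3, 30, true), (2, 44, true), (1, 48, true), (0, 54, true), (3, 43, true), (2, 47, true), (1, 8, true), (2, 41, true), (1, 45, true), (3, 40, true), (2, 5, true), (3, 28, true), (2, 44, true), (1, 51, true), (0, 9, true), (1, 43, true), (0, 50, true), (2, 40, true), (3, 4, true), (4, 14, true), (3, 31, true), (2, 48, true), (1, 51, true), (0, 54, true), (3, 45, true), (2, 6, true), (2, 5, true), (3, 28, true), (2, 44, true), (1, 54, true), (0, 9, true), (1, 43, true), (0, 8, true), (0, 40, true), (1, 4, true), (2, 13, true),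 (1, 32, true), (0, 48, true), (1, 47, true), (2, 46, true), (3, 45, true), (4, 5, true), (5, 29, true), (4, 44, true), (3, 51, true), (2, 53, true), (1, 54, true), (0, 9, true), (3, 42, true), (2, 49, true), (1, 7, true), (4, 11, true), (5, 0, true), (4, 25, true), (3, 32, true), (2, 44, true), (1, 51, true), (0, 54, true), (3, 43, true), (2, 50, true), (1, 8, true), (2, 42, true), (1, 49, true), (3, 41, true), (2, 6, true), (2, 40, true), (3, 4, true), (4, 23, true), (3, 32, true), (2, 48, true), (1, 53, true), (0, 9, true), (1, 47, true), (0, 52, true), (2, 46, true), (1, 7, true), (1, 45, true), (2, 5, true), (3, 30, true), (2, 44, true), (1, 51, true), (0, 54, true), (3, 43, true), (2, 50, true), (1, 8, true), (2, 41, true), (1, 6, true), (1, 40, true), (4, 21, true), (3, 33, true), (2, 44, true), (1, 48, true), (0, 9, true), (1, 41, true), (0, 45, true), (2, 4, true), (2, 32, true), (1, 48, true), (0, 51, true), (2, 47, true), (1, 50, true), (3, 46, true), (2, 49, true), (4, 45, true), (3, 6, true), (3, 5, true), (4, 31, true), (3, 44, true),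 (2, 53, true), (1, 54, true), (0, 9, true), (2, 41, true), (3, 40, true), (4, 4, true), (4, 30, true), (3, 48, true), (2, 51, true), (1, 53, true), (0, 54, true), (4, 47, true), (3, 50, true), (2, 52, true), (1, 8, true), (3, 45, true), (2, 6, true), (2, 5, true), (2, 29, true), (1, 53, true), (0, 9, true), (0, 7, true), (1, 19, true), (0, 32, true), (6, 30, true), (5, 44, true), (4, 48, true), (3, 51, true), (2, 53, true), (1, 54, true), (0, 9, true), (4, 43, true), (3, 47, true), (2, 50, true), (1, 52, true), (0, 8, true), (3, 41, true), (2, 45, true), (1, 6, true), (2, 40, true), (1, 5, true), (2, 28, true), (1, 44, true), (0, 53, true), (2, 43, true), (1, 52, true), (3, 40, true), (4, 4, true), (4, 2, true), (3, 48, true), (2, 53, true), (1, 54, true), (0, 9, true), (2, 47, true), (1, 52, true), (0, 8, true), (1, 5, true), (1, 1, true), (0, 7, true)]),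
    ([0, 1], [1, 0], [(3, 4, true), (3, 4, false), (2, 41, false), (1, 43, false), (0, 44, false)], [(4, 24, true), (3, 31, true), (2, 44, true), (1, 54, true), (0, 9, true), (1, 41, true), (2, 40, true), (3, 4, true), (4, 22, true), (3, 31, true), (2, 48, true), (1, 51, true), (0, 54, true), (3, 45, true), (2, 6, true), (2, 5, true), (3, 29, true), (2, 44, true), (1, 54, true), (0, 9, true), (1, 42, true), (4, 21, true), (3, 33, true), (2, 44, true), (1, 53, true), (0, 54, true), (3, 41, true), (4, 4, true), (4, 32, true), (3, 51, true), (2, 53, true), (1, 54, true), (0, 9, true), (2, 50, true), (1, 52, true), (0, 8, true), (1, 49, true), (0, 7, true), (0, 6, true), (2, 31, true), (1, 44, true), (0, 48, true), (2, 41, true), (1, 45, true), (3, 40, true), (2, 5, true), (2, 4, true), (2, 30, true), (1, 51, true), (0, 9, true), (0, 50, true), (1, 6, true), (2, 29, true), (1, 48, true), (0, 54, true), (2, 46, true), (5, 19, true), (4, 32, true), (3, 48, true), (2, 53, true), (1, 54, true), (0, 9, true), (2, 47, true), (1, 52, true), (0, 8, true),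 (1, 46, true), (0, 7, true), (0, 45, true), (1, 5, true), (2, 30, true), (1, 44, true), (0, 51, true), (2, 43, true), (1, 50, true), (3, 41, true), (2, 6, true), (2, 40, true), (4, 28, true), (3, 44, true), (2, 48, true), (1, 54, true), (0, 9, true), (2, 43, true), (1, 47, true), (0, 8, true), (1, 40, true), (0, 5, true), (0, 4, true), (0, 2, true), (0, 2, false), (0, 4, false), (0, 5, false), (1, 40, false), (0, 8, false), (1, 47, false), (2, 43, false), (0, 9, false), (1, 54, false), (2, 48, false), (3, 44, false), (4, 28, false), (2, 40, false), (2, 6, false), (3, 41, false), (1, 50, false), (2, 43, false), (0, 51, false), (1, 44, false), (2, 30, false), (1, 5, false), (0, 45, false), (0, 7, false), (1, 46, false), (0, 8, false), (1, 52, false), (2, 47, false), (0, 9, false), (1, 54, false), (2, 53, false), (3, 48, false), (4, 32, false), (5, 19, false), (2, 46, false), (0, 54, false), (1, 48, false), (2, 29, false), (1, 6, false), (0, 50, false), (0, 9, false), (1, 51, false), (2, 30, false), (2, 4, false), (2, 5, false), (3, 40, false), (1,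 45, false), (2, 41, false), (0, 48, false), (1, 44, false), (2, 31, false), (0, 6, false), (0, 7, false), (1, 49, false), (0, 8, false), (1, 52, false), (2, 50, false), (0, 9, false), (1, 54, false), (2, 53, false), (3, 51, false), (4, 32, false), (4, 4, false), (3, 41, false), (0, 54, false), (1, 53, false), (2, 44, false), (3, 33, false), (4, 21, false), (2, 5, false), (3, 40, false), (2, 6, false), (3, 45, false), (4, 41, false), (0, 52, false), (1, 50, false), (2, 47, false), (3, 43, false), (0, 9, false), (1, 53, false), (2, 51, false), (3, 48, false), (4, 44, false), (5, 30, false), (1, 8, false), (0, 54, false), (1, 32, false), (2, 23, false), (1, 4, false), (1, 5, false), (2, 40, false), (1, 6, false), (2, 45, false), (3, 41, false), (1, 7, false), (2, 49, false), (3, 46, false), (4, 42, false), (0, 52, false), (1, 50, false), (2, 47, false), (3, 43, false), (0, 9, false), (1, 53, false), (2, 51, false), (3, 48, false), (4, 44, false), (5, 32, false), (6, 25, false), (7, 10, false), (6, 11, false), (1, 49, false), (2, 46, false), (3, 42,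 false), (0, 51, false), (1, 48, false), (2, 44, false), (3, 29, false), (0, 7, false), (0, 8, false), (1, 52, false), (0, 9, false), (1, 54, false), (2, 53, false), (3, 32, false), (4, 13, false), (0, 54, false), (1, 29, false), (1, 4, false), (1, 5, false), (2, 40, false), (1, 6, false), (2, 45, false), (3, 41, false), (0, 9, false), (1, 54, false), (2, 51, false), (3, 48, false), (4, 44, false), (5, 31, false), (2, 45, false), (0, 54, false), (1, 48, false), (2, 33, false), (3, 17, false), (2, 4, false), (1, 40, false), (0, 43, false), (0, 9, false), (1, 44, false), (2, 28, false), (1, 7, false), (2, 42, false), (0, 53, false), (1, 44, false), (2, 29, false), (1, 5, false), (1, 6, false), (2, 45, false), (0, 9, false), (1, 53, false), (2, 51, false), (3, 48, false), (4, 31, false), (4, 4, false), (2, 45, false), (3, 41, false), (0, 53, false), (1, 48, false), (2, 44, false), (3, 33, false), (4, 18, false)]),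
    ([0, 2], [2, 0], [(3, 44, true), (2, 51, true), (1, 54, true), (0, 9, true), (2, 43, true), (1, 50, true), (0, 8, true), (1, 40, true), (2, 4, true), (0, 8, false), (1, 50, false), (2, 47, false), (3, 37, false), (3, 4, false), (1, 7, false), (2, 49, false), (3, 46, false), (4, 42, false), (5, 39, false), (6, 29, false), (0, 52, false), (1, 50, false), (2, 47, false), (3, 43, false), (0, 9, false), (1, 53, false), (2, 51, false), (3, 48, false), (4, 44, false), (5, 34, false), (1, 49, false), (0, 51, false), (1, 35, false), (1, 4, false), (0, 41, false), (0, 7, false), (1, 42, false), (0, 9, false), (1, 53, false), (2, 44, false), (3, 36, false), (1, 39, false), (2, 31, false), (3, 22, false), (1, 8, false), (0, 54, false), (1, 34, false), (1, 4, false), (1, 5, false), (2, 40, false), (1, 7, false), (2, 46, false), (3, 42, false), (0, 9, false), (1, 54, false), (2, 53, false), (3, 48, false), (4, 44, false), (5, 35, false), (3, 6, false), (4, 45, false), (2, 49, false), (3, 46, false), (0, 54, false), (1, 51, false), (2, 48, false), (3, 36,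 false), (0, 50, false), (1, 47, false), (2, 37, false), (0, 7, false), (1, 49, false), (2, 46, false), (3, 38, false), (3, 4, false), (0, 49, false), (1, 46, false), (2, 42, false), (3, 39, false), (4, 32, false), (5, 25, false), (6, 13, false), (0, 8, false), (1, 50, false), (2, 47, false), (3, 43, false), (4, 37, false), (1, 7, false), (2, 49, false), (3, 46, false), (4, 39, false), (5, 29, false), (0, 52, false), (1, 50, false), (2, 47, false), (0, 9, false), (1, 53, false), (2, 51, false), (3, 48, false), (4, 34, false), (4, 4, false), (3, 40, false), (1, 49, false), (2, 42, false), (0, 51, false), (1, 44, false), (2, 35, false), (0, 7, false), (0, 9, false), (1, 53, false), (2, 36, false), (2, 4, false), (1, 42, false), (2, 39, false), (3, 31, false), (4, 22, false), (5, 15, false), (1, 8, false), (2, 43, false), (3, 37, false), (2, 7, false), (3, 39, false), (4, 29, false), (1, 52, false), (0, 53, false), (1, 34, false), (1, 4, false), (1, 5, false), (2, 40, false), (0, 46, false), (1, 42, false), (0, 9, false), (1, 48, false), (2, 44, false),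 (3, 35, false), (1, 6, false), (2, 45, false), (1, 7, false), (2, 49, false), (3, 46, false), (0, 53, false), (1, 51, false), (2, 48, false), (3, 36, false), (3, 4, false), (0, 49, false), (1, 46, false), (2, 42, false), (3, 39, false), (4, 31, false), (5, 22, false), (0, 8, false), (1, 50, false), (2, 47, false), (3, 43, false), (0, 9, false), (1, 54, false), (2, 51, false), (3, 48, false), (4, 44, false), (5, 34, false), (2, 7, false), (3, 49, false), (0, 54, false), (1, 53, false), (2, 51, false), (3, 35, false), (3, 4, false), (2, 41, false), (1, 42, false), (0, 9, false), (1, 54, false), (2, 44, false), (3, 36, false), (2, 7, false), (3, 39, false), (4, 31, false), (5, 24, false), (1, 52, false), (0, 53, false), (1, 34, false), (1, 4, false), (1, 5, false), (2, 40, false), (0, 46, false), (1, 42, false), (0, 9, false), (1, 48, false), (2, 44, false), (3, 35, false), (1, 7, false), (2, 46, false), (3, 42, false), (4, 38, false), (1, 46, false), (2, 39, false), (3, 28, false), (1, 8, false), (2, 47, false), (3, 37, false), (3, 4, false), (2,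 7, false), (3, 46, false), (4, 42, false), (5, 39, false), (6, 29, false), (0, 54, false), (1, 35, false), (1, 4, false), (1, 6, false), (2, 41, false), (1, 7, false), (2, 49, false), (3, 42, false), (0, 9, false), (1, 54, false), (2, 53, false), (3, 51, false), (4, 44, false), (5, 36, false), (2, 49, false), (3, 42, false), (4, 38, false), (2, 7, false), (3, 49, false), (4, 39, false), (5, 30, false), (6, 26, false), (7, 17, false), (1, 52, false), (2, 50, false), (3, 37, false), (3, 4, false), (1, 49, false), (2, 42, false), (3, 39, false), (4, 29, false), (2, 5, false), (1, 7, false), (2, 49, false), (3, 46, false), (0, 53, false), (1, 51, false), (2, 48, false), (3, 35, false), (3, 4, false), (1, 45, false), (2, 41, false), (0, 46, false), (1, 42, false), (0, 9, false), (1, 48, false), (2, 44, false), (3, 36, false), (1, 7, false), (2, 46, false), (3, 42, false), (4, 38, false), (1, 46, false), (2, 39, false), (3, 30, false), (1, 8, false), (2, 47, false), (0, 54, false), (1, 48, false), (2, 34, false), (2, 4, false), (1, 40, false), (1, 7,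 false), (2, 42, false), (0, 9, false), (1, 54, false), (2, 53, false), (3, 44, false), (4, 35, false), (3, 6, false), (2, 49, false), (0, 54, false), (1, 51, false), (2, 36, false), (2, 4, false), (1, 7, false), (2, 49, false), (3, 42, false), (4, 39, false), (5, 31, false), (0, 52, false), (1, 50, false), (2, 43, false), (0, 9, false), (1, 53, false), (2, 51, false), (3, 44, false), (4, 34, false), (3, 5, false), (1, 49, false), (2, 46, false), (0, 51, false), (1, 48, false), (2, 35, false), (2, 4, false), (0, 45, false), (1, 41, false), (0, 7, false), (1, 46, false), (2, 42, false), (0, 9, false), (1, 53, false), (2, 48, false), (3, 44, false), (4, 36, false), (1, 8, false), (2, 52, false), (3, 47, false), (4, 43, false), (5, 37, false), (2, 46, false), (3, 42, false), (4, 38, false), (2, 7, false), (3, 46, false), (4, 39, false), (5, 32, false), (1, 52, false), (2, 47, false), (0, 53, false), (1, 48, false), (2, 34, false), (2, 4, false), (1, 6, false), (2, 45, false), (3, 41, false), (0, 49, false), (1, 46, false), (2, 42, false), (0, 9, false),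 (1, 51, false), (2, 48, false), (3, 44, false), (4, 36, false), (1, 7, false), (2, 49, false), (3, 46, false), (4, 39, false), (5, 33, false), (6, 21, false), (1, 8, false), (2, 52, false), (3, 50, false), (4, 47, false), (5, 37, false), (5, 4, false), (2, 49, false), (3, 46, false), (4, 42, false), (5, 39, false), (6, 29, false), (1, 50, false), (2, 47, false), (3, 43, false), (0, 51, false), (1, 48, false), (2, 44, false), (3, 34, false), (0, 7, false), (1, 49, false), (0, 9, false), (1, 53, false), (2, 51, false), (3, 35, false), (3, 4, false), (2, 41, false), (1, 42, false), (0, 44, false), (1, 36, false), (0, 7, false), (1, 39, false), (2, 31, false), (3, 22, false), (0, 8, false), (1, 52, false), (0, 9, false), (1, 54, false), (2, 53, false), (3, 34, false), (3, 4, false), (3, 5, false), (4, 40, false), (2, 46, false), (3, 42, false), (0, 54, false), (1, 48, false), (2, 44, false), (3, 35, false), (1, 6, false), (2, 45, false), (1, 7, false), (2, 49, false), (3, 46, false), (0, 9, false), (1, 54, false), (2, 53, false), (3, 51, false), (4,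 48, false), (5, 36, false), (5, 4, false), (2, 49, false), (3, 46, false), (4, 42, false), (5, 39, false), (6, 31, false), (7, 24, false), (1, 50, false), (2, 47, false), (3, 43, false), (0, 51, false), (1, 48, false), (2, 44, false), (3, 34, false), (0, 7, false), (1, 49, false), (0, 9, false), (1, 53, false), (2, 51, false), (3, 35, false), (1, 49, false), (2, 38, false), (2, 4, false), (1, 7, false), (2, 49, false), (3, 42, false), (4, 39, false), (5, 28, false), (1, 8, false), (2, 52, false), (3, 50, false), (4, 43, false), (5, 37, false), (2, 49, false), (3, 39, false), (4, 29, false), (3, 4, false), (3, 5, false), (4, 40, false), (2, 7, false), (3, 49, false), (4, 46, false), (5, 42, false), (0, 54, false), (1, 53, false), (2, 51, false), (3, 48, false), (4, 44, false), (5, 35, false), (2, 45, false), (1, 46, false), (0, 9, false), (1, 54, false), (2, 48, false), (3, 36, false), (2, 7, false), (3, 46, false), (4, 38, false), (4, 4, false), (2, 46, false), (3, 42, false), (4, 39, false), (5, 30, false), (6, 26, false), (7, 18, false)], [(4,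 25, true), (3, 32, true), (2, 44, true), (1, 54, true), (0, 9, true), (1, 43, true), (0, 8, true), (0, 42, true), (1, 41, true), (2, 40, true), (3, 4, true), (4, 21, true), (3, 33, true), (2, 48, true), (1, 51, true), (0, 53, true), (3, 45, true), (2, 6, true), (4, 32, true), (3, 44, true), (2, 48, true), (1, 53, true), (0, 9, true), (2, 43, true), (1, 47, true), (0, 52, true), (3, 42, true), (2, 46, true), (1, 7, true), (2, 41, true), (1, 45, true), (3, 40, true), (2, 5, true), (2, 4, true), (2, 31, true), (1, 51, true), (0, 54, true), (2, 6, true), (4, 30, true), (3, 44, true), (2, 48, true), (1, 54, true), (0, 9, true), (2, 43, true), (1, 47, true), (0, 8, true), (1, 41, true), (0, 45, true), (2, 40, true), (1, 5, true), (2, 29, true), (1, 44, true), (0, 51, true), (2, 42, true), (1, 49, true), (5, 20, true), (4, 32, true), (3, 44, true), (2, 51, true), (1, 53, true), (0, 9, true), (2, 43, true), (1, 50, true), (0, 52, true), (3, 42, true), (2, 49, true), (1, 7, true), (2, 41, true), (1, 6, true), (1, 40, true), (2, 4, true), (2, 31, true),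 (1, 48, true), (0, 54, true), (2, 45, true), (3, 5, true), (4, 30, true), (3, 44, true), (2, 51, true), (1, 54, true), (0, 9, true), (2, 43, true), (1, 50, true), (0, 8, true), (1, 41, true), (0, 6, true), (0, 40, true), (2, 29, true), (1, 44, true), (0, 48, true), (2, 42, true), (1, 46, true), (4, 27, true), (3, 41, true), (2, 45, true), (4, 40, true), (3, 5, true), (6, 19, true), (5, 32, true), (4, 39, true), (3, 42, true), (2, 49, true), (1, 7, true), (2, 4, true), (2, 38, true), (1, 49, true), (3, 37, true), (2, 50, true), (1, 52, true), (4, 36, true), (3, 51, true), (2, 53, true), (1, 54, true), (0, 9, true), (2, 49, true), (1, 7, true), (1, 6, true), (2, 35, true), (1, 44, true), (0, 54, true), (2, 42, true), (3, 40, true), (4, 4, true), (4, 34, true), (3, 48, true), (2, 53, true), (1, 54, true), (0, 9, true), (2, 47, true), (1, 52, true), (0, 8, true), (3, 30, true), (2, 39, true), (1, 46, true), (0, 7, true), (2, 38, true), (1, 42, true), (0, 46, true), (3, 36, true), (2, 44, true), (1, 48, true), (0, 53, true), (3, 42, true), (2, 46, true),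 (1, 7, true), (2, 41, true), (1, 45, true), (3, 4, true), (3, 35, true), (2, 48, true), (1, 51, true), (0, 9, true), (1, 46, true), (0, 49, true), (2, 5, true), (4, 28, true), (3, 39, true), (2, 42, true), (1, 49, true), (0, 7, true), (1, 4, true), (1, 38, true), (0, 49, true), (2, 35, true), (1, 51, true), (0, 53, true), (2, 49, true), (1, 7, true), (4, 34, true), (3, 44, true), (2, 48, true), (1, 51, true), (0, 9, true), (2, 43, true), (1, 47, true), (0, 50, true), (5, 2, true), (4, 39, true), (3, 42, true), (2, 46, true), (1, 49, true), (4, 4, true), (4, 38, true), (3, 46, true), (2, 49, true), (1, 7, true), (3, 35, true), (2, 48, true), (1, 51, true), (0, 54, true), (3, 46, true), (2, 49, true), (4, 5, true), (6, 1, true), (5, 37, true), (4, 43, true), (3, 50, true), (2, 52, true), (1, 8, true), (3, 5, false), (1, 49, false), (2, 46, false), (0, 51, false), (1, 48, false), (2, 35, false), (0, 7, false), (1, 49, false), (2, 46, false), (3, 38, false), (3, 4, false), (0, 49, false), (1, 46, false), (2, 42, false), (3, 39, false), (4, 2, false),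 (0, 8, false), (1, 50, false), (2, 47, false), (3, 43, false), (0, 9, false), (1, 54, false), (2, 51, false), (3, 48, false), (4, 44, false), (5, 34, false), (2, 7, false), (3, 49, false), (0, 54, false), (1, 53, false), (2, 51, false), (3, 35, false), (1, 49, false), (2, 38, false), (2, 4, false), (1, 7, false), (2, 49, false), (3, 42, false), (4, 39, false), (5, 28, false), (3, 5, false), (1, 49, false), (2, 46, false), (0, 9, false), (1, 54, false), (2, 51, false), (3, 48, false), (4, 35, false), (4, 4, false), (2, 45, false), (3, 41, false), (2, 7, false), (3, 46, false), (4, 42, false), (0, 54, false), (1, 53, false), (2, 48, false), (3, 44, false), (4, 36, false), (1, 46, false), (2, 42, false), (3, 38, false), (1, 7, false), (2, 46, false), (3, 39, false), (4, 30, false), (0, 52, false), (1, 47, false), (0, 9, false), (1, 53, false), (2, 48, false), (3, 34, false), (3, 4, false), (2, 40, false), (1, 42, false), (0, 44, false), (1, 35, false), (0, 6, false), (0, 7, false), (1, 49, false), (0, 9, false), (1, 53, false), (2, 51, false), (3,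 36, false), (1, 8, false), (2, 52, false), (3, 50, false), (4, 37, false), (2, 49, false), (3, 38, false), (3, 4, false), (2, 7, false), (3, 49, false), (4, 42, false), (5, 39, false), (6, 32, false), (7, 10, false), (1, 52, false), (2, 50, false), (3, 43, false), (0, 53, false), (1, 51, false), (2, 44, false), (3, 34, false), (2, 5, false), (0, 49, false), (1, 46, false), (0, 9, false), (1, 51, false), (2, 48, false), (3, 35, false), (3, 4, false), (1, 45, false), (2, 41, false), (1, 7, false), (2, 46, false), (3, 42, false), (0, 53, false), (1, 48, false), (2, 44, false), (3, 36, false), (0, 46, false), (1, 39, false), (2, 31, false), (3, 1, false), (4, 11, false), (0, 8, false), (1, 47, false), (2, 37, false), (2, 4, false), (1, 7, false), (2, 46, false), (3, 42, false), (4, 39, false), (5, 29, false), (0, 52, false), (1, 47, false), (2, 43, false), (0, 9, false), (1, 53, false), (2, 48, false), (3, 44, false), (4, 34, false), (0, 35, false), (0, 4, false), (0, 6, false), (1, 41, false), (0, 7, false), (1, 49, false), (2, 42, false), (0, 9,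 false), (1, 53, false), (2, 51, false), (3, 44, false), (4, 36, false), (1, 49, false), (2, 39, false), (3, 31, false), (4, 22, false), (1, 8, false), (2, 50, false), (0, 54, false), (1, 51, false), (2, 34, false), (2, 4, false), (2, 5, false), (3, 40, false), (1, 7, false), (2, 49, false), (3, 46, false), (4, 42, false), (0, 9, false), (1, 54, false), (2, 53, false), (3, 51, false), (4, 48, false), (5, 44, false), (6, 35, false), (3, 45, false), (2, 46, false), (0, 54, false), (1, 48, false), (2, 36, false), (0, 47, false), (1, 37, false), (0, 7, false), (1, 46, false), (2, 38, false), (2, 4, false), (0, 46, false), (1, 42, false), (2, 39, false), (3, 32, false), (4, 25, false), (5, 13, false), (0, 8, false), (1, 47, false), (2, 43, false), (3, 37, false), (1, 7, false), (2, 46, false), (3, 39, false), (4, 29, false), (0, 52, false), (1, 47, false), (0, 9, false), (1, 53, false), (2, 48, false), (3, 34, false), (3, 4, false), (2, 40, false), (1, 42, false), (0, 44, false), (1, 35, false), (0, 6, false), (0, 7, false), (1, 49, false), (0, 9, false),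 (1, 53, false), (2, 51, false), (3, 36, false), (3, 4, false), (1, 49, false), (2, 42, false), (3, 39, false), (4, 31, false), (5, 22, false), (1, 8, false), (2, 50, false), (3, 43, false), (0, 54, false), (1, 51, false), (2, 44, false), (3, 34, false), (2, 5, false), (1, 7, false), (2, 49, false), (3, 46, false), (0, 9, false), (1, 54, false), (2, 53, false), (3, 51, false), (4, 48, false), (5, 35, false), (5, 4, false), (3, 45, false), (4, 41, false), (2, 46, false), (3, 42, false), (0, 54, false), (1, 48, false), (2, 44, false), (3, 36, false), (1, 7, false), (2, 46, false), (3, 39, false), (4, 31, false), (5, 24, false), (0, 52, false), (1, 47, false), (0, 9, false), (1, 53, false), (2, 48, false), (3, 34, false), (3, 4, false), (2, 40, false), (1, 42, false), (0, 44, false), (1, 35, false), (0, 7, false), (1, 42, false), (2, 38, false), (0, 39, false), (1, 28, false), (0, 8, false), (1, 37, false), (1, 4, false), (1, 7, false), (2, 42, false), (3, 39, false), (4, 29, false), (2, 5, false), (1, 46, false), (0, 9, false), (1, 54, false), (2,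 48, false), (3, 35, false), (3, 4, false), (2, 6, false), (3, 45, false), (4, 41, false), (2, 7, false), (3, 49, false), (4, 46, false), (5, 42, false), (0, 54, false), (1, 53, false), (2, 51, false), (3, 48, false), (4, 44, false), (5, 36, false), (1, 49, false), (2, 46, false), (3, 42, false), (4, 38, false), (1, 7, false), (2, 49, false), (3, 46, false), (4, 39, false), (5, 30, false), (6, 26, false), (7, 17, false), (0, 52, false), (1, 50, false), (2, 47, false), (3, 37, false), (3, 4, false), (0, 49, false), (1, 46, false), (2, 42, false), (3, 39, false), (4, 29, false), (0, 7, false), (1, 49, false), (0, 9, false), (1, 53, false), (2, 51, false), (3, 35, false), (3, 4, false), (2, 41, false), (1, 42, false), (0, 44, false), (1, 36, false), (0, 7, false), (1, 42, false), (2, 38, false), (0, 39, false), (1, 30, false), (0, 8, false), (0, 9, false), (1, 54, false), (2, 34, false), (2, 4, false), (2, 5, false), (3, 40, false), (2, 7, false), (3, 46, false), (4, 42, false), (0, 54, false), (1, 53, false), (2, 48, false), (3, 44, false), (4, 35,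 false), (2, 6, false), (3, 45, false), (1, 49, false), (2, 46, false), (0, 9, false), (1, 54, false), (2, 51, false), (3, 48, false), (4, 36, false), (4, 4, false), (2, 7, false), (3, 49, false), (4, 46, false), (5, 42, false), (6, 39, false), (7, 31, false), (1, 52, false), (2, 50, false), (3, 47, false), (4, 43, false), (0, 53, false), (1, 51, false), (2, 48, false), (3, 44, false), (4, 34, false), (0, 49, false), (0, 9, false), (1, 51, false), (2, 35, false), (2, 4, false), (1, 41, false), (1, 7, false), (2, 42, false), (0, 53, false), (1, 44, false), (2, 36, false), (0, 8, false), (1, 52, false), (2, 43, false), (3, 37, false), (1, 42, false), (2, 38, false), (1, 7, false), (2, 39, false), (3, 32, false), (0, 52, false), (0, 9, false), (1, 53, false), (2, 34, false), (2, 4, false), (2, 6, false), (3, 41, false), (1, 49, false), (2, 42, false), (0, 51, false), (1, 44, false), (2, 36, false), (0, 7, false), (1, 49, false), (2, 39, false), (3, 33, false), (4, 21, false), (0, 8, false), (1, 52, false), (2, 50, false), (3, 37, false), (3, 4, false),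 (1, 49, false), (2, 42, false), (3, 39, false), (4, 29, false), (0, 50, false), (1, 43, false), (0, 9, false), (1, 51, false), (2, 44, false), (3, 34, false), (2, 5, false), (1, 7, false), (2, 49, false), (3, 46, false), (0, 53, false), (1, 51, false), (2, 48, false), (3, 35, false), (3, 4, false), (1, 45, false), (2, 41, false), (0, 46, false), (1, 42, false), (0, 9, false), (1, 48, false), (2, 44, false), (3, 36, false), (1, 7, false), (2, 46, false), (3, 39, false), (4, 31, false), (5, 22, false), (1, 8, false), (2, 52, false), (3, 47, false), (0, 54, false), (1, 53, false), (2, 48, false), (3, 34, false), (3, 4, false), (2, 40, false), (1, 42, false), (0, 9, false), (1, 54, false), (2, 44, false), (3, 35, false), (2, 6, false), (2, 7, false), (3, 49, false), (0, 54, false), (1, 53, false), (2, 51, false), (3, 36, false), (3, 4, false), (1, 49, false), (2, 42, false), (3, 39, false), (4, 31, false), (5, 24, false), (0, 50, false), (1, 43, false), (0, 9, false), (1, 51, false), (2, 44, false), (3, 34, false), (2, 5, false), (1, 7, false), (2,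 49, false), (3, 46, false), (0, 53, false), (1, 51, false), (2, 48, false), (3, 35, false), (0, 49, false), (1, 46, false), (2, 38, false), (2, 4, false), (0, 7, false), (1, 49, false), (2, 46, false), (3, 42, false), (4, 39, false), (5, 28, false), (0, 8, false), (1, 52, false), (2, 50, false), (3, 47, false), (4, 43, false), (5, 37, false), (1, 49, false), (2, 46, false), (3, 39, false), (4, 29, false), (3, 4, false), (2, 40, false), (1, 7, false), (2, 49, false), (3, 42, false), (0, 9, false), (1, 54, false), (2, 53, false), (3, 51, false), (4, 44, false), (5, 35, false), (0, 54, false), (1, 36, false), (1, 7, false), (2, 38, false), (2, 4, false), (1, 42, false), (2, 39, false), (3, 30, false), (4, 26, false), (5, 18, false)]),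
    ([1, 2], [2, 1], [(0, 44, true), (1, 43, true), (2, 40, true), (3, 4, true), (1, 47, false), (2, 37, false), (2, 4, false), (1, 7, false), (2, 46, false), (3, 42, false), (4, 39, false), (5, 29, false), (1, 8, false), (2, 52, false), (3, 47, false), (4, 43, false), (0, 54, false), (1, 53, false), (2, 48, false), (3, 44, false), (4, 34, false), (0, 9, false), (1, 54, false), (2, 35, false), (2, 4, false), (2, 6, false), (3, 41, false), (2, 7, false), (3, 49, false), (4, 42, false), (0, 54, false), (1, 53, false), (2, 51, false), (3, 44, false), (4, 36, false), (1, 49, false), (2, 39, false), (3, 31, false), (4, 22, false), (0, 50, false), (0, 9, false), (1, 51, false), (2, 34, false), (2, 4, false), (2, 5, false), (3, 40, false), (1, 7, false), (2, 49, false), (3, 46, false), (4, 42, false), (0, 53, false), (1, 51, false), (2, 48, false), (3, 44, false), (4, 35, false), (1, 45, false), (0, 46, false), (0, 9, false), (1, 48, false), (2, 36, false), (1, 8, false), (2, 47, false), (3, 37, false), (2, 7, false), (3, 46, false), (4, 38, false), (4,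 4, false), (2, 46, false), (3, 42, false), (4, 39, false), (5, 32, false), (6, 25, false), (7, 13, false)], [(4, 17, true), (3, 33, true), (2, 44, true), (1, 48, true), (0, 53, true), (3, 41, true), (2, 45, true), (4, 4, true), (4, 31, true), (3, 48, true), (2, 51, true), (1, 53, true), (0, 9, true), (2, 45, true), (1, 6, true), (1, 5, true), (2, 29, true), (1, 44, true), (0, 53, true), (2, 42, true), (1, 7, true), (3, 13, true), (2, 32, true), (1, 44, true), (0, 9, true), (0, 43, true), (1, 42, true), (2, 41, true), (3, 40, true), (4, 4, true), (4, 29, true), (3, 48, true), (2, 51, true), (1, 53, true), (0, 54, true), (4, 46, true), (3, 49, true), (2, 7, true), (5, 12, true), (4, 33, true), (3, 48, true), (2, 51, true), (1, 54, true), (0, 9, true), (2, 45, true), (1, 6, true), (3, 32, true), (2, 44, true), (1, 48, true), (0, 54, true), (3, 43, true), (2, 47, true), (1, 8, true), (2, 42, true), (1, 46, true), (3, 41, true), (2, 45, true), (4, 40, true), (3, 5, true), (3, 4, true), (3, 30, true), (2, 51, true), (1, 53, true), (0, 9, true), (1, 50,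 true), (0, 52, true), (2, 6, true), (3, 29, true), (2, 48, true), (1, 53, true), (0, 54, true), (3, 46, true), (2, 7, true), (3, 28, true), (2, 48, true), (1, 54, true), (0, 9, true), (1, 47, true), (0, 8, true), (0, 5, true), (1, 27, true), (0, 41, true), (1, 40, true), (4, 2, true), (3, 39, true), (2, 42, true), (1, 46, true), (0, 49, true), (3, 4, true), (3, 38, true), (2, 46, true), (1, 49, true), (0, 7, true), (2, 35, true), (1, 48, true), (0, 51, true), (2, 46, true), (1, 49, true), (3, 5, true), (6, 11, true), (5, 1, true), (4, 37, true), (3, 43, true), (2, 50, true), (1, 52, true), (6, 10, true), (5, 38, true), (4, 42, true), (3, 49, true), (2, 7, true), (4, 36, true), (3, 44, true), (2, 51, true), (1, 54, true), (0, 9, true), (2, 42, true), (1, 49, true), (3, 41, true), (2, 6, true), (2, 4, true), (2, 34, true), (1, 53, true), (0, 54, true), (2, 52, true), (1, 8, true), (4, 0, true), (3, 32, true), (2, 39, true), (1, 7, true), (2, 38, true), (1, 42, true), (3, 37, true), (2, 43, true), (1, 52, true), (4, 36, true), (3, 44, true), (2, 53,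 true), (1, 54, true), (0, 9, true), (2, 42, true), (1, 7, true), (1, 41, true), (2, 4, true), (2, 35, true), (1, 51, true), (0, 54, true), (2, 49, true), (6, 34, true), (5, 44, true), (4, 48, true), (3, 51, true), (2, 53, true), (1, 54, true), (0, 9, true), (4, 43, true), (3, 47, true), (2, 50, true), (1, 52, true), (0, 8, true), (5, 30, true), (4, 39, true), (3, 42, true), (2, 46, true), (1, 49, true), (0, 7, true), (2, 4, true), (2, 38, true), (1, 46, true), (0, 49, true), (3, 36, true), (2, 48, true), (1, 51, true), (0, 53, true), (3, 46, true), (2, 49, true), (1, 7, true), (2, 45, true), (1, 6, true), (3, 35, true), (2, 44, true), (1, 48, true), (0, 9, true), (1, 42, true), (0, 46, true), (2, 40, true), (1, 5, true), (1, 4, true), (2, 28, true), (1, 39, true), (0, 7, true), (1, 38, true), (0, 42, true), (2, 35, true), (1, 44, true), (0, 53, true), (2, 42, true), (1, 7, true), (1, 40, true), (2, 4, true), (2, 34, true), (1, 48, true), (0, 9, true), (0, 47, true), (3, 2, true), (2, 39, true), (1, 46, true), (4, 38, true), (3, 42, true), (2, 46,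 true), (1, 7, true), (3, 35, true), (2, 44, true), (1, 48, true), (0, 54, true), (3, 42, true), (2, 46, true), (4, 40, true), (3, 5, true), (3, 4, true), (3, 4, false), (3, 5, false), (4, 40, false), (2, 46, false), (3, 42, false), (0, 54, false), (1, 48, false), (2, 44, false), (3, 35, false), (1, 7, false), (2, 46, false), (3, 42, false), (4, 38, false), (1, 46, false), (2, 39, false), (3, 2, false), (0, 47, false), (0, 9, false), (1, 48, false), (2, 34, false), (2, 4, false), (1, 40, false), (1, 7, false), (2, 42, false), (0, 53, false), (1, 44, false), (2, 35, false), (0, 42, false), (1, 38, false), (0, 7, false), (1, 39, false), (2, 28, false), (1, 4, false), (1, 5, false), (2, 40, false), (0, 46, false), (1, 42, false), (0, 9, false), (1, 48, false), (2, 44, false), (3, 35, false), (1, 6, false), (2, 45, false), (1, 7, false), (2, 49, false), (3, 46, false), (0, 53, false), (1, 51, false), (2, 48, false), (3, 36, false), (0, 49, false), (1, 46, false), (2, 38, false), (2, 4, false), (0, 7, false), (1, 49, false), (2, 46, false), (3, 42, false),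 (4, 39, false), (5, 30, false), (0, 8, false), (1, 52, false), (2, 50, false), (3, 47, false), (4, 43, false), (0, 9, false), (1, 54, false), (2, 53, false), (3, 51, false), (4, 48, false), (5, 44, false), (6, 34, false), (2, 49, false), (0, 54, false), (1, 51, false), (2, 35, false), (2, 4, false), (1, 41, false), (1, 7, false), (2, 42, false), (0, 9, false), (1, 54, false), (2, 53, false), (3, 44, false), (4, 36, false), (1, 52, false), (2, 43, false), (3, 37, false), (1, 42, false), (2, 38, false), (1, 7, false), (2, 39, false), (3, 32, false), (4, 0, false), (1, 8, false), (2, 52, false), (0, 54, false), (1, 53, false), (2, 34, false), (2, 4, false), (2, 5, false), (3, 40, false), (1, 46, false), (2, 42, false), (0, 9, false), (1, 54, false), (2, 48, false), (3, 44, false), (4, 35, false), (2, 6, false), (3, 45, false), (2, 7, false), (3, 49, false), (4, 46, false), (0, 54, false), (1, 53, false), (2, 51, false), (3, 48, false), (4, 36, false), (4, 4, false), (1, 49, false), (2, 46, false), (3, 42, false), (4, 39, false), (5, 31, false), (6,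 1, false), (7, 11, false), (0, 50, false), (1, 47, false), (2, 43, false), (3, 37, false), (0, 7, false), (1, 49, false), (2, 46, false), (3, 39, false), (4, 29, false), (0, 8, false), (1, 52, false), (2, 50, false), (3, 47, false), (0, 9, false), (1, 54, false), (2, 53, false), (3, 51, false), (4, 48, false), (5, 34, false), (5, 4, false), (4, 40, false), (2, 49, false), (3, 42, false), (0, 54, false), (1, 51, false), (2, 44, false), (3, 35, false), (1, 7, false), (0, 9, false), (1, 54, false), (2, 53, false), (3, 36, false), (3, 4, false), (2, 42, false), (3, 39, false), (4, 31, false), (5, 22, false), (1, 43, false), (0, 44, false), (1, 34, false), (0, 5, false), (0, 7, false), (1, 46, false), (0, 9, false), (1, 53, false), (2, 48, false), (3, 35, false), (3, 4, false), (2, 6, false), (3, 45, false), (4, 41, false), (1, 49, false), (2, 46, false), (3, 42, false), (0, 51, false), (1, 48, false), (2, 44, false), (3, 36, false), (0, 8, false), (1, 50, false), (2, 47, false), (3, 43, false), (4, 37, false), (1, 7, false), (2, 49, false), (3, 46,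 false), (4, 42, false), (5, 38, false), (1, 49, false), (2, 46, false), (3, 39, false), (4, 32, false), (5, 25, false), (6, 13, false), (0, 50, false), (1, 47, false), (2, 37, false), (2, 4, false), (0, 7, false), (1, 49, false), (2, 46, false), (3, 42, false), (4, 39, false), (5, 29, false), (0, 49, false), (0, 9, false), (1, 51, false), (2, 35, false), (2, 4, false), (1, 41, false), (1, 7, false), (2, 42, false), (0, 53, false), (1, 44, false), (2, 36, false), (0, 42, false), (1, 38, false), (0, 7, false), (1, 39, false), (2, 30, false), (0, 8, false), (1, 52, false), (0, 9, false), (1, 54, false), (2, 53, false), (3, 34, false), (3, 4, false), (3, 5, false), (4, 40, false), (2, 46, false), (3, 42, false), (0, 54, false), (1, 48, false), (2, 44, false), (3, 35, false), (1, 6, false), (2, 45, false), (1, 7, false), (2, 49, false), (3, 46, false), (0, 9, false), (1, 54, false), (2, 53, false), (3, 51, false), (4, 48, false), (5, 36, false), (5, 4, false), (2, 49, false), (3, 46, false), (4, 42, false), (5, 39, false), (6, 31, false), (1, 50, false),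 (2, 47, false), (3, 43, false), (0, 51, false), (1, 48, false), (2, 44, false), (3, 34, false), (0, 7, false), (1, 49, false), (0, 9, false), (1, 53, false), (2, 51, false), (3, 35, false), (3, 4, false), (2, 41, false), (1, 42, false), (0, 44, false), (1, 36, false), (0, 8, false), (1, 43, false), (2, 37, false), (1, 7, false), (2, 42, false), (3, 38, false), (1, 39, false), (2, 32, false), (0, 9, false), (1, 34, false), (1, 4, false), (1, 6, false), (2, 41, false), (1, 7, false), (2, 49, false), (3, 42, false), (0, 53, false), (1, 51, false), (2, 44, false), (3, 36, false), (0, 49, false), (1, 39, false), (2, 33, false), (3, 21, false), (0, 8, false), (1, 50, false), (0, 9, false), (1, 54, false), (2, 51, false), (3, 34, false), (3, 4, false), (3, 5, false), (4, 40, false), (2, 7, false), (3, 49, false), (4, 46, false), (5, 42, false), (0, 54, false), (1, 53, false), (2, 51, false), (3, 48, false), (4, 44, false), (5, 35, false), (2, 45, false), (1, 46, false), (0, 9, false), (1, 54, false), (2, 48, false), (3, 36, false), (3, 4, false), (2,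 7, false), (3, 46, false), (4, 42, false), (5, 39, false), (6, 31, false), (7, 24, false), (8, 14, false), (1, 52, false), (2, 47, false), (3, 43, false), (4, 37, false), (1, 46, false), (2, 39, false), (3, 29, false), (2, 4, false), (1, 40, false), (1, 7, false), (2, 42, false), (0, 53, false), (1, 44, false), (2, 35, false), (1, 6, false), (0, 49, false), (0, 9, false), (1, 51, false), (2, 36, false), (1, 7, false), (2, 49, false), (3, 38, false), (3, 4, false), (1, 49, false), (2, 42, false), (3, 39, false), (4, 30, false), (1, 8, false), (2, 50, false), (3, 43, false), (0, 54, false), (1, 51, false), (2, 44, false), (3, 34, false), (2, 5, false), (1, 7, false), (2, 49, false), (3, 46, false), (0, 9, false), (1, 54, false), (2, 53, false), (3, 51, false), (4, 48, false), (5, 35, false), (5, 4, false), (3, 45, false), (4, 41, false), (2, 46, false), (3, 42, false), (0, 54, false), (1, 48, false), (2, 44, false), (3, 36, false), (1, 7, false), (2, 46, false), (3, 39, false), (4, 31, false), (0, 52, false), (1, 47, false), (0, 9, false), (1, 53,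 false), (2, 48, false), (3, 34, false), (3, 4, false), (2, 40, false), (1, 42, false), (0, 44, false), (1, 35, false), (0, 6, false), (0, 7, false), (1, 49, false), (0, 9, false), (1, 53, false), (2, 51, false), (3, 36, false), (1, 8, false), (2, 52, false), (3, 50, false), (4, 37, false), (2, 49, false), (3, 38, false), (3, 4, false), (2, 7, false), (3, 49, false), (4, 42, false), (5, 39, false), (6, 32, false), (1, 52, false), (2, 50, false), (3, 43, false), (0, 53, false), (1, 51, false), (2, 44, false), (3, 34, false), (0, 9, false), (1, 36, false), (1, 4, false), (1, 7, false), (2, 42, false), (3, 39, false), (4, 33, false), (5, 21, false), (2, 5, false), (1, 46, false), (0, 48, false), (1, 35, false), (1, 4, false), (0, 6, false), (1, 45, false), (2, 41, false), (0, 7, false), (1, 49, false), (2, 46, false), (3, 42, false), (0, 9, false), (1, 53, false), (2, 51, false), (3, 48, false), (4, 44, false), (5, 36, false), (1, 49, false), (2, 46, false), (3, 42, false), (4, 38, false), (1, 7, false), (2, 49, false), (3, 46, false), (4, 39, false),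 (5, 30, false), (1, 8, false), (2, 52, false), (3, 50, false), (4, 47, false), (0, 54, false), (1, 53, false), (2, 51, false), (3, 48, false), (4, 34, false), (4, 4, false), (3, 40, false), (1, 49, false), (2, 42, false), (0, 9, false), (1, 54, false), (2, 51, false), (3, 44, false), (4, 35, false), (2, 7, false), (0, 54, false), (1, 53, false), (2, 36, false), (0, 52, false), (1, 37, false), (0, 38, false), (0, 4, false), (0, 7, false), (1, 42, false), (2, 39, false), (3, 32, false), (4, 23, false), (0, 8, false), (1, 52, false), (2, 43, false), (0, 9, false), (1, 54, false), (2, 53, false), (3, 44, false), (4, 34, false), (3, 5, false), (2, 46, false), (0, 54, false), (1, 48, false), (2, 35, false), (2, 4, false), (1, 6, false), (2, 45, false), (3, 41, false), (1, 7, false), (2, 49, false), (3, 46, false), (4, 42, false), (0, 9, false), (1, 54, false), (2, 53, false), (3, 51, false), (4, 48, false), (5, 44, false), (6, 36, false), (2, 49, false), (3, 46, false), (4, 39, false), (5, 31, false), (6, 24, false), (1, 50, false), (2, 47, false), (0,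 51, false), (1, 48, false), (2, 34, false), (2, 4, false), (1, 40, false), (0, 7, false), (1, 49, false), (2, 42, false), (0, 9, false), (1, 53, false), (2, 51, false), (3, 44, false), (4, 35, false), (0, 36, false), (0, 8, false), (1, 37, false), (1, 7, false), (2, 38, false), (2, 4, false), (1, 42, false), (2, 39, false), (3, 32, false), (4, 25, false), (5, 16, false)])]

/-- A conjugation. -/
def twoM24Fus1 : Schur.Tails.Fus where
  xs := [[9, 8, 7, 6, 3, 0]]
  ys := [[9, 8, 7, 6, 3, 2, 1]]
  rels := [
    ([0, 0], [], [(5, 18, true), (4, 39, true), (3, 49, true), (2, 7, true), (4, 37, true), (3, 43, true), (2, 50, true), (1, 8, true), (3, 35, true), (2, 44, true), (1, 51, true), (0, 9, true), (1, 42, true), (0, 49, true), (2, 40, true), (3, 4, true), (3, 34, true), (2, 48, true), (1, 51, true), (0, 53, true), (3, 47, true), (2, 50, true), (1, 52, true), (6, 17, true), (5, 39, true), (4, 46, true), (3, 49, true), (2, 7, true), (5, 37, true), (4, 43, true), (3, 47, true), (2, 50, true), (1, 8, true), (4, 35, true), (3, 44, true), (2, 48, true),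 (1, 51, true), (0, 9, true), (2, 42, true), (1, 46, true), (0, 49, true), (3, 40, true), (2, 5, true), (2, 4, true), (3, 16, true), (2, 38, true), (1, 49, true), (0, 7, true), (1, 37, true), (0, 50, true), (2, 36, true), (1, 51, true), (0, 54, true), (2, 49, true), (3, 6, true), (4, 34, true), (3, 44, true), (2, 53, true), (1, 54, true), (0, 9, true), (2, 43, true), (1, 52, true), (0, 8, true), (3, 15, true), (2, 35, true), (1, 44, true), (0, 53, true), (2, 42, true), (1, 7, true), (1, 40, true), (2, 4, true), (3, 12, true), (2, 39, true), (1, 46, true), (4, 38, true), (3, 42, true), (2, 46, true), (1, 7, true), (3, 36, true), (2, 44, true), (1, 48, true), (0, 9, true), (1, 42, true), (0, 46, true), (2, 41, true), (1, 45, true), (3, 4, true), (3, 35, true), (2, 48, true), (1, 51, true), (0, 53, true), (3, 46, true), (2, 49, true), (1, 7, true), (2, 5, true), (3, 34, true), (2, 44, true), (1, 51, true), (0, 9, true), (1, 43, true), (0, 50, true), (3, 3, true), (5, 0, true), (4, 25, true), (3, 32, true), (2, 44, true), (1, 51, true), (0, 54, true),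 (3, 43, true), (2, 50, true), (1, 8, true), (2, 42, true), (1, 49, true), (3, 41, true), (2, 6, true), (2, 40, true), (3, 4, true), (4, 23, true), (3, 32, true), (2, 48, true), (1, 53, true), (0, 9, true), (1, 47, true), (0, 52, true), (2, 46, true), (1, 7, true), (1, 45, true), (2, 5, true), (3, 30, true), (2, 44, true), (1, 51, true), (0, 54, true), (3, 43, true), (2, 50, true), (1, 8, true), (2, 41, true), (1, 6, true), (1, 40, true), (4, 21, true), (3, 33, true), (2, 44, true), (1, 48, true), (0, 9, true), (1, 41, true), (0, 45, true), (2, 4, true), (2, 32, true), (1, 48, true), (0, 51, true), (2, 47, true), (1, 50, true), (3, 46, true), (2, 49, true), (4, 45, true), (3, 6, true), (3, 5, true), (4, 31, true), (3, 44, true), (2, 53, true), (1, 54, true), (0, 9, true), (2, 41, true), (3, 40, true), (4, 4, true), (4, 30, true), (3, 48, true), (2, 51, true), (1, 53, true), (0, 54, true), (4, 47, true), (3, 50, true), (2, 52, true), (1, 8, true), (3, 45, true), (2, 6, true), (2, 5, true), (2, 29, true), (1, 53, true), (0, 9, true), (0, 7, true),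 (1, 19, true), (0, 32, true), (6, 30, true), (5, 44, true), (4, 48, true), (3, 51, true), (2, 53, true), (1, 54, true), (0, 9, true), (4, 43, true), (3, 47, true), (2, 50, true), (1, 52, true), (0, 8, true), (3, 41, true), (2, 45, true), (1, 6, true), (2, 40, true), (1, 5, true), (2, 28, true), (1, 44, true), (0, 53, true), (2, 43, true), (1, 52, true), (3, 40, true), (4, 4, true), (4, 2, true), (3, 48, true), (2, 53, true), (1, 54, true), (0, 9, true), (2, 47, true), (1, 52, true), (0, 8, true), (1, 5, true), (1, 1, true), (0, 7, true)], [(6, 26, true), (5, 30, true), (4, 39, true), (3, 49, true), (2, 7, true), (4, 38, true), (3, 42, true), (2, 49, true), (5, 36, true), (4, 44, true), (3, 51, true), (2, 53, true), (1, 54, true), (0, 9, true), (3, 42, true), (2, 49, true), (1, 7, true), (2, 41, true), (1, 6, true), (1, 4, true), (1, 35, true), (0, 54, true), (6, 29, true), (5, 39, true), (4, 42, true), (3, 46, true), (2, 7, true), (3, 4, true), (3, 37, true), (2, 47, true), (1, 8, true), (3, 28, true), (2, 39, true), (1, 46, true), (4, 38, true),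 (3, 42, true), (2, 46, true), (1, 7, true), (3, 35, true), (2, 44, true), (1, 48, true), (0, 9, true), (1, 42, true), (0, 46, true), (2, 40, true), (1, 5, true), (1, 4, true), (1, 34, true), (0, 53, true), (1, 52, true), (5, 25, true), (4, 32, true), (3, 39, true), (2, 7, true), (3, 38, true), (2, 42, true), (4, 37, true), (3, 43, true), (2, 52, true), (1, 8, true), (3, 36, true), (2, 44, true), (1, 53, true), (0, 9, true), (1, 42, true), (0, 7, true), (0, 41, true), (1, 4, true), (1, 35, true), (0, 51, true), (1, 49, true), (5, 34, true), (4, 44, true), (3, 48, true), (2, 51, true), (1, 53, true), (0, 9, true), (3, 43, true), (2, 47, true), (1, 50, true), (0, 52, true), (7, 24, true), (6, 31, true), (5, 39, true), (4, 42, true), (3, 46, true), (2, 49, true), (1, 7, true), (3, 4, true), (3, 36, true), (2, 48, true), (1, 51, true), (0, 54, true), (3, 46, true), (2, 49, true), (4, 45, true), (3, 6, true), (5, 35, true), (4, 44, true), (3, 48, true), (2, 53, true), (1, 54, true), (0, 9, true), (3, 42, true), (2, 46, true), (1, 7, true), (2, 40, true),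 (1, 5, true), (1, 4, true), (1, 34, true), (0, 54, true), (1, 8, true), (3, 23, true), (2, 32, true), (1, 39, true), (3, 38, true), (2, 42, true), (1, 7, true), (2, 37, true), (1, 43, true), (3, 36, true), (2, 44, true), (1, 54, true), (0, 9, true), (1, 42, true), (2, 41, true), (3, 4, true), (3, 35, true), (2, 51, true), (1, 53, true), (0, 54, true), (3, 49, true), (2, 7, true), (5, 34, true), (4, 44, true), (3, 48, true), (2, 51, true), (1, 54, true), (0, 9, true), (3, 43, true), (2, 47, true), (1, 50, true), (0, 8, true), (4, 30, true), (3, 39, true), (2, 42, true), (1, 46, true), (0, 49, true), (3, 4, true), (3, 38, true), (2, 46, true), (1, 49, true), (0, 7, true), (2, 36, true), (1, 48, true), (0, 51, true), (2, 46, true), (1, 49, true), (3, 45, true), (2, 6, true), (4, 35, true), (3, 44, true), (2, 48, true), (1, 53, true), (0, 9, true), (2, 42, true), (1, 46, true), (0, 7, true), (1, 40, true), (0, 5, true), (0, 4, true), (2, 20, true), (1, 32, true), (0, 39, true), (2, 38, true), (1, 42, true), (0, 7, true), (1, 37, true), (0, 43, true),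 (2, 36, true), (1, 44, true), (0, 54, true), (2, 42, true), (3, 41, true), (4, 4, true), (4, 35, true), (3, 51, true), (2, 53, true), (1, 54, true), (0, 9, true), (2, 49, true), (1, 7, true), (4, 34, true), (3, 44, true), (2, 48, true), (1, 51, true), (0, 54, true), (4, 43, true), (3, 47, true), (2, 50, true), (1, 8, true), (5, 31, true), (4, 39, true), (3, 42, true), (2, 46, true), (1, 49, true), (4, 4, true), (4, 36, true), (3, 48, true), (2, 51, true), (1, 53, true), (0, 9, true), (2, 46, true), (1, 49, true), (0, 7, true), (1, 45, true), (0, 6, true), (2, 35, true), (1, 44, true), (0, 48, true), (2, 42, true), (1, 46, true), (3, 40, true), (2, 5, true), (2, 4, true), (2, 34, true), (1, 53, true), (0, 9, true), (0, 52, true), (3, 30, true), (2, 39, true), (1, 7, true), (2, 38, true), (1, 42, true), (3, 36, true), (2, 44, true), (1, 53, true), (0, 54, true), (3, 42, true), (2, 7, true), (2, 41, true), (3, 4, true), (3, 35, true), (2, 51, true), (1, 54, true), (0, 9, true), (1, 49, true), (6, 29, true), (5, 39, true), (4, 42, true), (3, 46, true),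 (2, 49, true), (1, 7, true), (3, 4, true), (3, 37, true), (2, 47, true), (1, 50, true), (0, 8, true), (3, 27, true), (2, 36, true), (1, 48, true), (0, 51, true), (2, 46, true), (1, 49, true), (3, 45, true), (2, 6, true), (4, 35, true), (3, 44, true), (2, 48, true), (1, 53, true), (0, 9, true), (2, 42, true), (1, 46, true), (0, 7, true), (1, 40, true), (0, 5, true), (0, 4, true), (0, 3, true), (1, 19, true), (0, 32, true), (6, 30, true), (5, 44, true), (4, 48, true), (3, 51, true), (2, 53, true), (1, 54, true), (0, 9, true), (4, 43, true), (3, 47, true), (2, 50, true), (1, 52, true), (0, 8, true), (3, 41, true), (2, 45, true), (1, 6, true), (2, 40, true), (1, 5, true), (2, 28, true), (1, 44, true), (0, 53, true), (2, 43, true), (1, 52, true), (3, 40, true), (4, 4, true), (4, 2, true), (3, 48, true), (2, 53, true), (1, 54, true), (0, 9, true), (2, 47, true), (1, 52, true), (0, 8, true), (1, 5, true), (1, 1, true), (0, 7, true)])]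

/-- A conjugation. -/
def twoM24Fus2 : Schur.Tails.Fus where
  xs := [[8, 7, 6, 4, 3, 0], [8, 5], [9, 5], [7, 6, 5], [9, 8, 7, 6, 4]]
  ys := [[3], [8, 6, 4, 3, 2, 1], [3, 2, 1], [8, 5, 4, 2, 1], [8, 7, 2, 1]]
  rels := [
    ([1, 1], [], [(1, 47, true), (0, 8, true), (0, 5, true)], [(5, 25, true), (4, 32, true), (3, 39, true), (2, 42, true), (1, 49, true), (3, 4, true), (3, 38, true), (2, 49, true), (1, 7, true), (2, 37, true), (1, 50, true), (0, 8, true), (1, 36, true), (0, 51, true), (1, 49, true), (2, 6, true), (3, 35, true), (2, 44, true), (1, 53, true), (0, 9, true), (1, 42, true), (0, 7, true), (0, 40, true), (1, 4, true), (1, 34, true), (0, 48, true), (1, 47, true), (5, 23, true), (4, 32, true), (3, 39, true), (2, 46, true), (5, 38, true), (4, 42, true), (3, 46, true), (2, 7, true), (4, 37, true), (3, 43, true), (2, 47, true), (1, 8, true), (3, 36, true), (2, 44, true), (1, 48, true), (0, 9, true), (1, 42, true), (0, 46, true), (2, 41, true), (1, 45, true), (3, 4, true), (3, 35, true), (2, 48, true), (1, 51, true), (0, 53, true), (3, 46,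 true), (2, 49, true), (1, 7, true), (2, 5, true), (3, 34, true), (2, 44, true), (1, 51, true), (0, 9, true), (1, 43, true), (0, 50, true), (4, 30, true), (3, 39, true), (2, 42, true), (1, 49, true), (3, 4, true), (3, 38, true), (2, 49, true), (1, 7, true), (2, 36, true), (1, 51, true), (0, 54, true), (2, 49, true), (3, 6, true), (4, 35, true), (3, 44, true), (2, 53, true), (1, 54, true), (0, 9, true), (2, 42, true), (1, 7, true), (1, 40, true), (2, 4, true), (4, 21, true), (3, 33, true), (2, 39, true), (1, 46, true), (4, 36, true), (3, 44, true), (2, 48, true), (1, 53, true), (0, 54, true), (4, 42, true), (3, 46, true), (2, 7, true), (3, 41, true), (2, 45, true), (4, 4, true), (4, 34, true), (3, 48, true), (2, 51, true), (1, 54, true), (0, 9, true), (2, 47, true), (1, 50, true), (0, 8, true), (3, 32, true), (2, 39, true), (1, 46, true), (0, 49, true), (4, 38, true), (3, 42, true), (2, 46, true), (1, 49, true), (0, 7, true), (3, 37, true), (2, 43, true), (1, 47, true), (0, 50, true), (4, 36, true), (3, 44, true), (2, 48, true), (1, 51, true), (0,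 54, true), (4, 42, true), (3, 46, true), (2, 49, true), (5, 41, true), (4, 45, true), (3, 6, true), (4, 4, true), (4, 35, true), (3, 48, true), (2, 53, true), (1, 54, true), (0, 9, true), (2, 46, true), (1, 7, true), (1, 5, true), (2, 34, true), (1, 44, true), (0, 54, true), (2, 43, true), (1, 8, true), (3, 31, true), (2, 39, true), (1, 42, true), (2, 4, true), (2, 36, true), (1, 53, true), (0, 9, true), (0, 7, true), (2, 35, true), (1, 44, true), (0, 51, true), (2, 42, true), (1, 49, true), (3, 40, true), (4, 4, true), (4, 34, true), (3, 48, true), (2, 51, true), (1, 53, true), (0, 9, true), (2, 47, true), (1, 50, true), (0, 52, true), (5, 30, true), (4, 39, true), (3, 46, true), (2, 49, true), (1, 7, true), (4, 38, true), (3, 42, true), (2, 46, true), (1, 49, true), (5, 36, true), (4, 44, true), (3, 48, true), (2, 51, true), (1, 53, true), (0, 54, true), (5, 42, true), (4, 46, true), (3, 49, true), (2, 7, true), (4, 41, true), (3, 45, true), (2, 6, true), (3, 4, true), (3, 35, true), (2, 48, true), (1, 54, true), (0, 9, true), (1, 46, true),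 (2, 5, true), (4, 29, true), (3, 39, true), (2, 42, true), (1, 7, true), (1, 4, true), (1, 37, true), (0, 8, true), (2, 20, true), (1, 32, true), (0, 39, true), (2, 38, true), (1, 42, true), (0, 7, true), (1, 37, true), (0, 43, true), (2, 36, true), (1, 44, true), (0, 54, true), (2, 42, true), (3, 41, true), (4, 4, true), (4, 35, true), (3, 51, true), (2, 53, true), (1, 54, true), (0, 9, true), (2, 49, true), (1, 7, true), (4, 34, true), (3, 44, true), (2, 48, true), (1, 51, true), (0, 54, true), (4, 43, true), (3, 47, true), (2, 50, true), (1, 8, true), (5, 31, true), (4, 39, true), (3, 42, true), (2, 46, true), (1, 49, true), (4, 4, true), (4, 36, true), (3, 48, true), (2, 51, true), (1, 53, true), (0, 9, true), (2, 46, true), (1, 49, true), (0, 7, true), (1, 45, true), (0, 6, true), (2, 35, true), (1, 44, true), (0, 48, true), (2, 42, true), (1, 46, true), (3, 40, true), (2, 5, true), (2, 4, true), (2, 34, true), (1, 53, true), (0, 9, true), (0, 52, true), (3, 30, true), (2, 39, true), (1, 7, true), (2, 38, true), (1, 42, true), (3, 36, true),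 (2, 44, true), (1, 53, true), (0, 54, true), (3, 42, true), (2, 7, true), (2, 41, true), (3, 4, true), (3, 35, true), (2, 51, true), (1, 54, true), (0, 9, true), (1, 49, true), (6, 29, true), (5, 39, true), (4, 42, true), (3, 46, true), (2, 49, true), (1, 7, true), (3, 4, true), (3, 37, true), (2, 47, true), (1, 50, true), (0, 8, true), (3, 27, true), (2, 36, true), (1, 48, true), (0, 51, true), (2, 46, true), (1, 49, true), (3, 45, true), (2, 6, true), (4, 35, true), (3, 44, true), (2, 48, true), (1, 53, true), (0, 9, true), (2, 42, true), (1, 46, true), (0, 7, true), (1, 40, true), (0, 5, true), (0, 4, true), (0, 3, true), (1, 19, true), (0, 32, true), (6, 30, true), (5, 44, true), (4, 48, true), (3, 51, true), (2, 53, true), (1, 54, true), (0, 9, true), (4, 43, true), (3, 47, true), (2, 50, true), (1, 52, true), (0, 8, true), (3, 41, true), (2, 45, true), (1, 6, true), (2, 40, true), (1, 5, true), (2, 28, true), (1, 44, true), (0, 53, true), (2, 43, true), (1, 52, true), (3, 40, true), (4, 4, true), (4, 2, true), (3, 48, true), (2, 53, true),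 (1, 54, true), (0, 9, true), (2, 47, true), (1, 52, true), (0, 8, true), (1, 5, true), (1, 1, true), (0, 7, true)]),
    ([2, 2], [], [(1, 48, true), (0, 9, true), (0, 5, true)], [(2, 20, true), (1, 32, true), (0, 39, true), (2, 38, true), (1, 42, true), (0, 7, true), (1, 37, true), (0, 43, true), (2, 36, true), (1, 44, true), (0, 54, true), (2, 42, true), (3, 41, true), (4, 4, true), (4, 35, true), (3, 51, true), (2, 53, true), (1, 54, true), (0, 9, true), (2, 49, true), (1, 7, true), (4, 34, true), (3, 44, true), (2, 48, true), (1, 51, true), (0, 54, true), (4, 43, true), (3, 47, true), (2, 50, true), (1, 8, true), (5, 31, true), (4, 39, true), (3, 42, true), (2, 46, true), (1, 49, true), (4, 4, true), (4, 36, true), (3, 48, true), (2, 51, true), (1, 53, true), (0, 9, true), (2, 46, true), (1, 49, true), (0, 7, true), (1, 45, true), (0, 6, true), (2, 35, true), (1, 44, true), (0, 48, true), (2, 42, true), (1, 46, true), (3, 40, true), (2, 5, true), (2, 4, true), (2, 34, true), (1, 53, true), (0, 9, true), (0, 52, true), (3, 30, true), (2, 39,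 true), (1, 7, true), (2, 38, true), (1, 42, true), (3, 36, true), (2, 44, true), (1, 53, true), (0, 54, true), (3, 42, true), (2, 7, true), (2, 41, true), (3, 4, true), (3, 35, true), (2, 51, true), (1, 54, true), (0, 9, true), (1, 49, true), (6, 29, true), (5, 39, true), (4, 42, true), (3, 46, true), (2, 49, true), (1, 7, true), (3, 4, true), (3, 37, true), (2, 47, true), (1, 50, true), (0, 8, true), (3, 27, true), (2, 36, true), (1, 48, true), (0, 51, true), (2, 46, true), (1, 49, true), (3, 45, true), (2, 6, true), (4, 35, true), (3, 44, true), (2, 48, true), (1, 53, true), (0, 9, true), (2, 42, true), (1, 46, true), (0, 7, true), (1, 40, true), (0, 5, true), (0, 4, true), (0, 3, true), (1, 19, true), (0, 32, true), (6, 30, true), (5, 44, true), (4, 48, true), (3, 51, true), (2, 53, true), (1, 54, true), (0, 9, true), (4, 43, true), (3, 47, true), (2, 50, true), (1, 52, true), (0, 8, true), (3, 41, true), (2, 45, true), (1, 6, true), (2, 40, true), (1, 5, true), (2, 28, true), (1, 44, true), (0, 53, true), (2, 43, true), (1, 52, true), (3, 40,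 true), (4, 4, true), (4, 2, true), (3, 48, true), (2, 53, true), (1, 54, true), (0, 9, true), (2, 47, true), (1, 52, true), (0, 8, true), (1, 5, true), (1, 1, true), (0, 7, true)]),
    ([4, 4], [], [(4, 44, true), (3, 51, true), (2, 53, true), (1, 54, true), (0, 9, true), (3, 43, true), (2, 50, true), (1, 52, true), (0, 8, true), (2, 42, true), (1, 49, true), (0, 7, true), (1, 41, true), (0, 6, true), (0, 4, true)], [(3, 25, true), (2, 32, true), (1, 53, true), (0, 54, true), (2, 52, true), (1, 8, true), (1, 7, true), (5, 24, true), (4, 31, true), (3, 44, true), (2, 48, true), (1, 51, true), (0, 9, true), (2, 41, true), (1, 45, true), (0, 6, true), (1, 40, true), (0, 5, true), (0, 4, true), (1, 19, true), (0, 32, true), (6, 30, true), (5, 44, true), (4, 48, true), (3, 51, true), (2, 53, true), (1, 54, true), (0, 9, true), (4, 43, true), (3, 47, true), (2, 50, true), (1, 52, true), (0, 8, true), (3, 41, true), (2, 45, true), (1, 6, true), (2, 40, true), (1, 5, true), (2, 28, true), (1, 44, true), (0, 53, true), (2, 43, true), (1, 52, true), (3,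 40, true), (4, 4, true), (4, 2, true), (3, 48, true), (2, 53, true), (1, 54, true), (0, 9, true), (2, 47, true), (1, 52, true), (0, 8, true), (1, 5, true), (1, 1, true), (0, 7, true)]),
    ([0, 1], [1, 0], [(5, 17, true), (4, 39, true), (3, 42, true), (2, 49, true), (1, 7, true), (2, 4, true), (2, 37, true), (1, 50, true), (0, 8, true), (1, 35, true), (0, 51, true), (1, 49, true), (6, 14, true), (5, 37, true), (4, 43, true), (3, 47, true), (2, 50, true), (1, 52, true), (6, 34, true), (5, 44, true), (4, 48, true), (3, 51, true), (2, 53, true), (1, 54, true), (0, 9, true), (4, 43, true), (3, 47, true), (2, 50, true), (1, 52, true), (0, 8, true), (1, 45, false), (0, 46, false), (0, 8, false), (1, 47, false)], [(0, 38, true), (1, 36, true), (0, 53, true), (1, 7, true), (3, 34, true), (2, 44, true), (1, 51, true), (0, 9, true), (1, 43, true), (0, 50, true), (3, 3, true), (3, 3, false), (2, 5, false), (1, 7, false), (2, 49, false), (3, 46, false), (0, 9, false), (1, 54, false), (2, 53, false), (3, 51, false), (4, 48, false), (5, 35, false), (5, 4, false),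 (3, 45, false), (4, 41, false), (2, 46, false), (3, 42, false), (0, 54, false), (1, 48, false), (2, 44, false), (3, 36, false), (4, 27, false), (0, 47, false), (1, 43, false), (2, 37, false), (0, 7, false), (1, 46, false), (2, 39, false), (3, 29, false), (2, 4, false), (1, 40, false), (0, 42, false), (0, 9, false), (1, 44, false), (2, 35, false), (1, 6, false), (1, 7, false), (2, 49, false), (0, 53, false), (1, 51, false), (2, 36, false), (0, 49, false), (1, 38, false), (1, 4, false), (0, 7, false), (1, 49, false), (2, 42, false), (3, 39, false), (4, 30, false), (0, 8, false), (1, 52, false), (2, 50, false), (3, 43, false), (0, 9, false), (1, 54, false), (2, 53, false), (3, 51, false), (4, 44, false), (5, 34, false), (4, 5, false), (2, 49, false), (3, 46, false), (0, 54, false), (1, 51, false), (2, 48, false), (3, 35, false), (3, 4, false), (1, 45, false), (2, 41, false), (1, 7, false), (2, 46, false), (3, 42, false), (0, 9, false), (1, 54, false), (2, 53, false), (3, 48, false), (4, 44, false), (5, 36, false), (2, 46, false), (3, 39, false), (4,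 31, false), (1, 47, false), (0, 48, false), (1, 34, false), (1, 4, false), (0, 40, false), (0, 7, false), (1, 42, false), (0, 9, false), (1, 53, false), (2, 44, false), (3, 35, false), (2, 6, false), (1, 49, false), (0, 51, false), (1, 36, false), (0, 8, false), (1, 50, false), (2, 37, false), (1, 7, false), (2, 49, false), (3, 38, false), (3, 4, false), (1, 49, false), (2, 42, false), (3, 39, false), (4, 32, false), (5, 20, false)])]

/-- A conjugation. -/
def twoM24Fus3 : Schur.Tails.Fus where
  xs := [[9, 7, 6, 5, 2]]
  ys := [[9, 6, 5, 4]]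
  rels := [
    ([0, 0], [], [(4, 33, true), (3, 48, true), (2, 51, true), (1, 53, true), (0, 9, true), (2, 45, true), (1, 6, true), (3, 31, true), (2, 44, true), (1, 48, true), (0, 53, true), (3, 41, true), (2, 45, true), (4, 40, true), (3, 5, true), (3, 4, true), (3, 30, true), (2, 51, true), (1, 53, true), (0, 9, true), (1, 50, true), (0, 52, true), (2, 6, true), (3, 29, true), (2, 48, true), (1, 53, true), (0, 54, true), (3, 46, true), (2, 7, true), (3, 2, true), (2, 48, true), (1, 54, true), (0, 9, true), (1, 47, true), (0, 8, true), (0, 5, true)], [(3, 44, true), (2, 48, true), (1, 51, true), (0, 9, true), (2, 41, true), (1, 45, true), (0, 6, true), (1, 40, true), (0, 5, true), (0, 4, true)])]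

/-- A conjugation. -/
def twoM24Fus4 : Schur.Tails.Fus where
  xs := [[9, 8, 5, 3, 2, 1, 0], [9, 8, 7, 6, 5, 4, 3, 2, 1, 0], [8, 7, 6, 4, 2, 1, 0], [9, 7, 6, 5, 4, 2, 1]]
  ys := [[9, 6, 3, 2, 1], [2, 1], [8, 7, 6, 5, 4, 2], [8, 7]]
  rels := [
    ([2, 2], [3], [(6, 17, true), (5, 26, true), (4, 30, true), (3, 44, true), (2, 51, true), (1, 53, true), (0, 54, true), (4, 43, true), (3, 50, true), (2, 52, true), (1, 8, true), (3, 41, true), (2, 6, true), (2, 40, true), (4, 29, true), (3, 44, true), (2, 48, true), (1, 53, true), (0, 9, true), (2, 42, true), (1, 46, true), (0, 7, true), (2, 28, true), (1, 44, true), (0, 48, true), (2, 43, true), (1, 47, true), (3, 40, true), (2, 5, true), (2, 4, true), (3, 24, true), (2, 31, true), (1, 54, true), (0, 9, true), (5, 22, true), (4, 31, true), (3, 44, true), (2, 48, true), (1, 51, true), (0, 54, true), (4, 41, true), (3, 45, true), (2, 6, true), (3, 40, true), (2, 5, true), (2, 4, true), (2, 29, true), (1, 54, true), (0, 9, true), (4, 16, true), (3, 25, true), (2, 32, true), (1, 53, true), (0, 54, true),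 (2, 52, true), (1, 8, true), (1, 7, true), (5, 24, true), (4, 31, true), (3, 44, true), (2, 48, true), (1, 51, true), (0, 9, true), (2, 41, true), (1, 45, true), (0, 6, true), (1, 40, true), (0, 5, true), (0, 4, true), (1, 23, true), (0, 32, true), (6, 30, true), (5, 44, true), (4, 48, true), (3, 51, true), (2, 53, true), (1, 54, true), (0, 9, true), (4, 43, true), (3, 47, true), (2, 50, true), (1, 52, true), (0, 8, true), (3, 41, true), (2, 45, true), (1, 6, true), (2, 40, true), (1, 5, true), (3, 21, true), (2, 33, true), (1, 44, true), (0, 53, true), (2, 41, true), (3, 4, true), (3, 32, true), (2, 51, true), (1, 53, true), (0, 9, true), (1, 50, true), (0, 52, true), (2, 49, true), (1, 7, true), (1, 6, true), (3, 31, true), (2, 44, true), (1, 48, true), (0, 54, true), (3, 41, true), (2, 45, true), (4, 40, true), (3, 5, true), (3, 4, true), (3, 30, true), (2, 51, true), (1, 54, true), (0, 9, true), (1, 50, true), (0, 8, true), (0, 6, true), (1, 29, true), (0, 48, true), (1, 46, true), (5, 15, true), (4, 22, true), (3, 31, true), (2, 48, true),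 (1, 53, true), (0, 9, true), (1, 45, true), (2, 5, true), (3, 29, true), (2, 44, true), (1, 51, true), (0, 53, true), (3, 42, true), (2, 49, true), (1, 7, true), (5, 13, true), (4, 25, true), (3, 32, true), (2, 44, true), (1, 51, true), (0, 9, true), (1, 43, true), (0, 50, true), (2, 42, true), (1, 49, true), (3, 41, true), (2, 6, true), (2, 40, true), (3, 4, true), (4, 22, true), (3, 31, true), (2, 48, true), (1, 53, true), (0, 54, true), (3, 45, true), (4, 5, true), (5, 29, true), (4, 44, true), (3, 51, true), (2, 53, true), (1, 54, true), (0, 9, true), (3, 42, true), (2, 49, true), (1, 7, true), (5, 11, true), (4, 1, true), (3, 31, true), (2, 44, true), (1, 51, true), (0, 54, true), (3, 41, true), (2, 6, true), (2, 40, true), (3, 4, true), (4, 10, true), (3, 32, true), (2, 48, true), (1, 54, true), (0, 9, true), (1, 47, true), (0, 8, true), (0, 46, true), (1, 45, true), (2, 5, true), (3, 30, true), (2, 44, true), (1, 51, true), (0, 53, true), (3, 43, true), (2, 50, true), (1, 52, true), (4, 41, true), (3, 6, true), (3, 40, true), (5, 28, true),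 (4, 44, true), (3, 48, true), (2, 53, true), (1, 54, true), (0, 9, true), (3, 43, true), (2, 47, true), (1, 52, true), (0, 8, true), (2, 40, true), (1, 5, true), (1, 4, true), (1, 2, true), (0, 53, true), (1, 52, true), (4, 0, true), (3, 47, true), (2, 52, true), (1, 8, true), (2, 45, true)], [(5, 32, true), (4, 44, true), (3, 48, true), (2, 51, true), (1, 53, true), (0, 54, true), (5, 43, true), (4, 47, true), (3, 50, true), (2, 52, true), (1, 8, true), (4, 42, true), (3, 46, true), (2, 49, true), (1, 7, true), (3, 41, true), (2, 45, true), (1, 6, true), (2, 40, true), (1, 5, true), (1, 4, true), (1, 31, true), (0, 9, true), (3, 30, true), (2, 44, true), (1, 48, true), (0, 51, true), (3, 43, true), (2, 47, true), (1, 50, true), (4, 41, true), (3, 45, true), (2, 6, true), (3, 40, true), (2, 5, true), (3, 29, true), (2, 44, true), (1, 54, true), (0, 9, true), (1, 42, true), (3, 28, true), (2, 44, true), (1, 53, true), (0, 54, true), (3, 43, true), (2, 52, true), (1, 8, true), (2, 40, true), (3, 4, true), (3, 2, true), (2, 48, true), (1, 53, true),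 (0, 9, true), (1, 47, true), (0, 52, true), (2, 5, true)]),
    ([1, 2], [3, 2, 1], [(9, 17, true), (8, 26, true), (7, 30, true), (6, 39, true), (5, 42, true), (4, 46, true), (3, 49, true), (2, 7, true), (4, 4, true), (4, 38, true), (3, 46, true), (2, 49, true), (5, 36, true), (4, 48, true), (3, 51, true), (2, 53, true), (1, 54, true), (0, 9, true), (3, 46, true), (2, 49, true), (1, 7, true), (2, 45, true), (1, 6, true), (3, 35, true), (2, 44, true), (1, 48, true), (0, 54, true), (3, 42, true), (2, 46, true), (4, 40, true), (3, 5, true), (3, 4, true), (4, 29, true), (3, 39, true), (2, 7, true), (3, 37, true), (2, 43, true), (1, 8, true), (3, 28, true), (2, 39, true), (1, 42, true), (2, 4, true), (2, 38, true), (1, 7, true), (1, 35, true), (0, 9, true), (3, 34, true), (2, 44, true), (1, 48, true), (0, 53, true), (3, 43, true), (2, 47, true), (1, 52, true), (7, 24, true), (6, 31, true), (5, 39, true), (4, 42, true), (3, 46, true), (2, 7, true), (3, 4, true), (3, 36, true), (2, 48, true), (1, 54, true), (0, 9, true), (1, 46, true), (2, 45, true),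 (5, 35, true), (4, 44, true), (3, 48, true), (2, 51, true), (1, 53, true), (0, 54, true), (5, 42, true), (4, 46, true), (3, 49, true), (2, 7, true), (4, 40, true), (3, 5, true), (3, 4, true), (3, 34, true), (2, 51, true), (1, 54, true), (0, 9, true), (1, 50, true), (0, 8, true), (3, 22, true), (2, 31, true), (1, 39, true), (0, 49, true), (3, 36, true), (2, 44, true), (1, 51, true), (0, 53, true), (3, 42, true), (2, 49, true), (1, 7, true), (2, 41, true), (1, 6, true), (1, 4, true), (1, 35, true), (0, 9, true), (3, 34, true), (2, 44, true), (1, 48, true), (0, 53, true), (3, 43, true), (2, 47, true), (1, 52, true), (6, 29, true), (5, 39, true), (4, 42, true), (3, 46, true), (2, 7, true), (3, 4, true), (3, 37, true), (2, 47, true), (1, 8, true), (5, 16, true), (4, 25, true), (3, 32, true), (2, 39, true), (1, 46, true), (4, 38, true), (3, 42, true), (2, 46, true), (1, 7, true), (3, 37, true), (2, 43, true), (1, 47, true), (4, 36, true), (3, 44, true), (2, 48, true), (1, 54, true), (0, 9, true), (2, 42, true), (1, 46, true), (3, 41, true), (2, 45, true),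 (4, 4, true), (4, 35, true), (3, 48, true), (2, 51, true), (1, 53, true), (0, 54, true), (4, 46, true), (3, 49, true), (2, 7, true), (3, 5, true), (4, 34, true), (3, 44, true), (2, 51, true), (1, 54, true), (0, 9, true), (2, 43, true), (1, 50, true), (0, 8, true), (4, 24, true), (3, 31, true), (2, 39, true), (1, 42, true), (0, 49, true), (2, 4, true), (2, 36, true), (1, 51, true), (0, 53, true), (2, 49, true), (1, 7, true), (1, 6, true), (2, 35, true), (1, 44, true), (0, 9, true), (0, 42, true), (1, 40, true), (2, 4, true), (2, 34, true), (1, 48, true), (0, 53, true), (2, 47, true), (1, 52, true), (6, 23, true), (5, 32, true), (4, 39, true), (3, 46, true), (2, 7, true), (4, 38, true), (3, 42, true), (2, 46, true), (5, 37, true), (4, 43, true), (3, 47, true), (2, 52, true), (1, 8, true), (4, 36, true), (3, 44, true), (2, 48, true), (1, 53, true), (0, 9, true), (2, 42, true), (1, 46, true), (0, 7, true), (1, 41, true), (0, 45, true), (2, 4, true), (2, 35, true), (1, 48, true), (0, 51, true), (2, 46, true), (1, 49, true), (3, 5, true), (4, 34, true),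 (3, 44, true), (2, 51, true), (1, 53, true), (0, 9, true), (2, 43, true), (1, 50, true), (0, 52, true), (5, 30, true), (4, 39, true), (3, 42, true), (2, 49, true), (1, 7, true), (2, 4, true), (2, 38, true), (1, 49, true), (3, 36, true), (2, 51, true), (1, 53, true), (0, 54, true), (3, 49, true), (2, 7, true), (2, 6, true), (3, 35, true), (2, 44, true), (1, 54, true), (0, 9, true), (1, 42, true), (2, 40, true), (3, 4, true), (5, 21, true), (4, 33, true), (3, 39, true), (2, 46, true), (1, 7, true), (3, 36, true), (2, 44, true), (1, 48, true), (0, 54, true), (3, 42, true), (2, 46, true), (4, 41, true), (3, 45, true), (5, 4, true), (5, 34, true), (4, 48, true), (3, 51, true), (2, 53, true), (1, 54, true), (0, 9, true), (3, 47, true), (2, 50, true), (1, 52, true), (0, 8, true), (4, 32, true), (3, 39, true), (2, 46, true), (1, 49, true), (0, 7, true), (3, 38, true), (2, 42, true), (1, 46, true), (0, 49, true), (4, 37, true), (3, 43, true), (2, 47, true), (1, 50, true), (0, 52, true), (5, 36, true), (4, 44, true), (3, 48, true), (2, 51, true), (1, 53,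 true), (0, 54, true), (5, 42, true), (4, 46, true), (3, 49, true), (2, 7, true), (4, 41, true), (3, 45, true), (2, 6, true), (3, 4, true), (3, 35, true), (2, 48, true), (1, 54, true), (0, 9, true), (1, 46, true), (2, 5, true), (3, 34, true), (2, 44, true), (1, 53, true), (0, 54, true), (3, 43, true), (2, 52, true), (1, 8, true), (4, 31, true), (3, 39, true), (2, 42, true), (1, 7, true), (1, 4, true), (1, 36, true), (0, 9, true), (3, 35, true), (2, 44, true), (1, 51, true), (0, 53, true), (3, 42, true), (2, 49, true), (1, 7, true), (2, 40, true), (3, 4, true), (3, 34, true), (2, 48, true), (1, 51, true), (0, 9, true), (1, 47, true), (0, 50, true), (4, 30, true), (3, 39, true), (2, 46, true), (1, 49, true), (5, 38, true), (4, 42, true), (3, 46, true), (2, 49, true), (1, 7, true), (4, 36, true), (3, 44, true), (2, 48, true), (1, 51, true), (0, 54, true), (4, 42, true), (3, 46, true), (2, 49, true), (5, 41, true), (4, 45, true), (3, 6, true), (4, 4, true), (4, 35, true), (3, 48, true), (2, 53, true), (1, 54, true), (0, 9, true), (2, 46, true), (1,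 7, true), (1, 5, true), (3, 29, true), (2, 39, true), (1, 42, true), (2, 4, true), (2, 37, true), (1, 52, true), (0, 8, true), (4, 15, true), (3, 22, true), (2, 31, true), (1, 39, true), (0, 7, true), (1, 36, true), (0, 44, true), (1, 42, true), (2, 41, true), (3, 4, true), (3, 35, true), (2, 51, true), (1, 53, true), (0, 9, true), (1, 49, true), (0, 7, true), (3, 34, true), (2, 44, true), (1, 48, true), (0, 51, true), (3, 43, true), (2, 47, true), (1, 50, true), (6, 29, true), (5, 39, true), (4, 42, true), (3, 46, true), (2, 49, true), (5, 4, true), (5, 37, true), (4, 47, true), (3, 50, true), (2, 52, true), (1, 8, true), (7, 13, true), (6, 25, true), (5, 32, true), (4, 39, true), (3, 46, true), (2, 49, true), (1, 7, true), (4, 38, true), (3, 42, true), (2, 46, true), (1, 49, true), (5, 37, true), (4, 43, true), (3, 47, true), (2, 50, true), (1, 52, true), (6, 36, true), (5, 44, true), (4, 48, true), (3, 51, true), (2, 53, true), (1, 54, true), (0, 9, true), (4, 42, true), (3, 46, true), (2, 49, true), (1, 7, true), (3, 41, true), (2, 45, true),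 (1, 6, true), (2, 4, true), (2, 35, true), (1, 48, true), (0, 54, true), (2, 46, true), (3, 5, true), (4, 34, true), (3, 44, true), (2, 53, true), (1, 54, true), (0, 9, true), (2, 43, true), (1, 52, true), (0, 8, true), (4, 22, true), (3, 31, true), (2, 39, true), (1, 42, true), (0, 7, true), (0, 4, true), (0, 36, true), (4, 35, true), (3, 44, true), (2, 51, true), (1, 53, true), (0, 9, true), (2, 42, true), (1, 49, true), (0, 7, true), (1, 40, true), (2, 4, true), (2, 34, true), (1, 48, true), (0, 51, true), (2, 47, true), (1, 50, true), (5, 29, true), (4, 39, true), (3, 46, true), (2, 49, true), (6, 37, true), (5, 43, true), (4, 47, true), (3, 50, true), (2, 52, true), (1, 8, true), (8, 11, true), (7, 1, true), (6, 31, true), (5, 39, true), (4, 42, true), (3, 46, true), (2, 49, true), (1, 7, true), (3, 4, true), (3, 36, true), (2, 48, true), (1, 51, true), (0, 9, true), (1, 46, true), (0, 49, true), (2, 45, true), (1, 6, true), (3, 35, true), (2, 44, true), (1, 48, true), (0, 53, true), (3, 42, true), (2, 46, true), (1, 7, true), (2, 40, true),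 (1, 5, true), (1, 4, true), (1, 34, true), (0, 9, true), (3, 10, true), (2, 32, true), (1, 39, true), (3, 38, true), (2, 42, true), (1, 7, true), (2, 37, true), (1, 43, true), (0, 8, true), (1, 36, true), (0, 44, true), (1, 42, true), (2, 41, true), (3, 4, true), (3, 35, true), (2, 51, true), (1, 53, true), (0, 9, true), (1, 49, true), (0, 7, true), (3, 34, true), (2, 44, true), (1, 48, true), (0, 51, true), (3, 43, true), (2, 47, true), (1, 50, true), (6, 30, true), (5, 39, true), (4, 42, true), (3, 46, true), (2, 49, true), (5, 4, true), (5, 38, true), (4, 46, true), (3, 49, true), (2, 7, true), (4, 36, true), (3, 48, true), (2, 51, true), (1, 54, true), (0, 9, true), (2, 46, true), (1, 49, true), (3, 45, true), (2, 6, true), (4, 35, true), (3, 44, true), (2, 48, true), (1, 53, true), (0, 54, true), (4, 42, true), (3, 46, true), (2, 7, true), (3, 40, true), (2, 5, true), (2, 4, true), (3, 28, true), (2, 39, true), (4, 38, true), (3, 42, true), (2, 7, true), (3, 35, true), (2, 44, true), (1, 54, true), (0, 9, true), (1, 42, true), (2, 40, true),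 (3, 4, true), (3, 34, true), (2, 48, true), (1, 53, true), (0, 54, true), (3, 47, true), (2, 52, true), (1, 8, true), (4, 2, true), (3, 39, true), (2, 46, true), (1, 7, true), (3, 38, true), (2, 42, true), (1, 46, true), (4, 35, true), (3, 44, true), (2, 48, true), (1, 53, true), (0, 9, true), (2, 42, true), (1, 46, true), (0, 7, true), (1, 40, true), (0, 5, true), (0, 4, true), (1, 0, true), (0, 38, true), (1, 36, true), (0, 53, true), (1, 7, true), (3, 34, true), (2, 44, true), (1, 51, true), (0, 9, true), (1, 43, true), (0, 50, true), (0, 50, false), (1, 43, false), (0, 9, false), (1, 51, false), (2, 44, false), (3, 34, false), (1, 7, false), (0, 53, false), (1, 36, false), (0, 38, false), (1, 0, false), (0, 4, false), (0, 5, false), (1, 40, false), (0, 7, false), (1, 46, false), (2, 42, false), (0, 9, false), (1, 53, false), (2, 48, false), (3, 44, false), (4, 35, false), (1, 46, false), (2, 42, false), (3, 38, false), (1, 7, false), (2, 46, false), (3, 39, false), (4, 2, false), (1, 8, false), (2, 52, false), (3, 47, false), (0, 54, false),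 (1, 53, false), (2, 48, false), (3, 34, false), (3, 4, false), (2, 40, false), (1, 42, false), (0, 9, false), (1, 54, false), (2, 44, false), (3, 35, false), (2, 7, false), (3, 42, false), (4, 38, false), (2, 39, false), (3, 28, false), (2, 4, false), (2, 5, false), (3, 40, false), (2, 7, false), (3, 46, false), (4, 42, false), (0, 54, false), (1, 53, false), (2, 48, false), (3, 44, false), (4, 35, false), (2, 6, false), (3, 45, false), (1, 49, false), (2, 46, false), (0, 9, false), (1, 54, false), (2, 51, false), (3, 48, false), (4, 36, false), (2, 7, false), (3, 49, false), (4, 46, false), (5, 38, false), (5, 4, false), (2, 49, false), (3, 46, false), (4, 42, false), (5, 39, false), (6, 30, false), (1, 50, false), (2, 47, false), (3, 43, false), (0, 51, false), (1, 48, false), (2, 44, false), (3, 34, false), (0, 7, false), (1, 49, false), (0, 9, false), (1, 53, false), (2, 51, false), (3, 35, false), (3, 4, false), (2, 41, false), (1, 42, false), (0, 44, false), (1, 36, false), (0, 8, false), (1, 43, false), (2, 37, false), (1, 7, false), (2,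 42, false), (3, 38, false), (1, 39, false), (2, 32, false), (3, 10, false), (0, 9, false), (1, 34, false), (1, 4, false), (1, 5, false), (2, 40, false), (1, 7, false), (2, 46, false), (3, 42, false), (0, 53, false), (1, 48, false), (2, 44, false), (3, 35, false), (1, 6, false), (2, 45, false), (0, 49, false), (1, 46, false), (0, 9, false), (1, 51, false), (2, 48, false), (3, 36, false), (3, 4, false), (1, 7, false), (2, 49, false), (3, 46, false), (4, 42, false), (5, 39, false), (6, 31, false), (7, 1, false), (8, 11, false), (1, 8, false), (2, 52, false), (0, 54, false), (1, 53, false), (2, 12, false), (2, 5, false), (0, 52, false), (1, 47, false), (2, 13, false), (2, 4, false), (0, 46, false), (1, 42, false), (2, 14, false), (0, 40, false), (1, 15, false), (0, 6, false), (0, 7, false), (1, 49, false), (0, 8, false), (1, 52, false), (2, 50, false), (3, 16, false), (3, 5, false), (1, 49, false), (2, 46, false), (0, 9, false), (1, 54, false), (2, 51, false), (3, 48, false), (4, 17, false), (4, 4, false), (3, 40, false), (2, 7, false), (3, 49, false),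 (4, 42, false), (0, 54, false), (1, 53, false), (2, 51, false), (3, 44, false), (4, 18, false), (1, 49, false), (2, 42, false), (3, 1, false), (2, 5, false), (3, 40, false), (0, 50, false), (1, 47, false), (2, 43, false), (0, 9, false), (1, 51, false), (2, 48, false), (3, 44, false), (4, 2, false), (1, 8, false), (2, 50, false), (0, 54, false), (1, 51, false), (2, 28, false), (2, 5, false), (1, 45, false), (0, 47, false), (0, 9, false), (1, 48, false), (2, 30, false), (2, 4, false), (1, 40, false), (1, 6, false), (2, 41, false), (1, 7, false), (2, 49, false), (3, 42, false), (1, 8, false), (2, 52, false), (3, 50, false), (4, 43, false), (0, 54, false), (1, 53, false), (2, 51, false), (3, 44, false), (4, 32, false), (5, 19, false), (1, 49, false), (2, 42, false), (0, 9, false), (1, 54, false), (2, 51, false), (3, 44, false), (4, 29, false), (3, 5, false), (4, 40, false), (2, 45, false), (3, 41, false), (1, 47, false), (2, 43, false), (0, 48, false), (1, 44, false), (2, 30, false), (0, 6, false), (0, 9, false), (1, 51, false), (2, 31, false), (2,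 4, false), (2, 5, false), (3, 40, false), (1, 45, false), (2, 41, false), (1, 7, false), (2, 46, false), (3, 42, false), (1, 8, false), (2, 52, false), (3, 47, false), (4, 43, false), (0, 54, false), (1, 53, false), (2, 48, false), (3, 44, false), (4, 32, false), (2, 6, false), (3, 45, false), (0, 9, false), (1, 54, false), (2, 53, false), (3, 51, false), (4, 48, false), (5, 33, false), (6, 21, false), (1, 52, false), (0, 53, false), (1, 30, false), (1, 4, false), (1, 5, false), (2, 40, false), (1, 6, false), (2, 45, false), (3, 41, false), (0, 49, false), (1, 46, false), (2, 42, false), (0, 8, false), (1, 50, false), (2, 47, false), (3, 43, false), (0, 9, false), (1, 54, false), (2, 51, false), (3, 48, false), (4, 44, false), (5, 32, false), (6, 23, false), (0, 54, false), (1, 31, false), (2, 24, false), (1, 4, false), (1, 5, false), (2, 40, false), (1, 6, false), (2, 45, false), (3, 41, false), (1, 7, false), (2, 49, false), (3, 46, false), (4, 42, false), (0, 52, false), (1, 50, false), (2, 47, false), (3, 43, false), (0, 9, false), (1, 53,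 false), (2, 51, false), (3, 48, false), (4, 44, false), (5, 32, false), (6, 25, false)], [(1, 25, true), (0, 32, true), (7, 24, true), (6, 31, true), (5, 44, true), (4, 48, true), (3, 51, true), (2, 53, true), (1, 54, true), (0, 9, true), (4, 41, true), (3, 45, true), (2, 6, true), (3, 40, true), (2, 5, true), (2, 4, true), (3, 23, true), (2, 32, true), (1, 53, true), (0, 54, true), (2, 52, true), (1, 8, true), (1, 7, true), (4, 30, true), (3, 44, true), (2, 48, true), (1, 51, true), (0, 9, true), (2, 43, true), (1, 47, true), (0, 50, true), (3, 41, true), (2, 45, true), (1, 6, true), (2, 40, true), (1, 5, true), (3, 22, true), (2, 31, true), (1, 44, true), (0, 54, true), (2, 41, true), (3, 40, true), (4, 4, true), (4, 29, true), (3, 48, true), (2, 51, true), (1, 54, true), (0, 9, true), (2, 46, true), (1, 49, true), (5, 21, true), (4, 33, true), (3, 48, true), (2, 51, true), (1, 53, true), (0, 54, true), (4, 45, true), (3, 6, true), (5, 32, true), (4, 44, true), (3, 48, true), (2, 53, true), (1, 54, true), (0, 9, true), (3, 43, true), (2, 47,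 true), (1, 52, true), (0, 8, true), (2, 42, true), (1, 46, true), (0, 7, true), (1, 41, true), (0, 45, true), (2, 40, true), (1, 5, true), (1, 4, true), (1, 31, true), (0, 51, true), (1, 6, true), (3, 30, true), (2, 44, true), (1, 48, true), (0, 9, true), (1, 43, true), (0, 47, true), (2, 41, true), (1, 45, true), (3, 40, true), (2, 5, true), (3, 29, true), (2, 44, true), (1, 51, true), (0, 54, true), (3, 42, true), (2, 49, true), (6, 19, true), (5, 32, true), (4, 44, true), (3, 51, true), (2, 53, true), (1, 54, true), (0, 9, true), (3, 43, true), (2, 50, true), (1, 52, true), (0, 8, true), (2, 42, true), (1, 49, true), (0, 7, true), (1, 41, true), (0, 6, true), (0, 40, true), (1, 4, true), (1, 30, true), (0, 48, true), (1, 47, true), (2, 45, true), (3, 5, true), (3, 28, true), (2, 51, true), (1, 54, true), (0, 9, true), (1, 50, true), (0, 8, true), (3, 2, true), (2, 44, true), (1, 48, true), (0, 51, true), (3, 43, true), (2, 47, true), (1, 50, true), (4, 40, true), (3, 5, true), (3, 5, false), (4, 40, false), (1, 50, false), (2, 47, false), (3,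 43, false), (0, 51, false), (1, 48, false), (2, 44, false), (3, 2, false), (0, 7, false), (0, 8, false), (1, 52, false)])]

/-- The certificate. -/
def twoM24Cert : Schur.Tails.Cert where
  p := 2
  q := 2
  n := 10
  rels := [
    ([0, 0], [8, 6, 4, 2, 1]),
    ([1, 1], [7]),
    ([2, 2], [9, 8, 5]),
    ([3, 3], []),
    ([4, 4], []),
    ([5, 5], []),
    ([6, 6], []),
    ([7, 7], []),
    ([8, 8], []),
    ([9, 9], []),
    ([0, 1], [8, 6, 4, 2, 0]),
    ([0, 2], [1, 0]),
    ([0, 3], [9, 8, 6, 5, 4, 3, 2, 1, 0]),
    ([0, 4], [8, 5, 0]),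
    ([0, 5], [7, 4, 0]),
    ([0, 6], [5, 0]),
    ([0, 7], [8, 7, 6, 4, 0]),
    ([0, 8], [9, 7, 5, 0]),
    ([0, 9], [9, 7, 5, 4, 0]),
    ([1, 2], [8, 6, 4, 2, 1]),
    ([1, 3], [8, 7, 6, 5, 3, 1]),
    ([1, 4], [9, 8, 7, 6, 5, 1]),
    ([1, 5], [7, 5, 1]),
    ([1, 6], [8, 6, 1]),
    ([1, 7], [7, 1]),
    ([1, 8], [8, 1]),
    ([1, 9], [6, 5, 4, 1]),
    ([2, 3], [6, 5, 3, 2]),
    ([2, 4], [9, 8, 5, 4, 2]),
    ([2, 5], [9, 7, 2]),
    ([2, 6], [9, 8, 6, 5, 2]),
    ([2, 7], [9, 6, 5, 4, 2]),
    ([2, 8], [9, 8, 7, 6, 5, 4, 2]),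
    ([2, 9], [9, 6, 4, 2]),
    ([3, 4], [9, 8, 3]),
    ([3, 5], [9, 7, 5, 4, 3]),
    ([3, 6], [9, 7, 6, 4, 3]),
    ([3, 7], [8, 3]),
    ([3, 8], [7, 3]),
    ([3, 9], [7, 4, 3]),
    ([4, 5], [5, 4]),
    ([4, 6], [6, 4]),
    ([4, 7], [7, 4]),
    ([4, 8], [8, 4]),
    ([4, 9], [9, 4]),
    ([5, 6], [6, 5]),
    ([5, 7], [7, 5]),
    ([5, 8], [8, 5]),
    ([5, 9], [9, 5]),
    ([6, 7], [7, 6]),
    ([6, 8], [8, 6]),
    ([6, 9], [9, 6]),
    ([7, 8], [8, 7]),
    ([7, 9], [9, 7]),
    ([8, 9], [9, 8])]
  overlaps := twoM24Overlaps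
  fus := [twoM24Fus0, twoM24Fus1, twoM24Fus2, twoM24Fus3, twoM24Fus4]
  mu := [[], [0, 0, 0, 0, 0, 0, 0, 0, 0, 0, 0, 1], [], [], [0, 0, 1, 0, 0, 0, 0, 0, 0, 0, 0, 0, 0, 1], [1, 0, 0, 0, 0, 0, 0, 0, 0, 0, 0, 0, 1], [0, 0, 0, 0, 0, 0, 0, 0, 0, 0, 0, 1, 1, 1], [0, 1], [1, 0, 1, 0, 0, 0, 0, 0, 0, 0, 0, 0, 1], []]
  combos := [
    ([], 0),
    ([], 0),
    ([], 0),
    ([(0, 1), (2, 1), (5, 1), (6, 1), (10, 1), (11, 1), (12, 1), (14, 1), (17, 1), (18, 1), (20, 1), (21, 1), (25, 1), (26, 1), (27, 1), (30, 1), (31, 1), (36, 1), (44, 1)], 0),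
    ([(0, 1), (1, 1), (4, 1), (6, 1), (8, 1), (9, 1), (10, 1), (13, 1), (20, 1), (24, 1), (25, 1), (26, 1), (27, 1), (28, 1), (29, 1), (31, 1), (32, 1), (33, 1), (37, 1), (40, 1), (43, 1), (44, 1), (45, 1), (46, 1)], 0),
    ([(1, 1), (4, 1), (7, 1), (8, 1), (11, 1), (13, 1), (18, 1), (19, 1), (21, 1), (22, 1), (24, 1), (28, 1), (30, 1), (31, 1), (32, 1), (36, 1), (39, 1), (42, 1), (45, 1), (47, 1), (48, 1), (49, 1)], 0),
    ([(0, 1), (5, 1), (7, 1), (9, 1), (13, 1), (14, 1), (15, 1), (16, 1), (17, 1), (18, 1), (19, 1), (20, 1), (23, 1), (25, 1), (26, 1), (30, 1), (32, 1), (36, 1), (39, 1), (42, 1), (45, 1), (47, 1), (48, 1), (49, 1)], 0),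
    ([(1, 1), (2, 1), (3, 1), (5, 1), (6, 1), (7, 1), (9, 1), (12, 1), (13, 1), (15, 1), (16, 1), (19, 1), (20, 1), (21, 1), (26, 1), (27, 1), (30, 1), (37, 1), (40, 1), (42, 1), (45, 1), (46, 1), (47, 1), (48, 1), (49, 1)], 0),
    ([(0, 1), (4, 1), (6, 1), (7, 1), (8, 1), (9, 1), (11, 1), (15, 1), (18, 1), (19, 1), (21, 1), (22, 1), (23, 1), (26, 1), (27, 1), (31, 1), (37, 1), (40, 1), (42, 1), (45, 1), (46, 1), (47, 1), (48, 1), (49, 1)], 0),
    ([(0, 1), (6, 1), (7, 1), (9, 1), (12, 1), (14, 1), (19, 1), (21, 1), (23, 1), (25, 1), (27, 1), (32, 1), (36, 1), (39, 1), (42, 1), (45, 1), (47, 1), (48, 1), (49, 1)], 0),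
    ([(3, 1), (4, 1), (6, 1), (8, 1), (11, 1), (12, 1), (13, 1), (17, 1), (19, 1), (21, 1), (24, 1), (27, 1), (28, 1), (30, 1), (32, 1), (36, 1), (37, 1), (38, 1), (40, 1), (43, 1), (44, 1), (45, 1), (46, 1)], 0),
    ([], 0),
    ([], 0),
    ([], 0),
    ([(0, 1), (1, 1), (4, 1), (5, 1), (7, 1), (9, 1), (10, 1), (11, 1), (14, 1), (15, 1), (16, 1), (17, 1), (18, 1), (19, 1), (21, 1), (22, 1), (23, 1), (24, 1), (26, 1), (27, 1), (28, 1), (29, 1), (30, 1), (31, 1), (34, 1), (36, 1), (37, 1), (40, 1), (43, 1), (44, 1), (46, 1), (47, 1), (48, 1), (49, 1)], 0),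
    ([(2, 1), (6, 1), (12, 1), (13, 1), (14, 1), (15, 1), (16, 1), (17, 1), (19, 1), (26, 1), (30, 1), (34, 1), (36, 1), (37, 1), (38, 1), (40, 1), (42, 1), (43, 1), (44, 1), (46, 1), (47, 1), (48, 1), (49, 1)], 0),
    ([(0, 1), (2, 1), (3, 1), (4, 1), (10, 1), (11, 1), (14, 1), (15, 1), (16, 1), (17, 1), (23, 1), (28, 1), (30, 1), (34, 1), (36, 1), (37, 1), (38, 1), (40, 1), (42, 1), (46, 1), (47, 1), (48, 1), (49, 1)], 0),
    ([(0, 1), (2, 1), (5, 1), (16, 1), (20, 1), (28, 1), (29, 1), (32, 1), (34, 1), (36, 1), (39, 1), (42, 1), (43, 1), (44, 1), (45, 1), (47, 1), (48, 1), (49, 1)], 0),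
    ([(0, 1), (3, 1), (4, 1), (6, 1), (12, 1), (13, 1), (16, 1), (17, 1), (20, 1), (21, 1), (24, 1), (25, 1), (26, 1), (28, 1), (31, 1), (33, 1), (34, 1), (37, 1), (39, 1), (40, 1), (43, 1), (44, 1), (45, 1), (46, 1), (47, 1), (48, 1), (49, 1)], 0),
    ([(0, 1), (3, 1), (4, 1), (6, 1), (8, 1), (11, 1), (12, 1), (13, 1), (17, 1), (19, 1), (21, 1), (24, 1), (27, 1), (28, 1), (30, 1), (32, 1), (33, 1), (36, 1), (37, 1), (38, 1), (40, 1), (43, 1), (44, 1), (45, 1), (46, 1)], 0),
    ([(2, 1), (3, 1), (5, 1), (7, 1), (10, 1), (11, 1), (12, 1), (13, 1), (14, 1), (19, 1), (20, 1), (23, 1), (25, 1), (28, 1), (33, 1), (35, 1), (36, 1), (40, 1), (41, 1), (45, 1), (47, 1)], 0),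
    ([(0, 1), (2, 1), (3, 1), (4, 1), (5, 1), (6, 1), (7, 1), (9, 1), (10, 1), (13, 1), (14, 1), (17, 1), (18, 1), (20, 1), (21, 1), (22, 1), (23, 1), (25, 1), (26, 1), (27, 1), (30, 1), (31, 1), (34, 1), (36, 1), (37, 1), (38, 1), (42, 1), (43, 1), (44, 1), (45, 1), (47, 1)], 0),
    ([(0, 1), (1, 1), (2, 1), (3, 1), (5, 1), (12, 1), (13, 1), (16, 1), (18, 1), (24, 1), (25, 1), (29, 1), (30, 1), (31, 1), (32, 1), (33, 1), (34, 1), (35, 1), (37, 1), (39, 1), (40, 1), (46, 1), (47, 1)], 0),
    ([(0, 1), (1, 1), (2, 1), (7, 1), (10, 1), (13, 1), (15, 1), (16, 1), (18, 1), (19, 1), (20, 1), (21, 1), (23, 1), (26, 1), (27, 1), (28, 1), (31, 1), (34, 1), (35, 1), (37, 1), (39, 1), (40, 1), (43, 1), (44, 1), (45, 1), (46, 1), (48, 1), (49, 1)], 0),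
    ([(2, 1), (3, 1), (4, 1), (6, 1), (9, 1), (10, 1), (11, 1), (12, 1), (16, 1), (17, 1), (21, 1), (24, 1), (28, 1), (29, 1), (31, 1), (33, 1), (35, 1), (36, 1)], 0),
    ([(1, 1), (6, 1), (7, 1), (8, 1), (10, 1), (11, 1), (12, 1), (13, 1), (14, 1), (15, 1), (18, 1), (19, 1), (22, 1), (24, 1), (25, 1), (26, 1), (30, 1), (31, 1), (35, 1), (37, 1), (39, 1), (40, 1), (42, 1), (43, 1), (44, 1), (46, 1), (47, 1), (48, 1), (49, 1)], 0),
    ([(0, 1), (1, 1), (2, 1), (4, 1), (5, 1), (6, 1), (7, 1), (8, 1), (9, 1), (12, 1), (13, 1), (15, 1), (16, 1), (19, 1), (22, 1), (24, 1), (25, 1), (27, 1), (28, 1), (29, 1), (30, 1), (32, 1), (34, 1), (35, 1), (37, 1), (38, 1), (42, 1), (48, 1), (49, 1)], 0),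
    ([(0, 1), (5, 1), (6, 1), (7, 1), (8, 1), (10, 1), (12, 1), (15, 1), (18, 1), (20, 1), (21, 1), (22, 1), (23, 1), (24, 1), (26, 1), (28, 1), (35, 1), (36, 1), (39, 1), (41, 1), (43, 1), (44, 1), (46, 1), (48, 1), (49, 1)], 0),
    ([(0, 1), (1, 1), (2, 1), (3, 1), (4, 1), (7, 1), (9, 1), (11, 1), (12, 1), (13, 1), (14, 1), (17, 1), (19, 1), (20, 1), (21, 1), (22, 1), (28, 1), (29, 1), (31, 1), (32, 1), (33, 1), (42, 1), (43, 1), (44, 1), (48, 1), (49, 1)], 0),
    ([(0, 1), (1, 1), (3, 1), (4, 1), (6, 1), (7, 1), (9, 1), (10, 1), (11, 1), (12, 1), (13, 1), (17, 1), (18, 1), (19, 1), (20, 1), (22, 1), (26, 1), (28, 1), (29, 1), (33, 1), (35, 1), (36, 1), (42, 1), (43, 1), (44, 1), (45, 1), (47, 1)], 0),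
    ([(4, 1), (5, 1), (6, 1), (7, 1), (8, 1), (9, 1), (12, 1), (13, 1), (14, 1), (15, 1), (16, 1), (17, 1), (19, 1), (20, 1), (24, 1), (25, 1), (27, 1), (28, 1), (29, 1), (30, 1), (31, 1), (35, 1), (37, 1), (39, 1), (47, 1)], 0),
    ([(0, 1), (2, 1), (4, 1), (6, 1), (10, 1), (13, 1), (16, 1), (17, 1), (18, 1), (20, 1), (21, 1), (22, 1), (25, 1), (26, 1), (27, 1), (32, 1), (33, 1), (35, 1), (36, 1), (38, 1), (39, 1), (40, 1), (43, 1), (44, 1), (46, 1)], 0),
    ([(0, 1), (1, 1), (4, 1), (10, 1), (11, 1), (12, 1), (13, 1), (15, 1), (16, 1), (17, 1), (18, 1), (19, 1), (20, 1), (21, 1), (23, 1), (24, 1), (26, 1), (31, 1), (32, 1), (33, 1), (35, 1), (36, 1), (37, 1), (38, 1), (39, 1), (42, 1), (43, 1), (44, 1), (45, 1), (47, 1), (48, 1), (49, 1)], 0),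
    ([(1, 1), (3, 1), (4, 1), (5, 1), (11, 1), (12, 1), (17, 1), (21, 1), (23, 1), (25, 1), (27, 1), (30, 1), (32, 1), (33, 1), (35, 1), (36, 1), (37, 1), (38, 1), (39, 1), (40, 1), (42, 1), (43, 1), (44, 1), (46, 1), (47, 1)], 0),
    ([(0, 1), (2, 1), (3, 1), (4, 1), (6, 1), (7, 1), (8, 1), (9, 1), (10, 1), (11, 1), (15, 1), (17, 1), (18, 1), (21, 1), (23, 1), (24, 1), (25, 1), (26, 1), (27, 1), (28, 1), (31, 1), (32, 1), (33, 1), (43, 1), (44, 1), (46, 1), (47, 1), (48, 1), (49, 1)], 0),
    ([(0, 1), (4, 1), (6, 1), (8, 1), (10, 1), (11, 1), (12, 1), (13, 1), (14, 1), (15, 1), (16, 1), (17, 1), (18, 1), (19, 1), (23, 1), (25, 1), (26, 1), (29, 1), (34, 1), (35, 1), (37, 1), (42, 1), (43, 1), (44, 1), (46, 1), (47, 1), (48, 1), (49, 1)], 0),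
    ([(0, 1), (1, 1), (2, 1), (5, 1), (6, 1), (8, 1), (10, 1), (12, 1), (13, 1), (14, 1), (15, 1), (16, 1), (17, 1), (19, 1), (26, 1), (27, 1), (30, 1), (31, 1), (36, 1), (39, 1), (40, 1)], 0),
    ([(1, 1), (5, 1), (6, 1), (8, 1), (9, 1), (10, 1), (12, 1), (13, 1), (16, 1), (24, 1), (27, 1), (28, 1), (31, 1), (32, 1), (40, 1), (43, 1), (44, 1), (45, 1), (46, 1), (47, 1), (48, 1), (49, 1)], 0),
    ([(2, 1), (4, 1), (6, 1), (12, 1), (16, 1), (17, 1), (18, 1), (19, 1), (20, 1), (21, 1), (22, 1), (23, 1), (25, 1), (26, 1), (27, 1), (28, 1), (29, 1), (31, 1), (32, 1), (40, 1), (43, 1), (44, 1), (45, 1), (46, 1), (47, 1), (48, 1), (49, 1)], 0),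
    ([(0, 1), (3, 1), (4, 1), (5, 1), (6, 1), (9, 1), (10, 1), (13, 1), (16, 1), (19, 1), (21, 1), (24, 1), (25, 1), (27, 1), (28, 1), (29, 1), (31, 1), (33, 1), (34, 1), (35, 1), (36, 1), (37, 1), (39, 1), (42, 1), (43, 1), (44, 1), (45, 1), (46, 1), (47, 1), (48, 1), (49, 1)], 0),
    ([(0, 1), (2, 1), (3, 1), (6, 1), (8, 1), (9, 1), (11, 1), (13, 1), (14, 1), (17, 1), (18, 1), (20, 1), (21, 1), (22, 1), (23, 1), (24, 1), (26, 1), (28, 1), (30, 1), (31, 1), (32, 1), (33, 1), (37, 1), (42, 1), (45, 1), (47, 1), (48, 1), (49, 1)], 0),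
    ([(6, 1), (7, 1), (8, 1), (11, 1), (12, 1), (15, 1), (16, 1), (25, 1), (27, 1), (30, 1), (31, 1), (33, 1), (36, 1), (39, 1), (43, 1), (44, 1), (45, 1)], 0),
    ([(0, 1), (1, 1), (3, 1), (4, 1), (9, 1), (10, 1), (13, 1), (15, 1), (16, 1), (18, 1), (25, 1), (27, 1), (28, 1), (30, 1), (33, 1), (36, 1), (39, 1), (43, 1), (44, 1), (45, 1)], 0),
    ([(5, 1), (6, 1), (7, 1), (8, 1), (10, 1), (12, 1), (16, 1), (17, 1), (19, 1), (20, 1), (21, 1), (22, 1), (23, 1), (24, 1), (27, 1), (28, 1), (30, 1), (37, 1), (40, 1), (42, 1), (45, 1), (46, 1), (47, 1), (48, 1), (49, 1)], 0),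
    ([(0, 1), (2, 1), (3, 1), (6, 1), (8, 1), (9, 1), (11, 1), (13, 1), (14, 1), (17, 1), (18, 1), (20, 1), (21, 1), (22, 1), (23, 1), (25, 1), (26, 1), (28, 1), (30, 1), (31, 1), (32, 1), (33, 1), (37, 1), (42, 1), (45, 1), (47, 1), (48, 1), (49, 1)], 0),
    ([(1, 1), (2, 1), (3, 1), (4, 1), (5, 1), (6, 1), (7, 1), (8, 1), (9, 1), (11, 1), (12, 1), (14, 1), (15, 1), (17, 1), (18, 1), (19, 1), (20, 1), (21, 1), (25, 1), (26, 1), (27, 1), (30, 1), (32, 1), (33, 1), (40, 1), (46, 1)], 0),
    ([(0, 1), (1, 1), (4, 1), (5, 1), (7, 1), (12, 1), (13, 1), (15, 1), (19, 1), (22, 1), (23, 1), (24, 1), (25, 1), (26, 1), (27, 1), (28, 1), (31, 1), (37, 1), (40, 1), (42, 1), (45, 1), (46, 1), (47, 1), (48, 1), (49, 1)], 0),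
    ([(6, 1), (7, 1), (8, 1), (11, 1), (12, 1), (15, 1), (16, 1), (22, 1), (25, 1), (27, 1), (30, 1), (31, 1), (33, 1), (36, 1), (39, 1), (43, 1), (44, 1), (45, 1)], 0),
    ([(0, 1), (1, 1), (3, 1), (4, 1), (6, 1), (7, 1), (8, 1), (9, 1), (10, 1), (11, 1), (12, 1), (13, 1), (18, 1), (22, 1), (29, 1), (31, 1)], 0),
    ([(6, 1), (7, 1), (8, 1), (11, 1), (12, 1), (15, 1), (16, 1), (21, 1), (25, 1), (30, 1), (31, 1), (33, 1), (36, 1), (39, 1), (43, 1), (44, 1), (45, 1)], 0),
    ([(3, 1), (5, 1), (6, 1), (8, 1), (9, 1), (10, 1), (11, 1), (15, 1), (18, 1), (19, 1), (21, 1), (24, 1), (25, 1), (27, 1), (37, 1), (40, 1), (42, 1), (45, 1), (46, 1), (47, 1), (48, 1), (49, 1)], 0),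
    ([(0, 1), (2, 1), (5, 1), (10, 1), (13, 1), (14, 1), (15, 1), (17, 1), (19, 1), (20, 1), (21, 1), (22, 1), (25, 1), (27, 1), (29, 1), (31, 1), (32, 1), (33, 1), (40, 1), (46, 1)], 0),
    ([(0, 1), (1, 1), (4, 1), (6, 1), (8, 1), (10, 1), (13, 1), (15, 1), (16, 1), (17, 1), (20, 1), (25, 1), (26, 1), (30, 1), (31, 1)], 0),
    ([(3, 1), (5, 1), (6, 1), (8, 1), (9, 1), (10, 1), (11, 1), (15, 1), (18, 1), (19, 1), (23, 1), (26, 1), (27, 1), (28, 1), (37, 1), (40, 1), (42, 1), (45, 1), (46, 1), (47, 1), (48, 1), (49, 1)], 0),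
    ([(0, 1), (1, 1), (3, 1), (4, 1), (9, 1), (10, 1), (13, 1), (15, 1), (16, 1), (18, 1), (21, 1), (24, 1), (25, 1), (27, 1), (29, 1), (30, 1), (33, 1), (36, 1), (39, 1), (43, 1), (44, 1), (45, 1)], 0)]
  tau := []
  tauCombo := []

/-- The generators. -/
def twoM24Gens : List (List ℕ) := [
  [13, 5, 11, 6, 2, 22, 3, 7, 8, 0, 19, 20, 9, 12, 1, 15, 23, 10, 17, 18, 4, 21, 14, 16],
  [8, 12, 1, 2, 6, 0, 9, 17, 13, 22, 21, 15, 3, 5, 11, 20, 10, 23, 7, 16, 14, 19, 4, 18],
  [1, 9, 15, 12, 14, 20, 4, 18, 0, 8, 23, 22, 5, 6, 13, 11, 19, 21, 16, 7, 3, 10, 2, 17],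
  [11, 1, 13, 15, 12, 5, 8, 23, 6, 20, 10, 0, 4, 2, 14, 3, 21, 17, 18, 19, 9, 16, 22, 7],
  [11, 15, 9, 14, 12, 6, 5, 17, 22, 2, 16, 0, 4, 20, 3, 1, 10, 7, 23, 21, 13, 19, 8, 18],
  [2, 5, 0, 8, 20, 1, 15, 19, 3, 11, 23, 9, 13, 12, 22, 6, 18, 21, 16, 7, 4, 17, 14, 10],
  [13, 14, 12, 15, 9, 22, 8, 10, 6, 4, 7, 20, 2, 0, 1, 3, 17, 16, 21, 23, 11, 18, 5, 19],
  [13, 3, 12, 1, 9, 8, 22, 23, 5, 4, 19, 20, 2, 0, 15, 14, 21, 18, 17, 10, 11, 16, 6, 7],
  [9, 15, 11, 14, 13, 6, 5, 23, 22, 0, 19, 2, 20, 4, 3, 1, 21, 18, 17, 10, 12, 16, 8, 7],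
  [2, 14, 0, 15, 20, 22, 8, 17, 6, 11, 16, 9, 13, 12, 1, 3, 10, 7, 23, 21, 4, 19, 5, 18]]

/-- The conjugating elements. -/
def twoM24Hs : List (List ℕ) := [
  [21, 11, 2, 4, 22, 12, 15, 16, 3, 1, 5, 17, 9, 23, 8, 6, 20, 10, 13, 7, 18, 19, 0, 14],
  [15, 8, 13, 9, 1, 7, 20, 5, 0, 3, 19, 2, 10, 17, 11, 23, 16, 21, 18, 12, 22, 14, 6, 4],
  [18, 21, 19, 7, 6, 20, 16, 11, 9, 17, 12, 10, 8, 15, 2, 13, 14, 5, 4, 1, 3, 0, 23, 22],
  [8, 5, 4, 6, 10, 22, 19, 12, 14, 15, 18, 21, 1, 20, 0, 16, 7, 13, 17, 11, 3, 23, 2, 9],
  [15, 1, 17, 22, 11, 20, 13, 6, 5, 10, 18, 3, 12, 21, 14, 9, 0, 23, 19, 16, 7, 8, 2, 4]]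

/-- The program of the chain. -/
def twoM24Steps : List CfsgLib.Golay.Step := [
  ([0, 1, 2, 3, 4, 5, 6, 7, 8, 9, 10, 11, 12, 13, 14, 15, 16, 17, 18, 19, 20, 21, 22, 23], true, 0, 0),
  ([12, 22, 20, 3, 11, 14, 6, 7, 8, 13, 18, 4, 0, 9, 5, 15, 16, 19, 10, 17, 2, 21, 1, 23], false, 0, 0),
  ([5, 0, 15, 9, 1, 4, 2, 17, 13, 8, 16, 14, 22, 3, 12, 20, 18, 21, 23, 7, 6, 19, 11, 10], false, 1, 0),
  ([6, 20, 22, 4, 15, 2, 12, 18, 0, 1, 7, 3, 8, 5, 9, 11, 17, 23, 21, 16, 14, 10, 13, 19], false, 2, 0),
  ([8, 9, 5, 11, 3, 13, 0, 10, 12, 14, 21, 15, 6, 22, 20, 4, 19, 16, 7, 23, 1, 18, 2, 17], false, 0, 1),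
  ([6, 4, 1, 13, 8, 11, 20, 17, 2, 22, 16, 3, 15, 5, 0, 9, 10, 7, 23, 21, 14, 19, 12, 18], false, 3, 1),
  ([22, 20, 15, 11, 5, 9, 0, 18, 4, 8, 16, 1, 14, 6, 2, 12, 19, 7, 23, 21, 3, 10, 13, 17], false, 8, 1),
  ([9, 8, 11, 5, 13, 3, 14, 16, 1, 0, 17, 2, 20, 4, 6, 22, 7, 10, 19, 18, 12, 23, 15, 21], false, 2, 2),
  ([15, 0, 1, 20, 3, 12, 13, 17, 9, 22, 7, 8, 6, 5, 4, 2, 10, 16, 21, 23, 14, 19, 11, 18], false, 8, 2),
  ([9, 6, 11, 22, 13, 15, 1, 21, 14, 0, 18, 2, 20, 4, 8, 5, 23, 19, 10, 17, 12, 7, 3, 16], false, 5, 4),
  ([11, 22, 13, 8, 4, 5, 15, 18, 6, 20, 16, 0, 12, 9, 14, 3, 17, 21, 23, 7, 2, 10, 1, 19], false, 0, 5),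
  ([5, 13, 15, 4, 22, 2, 12, 18, 11, 8, 21, 14, 1, 6, 9, 0, 19, 23, 7, 16, 3, 10, 20, 17], false, 8, 15),
  ([13, 22, 4, 3, 2, 5, 6, 7, 15, 12, 18, 20, 9, 0, 14, 8, 23, 17, 10, 19, 11, 21, 1, 16], true, 13, 21),
  ([4, 8, 20, 5, 0, 3, 14, 18, 1, 13, 21, 12, 11, 9, 6, 22, 19, 23, 7, 16, 2, 10, 15, 17], false, 6, 19),
  ([13, 1, 12, 3, 9, 5, 6, 19, 8, 4, 23, 20, 2, 0, 14, 15, 18, 21, 16, 7, 11, 17, 22, 10], true, 17, 23),
  ([0, 1, 9, 6, 4, 5, 3, 23, 15, 2, 17, 11, 12, 20, 14, 8, 21, 10, 19, 18, 13, 16, 22, 7], false, 20, 20),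
  ([11, 22, 20, 15, 4, 5, 8, 19, 3, 13, 21, 0, 12, 2, 14, 6, 10, 16, 7, 23, 9, 17, 1, 18], false, 20, 25),
  ([13, 22, 12, 6, 2, 5, 3, 16, 8, 4, 17, 20, 9, 11, 14, 15, 21, 18, 19, 10, 0, 23, 1, 7], false, 22, 25),
  ([13, 1, 4, 6, 9, 5, 3, 10, 15, 12, 21, 20, 2, 11, 14, 8, 17, 23, 7, 16, 0, 18, 22, 19], false, 24, 25),
  ([9, 22, 4, 15, 20, 5, 8, 16, 3, 12, 10, 2, 13, 0, 14, 6, 21, 19, 18, 17, 11, 23, 1, 7], false, 20, 28),
  ([20, 1, 4, 3, 2, 5, 6, 17, 8, 12, 16, 13, 9, 11, 14, 15, 10, 7, 23, 21, 0, 19, 22, 18], false, 20, 29),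
  ([20, 22, 0, 8, 9, 5, 15, 16, 6, 11, 18, 13, 2, 4, 14, 3, 21, 17, 10, 19, 12, 23, 1, 7], false, 24, 20),
  ([12, 1, 20, 6, 11, 5, 3, 21, 15, 13, 10, 4, 0, 9, 14, 8, 23, 17, 18, 19, 2, 7, 22, 16], false, 31, 31)]

/-- The chain. -/
def twoM24Levels : List CfsgLib.Golay.Level := [
  ⟨5, [[0, 1, 2, 3, 4, 5, 6, 7, 8, 9, 10, 11, 12, 13, 14, 15, 16, 17, 18, 19, 20, 21, 22, 23], [13, 5, 11, 6, 2, 22, 3, 7, 8, 0, 19, 20, 9, 12, 1, 15, 23, 10, 17, 18, 4, 21, 14, 16], [8, 12, 1, 2, 6, 0, 9, 17, 13, 22, 21, 15, 3, 5, 11, 20, 10, 23, 7, 16, 14, 19, 4, 18], [1, 9, 15, 12, 14, 20, 4, 18, 0, 8, 23, 22, 5, 6, 13, 11, 19, 21, 16, 7, 3, 10, 2, 17], [11, 15, 9, 14, 12, 6, 5, 17, 22, 2, 16, 0, 4, 20, 3, 1, 10, 7, 23, 21, 13, 19, 8, 18], [2, 5, 0, 8, 20, 1, 15, 19, 3, 11, 23, 9, 13, 12, 22, 6, 18, 21, 16, 7, 4, 17, 14, 10], [13, 3, 12, 1, 9, 8, 22, 23, 5, 4, 19, 20, 2, 0, 15, 14, 21, 18, 17, 10, 11, 16, 6, 7], [12, 22, 20, 3, 11, 14, 6, 7, 8, 13, 18, 4, 0, 9, 5, 15, 16, 19, 10, 17, 2, 21, 1, 23], [5, 0, 15, 9, 1, 4, 2, 17, 13, 8, 16, 14, 22, 3, 12, 20, 18, 21, 23,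 7, 6, 19, 11, 10], [6, 20, 22, 4, 15, 2, 12, 18, 0, 1, 7, 3, 8, 5, 9, 11, 17, 23, 21, 16, 14, 10, 13, 19], [8, 9, 5, 11, 3, 13, 0, 10, 12, 14, 21, 15, 6, 22, 20, 4, 19, 16, 7, 23, 1, 18, 2, 17], [6, 4, 1, 13, 8, 11, 20, 17, 2, 22, 16, 3, 15, 5, 0, 9, 10, 7, 23, 21, 14, 19, 12, 18], [22, 20, 15, 11, 5, 9, 0, 18, 4, 8, 16, 1, 14, 6, 2, 12, 19, 7, 23, 21, 3, 10, 13, 17], [9, 8, 11, 5, 13, 3, 14, 16, 1, 0, 17, 2, 20, 4, 6, 22, 7, 10, 19, 18, 12, 23, 15, 21], [15, 0, 1, 20, 3, 12, 13, 17, 9, 22, 7, 8, 6, 5, 4, 2, 10, 16, 21, 23, 14, 19, 11, 18], [9, 6, 11, 22, 13, 15, 1, 21, 14, 0, 18, 2, 20, 4, 8, 5, 23, 19, 10, 17, 12, 7, 3, 16]], [5, 22, 0, 20, 6, 1, 8, 14, 4, 2, 13, 11, 9, 3, 12, 15]⟩,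
  ⟨19, [[0, 1, 2, 3, 4, 5, 6, 7, 8, 9, 10, 11, 12, 13, 14, 15, 16, 17, 18, 19, 20, 21, 22, 23], [11, 22, 13, 8, 4, 5, 15, 18, 6, 20, 16, 0, 12, 9, 14, 3, 17, 21, 23, 7, 2, 10, 1, 19], [0, 1, 9, 6, 4, 5, 3, 23, 15, 2, 17, 11, 12, 20, 14, 8, 21, 10, 19, 18, 13, 16, 22, 7], [11, 22, 20, 15, 4, 5, 8, 19, 3, 13, 21, 0, 12, 2, 14, 6, 10, 16, 7, 23, 9, 17, 1, 18], [13, 22, 12, 6, 2, 5, 3, 16, 8, 4, 17, 20, 9, 11, 14, 15, 21, 18, 19, 10, 0, 23, 1, 7], [13, 1, 4, 6, 9, 5, 3, 10, 15, 12, 21, 20, 2, 11, 14, 8, 17, 23, 7, 16, 0, 18, 22, 19], [9, 22, 4, 15, 20, 5, 8, 16, 3, 12, 10, 2, 13, 0, 14, 6, 21, 19, 18, 17, 11, 23, 1, 7], [20, 1, 4, 3, 2, 5, 6, 17, 8, 12, 16, 13, 9, 11, 14, 15, 10, 7, 23, 21, 0, 19, 22, 18]], [19, 7, 18, 23, 10, 16, 17, 21]⟩,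
  ⟨21, [[0, 1, 2, 3, 4, 5, 6, 7, 8, 9, 10, 11, 12, 13, 14, 15, 16, 17, 18, 19, 20, 21, 22, 23], [20, 22, 0, 8, 9, 5, 15, 16, 6, 11, 18, 13, 2, 4, 14, 3, 21, 17, 10, 19, 12, 23, 1, 7], [11, 1, 13, 15, 12, 5, 8, 23, 6, 20, 10, 0, 4, 2, 14, 3, 21, 17, 18, 19, 9, 16, 22, 7], [12, 1, 20, 6, 11, 5, 3, 21, 15, 13, 10, 4, 0, 9, 14, 8, 23, 17, 18, 19, 2, 7, 22, 16]], [21, 23, 16, 7]⟩,
  ⟨16, [[0, 1, 2, 3, 4, 5, 6, 7, 8, 9, 10, 11, 12, 13, 14, 15, 16, 17, 18, 19, 20, 21, 22, 23], [13, 22, 4, 3, 2, 5, 6, 7, 15, 12, 18, 20, 9, 0, 14, 8, 23, 17, 10, 19, 11, 21, 1, 16]], [16, 23]⟩]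

/-- The overlaps. -/
def threeM24Overlaps : List (List ℕ × List Schur.Tails.Step × List Schur.Tails.Step) := [
  ([0, 0, 0, 1], [(0, 0, true)], [(2, 3, true), (1, 4, true), (0, 4, true), (3, 4, true), (2, 5, true), (0, 2, true), (0, 5, true), (3, 3, true), (2, 5, true), (1, 5, true), (3, 5, true), (2, 5, true), (0, 2, true), (3, 4, true), (2, 4, true), (1, 5, true), (0, 5, true), (2, 5, true), (1, 5, true), (2, 1, true), (2, 4, true), (0, 2, true), (2, 3, true), (1, 5, true), (2, 5, true), (0, 2, true), (1, 0, true)])]

/-- A conjugation. -/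
def threeM24Fus0 : Schur.Tails.Fus where
  xs := [[0, 0]]
  ys := [[0]]
  rels := [
    ([0, 0, 0], [], [(0, 0, true), (0, 0, true)], [(0, 0, true)])]

/-- A conjugation. -/
def threeM24Fus1 : Schur.Tails.Fus where
  xs := [[1, 1, 0]]
  ys := [[2, 2, 0]]
  rels := [
    ([0, 0, 0], [], [(2, 3, true), (1, 5, true), (0, 5, true), (2, 5, true), (1, 5, true), (4, 3, true), (3, 5, true), (2, 5, true), (0, 2, true), (1, 5, true), (0, 5, true), (4, 3, true), (3, 4, true), (2, 5, true), (1, 5, true), (3, 5, true), (2, 5, true), (0, 2, true), (0, 1, true), (0, 4, true), (4, 3, true), (3, 4, true), (2, 5, true), (0, 2, true), (0, 5, true), (3, 4, true), (2, 5, true), (1, 5, true), (3, 5, true), (2, 5, true), (0, 2, true), (0, 1, true), (0, 0, true)], [(2, 4, true), (0, 2, true), (2, 4, true), (1, 5, true), (2, 5, true), (0, 2, true), (3, 4, true), (2, 4, true), (1, 5, true), (0, 5, true), (2, 5, true), (1, 5, true), (2, 1, true), (2, 4, true), (0, 2, true), (2, 3, true), (1, 5, true), (2, 5, true), (0, 2, true), (2, 4, true), (1, 4, true), (0, 5, true),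 (1, 5, true), (4, 4, true), (3, 5, true), (2, 5, true), (0, 2, true), (1, 5, true), (0, 5, true), (1, 1, true), (1, 3, true), (0, 2, true), (0, 0, true)])]

/-- A conjugation. -/
def threeM24Fus2 : Schur.Tails.Fus where
  xs := [[2, 1]]
  ys := [[2, 2, 1, 0]]
  rels := [
    ([0, 0, 0], [], [(1, 5, true), (3, 5, true), (2, 5, true), (0, 2, true), (0, 1, true)], [(3, 4, true), (2, 5, true), (0, 2, true), (0, 5, true), (3, 4, true), (2, 5, true), (1, 5, true), (3, 5, true), (2, 5, true), (0, 2, true), (0, 1, true), (0, 3, true), (3, 4, true), (2, 4, true), (0, 2, true), (2, 4, true), (1, 5, true), (2, 5, true), (0, 2, true), (2, 3, true), (1, 5, true), (0, 5, true), (2, 5, true), (1, 5, true), (5, 4, true), (4, 4, true), (3, 5, true), (2, 5, true), (0, 2, true), (1, 5, true), (0, 5, true), (1, 1, true), (1, 4, true), (0, 2, true), (1, 3, true), (0, 5, true), (1, 5, true), (4, 3, true), (3, 4, true), (2, 5, true), (0, 2, true), (0, 5, true), (3, 4, true), (2, 5, true), (1, 5, true), (3, 5, true), (2, 5, true), (0, 2, true), (0, 1, true), (0, 0, true)])]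

/-- A conjugation. -/
def threeM24Fus3 : Schur.Tails.Fus where
  xs := [[2, 2, 1, 1, 0]]
  ys := [[2, 2]]
  rels := [
    ([0, 0, 0], [], [(4, 4, true), (3, 5, true), (2, 5, true), (0, 2, true), (1, 5, true), (0, 5, true), (1, 1, true), (1, 4, true), (0, 2, true), (1, 3, true), (0, 5, true), (1, 5, true), (3, 3, true), (2, 5, true), (0, 2, true), (0, 5, true), (3, 4, true), (2, 4, true), (1, 5, true), (2, 5, true), (0, 2, true), (2, 4, true), (1, 5, true), (0, 5, true), (2, 5, true), (1, 5, true), (2, 1, true), (2, 3, true), (0, 2, true), (2, 4, true), (1, 4, true), (0, 2, true), (1, 4, true), (0, 5, true), (1, 5, true), (4, 3, true), (3, 5, true), (2, 5, true), (0, 2, true), (1, 5, true), (0, 5, true), (4, 3, true), (3, 4, true), (2, 5, true), (1, 5, true), (3, 5, true), (2, 5, true), (0, 2, true), (0, 1, true), (0, 4, true), (4, 3, true), (3, 4, true), (2, 5, true), (0, 2, true), (0, 5, true), (3, 4, true), (2, 5, true), (1, 5, true), (3, 5, true), (2, 5, true), (0, 2, true), (0, 1, true), (0, 0, true)], [(0, 2, true), (0, 2, true)])]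

/-- The certificate. -/
def threeM24Cert : Schur.Tails.Cert where
  p := 3
  q := 3
  n := 3
  rels := [
    ([0, 0, 0], []),
    ([1, 1, 1], []),
    ([2, 2, 2], []),
    ([0, 1], [2, 2, 0]),
    ([0, 2], [2, 2, 1, 0]),
    ([1, 2], [2, 1])]
  overlaps := threeM24Overlaps
  fus := [threeM24Fus0, threeM24Fus1, threeM24Fus2, threeM24Fus3]
  mu := [[], [0, 0, 0, 2], []]
  combos := [
    ([(1, 1)], 0),
    ([(0, 1), (1, 1), (4, 2)], 0),
    ([(0, 1), (1, 2), (4, 1)], 0),
    ([], 0),
    ([(1, 1), (3, 2), (4, 1)], 0),
    ([(0, 2), (1, 2), (2, 1), (3, 2)], 0)]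
  tau := []
  tauCombo := []

/-- The generators. -/
def threeM24Gens : List (List ℕ) := [
  [23, 2, 11, 6, 9, 0, 13, 12, 22, 17, 21, 1, 15, 3, 10, 7, 18, 4, 19, 16, 8, 14, 20, 5],
  [18, 16, 5, 6, 17, 11, 13, 8, 15, 4, 22, 2, 21, 3, 12, 7, 19, 9, 23, 1, 10, 14, 20, 0],
  [11, 0, 16, 13, 9, 19, 3, 22, 20, 17, 14, 1, 7, 6, 15, 10, 18, 4, 2, 23, 21, 8, 12, 5]]

/-- The conjugating elements. -/
def threeM24Hs : List (List ℕ) := [
  [16, 4, 17, 2, 8, 18, 1, 0, 6, 20, 12, 9, 5, 11, 15, 23, 21, 22, 10, 14, 13, 7, 3, 19],
  [21, 2, 15, 17, 18, 12, 11, 7, 3, 1, 13, 0, 6, 9, 22, 23, 20, 5, 10, 19, 8, 16, 4, 14],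
  [2, 1, 18, 3, 12, 0, 10, 22, 19, 8, 5, 14, 16, 6, 21, 17, 7, 13, 23, 11, 15, 4, 9, 20],
  [8, 20, 12, 16, 14, 3, 2, 11, 9, 10, 0, 13, 19, 18, 17, 4, 21, 15, 7, 6, 23, 5, 1, 22]]

/-- The program of the chain. -/
def threeM24Steps : List CfsgLib.Golay.Step := [
  ([0, 1, 2, 3, 4, 5, 6, 7, 8, 9, 10, 11, 12, 13, 14, 15, 16, 17, 18, 19, 20, 21, 22, 23], true, 0, 0),
  ([2, 5, 19, 6, 4, 18, 13, 8, 22, 9, 21, 11, 15, 3, 12, 14, 16, 17, 1, 0, 10, 20, 7, 23], true, 0, 2),
  ([2, 18, 19, 3, 4, 1, 6, 20, 10, 9, 12, 16, 8, 13, 7, 22, 23, 17, 5, 0, 14, 15, 21, 11], false, 2, 1),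
  ([19, 18, 0, 13, 4, 1, 3, 22, 7, 9, 20, 11, 14, 6, 15, 12, 16, 17, 5, 2, 21, 10, 8, 23], false, 0, 1),
  ([19, 5, 0, 3, 4, 18, 6, 14, 12, 9, 8, 23, 10, 13, 20, 21, 11, 17, 1, 2, 7, 22, 15, 16], false, 5, 5)]

/-- The chain. -/
def threeM24Levels : List CfsgLib.Golay.Level := [
  ⟨4, [[0, 1, 2, 3, 4, 5, 6, 7, 8, 9, 10, 11, 12, 13, 14, 15, 16, 17, 18, 19, 20, 21, 22, 23], [23, 2, 11, 6, 9, 0, 13, 12, 22, 17, 21, 1, 15, 3, 10, 7, 18, 4, 19, 16, 8, 14, 20, 5], [18, 16, 5, 6, 17, 11, 13, 8, 15, 4, 22, 2, 21, 3, 12, 7, 19, 9, 23, 1, 10, 14, 20, 0]], [4, 9, 17]⟩,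
  ⟨3, [[0, 1, 2, 3, 4, 5, 6, 7, 8, 9, 10, 11, 12, 13, 14, 15, 16, 17, 18, 19, 20, 21, 22, 23], [2, 5, 19, 6, 4, 18, 13, 8, 22, 9, 21, 11, 15, 3, 12, 14, 16, 17, 1, 0, 10, 20, 7, 23], [19, 18, 0, 13, 4, 1, 3, 22, 7, 9, 20, 11, 14, 6, 15, 12, 16, 17, 5, 2, 21, 10, 8, 23]], [3, 6, 13]⟩,
  ⟨11, [[0, 1, 2, 3, 4, 5, 6, 7, 8, 9, 10, 11, 12, 13, 14, 15, 16, 17, 18, 19, 20, 21, 22, 23], [2, 18, 19, 3, 4, 1, 6, 20, 10, 9, 12, 16, 8, 13, 7, 22, 23, 17, 5, 0, 14, 15, 21, 11], [19, 5, 0, 3, 4, 18, 6, 14, 12, 9, 8, 23, 10, 13, 20, 21, 11, 17, 1, 2, 7, 22, 15, 16]], [11, 16, 23]⟩]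

end CfsgLib.TailsData
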