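import Cfsg.Agent.Lib.Tails.McLFiveData
import Cfsg.Agent.Lib.Rigid.McLData

/-!
# The checks of the certificate at 5 for the multiplier of McL
-/

set_option autoImplicit false
set_option maxRecDepth 100000
set_option maxHeartbeats 0

namespace CfsgLib.Schur.Tails.RigidCert.McL

open CfsgLib.TailsData

theorem five_cert : fiveMcLTailCert.checkB = true := by decide +kernel

theorem five_data : primeB CfsgLib.Rigid.McL.data.one
    [CfsgLib.Rigid.McL.data.u, CfsgLib.Rigid.McL.data.v, CfsgLib.Rigid.McL.data.w]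
    fiveMcLTailOps fiveMcLTailGi fiveMcLTailHi fiveMcLTailLayers fiveMcLTailCert = true := by decide +kernel

theorem five_sizes : fiveMcLTailCert.p = 5 ∧ fiveMcLTailCert.q = 5 ∧ fiveMcLTailCert.n = 3 ∧ fiveMcLTailCert.tau = [] := by
  refine ⟨?_, ?_, ?_, ?_⟩ <;> decide +kernel

end CfsgLib.Schur.Tails.RigidCert.McL
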