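import Cfsg.Agent.Lib.Tails.CodTable

/-!
Generated data: a table for the threefold cover of McL.
-/

set_option autoImplicit false
set_option maxRecDepth 100000

namespace CfsgLib.TailsData

open CfsgLib
open CfsgLib.Schur.Tails.PermTable (Tree)
open CfsgLib.Schur.Tails.PermTable.Tree (L N)

/-- A table. -/
def mclReps : Tree :=
  (N (N (N (N (N (N (N (N (N (N (N (N (N (N (L 0)
 (L 22016))
 (N (L 9832)
 (L 38427)))
 (N (N (L 4688)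
 (L 29258))
 (N (L 15451)
 (L 51465))))
 (N (N (N (L 2326)
 (L 25635))
 (N (L 12640)
 (L 44349)))
 (N (N (L 7225)
 (L 33572))
 (N (L 18510)
 (L 66378)))))
 (N (N (N (N (L 1087)
 (L 23662))
 (N (L 11298)
 (L 41297)))
 (N (N (L 5962)
 (L 31304))
 (N (L 16977)
 (L 56904))))
 (N (N (N (L 3427)
 (L 27439))
 (N (L 14114)
 (L 47707)))
 (N (N (L 8512)
 (L 35865))
 (L 20242)))))
 (N (N (N (N (N (L 542)
 (L 22850))
 (N (L 10561)
 (L 39765)))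
 (N (N (L 5395)
 (L 30271))
 (N (L 16218)
 (L 54035))))
 (N (N (N (L 2876)
 (L 26477))
 (N (L 13381)
 (L 45927)))
 (N (N (L 7940)
 (L 34648))
 (L 19293))))
 (N (N (N (N (L 1634)
 (L 24648))
 (N (L 12038)
 (L 42805)))
 (N (N (L 6668)
 (L 32346))
 (N (L 17745)
 (L 60247))))
 (N (N (N (L 4129)
 (L 28269))
 (N (L 14854)
 (L 49463)))
 (N (N (L 9246)
 (L 37134))
 (L 21036))))))
 (N (N (N (N (N (N (L 271)
 (L 22356))
 (N (L 10266)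
 (L 39019)))
 (N (N (L 4970)
 (L 29757))
 (N (L 15907)
 (L 52591))))
 (N (N (N (L 2601)
 (L 26126))
 (N (L 13086)
 (L 45135)))
 (N (N (L 7509)
 (L 34086))
 (L 18969))))
 (N (N (N (N (L 1359)
 (L 24153))
 (N (L 11595)
 (L 42057)))
 (N (N (L 6243)
 (L 31822))
 (N (L 17440)
 (L 58453))))
 (N (N (N (L 3847)
 (L 27924))
 (N (L 14409)
 (L 48494)))
 (N (N (L 8804)
 (L 36427))
 (L 20577)))))
 (N (N (N (N (N (L 815)
 (L 23316))
 (N (L 10859)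
 (L 40536)))
 (N (N (L 5679)
 (L 30781))
 (N (L 16666)
 (L 55368))))
 (N (N (N (L 3150)
 (L 26959))
 (N (L 13678)
 (L 46890)))
 (N (N (L 8224)
 (L 35178))
 (L 19776))))
 (N (N (N (N (L 2053)
 (L 25128))
 (N (L 12336)
 (L 43557)))
 (N (N (L 6948)
 (L 33028))
 (N (L 18195)
 (L 62820))))
 (N (N (N (L 4409)
 (L 28764))
 (N (L 15153)
 (L 50282)))
 (N (N (L 9540)
 (L 37701))
 (L 21526)))))))
 (N (N (N (N (N (N (N (L 64)
 (L 22106))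
 (N (L 10052)
 (L 38710)))
 (N (N (L 4899)
 (L 29505))
 (N (L 15680)
 (L 52056))))
 (N (N (N (L 2393)
 (L 25878))
 (N (L 12863)
 (L 44819)))
 (N (N (L 7438)
 (L 33828))
 (L 18739))))
 (N (N (N (N (L 1294)
 (L 23913))
 (N (L 11374)
 (L 41744)))
 (N (N (L 6176)
 (L 31557))
 (N (L 17213)
 (L 57654))))
 (N (N (N (L 3634)
 (L 27679))
 (N (L 14191)
 (L 48157)))
 (N (N (L 8726)
 (L 36155))
 (L 20482)))))
 (N (N (N (N (N (L 607)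
 (L 23075))
 (N (L 10780)
 (L 40211)))
 (N (N (L 5467)
 (L 30532))
 (N (L 16443)
 (L 54636))))
 (N (N (N (L 3084)
 (L 26721))
 (N (L 13600)
 (L 46403)))
 (N (N (L 8011)
 (L 34913))
 (L 19535))))
 (N (N (N (N (L 1842)
 (L 24878))
 (N (L 12118)
 (L 43107)))
 (N (N (L 6735)
 (L 32604))
 (N (L 17968)
 (L 61544))))
 (N (N (N (L 4198)
 (L 28515))
 (N (L 14930)
 (L 49967)))
 (N (N (L 9319)
 (L 37414))
 (L 21279))))))
 (N (N (N (N (N (N (L 335)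
 (L 22595))
 (N (L 10346)
 (L 39447)))
 (N (N (L 5184)
 (L 30016))
 (N (L 16134)
 (L 53322))))
 (N (N (N (L 2667)
 (L 26379))
 (N (L 13167)
 (L 45584)))
 (N (N (L 7728)
 (L 34372))
 (L 19210))))
 (N (N (N (N (L 1568)
 (L 24400))
 (N (L 11818)
 (L 42348)))
 (N (N (L 6456)
 (L 32087))
 (N (L 17665)
 (L 59441))))
 (N (N (N (L 3918)
 (L 28164))
 (N (L 14633)
 (L 48972)))
 (N (N (L 9025)
 (L 36700))
 (L 20807)))))
 (N (N (N (N (N (L 879)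
 (L 23559))
 (N (L 11082)
 (L 40991)))
 (N (N (L 5891)
 (L 31040))
 (N (L 16752)
 (L 56151))))
 (N (N (N (L 3359)
 (L 27189))
 (N (L 13898)
 (L 47365)))
 (N (N (L 8299)
 (L 35595))
 (L 20013))))
 (N (N (N (N (L 2118)
 (L 25382))
 (N (L 12558)
 (L 43862)))
 (N (N (L 7014)
 (L 33305))
 (N (L 18280)
 (L 64330))))
 (N (N (N (L 4619)
 (L 29011))
 (N (L 15371)
 (L 50974)))
 (N (N (L 9755)
 (L 37996))
 (L 21774))))))))
 (N (N (N (N (N (N (N (N (L 32)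
 (L 22058))
 (N (L 10013)
 (L 38499)))
 (N (N (L 4866)
 (L 29452))
 (N (L 15637)
 (L 51779))))
 (N (N (N (L 2359)
 (L 25684))
 (N (L 12823)
 (L 44584)))
 (N (N (L 7262)
 (L 33630))
 (N (L 18691)
 (L 68413)))))
 (N (N (N (N (L 1119)
 (L 23858))
 (N (L 11338)
 (L 41516)))
 (N (N (L 5997)
 (L 31505))
 (N (L 17167)
 (L 57188))))
 (N (N (N (L 3602)
 (L 27488))
 (N (L 14153)
 (L 47926)))
 (N (N (L 8547)
 (L 35932))
 (L 20291)))))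
 (N (N (N (N (N (L 574)
 (L 22891))
 (N (L 10603)
 (L 39984)))
 (N (N (L 5430)
 (L 30469))
 (N (L 16401)
 (L 54335))))
 (N (N (N (L 2908)
 (L 26675))
 (N (L 13420)
 (L 46166)))
 (N (N (L 7972)
 (L 34843))
 (L 19485))))
 (N (N (N (N (L 1809)
 (L 24835))
 (N (L 12076)
 (L 43019)))
 (N (N (L 6702)
 (L 32542))
 (N (L 17927)
 (L 60945))))
 (N (N (N (L 4164)
 (L 28465))
 (N (L 14890)
 (L 49724)))
 (N (N (L 9282)
 (L 37210))
 (L 21094))))))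
 (N (N (N (N (N (N (L 303)
 (L 22544))
 (N (L 10304)
 (L 39239)))
 (N (N (L 5148)
 (L 29953))
 (N (L 15948)
 (L 53027))))
 (N (N (N (L 2634)
 (L 26187))
 (N (L 13121)
 (L 45357)))
 (N (N (L 7688)
 (L 34147))
 (L 19018))))
 (N (N (N (N (L 1392)
 (L 24348))
 (N (L 11632)
 (L 42266)))
 (N (N (L 6421)
 (L 32021))
 (N (L 17485)
 (L 58932))))
 (N (N (N (L 3884)
 (L 27974))
 (N (L 14592)
 (L 48742)))
 (N (N (L 8983)
 (L 36643))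
 (L 20763)))))
 (N (N (N (N (N (L 847)
 (L 23366))
 (N (L 11041)
 (L 40763)))
 (N (N (L 5716)
 (L 30977))
 (N (L 16712)
 (L 55835))))
 (N (N (N (L 3183)
 (L 27149))
 (N (L 13859)
 (L 47144)))
 (N (N (L 8261)
 (L 35393))
 (L 19817))))
 (N (N (N (N (L 2085)
 (L 25186))
 (N (L 12378)
 (L 43631)))
 (N (N (L 6981)
 (L 33098))
 (N (L 18240)
 (L 63553))))
 (N (N (N (L 4443)
 (L 28965))
 (N (L 15191)
 (L 50718)))
 (N (N (L 9575)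
 (L 37923))
 (L 21578)))))))
 (N (N (N (N (N (N (N (L 96)
 (L 22305))
 (N (L 10089)
 (L 38930)))
 (N (N (L 4933)
 (L 29696))
 (N (L 15720)
 (L 52328))))
 (N (N (N (L 2568)
 (L 25931))
 (N (L 12905)
 (L 44895)))
 (N (N (L 7474)
 (L 33890))
 (L 18782))))
 (N (N (N (N (L 1326)
 (L 24102))
 (N (L 11558)
 (L 41830)))
 (N (N (L 6209)
 (L 31762))
 (N (L 17256)
 (L 58117))))
 (N (N (N (L 3669)
 (L 27729))
 (N (L 14372)
 (L 48409)))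
 (N (N (L 8769)
 (L 36361))
 (L 20528)))))
 (N (N (N (N (N (L 783)
 (L 23127))
 (N (L 10820)
 (L 40451)))
 (N (N (L 5644)
 (L 30726))
 (N (L 16483)
 (L 55057))))
 (N (N (N (L 3117)
 (L 26915))
 (N (L 13640)
 (L 46657)))
 (N (N (L 8047)
 (L 35124))
 (L 19730))))
 (N (N (N (N (L 1876)
 (L 24938))
 (N (L 12298)
 (L 43318)))
 (N (N (L 6912)
 (L 32820))
 (N (L 18011)
 (L 62031))))
 (N (N (N (L 4375)
 (L 28712))
 (N (L 15110)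
 (L 50191)))
 (N (N (L 9502)
 (L 37637))
 (L 21332))))))
 (N (N (N (N (N (N (L 367)
 (L 22791))
 (N (L 10523)
 (L 39534)))
 (N (N (L 5218)
 (L 30213))
 (N (L 16180)
 (L 53591))))
 (N (N (N (L 2843)
 (L 26426))
 (N (L 13346)
 (L 45674)))
 (N (N (L 7763)
 (L 34581))
 (L 19254))))
 (N (N (N (N (L 1601)
 (L 24594))
 (N (L 11856)
 (L 42579)))
 (N (N (L 6491)
 (L 32277))
 (N (L 17703)
 (L 59749))))
 (N (N (N (L 3951)
 (L 28217))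
 (N (L 14672)
 (L 49200)))
 (N (N (L 9061)
 (L 36923))
 (L 20995)))))
 (N (N (N (N (N (L 1055)
 (L 23616))
 (N (L 11119)
 (L 41221)))
 (N (N (L 5927)
 (L 31242))
 (N (L 16935)
 (L 56614))))
 (N (N (N (L 3393)
 (L 27248))
 (N (L 13934)
 (L 47465)))
 (N (N (L 8477)
 (L 35664))
 (L 20056))))
 (N (N (N (N (L 2150)
 (L 25444))
 (N (L 12597)
 (L 44094)))
 (N (N (L 7193)
 (L 33368))
 (N (L 18470)
 (L 65346))))
 (N (N (N (L 4652)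
 (L 29210))
 (N (L 15413)
 (L 51219)))
 (N (N (L 9793)
 (L 38208))
 (L 21825)))))))))
 (N (N (N (N (N (N (N (N (N (L 16)
 (L 22035))
 (N (L 9994)
 (L 38457)))
 (N (N (L 4706)
 (L 29284))
 (N (L 15471)
 (L 51560))))
 (N (N (N (L 2343)
 (L 25660))
 (N (L 12805)
 (L 44400)))
 (N (N (L 7243)
 (L 33604))
 (N (L 18528)
 (L 67176)))))
 (N (N (N (N (L 1103)
 (L 23832))
 (N (L 11319)
 (L 41473)))
 (N (N (L 5980)
 (L 31331))
 (N (L 17001)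
 (L 57129))))
 (N (N (N (L 3586)
 (L 27468))
 (N (L 14133)
 (L 47888)))
 (N (N (L 8530)
 (L 35905))
 (L 20266)))))
 (N (N (N (N (N (L 558)
 (L 22871))
 (N (L 10584)
 (L 39948)))
 (N (N (L 5413)
 (L 30296))
 (N (L 16236)
 (L 54121))))
 (N (N (N (L 2892)
 (L 26648))
 (N (L 13401)
 (L 46117)))
 (N (N (L 7956)
 (L 34670))
 (L 19463))))
 (N (N (N (N (L 1793)
 (L 24672))
 (N (L 12055)
 (L 42840)))
 (N (N (L 6685)
 (L 32368))
 (N (L 17765)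
 (L 60676))))
 (N (N (N (L 4147)
 (L 28442))
 (N (L 14871)
 (L 49510)))
 (N (N (L 9265)
 (L 37175))
 (L 21066))))))
 (N (N (N (N (N (N (L 287)
 (L 22376))
 (N (L 10284)
 (L 39202)))
 (N (N (L 5132)
 (L 29783))
 (N (L 15926)
 (L 52823))))
 (N (N (N (L 2617)
 (L 26157))
 (N (L 13103)
 (L 45313)))
 (N (N (L 7527)
 (L 34112))
 (L 18998))))
 (N (N (N (N (L 1376)
 (L 24323))
 (N (L 11614)
 (L 42086)))
 (N (N (L 6403)
 (L 31852))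
 (N (L 17460)
 (L 58704))))
 (N (N (N (L 3863)
 (L 27949))
 (N (L 14431)
 (L 48687)))
 (N (N (L 8966)
 (L 36609))
 (L 20739)))))
 (N (N (N (N (N (L 831)
 (L 23339))
 (N (L 11023)
 (L 40725)))
 (N (N (L 5696)
 (L 30812))
 (N (L 16691)
 (L 55624))))
 (N (N (N (L 3167)
 (L 26984))
 (N (L 13840)
 (L 46945)))
 (N (N (L 8240)
 (L 35349))
 (L 19797))))
 (N (N (N (N (L 2069)
 (L 25155))
 (N (L 12358)
 (L 43596)))
 (N (N (L 6964)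
 (L 33053))
 (N (L 18216)
 (L 63242))))
 (N (N (N (L 4426)
 (L 28939))
 (N (L 15172)
 (L 50495)))
 (N (N (L 9558)
 (L 37736))
 (L 21548)))))))
 (N (N (N (N (N (N (N (L 80)
 (L 22278))
 (N (L 10072)
 (L 38752)))
 (N (N (L 4916)
 (L 29530))
 (N (L 15698)
 (L 52273))))
 (N (N (N (L 2409)
 (L 25902))
 (N (L 12886)
 (L 44861)))
 (N (N (L 7457)
 (L 33864))
 (L 18758))))
 (N (N (N (N (L 1310)
 (L 24078))
 (N (L 11538)
 (L 41791)))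
 (N (N (L 6192)
 (L 31587))
 (N (L 17233)
 (L 57911))))
 (N (N (N (L 3652)
 (L 27702))
 (N (L 14352)
 (L 48195)))
 (N (N (L 8751)
 (L 36182))
 (L 20507)))))
 (N (N (N (N (N (L 623)
 (L 23103))
 (N (L 10800)
 (L 40255)))
 (N (N (L 5484)
 (L 30559))
 (N (L 16462)
 (L 54863))))
 (N (N (N (L 3101)
 (L 26887))
 (N (L 13619)
 (L 46608)))
 (N (N (L 8030)
 (L 35094))
 (L 19559))))
 (N (N (N (N (L 1858)
 (L 24908))
 (N (L 12137)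
 (L 43282)))
 (N (N (L 6752)
 (L 32787))
 (N (L 17989)
 (L 61805))))
 (N (N (N (L 4358)
 (L 28685))
 (N (L 14948)
 (L 50012)))
 (N (N (L 9479)
 (L 37451))
 (L 21309))))))
 (N (N (N (N (N (N (L 351)
 (L 22621))
 (N (L 10506)
 (L 39484)))
 (N (N (L 5201)
 (L 30037))
 (N (L 16156)
 (L 53527))))
 (N (N (N (L 2826)
 (L 26401))
 (N (L 13328)
 (L 45619)))
 (N (N (L 7745)
 (L 34404))
 (L 19231))))
 (N (N (N (N (L 1585)
 (L 24431))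
 (N (L 11839)
 (L 42527)))
 (N (N (L 6474)
 (L 32109))
 (N (L 17685)
 (L 59666))))
 (N (N (N (L 3934)
 (L 28197))
 (N (L 14652)
 (L 49008)))
 (N (N (L 9043)
 (L 36884))
 (L 20829)))))
 (N (N (N (N (N (L 1038)
 (L 23583))
 (N (L 11102)
 (L 41039)))
 (N (N (L 5909)
 (L 31064))
 (N (L 16916)
 (L 56392))))
 (N (N (N (L 3376)
 (L 27224))
 (N (L 13915)
 (L 47411)))
 (N (N (L 8458)
 (L 35632))
 (L 20036))))
 (N (N (N (N (L 2134)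
 (L 25415))
 (N (L 12578)
 (L 44051)))
 (N (N (L 7174)
 (L 33339))
 (N (L 18442)
 (L 64826))))
 (N (N (N (L 4635)
 (L 29034))
 (N (L 15393)
 (L 51022)))
 (N (N (L 9775)
 (L 38171))
 (L 21798))))))))
 (N (N (N (N (N (N (N (N (L 48)
 (L 22077))
 (N (L 10032)
 (L 38672)))
 (N (N (L 4883)
 (L 29482))
 (N (L 15660)
 (L 52016))))
 (N (N (N (L 2376)
 (L 25711))
 (N (L 12843)
 (L 44640)))
 (N (N (L 7278)
 (L 33799))
 (L 18711))))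
 (N (N (N (N (L 1135)
 (L 23885))
 (N (L 11358)
 (L 41562)))
 (N (N (L 6158)
 (L 31534))
 (N (L 17187)
 (L 57441))))
 (N (N (N (L 3618)
 (L 27657))
 (N (L 14171)
 (L 47976)))
 (N (N (L 8709)
 (L 36123))
 (L 20312)))))
 (N (N (N (N (N (L 591)
 (L 23055))
 (N (L 10763)
 (L 40026)))
 (N (N (L 5449)
 (L 30500))
 (N (L 16420)
 (L 54556))))
 (N (N (N (L 2924)
 (L 26699))
 (N (L 13582)
 (L 46359)))
 (N (N (L 7992)
 (L 34876))
 (L 19512))))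
 (N (N (N (N (L 1825)
 (L 24856))
 (N (L 12095)
 (L 43062)))
 (N (N (L 6718)
 (L 32575))
 (N (L 17949)
 (L 61247))))
 (N (N (N (L 4181)
 (L 28490))
 (N (L 14909)
 (L 49764)))
 (N (N (L 9301)
 (L 37386))
 (L 21258))))))
 (N (N (N (N (N (N (L 319)
 (L 22566))
 (N (L 10328)
 (L 39277)))
 (N (N (L 5166)
 (L 29989))
 (N (L 15970)
 (L 53104))))
 (N (N (N (L 2651)
 (L 26212))
 (N (L 13147)
 (L 45402)))
 (N (N (L 7707)
 (L 34333))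
 (L 19036))))
 (N (N (N (N (L 1552)
 (L 24368))
 (N (L 11795)
 (L 42303)))
 (N (N (L 6439)
 (L 32054))
 (N (L 17503)
 (L 59178))))
 (N (N (N (L 3900)
 (L 27999))
 (N (L 14614)
 (L 48929)))
 (N (N (L 9006)
 (L 36672))
 (L 20784)))))
 (N (N (N (N (N (L 863)
 (L 23391))
 (N (L 11063)
 (L 40805)))
 (N (N (L 5732)
 (L 31009))
 (N (L 16735)
 (L 55910))))
 (N (N (N (L 3343)
 (L 27170))
 (N (L 13877)
 (L 47190)))
 (N (N (L 8282)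
 (L 35425))
 (L 19983))))
 (N (N (N (N (L 2101)
 (L 25356))
 (N (L 12397)
 (L 43813)))
 (N (N (L 6997)
 (L 33124))
 (N (L 18261)
 (L 63826))))
 (N (N (N (L 4459)
 (L 28984))
 (N (L 15209)
 (L 50763)))
 (N (N (L 9738)
 (L 37954))
 (L 21606)))))))
 (N (N (N (N (N (N (N (L 112)
 (L 22330))
 (N (L 10250)
 (L 38970)))
 (N (N (L 4954)
 (L 29728))
 (N (L 15884)
 (L 52534))))
 (N (N (N (L 2585)
 (L 25960))
 (N (L 13066)
 (L 45085)))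
 (N (N (L 7493)
 (L 34062))
 (L 18949))))
 (N (N (N (N (L 1342)
 (L 24128))
 (N (L 11576)
 (L 42008)))
 (N (N (L 6225)
 (L 31796))
 (N (L 17417)
 (L 58204))))
 (N (N (N (L 3686)
 (L 27755))
 (N (L 14390)
 (L 48446)))
 (N (N (L 8786)
 (L 36390))
 (L 20551)))))
 (N (N (N (N (N (L 799)
 (L 23148))
 (N (L 10841)
 (L 40498)))
 (N (N (L 5662)
 (L 30755))
 (N (L 16645)
 (L 55145))))
 (N (N (N (L 3133)
 (L 26935))
 (N (L 13659)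
 (L 46698)))
 (N (N (L 8208)
 (L 35153))
 (L 19753))))
 (N (N (N (N (L 1892)
 (L 25104))
 (N (L 12316)
 (L 43363)))
 (N (N (L 6931)
 (L 32848))
 (N (L 18030)
 (L 62501))))
 (N (N (N (L 4392)
 (L 28744))
 (N (L 15135)
 (L 50235)))
 (N (N (L 9521)
 (L 37666))
 (L 21359))))))
 (N (N (N (N (N (N (L 526)
 (L 22822))
 (N (L 10542)
 (L 39724)))
 (N (N (L 5377)
 (L 30245))
 (N (L 16198)
 (L 53812))))
 (N (N (N (L 2860)
 (L 26455))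
 (N (L 13364)
 (L 45860)))
 (N (N (L 7780)
 (L 34606))
 (L 19276))))
 (N (N (N (N (L 1618)
 (L 24619))
 (N (L 11876)
 (L 42760)))
 (N (N (L 6508)
 (L 32314))
 (N (L 17722)
 (L 59989))))
 (N (N (N (L 4112)
 (L 28243))
 (N (L 14691)
 (L 49256)))
 (N (N (L 9226)
 (L 36952))
 (L 21013)))))
 (N (N (N (N (N (L 1071)
 (L 23641))
 (N (L 11282)
 (L 41258)))
 (N (N (L 5943)
 (L 31280))
 (N (L 16955)
 (L 56680))))
 (N (N (N (L 3410)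
 (L 27416))
 (N (L 14095)
 (L 47663)))
 (N (N (L 8493)
 (L 35841))
 (L 20077))))
 (N (N (N (N (L 2310)
 (L 25611))
 (N (L 12619)
 (L 44300)))
 (N (N (L 7209)
 (L 33538))
 (N (L 18490)
 (L 65861))))
 (N (N (N (L 4670)
 (L 29235))
 (N (L 15433)
 (L 51273)))
 (N (N (L 9812)
 (L 38241))
 (L 21851))))))))))
 (N (N (N (N (N (N (N (N (N (N (L 8)
 (L 22026))
 (N (L 9985)
 (L 38441)))
 (N (N (L 4698)
 (L 29274))
 (N (L 15459)
 (L 51512))))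
 (N (N (N (L 2335)
 (L 25646))
 (N (L 12651)
 (L 44375)))
 (N (N (L 7233)
 (L 33584))
 (N (L 18518)
 (L 66820)))))
 (N (N (N (N (L 1095)
 (L 23820))
 (N (L 11309)
 (L 41314)))
 (N (N (L 5971)
 (L 31315))
 (N (L 16989)
 (L 56935))))
 (N (N (N (L 3435)
 (L 27451))
 (N (L 14124)
 (L 47727)))
 (N (N (L 8522)
 (L 35890))
 (L 20256)))))
 (N (N (N (N (N (L 550)
 (L 22860))
 (N (L 10572)
 (L 39784)))
 (N (N (L 5404)
 (L 30284))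
 (N (L 16227)
 (L 54083))))
 (N (N (N (L 2884)
 (L 26636))
 (N (L 13391)
 (L 46094)))
 (N (N (L 7948)
 (L 34661))
 (L 19305))))
 (N (N (N (N (L 1642)
 (L 24662))
 (N (L 12047)
 (L 42820)))
 (N (N (L 6677)
 (L 32358))
 (N (L 17757)
 (L 60460))))
 (N (N (N (L 4138)
 (L 28424))
 (N (L 14862)
 (L 49494)))
 (N (N (L 9254)
 (L 37151))
 (L 21051))))))
 (N (N (N (N (N (N (L 279)
 (L 22367))
 (N (L 10274)
 (L 39184)))
 (N (N (L 5121)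
 (L 29771))
 (N (L 15915)
 (L 52769))))
 (N (N (N (L 2609)
 (L 26139))
 (N (L 13095)
 (L 45147)))
 (N (N (L 7518)
 (L 34100))
 (L 18986))))
 (N (N (N (N (L 1367)
 (L 24169))
 (N (L 11604)
 (L 42068)))
 (N (N (L 6251)
 (L 31841))
 (N (L 17449)
 (L 58652))))
 (N (N (N (L 3855)
 (L 27939))
 (N (L 14420)
 (L 48672)))
 (N (N (L 8813)
 (L 36443))
 (L 20587)))))
 (N (N (N (N (N (L 823)
 (L 23325))
 (N (L 11014)
 (L 40559)))
 (N (N (L 5687)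
 (L 30794))
 (N (L 16676)
 (L 55402))))
 (N (N (N (L 3158)
 (L 26972))
 (N (L 13832)
 (L 46923)))
 (N (N (L 8232)
 (L 35335))
 (L 19786))))
 (N (N (N (N (L 2061)
 (L 25140))
 (N (L 12346)
 (L 43574)))
 (N (N (L 6956)
 (L 33038))
 (N (L 18207)
 (L 63016))))
 (N (N (N (L 4417)
 (L 28783))
 (N (L 15162)
 (L 50462)))
 (N (N (L 9549)
 (L 37713))
 (L 21535)))))))
 (N (N (N (N (N (N (N (L 72)
 (L 22118))
 (N (L 10062)
 (L 38723)))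
 (N (N (L 4908)
 (L 29517))
 (N (L 15690)
 (L 52239))))
 (N (N (N (L 2401)
 (L 25891))
 (N (L 12875)
 (L 44840)))
 (N (N (L 7447)
 (L 33848))
 (L 18748))))
 (N (N (N (N (L 1302)
 (L 24065))
 (N (L 11527)
 (L 41763)))
 (N (N (L 6184)
 (L 31570))
 (N (L 17224)
 (L 57705))))
 (N (N (N (L 3643)
 (L 27692))
 (N (L 14343)
 (L 48176)))
 (N (N (L 8738)
 (L 36167))
 (L 20493)))))
 (N (N (N (N (N (L 615)
 (L 23091))
 (N (L 10789)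
 (L 40234)))
 (N (N (L 5476)
 (L 30547))
 (N (L 16453)
 (L 54813))))
 (N (N (N (L 3093)
 (L 26732))
 (N (L 13609)
 (L 46440)))
 (N (N (L 8019)
 (L 34927))
 (L 19546))))
 (N (N (N (N (L 1850)
 (L 24892))
 (N (L 12128)
 (L 43264)))
 (N (N (L 6743)
 (L 32624))
 (N (L 17979)
 (L 61750))))
 (N (N (N (L 4206)
 (L 28528))
 (N (L 14939)
 (L 49985)))
 (N (N (L 9327)
 (L 37430))
 (L 21296))))))
 (N (N (N (N (N (N (L 343)
 (L 22606))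
 (N (L 10498)
 (L 39471)))
 (N (N (L 5193)
 (L 30027))
 (N (L 16145)
 (L 53345))))
 (N (N (N (L 2818)
 (L 26391))
 (N (L 13319)
 (L 45599)))
 (N (N (L 7736)
 (L 34389))
 (L 19221))))
 (N (N (N (N (L 1577)
 (L 24418))
 (N (L 11828)
 (L 42512)))
 (N (N (L 6466)
 (L 32100))
 (N (L 17677)
 (L 59473))))
 (N (N (N (L 3926)
 (L 28183))
 (N (L 14644)
 (L 48983)))
 (N (N (L 9035)
 (L 36865))
 (L 20817)))))
 (N (N (N (N (N (L 1030)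
 (L 23568))
 (N (L 11092)
 (L 41021)))
 (N (N (L 5901)
 (L 31051))
 (N (L 16907)
 (L 56351))))
 (N (N (N (L 3367)
 (L 27207))
 (N (L 13906)
 (L 47388)))
 (N (N (L 8450)
 (L 35607))
 (L 20023))))
 (N (N (N (N (L 2126)
 (L 25397))
 (N (L 12568)
 (L 44035)))
 (N (N (L 7022)
 (L 33321))
 (N (L 18433)
 (L 64575))))
 (N (N (N (L 4627)
 (L 29024))
 (N (L 15381)
 (L 50995)))
 (N (N (L 9764)
 (L 38155))
 (L 21784))))))))
 (N (N (N (N (N (N (N (N (L 40)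
 (L 22067))
 (N (L 10021)
 (L 38512)))
 (N (N (L 4875)
 (L 29472))
 (N (L 15649)
 (L 51810))))
 (N (N (N (L 2367)
 (L 25695))
 (N (L 12833)
 (L 44608)))
 (N (N (L 7270)
 (L 33643))
 (L 18701))))
 (N (N (N (N (L 1127)
 (L 23873))
 (N (L 11348)
 (L 41538)))
 (N (N (L 6149)
 (L 31521))
 (N (L 17175)
 (L 57384))))
 (N (N (N (L 3610)
 (L 27501))
 (N (L 14162)
 (L 47960)))
 (N (N (L 8556)
 (L 36109))
 (L 20300)))))
 (N (N (N (N (N (L 582)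
 (L 23046))
 (N (L 10755)
 (L 40005)))
 (N (N (L 5440)
 (L 30485))
 (N (L 16410)
 (L 54384))))
 (N (N (N (L 2916)
 (L 26686))
 (N (L 13573)
 (L 46190)))
 (N (N (L 7980)
 (L 34858))
 (L 19501))))
 (N (N (N (N (L 1817)
 (L 24845))
 (N (L 12085)
 (L 43036)))
 (N (N (L 6710)
 (L 32555))
 (N (L 17938)
 (L 61196))))
 (N (N (N (L 4173)
 (L 28476))
 (N (L 14901)
 (L 49744)))
 (N (N (L 9291)
 (L 37228))
 (L 21102))))))
 (N (N (N (N (N (N (L 311)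
 (L 22556))
 (N (L 10317)
 (L 39257)))
 (N (N (L 5158)
 (L 29968))
 (N (L 15962)
 (L 53068))))
 (N (N (N (L 2642)
 (L 26198))
 (N (L 13134)
 (L 45386)))
 (N (N (L 7698)
 (L 34310))
 (L 19028))))
 (N (N (N (N (L 1544)
 (L 24358))
 (N (L 11786)
 (L 42280)))
 (N (N (L 6430)
 (L 32035))
 (N (L 17494)
 (L 58988))))
 (N (N (N (L 3892)
 (L 27986))
 (N (L 14604)
 (L 48900)))
 (N (N (L 8994)
 (L 36657))
 (L 20773)))))
 (N (N (N (N (N (L 855)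
 (L 23377))
 (N (L 11053)
 (L 40782)))
 (N (N (L 5724)
 (L 30993))
 (N (L 16722)
 (L 55866))))
 (N (N (N (L 3335)
 (L 27160))
 (N (L 13869)
 (L 47169)))
 (N (N (L 8272)
 (L 35404))
 (L 19971))))
 (N (N (N (N (L 2093)
 (L 25200))
 (N (L 12388)
 (L 43797)))
 (N (N (L 6989)
 (L 33109))
 (N (L 18251)
 (L 63779))))
 (N (N (N (L 4451)
 (L 28975))
 (N (L 15201)
 (L 50741)))
 (N (N (L 9584)
 (L 37938))
 (L 21593)))))))
 (N (N (N (N (N (N (N (L 104)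
 (L 22317))
 (N (L 10240)
 (L 38946)))
 (N (N (L 4943)
 (L 29707))
 (N (L 15875)
 (L 52506))))
 (N (N (N (L 2576)
 (L 25946))
 (N (L 13056)
 (L 45065)))
 (N (N (L 7483)
 (L 33904))
 (L 18796))))
 (N (N (N (N (L 1334)
 (L 24117))
 (N (L 11567)
 (L 41987)))
 (N (N (L 6217)
 (L 31772))
 (N (L 17408)
 (L 58168))))
 (N (N (N (L 3678)
 (L 27744))
 (N (L 14382)
 (L 48424)))
 (N (N (L 8778)
 (L 36375))
 (L 20538)))))
 (N (N (N (N (N (L 791)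
 (L 23138))
 (N (L 10831)
 (L 40478)))
 (N (N (L 5653)
 (L 30740))
 (N (L 16492)
 (L 55098))))
 (N (N (N (L 3125)
 (L 26925))
 (N (L 13648)
 (L 46684)))
 (N (N (L 8199)
 (L 35137))
 (L 19743))))
 (N (N (N (N (L 1884)
 (L 25089))
 (N (L 12307)
 (L 43340)))
 (N (N (L 6922)
 (L 32829))
 (N (L 18020)
 (L 62261))))
 (N (N (N (L 4383)
 (L 28731))
 (N (L 15119)
 (L 50216)))
 (N (N (L 9512)
 (L 37649))
 (L 21348))))))
 (N (N (N (N (N (N (L 518)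
 (L 22808))
 (N (L 10532)
 (L 39698)))
 (N (N (L 5226)
 (L 30229))
 (N (L 16188)
 (L 53769))))
 (N (N (N (L 2851)
 (L 26443))
 (N (L 13354)
 (L 45839)))
 (N (N (L 7772)
 (L 34593))
 (L 19264))))
 (N (N (N (N (L 1610)
 (L 24606))
 (N (L 11866)
 (L 42602)))
 (N (N (L 6499)
 (L 32296))
 (N (L 17711)
 (L 59922))))
 (N (N (N (L 4103)
 (L 28229))
 (N (L 14680)
 (L 49226)))
 (N (N (L 9071)
 (L 36940))
 (L 21005)))))
 (N (N (N (N (N (L 1063)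
 (L 23628))
 (N (L 11274)
 (L 41234)))
 (N (N (L 5935)
 (L 31262))
 (N (L 16947)
 (L 56648))))
 (N (N (N (L 3402)
 (L 27405))
 (N (L 14086)
 (L 47629)))
 (N (N (L 8485)
 (L 35681))
 (L 20065))))
 (N (N (N (N (L 2158)
 (L 25454))
 (N (L 12608)
 (L 44118)))
 (N (N (L 7201)
 (L 33382))
 (N (L 18479)
 (L 65587))))
 (N (N (N (L 4661)
 (L 29224))
 (N (L 15423)
 (L 51240)))
 (N (N (L 9802)
 (L 38227))
 (L 21837)))))))))
 (N (N (N (N (N (N (N (N (N (L 24)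
 (L 22046))
 (N (L 10002)
 (L 38479)))
 (N (N (L 4714)
 (L 29440))
 (N (L 15626)
 (L 51745))))
 (N (N (N (L 2351)
 (L 25674))
 (N (L 12814)
 (L 44568)))
 (N (N (L 7253)
 (L 33617))
 (N (L 18536)
 (L 67696)))))
 (N (N (N (N (L 1111)
 (L 23843))
 (N (L 11328)
 (L 41494)))
 (N (N (L 5989)
 (L 31489))
 (N (L 17158)
 (L 57160))))
 (N (N (N (L 3594)
 (L 27478))
 (N (L 14141)
 (L 47906)))
 (N (N (L 8539)
 (L 35919))
 (L 20280)))))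
 (N (N (N (N (N (L 566)
 (L 22881))
 (N (L 10594)
 (L 39970)))
 (N (N (L 5422)
 (L 30311))
 (N (L 16390)
 (L 54302))))
 (N (N (N (L 2900)
 (L 26658))
 (N (L 13412)
 (L 46139)))
 (N (N (L 7964)
 (L 34824))
 (L 19472))))
 (N (N (N (N (L 1801)
 (L 24683))
 (N (L 12064)
 (L 42862)))
 (N (N (L 6693)
 (L 32531))
 (N (L 17775)
 (L 60732))))
 (N (N (N (L 4156)
 (L 28455))
 (N (L 14881)
 (L 49675)))
 (N (N (L 9274)
 (L 37193))
 (L 21081))))))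
 (N (N (N (N (N (N (L 295)
 (L 22530))
 (N (L 10295)
 (L 39223)))
 (N (N (L 5140)
 (L 29793))
 (N (L 15939)
 (L 52841))))
 (N (N (N (L 2626)
 (L 26171))
 (N (L 13113)
 (L 45336)))
 (N (N (L 7535)
 (L 34129))
 (L 19008))))
 (N (N (N (N (L 1384)
 (L 24337))
 (N (L 11623)
 (L 42243)))
 (N (N (L 6412)
 (L 32009))
 (N (L 17472)
 (L 58902))))
 (N (N (N (L 3873)
 (L 27958))
 (N (L 14439)
 (L 48714)))
 (N (N (L 8974)
 (L 36630))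
 (L 20751)))))
 (N (N (N (N (N (L 839)
 (L 23350))
 (N (L 11032)
 (L 40742)))
 (N (N (L 5707)
 (L 30822))
 (N (L 16701)
 (L 55649))))
 (N (N (N (L 3175)
 (L 27137))
 (N (L 13850)
 (L 47116)))
 (N (N (L 8251)
 (L 35376))
 (L 19805))))
 (N (N (N (N (L 2077)
 (L 25174))
 (N (L 12367)
 (L 43616)))
 (N (N (L 6972)
 (L 33076))
 (N (L 18226)
 (L 63334))))
 (N (N (N (L 4435)
 (L 28951))
 (N (L 15181)
 (L 50524)))
 (N (N (L 9566)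
 (L 37895))
 (L 21560)))))))
 (N (N (N (N (N (N (N (L 88)
 (L 22291))
 (N (L 10081)
 (L 38767)))
 (N (N (L 4925)
 (L 29539))
 (N (L 15709)
 (L 52298))))
 (N (N (N (L 2560)
 (L 25918))
 (N (L 12896)
 (L 44879)))
 (N (N (L 7465)
 (L 33878))
 (L 18771))))
 (N (N (N (N (L 1318)
 (L 24091))
 (N (L 11547)
 (L 41806)))
 (N (N (L 6200)
 (L 31745))
 (N (L 17248)
 (L 57944))))
 (N (N (N (L 3661)
 (L 27715))
 (N (L 14363)
 (L 48221)))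
 (N (N (L 8760)
 (L 36197))
 (L 20517)))))
 (N (N (N (N (N (L 775)
 (L 23116))
 (N (L 10810)
 (L 40278)))
 (N (N (L 5635)
 (L 30570))
 (N (L 16474)
 (L 54892))))
 (N (N (N (L 3109)
 (L 26901))
 (N (L 13629)
 (L 46630)))
 (N (N (L 8038)
 (L 35112))
 (L 19719))))
 (N (N (N (N (L 1867)
 (L 24922))
 (N (L 12288)
 (L 43297)))
 (N (N (L 6760)
 (L 32804))
 (N (L 18001)
 (L 61987))))
 (N (N (N (L 4366)
 (L 28700))
 (N (L 14957)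
 (L 50024)))
 (N (N (L 9489)
 (L 37465))
 (L 21319))))))
 (N (N (N (N (N (N (L 359)
 (L 22633))
 (N (L 10515)
 (L 39508)))
 (N (N (L 5209)
 (L 30051))
 (N (L 16166)
 (L 53560))))
 (N (N (N (L 2835)
 (L 26416))
 (N (L 13338)
 (L 45643)))
 (N (N (L 7754)
 (L 34561))
 (L 19244))))
 (N (N (N (N (L 1593)
 (L 24585))
 (N (L 11848)
 (L 42563)))
 (N (N (L 6482)
 (L 32266))
 (N (L 17695)
 (L 59724))))
 (N (N (N (L 3943)
 (L 28208))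
 (N (L 14662)
 (L 49185)))
 (N (N (L 9051)
 (L 36908))
 (L 20841)))))
 (N (N (N (N (N (L 1047)
 (L 23603))
 (N (L 11110)
 (L 41061)))
 (N (N (L 5918)
 (L 31084))
 (N (L 16926)
 (L 56423))))
 (N (N (N (L 3384)
 (L 27235))
 (N (L 13924)
 (L 47430)))
 (N (N (L 8468)
 (L 35647))
 (L 20045))))
 (N (N (N (N (L 2142)
 (L 25428))
 (N (L 12587)
 (L 44070)))
 (N (N (L 7182)
 (L 33354))
 (N (L 18460)
 (L 65099))))
 (N (N (N (L 4643)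
 (L 29190))
 (N (L 15402)
 (L 51042)))
 (N (N (L 9785)
 (L 38192))
 (L 21809))))))))
 (N (N (N (N (N (N (N (N (L 56)
 (L 22094))
 (N (L 10041)
 (L 38688)))
 (N (N (L 4891)
 (L 29493))
 (N (L 15669)
 (L 52031))))
 (N (N (N (L 2384)
 (L 25868))
 (N (L 12853)
 (L 44655)))
 (N (N (L 7430)
 (L 33818))
 (L 18726))))
 (N (N (N (N (L 1286)
 (L 23895))
 (N (L 11366)
 (L 41581)))
 (N (N (L 6167)
 (L 31544))
 (N (L 17203)
 (L 57608))))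
 (N (N (N (L 3626)
 (L 27670))
 (N (L 14180)
 (L 48139)))
 (N (N (L 8718)
 (L 36140))
 (L 20327)))))
 (N (N (N (N (N (L 599)
 (L 23065))
 (N (L 10772)
 (L 40045)))
 (N (N (L 5458)
 (L 30516))
 (N (L 16433)
 (L 54605))))
 (N (N (N (L 3076)
 (L 26710))
 (N (L 13591)
 (L 46374)))
 (N (N (L 8001)
 (L 34893))
 (L 19522))))
 (N (N (N (N (L 1834)
 (L 24867))
 (N (L 12108)
 (L 43085)))
 (N (N (L 6727)
 (L 32592))
 (N (L 17957)
 (L 61465))))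
 (N (N (N (L 4189)
 (L 28503))
 (N (L 14921)
 (L 49942)))
 (N (N (L 9309)
 (L 37402))
 (L 21270))))))
 (N (N (N (N (N (N (L 327)
 (L 22579))
 (N (L 10337)
 (L 39435)))
 (N (N (L 5174)
 (L 30003))
 (N (L 15980)
 (L 53287))))
 (N (N (N (L 2659)
 (L 26221))
 (N (L 13157)
 (L 45422)))
 (N (N (L 7716)
 (L 34356))
 (L 19052))))
 (N (N (N (N (L 1560)
 (L 24381))
 (N (L 11806)
 (L 42324)))
 (N (N (L 6448)
 (L 32074))
 (N (L 17513)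
 (L 59237))))
 (N (N (N (L 3909)
 (L 28009))
 (N (L 14624)
 (L 48946)))
 (N (N (L 9015)
 (L 36692))
 (L 20795)))))
 (N (N (N (N (N (L 871)
 (L 23402))
 (N (L 11071)
 (L 40966)))
 (N (N (L 5740)
 (L 31028))
 (N (L 16743)
 (L 56127))))
 (N (N (N (L 3351)
 (L 27181))
 (N (L 13888)
 (L 47204)))
 (N (N (L 8290)
 (L 35438))
 (L 19999))))
 (N (N (N (N (L 2109)
 (L 25371))
 (N (L 12550)
 (L 43837)))
 (N (N (L 7006)
 (L 33286))
 (N (L 18272)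
 (L 64109))))
 (N (N (N (L 4611)
 (L 28998))
 (N (L 15361)
 (L 50791)))
 (N (N (L 9746)
 (L 37973))
 (L 21762)))))))
 (N (N (N (N (N (N (N (L 263)
 (L 22341))
 (N (L 10258)
 (L 38993)))
 (N (N (L 4962)
 (L 29746))
 (N (L 15896)
 (L 52552))))
 (N (N (N (L 2593)
 (L 26114))
 (N (L 13076)
 (L 45115)))
 (N (N (L 7501)
 (L 34076))
 (L 18958))))
 (N (N (N (N (L 1351)
 (L 24142))
 (N (L 11586)
 (L 42031)))
 (N (N (L 6233)
 (L 31809))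
 (N (L 17428)
 (L 58413))))
 (N (N (N (L 3694)
 (L 27910))
 (N (L 14399)
 (L 48470)))
 (N (N (L 8794)
 (L 36407))
 (L 20563)))))
 (N (N (N (N (N (L 807)
 (L 23302))
 (N (L 10851)
 (L 40516)))
 (N (N (L 5670)
 (L 30763))
 (N (L 16656)
 (L 55329))))
 (N (N (N (L 3142)
 (L 26945))
 (N (L 13668)
 (L 46875)))
 (N (N (L 8216)
 (L 35167))
 (L 19766))))
 (N (N (N (N (L 1900)
 (L 25115))
 (N (L 12326)
 (L 43526)))
 (N (N (L 6940)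
 (L 32867))
 (N (L 18182)
 (L 62563))))
 (N (N (N (L 4400)
 (L 28753))
 (N (L 15144)
 (L 50266)))
 (N (N (L 9532)
 (L 37684))
 (L 21514))))))
 (N (N (N (N (N (N (L 534)
 (L 22837))
 (N (L 10552)
 (L 39736)))
 (N (N (L 5387)
 (L 30260))
 (N (L 16209)
 (L 53857))))
 (N (N (N (L 2868)
 (L 26469))
 (N (L 13373)
 (L 45901)))
 (N (N (L 7788)
 (L 34634))
 (L 19285))))
 (N (N (N (N (L 1626)
 (L 24631))
 (N (L 11885)
 (L 42782)))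
 (N (N (L 6660)
 (L 32331))
 (N (L 17733)
 (L 60193))))
 (N (N (N (L 4120)
 (L 28253))
 (N (L 14699)
 (L 49439)))
 (N (N (L 9234)
 (L 36967))
 (L 21024)))))
 (N (N (N (N (N (L 1079)
 (L 23653))
 (N (L 11290)
 (L 41276)))
 (N (N (L 5951)
 (L 31293))
 (N (L 16965)
 (L 56873))))
 (N (N (N (L 3419)
 (L 27427))
 (N (L 14106)
 (L 47679)))
 (N (N (L 8503)
 (L 35851))
 (L 20234))))
 (N (N (N (N (L 2318)
 (L 25621))
 (N (L 12630)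
 (L 44320)))
 (N (N (L 7217)
 (L 33554))
 (N (L 18501)
 (L 66087))))
 (N (N (N (L 4679)
 (L 29248))
 (N (L 15441)
 (L 51296)))
 (N (N (L 9822)
 (L 38402))
 (L 21863)))))))))))
 (N (N (N (N (N (N (N (N (N (N (N (L 4)
 (L 22022))
 (N (L 9836)
 (L 38436)))
 (N (N (L 4693)
 (L 29262))
 (N (L 15455)
 (L 51493))))
 (N (N (N (L 2331)
 (L 25641))
 (N (L 12647)
 (L 44361)))
 (N (N (L 7229)
 (L 33576))
 (N (L 18514)
 (L 66596)))))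
 (N (N (N (N (L 1091)
 (L 23811))
 (N (L 11303)
 (L 41304)))
 (N (N (L 5966)
 (L 31308))
 (N (L 16983)
 (L 56913))))
 (N (N (N (L 3431)
 (L 27444))
 (N (L 14118)
 (L 47721)))
 (N (N (L 8517)
 (L 35882))
 (L 20249)))))
 (N (N (N (N (N (L 546)
 (L 22854))
 (N (L 10567)
 (L 39780)))
 (N (N (L 5399)
 (L 30277))
 (N (L 16222)
 (L 54051))))
 (N (N (N (L 2880)
 (L 26628))
 (N (L 13387)
 (L 46086)))
 (N (N (L 7944)
 (L 34657))
 (L 19299))))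
 (N (N (N (N (L 1638)
 (L 24652))
 (N (L 12042)
 (L 42812)))
 (N (N (L 6672)
 (L 32353))
 (N (L 17750)
 (L 60430))))
 (N (N (N (L 4133)
 (L 28420))
 (N (L 14858)
 (L 49480)))
 (N (N (L 9250)
 (L 37140))
 (L 21045))))))
 (N (N (N (N (N (N (L 275)
 (L 22361))
 (N (L 10270)
 (L 39171)))
 (N (N (L 4974)
 (L 29764))
 (N (L 15911)
 (L 52750))))
 (N (N (N (L 2605)
 (L 26131))
 (N (L 13091)
 (L 45142)))
 (N (N (L 7514)
 (L 34093))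
 (L 18978))))
 (N (N (N (N (L 1363)
 (L 24162))
 (N (L 11600)
 (L 42061)))
 (N (N (L 6247)
 (L 31832))
 (N (L 17445)
 (L 58469))))
 (N (N (N (L 3851)
 (L 27932))
 (N (L 14413)
 (L 48650)))
 (N (N (L 8808)
 (L 36438))
 (L 20583)))))
 (N (N (N (N (N (L 819)
 (L 23320))
 (N (L 10864)
 (L 40548)))
 (N (N (L 5683)
 (L 30788))
 (N (L 16671)
 (L 55384))))
 (N (N (N (L 3154)
 (L 26966))
 (N (L 13827)
 (L 46903)))
 (N (N (L 8228)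
 (L 35330))
 (L 19781))))
 (N (N (N (N (L 2057)
 (L 25134))
 (N (L 12341)
 (L 43566)))
 (N (N (L 6952)
 (L 33034))
 (N (L 18202)
 (L 62990))))
 (N (N (N (L 4413)
 (L 28772))
 (N (L 15158)
 (L 50447)))
 (N (N (L 9545)
 (L 37707))
 (L 21531)))))))
 (N (N (N (N (N (N (N (L 68)
 (L 22111))
 (N (L 10057)
 (L 38718)))
 (N (N (L 4903)
 (L 29513))
 (N (L 15685)
 (L 52072))))
 (N (N (N (L 2397)
 (L 25885))
 (N (L 12871)
 (L 44831)))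
 (N (N (L 7443)
 (L 33834))
 (L 18744))))
 (N (N (N (N (L 1298)
 (L 23917))
 (N (L 11521)
 (L 41756)))
 (N (N (L 6180)
 (L 31562))
 (N (L 17219)
 (L 57689))))
 (N (N (N (L 3639)
 (L 27683))
 (N (L 14339)
 (L 48168)))
 (N (N (L 8734)
 (L 36161))
 (L 20488)))))
 (N (N (N (N (N (L 611)
 (L 23084))
 (N (L 10785)
 (L 40220)))
 (N (N (L 5472)
 (L 30538))
 (N (L 16448)
 (L 54796))))
 (N (N (N (L 3088)
 (L 26727))
 (N (L 13604)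
 (L 46413)))
 (N (N (L 8015)
 (L 34922))
 (L 19541))))
 (N (N (N (N (L 1846)
 (L 24882))
 (N (L 12122)
 (L 43116)))
 (N (N (L 6739)
 (L 32617))
 (N (L 17974)
 (L 61727))))
 (N (N (N (L 4202)
 (L 28521))
 (N (L 14934)
 (L 49974)))
 (N (N (L 9323)
 (L 37425))
 (L 21287))))))
 (N (N (N (N (N (N (L 339)
 (L 22602))
 (N (L 10350)
 (L 39463)))
 (N (N (L 5188)
 (L 30022))
 (N (L 16141)
 (L 53328))))
 (N (N (N (L 2671)
 (L 26383))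
 (N (L 13315)
 (L 45595)))
 (N (N (L 7732)
 (L 34382))
 (L 19214))))
 (N (N (N (N (L 1572)
 (L 24407))
 (N (L 11823)
 (L 42504)))
 (N (N (L 6461)
 (L 32096))
 (N (L 17672)
 (L 59456))))
 (N (N (N (L 3922)
 (L 28175))
 (N (L 14639)
 (L 48978)))
 (N (N (L 9029)
 (L 36705))
 (L 20812)))))
 (N (N (N (N (N (L 1026)
 (L 23563))
 (N (L 11086)
 (L 41007)))
 (N (N (L 5896)
 (L 31046))
 (N (L 16900)
 (L 56166))))
 (N (N (N (L 3363)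
 (L 27195))
 (N (L 13902)
 (L 47376)))
 (N (N (L 8303)
 (L 35600))
 (L 20018))))
 (N (N (N (N (L 2122)
 (L 25389))
 (N (L 12563)
 (L 43872)))
 (N (N (L 7018)
 (L 33315))
 (N (L 18285)
 (L 64349))))
 (N (N (N (L 4623)
 (L 29019))
 (N (L 15375)
 (L 50983)))
 (N (N (L 9760)
 (L 38149))
 (L 21779))))))))
 (N (N (N (N (N (N (N (N (L 36)
 (L 22063))
 (N (L 10017)
 (L 38505)))
 (N (N (L 4870)
 (L 29460))
 (N (L 15644)
 (L 51787))))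
 (N (N (N (L 2363)
 (L 25689))
 (N (L 12829)
 (L 44598)))
 (N (N (L 7266)
 (L 33637))
 (N (L 18696)
 (L 69130)))))
 (N (N (N (N (L 1123)
 (L 23863))
 (N (L 11342)
 (L 41528)))
 (N (N (L 6144)
 (L 31509))
 (N (L 17171)
 (L 57355))))
 (N (N (N (L 3606)
 (L 27493))
 (N (L 14158)
 (L 47942)))
 (N (N (L 8551)
 (L 35948))
 (L 20295)))))
 (N (N (N (N (N (L 578)
 (L 22895))
 (N (L 10607)
 (L 39996)))
 (N (N (L 5435)
 (L 30479))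
 (N (L 16405)
 (L 54357))))
 (N (N (N (L 2912)
 (L 26681))
 (N (L 13424)
 (L 46176)))
 (N (N (L 7976)
 (L 34852))
 (L 19493))))
 (N (N (N (N (L 1813)
 (L 24841))
 (N (L 12080)
 (L 43026)))
 (N (N (L 6706)
 (L 32551))
 (N (L 17933)
 (L 61021))))
 (N (N (N (L 4169)
 (L 28471))
 (N (L 14896)
 (L 49737)))
 (N (N (L 9286)
 (L 37217))
 (L 21098))))))
 (N (N (N (N (N (N (L 307)
 (L 22548))
 (N (L 10308)
 (L 39245)))
 (N (N (L 5154)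
 (L 29962))
 (N (L 15957)
 (L 53045))))
 (N (N (N (L 2638)
 (L 26191))
 (N (L 13128)
 (L 45368)))
 (N (N (L 7694)
 (L 34159))
 (L 19023))))
 (N (N (N (N (L 1539)
 (L 24352))
 (N (L 11782)
 (L 42271)))
 (N (N (L 6425)
 (L 32027))
 (N (L 17489)
 (L 58968))))
 (N (N (N (L 3888)
 (L 27981))
 (N (L 14598)
 (L 48748)))
 (N (N (L 8989)
 (L 36652))
 (L 20768)))))
 (N (N (N (N (N (L 851)
 (L 23373))
 (N (L 11046)
 (L 40771)))
 (N (N (L 5720)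
 (L 30985))
 (N (L 16718)
 (L 55852))))
 (N (N (N (L 3331)
 (L 27155))
 (N (L 13864)
 (L 47161)))
 (N (N (L 8268)
 (L 35398))
 (L 19823))))
 (N (N (N (N (L 2089)
 (L 25195))
 (N (L 12383)
 (L 43790)))
 (N (N (L 6985)
 (L 33103))
 (N (L 18246)
 (L 63584))))
 (N (N (N (L 4447)
 (L 28969))
 (N (L 15197)
 (L 50727)))
 (N (N (L 9580)
 (L 37930))
 (L 21585)))))))
 (N (N (N (N (N (N (N (L 100)
 (L 22310))
 (N (L 10093)
 (L 38937)))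
 (N (N (L 4939)
 (L 29701))
 (N (L 15725)
 (L 52484))))
 (N (N (N (L 2572)
 (L 25936))
 (N (L 12909)
 (L 44909)))
 (N (N (L 7478)
 (L 33899))
 (L 18788))))
 (N (N (N (N (L 1330)
 (L 24110))
 (N (L 11562)
 (L 41837)))
 (N (N (L 6213)
 (L 31766))
 (N (L 17261)
 (L 58125))))
 (N (N (N (L 3674)
 (L 27735))
 (N (L 14377)
 (L 48415)))
 (N (N (L 8773)
 (L 36368))
 (L 20532)))))
 (N (N (N (N (N (L 787)
 (L 23132))
 (N (L 10827)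
 (L 40469)))
 (N (N (L 5648)
 (L 30731))
 (N (L 16487)
 (L 55069))))
 (N (N (N (L 3121)
 (L 26920))
 (N (L 13644)
 (L 46672)))
 (N (N (L 8194)
 (L 35130))
 (L 19735))))
 (N (N (N (N (L 1880)
 (L 24942))
 (N (L 12302)
 (L 43329)))
 (N (N (L 6918)
 (L 32824))
 (N (L 18015)
 (L 62223))))
 (N (N (N (L 4379)
 (L 28725))
 (N (L 15114)
 (L 50208)))
 (N (N (L 9507)
 (L 37645))
 (L 21344))))))
 (N (N (N (N (N (N (L 514)
 (L 22799))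
 (N (L 10527)
 (L 39690)))
 (N (N (L 5222)
 (L 30221))
 (N (L 16184)
 (L 53610))))
 (N (N (N (L 2847)
 (L 26433))
 (N (L 13350)
 (L 45831)))
 (N (N (L 7767)
 (L 34588))
 (L 19259))))
 (N (N (N (N (L 1605)
 (L 24600))
 (N (L 11862)
 (L 42595)))
 (N (N (L 6495)
 (L 32289))
 (N (L 17707)
 (L 59913))))
 (N (N (N (L 4098)
 (L 28224))
 (N (L 14676)
 (L 49216)))
 (N (N (L 9065)
 (L 36931))
 (L 20999)))))
 (N (N (N (N (N (L 1059)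
 (L 23624))
 (N (L 11269)
 (L 41228)))
 (N (N (L 5931)
 (L 31252))
 (N (L 16939)
 (L 56628))))
 (N (N (N (L 3398)
 (L 27399))
 (N (L 14081)
 (L 47621)))
 (N (N (L 8481)
 (L 35674))
 (L 20060))))
 (N (N (N (N (L 2154)
 (L 25450))
 (N (L 12604)
 (L 44105)))
 (N (N (L 7197)
 (L 33377))
 (N (L 18474)
 (L 65383))))
 (N (N (N (L 4657)
 (L 29217))
 (N (L 15418)
 (L 51235)))
 (N (N (L 9797)
 (L 38217))
 (L 21831)))))))))
 (N (N (N (N (N (N (N (N (N (L 20)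
 (L 22039))
 (N (L 9998)
 (L 38464)))
 (N (N (L 4710)
 (L 29289))
 (N (L 15620)
 (L 51734))))
 (N (N (N (L 2347)
 (L 25665))
 (N (L 12810)
 (L 44554)))
 (N (N (L 7247)
 (L 33612))
 (N (L 18532)
 (L 67406)))))
 (N (N (N (N (L 1107)
 (L 23838))
 (N (L 11324)
 (L 41483)))
 (N (N (L 5984)
 (L 31337))
 (N (L 17008)
 (L 57142))))
 (N (N (N (L 3590)
 (L 27472))
 (N (L 14137)
 (L 47897)))
 (N (N (L 8534)
 (L 35914))
 (L 20274)))))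
 (N (N (N (N (N (L 562)
 (L 22875))
 (N (L 10589)
 (L 39956)))
 (N (N (L 5418)
 (L 30304))
 (N (L 16385)
 (L 54277))))
 (N (N (N (L 2896)
 (L 26654))
 (N (L 13406)
 (L 46131)))
 (N (N (L 7960)
 (L 34819))
 (L 19467))))
 (N (N (N (N (L 1797)
 (L 24678))
 (N (L 12060)
 (L 42850)))
 (N (N (L 6689)
 (L 32523))
 (N (L 17769)
 (L 60703))))
 (N (N (N (L 4152)
 (L 28449))
 (N (L 14877)
 (L 49520)))
 (N (N (L 9270)
 (L 37188))
 (L 21072))))))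
 (N (N (N (N (N (N (L 291)
 (L 22381))
 (N (L 10290)
 (L 39211)))
 (N (N (L 5136)
 (L 29788))
 (N (L 15931)
 (L 52835))))
 (N (N (N (L 2622)
 (L 26163))
 (N (L 13108)
 (L 45325)))
 (N (N (L 7531)
 (L 34120))
 (L 19003))))
 (N (N (N (N (L 1380)
 (L 24332))
 (N (L 11619)
 (L 42093)))
 (N (N (L 6408)
 (L 32001))
 (N (L 17467)
 (L 58715))))
 (N (N (N (L 3869)
 (L 27953))
 (N (L 14435)
 (L 48699)))
 (N (N (L 8970)
 (L 36618))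
 (L 20745)))))
 (N (N (N (N (N (L 835)
 (L 23345))
 (N (L 11027)
 (L 40731)))
 (N (N (L 5703)
 (L 30816))
 (N (L 16695)
 (L 55632))))
 (N (N (N (L 3171)
 (L 26988))
 (N (L 13846)
 (L 46953)))
 (N (N (L 8246)
 (L 35363))
 (L 19801))))
 (N (N (N (N (L 2073)
 (L 25163))
 (N (L 12362)
 (L 43607)))
 (N (N (L 6968)
 (L 33065))
 (N (L 18221)
 (L 63266))))
 (N (N (N (L 4430)
 (L 28944))
 (N (L 15177)
 (L 50514)))
 (N (N (L 9562)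
 (L 37742))
 (L 21555)))))))
 (N (N (N (N (N (N (N (L 84)
 (L 22283))
 (N (L 10077)
 (L 38763)))
 (N (N (L 4921)
 (L 29535))
 (N (L 15702)
 (L 52288))))
 (N (N (N (L 2413)
 (L 25910))
 (N (L 12891)
 (L 44872)))
 (N (N (L 7461)
 (L 33870))
 (L 18763))))
 (N (N (N (N (L 1314)
 (L 24082))
 (N (L 11542)
 (L 41802)))
 (N (N (L 6196)
 (L 31593))
 (N (L 17240)
 (L 57923))))
 (N (N (N (L 3657)
 (L 27709))
 (N (L 14358)
 (L 48212)))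
 (N (N (L 8755)
 (L 36191))
 (L 20513)))))
 (N (N (N (N (N (L 770)
 (L 23108))
 (N (L 10805)
 (L 40267)))
 (N (N (L 5488)
 (L 30563))
 (N (L 16467)
 (L 54881))))
 (N (N (N (L 3105)
 (L 26894))
 (N (L 13623)
 (L 46624)))
 (N (N (L 8034)
 (L 35106))
 (L 19567))))
 (N (N (N (N (L 1862)
 (L 24916))
 (N (L 12141)
 (L 43288)))
 (N (N (L 6756)
 (L 32797))
 (N (L 17996)
 (L 61968))))
 (N (N (N (L 4362)
 (L 28692))
 (N (L 14952)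
 (L 50018)))
 (N (N (L 9485)
 (L 37461))
 (L 21313))))))
 (N (N (N (N (N (N (L 355)
 (L 22626))
 (N (L 10510)
 (L 39493)))
 (N (N (L 5205)
 (L 30045))
 (N (L 16161)
 (L 53540))))
 (N (N (N (L 2830)
 (L 26406))
 (N (L 13333)
 (L 45631)))
 (N (N (L 7750)
 (L 34412))
 (L 19236))))
 (N (N (N (N (L 1589)
 (L 24579))
 (N (L 11843)
 (L 42547)))
 (N (N (L 6478)
 (L 32259))
 (N (L 17690)
 (L 59686))))
 (N (N (N (L 3939)
 (L 28202))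
 (N (L 14657)
 (L 49173)))
 (N (N (L 9047)
 (L 36899))
 (L 20836)))))
 (N (N (N (N (N (L 1043)
 (L 23592))
 (N (L 11106)
 (L 41048)))
 (N (N (L 5914)
 (L 31074))
 (N (L 16921)
 (L 56415))))
 (N (N (N (L 3380)
 (L 27229))
 (N (L 13920)
 (L 47421)))
 (N (N (L 8462)
 (L 35639))
 (L 20041))))
 (N (N (N (N (L 2138)
 (L 25420))
 (N (L 12582)
 (L 44059)))
 (N (N (L 7178)
 (L 33348))
 (N (L 18453)
 (L 65043))))
 (N (N (N (L 4639)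
 (L 29185))
 (N (L 15397)
 (L 51029)))
 (N (N (L 9779)
 (L 38182))
 (L 21804))))))))
 (N (N (N (N (N (N (N (N (L 52)
 (L 22085))
 (N (L 10036)
 (L 38678)))
 (N (N (L 4887)
 (L 29488))
 (N (L 15665)
 (L 52022))))
 (N (N (N (L 2380)
 (L 25863))
 (N (L 12849)
 (L 44649)))
 (N (N (L 7425)
 (L 33805))
 (L 18721))))
 (N (N (N (N (L 1282)
 (L 23890))
 (N (L 11362)
 (L 41571)))
 (N (N (L 6163)
 (L 31540))
 (N (L 17192)
 (L 57455))))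
 (N (N (N (L 3622)
 (L 27663))
 (N (L 14176)
 (L 47984)))
 (N (N (L 8713)
 (L 36129))
 (L 20320)))))
 (N (N (N (N (N (L 595)
 (L 23060))
 (N (L 10768)
 (L 40036)))
 (N (N (L 5453)
 (L 30504))
 (N (L 16425)
 (L 54577))))
 (N (N (N (L 2928)
 (L 26706))
 (N (L 13587)
 (L 46368)))
 (N (N (L 7996)
 (L 34885))
 (L 19518))))
 (N (N (N (N (L 1829)
 (L 24861))
 (N (L 12100)
 (L 43072)))
 (N (N (L 6723)
 (L 32582))
 (N (L 17953)
 (L 61295))))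
 (N (N (N (L 4185)
 (L 28494))
 (N (L 14915)
 (L 49925)))
 (N (N (L 9305)
 (L 37393))
 (L 21264))))))
 (N (N (N (N (N (N (L 323)
 (L 22575))
 (N (L 10332)
 (L 39429)))
 (N (N (L 5170)
 (L 29997))
 (N (L 15975)
 (L 53263))))
 (N (N (N (L 2655)
 (L 26217))
 (N (L 13151)
 (L 45416)))
 (N (N (L 7712)
 (L 34342))
 (L 19045))))
 (N (N (N (N (L 1556)
 (L 24376))
 (N (L 11802)
 (L 42317)))
 (N (N (L 6444)
 (L 32067))
 (N (L 17508)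
 (L 59211))))
 (N (N (N (L 3905)
 (L 28004))
 (N (L 14620)
 (L 48938)))
 (N (N (L 9010)
 (L 36677))
 (L 20788)))))
 (N (N (N (N (N (L 867)
 (L 23397))
 (N (L 11067)
 (L 40814)))
 (N (N (L 5736)
 (L 31016))
 (N (L 16739)
 (L 56077))))
 (N (N (N (L 3347)
 (L 27175))
 (N (L 13883)
 (L 47197)))
 (N (N (L 8286)
 (L 35433))
 (L 19988))))
 (N (N (N (N (L 2105)
 (L 25362))
 (N (L 12544)
 (L 43824)))
 (N (N (L 7002)
 (L 33132))
 (N (L 18266)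
 (L 64027))))
 (N (N (N (L 4463)
 (L 28992))
 (N (L 15214)
 (L 50771)))
 (N (N (L 9742)
 (L 37964))
 (L 21611)))))))
 (N (N (N (N (N (N (N (L 259)
 (L 22334))
 (N (L 10254)
 (L 38978)))
 (N (N (L 4958)
 (L 29734))
 (N (L 15891)
 (L 52541))))
 (N (N (N (L 2589)
 (L 25965))
 (N (L 13071)
 (L 45096)))
 (N (N (L 7497)
 (L 34068))
 (L 18953))))
 (N (N (N (N (L 1347)
 (L 24138))
 (N (L 11581)
 (L 42018)))
 (N (N (L 6229)
 (L 31800))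
 (N (L 17424)
 (L 58389))))
 (N (N (N (L 3690)
 (L 27904))
 (N (L 14394)
 (L 48458)))
 (N (N (L 8790)
 (L 36401))
 (L 20558)))))
 (N (N (N (N (N (L 803)
 (L 23152))
 (N (L 10846)
 (L 40506)))
 (N (N (L 5666)
 (L 30759))
 (N (L 16650)
 (L 55318))))
 (N (N (N (L 3137)
 (L 26940))
 (N (L 13663)
 (L 46852)))
 (N (N (L 8212)
 (L 35159))
 (L 19760))))
 (N (N (N (N (L 1896)
 (L 25109))
 (N (L 12321)
 (L 43373)))
 (N (N (L 6935)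
 (L 32855))
 (N (L 18178)
 (L 62535))))
 (N (N (N (L 4396)
 (L 28749))
 (N (L 15140)
 (L 50254)))
 (N (N (L 9526)
 (L 37676))
 (L 21508))))))
 (N (N (N (N (N (N (L 530)
 (L 22831))
 (N (L 10547)
 (L 39729)))
 (N (N (L 5383)
 (L 30252))
 (N (L 16203)
 (L 53841))))
 (N (N (N (L 2864)
 (L 26462))
 (N (L 13368)
 (L 45878)))
 (N (N (L 7784)
 (L 34619))
 (L 19280))))
 (N (N (N (N (L 1622)
 (L 24624))
 (N (L 11881)
 (L 42770)))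
 (N (N (L 6512)
 (L 32323))
 (N (L 17727)
 (L 60015))))
 (N (N (N (L 4116)
 (L 28247))
 (N (L 14695)
 (L 49416)))
 (N (N (L 9230)
 (L 36959))
 (L 21018)))))
 (N (N (N (N (N (L 1075)
 (L 23648))
 (N (L 11286)
 (L 41267)))
 (N (N (L 5947)
 (L 31285))
 (N (L 16960)
 (L 56858))))
 (N (N (N (L 3414)
 (L 27422))
 (N (L 14100)
 (L 47670)))
 (N (N (L 8497)
 (L 35846))
 (L 20227))))
 (N (N (N (N (L 2314)
 (L 25615))
 (N (L 12623)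
 (L 44309)))
 (N (N (L 7213)
 (L 33547))
 (N (L 18496)
 (L 65904))))
 (N (N (N (L 4674)
 (L 29242))
 (N (L 15437)
 (L 51285)))
 (N (N (L 9816)
 (L 38249))
 (L 21858))))))))))
 (N (N (N (N (N (N (N (N (N (N (L 12)
 (L 22031))
 (N (L 9990)
 (L 38450)))
 (N (N (L 4702)
 (L 29279))
 (N (L 15465)
 (L 51531))))
 (N (N (N (L 2339)
 (L 25653))
 (N (L 12655)
 (L 44389)))
 (N (N (L 7238)
 (L 33594))
 (N (L 18524)
 (L 66915)))))
 (N (N (N (N (L 1099)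
 (L 23826))
 (N (L 11313)
 (L 41322)))
 (N (N (L 5976)
 (L 31323))
 (N (L 16996)
 (L 57098))))
 (N (N (N (L 3439)
 (L 27460))
 (N (L 14128)
 (L 47878)))
 (N (N (L 8526)
 (L 35898))
 (L 20260)))))
 (N (N (N (N (N (L 554)
 (L 22864))
 (N (L 10577)
 (L 39939)))
 (N (N (L 5408)
 (L 30291))
 (N (L 16232)
 (L 54108))))
 (N (N (N (L 2888)
 (L 26643))
 (N (L 13396)
 (L 46107)))
 (N (N (L 7952)
 (L 34666))
 (L 19457))))
 (N (N (N (N (L 1646)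
 (L 24666))
 (N (L 12051)
 (L 42831)))
 (N (N (L 6681)
 (L 32362))
 (N (L 17761)
 (L 60512))))
 (N (N (N (L 4143)
 (L 28431))
 (N (L 14867)
 (L 49503)))
 (N (N (L 9261)
 (L 37165))
 (L 21056))))))
 (N (N (N (N (N (N (L 283)
 (L 22371))
 (N (L 10279)
 (L 39192)))
 (N (N (L 5127)
 (L 29778))
 (N (L 15920)
 (L 52788))))
 (N (N (N (L 2613)
 (L 26143))
 (N (L 13099)
 (L 45165)))
 (N (N (L 7522)
 (L 34108))
 (L 18992))))
 (N (N (N (N (L 1372)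
 (L 24174))
 (N (L 11610)
 (L 42079)))
 (N (N (L 6255)
 (L 31846))
 (N (L 17453)
 (L 58675))))
 (N (N (N (L 3859)
 (L 27943))
 (N (L 14424)
 (L 48679)))
 (N (N (L 8961)
 (L 36453))
 (L 20591)))))
 (N (N (N (N (N (L 827)
 (L 23332))
 (N (L 11019)
 (L 40714)))
 (N (N (L 5692)
 (L 30805))
 (N (L 16681)
 (L 55591))))
 (N (N (N (L 3163)
 (L 26979))
 (N (L 13836)
 (L 46933)))
 (N (N (L 8236)
 (L 35341))
 (L 19791))))
 (N (N (N (N (L 2065)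
 (L 25149))
 (N (L 12351)
 (L 43591)))
 (N (N (L 6960)
 (L 33046))
 (N (L 18211)
 (L 63060))))
 (N (N (N (L 4421)
 (L 28935))
 (N (L 15167)
 (L 50474)))
 (N (N (L 9554)
 (L 37719))
 (L 21540)))))))
 (N (N (N (N (N (N (N (L 76)
 (L 22126))
 (N (L 10067)
 (L 38733)))
 (N (N (L 4912)
 (L 29522))
 (N (L 15694)
 (L 52254))))
 (N (N (N (L 2405)
 (L 25897))
 (N (L 12879)
 (L 44849)))
 (N (N (L 7452)
 (L 33854))
 (L 18754))))
 (N (N (N (N (L 1306)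
 (L 24072))
 (N (L 11533)
 (L 41781)))
 (N (N (L 6188)
 (L 31579))
 (N (L 17229)
 (L 57877))))
 (N (N (N (L 3647)
 (L 27698))
 (N (L 14347)
 (L 48182)))
 (N (N (L 8744)
 (L 36174))
 (L 20498)))))
 (N (N (N (N (N (L 619)
 (L 23096))
 (N (L 10795)
 (L 40248)))
 (N (N (L 5480)
 (L 30551))
 (N (L 16457)
 (L 54845))))
 (N (N (N (L 3097)
 (L 26880))
 (N (L 13615)
 (L 46603)))
 (N (N (L 8026)
 (L 35079))
 (L 19552))))
 (N (N (N (N (L 1854)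
 (L 24897))
 (N (L 12133)
 (L 43272)))
 (N (N (L 6748)
 (L 32778))
 (N (L 17983)
 (L 61773))))
 (N (N (N (L 4353)
 (L 28678))
 (N (L 14944)
 (L 49996)))
 (N (N (L 9474)
 (L 37442))
 (L 21304))))))
 (N (N (N (N (N (N (L 347)
 (L 22614))
 (N (L 10502)
 (L 39477)))
 (N (N (L 5197)
 (L 30033))
 (N (L 16149)
 (L 53505))))
 (N (N (N (L 2822)
 (L 26397))
 (N (L 13324)
 (L 45609)))
 (N (N (L 7740)
 (L 34398))
 (L 19227))))
 (N (N (N (N (L 1581)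
 (L 24425))
 (N (L 11832)
 (L 42520)))
 (N (N (L 6470)
 (L 32104))
 (N (L 17681)
 (L 59655))))
 (N (N (N (L 3930)
 (L 28193))
 (N (L 14648)
 (L 48993)))
 (N (N (L 9039)
 (L 36872))
 (L 20823)))))
 (N (N (N (N (N (L 1034)
 (L 23578))
 (N (L 11097)
 (L 41028)))
 (N (N (L 5905)
 (L 31059))
 (N (L 16911)
 (L 56364))))
 (N (N (N (L 3371)
 (L 27212))
 (N (L 13910)
 (L 47394)))
 (N (N (L 8454)
 (L 35618))
 (L 20031))))
 (N (N (N (N (L 2130)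
 (L 25407))
 (N (L 12573)
 (L 44046)))
 (N (N (L 7169)
 (L 33333))
 (N (L 18437)
 (L 64619))))
 (N (N (N (L 4631)
 (L 29029))
 (N (L 15387)
 (L 51013)))
 (N (N (L 9769)
 (L 38161))
 (L 21791))))))))
 (N (N (N (N (N (N (N (N (L 44)
 (L 22072))
 (N (L 10026)
 (L 38666)))
 (N (N (L 4879)
 (L 29477))
 (N (L 15654)
 (L 51972))))
 (N (N (N (L 2371)
 (L 25706))
 (N (L 12838)
 (L 44628)))
 (N (N (L 7274)
 (L 33792))
 (L 18705))))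
 (N (N (N (N (L 1131)
 (L 23881))
 (N (L 11353)
 (L 41552)))
 (N (N (L 6154)
 (L 31526))
 (N (L 17181)
 (L 57411))))
 (N (N (N (L 3614)
 (L 27651))
 (N (L 14166)
 (L 47966)))
 (N (N (L 8560)
 (L 36113))
 (L 20307)))))
 (N (N (N (N (N (L 587)
 (L 23051))
 (N (L 10759)
 (L 40020)))
 (N (N (L 5444)
 (L 30494))
 (N (L 16416)
 (L 54540))))
 (N (N (N (L 2920)
 (L 26691))
 (N (L 13577)
 (L 46349)))
 (N (N (L 7988)
 (L 34862))
 (L 19506))))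
 (N (N (N (N (L 1821)
 (L 24851))
 (N (L 12090)
 (L 43048)))
 (N (N (L 6714)
 (L 32567))
 (N (L 17945)
 (L 61212))))
 (N (N (N (L 4177)
 (L 28481))
 (N (L 14905)
 (L 49752)))
 (N (N (L 9295)
 (L 37379))
 (L 21252))))))
 (N (N (N (N (N (N (L 315)
 (L 22560))
 (N (L 10321)
 (L 39270)))
 (N (N (L 5162)
 (L 29980))
 (N (L 15966)
 (L 53092))))
 (N (N (N (L 2646)
 (L 26206))
 (N (L 13139)
 (L 45392)))
 (N (N (L 7702)
 (L 34324))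
 (L 19032))))
 (N (N (N (N (L 1548)
 (L 24364))
 (N (L 11790)
 (L 42290)))
 (N (N (L 6434)
 (L 32042))
 (N (L 17499)
 (L 59151))))
 (N (N (N (L 3896)
 (L 27992))
 (N (L 14608)
 (L 48911)))
 (N (N (L 8998)
 (L 36663))
 (L 20778)))))
 (N (N (N (N (N (L 859)
 (L 23384))
 (N (L 11057)
 (L 40795)))
 (N (N (L 5728)
 (L 31002))
 (N (L 16730)
 (L 55877))))
 (N (N (N (L 3339)
 (L 27165))
 (N (L 13873)
 (L 47181)))
 (N (N (L 8277)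
 (L 35418))
 (L 19978))))
 (N (N (N (N (L 2097)
 (L 25351))
 (N (L 12392)
 (L 43803)))
 (N (N (L 6993)
 (L 33120))
 (N (L 18255)
 (L 63819))))
 (N (N (N (L 4455)
 (L 28980))
 (N (L 15205)
 (L 50752)))
 (N (N (L 9731)
 (L 37945))
 (L 21600)))))))
 (N (N (N (N (N (N (N (L 108)
 (L 22322))
 (N (L 10245)
 (L 38956)))
 (N (N (L 4950)
 (L 29712))
 (N (L 15880)
 (L 52520))))
 (N (N (N (L 2581)
 (L 25955))
 (N (L 13061)
 (L 45069)))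
 (N (N (L 7488)
 (L 34055))
 (L 18800))))
 (N (N (N (N (L 1338)
 (L 24123))
 (N (L 11571)
 (L 41995)))
 (N (N (L 6221)
 (L 31784))
 (N (L 17412)
 (L 58186))))
 (N (N (N (L 3682)
 (L 27748))
 (N (L 14386)
 (L 48437)))
 (N (N (L 8782)
 (L 36381))
 (L 20544)))))
 (N (N (N (N (N (L 795)
 (L 23144))
 (N (L 10836)
 (L 40490)))
 (N (N (L 5658)
 (L 30746))
 (N (L 16496)
 (L 55130))))
 (N (N (N (L 3129)
 (L 26931))
 (N (L 13654)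
 (L 46694)))
 (N (N (L 8203)
 (L 35146))
 (L 19748))))
 (N (N (N (N (L 1888)
 (L 25100))
 (N (L 12311)
 (L 43353)))
 (N (N (L 6926)
 (L 32836))
 (N (L 18024)
 (L 62313))))
 (N (N (N (L 4387)
 (L 28737))
 (N (L 15129)
 (L 50226)))
 (N (N (L 9517)
 (L 37656))
 (L 21355))))))
 (N (N (N (N (N (N (L 522)
 (L 22813))
 (N (L 10536)
 (L 39716)))
 (N (N (L 5230)
 (L 30240))
 (N (L 16193)
 (L 53788))))
 (N (N (N (L 2855)
 (L 26448))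
 (N (L 13359)
 (L 45853)))
 (N (N (L 7776)
 (L 34599))
 (L 19269))))
 (N (N (N (N (L 1614)
 (L 24612))
 (N (L 11872)
 (L 42607)))
 (N (N (L 6504)
 (L 32308))
 (N (L 17717)
 (L 59948))))
 (N (N (N (L 4108)
 (L 28238))
 (N (L 14686)
 (L 49238)))
 (N (N (L 9221)
 (L 36945))
 (L 21009)))))
 (N (N (N (N (N (L 1067)
 (L 23632))
 (N (L 11278)
 (L 41245)))
 (N (N (L 5939)
 (L 31272))
 (N (L 16951)
 (L 56663))))
 (N (N (N (L 3406)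
 (L 27411))
 (N (L 14090)
 (L 47645)))
 (N (N (L 8489)
 (L 35692))
 (L 20071))))
 (N (N (N (N (L 2305)
 (L 25601))
 (N (L 12615)
 (L 44138)))
 (N (N (L 7205)
 (L 33388))
 (N (L 18484)
 (L 65646))))
 (N (N (N (L 4666)
 (L 29231))
 (N (L 15429)
 (L 51267)))
 (N (N (L 9807)
 (L 38232))
 (L 21844)))))))))
 (N (N (N (N (N (N (N (N (N (L 28)
 (L 22052))
 (N (L 10009)
 (L 38488)))
 (N (N (L 4718)
 (L 29446))
 (N (L 15632)
 (L 51761))))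
 (N (N (N (L 2355)
 (L 25678))
 (N (L 12819)
 (L 44573)))
 (N (N (L 7258)
 (L 33623))
 (N (L 18541)
 (L 67945)))))
 (N (N (N (N (L 1115)
 (L 23852))
 (N (L 11332)
 (L 41500)))
 (N (N (L 5993)
 (L 31494))
 (N (L 17163)
 (L 57175))))
 (N (N (N (L 3598)
 (L 27484))
 (N (L 14147)
 (L 47912)))
 (N (N (L 8543)
 (L 35926))
 (L 20284)))))
 (N (N (N (N (N (L 570)
 (L 22885))
 (N (L 10599)
 (L 39975)))
 (N (N (L 5426)
 (L 30317))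
 (N (L 16394)
 (L 54318))))
 (N (N (N (L 2904)
 (L 26664))
 (N (L 13416)
 (L 46156)))
 (N (N (L 7968)
 (L 34835))
 (L 19479))))
 (N (N (N (N (L 1805)
 (L 24687))
 (N (L 12070)
 (L 43015)))
 (N (N (L 6697)
 (L 32536))
 (N (L 17922)
 (L 60774))))
 (N (N (N (L 4160)
 (L 28461))
 (N (L 14886)
 (L 49687)))
 (N (N (L 9278)
 (L 37204))
 (L 21088))))))
 (N (N (N (N (N (N (L 299)
 (L 22540))
 (N (L 10300)
 (L 39229)))
 (N (N (L 5144)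
 (L 29801))
 (N (L 15943)
 (L 53006))))
 (N (N (N (L 2630)
 (L 26179))
 (N (L 13117)
 (L 45347)))
 (N (N (L 7684)
 (L 34140))
 (L 19012))))
 (N (N (N (N (L 1388)
 (L 24342))
 (N (L 11628)
 (L 42255)))
 (N (N (L 6416)
 (L 32016))
 (N (L 17480)
 (L 58917))))
 (N (N (N (L 3877)
 (L 27962))
 (N (L 14445)
 (L 48723)))
 (N (N (L 8978)
 (L 36637))
 (L 20756)))))
 (N (N (N (N (N (L 843)
 (L 23360))
 (N (L 11037)
 (L 40757)))
 (N (N (L 5711)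
 (L 30828))
 (N (L 16707)
 (L 55660))))
 (N (N (N (L 3179)
 (L 27142))
 (N (L 13855)
 (L 47133)))
 (N (N (L 8255)
 (L 35381))
 (L 19813))))
 (N (N (N (N (L 2081)
 (L 25178))
 (N (L 12374)
 (L 43624)))
 (N (N (L 6976)
 (L 33085))
 (N (L 18234)
 (L 63519))))
 (N (N (N (L 4439)
 (L 28960))
 (N (L 15187)
 (L 50537)))
 (N (N (L 9571)
 (L 37912))
 (L 21567)))))))
 (N (N (N (N (N (N (N (L 92)
 (L 22297))
 (N (L 10085)
 (L 38922)))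
 (N (N (L 4929)
 (L 29545))
 (N (L 15713)
 (L 52307))))
 (N (N (N (L 2564)
 (L 25927))
 (N (L 12901)
 (L 44887)))
 (N (N (L 7469)
 (L 33885))
 (L 18777))))
 (N (N (N (N (L 1322)
 (L 24095))
 (N (L 11554)
 (L 41812)))
 (N (N (L 6205)
 (L 31753))
 (N (L 17252)
 (L 57953))))
 (N (N (N (L 3665)
 (L 27722))
 (N (L 14368)
 (L 48391)))
 (N (N (L 8764)
 (L 36206))
 (L 20522)))))
 (N (N (N (N (N (L 779)
 (L 23120))
 (N (L 10816)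
 (L 40297)))
 (N (N (L 5640)
 (L 30721))
 (N (L 16479)
 (L 55050))))
 (N (N (N (L 3113)
 (L 26909))
 (N (L 13636)
 (L 46644)))
 (N (N (L 8042)
 (L 35118))
 (L 19725))))
 (N (N (N (N (L 1871)
 (L 24927))
 (N (L 12294)
 (L 43310)))
 (N (N (L 6765)
 (L 32809))
 (N (L 18006)
 (L 62006))))
 (N (N (N (L 4370)
 (L 28708))
 (N (L 15105)
 (L 50177)))
 (N (N (L 9494)
 (L 37481))
 (L 21325))))))
 (N (N (N (N (N (N (L 363)
 (L 22639))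
 (N (L 10519)
 (L 39524)))
 (N (N (L 5213)
 (L 30060))
 (N (L 16172)
 (L 53579))))
 (N (N (N (L 2839)
 (L 26421))
 (N (L 13342)
 (L 45656)))
 (N (N (L 7759)
 (L 34571))
 (L 19249))))
 (N (N (N (N (L 1597)
 (L 24589))
 (N (L 11852)
 (L 42573)))
 (N (N (L 6486)
 (L 32272))
 (N (L 17699)
 (L 59734))))
 (N (N (N (L 3947)
 (L 28213))
 (N (L 14666)
 (L 49190)))
 (N (N (L 9056)
 (L 36914))
 (L 20846)))))
 (N (N (N (N (N (L 1051)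
 (L 23610))
 (N (L 11115)
 (L 41069)))
 (N (N (L 5923)
 (L 31235))
 (N (L 16931)
 (L 56597))))
 (N (N (N (L 3388)
 (L 27242))
 (N (L 13930)
 (L 47451)))
 (N (N (L 8473)
 (L 35652))
 (L 20051))))
 (N (N (N (N (L 2146)
 (L 25435))
 (N (L 12591)
 (L 44081)))
 (N (N (L 7187)
 (L 33359))
 (N (L 18465)
 (L 65299))))
 (N (N (N (L 4647)
 (L 29199))
 (N (L 15408)
 (L 51205)))
 (N (N (L 9789)
 (L 38200))
 (L 21818))))))))
 (N (N (N (N (N (N (N (N (L 60)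
 (L 22100))
 (N (L 10046)
 (L 38699)))
 (N (N (L 4895)
 (L 29499))
 (N (L 15674)
 (L 52044))))
 (N (N (N (L 2389)
 (L 25872))
 (N (L 12858)
 (L 44813)))
 (N (N (L 7434)
 (L 33824))
 (L 18735))))
 (N (N (N (N (L 1290)
 (L 23907))
 (N (L 11370)
 (L 41737)))
 (N (N (L 6172)
 (L 31549))
 (N (L 17207)
 (L 57640))))
 (N (N (N (L 3630)
 (L 27674))
 (N (L 14185)
 (L 48148)))
 (N (N (L 8722)
 (L 36146))
 (L 20332)))))
 (N (N (N (N (N (L 603)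
 (L 23070))
 (N (L 10776)
 (L 40204)))
 (N (N (L 5463)
 (L 30522))
 (N (L 16438)
 (L 54619))))
 (N (N (N (L 3080)
 (L 26716))
 (N (L 13595)
 (L 46389)))
 (N (N (L 8006)
 (L 34904))
 (L 19530))))
 (N (N (N (N (L 1838)
 (L 24872))
 (N (L 12112)
 (L 43098)))
 (N (N (L 6731)
 (L 32597))
 (N (L 17962)
 (L 61506))))
 (N (N (N (L 4193)
 (L 28509))
 (N (L 14926)
 (L 49954)))
 (N (N (L 9315)
 (L 37409))
 (L 21274))))))
 (N (N (N (N (N (N (L 331)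
 (L 22587))
 (N (L 10342)
 (L 39442)))
 (N (N (L 5179)
 (L 30008))
 (N (L 16129)
 (L 53302))))
 (N (N (N (L 2663)
 (L 26370))
 (N (L 13163)
 (L 45579)))
 (N (N (L 7721)
 (L 34364))
 (L 19202))))
 (N (N (N (N (L 1564)
 (L 24388))
 (N (L 11811)
 (L 42343)))
 (N (N (L 6452)
 (L 32079))
 (N (L 17518)
 (L 59420))))
 (N (N (N (L 3914)
 (L 28015))
 (N (L 14628)
 (L 48953)))
 (N (N (L 9020)
 (L 36696))
 (L 20802)))))
 (N (N (N (N (N (L 875)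
 (L 23408))
 (N (L 11076)
 (L 40980)))
 (N (N (L 5744)
 (L 31035))
 (N (L 16748)
 (L 56137))))
 (N (N (N (L 3355)
 (L 27185))
 (N (L 13894)
 (L 47209)))
 (N (N (L 8294)
 (L 35589))
 (L 20006))))
 (N (N (N (N (L 2114)
 (L 25377))
 (N (L 12554)
 (L 43851)))
 (N (N (L 7010)
 (L 33297))
 (N (L 18276)
 (L 64305))))
 (N (N (N (L 4615)
 (L 29006))
 (N (L 15366)
 (L 50949)))
 (N (N (L 9751)
 (L 37987))
 (L 21767)))))))
 (N (N (N (N (N (N (N (L 267)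
 (L 22348))
 (N (L 10262)
 (L 39009)))
 (N (N (L 4966)
 (L 29753))
 (N (L 15901)
 (L 52568))))
 (N (N (N (L 2597)
 (L 26122))
 (N (L 13080)
 (L 45131)))
 (N (N (L 7505)
 (L 34081))
 (L 18962))))
 (N (N (N (N (L 1355)
 (L 24147))
 (N (L 11590)
 (L 42047)))
 (N (N (L 6238)
 (L 31816))
 (N (L 17434)
 (L 58434))))
 (N (N (N (L 3842)
 (L 27917))
 (N (L 14404)
 (L 48481)))
 (N (N (L 8798)
 (L 36418))
 (L 20568)))))
 (N (N (N (N (N (L 811)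
 (L 23308))
 (N (L 10855)
 (L 40524)))
 (N (N (L 5675)
 (L 30774))
 (N (L 16660)
 (L 55349))))
 (N (N (N (L 3146)
 (L 26954))
 (N (L 13674)
 (L 46881)))
 (N (N (L 8220)
 (L 35171))
 (L 19770))))
 (N (N (N (N (L 1904)
 (L 25121))
 (N (L 12331)
 (L 43533)))
 (N (N (L 6944)
 (L 32874))
 (N (L 18188)
 (L 62785))))
 (N (N (N (L 4404)
 (L 28758))
 (N (L 15149)
 (L 50273)))
 (N (N (L 9536)
 (L 37694))
 (L 21522))))))
 (N (N (N (N (N (N (L 538)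
 (L 22843))
 (N (L 10557)
 (L 39747)))
 (N (N (L 5391)
 (L 30265))
 (N (L 16213)
 (L 53869))))
 (N (N (N (L 2872)
 (L 26473))
 (N (L 13377)
 (L 45920)))
 (N (N (L 7792)
 (L 34639))
 (L 19289))))
 (N (N (N (N (L 1630)
 (L 24640))
 (N (L 12032)
 (L 42792)))
 (N (N (L 6664)
 (L 32338))
 (N (L 17741)
 (L 60213))))
 (N (N (N (L 4124)
 (L 28262))
 (N (L 14704)
 (L 49452)))
 (N (N (L 9239)
 (L 37123))
 (L 21029)))))
 (N (N (N (N (N (L 1083)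
 (L 23658))
 (N (L 11294)
 (L 41284)))
 (N (N (L 5956)
 (L 31299))
 (N (L 16973)
 (L 56891))))
 (N (N (N (L 3423)
 (L 27432))
 (N (L 14110)
 (L 47699)))
 (N (N (L 8507)
 (L 35857))
 (L 20238))))
 (N (N (N (N (L 2322)
 (L 25629))
 (N (L 12634)
 (L 44333)))
 (N (N (L 7221)
 (L 33567))
 (N (L 18506)
 (L 66339))))
 (N (N (N (L 4684)
 (L 29253))
 (N (L 15445)
 (L 51306)))
 (N (N (L 9828)
 (L 38414))
 (L 21869))))))))))))
 (N (N (N (N (N (N (N (N (N (N (N (N (L 2)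
 (L 22020))
 (N (L 9834)
 (L 38434)))
 (N (N (L 4691)
 (L 29260))
 (N (L 15453)
 (L 51476))))
 (N (N (N (L 2328)
 (L 25638))
 (N (L 12644)
 (L 44352)))
 (N (N (L 7227)
 (L 33574))
 (N (L 18512)
 (L 66406)))))
 (N (N (N (N (L 1089)
 (L 23664))
 (N (L 11300)
 (L 41302)))
 (N (N (L 5964)
 (L 31306))
 (N (L 16979)
 (L 56907))))
 (N (N (N (L 3429)
 (L 27441))
 (N (L 14116)
 (L 47719)))
 (N (N (L 8515)
 (L 35875))
 (L 20245)))))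
 (N (N (N (N (N (L 544)
 (L 22852))
 (N (L 10563)
 (L 39773)))
 (N (N (L 5397)
 (L 30275))
 (N (L 16220)
 (L 54040))))
 (N (N (N (L 2878)
 (L 26480))
 (N (L 13384)
 (L 45936)))
 (N (N (L 7942)
 (L 34655))
 (L 19296))))
 (N (N (N (N (L 1636)
 (L 24650))
 (N (L 12040)
 (L 42808)))
 (N (N (L 6670)
 (L 32348))
 (N (L 17748)
 (L 60253))))
 (N (N (N (L 4131)
 (L 28417))
 (N (L 14856)
 (L 49467)))
 (N (N (L 9248)
 (L 37136))
 (L 21041))))))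
 (N (N (N (N (N (N (L 273)
 (L 22359))
 (N (L 10268)
 (L 39023)))
 (N (N (L 4972)
 (L 29760))
 (N (L 15909)
 (L 52740))))
 (N (N (N (L 2603)
 (L 26128))
 (N (L 13088)
 (L 45138)))
 (N (N (L 7511)
 (L 34090))
 (L 18974))))
 (N (N (N (N (L 1361)
 (L 24159))
 (N (L 11598)
 (L 42059)))
 (N (N (L 6245)
 (L 31825))
 (N (L 17443)
 (L 58456))))
 (N (N (N (L 3849)
 (L 27930))
 (N (L 14411)
 (L 48643)))
 (N (N (L 8806)
 (L 36432))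
 (L 20580)))))
 (N (N (N (N (N (L 817)
 (L 23318))
 (N (L 10862)
 (L 40538)))
 (N (N (L 5681)
 (L 30785))
 (N (L 16668)
 (L 55374))))
 (N (N (N (L 3152)
 (L 26964))
 (N (L 13825)
 (L 46899)))
 (N (N (L 8226)
 (L 35181))
 (L 19779))))
 (N (N (N (N (L 2055)
 (L 25131))
 (N (L 12339)
 (L 43563)))
 (N (N (L 6950)
 (L 33031))
 (N (L 18197)
 (L 62831))))
 (N (N (N (L 4411)
 (L 28769))
 (N (L 15155)
 (L 50442)))
 (N (N (L 9542)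
 (L 37705))
 (L 21529)))))))
 (N (N (N (N (N (N (N (L 66)
 (L 22109))
 (N (L 10054)
 (L 38712)))
 (N (N (L 4901)
 (L 29511))
 (N (L 15683)
 (L 52067))))
 (N (N (N (L 2395)
 (L 25883))
 (N (L 12865)
 (L 44828)))
 (N (N (L 7440)
 (L 33830))
 (L 18742))))
 (N (N (N (N (L 1296)
 (L 23915))
 (N (L 11376)
 (L 41752)))
 (N (N (L 6178)
 (L 31560))
 (N (L 17216)
 (L 57668))))
 (N (N (N (L 3637)
 (L 27681))
 (N (L 14336)
 (L 48162)))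
 (N (N (L 8729)
 (L 36158))
 (L 20485)))))
 (N (N (N (N (N (L 609)
 (L 23080))
 (N (L 10783)
 (L 40213)))
 (N (N (L 5470)
 (L 30534))
 (N (L 16445)
 (L 54790))))
 (N (N (N (L 3086)
 (L 26724))
 (N (L 13602)
 (L 46410)))
 (N (N (L 8013)
 (L 34917))
 (L 19537))))
 (N (N (N (N (L 1844)
 (L 24880))
 (N (L 12120)
 (L 43111)))
 (N (N (L 6737)
 (L 32612))
 (N (L 17972)
 (L 61708))))
 (N (N (N (L 4200)
 (L 28518))
 (N (L 14932)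
 (L 49970)))
 (N (N (L 9321)
 (L 37420))
 (L 21284))))))
 (N (N (N (N (N (N (L 337)
 (L 22597))
 (N (L 10348)
 (L 39454)))
 (N (N (L 5186)
 (L 30020))
 (N (L 16137)
 (L 53324))))
 (N (N (N (L 2669)
 (L 26381))
 (N (L 13312)
 (L 45589)))
 (N (N (L 7730)
 (L 34377))
 (L 19212))))
 (N (N (N (N (L 1570)
 (L 24403))
 (N (L 11820)
 (L 42352)))
 (N (N (L 6459)
 (L 32092))
 (N (L 17668)
 (L 59449))))
 (N (N (N (L 3920)
 (L 28166))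
 (N (L 14636)
 (L 48974)))
 (N (N (L 9027)
 (L 36703))
 (L 20810)))))
 (N (N (N (N (N (L 1024)
 (L 23561))
 (N (L 11084)
 (L 40999)))
 (N (N (L 5894)
 (L 31044))
 (N (L 16897)
 (L 56161))))
 (N (N (N (L 3361)
 (L 27191))
 (N (L 13900)
 (L 47373)))
 (N (N (L 8301)
 (L 35598))
 (L 20016))))
 (N (N (N (N (L 2120)
 (L 25385))
 (N (L 12560)
 (L 43866)))
 (N (N (L 7016)
 (L 33310))
 (N (L 18283)
 (L 64342))))
 (N (N (N (L 4621)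
 (L 29014))
 (N (L 15373)
 (L 50979)))
 (N (N (L 9758)
 (L 37998))
 (L 21777))))))))
 (N (N (N (N (N (N (N (N (L 34)
 (L 22060))
 (N (L 10015)
 (L 38503)))
 (N (N (L 4868)
 (L 29456))
 (N (L 15639)
 (L 51785))))
 (N (N (N (L 2361)
 (L 25687))
 (N (L 12827)
 (L 44591)))
 (N (N (L 7264)
 (L 33634))
 (N (L 18694)
 (L 68698)))))
 (N (N (N (N (L 1121)
 (L 23861))
 (N (L 11340)
 (L 41521)))
 (N (N (L 5999)
 (L 31507))
 (N (L 17169)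
 (L 57346))))
 (N (N (N (L 3604)
 (L 27491))
 (N (L 14156)
 (L 47939)))
 (N (N (L 8549)
 (L 35941))
 (L 20293)))))
 (N (N (N (N (N (L 576)
 (L 22893))
 (N (L 10605)
 (L 39992)))
 (N (N (L 5432)
 (L 30473))
 (N (L 16403)
 (L 54350))))
 (N (N (N (L 2910)
 (L 26678))
 (N (L 13422)
 (L 46172)))
 (N (N (L 7974)
 (L 34848))
 (L 19491))))
 (N (N (N (N (L 1811)
 (L 24839))
 (N (L 12078)
 (L 43021)))
 (N (N (L 6704)
 (L 32547))
 (N (L 17929)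
 (L 60981))))
 (N (N (N (L 4166)
 (L 28467))
 (N (L 14893)
 (L 49731)))
 (N (N (L 9284)
 (L 37213))
 (L 21096))))))
 (N (N (N (N (N (N (L 305)
 (L 22546))
 (N (L 10306)
 (L 39242)))
 (N (N (L 5150)
 (L 29958))
 (N (L 15955)
 (L 53034))))
 (N (N (N (L 2636)
 (L 26189))
 (N (L 13124)
 (L 45363)))
 (N (N (L 7690)
 (L 34152))
 (L 19020))))
 (N (N (N (N (L 1537)
 (L 24350))
 (N (L 11779)
 (L 42269)))
 (N (N (L 6423)
 (L 32023))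
 (N (L 17487)
 (L 58939))))
 (N (N (N (L 3886)
 (L 27978))
 (N (L 14596)
 (L 48744)))
 (N (N (L 8987)
 (L 36645))
 (L 20765)))))
 (N (N (N (N (N (L 849)
 (L 23370))
 (N (L 11043)
 (L 40769)))
 (N (N (L 5718)
 (L 30981))
 (N (L 16715)
 (L 55838))))
 (N (N (N (L 3328)
 (L 27152))
 (N (L 13862)
 (L 47157)))
 (N (N (L 8265)
 (L 35396))
 (L 19820))))
 (N (N (N (N (L 2087)
 (L 25191))
 (N (L 12381)
 (L 43786)))
 (N (N (L 6983)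
 (L 33101))
 (N (L 18244)
 (L 63564))))
 (N (N (N (L 4445)
 (L 28967))
 (N (L 15194)
 (L 50721)))
 (N (N (L 9577)
 (L 37926))
 (L 21582)))))))
 (N (N (N (N (N (N (N (L 98)
 (L 22307))
 (N (L 10091)
 (L 38934)))
 (N (N (L 4935)
 (L 29699))
 (N (L 15722)
 (L 52336))))
 (N (N (N (L 2570)
 (L 25933))
 (N (L 12907)
 (L 44904)))
 (N (N (L 7476)
 (L 33893))
 (L 18785))))
 (N (N (N (N (L 1328)
 (L 24108))
 (N (L 11560)
 (L 41835)))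
 (N (N (L 6211)
 (L 31764))
 (N (L 17258)
 (L 58122))))
 (N (N (N (L 3671)
 (L 27732))
 (N (L 14374)
 (L 48411)))
 (N (N (L 8771)
 (L 36363))
 (L 20530)))))
 (N (N (N (N (N (L 785)
 (L 23129))
 (N (L 10823)
 (L 40461)))
 (N (N (L 5646)
 (L 30729))
 (N (L 16485)
 (L 55062))))
 (N (N (N (L 3119)
 (L 26917))
 (N (L 13642)
 (L 46668)))
 (N (N (L 8192)
 (L 35127))
 (L 19732))))
 (N (N (N (N (L 1878)
 (L 24940))
 (N (L 12300)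
 (L 43325)))
 (N (N (L 6916)
 (L 32822))
 (N (L 18013)
 (L 62060))))
 (N (N (N (L 4377)
 (L 28719))
 (N (L 15112)
 (L 50202)))
 (N (N (L 9505)
 (L 37641))
 (L 21338))))))
 (N (N (N (N (N (N (L 512)
 (L 22795))
 (N (L 10525)
 (L 39684)))
 (N (N (L 5220)
 (L 30217))
 (N (L 16182)
 (L 53597))))
 (N (N (N (L 2845)
 (L 26428))
 (N (L 13348)
 (L 45678)))
 (N (N (L 7765)
 (L 34586))
 (L 19256))))
 (N (N (N (N (L 1603)
 (L 24597))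
 (N (L 11859)
 (L 42583)))
 (N (N (L 6493)
 (L 32283))
 (N (L 17705)
 (L 59753))))
 (N (N (N (L 4096)
 (L 28221))
 (N (L 14674)
 (L 49205)))
 (N (N (L 9063)
 (L 36926))
 (L 20997)))))
 (N (N (N (N (N (L 1057)
 (L 23620))
 (N (L 11267)
 (L 41226)))
 (N (N (L 5929)
 (L 31246))
 (N (L 16937)
 (L 56616))))
 (N (N (N (L 3396)
 (L 27397))
 (N (L 13936)
 (L 47472)))
 (N (N (L 8479)
 (L 35672))
 (L 20058))))
 (N (N (N (N (L 2152)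
 (L 25448))
 (N (L 12600)
 (L 44099)))
 (N (N (L 7195)
 (L 33371))
 (N (L 18472)
 (L 65366))))
 (N (N (N (L 4655)
 (L 29212))
 (N (L 15416)
 (L 51230)))
 (N (N (L 9795)
 (L 38211))
 (L 21827)))))))))
 (N (N (N (N (N (N (N (N (N (L 18)
 (L 22037))
 (N (L 9996)
 (L 38459)))
 (N (N (L 4708)
 (L 29287))
 (N (L 15617)
 (L 51730))))
 (N (N (N (L 2345)
 (L 25663))
 (N (L 12807)
 (L 44552)))
 (N (N (L 7245)
 (L 33608))
 (N (L 18530)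
 (L 67361)))))
 (N (N (N (N (L 1105)
 (L 23835))
 (N (L 11321)
 (L 41478)))
 (N (N (L 5982)
 (L 31335))
 (N (L 17004)
 (L 57132))))
 (N (N (N (L 3588)
 (L 27470))
 (N (L 14135)
 (L 47894)))
 (N (N (L 8532)
 (L 35909))
 (L 20272)))))
 (N (N (N (N (N (L 560)
 (L 22873))
 (N (L 10586)
 (L 39952)))
 (N (N (L 5416)
 (L 30302))
 (N (L 16239)
 (L 54126))))
 (N (N (N (L 2894)
 (L 26652))
 (N (L 13404)
 (L 46128)))
 (N (N (L 7958)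
 (L 34672))
 (L 19465))))
 (N (N (N (N (L 1795)
 (L 24676))
 (N (L 12058)
 (L 42847)))
 (N (N (L 6687)
 (L 32515))
 (N (L 17767)
 (L 60692))))
 (N (N (N (L 4150)
 (L 28447))
 (N (L 14875)
 (L 49514)))
 (N (N (L 9267)
 (L 37184))
 (L 21069))))))
 (N (N (N (N (N (N (L 289)
 (L 22378))
 (N (L 10288)
 (L 39206)))
 (N (N (L 5134)
 (L 29786))
 (N (L 15929)
 (L 52828))))
 (N (N (N (L 2620)
 (L 26160))
 (N (L 13105)
 (L 45323)))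
 (N (N (L 7529)
 (L 34116))
 (L 19000))))
 (N (N (N (N (L 1378)
 (L 24327))
 (N (L 11617)
 (L 42090)))
 (N (N (L 6406)
 (L 31855))
 (N (L 17462)
 (L 58712))))
 (N (N (N (L 3867)
 (L 27951))
 (N (L 14433)
 (L 48692)))
 (N (N (L 8968)
 (L 36613))
 (L 20742)))))
 (N (N (N (N (N (L 833)
 (L 23343))
 (N (L 11025)
 (L 40728)))
 (N (N (L 5699)
 (L 30814))
 (N (L 16693)
 (L 55629))))
 (N (N (N (L 3169)
 (L 26986))
 (N (L 13843)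
 (L 46948)))
 (N (N (L 8244)
 (L 35359))
 (L 19799))))
 (N (N (N (N (L 2071)
 (L 25160))
 (N (L 12360)
 (L 43603)))
 (N (N (L 6966)
 (L 33056))
 (N (L 18219)
 (L 63250))))
 (N (N (N (L 4428)
 (L 28942))
 (N (L 15174)
 (L 50504)))
 (N (N (L 9560)
 (L 37739))
 (L 21551)))))))
 (N (N (N (N (N (N (N (L 82)
 (L 22281))
 (N (L 10074)
 (L 38757)))
 (N (N (L 4919)
 (L 29532))
 (N (L 15700)
 (L 52285))))
 (N (N (N (L 2411)
 (L 25907))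
 (N (L 12888)
 (L 44864)))
 (N (N (L 7459)
 (L 33868))
 (L 18761))))
 (N (N (N (N (L 1312)
 (L 24080))
 (N (L 11540)
 (L 41799)))
 (N (N (L 6194)
 (L 31591))
 (N (L 17237)
 (L 57914))))
 (N (N (N (L 3654)
 (L 27704))
 (N (L 14355)
 (L 48204)))
 (N (N (L 8753)
 (L 36184))
 (L 20511)))))
 (N (N (N (N (N (L 768)
 (L 23105))
 (N (L 10802)
 (L 40262)))
 (N (N (L 5486)
 (L 30561))
 (N (L 16465)
 (L 54871))))
 (N (N (N (L 3103)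
 (L 26891))
 (N (L 13621)
 (L 46616)))
 (N (N (L 8032)
 (L 35101))
 (L 19561))))
 (N (N (N (N (L 1860)
 (L 24911))
 (N (L 12139)
 (L 43285)))
 (N (N (L 6754)
 (L 32793))
 (N (L 17993)
 (L 61958))))
 (N (N (N (L 4360)
 (L 28690))
 (N (L 14950)
 (L 50016)))
 (N (N (L 9482)
 (L 37457))
 (L 21311))))))
 (N (N (N (N (N (N (L 353)
 (L 22624))
 (N (L 10508)
 (L 39490)))
 (N (N (L 5203)
 (L 30040))
 (N (L 16159)
 (L 53531))))
 (N (N (N (L 2828)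
 (L 26404))
 (N (L 13331)
 (L 45627)))
 (N (N (L 7748)
 (L 34408))
 (L 19234))))
 (N (N (N (N (L 1587)
 (L 24576))
 (N (L 11841)
 (L 42531)))
 (N (N (L 6476)
 (L 32112))
 (N (L 17687)
 (L 59675))))
 (N (N (N (L 3936)
 (L 28199))
 (N (L 14655)
 (L 49157)))
 (N (N (L 9045)
 (L 36891))
 (L 20831)))))
 (N (N (N (N (N (L 1040)
 (L 23587))
 (N (L 11104)
 (L 41044)))
 (N (N (L 5911)
 (L 31069))
 (N (L 16918)
 (L 56407))))
 (N (N (N (L 3378)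
 (L 27227))
 (N (L 13917)
 (L 47414)))
 (N (N (L 8460)
 (L 35634))
 (L 20038))))
 (N (N (N (N (L 2136)
 (L 25418))
 (N (L 12580)
 (L 44054)))
 (N (N (L 7176)
 (L 33344))
 (N (L 18445)
 (L 64877))))
 (N (N (N (L 4637)
 (L 29037))
 (N (L 15395)
 (L 51025)))
 (N (N (L 9777)
 (L 38177))
 (L 21802))))))))
 (N (N (N (N (N (N (N (N (L 50)
 (L 22082))
 (N (L 10034)
 (L 38674)))
 (N (N (L 4885)
 (L 29485))
 (N (L 15662)
 (L 52020))))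
 (N (N (N (L 2378)
 (L 25857))
 (N (L 12846)
 (L 44646)))
 (N (N (L 7280)
 (L 33801))
 (L 18719))))
 (N (N (N (N (L 1280)
 (L 23887))
 (N (L 11360)
 (L 41566)))
 (N (N (L 6160)
 (L 31537))
 (N (L 17190)
 (L 57444))))
 (N (N (N (L 3620)
 (L 27661))
 (N (L 14173)
 (L 47979)))
 (N (N (L 8711)
 (L 36125))
 (L 20317)))))
 (N (N (N (N (N (L 593)
 (L 23058))
 (N (L 10766)
 (L 40034)))
 (N (N (L 5451)
 (L 30502))
 (N (L 16423)
 (L 54569))))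
 (N (N (N (L 2926)
 (L 26703))
 (N (L 13584)
 (L 46366)))
 (N (N (L 7994)
 (L 34880))
 (L 19515))))
 (N (N (N (N (L 1827)
 (L 24859))
 (N (L 12097)
 (L 43068)))
 (N (N (L 6720)
 (L 32579))
 (N (L 17951)
 (L 61272))))
 (N (N (N (L 4183)
 (L 28492))
 (N (L 14912)
 (L 49775)))
 (N (N (L 9303)
 (L 37391))
 (L 21261))))))
 (N (N (N (N (N (N (L 321)
 (L 22570))
 (N (L 10330)
 (L 39426)))
 (N (N (L 5168)
 (L 29994))
 (N (L 15973)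
 (L 53252))))
 (N (N (N (L 2653)
 (L 26215))
 (N (L 13149)
 (L 45405)))
 (N (N (L 7710)
 (L 34336))
 (L 19041))))
 (N (N (N (N (L 1554)
 (L 24373))
 (N (L 11799)
 (L 42311)))
 (N (N (L 6441)
 (L 32061))
 (N (L 17506)
 (L 59196))))
 (N (N (N (L 3903)
 (L 28001))
 (N (L 14616)
 (L 48935)))
 (N (N (L 9008)
 (L 36674))
 (L 20786)))))
 (N (N (N (N (N (L 865)
 (L 23394))
 (N (L 11065)
 (L 40808)))
 (N (N (L 5734)
 (L 31012))
 (N (L 16737)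
 (L 56067))))
 (N (N (N (L 3345)
 (L 27172))
 (N (L 13879)
 (L 47193)))
 (N (N (L 8284)
 (L 35428))
 (L 19985))))
 (N (N (N (N (L 2103)
 (L 25358))
 (N (L 12399)
 (L 43818)))
 (N (N (L 6999)
 (L 33127))
 (N (L 18263)
 (L 63853))))
 (N (N (N (L 4461)
 (L 28987))
 (N (L 15211)
 (L 50769)))
 (N (N (L 9740)
 (L 37957))
 (L 21608)))))))
 (N (N (N (N (N (N (N (L 257)
 (L 22332))
 (N (L 10252)
 (L 38972)))
 (N (N (L 4956)
 (L 29732))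
 (N (L 15887)
 (L 52538))))
 (N (N (N (L 2587)
 (L 25963))
 (N (L 13069)
 (L 45089)))
 (N (N (L 7495)
 (L 34065))
 (L 18951))))
 (N (N (N (N (L 1344)
 (L 24130))
 (N (L 11579)
 (L 42012)))
 (N (N (L 6227)
 (L 31798))
 (N (L 17422)
 (L 58215))))
 (N (N (N (L 3688)
 (L 27758))
 (N (L 14392)
 (L 48453)))
 (N (N (L 8788)
 (L 36397))
 (L 20555)))))
 (N (N (N (N (N (L 801)
 (L 23150))
 (N (L 10843)
 (L 40503)))
 (N (N (L 5664)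
 (L 30757))
 (N (L 16648)
 (L 55300))))
 (N (N (N (L 3135)
 (L 26937))
 (N (L 13661)
 (L 46701)))
 (N (N (L 8210)
 (L 35155))
 (L 19758))))
 (N (N (N (N (L 1894)
 (L 25107))
 (N (L 12318)
 (L 43370)))
 (N (N (L 6933)
 (L 32850))
 (N (L 18032)
 (L 62527))))
 (N (N (N (L 4394)
 (L 28746))
 (N (L 15137)
 (L 50250)))
 (N (N (L 9523)
 (L 37669))
 (L 21506))))))
 (N (N (N (N (N (N (L 528)
 (L 22824))
 (N (L 10544)
 (L 39727)))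
 (N (N (L 5381)
 (L 30248))
 (N (L 16201)
 (L 53827))))
 (N (N (N (L 2862)
 (L 26458))
 (N (L 13366)
 (L 45864)))
 (N (N (L 7782)
 (L 34612))
 (L 19278))))
 (N (N (N (N (L 1620)
 (L 24622))
 (N (L 11878)
 (L 42767)))
 (N (N (L 6510)
 (L 32319))
 (N (L 17725)
 (L 59993))))
 (N (N (N (L 4114)
 (L 28245))
 (N (L 14693)
 (L 49261)))
 (N (N (L 9228)
 (L 36955))
 (L 21015)))))
 (N (N (N (N (N (L 1073)
 (L 23643))
 (N (L 11284)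
 (L 41261)))
 (N (N (L 5945)
 (L 31282))
 (N (L 16957)
 (L 56837))))
 (N (N (N (L 3412)
 (L 27419))
 (N (L 14098)
 (L 47667)))
 (N (N (L 8495)
 (L 35843))
 (L 20079))))
 (N (N (N (N (L 2312)
 (L 25613))
 (N (L 12621)
 (L 44303)))
 (N (N (L 7211)
 (L 33544))
 (N (L 18492)
 (L 65879))))
 (N (N (N (L 4672)
 (L 29238))
 (N (L 15435)
 (L 51283)))
 (N (N (L 9814)
 (L 38245))
 (L 21855))))))))))
 (N (N (N (N (N (N (N (N (N (N (L 10)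
 (L 22028))
 (N (L 9987)
 (L 38448)))
 (N (N (L 4700)
 (L 29277))
 (N (L 15462)
 (L 51523))))
 (N (N (N (L 2337)
 (L 25649))
 (N (L 12653)
 (L 44383)))
 (N (N (L 7236)
 (L 33589))
 (N (L 18522)
 (L 66877)))))
 (N (N (N (N (L 1097)
 (L 23823))
 (N (L 11311)
 (L 41317)))
 (N (N (L 5974)
 (L 31320))
 (N (L 16993)
 (L 56939))))
 (N (N (N (L 3437)
 (L 27454))
 (N (L 14126)
 (L 47873)))
 (N (N (L 8524)
 (L 35895))
 (L 20258)))))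
 (N (N (N (N (N (L 552)
 (L 22862))
 (N (L 10574)
 (L 39790)))
 (N (N (L 5406)
 (L 30288))
 (N (L 16230)
 (L 54088))))
 (N (N (N (L 2886)
 (L 26638))
 (N (L 13394)
 (L 46098)))
 (N (N (L 7950)
 (L 34663))
 (L 19308))))
 (N (N (N (N (L 1644)
 (L 24664))
 (N (L 12049)
 (L 42829)))
 (N (N (L 6679)
 (L 32360))
 (N (L 17759)
 (L 60479))))
 (N (N (N (L 4141)
 (L 28427))
 (N (L 14864)
 (L 49498)))
 (N (N (L 9257)
 (L 37161))
 (L 21054))))))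
 (N (N (N (N (N (N (L 281)
 (L 22369))
 (N (L 10276)
 (L 39186)))
 (N (N (L 5125)
 (L 29773))
 (N (L 15917)
 (L 52771))))
 (N (N (N (L 2611)
 (L 26141))
 (N (L 13097)
 (L 45162)))
 (N (N (L 7520)
 (L 34104))
 (L 18989))))
 (N (N (N (N (L 1370)
 (L 24171))
 (N (L 11607)
 (L 42074)))
 (N (N (L 6253)
 (L 31843))
 (N (L 17451)
 (L 58672))))
 (N (N (N (L 3857)
 (L 27941))
 (N (L 14422)
 (L 48675)))
 (N (N (L 8815)
 (L 36447))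
 (L 20589)))))
 (N (N (N (N (N (L 825)
 (L 23330))
 (N (L 11017)
 (L 40707)))
 (N (N (L 5690)
 (L 30796))
 (N (L 16679)
 (L 55574))))
 (N (N (N (L 3160)
 (L 26974))
 (N (L 13834)
 (L 46930)))
 (N (N (L 8234)
 (L 35337))
 (L 19789))))
 (N (N (N (N (L 2063)
 (L 25143))
 (N (L 12349)
 (L 43585)))
 (N (N (L 6958)
 (L 33043))
 (N (L 18209)
 (L 63026))))
 (N (N (N (L 4419)
 (L 28929))
 (N (L 15164)
 (L 50468)))
 (N (N (L 9551)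
 (L 37717))
 (L 21538)))))))
 (N (N (N (N (N (N (N (L 74)
 (L 22120))
 (N (L 10064)
 (L 38730)))
 (N (N (L 4910)
 (L 29520))
 (N (L 15692)
 (L 52247))))
 (N (N (N (L 2403)
 (L 25893))
 (N (L 12877)
 (L 44846)))
 (N (N (L 7450)
 (L 33852))
 (L 18752))))
 (N (N (N (N (L 1304)
 (L 24069))
 (N (L 11531)
 (L 41775)))
 (N (N (L 6186)
 (L 31576))
 (N (L 17226)
 (L 57862))))
 (N (N (N (L 3645)
 (L 27694))
 (N (L 14345)
 (L 48179)))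
 (N (N (L 8740)
 (L 36172))
 (L 20496)))))
 (N (N (N (N (N (L 617)
 (L 23093))
 (N (L 10791)
 (L 40242)))
 (N (N (L 5478)
 (L 30549))
 (N (L 16455)
 (L 54833))))
 (N (N (N (L 3095)
 (L 26735))
 (N (L 13613)
 (L 46446)))
 (N (N (L 8023)
 (L 35075))
 (L 19548))))
 (N (N (N (N (L 1852)
 (L 24895))
 (N (L 12131)
 (L 43270)))
 (N (N (L 6746)
 (L 32771))
 (N (L 17981)
 (L 61767))))
 (N (N (N (L 4208)
 (L 28673))
 (N (L 14941)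
 (L 49994)))
 (N (N (L 9472)
 (L 37436))
 (L 21302))))))
 (N (N (N (N (N (N (L 345)
 (L 22608))
 (N (L 10500)
 (L 39473)))
 (N (N (L 5195)
 (L 30029))
 (N (L 16147)
 (L 53353))))
 (N (N (N (L 2820)
 (L 26395))
 (N (L 13322)
 (L 45604)))
 (N (N (L 7738)
 (L 34391))
 (L 19223))))
 (N (N (N (N (L 1579)
 (L 24421))
 (N (L 11830)
 (L 42515)))
 (N (N (L 6468)
 (L 32102))
 (N (L 17679)
 (L 59496))))
 (N (N (N (L 3928)
 (L 28188))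
 (N (L 14646)
 (L 48986)))
 (N (N (L 9037)
 (L 36869))
 (L 20821)))))
 (N (N (N (N (N (L 1032)
 (L 23574))
 (N (L 11095)
 (L 41025)))
 (N (N (L 5903)
 (L 31057))
 (N (L 16909)
 (L 56354))))
 (N (N (N (L 3369)
 (L 27210))
 (N (L 13908)
 (L 47390)))
 (N (N (L 8452)
 (L 35615))
 (L 20027))))
 (N (N (N (N (L 2128)
 (L 25403))
 (N (L 12571)
 (L 44042)))
 (N (N (L 7024)
 (L 33331))
 (N (L 18435)
 (L 64602))))
 (N (N (N (L 4629)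
 (L 29027))
 (N (L 15384)
 (L 50998)))
 (N (N (L 9766)
 (L 38158))
 (L 21788))))))))
 (N (N (N (N (N (N (N (N (L 42)
 (L 22070))
 (N (L 10024)
 (L 38659)))
 (N (N (L 4877)
 (L 29475))
 (N (L 15652)
 (L 51823))))
 (N (N (N (L 2369)
 (L 25700))
 (N (L 12836)
 (L 44623)))
 (N (N (L 7272)
 (L 33646))
 (L 18703))))
 (N (N (N (N (L 1129)
 (L 23876))
 (N (L 11351)
 (L 41550)))
 (N (N (L 6151)
 (L 31523))
 (N (L 17179)
 (L 57408))))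
 (N (N (N (L 3612)
 (L 27504))
 (N (L 14164)
 (L 47963)))
 (N (N (L 8558)
 (L 36111))
 (L 20304)))))
 (N (N (N (N (N (L 585)
 (L 23049))
 (N (L 10757)
 (L 40014)))
 (N (N (L 5442)
 (L 30492))
 (N (L 16412)
 (L 54537))))
 (N (N (N (L 2918)
 (L 26689))
 (N (L 13575)
 (L 46343)))
 (N (N (L 7985)
 (L 34860))
 (L 19503))))
 (N (N (N (N (L 1819)
 (L 24847))
 (N (L 12087)
 (L 43043)))
 (N (N (L 6712)
 (L 32565))
 (N (L 17941)
 (L 61203))))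
 (N (N (N (L 4175)
 (L 28479))
 (N (L 14903)
 (L 49748)))
 (N (N (L 9293)
 (L 37231))
 (L 21250))))))
 (N (N (N (N (N (N (L 313)
 (L 22558))
 (N (L 10319)
 (L 39265)))
 (N (N (L 5160)
 (L 29972))
 (N (L 15964)
 (L 53082))))
 (N (N (N (L 2644)
 (L 26203))
 (N (L 13136)
 (L 45389)))
 (N (N (L 7700)
 (L 34315))
 (L 19030))))
 (N (N (N (N (L 1546)
 (L 24362))
 (N (L 11788)
 (L 42287)))
 (N (N (L 6432)
 (L 32039))
 (N (L 17496)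
 (L 59146))))
 (N (N (N (L 3894)
 (L 27988))
 (N (L 14606)
 (L 48902)))
 (N (N (L 8996)
 (L 36659))
 (L 20776)))))
 (N (N (N (N (N (L 857)
 (L 23382))
 (N (L 11055)
 (L 40790)))
 (N (N (L 5726)
 (L 30997))
 (N (L 16727)
 (L 55872))))
 (N (N (N (L 3337)
 (L 27162))
 (N (L 13871)
 (L 47174)))
 (N (N (L 8274)
 (L 35416))
 (L 19974))))
 (N (N (N (N (L 2095)
 (L 25347))
 (N (L 12390)
 (L 43800)))
 (N (N (L 6991)
 (L 33114))
 (N (L 18253)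
 (L 63809))))
 (N (N (N (L 4453)
 (L 28978))
 (N (L 15203)
 (L 50744)))
 (N (N (L 9729)
 (L 37940))
 (L 21597)))))))
 (N (N (N (N (N (N (N (L 106)
 (L 22319))
 (N (L 10243)
 (L 38951)))
 (N (N (L 4945)
 (L 29710))
 (N (L 15877)
 (L 52515))))
 (N (N (N (L 2579)
 (L 25949))
 (N (L 13058)
 (L 45067)))
 (N (N (L 7485)
 (L 34049))
 (L 18798))))
 (N (N (N (N (L 1336)
 (L 24120))
 (N (L 11569)
 (L 41993)))
 (N (N (L 6219)
 (L 31778))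
 (N (L 17410)
 (L 58171))))
 (N (N (N (L 3680)
 (L 27746))
 (N (L 14384)
 (L 48434)))
 (N (N (L 8780)
 (L 36379))
 (L 20540)))))
 (N (N (N (N (N (L 793)
 (L 23141))
 (N (L 10833)
 (L 40485)))
 (N (N (L 5655)
 (L 30742))
 (N (L 16494)
 (L 55113))))
 (N (N (N (L 3127)
 (L 26929))
 (N (L 13652)
 (L 46689)))
 (N (N (L 8201)
 (L 35144))
 (L 19746))))
 (N (N (N (N (L 1886)
 (L 25093))
 (N (L 12309)
 (L 43343)))
 (N (N (L 6924)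
 (L 32832))
 (N (L 18022)
 (L 62308))))
 (N (N (N (L 4385)
 (L 28733))
 (N (L 15124)
 (L 50221)))
 (N (N (L 9514)
 (L 37652))
 (L 21351))))))
 (N (N (N (N (N (N (L 520)
 (L 22811))
 (N (L 10534)
 (L 39712)))
 (N (N (L 5228)
 (L 30237))
 (N (L 16191)
 (L 53779))))
 (N (N (N (L 2853)
 (L 26445))
 (N (L 13356)
 (L 45851)))
 (N (N (L 7774)
 (L 34596))
 (L 19266))))
 (N (N (N (N (L 1612)
 (L 24609))
 (N (L 11870)
 (L 42604)))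
 (N (N (L 6501)
 (L 32300))
 (N (L 17714)
 (L 59942))))
 (N (N (N (L 4106)
 (L 28236))
 (N (L 14684)
 (L 49234)))
 (N (N (L 9217)
 (L 36943))
 (L 21007)))))
 (N (N (N (N (N (L 1065)
 (L 23630))
 (N (L 11276)
 (L 41237)))
 (N (N (L 5937)
 (L 31265))
 (N (L 16949)
 (L 56653))))
 (N (N (N (L 3404)
 (L 27408))
 (N (L 14088)
 (L 47635)))
 (N (N (L 8487)
 (L 35689))
 (L 20068))))
 (N (N (N (N (L 2160)
 (L 25456))
 (N (L 12611)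
 (L 44127)))
 (N (N (L 7203)
 (L 33385))
 (N (L 18481)
 (L 65623))))
 (N (N (N (L 4663)
 (L 29226))
 (N (L 15425)
 (L 51257)))
 (N (N (L 9804)
 (L 38230))
 (L 21839)))))))))
 (N (N (N (N (N (N (N (N (N (L 26)
 (L 22048))
 (N (L 10005)
 (L 38486)))
 (N (N (L 4716)
 (L 29443))
 (N (L 15629)
 (L 51751))))
 (N (N (N (L 2353)
 (L 25676))
 (N (L 12816)
 (L 44571)))
 (N (N (L 7255)
 (L 33621))
 (N (L 18539)
 (L 67896)))))
 (N (N (N (N (L 1113)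
 (L 23848))
 (N (L 11330)
 (L 41498)))
 (N (N (L 5991)
 (L 31492))
 (N (L 17161)
 (L 57170))))
 (N (N (N (L 3596)
 (L 27481))
 (N (L 14144)
 (L 47910)))
 (N (N (L 8541)
 (L 35921))
 (L 20282)))))
 (N (N (N (N (N (L 568)
 (L 22883))
 (N (L 10596)
 (L 39973)))
 (N (N (L 5424)
 (L 30314))
 (N (L 16392)
 (L 54308))))
 (N (N (N (L 2902)
 (L 26662))
 (N (L 13414)
 (L 46154)))
 (N (N (L 7966)
 (L 34829))
 (L 19476))))
 (N (N (N (N (L 1803)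
 (L 24685))
 (N (L 12067)
 (L 43011)))
 (N (N (L 6695)
 (L 32533))
 (N (L 17920)
 (L 60747))))
 (N (N (N (L 4158)
 (L 28458))
 (N (L 14884)
 (L 49683)))
 (N (N (L 9276)
 (L 37195))
 (L 21085))))))
 (N (N (N (N (N (N (L 297)
 (L 22537))
 (N (L 10298)
 (L 39226)))
 (N (N (L 5142)
 (L 29797))
 (N (L 15941)
 (L 52995))))
 (N (N (N (L 2628)
 (L 26175))
 (N (L 13115)
 (L 45340)))
 (N (N (L 7681)
 (L 34133))
 (L 19010))))
 (N (N (N (N (L 1386)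
 (L 24340))
 (N (L 11626)
 (L 42248)))
 (N (N (L 6414)
 (L 32014))
 (N (L 17476)
 (L 58909))))
 (N (N (N (L 3875)
 (L 27960))
 (N (L 14442)
 (L 48717)))
 (N (N (L 8976)
 (L 36633))
 (L 20753)))))
 (N (N (N (N (N (L 841)
 (L 23353))
 (N (L 11035)
 (L 40751)))
 (N (N (L 5709)
 (L 30825))
 (N (L 16704)
 (L 55654))))
 (N (N (N (L 3177)
 (L 27139))
 (N (L 13853)
 (L 47123)))
 (N (N (L 8253)
 (L 35378))
 (L 19807))))
 (N (N (N (N (L 2079)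
 (L 25176))
 (N (L 12371)
 (L 43620)))
 (N (N (L 6974)
 (L 33078))
 (N (L 18231)
 (L 63337))))
 (N (N (N (L 4437)
 (L 28955))
 (N (L 15183)
 (L 50529)))
 (N (N (L 9568)
 (L 37906))
 (L 21564)))))))
 (N (N (N (N (N (N (N (L 90)
 (L 22293))
 (N (L 10083)
 (L 38917)))
 (N (N (L 4927)
 (L 29542))
 (N (L 15711)
 (L 52304))))
 (N (N (N (L 2562)
 (L 25920))
 (N (L 12899)
 (L 44884)))
 (N (N (L 7467)
 (L 33882))
 (L 18773))))
 (N (N (N (N (L 1320)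
 (L 24093))
 (N (L 11549)
 (L 41808)))
 (N (N (L 6203)
 (L 31748))
 (N (L 17250)
 (L 57947))))
 (N (N (N (L 3663)
 (L 27718))
 (N (L 14365)
 (L 48235)))
 (N (N (L 8762)
 (L 36202))
 (L 20520)))))
 (N (N (N (N (N (L 777)
 (L 23118))
 (N (L 10812)
 (L 40281)))
 (N (N (L 5638)
 (L 30575))
 (N (L 16476)
 (L 55047))))
 (N (N (N (L 3111)
 (L 26904))
 (N (L 13632)
 (L 46638)))
 (N (N (L 8040)
 (L 35114))
 (L 19722))))
 (N (N (N (N (L 1869)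
 (L 24925))
 (N (L 12291)
 (L 43301)))
 (N (N (L 6762)
 (L 32807))
 (N (L 18004)
 (L 61999))))
 (N (N (N (L 4368)
 (L 28704))
 (N (L 14960)
 (L 50026)))
 (N (N (L 9491)
 (L 37478))
 (L 21322))))))
 (N (N (N (N (N (N (L 361)
 (L 22637))
 (N (L 10517)
 (L 39514)))
 (N (N (L 5211)
 (L 30057))
 (N (L 16168)
 (L 53571))))
 (N (N (N (L 2837)
 (L 26419))
 (N (L 13340)
 (L 45645)))
 (N (N (L 7756)
 (L 34565))
 (L 19247))))
 (N (N (N (N (L 1595)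
 (L 24587))
 (N (L 11850)
 (L 42569)))
 (N (N (L 6484)
 (L 32270))
 (N (L 17697)
 (L 59729))))
 (N (N (N (L 3945)
 (L 28210))
 (N (L 14664)
 (L 49188)))
 (N (N (L 9053)
 (L 36910))
 (L 20843)))))
 (N (N (N (N (N (L 1049)
 (L 23606))
 (N (L 11113)
 (L 41065)))
 (N (N (L 5920)
 (L 31087))
 (N (L 16928)
 (L 56578))))
 (N (N (N (L 3386)
 (L 27238))
 (N (L 13928)
 (L 47439)))
 (N (N (L 8470)
 (L 35649))
 (L 20049))))
 (N (N (N (N (L 2144)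
 (L 25433))
 (N (L 12589)
 (L 44078)))
 (N (N (L 7184)
 (L 33357))
 (N (L 18462)
 (L 65294))))
 (N (N (N (L 4645)
 (L 29195))
 (N (L 15405)
 (L 51053)))
 (N (N (L 9787)
 (L 38196))
 (L 21814))))))))
 (N (N (N (N (N (N (N (N (L 58)
 (L 22097))
 (N (L 10043)
 (L 38691)))
 (N (N (L 4893)
 (L 29497))
 (N (L 15672)
 (L 52038))))
 (N (N (N (L 2387)
 (L 25870))
 (N (L 12855)
 (L 44810)))
 (N (N (L 7432)
 (L 33822))
 (L 18730))))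
 (N (N (N (N (L 1288)
 (L 23902))
 (N (L 11368)
 (L 41731)))
 (N (N (L 6170)
 (L 31547))
 (N (L 17205)
 (L 57633))))
 (N (N (N (L 3628)
 (L 27672))
 (N (L 14183)
 (L 48141)))
 (N (N (L 8720)
 (L 36143))
 (L 20329)))))
 (N (N (N (N (N (L 601)
 (L 23068))
 (N (L 10774)
 (L 40047)))
 (N (N (L 5460)
 (L 30520))
 (N (L 16436)
 (L 54610))))
 (N (N (N (L 3078)
 (L 26713))
 (N (L 13593)
 (L 46384)))
 (N (N (L 8004)
 (L 34902))
 (L 19525))))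
 (N (N (N (N (L 1836)
 (L 24869))
 (N (L 12110)
 (L 43094)))
 (N (N (L 6729)
 (L 32594))
 (N (L 17959)
 (L 61495))))
 (N (N (N (L 4191)
 (L 28506))
 (N (L 14924)
 (L 49947)))
 (N (N (L 9311)
 (L 37407))
 (L 21272))))))
 (N (N (N (N (N (N (L 329)
 (L 22584))
 (N (L 10339)
 (L 39440)))
 (N (N (L 5176)
 (L 30005))
 (N (L 15982)
 (L 53290))))
 (N (N (N (L 2661)
 (L 26223))
 (N (L 13159)
 (L 45573)))
 (N (N (L 7719)
 (L 34360))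
 (L 19055))))
 (N (N (N (N (L 1562)
 (L 24384))
 (N (L 11808)
 (L 42340)))
 (N (N (L 6450)
 (L 32076))
 (N (L 17516)
 (L 59408))))
 (N (N (N (L 3911)
 (L 28012))
 (N (L 14626)
 (L 48950)))
 (N (N (L 9018)
 (L 36694))
 (L 20798)))))
 (N (N (N (N (N (L 873)
 (L 23405))
 (N (L 11074)
 (L 40971)))
 (N (N (L 5742)
 (L 31031))
 (N (L 16745)
 (L 56132))))
 (N (N (N (L 3353)
 (L 27183))
 (N (L 13892)
 (L 47207)))
 (N (N (L 8292)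
 (L 35585))
 (L 20003))))
 (N (N (N (N (L 2112)
 (L 25373))
 (N (L 12552)
 (L 43840)))
 (N (N (L 7008)
 (L 33289))
 (N (L 18274)
 (L 64283))))
 (N (N (N (L 4613)
 (L 29002))
 (N (L 15364)
 (L 50796)))
 (N (N (L 9749)
 (L 37977))
 (L 21764)))))))
 (N (N (N (N (N (N (N (L 265)
 (L 22346))
 (N (L 10260)
 (L 39005)))
 (N (N (L 4964)
 (L 29748))
 (N (L 15899)
 (L 52561))))
 (N (N (N (L 2595)
 (L 26118))
 (N (L 13078)
 (L 45121)))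
 (N (N (L 7503)
 (L 34079))
 (L 18960))))
 (N (N (N (N (L 1353)
 (L 24144))
 (N (L 11588)
 (L 42037)))
 (N (N (L 6236)
 (L 31813))
 (N (L 17430)
 (L 58428))))
 (N (N (N (L 3696)
 (L 27914))
 (N (L 14401)
 (L 48476)))
 (N (N (L 8796)
 (L 36415))
 (L 20566)))))
 (N (N (N (N (N (L 809)
 (L 23305))
 (N (L 10853)
 (L 40522)))
 (N (N (L 5673)
 (L 30770))
 (N (L 16658)
 (L 55336))))
 (N (N (N (L 3144)
 (L 26948))
 (N (L 13670)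
 (L 46879)))
 (N (N (L 8218)
 (L 35169))
 (L 19768))))
 (N (N (N (N (L 1902)
 (L 25118))
 (N (L 12329)
 (L 43529)))
 (N (N (L 6942)
 (L 32872))
 (N (L 18184)
 (L 62750))))
 (N (N (N (L 4402)
 (L 28755))
 (N (L 15146)
 (L 50269)))
 (N (N (L 9534)
 (L 37690))
 (L 21518))))))
 (N (N (N (N (N (N (L 536)
 (L 22840))
 (N (L 10555)
 (L 39744)))
 (N (N (L 5389)
 (L 30262))
 (N (L 16211)
 (L 53859))))
 (N (N (N (L 2870)
 (L 26471))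
 (N (L 13375)
 (L 45906)))
 (N (N (L 7790)
 (L 34636))
 (L 19287))))
 (N (N (N (N (L 1628)
 (L 24637))
 (N (L 11887)
 (L 42787)))
 (N (N (L 6662)
 (L 32336))
 (N (L 17739)
 (L 60201))))
 (N (N (N (L 4122)
 (L 28259))
 (N (L 14701)
 (L 49447)))
 (N (N (L 9236)
 (L 37121))
 (L 21027)))))
 (N (N (N (N (N (L 1081)
 (L 23655))
 (N (L 11292)
 (L 41279)))
 (N (N (L 5953)
 (L 31296))
 (N (L 16968)
 (L 56880))))
 (N (N (N (L 3421)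
 (L 27430))
 (N (L 14108)
 (L 47686)))
 (N (N (L 8505)
 (L 35854))
 (L 20236))))
 (N (N (N (N (L 2320)
 (L 25627))
 (N (L 12632)
 (L 44323)))
 (N (N (L 7219)
 (L 33557))
 (N (L 18504)
 (L 66158))))
 (N (N (N (L 4682)
 (L 29251))
 (N (L 15443)
 (L 51299)))
 (N (N (L 9825)
 (L 38408))
 (L 21866)))))))))))
 (N (N (N (N (N (N (N (N (N (N (N (L 6)
 (L 22024))
 (N (L 9838)
 (L 38438)))
 (N (N (L 4696)
 (L 29265))
 (N (L 15457)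
 (L 51496))))
 (N (N (N (L 2333)
 (L 25643))
 (N (L 12649)
 (L 44372)))
 (N (N (L 7231)
 (L 33578))
 (N (L 18516)
 (L 66602)))))
 (N (N (N (N (L 1093)
 (L 23816))
 (N (L 11306)
 (L 41309)))
 (N (N (L 5968)
 (L 31313))
 (N (L 16987)
 (L 56927))))
 (N (N (N (L 3433)
 (L 27446))
 (N (L 14120)
 (L 47724)))
 (N (N (L 8520)
 (L 35887))
 (L 20252)))))
 (N (N (N (N (N (L 548)
 (L 22858))
 (N (L 10570)
 (L 39782)))
 (N (N (L 5402)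
 (L 30281))
 (N (L 16225)
 (L 54060))))
 (N (N (N (L 2882)
 (L 26630))
 (N (L 13389)
 (L 46090)))
 (N (N (L 7946)
 (L 34659))
 (L 19301))))
 (N (N (N (N (L 1640)
 (L 24655))
 (N (L 12045)
 (L 42815)))
 (N (N (L 6675)
 (L 32355))
 (N (L 17754)
 (L 60439))))
 (N (N (N (L 4136)
 (L 28422))
 (N (L 14860)
 (L 49486)))
 (N (N (L 9252)
 (L 37147))
 (L 21047))))))
 (N (N (N (N (N (N (L 277)
 (L 22363))
 (N (L 10272)
 (L 39178)))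
 (N (N (L 4976)
 (L 29766))
 (N (L 15913)
 (L 52757))))
 (N (N (N (L 2607)
 (L 26135))
 (N (L 13093)
 (L 45145)))
 (N (N (L 7516)
 (L 34096))
 (L 18980))))
 (N (N (N (N (L 1365)
 (L 24165))
 (N (L 11602)
 (L 42063)))
 (N (N (L 6249)
 (L 31835))
 (N (L 17447)
 (L 58629))))
 (N (N (N (L 3853)
 (L 27936))
 (N (L 14415)
 (L 48663)))
 (N (N (L 8811)
 (L 36441))
 (L 20585)))))
 (N (N (N (N (N (L 821)
 (L 23323))
 (N (L 11010)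
 (L 40556)))
 (N (N (L 5685)
 (L 30790))
 (N (L 16674)
 (L 55395))))
 (N (N (N (L 3156)
 (L 26969))
 (N (L 13830)
 (L 46912)))
 (N (N (L 8230)
 (L 35333))
 (L 19783))))
 (N (N (N (N (L 2059)
 (L 25137))
 (N (L 12343)
 (L 43568)))
 (N (N (L 6954)
 (L 33036))
 (N (L 18204)
 (L 63004))))
 (N (N (N (L 4415)
 (L 28779))
 (N (L 15160)
 (L 50452)))
 (N (N (L 9547)
 (L 37711))
 (L 21533)))))))
 (N (N (N (N (N (N (N (L 70)
 (L 22116))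
 (N (L 10059)
 (L 38720)))
 (N (N (L 4906)
 (L 29515))
 (N (L 15688)
 (L 52229))))
 (N (N (N (L 2399)
 (L 25887))
 (N (L 12873)
 (L 44834)))
 (N (N (L 7445)
 (L 33839))
 (L 18746))))
 (N (N (N (N (L 1300)
 (L 23920))
 (N (L 11525)
 (L 41759)))
 (N (N (L 6182)
 (L 31566))
 (N (L 17221)
 (L 57695))))
 (N (N (N (L 3641)
 (L 27688))
 (N (L 14341)
 (L 48173)))
 (N (N (L 8736)
 (L 36164))
 (L 20490)))))
 (N (N (N (N (N (L 613)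
 (L 23088))
 (N (L 10787)
 (L 40224)))
 (N (N (L 5474)
 (L 30540))
 (N (L 16451)
 (L 54806))))
 (N (N (N (L 3091)
 (L 26729))
 (N (L 13607)
 (L 46418)))
 (N (N (L 8017)
 (L 34925))
 (L 19543))))
 (N (N (N (N (L 1848)
 (L 24886))
 (N (L 12126)
 (L 43119)))
 (N (N (L 6741)
 (L 32620))
 (N (L 17977)
 (L 61747))))
 (N (N (N (L 4204)
 (L 28525))
 (N (L 14936)
 (L 49981)))
 (N (N (L 9325)
 (L 37427))
 (L 21292))))))
 (N (N (N (N (N (N (L 341)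
 (L 22604))
 (N (L 10352)
 (L 39468)))
 (N (N (L 5190)
 (L 30025))
 (N (L 16143)
 (L 53338))))
 (N (N (N (L 2816)
 (L 26387))
 (N (L 13317)
 (L 45597)))
 (N (N (L 7734)
 (L 34386))
 (L 19216))))
 (N (N (N (N (L 1574)
 (L 24411))
 (N (L 11826)
 (L 42508)))
 (N (N (L 6463)
 (L 32098))
 (N (L 17674)
 (L 59460))))
 (N (N (N (L 3924)
 (L 28179))
 (N (L 14641)
 (L 48980)))
 (N (N (L 9031)
 (L 36713))
 (L 20815)))))
 (N (N (N (N (N (L 1028)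
 (L 23565))
 (N (L 11088)
 (L 41018)))
 (N (N (L 5898)
 (L 31049))
 (N (L 16902)
 (L 56176))))
 (N (N (N (L 3365)
 (L 27204))
 (N (L 13904)
 (L 47383)))
 (N (N (L 8448)
 (L 35604))
 (L 20020))))
 (N (N (N (N (L 2124)
 (L 25393))
 (N (L 12565)
 (L 43883)))
 (N (N (L 7020)
 (L 33319))
 (N (L 18287)
 (L 64547))))
 (N (N (N (L 4625)
 (L 29021))
 (N (L 15379)
 (L 50992)))
 (N (N (L 9762)
 (L 38153))
 (L 21782))))))))
 (N (N (N (N (N (N (N (N (L 38)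
 (L 22065))
 (N (L 10019)
 (L 38508)))
 (N (N (L 4873)
 (L 29467))
 (N (L 15646)
 (L 51797))))
 (N (N (N (L 2365)
 (L 25691))
 (N (L 12831)
 (L 44604)))
 (N (N (L 7268)
 (L 33640))
 (N (L 18698)
 (L 69220)))))
 (N (N (N (N (L 1125)
 (L 23868))
 (N (L 11344)
 (L 41533)))
 (N (N (L 6147)
 (L 31514))
 (N (L 17173)
 (L 57367))))
 (N (N (N (L 3608)
 (L 27498))
 (N (L 14160)
 (L 47947)))
 (N (N (L 8554)
 (L 36105))
 (L 20298)))))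
 (N (N (N (N (N (L 580)
 (L 23043))
 (N (L 10752)
 (L 39998)))
 (N (N (L 5437)
 (L 30483))
 (N (L 16407)
 (L 54369))))
 (N (N (N (L 2914)
 (L 26684))
 (N (L 13570)
 (L 46187)))
 (N (N (L 7978)
 (L 34855))
 (L 19498))))
 (N (N (N (N (L 1815)
 (L 24843))
 (N (L 12083)
 (L 43032)))
 (N (N (L 6708)
 (L 32553))
 (N (L 17936)
 (L 61031))))
 (N (N (N (L 4171)
 (L 28474))
 (N (L 14899)
 (L 49741)))
 (N (N (L 9289)
 (L 37225))
 (L 21100))))))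
 (N (N (N (N (N (N (L 309)
 (L 22550))
 (N (L 10314)
 (L 39251)))
 (N (N (L 5156)
 (L 29965))
 (N (L 15959)
 (L 53056))))
 (N (N (N (L 2640)
 (L 26194))
 (N (L 13131)
 (L 45377)))
 (N (N (L 7696)
 (L 34307))
 (L 19025))))
 (N (N (N (N (L 1542)
 (L 24355))
 (N (L 11784)
 (L 42275)))
 (N (N (L 6427)
 (L 32033))
 (N (L 17492)
 (L 58977))))
 (N (N (N (L 3890)
 (L 27984))
 (N (L 14600)
 (L 48751)))
 (N (N (L 8991)
 (L 36655))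
 (L 20771)))))
 (N (N (N (N (N (L 853)
 (L 23375))
 (N (L 11048)
 (L 40774)))
 (N (N (L 5722)
 (L 30991))
 (N (L 16720)
 (L 55856))))
 (N (N (N (L 3333)
 (L 27158))
 (N (L 13866)
 (L 47165)))
 (N (N (L 8270)
 (L 35401))
 (L 19969))))
 (N (N (N (N (L 2091)
 (L 25198))
 (N (L 12386)
 (L 43795)))
 (N (N (L 6987)
 (L 33105))
 (N (L 18249)
 (L 63600))))
 (N (N (N (L 4449)
 (L 28972))
 (N (L 15199)
 (L 50734)))
 (N (N (L 9582)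
 (L 37936))
 (L 21590)))))))
 (N (N (N (N (N (N (N (L 102)
 (L 22312))
 (N (L 10095)
 (L 38939)))
 (N (N (L 4941)
 (L 29705))
 (N (L 15872)
 (L 52499))))
 (N (N (N (L 2574)
 (L 25942))
 (N (L 12911)
 (L 44912)))
 (N (N (L 7481)
 (L 33902))
 (L 18793))))
 (N (N (N (N (L 1332)
 (L 24112))
 (N (L 11564)
 (L 41839)))
 (N (N (L 6215)
 (L 31770))
 (N (L 17263)
 (L 58147))))
 (N (N (N (L 3676)
 (L 27740))
 (N (L 14380)
 (L 48418)))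
 (N (N (L 8775)
 (L 36373))
 (L 20536)))))
 (N (N (N (N (N (L 789)
 (L 23134))
 (N (L 10829)
 (L 40473)))
 (N (N (L 5651)
 (L 30736))
 (N (L 16489)
 (L 55093))))
 (N (N (N (L 3123)
 (L 26923))
 (N (L 13646)
 (L 46678)))
 (N (N (L 8196)
 (L 35133))
 (L 19739))))
 (N (N (N (N (L 1882)
 (L 24944))
 (N (L 12304)
 (L 43335)))
 (N (N (L 6920)
 (L 32827))
 (N (L 18018)
 (L 62242))))
 (N (N (N (L 4381)
 (L 28727))
 (N (L 15116)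
 (L 50212)))
 (N (N (L 9509)
 (L 37647))
 (L 21346))))))
 (N (N (N (N (N (N (L 516)
 (L 22805))
 (N (L 10530)
 (L 39696)))
 (N (N (L 5224)
 (L 30225))
 (N (L 16186)
 (L 53764))))
 (N (N (N (L 2849)
 (L 26439))
 (N (L 13352)
 (L 45837)))
 (N (N (L 7770)
 (L 34591))
 (L 19262))))
 (N (N (N (N (L 1607)
 (L 24604))
 (N (L 11864)
 (L 42597)))
 (N (N (L 6497)
 (L 32292))
 (N (L 17709)
 (L 59918))))
 (N (N (N (L 4101)
 (L 28227))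
 (N (L 14678)
 (L 49219)))
 (N (N (L 9068)
 (L 36938))
 (L 21002)))))
 (N (N (N (N (N (L 1061)
 (L 23626))
 (N (L 11271)
 (L 41231)))
 (N (N (L 5933)
 (L 31258))
 (N (L 16942)
 (L 56640))))
 (N (N (N (L 3400)
 (L 27403))
 (N (L 14084)
 (L 47623)))
 (N (N (L 8483)
 (L 35678))
 (L 20062))))
 (N (N (N (N (L 2156)
 (L 25452))
 (N (L 12606)
 (L 44111)))
 (N (N (L 7199)
 (L 33379))
 (N (L 18476)
 (L 65565))))
 (N (N (N (L 4659)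
 (L 29220))
 (N (L 15420)
 (L 51237)))
 (N (N (L 9799)
 (L 38223))
 (L 21835)))))))))
 (N (N (N (N (N (N (N (N (N (L 22)
 (L 22041))
 (N (L 10000)
 (L 38473)))
 (N (N (L 4712)
 (L 29293))
 (N (L 15622)
 (L 51742))))
 (N (N (N (L 2349)
 (L 25672))
 (N (L 12812)
 (L 44562)))
 (N (N (L 7251)
 (L 33614))
 (N (L 18534)
 (L 67420)))))
 (N (N (N (N (L 1109)
 (L 23840))
 (N (L 11326)
 (L 41490)))
 (N (N (L 5987)
 (L 31343))
 (N (L 17155)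
 (L 57147))))
 (N (N (N (L 3592)
 (L 27476))
 (N (L 14139)
 (L 47901)))
 (N (N (L 8536)
 (L 35916))
 (L 20276)))))
 (N (N (N (N (N (L 564)
 (L 22878))
 (N (L 10592)
 (L 39963)))
 (N (N (L 5420)
 (L 30306))
 (N (L 16388)
 (L 54299))))
 (N (N (N (L 2898)
 (L 26656))
 (N (L 13409)
 (L 46136)))
 (N (N (L 7962)
 (L 34822))
 (L 19470))))
 (N (N (N (N (L 1799)
 (L 24680))
 (N (L 12062)
 (L 42858)))
 (N (N (L 6691)
 (L 32527))
 (N (L 17772)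
 (L 60725))))
 (N (N (N (L 4154)
 (L 28452))
 (N (L 14879)
 (L 49669)))
 (N (N (L 9272)
 (L 37190))
 (L 21076))))))
 (N (N (N (N (N (N (L 293)
 (L 22383))
 (N (L 10293)
 (L 39214)))
 (N (N (L 5138)
 (L 29791))
 (N (L 15935)
 (L 52839))))
 (N (N (N (L 2624)
 (L 26168))
 (N (L 13110)
 (L 45328)))
 (N (N (L 7533)
 (L 34125))
 (L 19006))))
 (N (N (N (N (L 1382)
 (L 24335))
 (N (L 11621)
 (L 42096)))
 (N (N (L 6410)
 (L 32004))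
 (N (L 17469)
 (L 58882))))
 (N (N (N (L 3871)
 (L 27956))
 (N (L 14437)
 (L 48705)))
 (N (N (L 8972)
 (L 36621))
 (L 20749)))))
 (N (N (N (N (N (L 837)
 (L 23347))
 (N (L 11029)
 (L 40735)))
 (N (N (L 5705)
 (L 30819))
 (N (L 16697)
 (L 55640))))
 (N (N (N (L 3173)
 (L 26991))
 (N (L 13848)
 (L 46958)))
 (N (N (L 8249)
 (L 35368))
 (L 19803))))
 (N (N (N (N (L 2075)
 (L 25167))
 (N (L 12364)
 (L 43614)))
 (N (N (L 6970)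
 (L 33073))
 (N (L 18224)
 (L 63285))))
 (N (N (N (L 4432)
 (L 28947))
 (N (L 15179)
 (L 50516)))
 (N (N (L 9564)
 (L 37890))
 (L 21558)))))))
 (N (N (N (N (N (N (N (L 86)
 (L 22287))
 (N (L 10079)
 (L 38765)))
 (N (N (L 4923)
 (L 29537))
 (N (L 15704)
 (L 52293))))
 (N (N (N (L 2415)
 (L 25915))
 (N (L 12893)
 (L 44876)))
 (N (N (L 7463)
 (L 33876))
 (L 18768))))
 (N (N (N (N (L 1316)
 (L 24085))
 (N (L 11544)
 (L 41804)))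
 (N (N (L 6198)
 (L 31597))
 (N (L 17243)
 (L 57932))))
 (N (N (N (L 3659)
 (L 27711))
 (N (L 14361)
 (L 48214)))
 (N (N (L 8758)
 (L 36193))
 (L 20515)))))
 (N (N (N (N (N (L 773)
 (L 23114))
 (N (L 10807)
 (L 40269)))
 (N (N (L 5633)
 (L 30568))
 (N (L 16471)
 (L 54886))))
 (N (N (N (L 3107)
 (L 26896))
 (N (L 13625)
 (L 46627)))
 (N (N (L 8036)
 (L 35110))
 (L 19717))))
 (N (N (N (N (L 1865)
 (L 24920))
 (N (L 12143)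
 (L 43293)))
 (N (N (L 6758)
 (L 32799))
 (N (L 17998)
 (L 61981))))
 (N (N (N (L 4364)
 (L 28695))
 (N (L 14955)
 (L 50021)))
 (N (N (L 9487)
 (L 37463))
 (L 21315))))))
 (N (N (N (N (N (N (L 357)
 (L 22629))
 (N (L 10513)
 (L 39502)))
 (N (N (L 5207)
 (L 30048))
 (N (L 16163)
 (L 53546))))
 (N (N (N (L 2832)
 (L 26410))
 (N (L 13335)
 (L 45633)))
 (N (N (L 7752)
 (L 34415))
 (L 19238))))
 (N (N (N (N (L 1591)
 (L 24583))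
 (N (L 11846)
 (L 42556)))
 (N (N (L 6480)
 (L 32262))
 (N (L 17692)
 (L 59701))))
 (N (N (N (L 3941)
 (L 28206))
 (N (L 14660)
 (L 49180)))
 (N (N (L 9049)
 (L 36902))
 (L 20839)))))
 (N (N (N (N (N (L 1045)
 (L 23596))
 (N (L 11108)
 (L 41057)))
 (N (N (L 5916)
 (L 31079))
 (N (L 16923)
 (L 56417))))
 (N (N (N (L 3382)
 (L 27231))
 (N (L 13922)
 (L 47426)))
 (N (N (L 8466)
 (L 35641))
 (L 20043))))
 (N (N (N (N (L 2140)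
 (L 25423))
 (N (L 12585)
 (L 44067)))
 (N (N (L 7180)
 (L 33350))
 (N (L 18458)
 (L 65054))))
 (N (N (N (L 4641)
 (L 29188))
 (N (L 15400)
 (L 51039)))
 (N (N (L 9782)
 (L 38186))
 (L 21807))))))))
 (N (N (N (N (N (N (N (N (L 54)
 (L 22091))
 (N (L 10038)
 (L 38683)))
 (N (N (L 4889)
 (L 29491))
 (N (L 15667)
 (L 52026))))
 (N (N (N (L 2382)
 (L 25866))
 (N (L 12851)
 (L 44652)))
 (N (N (L 7428)
 (L 33813))
 (L 18723))))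
 (N (N (N (N (L 1284)
 (L 23892))
 (N (L 11364)
 (L 41575)))
 (N (N (L 6165)
 (L 31542))
 (N (L 17196)
 (L 57605))))
 (N (N (N (L 3624)
 (L 27666))
 (N (L 14178)
 (L 48135)))
 (N (N (L 8715)
 (L 36132))
 (L 20325)))))
 (N (N (N (N (N (L 597)
 (L 23063))
 (N (L 10770)
 (L 40040)))
 (N (N (L 5455)
 (L 30510))
 (N (L 16430)
 (L 54589))))
 (N (N (N (L 3073)
 (L 26708))
 (N (L 13589)
 (L 46372)))
 (N (N (L 7999)
 (L 34890))
 (L 19520))))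
 (N (N (N (N (L 1831)
 (L 24864))
 (N (L 12106)
 (L 43075)))
 (N (N (L 6725)
 (L 32590))
 (N (L 17955)
 (L 61455))))
 (N (N (N (L 4187)
 (L 28501))
 (N (L 14918)
 (L 49935)))
 (N (N (L 9307)
 (L 37396))
 (L 21266))))))
 (N (N (N (N (N (N (L 325)
 (L 22577))
 (N (L 10334)
 (L 39432)))
 (N (N (L 5172)
 (L 30000))
 (N (L 15977)
 (L 53271))))
 (N (N (N (L 2657)
 (L 26219))
 (N (L 13154)
 (L 45419)))
 (N (N (L 7714)
 (L 34346))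
 (L 19047))))
 (N (N (N (N (L 1558)
 (L 24379))
 (N (L 11804)
 (L 42320)))
 (N (N (L 6446)
 (L 32069))
 (N (L 17510)
 (L 59222))))
 (N (N (N (L 3907)
 (L 28007))
 (N (L 14622)
 (L 48942)))
 (N (N (L 9012)
 (L 36688))
 (L 20792)))))
 (N (N (N (N (N (L 869)
 (L 23399))
 (N (L 11069)
 (L 40962)))
 (N (N (L 5738)
 (L 31020))
 (N (L 16741)
 (L 56120))))
 (N (N (N (L 3349)
 (L 27177))
 (N (L 13886)
 (L 47199)))
 (N (N (L 8288)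
 (L 35436))
 (L 19995))))
 (N (N (N (N (L 2107)
 (L 25368))
 (N (L 12547)
 (L 43826)))
 (N (N (L 7004)
 (L 33281))
 (N (L 18270)
 (L 64090))))
 (N (N (N (L 4608)
 (L 28995))
 (N (L 15216)
 (L 50781)))
 (N (N (L 9744)
 (L 37967))
 (L 21613)))))))
 (N (N (N (N (N (N (N (L 261)
 (L 22339))
 (N (L 10256)
 (L 38986)))
 (N (N (L 4960)
 (L 29738))
 (N (L 15893)
 (L 52544))))
 (N (N (N (L 2591)
 (L 25968))
 (N (L 13073)
 (L 45107)))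
 (N (N (L 7499)
 (L 34074))
 (L 18955))))
 (N (N (N (N (L 1349)
 (L 24140))
 (N (L 11584)
 (L 42024)))
 (N (N (L 6231)
 (L 31805))
 (N (L 17426)
 (L 58395))))
 (N (N (N (L 3692)
 (L 27907))
 (N (L 14396)
 (L 48465)))
 (N (N (L 8792)
 (L 36403))
 (L 20560)))))
 (N (N (N (N (N (L 805)
 (L 23299))
 (N (L 10849)
 (L 40511)))
 (N (N (L 5668)
 (L 30761))
 (N (L 16654)
 (L 55324))))
 (N (N (N (L 3140)
 (L 26942))
 (N (L 13666)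
 (L 46860)))
 (N (N (L 8214)
 (L 35163))
 (L 19762))))
 (N (N (N (N (L 1898)
 (L 25112))
 (N (L 12324)
 (L 43376)))
 (N (N (L 6938)
 (L 32861))
 (N (L 18180)
 (L 62558))))
 (N (N (N (L 4398)
 (L 28751))
 (N (L 15142)
 (L 50257)))
 (N (N (L 9530)
 (L 37681))
 (L 21511))))))
 (N (N (N (N (N (N (L 532)
 (L 22834))
 (N (L 10550)
 (L 39734)))
 (N (N (L 5385)
 (L 30257))
 (N (L 16207)
 (L 53848))))
 (N (N (N (L 2866)
 (L 26465))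
 (N (L 13371)
 (L 45895)))
 (N (N (L 7786)
 (L 34629))
 (L 19283))))
 (N (N (N (N (L 1624)
 (L 24629))
 (N (L 11883)
 (L 42779)))
 (N (N (L 6657)
 (L 32328))
 (N (L 17731)
 (L 60177))))
 (N (N (N (L 4118)
 (L 28250))
 (N (L 14697)
 (L 49423)))
 (N (N (L 9232)
 (L 36963))
 (L 21022)))))
 (N (N (N (N (N (L 1077)
 (L 23651))
 (N (L 11288)
 (L 41271)))
 (N (N (L 5949)
 (L 31288))
 (N (L 16963)
 (L 56868))))
 (N (N (N (L 3416)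
 (L 27425))
 (N (L 14103)
 (L 47673)))
 (N (N (L 8500)
 (L 35849))
 (L 20230))))
 (N (N (N (N (L 2316)
 (L 25618))
 (N (L 12626)
 (L 44316)))
 (N (N (L 7215)
 (L 33551))
 (N (L 18499)
 (L 66073))))
 (N (N (N (L 4676)
 (L 29244))
 (N (L 15439)
 (L 51293)))
 (N (N (L 9819)
 (L 38255))
 (L 21860))))))))))
 (N (N (N (N (N (N (N (N (N (N (L 14)
 (L 22033))
 (N (L 9992)
 (L 38452)))
 (N (N (L 4704)
 (L 29281))
 (N (L 15467)
 (L 51542))))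
 (N (N (N (L 2341)
 (L 25656))
 (N (L 12801)
 (L 44398)))
 (N (N (L 7241)
 (L 33597))
 (N (L 18526)
 (L 67136)))))
 (N (N (N (N (L 1101)
 (L 23830))
 (N (L 11316)
 (L 41325)))
 (N (N (L 5978)
 (L 31328))
 (N (L 16999)
 (L 57117))))
 (N (N (N (L 3584)
 (L 27463))
 (N (L 14130)
 (L 47883)))
 (N (N (L 8528)
 (L 35900))
 (L 20262)))))
 (N (N (N (N (N (L 556)
 (L 22868))
 (N (L 10580)
 (L 39945)))
 (N (N (L 5410)
 (L 30293))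
 (N (L 16234)
 (L 54116))))
 (N (N (N (L 2890)
 (L 26646))
 (N (L 13398)
 (L 46109)))
 (N (N (L 7954)
 (L 34668))
 (L 19461))))
 (N (N (N (N (L 1648)
 (L 24670))
 (N (L 12053)
 (L 42838)))
 (N (N (L 6683)
 (L 32365))
 (N (L 17763)
 (L 60518))))
 (N (N (N (L 4145)
 (L 28438))
 (N (L 14869)
 (L 49506)))
 (N (N (L 9263)
 (L 37168))
 (L 21059))))))
 (N (N (N (N (N (N (L 285)
 (L 22373))
 (N (L 10282)
 (L 39197)))
 (N (N (L 5129)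
 (L 29780))
 (N (L 15922)
 (L 52812))))
 (N (N (N (L 2615)
 (L 26149))
 (N (L 13101)
 (L 45167)))
 (N (N (L 7525)
 (L 34110))
 (L 18994))))
 (N (N (N (N (L 1374)
 (L 24320))
 (N (L 11612)
 (L 42082)))
 (N (N (L 6401)
 (L 31848))
 (N (L 17456)
 (L 58689))))
 (N (N (N (L 3861)
 (L 27946))
 (N (L 14428)
 (L 48685)))
 (N (N (L 8963)
 (L 36457))
 (L 20737)))))
 (N (N (N (N (N (L 829)
 (L 23335))
 (N (L 11021)
 (L 40718)))
 (N (N (L 5694)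
 (L 30807))
 (N (L 16684)
 (L 55610))))
 (N (N (N (L 3165)
 (L 26982))
 (N (L 13838)
 (L 46935)))
 (N (N (L 8238)
 (L 35343))
 (L 19795))))
 (N (N (N (N (L 2067)
 (L 25151))
 (N (L 12353)
 (L 43593)))
 (N (N (L 6962)
 (L 33051))
 (N (L 18214)
 (L 63083))))
 (N (N (N (L 4423)
 (L 28937))
 (N (L 15169)
 (L 50484)))
 (N (N (L 9556)
 (L 37734))
 (L 21542)))))))
 (N (N (N (N (N (N (N (L 78)
 (L 22272))
 (N (L 10070)
 (L 38740)))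
 (N (N (L 4914)
 (L 29524))
 (N (L 15696)
 (L 52264))))
 (N (N (N (L 2407)
 (L 25899))
 (N (L 12882)
 (L 44854)))
 (N (N (L 7454)
 (L 33860))
 (L 18756))))
 (N (N (N (N (L 1308)
 (L 24076))
 (N (L 11535)
 (L 41783)))
 (N (N (L 6190)
 (L 31583))
 (N (L 17231)
 (L 57898))))
 (N (N (N (L 3649)
 (L 27700))
 (N (L 14350)
 (L 48189)))
 (N (N (L 8748)
 (L 36177))
 (L 20501)))))
 (N (N (N (N (N (L 621)
 (L 23100))
 (N (L 10798)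
 (L 40253)))
 (N (N (L 5482)
 (L 30554))
 (N (L 16459)
 (L 54858))))
 (N (N (N (L 3099)
 (L 26885))
 (N (L 13617)
 (L 46606)))
 (N (N (L 8028)
 (L 35090))
 (L 19555))))
 (N (N (N (N (L 1856)
 (L 24903))
 (N (L 12135)
 (L 43279)))
 (N (N (L 6750)
 (L 32782))
 (N (L 17987)
 (L 61780))))
 (N (N (N (L 4355)
 (L 28682))
 (N (L 14946)
 (L 50001)))
 (N (N (L 9477)
 (L 37444))
 (L 21307))))))
 (N (N (N (N (N (N (L 349)
 (L 22617))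
 (N (L 10504)
 (L 39480)))
 (N (N (L 5199)
 (L 30035))
 (N (L 16154)
 (L 53520))))
 (N (N (N (L 2824)
 (L 26399))
 (N (L 13326)
 (L 45614)))
 (N (N (L 7743)
 (L 34401))
 (L 19229))))
 (N (N (N (N (L 1583)
 (L 24429))
 (N (L 11835)
 (L 42525)))
 (N (N (L 6472)
 (L 32106))
 (N (L 17683)
 (L 59658))))
 (N (N (N (L 3932)
 (L 28195))
 (N (L 14650)
 (L 49005)))
 (N (N (L 9041)
 (L 36875))
 (L 20825)))))
 (N (N (N (N (N (L 1036)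
 (L 23580))
 (N (L 11099)
 (L 41035)))
 (N (N (L 5907)
 (L 31061))
 (N (L 16914)
 (L 56388))))
 (N (N (N (L 3373)
 (L 27220))
 (N (L 13912)
 (L 47399)))
 (N (N (L 8456)
 (L 35624))
 (L 20033))))
 (N (N (N (N (L 2132)
 (L 25409))
 (N (L 12575)
 (L 44048)))
 (N (N (L 7172)
 (L 33336))
 (N (L 18439)
 (L 64805))))
 (N (N (N (L 4633)
 (L 29031))
 (N (L 15390)
 (L 51017)))
 (N (N (L 9772)
 (L 38164))
 (L 21796))))))))
 (N (N (N (N (N (N (N (N (L 46)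
 (L 22075))
 (N (L 10028)
 (L 38670)))
 (N (N (L 4881)
 (L 29480))
 (N (L 15656)
 (L 52000))))
 (N (N (N (L 2374)
 (L 25709))
 (N (L 12841)
 (L 44635)))
 (N (N (L 7276)
 (L 33794))
 (L 18708))))
 (N (N (N (N (L 1133)
 (L 23883))
 (N (L 11356)
 (L 41555)))
 (N (N (L 6156)
 (L 31528))
 (N (L 17184)
 (L 57417))))
 (N (N (N (L 3616)
 (L 27655))
 (N (L 14168)
 (L 47968)))
 (N (N (L 8706)
 (L 36119))
 (L 20310)))))
 (N (N (N (N (N (L 589)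
 (L 23053))
 (N (L 10761)
 (L 40024)))
 (N (N (L 5447)
 (L 30497))
 (N (L 16418)
 (L 54547))))
 (N (N (N (L 2922)
 (L 26694))
 (N (L 13580)
 (L 46352)))
 (N (N (L 7990)
 (L 34874))
 (L 19508))))
 (N (N (N (N (L 1823)
 (L 24853))
 (N (L 12092)
 (L 43055)))
 (N (N (L 6716)
 (L 32570))
 (N (L 17947)
 (L 61222))))
 (N (N (N (L 4179)
 (L 28488))
 (N (L 14907)
 (L 49756)))
 (N (N (L 9299)
 (L 37382))
 (L 21255))))))
 (N (N (N (N (N (N (L 317)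
 (L 22562))
 (N (L 10324)
 (L 39275)))
 (N (N (L 5164)
 (L 29984))
 (N (L 15968)
 (L 53097))))
 (N (N (N (L 2648)
 (L 26209))
 (N (L 13143)
 (L 45398)))
 (N (N (L 7704)
 (L 34331))
 (L 19034))))
 (N (N (N (N (L 1550)
 (L 24366))
 (N (L 11792)
 (L 42294)))
 (N (N (L 6436)
 (L 32051))
 (N (L 17501)
 (L 59162))))
 (N (N (N (L 3898)
 (L 27995))
 (N (L 14611)
 (L 48922)))
 (N (N (L 9004)
 (L 36668))
 (L 20780)))))
 (N (N (N (N (N (L 861)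
 (L 23388))
 (N (L 11059)
 (L 40798)))
 (N (N (L 5730)
 (L 31006))
 (N (L 16732)
 (L 55889))))
 (N (N (N (L 3341)
 (L 27167))
 (N (L 13875)
 (L 47187)))
 (N (N (L 8279)
 (L 35422))
 (L 19981))))
 (N (N (N (N (L 2099)
 (L 25353))
 (N (L 12395)
 (L 43806)))
 (N (N (L 6995)
 (L 33122))
 (N (L 18258)
 (L 63822))))
 (N (N (N (L 4457)
 (L 28982))
 (N (L 15207)
 (L 50761)))
 (N (N (L 9734)
 (L 37947))
 (L 21603)))))))
 (N (N (N (N (N (N (N (L 110)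
 (L 22328))
 (N (L 10247)
 (L 38967)))
 (N (N (L 4952)
 (L 29723))
 (N (L 15882)
 (L 52528))))
 (N (N (N (L 2583)
 (L 25958))
 (N (L 13063)
 (L 45074)))
 (N (N (L 7491)
 (L 34057))
 (L 18946))))
 (N (N (N (N (L 1340)
 (L 24125))
 (N (L 11573)
 (L 42000)))
 (N (N (L 6223)
 (L 31786))
 (N (L 17415)
 (L 58191))))
 (N (N (N (L 3684)
 (L 27752))
 (N (L 14388)
 (L 48440)))
 (N (N (L 8784)
 (L 36387))
 (L 20547)))))
 (N (N (N (N (N (L 797)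
 (L 23146))
 (N (L 10838)
 (L 40496)))
 (N (N (L 5660)
 (L 30749))
 (N (L 16643)
 (L 55137))))
 (N (N (N (L 3131)
 (L 26933))
 (N (L 13656)
 (L 46696)))
 (N (N (L 8206)
 (L 35149))
 (L 19750))))
 (N (N (N (N (L 1890)
 (L 25102))
 (N (L 12314)
 (L 43359)))
 (N (N (L 6928)
 (L 32842))
 (N (L 18027)
 (L 62470))))
 (N (N (N (L 4389)
 (L 28741))
 (N (L 15131)
 (L 50228)))
 (N (N (L 9519)
 (L 37660))
 (L 21357))))))
 (N (N (N (N (N (N (L 524)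
 (L 22815))
 (N (L 10539)
 (L 39719)))
 (N (N (L 5232)
 (L 30243))
 (N (L 16196)
 (L 53798))))
 (N (N (N (L 2857)
 (L 26452))
 (N (L 13362)
 (L 45855)))
 (N (N (L 7778)
 (L 34604))
 (L 19271))))
 (N (N (N (N (L 1616)
 (L 24614))
 (N (L 11874)
 (L 42757)))
 (N (N (L 6506)
 (L 32311))
 (N (L 17720)
 (L 59973))))
 (N (N (N (L 4110)
 (L 28241))
 (N (L 14688)
 (L 49245)))
 (N (N (L 9223)
 (L 36949))
 (L 21011)))))
 (N (N (N (N (N (L 1069)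
 (L 23636))
 (N (L 11280)
 (L 41249)))
 (N (N (L 5941)
 (L 31274))
 (N (L 16953)
 (L 56670))))
 (N (N (N (L 3408)
 (L 27413))
 (N (L 14093)
 (L 47657)))
 (N (N (L 8491)
 (L 35694))
 (L 20075))))
 (N (N (N (N (L 2307)
 (L 25609))
 (N (L 12617)
 (L 44142)))
 (N (N (L 7207)
 (L 33536))
 (N (L 18487)
 (L 65845))))
 (N (N (N (L 4668)
 (L 29233))
 (N (L 15431)
 (L 51269)))
 (N (N (L 9809)
 (L 38234))
 (L 21848)))))))))
 (N (N (N (N (N (N (N (N (N (L 30)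
 (L 22054))
 (N (L 10011)
 (L 38490)))
 (N (N (L 4720)
 (L 29450))
 (N (L 15635)
 (L 51775))))
 (N (N (N (L 2357)
 (L 25680))
 (N (L 12821)
 (L 44579)))
 (N (N (L 7260)
 (L 33626))
 (N (L 18689)
 (L 68363)))))
 (N (N (N (N (L 1117)
 (L 23855))
 (N (L 11334)
 (L 41510)))
 (N (N (L 5995)
 (L 31502))
 (N (L 17165)
 (L 57183))))
 (N (N (N (L 3600)
 (L 27486))
 (N (L 14149)
 (L 47921)))
 (N (N (L 8545)
 (L 35930))
 (L 20288)))))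
 (N (N (N (N (N (L 572)
 (L 22888))
 (N (L 10601)
 (L 39982)))
 (N (N (L 5428)
 (L 30467))
 (N (L 16398)
 (L 54327))))
 (N (N (N (L 2906)
 (L 26668))
 (N (L 13418)
 (L 46159)))
 (N (N (L 7970)
 (L 34837))
 (L 19483))))
 (N (N (N (N (L 1807)
 (L 24832))
 (N (L 12074)
 (L 43017)))
 (N (N (L 6700)
 (L 32538))
 (N (L 17924)
 (L 60936))))
 (N (N (N (L 4162)
 (L 28463))
 (N (L 14888)
 (L 49697)))
 (N (N (L 9280)
 (L 37208))
 (L 21090))))))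
 (N (N (N (N (N (N (L 301)
 (L 22542))
 (N (L 10302)
 (L 39231)))
 (N (N (L 5146)
 (L 29805))
 (N (L 15946)
 (L 53014))))
 (N (N (N (L 2632)
 (L 26184))
 (N (L 13119)
 (L 45353)))
 (N (N (L 7686)
 (L 34144))
 (L 19014))))
 (N (N (N (N (L 1390)
 (L 24344))
 (N (L 11630)
 (L 42258)))
 (N (N (L 6419)
 (L 32018))
 (N (L 17483)
 (L 58928))))
 (N (N (N (L 3880)
 (L 27965))
 (N (L 14447)
 (L 48736)))
 (N (N (L 8981)
 (L 36639))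
 (L 20760)))))
 (N (N (N (N (N (L 845)
 (L 23362))
 (N (L 11039)
 (L 40760)))
 (N (N (L 5714)
 (L 30830))
 (N (L 16709)
 (L 55817))))
 (N (N (N (L 3181)
 (L 27147))
 (N (L 13857)
 (L 47138)))
 (N (N (L 8259)
 (L 35391))
 (L 19815))))
 (N (N (N (N (L 2083)
 (L 25183))
 (N (L 12376)
 (L 43628)))
 (N (N (L 6979)
 (L 33096))
 (N (L 18236)
 (L 63541))))
 (N (N (N (L 4441)
 (L 28962))
 (N (L 15189)
 (L 50697)))
 (N (N (L 9573)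
 (L 37918))
 (L 21569)))))))
 (N (N (N (N (N (N (N (L 94)
 (L 22300))
 (N (L 10087)
 (L 38925)))
 (N (N (L 4931)
 (L 29549))
 (N (L 15715)
 (L 52321))))
 (N (N (N (L 2566)
 (L 25929))
 (N (L 12903)
 (L 44891)))
 (N (N (L 7472)
 (L 33887))
 (L 18779))))
 (N (N (N (N (L 1324)
 (L 24099))
 (N (L 11556)
 (L 41827)))
 (N (N (L 6207)
 (L 31758))
 (N (L 17254)
 (L 57965))))
 (N (N (N (L 3667)
 (L 27725))
 (N (L 14370)
 (L 48402)))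
 (N (N (L 8767)
 (L 36354))
 (L 20524)))))
 (N (N (N (N (N (L 781)
 (L 23124))
 (N (L 10818)
 (L 40303)))
 (N (N (L 5642)
 (L 30724))
 (N (L 16481)
 (L 55052))))
 (N (N (N (L 3115)
 (L 26913))
 (N (L 13638)
 (L 46650)))
 (N (N (L 8045)
 (L 35120))
 (L 19727))))
 (N (N (N (N (L 1873)
 (L 24931))
 (N (L 12296)
 (L 43312)))
 (N (N (L 6767)
 (L 32814))
 (N (L 18008)
 (L 62023))))
 (N (N (N (L 4373)
 (L 28710))
 (N (L 15108)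
 (L 50187)))
 (N (N (L 9499)
 (L 37485))
 (L 21329))))))
 (N (N (N (N (N (N (L 365)
 (L 22787))
 (N (L 10521)
 (L 39527)))
 (N (N (L 5215)
 (L 30209))
 (N (L 16178)
 (L 53585))))
 (N (N (N (L 2841)
 (L 26423))
 (N (L 13344)
 (L 45661)))
 (N (N (L 7761)
 (L 34573))
 (L 19251))))
 (N (N (N (N (L 1599)
 (L 24591))
 (N (L 11854)
 (L 42576)))
 (N (N (L 6488)
 (L 32275))
 (N (L 17701)
 (L 59738))))
 (N (N (N (L 3949)
 (L 28215))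
 (N (L 14668)
 (L 49192)))
 (N (N (L 9059)
 (L 36920))
 (L 20848)))))
 (N (N (N (N (N (L 1053)
 (L 23612))
 (N (L 11117)
 (L 41071)))
 (N (N (L 5925)
 (L 31240))
 (N (L 16933)
 (L 56605))))
 (N (N (N (L 3391)
 (L 27245))
 (N (L 13932)
 (L 47459)))
 (N (N (L 8475)
 (L 35658))
 (L 20053))))
 (N (N (N (N (L 2148)
 (L 25440))
 (N (L 12595)
 (L 44087)))
 (N (N (L 7190)
 (L 33361))
 (N (L 18467)
 (L 65309))))
 (N (N (N (L 4650)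
 (L 29204))
 (N (L 15411)
 (L 51213)))
 (N (N (L 9791)
 (L 38204))
 (L 21820))))))))
 (N (N (N (N (N (N (N (N (L 62)
 (L 22104))
 (N (L 10050)
 (L 38706)))
 (N (N (L 4897)
 (L 29503))
 (N (L 15676)
 (L 52050))))
 (N (N (N (L 2391)
 (L 25875))
 (N (L 12860)
 (L 44816)))
 (N (N (L 7436)
 (L 33826))
 (L 18737))))
 (N (N (N (N (L 1292)
 (L 23909))
 (N (L 11372)
 (L 41741)))
 (N (N (L 6174)
 (L 31552))
 (N (L 17210)
 (L 57648))))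
 (N (N (N (L 3632)
 (L 27677))
 (N (L 14188)
 (L 48151)))
 (N (N (L 8724)
 (L 36151))
 (L 20334)))))
 (N (N (N (N (N (L 605)
 (L 23073))
 (N (L 10778)
 (L 40207)))
 (N (N (L 5465)
 (L 30529))
 (N (L 16440)
 (L 54625))))
 (N (N (N (L 3082)
 (L 26718))
 (N (L 13598)
 (L 46394)))
 (N (N (L 8009)
 (L 34910))
 (L 19532))))
 (N (N (N (N (L 1840)
 (L 24874))
 (N (L 12115)
 (L 43103)))
 (N (N (L 6733)
 (L 32602))
 (N (L 17965)
 (L 61526))))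
 (N (N (N (L 4196)
 (L 28513))
 (N (L 14928)
 (L 49960)))
 (N (N (L 9317)
 (L 37412))
 (L 21276))))))
 (N (N (N (N (N (N (L 333)
 (L 22590))
 (N (L 10344)
 (L 39444)))
 (N (N (L 5181)
 (L 30011))
 (N (L 16132)
 (L 53309))))
 (N (N (N (L 2665)
 (L 26375))
 (N (L 13165)
 (L 45581)))
 (N (N (L 7724)
 (L 34368))
 (L 19207))))
 (N (N (N (N (L 1566)
 (L 24398))
 (N (L 11816)
 (L 42346)))
 (N (N (L 6454)
 (L 32081))
 (N (L 17520)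
 (L 59429))))
 (N (N (N (L 3916)
 (L 28161))
 (N (L 14631)
 (L 48961)))
 (N (N (L 9023)
 (L 36698))
 (L 20805)))))
 (N (N (N (N (N (L 877)
 (L 23555))
 (N (L 11078)
 (L 40982)))
 (N (N (L 5889)
 (L 31037))
 (N (L 16750)
 (L 56147))))
 (N (N (N (L 3357)
 (L 27187))
 (N (L 13896)
 (L 47214)))
 (N (N (L 8296)
 (L 35592))
 (L 20009))))
 (N (N (N (N (L 2116)
 (L 25379))
 (N (L 12556)
 (L 43855)))
 (N (N (L 7012)
 (L 33302))
 (N (L 18278)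
 (L 64315))))
 (N (N (N (L 4617)
 (L 29009))
 (N (L 15369)
 (L 50959)))
 (N (N (L 9753)
 (L 37989))
 (L 21769)))))))
 (N (N (N (N (N (N (N (L 269)
 (L 22350))
 (N (L 10264)
 (L 39011)))
 (N (N (L 4968)
 (L 29755))
 (N (L 15904)
 (L 52572))))
 (N (N (N (L 2599)
 (L 26124))
 (N (L 13084)
 (L 45133)))
 (N (N (L 7507)
 (L 34084))
 (L 18965))))
 (N (N (N (N (L 1357)
 (L 24151))
 (N (L 11593)
 (L 42050)))
 (N (N (L 6240)
 (L 31819))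
 (N (L 17438)
 (L 58444))))
 (N (N (N (L 3845)
 (L 27919))
 (N (L 14406)
 (L 48485)))
 (N (N (L 8801)
 (L 36422))
 (L 20570)))))
 (N (N (N (N (N (L 813)
 (L 23312))
 (N (L 10857)
 (L 40532)))
 (N (N (L 5677)
 (L 30777))
 (N (L 16662)
 (L 55364))))
 (N (N (N (L 3148)
 (L 26956))
 (N (L 13676)
 (L 46886)))
 (N (N (L 8222)
 (L 35175))
 (L 19772))))
 (N (N (N (N (L 2049)
 (L 25125))
 (N (L 12334)
 (L 43550)))
 (N (N (L 6946)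
 (L 32880))
 (N (L 18190)
 (L 62799))))
 (N (N (N (L 4406)
 (L 28760))
 (N (L 15151)
 (L 50279)))
 (N (N (L 9538)
 (L 37698))
 (L 21524))))))
 (N (N (N (N (N (N (L 540)
 (L 22847))
 (N (L 10559)
 (L 39756)))
 (N (N (L 5393)
 (L 30267))
 (N (L 16215)
 (L 54019))))
 (N (N (N (L 2874)
 (L 26475))
 (N (L 13379)
 (L 45924)))
 (N (N (L 7937)
 (L 34645))
 (L 19291))))
 (N (N (N (N (L 1632)
 (L 24643))
 (N (L 12035)
 (L 42798)))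
 (N (N (L 6666)
 (L 32343))
 (N (L 17743)
 (L 60233))))
 (N (N (N (L 4127)
 (L 28265))
 (N (L 14849)
 (L 49459)))
 (N (N (L 9243)
 (L 37127))
 (L 21032)))))
 (N (N (N (N (N (L 1085)
 (L 23660))
 (N (L 11296)
 (L 41291)))
 (N (N (L 5960)
 (L 31301))
 (N (L 16975)
 (L 56896))))
 (N (N (N (L 3425)
 (L 27437))
 (N (L 14112)
 (L 47702)))
 (N (N (L 8509)
 (L 35861))
 (L 20240))))
 (N (N (N (N (L 2324)
 (L 25633))
 (N (L 12637)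
 (L 44336)))
 (N (N (L 7223)
 (L 33570))
 (N (L 18508)
 (L 66351))))
 (N (N (N (L 4686)
 (L 29256))
 (N (L 15448)
 (L 51459)))
 (N (N (L 9830)
 (L 38421))
 (L 21871)))))))))))))
 (N (N (N (N (N (N (N (N (N (N (N (N (N (L 1)
 (L 22018))
 (N (L 9833)
 (L 38433)))
 (N (N (L 4689)
 (L 29259))
 (N (L 15452)
 (L 51475))))
 (N (N (N (L 2327)
 (L 25637))
 (N (L 12643)
 (L 44351)))
 (N (N (L 7226)
 (L 33573))
 (N (L 18511)
 (L 66395)))))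
 (N (N (N (N (L 1088)
 (L 23663))
 (N (L 11299)
 (L 41300)))
 (N (N (L 5963)
 (L 31305))
 (N (L 16978)
 (L 56906))))
 (N (N (N (L 3428)
 (L 27440))
 (N (L 14115)
 (L 47708)))
 (N (N (L 8513)
 (L 35867))
 (L 20244)))))
 (N (N (N (N (N (L 543)
 (L 22851))
 (N (L 10562)
 (L 39771)))
 (N (N (L 5396)
 (L 30273))
 (N (L 16219)
 (L 54037))))
 (N (N (N (L 2877)
 (L 26478))
 (N (L 13382)
 (L 45931)))
 (N (N (L 7941)
 (L 34654))
 (L 19295))))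
 (N (N (N (N (L 1635)
 (L 24649))
 (N (L 12039)
 (L 42806)))
 (N (N (L 6669)
 (L 32347))
 (N (L 17746)
 (L 60250))))
 (N (N (N (L 4130)
 (L 28271))
 (N (L 14855)
 (L 49464)))
 (N (N (L 9247)
 (L 37135))
 (L 21040))))))
 (N (N (N (N (N (N (L 272)
 (L 22358))
 (N (L 10267)
 (L 39022)))
 (N (N (L 4971)
 (L 29759))
 (N (L 15908)
 (L 52737))))
 (N (N (N (L 2602)
 (L 26127))
 (N (L 13087)
 (L 45136)))
 (N (N (L 7510)
 (L 34089))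
 (L 18971))))
 (N (N (N (N (L 1360)
 (L 24155))
 (N (L 11597)
 (L 42058)))
 (N (N (L 6244)
 (L 31824))
 (N (L 17442)
 (L 58454))))
 (N (N (N (L 3848)
 (L 27927))
 (N (L 14410)
 (L 48496)))
 (N (N (L 8805)
 (L 36429))
 (L 20579)))))
 (N (N (N (N (N (L 816)
 (L 23317))
 (N (L 10861)
 (L 40537)))
 (N (N (L 5680)
 (L 30783))
 (N (L 16667)
 (L 55373))))
 (N (N (N (L 3151)
 (L 26963))
 (N (L 13680)
 (L 46897)))
 (N (N (L 8225)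
 (L 35179))
 (L 19777))))
 (N (N (N (N (L 2054)
 (L 25130))
 (N (L 12337)
 (L 43558)))
 (N (N (L 6949)
 (L 33030))
 (N (L 18196)
 (L 62828))))
 (N (N (N (L 4410)
 (L 28768))
 (N (L 15154)
 (L 50441)))
 (N (N (L 9541)
 (L 37702))
 (L 21528)))))))
 (N (N (N (N (N (N (N (L 65)
 (L 22107))
 (N (L 10053)
 (L 38711)))
 (N (N (L 4900)
 (L 29510))
 (N (L 15681)
 (L 52060))))
 (N (N (N (L 2394)
 (L 25880))
 (N (L 12864)
 (L 44824)))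
 (N (N (L 7439)
 (L 33829))
 (L 18741))))
 (N (N (N (N (L 1295)
 (L 23914))
 (N (L 11375)
 (L 41750)))
 (N (N (L 6177)
 (L 31558))
 (N (L 17215)
 (L 57663))))
 (N (N (N (L 3636)
 (L 27680))
 (N (L 14192)
 (L 48159)))
 (N (N (L 8727)
 (L 36156))
 (L 20483)))))
 (N (N (N (N (N (L 608)
 (L 23079))
 (N (L 10782)
 (L 40212)))
 (N (N (L 5469)
 (L 30533))
 (N (L 16444)
 (L 54788))))
 (N (N (N (L 3085)
 (L 26723))
 (N (L 13601)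
 (L 46407)))
 (N (N (L 8012)
 (L 34916))
 (L 19536))))
 (N (N (N (N (L 1843)
 (L 24879))
 (N (L 12119)
 (L 43110)))
 (N (N (L 6736)
 (L 32611))
 (N (L 17970)
 (L 61705))))
 (N (N (N (L 4199)
 (L 28516))
 (N (L 14931)
 (L 49968)))
 (N (N (L 9320)
 (L 37418))
 (L 21282))))))
 (N (N (N (N (N (N (L 336)
 (L 22596))
 (N (L 10347)
 (L 39451)))
 (N (N (L 5185)
 (L 30019))
 (N (L 16135)
 (L 53323))))
 (N (N (N (L 2668)
 (L 26380))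
 (N (L 13168)
 (L 45586)))
 (N (N (L 7729)
 (L 34373))
 (L 19211))))
 (N (N (N (N (L 1569)
 (L 24402))
 (N (L 11819)
 (L 42349)))
 (N (N (L 6457)
 (L 32090))
 (N (L 17666)
 (L 59443))))
 (N (N (N (L 3919)
 (L 28165))
 (N (L 14634)
 (L 48973)))
 (N (N (L 9026)
 (L 36701))
 (L 20809)))))
 (N (N (N (N (N (L 880)
 (L 23560))
 (N (L 11083)
 (L 40993)))
 (N (N (L 5893)
 (L 31043))
 (N (L 16896)
 (L 56154))))
 (N (N (N (L 3360)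
 (L 27190))
 (N (L 13899)
 (L 47372)))
 (N (N (L 8300)
 (L 35597))
 (L 20015))))
 (N (N (N (N (L 2119)
 (L 25384))
 (N (L 12559)
 (L 43865)))
 (N (N (L 7015)
 (L 33308))
 (N (L 18282)
 (L 64331))))
 (N (N (N (L 4620)
 (L 29012))
 (N (L 15372)
 (L 50976)))
 (N (N (L 9756)
 (L 37997))
 (L 21776))))))))
 (N (N (N (N (N (N (N (N (L 33)
 (L 22059))
 (N (L 10014)
 (L 38500)))
 (N (N (L 4867)
 (L 29455))
 (N (L 15638)
 (L 51784))))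
 (N (N (N (L 2360)
 (L 25686))
 (N (L 12824)
 (L 44585)))
 (N (N (L 7263)
 (L 33632))
 (N (L 18693)
 (L 68452)))))
 (N (N (N (N (L 1120)
 (L 23859))
 (N (L 11339)
 (L 41519)))
 (N (N (L 5998)
 (L 31506))
 (N (L 17168)
 (L 57198))))
 (N (N (N (L 3603)
 (L 27490))
 (N (L 14154)
 (L 47931)))
 (N (N (L 8548)
 (L 35935))
 (L 20292)))))
 (N (N (N (N (N (L 575)
 (L 22892))
 (N (L 10604)
 (L 39991)))
 (N (N (L 5431)
 (L 30470))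
 (N (L 16402)
 (L 54336))))
 (N (N (N (L 2909)
 (L 26677))
 (N (L 13421)
 (L 46168)))
 (N (N (L 7973)
 (L 34845))
 (L 19490))))
 (N (N (N (N (L 1810)
 (L 24838))
 (N (L 12077)
 (L 43020)))
 (N (N (L 6703)
 (L 32545))
 (N (L 17928)
 (L 60974))))
 (N (N (N (L 4165)
 (L 28466))
 (N (L 14892)
 (L 49728)))
 (N (N (L 9283)
 (L 37211))
 (L 21095))))))
 (N (N (N (N (N (N (L 304)
 (L 22545))
 (N (L 10305)
 (L 39241)))
 (N (N (L 5149)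
 (L 29957))
 (N (L 15954)
 (L 53032))))
 (N (N (N (L 2635)
 (L 26188))
 (N (L 13122)
 (L 45361)))
 (N (N (L 7689)
 (L 34150))
 (L 19019))))
 (N (N (N (N (L 1536)
 (L 24349))
 (N (L 11777)
 (L 42267)))
 (N (N (L 6422)
 (L 32022))
 (N (L 17486)
 (L 58935))))
 (N (N (N (L 3885)
 (L 27977))
 (N (L 14593)
 (L 48743)))
 (N (N (L 8985)
 (L 36644))
 (L 20764)))))
 (N (N (N (N (N (L 848)
 (L 23369))
 (N (L 11042)
 (L 40765)))
 (N (N (L 5717)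
 (L 30979))
 (N (L 16714)
 (L 55836))))
 (N (N (N (L 3184)
 (L 27150))
 (N (L 13860)
 (L 47148)))
 (N (N (L 8264)
 (L 35395))
 (L 19819))))
 (N (N (N (N (L 2086)
 (L 25189))
 (N (L 12379)
 (L 43776)))
 (N (N (L 6982)
 (L 33099))
 (N (L 18243)
 (L 63563))))
 (N (N (N (L 4444)
 (L 28966))
 (N (L 15192)
 (L 50720)))
 (N (N (L 9576)
 (L 37924))
 (L 21579)))))))
 (N (N (N (N (N (N (N (L 97)
 (L 22306))
 (N (L 10090)
 (L 38933)))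
 (N (N (L 4934)
 (L 29697))
 (N (L 15721)
 (L 52332))))
 (N (N (N (L 2569)
 (L 25932))
 (N (L 12906)
 (L 44896)))
 (N (N (L 7475)
 (L 33891))
 (L 18783))))
 (N (N (N (N (L 1327)
 (L 24104))
 (N (L 11559)
 (L 41834)))
 (N (N (L 6210)
 (L 31763))
 (N (L 17257)
 (L 58118))))
 (N (N (N (L 3670)
 (L 27731))
 (N (L 14373)
 (L 48410)))
 (N (N (L 8770)
 (L 36362))
 (L 20529)))))
 (N (N (N (N (N (L 784)
 (L 23128))
 (N (L 10821)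
 (L 40459)))
 (N (N (L 5645)
 (L 30728))
 (N (L 16484)
 (L 55060))))
 (N (N (N (L 3118)
 (L 26916))
 (N (L 13641)
 (L 46663)))
 (N (N (L 8048)
 (L 35126))
 (L 19731))))
 (N (N (N (N (L 1877)
 (L 24939))
 (N (L 12299)
 (L 43319)))
 (N (N (L 6913)
 (L 32821))
 (N (L 18012)
 (L 62053))))
 (N (N (N (L 4376)
 (L 28716))
 (N (L 15111)
 (L 50196)))
 (N (N (L 9503)
 (L 37638))
 (L 21337))))))
 (N (N (N (N (N (N (L 368)
 (L 22794))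
 (N (L 10524)
 (L 39535)))
 (N (N (L 5219)
 (L 30214))
 (N (L 16181)
 (L 53596))))
 (N (N (N (L 2844)
 (L 26427))
 (N (L 13347)
 (L 45675)))
 (N (N (L 7764)
 (L 34582))
 (L 19255))))
 (N (N (N (N (L 1602)
 (L 24596))
 (N (L 11858)
 (L 42580)))
 (N (N (L 6492)
 (L 32279))
 (N (L 17704)
 (L 59752))))
 (N (N (N (L 3952)
 (L 28220))
 (N (L 14673)
 (L 49202)))
 (N (N (L 9062)
 (L 36924))
 (L 20996)))))
 (N (N (N (N (N (L 1056)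
 (L 23618))
 (N (L 11266)
 (L 41222)))
 (N (N (L 5928)
 (L 31245))
 (N (L 16936)
 (L 56615))))
 (N (N (N (L 3395)
 (L 27393))
 (N (L 13935)
 (L 47470)))
 (N (N (L 8478)
 (L 35665))
 (L 20057))))
 (N (N (N (N (L 2151)
 (L 25446))
 (N (L 12598)
 (L 44096)))
 (N (N (L 7194)
 (L 33370))
 (N (L 18471)
 (L 65354))))
 (N (N (N (L 4654)
 (L 29211))
 (N (L 15414)
 (L 51221)))
 (N (N (L 9794)
 (L 38210))
 (L 21826)))))))))
 (N (N (N (N (N (N (N (N (N (L 17)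
 (L 22036))
 (N (L 9995)
 (L 38458)))
 (N (N (L 4707)
 (L 29285))
 (N (L 15472)
 (L 51562))))
 (N (N (N (L 2344)
 (L 25661))
 (N (L 12806)
 (L 44545)))
 (N (N (L 7244)
 (L 33605))
 (N (L 18529)
 (L 67354)))))
 (N (N (N (N (L 1104)
 (L 23834))
 (N (L 11320)
 (L 41475)))
 (N (N (L 5981)
 (L 31333))
 (N (L 17002)
 (L 57130))))
 (N (N (N (L 3587)
 (L 27469))
 (N (L 14134)
 (L 47891)))
 (N (N (L 8531)
 (L 35907))
 (L 20268)))))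
 (N (N (N (N (N (L 559)
 (L 22872))
 (N (L 10585)
 (L 39951)))
 (N (N (L 5414)
 (L 30301))
 (N (L 16237)
 (L 54124))))
 (N (N (N (L 2893)
 (L 26651))
 (N (L 13403)
 (L 46121)))
 (N (N (L 7957)
 (L 34671))
 (L 19464))))
 (N (N (N (N (L 1794)
 (L 24675))
 (N (L 12056)
 (L 42843)))
 (N (N (L 6686)
 (L 32513))
 (N (L 17766)
 (L 60691))))
 (N (N (N (L 4148)
 (L 28443))
 (N (L 14874)
 (L 49511)))
 (N (N (L 9266)
 (L 37183))
 (L 21067))))))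
 (N (N (N (N (N (N (L 288)
 (L 22377))
 (N (L 10287)
 (L 39204)))
 (N (N (L 5133)
 (L 29784))
 (N (L 15928)
 (L 52826))))
 (N (N (N (L 2619)
 (L 26158))
 (N (L 13104)
 (L 45322)))
 (N (N (L 7528)
 (L 34115))
 (L 18999))))
 (N (N (N (N (L 1377)
 (L 24326))
 (N (L 11615)
 (L 42087)))
 (N (N (L 6405)
 (L 31854))
 (N (L 17461)
 (L 58708))))
 (N (N (N (L 3865)
 (L 27950))
 (N (L 14432)
 (L 48688)))
 (N (N (L 8967)
 (L 36610))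
 (L 20741)))))
 (N (N (N (N (N (L 832)
 (L 23340))
 (N (L 11024)
 (L 40726)))
 (N (N (L 5697)
 (L 30813))
 (N (L 16692)
 (L 55627))))
 (N (N (N (L 3168)
 (L 26985))
 (N (L 13842)
 (L 46947)))
 (N (N (L 8242)
 (L 35351))
 (L 19798))))
 (N (N (N (N (L 2070)
 (L 25159))
 (N (L 12359)
 (L 43599)))
 (N (N (L 6965)
 (L 33054))
 (N (L 18218)
 (L 63247))))
 (N (N (N (L 4427)
 (L 28941))
 (N (L 15173)
 (L 50496)))
 (N (N (L 9559)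
 (L 37737))
 (L 21550)))))))
 (N (N (N (N (N (N (N (L 81)
 (L 22279))
 (N (L 10073)
 (L 38754)))
 (N (N (L 4917)
 (L 29531))
 (N (L 15699)
 (L 52274))))
 (N (N (N (L 2410)
 (L 25905))
 (N (L 12887)
 (L 44863)))
 (N (N (L 7458)
 (L 33867))
 (L 18759))))
 (N (N (N (N (L 1311)
 (L 24079))
 (N (L 11539)
 (L 41796)))
 (N (N (L 6193)
 (L 31590))
 (N (L 17234)
 (L 57912))))
 (N (N (N (L 3653)
 (L 27703))
 (N (L 14354)
 (L 48197)))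
 (N (N (L 8752)
 (L 36183))
 (L 20510)))))
 (N (N (N (N (N (L 624)
 (L 23104))
 (N (L 10801)
 (L 40261)))
 (N (N (L 5485)
 (L 30560))
 (N (L 16464)
 (L 54865))))
 (N (N (N (L 3102)
 (L 26890))
 (N (L 13620)
 (L 46611)))
 (N (N (L 8031)
 (L 35098))
 (L 19560))))
 (N (N (N (N (L 1859)
 (L 24909))
 (N (L 12138)
 (L 43284)))
 (N (N (L 6753)
 (L 32789))
 (N (L 17992)
 (L 61807))))
 (N (N (N (L 4359)
 (L 28687))
 (N (L 14949)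
 (L 50014)))
 (N (N (L 9481)
 (L 37455))
 (L 21310))))))
 (N (N (N (N (N (N (L 352)
 (L 22622))
 (N (L 10507)
 (L 39485)))
 (N (N (L 5202)
 (L 30038))
 (N (L 16158)
 (L 53530))))
 (N (N (N (L 2827)
 (L 26403))
 (N (L 13330)
 (L 45624)))
 (N (N (L 7747)
 (L 34406))
 (L 19233))))
 (N (N (N (N (L 1586)
 (L 24432))
 (N (L 11840)
 (L 42530)))
 (N (N (L 6475)
 (L 32110))
 (N (L 17686)
 (L 59668))))
 (N (N (N (L 3935)
 (L 28198))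
 (N (L 14653)
 (L 49153)))
 (N (N (L 9044)
 (L 36885))
 (L 20830)))))
 (N (N (N (N (N (L 1039)
 (L 23586))
 (N (L 11103)
 (L 41041)))
 (N (N (L 5910)
 (L 31068))
 (N (L 16917)
 (L 56396))))
 (N (N (N (L 3377)
 (L 27225))
 (N (L 13916)
 (L 47413)))
 (N (N (L 8459)
 (L 35633))
 (L 20037))))
 (N (N (N (N (L 2135)
 (L 25416))
 (N (L 12579)
 (L 44053)))
 (N (N (L 7175)
 (L 33343))
 (N (L 18443)
 (L 64847))))
 (N (N (N (L 4636)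
 (L 29036))
 (N (L 15394)
 (L 51024)))
 (N (N (L 9776)
 (L 38176))
 (L 21799))))))))
 (N (N (N (N (N (N (N (N (L 49)
 (L 22080))
 (N (L 10033)
 (L 38673)))
 (N (N (L 4884)
 (L 29484))
 (N (L 15661)
 (L 52017))))
 (N (N (N (L 2377)
 (L 25712))
 (N (L 12845)
 (L 44644)))
 (N (N (L 7279)
 (L 33800))
 (L 18715))))
 (N (N (N (N (L 1136)
 (L 23886))
 (N (L 11359)
 (L 41564)))
 (N (N (L 6159)
 (L 31536))
 (N (L 17188)
 (L 57443))))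
 (N (N (N (L 3619)
 (L 27659))
 (N (L 14172)
 (L 47978)))
 (N (N (L 8710)
 (L 36124))
 (L 20313)))))
 (N (N (N (N (N (L 592)
 (L 23056))
 (N (L 10764)
 (L 40030)))
 (N (N (L 5450)
 (L 30501))
 (N (L 16422)
 (L 54560))))
 (N (N (N (L 2925)
 (L 26701))
 (N (L 13583)
 (L 46360)))
 (N (N (L 7993)
 (L 34879))
 (L 19514))))
 (N (N (N (N (L 1826)
 (L 24858))
 (N (L 12096)
 (L 43063)))
 (N (N (L 6719)
 (L 32576))
 (N (L 17950)
 (L 61270))))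
 (N (N (N (L 4182)
 (L 28491))
 (N (L 14910)
 (L 49773)))
 (N (N (L 9302)
 (L 37387))
 (L 21260))))))
 (N (N (N (N (N (N (L 320)
 (L 22567))
 (N (L 10329)
 (L 39279)))
 (N (N (L 5167)
 (L 29991))
 (N (L 15971)
 (L 53249))))
 (N (N (N (L 2652)
 (L 26213))
 (N (L 13148)
 (L 45403)))
 (N (N (L 7708)
 (L 34335))
 (L 19039))))
 (N (N (N (N (L 1553)
 (L 24371))
 (N (L 11798)
 (L 42305)))
 (N (N (L 6440)
 (L 32056))
 (N (L 17504)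
 (L 59186))))
 (N (N (N (L 3902)
 (L 28000))
 (N (L 14615)
 (L 48932)))
 (N (N (L 9007)
 (L 36673))
 (L 20785)))))
 (N (N (N (N (N (L 864)
 (L 23393))
 (N (L 11064)
 (L 40806)))
 (N (N (L 5733)
 (L 31011))
 (N (L 16736)
 (L 55919))))
 (N (N (N (L 3344)
 (L 27171))
 (N (L 13878)
 (L 47191)))
 (N (N (L 8283)
 (L 35427))
 (L 19984))))
 (N (N (N (N (L 2102)
 (L 25357))
 (N (L 12398)
 (L 43816)))
 (N (N (L 6998)
 (L 33126))
 (N (L 18262)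
 (L 63832))))
 (N (N (N (L 4460)
 (L 28986))
 (N (L 15210)
 (L 50768)))
 (N (N (L 9739)
 (L 37955))
 (L 21607)))))))
 (N (N (N (N (N (N (N (L 256)
 (L 22331))
 (N (L 10251)
 (L 38971)))
 (N (N (L 4955)
 (L 29729))
 (N (L 15885)
 (L 52536))))
 (N (N (N (L 2586)
 (L 25962))
 (N (L 13068)
 (L 45087)))
 (N (N (L 7494)
 (L 34064))
 (L 18950))))
 (N (N (N (N (L 1343)
 (L 24129))
 (N (L 11577)
 (L 42011)))
 (N (N (L 6226)
 (L 31797))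
 (N (L 17419)
 (L 58213))))
 (N (N (N (L 3687)
 (L 27757))
 (N (L 14391)
 (L 48448)))
 (N (N (L 8787)
 (L 36396))
 (L 20553)))))
 (N (N (N (N (N (L 800)
 (L 23149))
 (N (L 10842)
 (L 40499)))
 (N (N (L 5663)
 (L 30756))
 (N (L 16646)
 (L 55148))))
 (N (N (N (L 3134)
 (L 26936))
 (N (L 13660)
 (L 46700)))
 (N (N (L 8209)
 (L 35154))
 (L 19757))))
 (N (N (N (N (L 1893)
 (L 25106))
 (N (L 12317)
 (L 43365)))
 (N (N (L 6932)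
 (L 32849))
 (N (L 18031)
 (L 62510))))
 (N (N (N (L 4393)
 (L 28745))
 (N (L 15136)
 (L 50249)))
 (N (N (L 9522)
 (L 37668))
 (L 21504))))))
 (N (N (N (N (N (N (L 527)
 (L 22823))
 (N (L 10543)
 (L 39726)))
 (N (N (L 5379)
 (L 30247))
 (N (L 16200)
 (L 53818))))
 (N (N (N (L 2861)
 (L 26456))
 (N (L 13365)
 (L 45861)))
 (N (N (L 7781)
 (L 34609))
 (L 19277))))
 (N (N (N (N (L 1619)
 (L 24621))
 (N (L 11877)
 (L 42764)))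
 (N (N (L 6509)
 (L 32317))
 (N (L 17724)
 (L 59992))))
 (N (N (N (L 4113)
 (L 28244))
 (N (L 14692)
 (L 49258)))
 (N (N (L 9227)
 (L 36954))
 (L 21014)))))
 (N (N (N (N (N (L 1072)
 (L 23642))
 (N (L 11283)
 (L 41260)))
 (N (N (L 5944)
 (L 31281))
 (N (L 16956)
 (L 56682))))
 (N (N (N (L 3411)
 (L 27417))
 (N (L 14096)
 (L 47665)))
 (N (N (L 8494)
 (L 35842))
 (L 20078))))
 (N (N (N (N (L 2311)
 (L 25612))
 (N (L 12620)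
 (L 44302)))
 (N (N (L 7210)
 (L 33539))
 (N (L 18491)
 (L 65870))))
 (N (N (N (L 4671)
 (L 29236))
 (N (L 15434)
 (L 51274)))
 (N (N (L 9813)
 (L 38243))
 (L 21853))))))))))
 (N (N (N (N (N (N (N (N (N (N (L 9)
 (L 22027))
 (N (L 9986)
 (L 38443)))
 (N (N (L 4699)
 (L 29276))
 (N (L 15461)
 (L 51521))))
 (N (N (N (L 2336)
 (L 25647))
 (N (L 12652)
 (L 44376)))
 (N (N (L 7235)
 (L 33588))
 (N (L 18519)
 (L 66865)))))
 (N (N (N (N (L 1096)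
 (L 23822))
 (N (L 11310)
 (L 41315)))
 (N (N (L 5972)
 (L 31318))
 (N (L 16990)
 (L 56937))))
 (N (N (N (L 3436)
 (L 27453))
 (N (L 14125)
 (L 47728)))
 (N (N (L 8523)
 (L 35891))
 (L 20257)))))
 (N (N (N (N (N (L 551)
 (L 22861))
 (N (L 10573)
 (L 39789)))
 (N (N (L 5405)
 (L 30286))
 (N (L 16228)
 (L 54084))))
 (N (N (N (L 2885)
 (L 26637))
 (N (L 13392)
 (L 46095)))
 (N (N (L 7949)
 (L 34662))
 (L 19306))))
 (N (N (N (N (L 1643)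
 (L 24663))
 (N (L 12048)
 (L 42828)))
 (N (N (L 6678)
 (L 32359))
 (N (L 17758)
 (L 60472))))
 (N (N (N (L 4140)
 (L 28425))
 (N (L 14863)
 (L 49495)))
 (N (N (L 9256)
 (L 37160))
 (L 21052))))))
 (N (N (N (N (N (N (L 280)
 (L 22368))
 (N (L 10275)
 (L 39185)))
 (N (N (L 5123)
 (L 29772))
 (N (L 15916)
 (L 52770))))
 (N (N (N (L 2610)
 (L 26140))
 (N (L 13096)
 (L 45156)))
 (N (N (L 7519)
 (L 34101))
 (L 18988))))
 (N (N (N (N (L 1368)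
 (L 24170))
 (N (L 11606)
 (L 42071)))
 (N (N (L 6252)
 (L 31842))
 (N (L 17450)
 (L 58660))))
 (N (N (N (L 3856)
 (L 27940))
 (N (L 14421)
 (L 48673)))
 (N (N (L 8814)
 (L 36444))
 (L 20588)))))
 (N (N (N (N (N (L 824)
 (L 23327))
 (N (L 11015)
 (L 40706)))
 (N (N (L 5688)
 (L 30795))
 (N (L 16678)
 (L 55558))))
 (N (N (N (L 3159)
 (L 26973))
 (N (L 13833)
 (L 46927)))
 (N (N (L 8233)
 (L 35336))
 (L 19788))))
 (N (N (N (N (L 2062)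
 (L 25141))
 (N (L 12348)
 (L 43583)))
 (N (N (L 6957)
 (L 33041))
 (N (L 18208)
 (L 63018))))
 (N (N (N (L 4418)
 (L 28928))
 (N (L 15163)
 (L 50464)))
 (N (N (L 9550)
 (L 37715))
 (L 21536)))))))
 (N (N (N (N (N (N (N (L 73)
 (L 22119))
 (N (L 10063)
 (L 38724)))
 (N (N (L 4909)
 (L 29518))
 (N (L 15691)
 (L 52244))))
 (N (N (N (L 2402)
 (L 25892))
 (N (L 12876)
 (L 44843)))
 (N (N (L 7448)
 (L 33849))
 (L 18751))))
 (N (N (N (N (L 1303)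
 (L 24067))
 (N (L 11529)
 (L 41766)))
 (N (N (L 6185)
 (L 31575))
 (N (L 17225)
 (L 57710))))
 (N (N (N (L 3644)
 (L 27693))
 (N (L 14344)
 (L 48177)))
 (N (N (L 8739)
 (L 36171))
 (L 20494)))))
 (N (N (N (N (N (L 616)
 (L 23092))
 (N (L 10790)
 (L 40238)))
 (N (N (L 5477)
 (L 30548))
 (N (L 16454)
 (L 54819))))
 (N (N (N (L 3094)
 (L 26734))
 (N (L 13610)
 (L 46445)))
 (N (N (L 8021)
 (L 35073))
 (L 19547))))
 (N (N (N (N (L 1851)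
 (L 24893))
 (N (L 12130)
 (L 43265)))
 (N (N (L 6744)
 (L 32768))
 (N (L 17980)
 (L 61754))))
 (N (N (N (L 4207)
 (L 28672))
 (N (L 14940)
 (L 49992)))
 (N (N (L 9328)
 (L 37433))
 (L 21301))))))
 (N (N (N (N (N (N (L 344)
 (L 22607))
 (N (L 10499)
 (L 39472)))
 (N (N (L 5194)
 (L 30028))
 (N (L 16146)
 (L 53351))))
 (N (N (N (L 2819)
 (L 26392))
 (N (L 13320)
 (L 45601)))
 (N (N (L 7737)
 (L 34390))
 (L 19222))))
 (N (N (N (N (L 1578)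
 (L 24420))
 (N (L 11829)
 (L 42514)))
 (N (N (L 6467)
 (L 32101))
 (N (L 17678)
 (L 59481))))
 (N (N (N (L 3927)
 (L 28186))
 (N (L 14645)
 (L 48984)))
 (N (N (L 9036)
 (L 36867))
 (L 20819)))))
 (N (N (N (N (N (L 1031)
 (L 23571))
 (N (L 11094)
 (L 41023)))
 (N (N (L 5902)
 (L 31056))
 (N (L 16908)
 (L 56353))))
 (N (N (N (L 3368)
 (L 27209))
 (N (L 13907)
 (L 47389)))
 (N (N (L 8451)
 (L 35611))
 (L 20026))))
 (N (N (N (N (L 2127)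
 (L 25398))
 (N (L 12570)
 (L 44037)))
 (N (N (L 7023)
 (L 33324))
 (N (L 18434)
 (L 64594))))
 (N (N (N (L 4628)
 (L 29026))
 (N (L 15382)
 (L 50996)))
 (N (N (L 9765)
 (L 38157))
 (L 21785))))))))
 (N (N (N (N (N (N (N (N (L 41)
 (L 22069))
 (N (L 10022)
 (L 38658)))
 (N (N (L 4876)
 (L 29473))
 (N (L 15651)
 (L 51815))))
 (N (N (N (L 2368)
 (L 25696))
 (N (L 12835)
 (L 44619)))
 (N (N (L 7271)
 (L 33644))
 (L 18702))))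
 (N (N (N (N (L 1128)
 (L 23875))
 (N (L 11350)
 (L 41546)))
 (N (N (L 6150)
 (L 31522))
 (N (L 17177)
 (L 57393))))
 (N (N (N (L 3611)
 (L 27502))
 (N (L 14163)
 (L 47961)))
 (N (N (L 8557)
 (L 36110))
 (L 20303)))))
 (N (N (N (N (N (L 583)
 (L 23047))
 (N (L 10756)
 (L 40013)))
 (N (N (L 5441)
 (L 30491))
 (N (L 16411)
 (L 54535))))
 (N (N (N (L 2917)
 (L 26688))
 (N (L 13574)
 (L 46338)))
 (N (N (L 7982)
 (L 34859))
 (L 19502))))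
 (N (N (N (N (L 1818)
 (L 24846))
 (N (L 12086)
 (L 43037)))
 (N (N (L 6711)
 (L 32556))
 (N (L 17940)
 (L 61197))))
 (N (N (N (L 4174)
 (L 28477))
 (N (L 14902)
 (L 49745)))
 (N (N (L 9292)
 (L 37229))
 (L 21103))))))
 (N (N (N (N (N (N (L 312)
 (L 22557))
 (N (L 10318)
 (L 39264)))
 (N (N (L 5159)
 (L 29969))
 (N (L 15963)
 (L 53073))))
 (N (N (N (L 2643)
 (L 26200))
 (N (L 13135)
 (L 45387)))
 (N (N (L 7699)
 (L 34311))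
 (L 19029))))
 (N (N (N (N (L 1545)
 (L 24360))
 (N (L 11787)
 (L 42281)))
 (N (N (L 6431)
 (L 32036))
 (N (L 17495)
 (L 59139))))
 (N (N (N (L 3893)
 (L 27987))
 (N (L 14605)
 (L 48901)))
 (N (N (L 8995)
 (L 36658))
 (L 20774)))))
 (N (N (N (N (N (L 856)
 (L 23379))
 (N (L 11054)
 (L 40783)))
 (N (N (L 5725)
 (L 30994))
 (N (L 16725)
 (L 55871))))
 (N (N (N (L 3336)
 (L 27161))
 (N (L 13870)
 (L 47170)))
 (N (N (L 8273)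
 (L 35413))
 (L 19973))))
 (N (N (N (N (L 2094)
 (L 25345))
 (N (L 12389)
 (L 43798)))
 (N (N (L 6990)
 (L 33111))
 (N (L 18252)
 (L 63785))))
 (N (N (N (L 4452)
 (L 28976))
 (N (L 15202)
 (L 50742)))
 (N (N (L 9728)
 (L 37939))
 (L 21594)))))))
 (N (N (N (N (N (N (N (L 105)
 (L 22318))
 (N (L 10242)
 (L 38950)))
 (N (N (L 4944)
 (L 29709))
 (N (L 15876)
 (L 52513))))
 (N (N (N (L 2578)
 (L 25947))
 (N (L 13057)
 (L 45066)))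
 (N (N (L 7484)
 (L 34048))
 (L 18797))))
 (N (N (N (N (L 1335)
 (L 24118))
 (N (L 11568)
 (L 41991)))
 (N (N (L 6218)
 (L 31777))
 (N (L 17409)
 (L 58170))))
 (N (N (N (L 3679)
 (L 27745))
 (N (L 14383)
 (L 48425)))
 (N (N (L 8779)
 (L 36377))
 (L 20539)))))
 (N (N (N (N (N (L 792)
 (L 23139))
 (N (L 10832)
 (L 40479)))
 (N (N (L 5654)
 (L 30741))
 (N (L 16493)
 (L 55101))))
 (N (N (N (L 3126)
 (L 26927))
 (N (L 13651)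
 (L 46686)))
 (N (N (L 8200)
 (L 35141))
 (L 19744))))
 (N (N (N (N (L 1885)
 (L 25091))
 (N (L 12308)
 (L 43341)))
 (N (N (L 6923)
 (L 32831))
 (N (L 18021)
 (L 62262))))
 (N (N (N (L 4384)
 (L 28732))
 (N (L 15122)
 (L 50218)))
 (N (N (L 9513)
 (L 37650))
 (L 21350))))))
 (N (N (N (N (N (N (L 519)
 (L 22809))
 (N (L 10533)
 (L 39705)))
 (N (N (L 5227)
 (L 30230))
 (N (L 16189)
 (L 53773))))
 (N (N (N (L 2852)
 (L 26444))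
 (N (L 13355)
 (L 45848)))
 (N (N (L 7773)
 (L 34594))
 (L 19265))))
 (N (N (N (N (L 1611)
 (L 24608))
 (N (L 11867)
 (L 42603)))
 (N (N (L 6500)
 (L 32297))
 (N (L 17712)
 (L 59924))))
 (N (N (N (L 4105)
 (L 28234))
 (N (L 14683)
 (L 49232)))
 (N (N (L 9216)
 (L 36942))
 (L 21006)))))
 (N (N (N (N (N (L 1064)
 (L 23629))
 (N (L 11275)
 (L 41235)))
 (N (N (L 5936)
 (L 31264))
 (N (L 16948)
 (L 56650))))
 (N (N (N (L 3403)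
 (L 27407))
 (N (L 14087)
 (L 47631)))
 (N (N (L 8486)
 (L 35687))
 (L 20067))))
 (N (N (N (N (L 2159)
 (L 25455))
 (N (L 12609)
 (L 44122)))
 (N (N (L 7202)
 (L 33384))
 (N (L 18480)
 (L 65601))))
 (N (N (N (L 4662)
 (L 29225))
 (N (L 15424)
 (L 51242)))
 (N (N (L 9803)
 (L 38229))
 (L 21838)))))))))
 (N (N (N (N (N (N (N (N (N (L 25)
 (L 22047))
 (N (L 10004)
 (L 38481)))
 (N (N (L 4715)
 (L 29441))
 (N (L 15627)
 (L 51748))))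
 (N (N (N (L 2352)
 (L 25675))
 (N (L 12815)
 (L 44570)))
 (N (N (L 7254)
 (L 33618))
 (N (L 18538)
 (L 67849)))))
 (N (N (N (N (L 1112)
 (L 23846))
 (N (L 11329)
 (L 41496)))
 (N (N (L 5990)
 (L 31491))
 (N (L 17159)
 (L 57169))))
 (N (N (N (L 3595)
 (L 27480))
 (N (L 14143)
 (L 47907)))
 (N (N (L 8540)
 (L 35920))
 (L 20281)))))
 (N (N (N (N (N (L 567)
 (L 22882))
 (N (L 10595)
 (L 39971)))
 (N (N (L 5423)
 (L 30312))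
 (N (L 16391)
 (L 54303))))
 (N (N (N (L 2901)
 (L 26660))
 (N (L 13413)
 (L 46143)))
 (N (N (L 7965)
 (L 34828))
 (L 19473))))
 (N (N (N (N (L 1802)
 (L 24684))
 (N (L 12065)
 (L 43009)))
 (N (N (L 6694)
 (L 32532))
 (N (L 17776)
 (L 60733))))
 (N (N (N (L 4157)
 (L 28457))
 (N (L 14882)
 (L 49682)))
 (N (N (L 9275)
 (L 37194))
 (L 21082))))))
 (N (N (N (N (N (N (L 296)
 (L 22531))
 (N (L 10296)
 (L 39224)))
 (N (N (L 5141)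
 (L 29794))
 (N (L 15940)
 (L 52847))))
 (N (N (N (L 2627)
 (L 26172))
 (N (L 13114)
 (L 45339)))
 (N (N (L 7536)
 (L 34130))
 (L 19009))))
 (N (N (N (N (L 1385)
 (L 24338))
 (N (L 11624)
 (L 42246)))
 (N (N (L 6413)
 (L 32010))
 (N (L 17475)
 (L 58908))))
 (N (N (N (L 3874)
 (L 27959))
 (N (L 14441)
 (L 48716)))
 (N (N (L 8975)
 (L 36631))
 (L 20752)))))
 (N (N (N (N (N (L 840)
 (L 23352))
 (N (L 11033)
 (L 40743)))
 (N (N (L 5708)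
 (L 30824))
 (N (L 16703)
 (L 55651))))
 (N (N (N (L 3176)
 (L 27138))
 (N (L 13851)
 (L 47118)))
 (N (N (L 8252)
 (L 35377))
 (L 19806))))
 (N (N (N (N (L 2078)
 (L 25175))
 (N (L 12370)
 (L 43619)))
 (N (N (L 6973)
 (L 33077))
 (N (L 18228)
 (L 63336))))
 (N (N (N (L 4436)
 (L 28954))
 (N (L 15182)
 (L 50527)))
 (N (N (L 9567)
 (L 37898))
 (L 21562)))))))
 (N (N (N (N (N (N (N (L 89)
 (L 22292))
 (N (L 10082)
 (L 38916)))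
 (N (N (L 4926)
 (L 29541))
 (N (L 15710)
 (L 52299))))
 (N (N (N (L 2561)
 (L 25919))
 (N (L 12897)
 (L 44882)))
 (N (N (L 7466)
 (L 33880))
 (L 18772))))
 (N (N (N (N (L 1319)
 (L 24092))
 (N (L 11548)
 (L 41807)))
 (N (N (L 6201)
 (L 31747))
 (N (L 17249)
 (L 57945))))
 (N (N (N (L 3662)
 (L 27717))
 (N (L 14364)
 (L 48228)))
 (N (N (L 8761)
 (L 36199))
 (L 20518)))))
 (N (N (N (N (N (L 776)
 (L 23117))
 (N (L 10811)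
 (L 40280)))
 (N (N (L 5637)
 (L 30572))
 (N (L 16475)
 (L 54895))))
 (N (N (N (L 3110)
 (L 26903))
 (N (L 13630)
 (L 46632)))
 (N (N (L 8039)
 (L 35113))
 (L 19721))))
 (N (N (N (N (L 1868)
 (L 24923))
 (N (L 12289)
 (L 43299)))
 (N (N (L 6761)
 (L 32805))
 (N (L 18002)
 (L 61992))))
 (N (N (N (L 4367)
 (L 28702))
 (N (L 14959)
 (L 50025)))
 (N (N (L 9490)
 (L 37477))
 (L 21321))))))
 (N (N (N (N (N (N (L 360)
 (L 22636))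
 (N (L 10516)
 (L 39512)))
 (N (N (L 5210)
 (L 30055))
 (N (L 16167)
 (L 53567))))
 (N (N (N (L 2836)
 (L 26418))
 (N (L 13339)
 (L 45644)))
 (N (N (L 7755)
 (L 34564))
 (L 19245))))
 (N (N (N (N (L 1594)
 (L 24586))
 (N (L 11849)
 (L 42567)))
 (N (N (L 6483)
 (L 32269))
 (N (L 17696)
 (L 59727))))
 (N (N (N (L 3944)
 (L 28209))
 (N (L 14663)
 (L 49187)))
 (N (N (L 9052)
 (L 36909))
 (L 20842)))))
 (N (N (N (N (N (L 1048)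
 (L 23605))
 (N (L 11112)
 (L 41064)))
 (N (N (L 5919)
 (L 31085))
 (N (L 16927)
 (L 56424))))
 (N (N (N (L 3385)
 (L 27236))
 (N (L 13925)
 (L 47434)))
 (N (N (L 8469)
 (L 35648))
 (L 20046))))
 (N (N (N (N (L 2143)
 (L 25430))
 (N (L 12588)
 (L 44075)))
 (N (N (L 7183)
 (L 33355))
 (N (L 18461)
 (L 65129))))
 (N (N (N (L 4644)
 (L 29193))
 (N (L 15404)
 (L 51043)))
 (N (N (L 9786)
 (L 38194))
 (L 21813))))))))
 (N (N (N (N (N (N (N (N (L 57)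
 (L 22095))
 (N (L 10042)
 (L 38689)))
 (N (N (L 4892)
 (L 29494))
 (N (L 15670)
 (L 52032))))
 (N (N (N (L 2386)
 (L 25869))
 (N (L 12854)
 (L 44801)))
 (N (N (L 7431)
 (L 33819))
 (L 18728))))
 (N (N (N (N (L 1287)
 (L 23898))
 (N (L 11367)
 (L 41729)))
 (N (N (L 6168)
 (L 31546))
 (N (L 17204)
 (L 57627))))
 (N (N (N (L 3627)
 (L 27671))
 (N (L 14182)
 (L 48140)))
 (N (N (L 8719)
 (L 36141))
 (L 20328)))))
 (N (N (N (N (N (L 600)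
 (L 23066))
 (N (L 10773)
 (L 40046)))
 (N (N (L 5459)
 (L 30518))
 (N (L 16434)
 (L 54609))))
 (N (N (N (L 3077)
 (L 26711))
 (N (L 13592)
 (L 46378)))
 (N (N (L 8003)
 (L 34896))
 (L 19523))))
 (N (N (N (N (L 1835)
 (L 24868))
 (N (L 12109)
 (L 43091)))
 (N (N (L 6728)
 (L 32593))
 (N (L 17958)
 (L 61479))))
 (N (N (N (L 4190)
 (L 28504))
 (N (L 14922)
 (L 49946)))
 (N (N (L 9310)
 (L 37404))
 (L 21271))))))
 (N (N (N (N (N (N (L 328)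
 (L 22583))
 (N (L 10338)
 (L 39438)))
 (N (N (L 5175)
 (L 30004))
 (N (L 15981)
 (L 53289))))
 (N (N (N (L 2660)
 (L 26222))
 (N (L 13158)
 (L 45569)))
 (N (N (L 7718)
 (L 34359))
 (L 19054))))
 (N (N (N (N (L 1561)
 (L 24383))
 (N (L 11807)
 (L 42330)))
 (N (N (L 6449)
 (L 32075))
 (N (L 17515)
 (L 59402))))
 (N (N (N (L 3910)
 (L 28010))
 (N (L 14625)
 (L 48949)))
 (N (N (L 9016)
 (L 36693))
 (L 20796)))))
 (N (N (N (N (N (L 872)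
 (L 23403))
 (N (L 11073)
 (L 40967)))
 (N (N (L 5741)
 (L 31030))
 (N (L 16744)
 (L 56131))))
 (N (N (N (L 3352)
 (L 27182))
 (N (L 13891)
 (L 47205)))
 (N (N (L 8291)
 (L 35439))
 (L 20002))))
 (N (N (N (N (L 2111)
 (L 25372))
 (N (L 12551)
 (L 43839)))
 (N (N (L 7007)
 (L 33287))
 (N (L 18273)
 (L 64270))))
 (N (N (N (L 4612)
 (L 29000))
 (N (L 15363)
 (L 50794)))
 (N (N (L 9748)
 (L 37974))
 (L 21763)))))))
 (N (N (N (N (N (N (N (L 264)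
 (L 22342))
 (N (L 10259)
 (L 39001)))
 (N (N (L 4963)
 (L 29747))
 (N (L 15898)
 (L 52558))))
 (N (N (N (L 2594)
 (L 26117))
 (N (L 13077)
 (L 45119)))
 (N (N (L 7502)
 (L 34078))
 (L 18959))))
 (N (N (N (N (L 1352)
 (L 24143))
 (N (L 11587)
 (L 42035)))
 (N (N (L 6235)
 (L 31811))
 (N (L 17429)
 (L 58418))))
 (N (N (N (L 3695)
 (L 27913))
 (N (L 14400)
 (L 48471)))
 (N (N (L 8795)
 (L 36414))
 (L 20565)))))
 (N (N (N (N (N (L 808)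
 (L 23303))
 (N (L 10852)
 (L 40517)))
 (N (N (L 5672)
 (L 30764))
 (N (L 16657)
 (L 55332))))
 (N (N (N (L 3143)
 (L 26946))
 (N (L 13669)
 (L 46878)))
 (N (N (L 8217)
 (L 35168))
 (L 19767))))
 (N (N (N (N (L 1901)
 (L 25116))
 (N (L 12328)
 (L 43527)))
 (N (N (L 6941)
 (L 32870))
 (N (L 18183)
 (L 62572))))
 (N (N (N (L 4401)
 (L 28754))
 (N (L 15145)
 (L 50267)))
 (N (N (L 9533)
 (L 37688))
 (L 21515))))))
 (N (N (N (N (N (N (L 535)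
 (L 22839))
 (N (L 10554)
 (L 39738)))
 (N (N (L 5388)
 (L 30261))
 (N (L 16210)
 (L 53858))))
 (N (N (N (L 2869)
 (L 26470))
 (N (L 13374)
 (L 45904)))
 (N (N (L 7789)
 (L 34635))
 (L 19286))))
 (N (N (N (N (L 1627)
 (L 24636))
 (N (L 11886)
 (L 42785)))
 (N (N (L 6661)
 (L 32335))
 (N (L 17736)
 (L 60198))))
 (N (N (N (L 4121)
 (L 28257))
 (N (L 14700)
 (L 49446)))
 (N (N (L 9235)
 (L 36975))
 (L 21025)))))
 (N (N (N (N (N (L 1080)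
 (L 23654))
 (N (L 11291)
 (L 41278)))
 (N (N (L 5952)
 (L 31295))
 (N (L 16966)
 (L 56874))))
 (N (N (N (L 3420)
 (L 27428))
 (N (L 14107)
 (L 47681)))
 (N (N (L 8504)
 (L 35853))
 (L 20235))))
 (N (N (N (N (L 2319)
 (L 25624))
 (N (L 12631)
 (L 44321)))
 (N (N (L 7218)
 (L 33555))
 (N (L 18502)
 (L 66129))))
 (N (N (N (L 4681)
 (L 29249))
 (N (L 15442)
 (L 51297)))
 (N (N (L 9824)
 (L 38403))
 (L 21864)))))))))))
 (N (N (N (N (N (N (N (N (N (N (N (L 5)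
 (L 22023))
 (N (L 9837)
 (L 38437)))
 (N (N (L 4694)
 (L 29263))
 (N (L 15456)
 (L 51494))))
 (N (N (N (L 2332)
 (L 25642))
 (N (L 12648)
 (L 44367)))
 (N (N (L 7230)
 (L 33577))
 (N (L 18515)
 (L 66598)))))
 (N (N (N (N (L 1092)
 (L 23814))
 (N (L 11304)
 (L 41308)))
 (N (N (L 5967)
 (L 31312))
 (N (L 16986)
 (L 56914))))
 (N (N (N (L 3432)
 (L 27445))
 (N (L 14119)
 (L 47723)))
 (N (N (L 8518)
 (L 35884))
 (L 20250)))))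
 (N (N (N (N (N (L 547)
 (L 22855))
 (N (L 10569)
 (L 39781)))
 (N (N (L 5400)
 (L 30278))
 (N (L 16224)
 (L 54056))))
 (N (N (N (L 2881)
 (L 26629))
 (N (L 13388)
 (L 46087)))
 (N (N (L 7945)
 (L 34658))
 (L 19300))))
 (N (N (N (N (L 1639)
 (L 24653))
 (N (L 12044)
 (L 42813)))
 (N (N (L 6674)
 (L 32354))
 (N (L 17752)
 (L 60432))))
 (N (N (N (L 4134)
 (L 28421))
 (N (L 14859)
 (L 49484)))
 (N (N (L 9251)
 (L 37141))
 (L 21046))))))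
 (N (N (N (N (N (N (L 276)
 (L 22362))
 (N (L 10271)
 (L 39175)))
 (N (N (L 4975)
 (L 29765))
 (N (L 15912)
 (L 52751))))
 (N (N (N (L 2606)
 (L 26134))
 (N (L 13092)
 (L 45144)))
 (N (N (L 7515)
 (L 34095))
 (L 18979))))
 (N (N (N (N (L 1364)
 (L 24163))
 (N (L 11601)
 (L 42062)))
 (N (N (L 6248)
 (L 31834))
 (N (L 17446)
 (L 58626))))
 (N (N (N (L 3852)
 (L 27934))
 (N (L 14414)
 (L 48659)))
 (N (N (L 8809)
 (L 36440))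
 (L 20584)))))
 (N (N (N (N (N (L 820)
 (L 23322))
 (N (L 11008)
 (L 40549)))
 (N (N (L 5684)
 (L 30789))
 (N (L 16673)
 (L 55386))))
 (N (N (N (L 3155)
 (L 26967))
 (N (L 13829)
 (L 46910)))
 (N (N (L 8229)
 (L 35331))
 (L 19782))))
 (N (N (N (N (L 2058)
 (L 25136))
 (N (L 12342)
 (L 43567)))
 (N (N (L 6953)
 (L 33035))
 (N (L 18203)
 (L 63003))))
 (N (N (N (L 4414)
 (L 28775))
 (N (L 15159)
 (L 50448)))
 (N (N (L 9546)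
 (L 37708))
 (L 21532)))))))
 (N (N (N (N (N (N (N (L 69)
 (L 22115))
 (N (L 10058)
 (L 38719)))
 (N (N (L 4904)
 (L 29514))
 (N (L 15686)
 (L 52080))))
 (N (N (N (L 2398)
 (L 25886))
 (N (L 12872)
 (L 44833)))
 (N (N (L 7444)
 (L 33837))
 (L 18745))))
 (N (N (N (N (L 1299)
 (L 23919))
 (N (L 11523)
 (L 41757)))
 (N (N (L 6181)
 (L 31564))
 (N (L 17220)
 (L 57691))))
 (N (N (N (L 3640)
 (L 27687))
 (N (L 14340)
 (L 48169)))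
 (N (N (L 8735)
 (L 36162))
 (L 20489)))))
 (N (N (N (N (N (L 612)
 (L 23085))
 (N (L 10786)
 (L 40223)))
 (N (N (L 5473)
 (L 30539))
 (N (L 16449)
 (L 54803))))
 (N (N (N (L 3090)
 (L 26728))
 (N (L 13606)
 (L 46415)))
 (N (N (L 8016)
 (L 34924))
 (L 19542))))
 (N (N (N (N (L 1847)
 (L 24885))
 (N (L 12123)
 (L 43118)))
 (N (N (L 6740)
 (L 32618))
 (N (L 17976)
 (L 61743))))
 (N (N (N (L 4203)
 (L 28522))
 (N (L 14935)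
 (L 49980)))
 (N (N (L 9324)
 (L 37426))
 (L 21291))))))
 (N (N (N (N (N (N (L 340)
 (L 22603))
 (N (L 10351)
 (L 39467)))
 (N (N (L 5189)
 (L 30024))
 (N (L 16142)
 (L 53329))))
 (N (N (N (L 2672)
 (L 26384))
 (N (L 13316)
 (L 45596)))
 (N (N (L 7733)
 (L 34383))
 (L 19215))))
 (N (N (N (N (L 1573)
 (L 24409))
 (N (L 11825)
 (L 42505)))
 (N (N (L 6462)
 (L 32097))
 (N (L 17673)
 (L 59458))))
 (N (N (N (L 3923)
 (L 28178))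
 (N (L 14640)
 (L 48979)))
 (N (N (L 9030)
 (L 36708))
 (L 20814)))))
 (N (N (N (N (N (L 1027)
 (L 23564))
 (N (L 11087)
 (L 41015)))
 (N (N (L 5897)
 (L 31048))
 (N (L 16901)
 (L 56175))))
 (N (N (N (L 3364)
 (L 27203))
 (N (L 13903)
 (L 47379)))
 (N (N (L 8304)
 (L 35601))
 (L 20019))))
 (N (N (N (N (L 2123)
 (L 25391))
 (N (L 12564)
 (L 43882)))
 (N (N (L 7019)
 (L 33316))
 (N (L 18286)
 (L 64536))))
 (N (N (N (L 4624)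
 (L 29020))
 (N (L 15376)
 (L 50984)))
 (N (N (L 9761)
 (L 38151))
 (L 21780))))))))
 (N (N (N (N (N (N (N (N (L 37)
 (L 22064))
 (N (L 10018)
 (L 38506)))
 (N (N (L 4871)
 (L 29466))
 (N (L 15645)
 (L 51792))))
 (N (N (N (L 2364)
 (L 25690))
 (N (L 12830)
 (L 44603)))
 (N (N (L 7267)
 (L 33638))
 (N (L 18697)
 (L 69181)))))
 (N (N (N (N (L 1124)
 (L 23866))
 (N (L 11343)
 (L 41529)))
 (N (N (L 6145)
 (L 31510))
 (N (L 17172)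
 (L 57358))))
 (N (N (N (L 3607)
 (L 27494))
 (N (L 14159)
 (L 47945)))
 (N (N (L 8552)
 (L 36103))
 (L 20297)))))
 (N (N (N (N (N (L 579)
 (L 23042))
 (N (L 10608)
 (L 39997)))
 (N (N (L 5436)
 (L 30480))
 (N (L 16406)
 (L 54359))))
 (N (N (N (L 2913)
 (L 26683))
 (N (L 13569)
 (L 46184)))
 (N (N (L 7977)
 (L 34854))
 (L 19494))))
 (N (N (N (N (L 1814)
 (L 24842))
 (N (L 12082)
 (L 43030)))
 (N (N (L 6707)
 (L 32552))
 (N (L 17934)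
 (L 61028))))
 (N (N (N (L 4170)
 (L 28472))
 (N (L 14898)
 (L 49738)))
 (N (N (L 9287)
 (L 37223))
 (L 21099))))))
 (N (N (N (N (N (N (L 308)
 (L 22549))
 (N (L 10313)
 (L 39249)))
 (N (N (L 5155)
 (L 29963))
 (N (L 15958)
 (L 53048))))
 (N (N (N (L 2639)
 (L 26192))
 (N (L 13129)
 (L 45372)))
 (N (N (L 7695)
 (L 34160))
 (L 19024))))
 (N (N (N (N (L 1541)
 (L 24353))
 (N (L 11783)
 (L 42274)))
 (N (N (L 6426)
 (L 32030))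
 (N (L 17490)
 (L 58971))))
 (N (N (N (L 3889)
 (L 27983))
 (N (L 14599)
 (L 48749)))
 (N (N (L 8990)
 (L 36653))
 (L 20770)))))
 (N (N (N (N (N (L 852)
 (L 23374))
 (N (L 11047)
 (L 40772)))
 (N (N (L 5721)
 (L 30989))
 (N (L 16719)
 (L 55855))))
 (N (N (N (L 3332)
 (L 27156))
 (N (L 13865)
 (L 47164)))
 (N (N (L 8269)
 (L 35399))
 (L 19824))))
 (N (N (N (N (L 2090)
 (L 25197))
 (N (L 12384)
 (L 43792)))
 (N (N (L 6986)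
 (L 33104))
 (N (L 18248)
 (L 63597))))
 (N (N (N (L 4448)
 (L 28970))
 (N (L 15198)
 (L 50730)))
 (N (N (L 9581)
 (L 37932))
 (L 21588)))))))
 (N (N (N (N (N (N (N (L 101)
 (L 22311))
 (N (L 10094)
 (L 38938)))
 (N (N (L 4940)
 (L 29702))
 (N (L 15727)
 (L 52486))))
 (N (N (N (L 2573)
 (L 25938))
 (N (L 12910)
 (L 44910)))
 (N (N (L 7480)
 (L 33900))
 (L 18791))))
 (N (N (N (N (L 1331)
 (L 24111))
 (N (L 11563)
 (L 41838)))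
 (N (N (L 6214)
 (L 31767))
 (N (L 17262)
 (L 58127))))
 (N (N (N (L 3675)
 (L 27739))
 (N (L 14378)
 (L 48417)))
 (N (N (L 8774)
 (L 36369))
 (L 20533)))))
 (N (N (N (N (N (L 788)
 (L 23133))
 (N (L 10828)
 (L 40470)))
 (N (N (L 5650)
 (L 30732))
 (N (L 16488)
 (L 55070))))
 (N (N (N (L 3122)
 (L 26921))
 (N (L 13645)
 (L 46674)))
 (N (N (L 8195)
 (L 35131))
 (L 19738))))
 (N (N (N (N (L 1881)
 (L 24943))
 (N (L 12303)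
 (L 43331)))
 (N (N (L 6919)
 (L 32826))
 (N (L 18016)
 (L 62237))))
 (N (N (N (L 4380)
 (L 28726))
 (N (L 15115)
 (L 50211)))
 (N (N (L 9508)
 (L 37646))
 (L 21345))))))
 (N (N (N (N (N (N (L 515)
 (L 22804))
 (N (L 10528)
 (L 39694)))
 (N (N (L 5223)
 (L 30223))
 (N (L 16185)
 (L 53612))))
 (N (N (N (L 2848)
 (L 26435))
 (N (L 13351)
 (L 45836)))
 (N (N (L 7768)
 (L 34589))
 (L 19260))))
 (N (N (N (N (L 1606)
 (L 24602))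
 (N (L 11863)
 (L 42596)))
 (N (N (L 6496)
 (L 32291))
 (N (L 17708)
 (L 59915))))
 (N (N (N (L 4099)
 (L 28225))
 (N (L 14677)
 (L 49217)))
 (N (N (L 9066)
 (L 36934))
 (L 21001)))))
 (N (N (N (N (N (L 1060)
 (L 23625))
 (N (L 11270)
 (L 41229)))
 (N (N (L 5932)
 (L 31255))
 (N (L 16940)
 (L 56636))))
 (N (N (N (L 3399)
 (L 27400))
 (N (L 14083)
 (L 47622)))
 (N (N (L 8482)
 (L 35675))
 (L 20061))))
 (N (N (N (N (L 2155)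
 (L 25451))
 (N (L 12605)
 (L 44108)))
 (N (N (L 7198)
 (L 33378))
 (N (L 18475)
 (L 65542))))
 (N (N (N (L 4658)
 (L 29218))
 (N (L 15419)
 (L 51236)))
 (N (N (L 9798)
 (L 38220))
 (L 21833)))))))))
 (N (N (N (N (N (N (N (N (N (L 21)
 (L 22040))
 (N (L 9999)
 (L 38469)))
 (N (N (L 4711)
 (L 29290))
 (N (L 15621)
 (L 51738))))
 (N (N (N (L 2348)
 (L 25671))
 (N (L 12811)
 (L 44559)))
 (N (N (L 7249)
 (L 33613))
 (N (L 18533)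
 (L 67415)))))
 (N (N (N (N (L 1108)
 (L 23839))
 (N (L 11325)
 (L 41488)))
 (N (N (L 5986)
 (L 31340))
 (N (L 17153)
 (L 57146))))
 (N (N (N (L 3591)
 (L 27475))
 (N (L 14138)
 (L 47899)))
 (N (N (L 8535)
 (L 35915))
 (L 20275)))))
 (N (N (N (N (N (L 563)
 (L 22877))
 (N (L 10591)
 (L 39958)))
 (N (N (L 5419)
 (L 30305))
 (N (L 16387)
 (L 54286))))
 (N (N (N (L 2897)
 (L 26655))
 (N (L 13407)
 (L 46134)))
 (N (N (L 7961)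
 (L 34821))
 (L 19469))))
 (N (N (N (N (L 1798)
 (L 24679))
 (N (L 12061)
 (L 42853)))
 (N (N (L 6690)
 (L 32525))
 (N (L 17771)
 (L 60715))))
 (N (N (N (L 4153)
 (L 28450))
 (N (L 14878)
 (L 49665)))
 (N (N (L 9271)
 (L 37189))
 (L 21073))))))
 (N (N (N (N (N (N (L 292)
 (L 22382))
 (N (L 10291)
 (L 39212)))
 (N (N (L 5137)
 (L 29790))
 (N (L 15933)
 (L 52838))))
 (N (N (N (L 2623)
 (L 26166))
 (N (L 13109)
 (L 45326)))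
 (N (N (L 7532)
 (L 34121))
 (L 19004))))
 (N (N (N (N (L 1381)
 (L 24333))
 (N (L 11620)
 (L 42095)))
 (N (N (L 6409)
 (L 32003))
 (N (L 17468)
 (L 58716))))
 (N (N (N (L 3870)
 (L 27954))
 (N (L 14436)
 (L 48701)))
 (N (N (L 8971)
 (L 36620))
 (L 20747)))))
 (N (N (N (N (N (L 836)
 (L 23346))
 (N (L 11028)
 (L 40733)))
 (N (N (L 5704)
 (L 30817))
 (N (L 16696)
 (L 55634))))
 (N (N (N (L 3172)
 (L 26990))
 (N (L 13847)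
 (L 46955)))
 (N (N (L 8248)
 (L 35364))
 (L 19802))))
 (N (N (N (N (L 2074)
 (L 25164))
 (N (L 12363)
 (L 43608)))
 (N (N (L 6969)
 (L 33068))
 (N (L 18222)
 (L 63273))))
 (N (N (N (L 4431)
 (L 28946))
 (N (L 15178)
 (L 50515)))
 (N (N (L 9563)
 (L 37744))
 (L 21557)))))))
 (N (N (N (N (N (N (N (L 85)
 (L 22284))
 (N (L 10078)
 (L 38764)))
 (N (N (L 4922)
 (L 29536))
 (N (L 15703)
 (L 52289))))
 (N (N (N (L 2414)
 (L 25912))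
 (N (L 12892)
 (L 44875)))
 (N (N (L 7462)
 (L 33871))
 (L 18764))))
 (N (N (N (N (L 1315)
 (L 24083))
 (N (L 11543)
 (L 41803)))
 (N (N (L 6197)
 (L 31594))
 (N (L 17242)
 (L 57929))))
 (N (N (N (L 3658)
 (L 27710))
 (N (L 14359)
 (L 48213)))
 (N (N (L 8757)
 (L 36192))
 (L 20514)))))
 (N (N (N (N (N (L 771)
 (L 23110))
 (N (L 10806)
 (L 40268)))
 (N (N (L 5632)
 (L 30567))
 (N (L 16470)
 (L 54884))))
 (N (N (N (L 3106)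
 (L 26895))
 (N (L 13624)
 (L 46625)))
 (N (N (L 8035)
 (L 35108))
 (L 19714))))
 (N (N (N (N (L 1863)
 (L 24918))
 (N (L 12142)
 (L 43290)))
 (N (N (L 6757)
 (L 32798))
 (N (L 17997)
 (L 61978))))
 (N (N (N (L 4363)
 (L 28693))
 (N (L 14954)
 (L 50020)))
 (N (N (L 9486)
 (L 37462))
 (L 21314))))))
 (N (N (N (N (N (N (L 356)
 (L 22628))
 (N (L 10512)
 (L 39499)))
 (N (N (L 5206)
 (L 30047))
 (N (L 16162)
 (L 53543))))
 (N (N (N (L 2831)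
 (L 26408))
 (N (L 13334)
 (L 45632)))
 (N (N (L 7751)
 (L 34413))
 (L 19237))))
 (N (N (N (N (L 1590)
 (L 24582))
 (N (L 11844)
 (L 42550)))
 (N (N (L 6479)
 (L 32260))
 (N (L 17691)
 (L 59696))))
 (N (N (N (L 3940)
 (L 28205))
 (N (L 14659)
 (L 49178)))
 (N (N (L 9048)
 (L 36900))
 (L 20838)))))
 (N (N (N (N (N (L 1044)
 (L 23595))
 (N (L 11107)
 (L 41049)))
 (N (N (L 5915)
 (L 31076))
 (N (L 16922)
 (L 56416))))
 (N (N (N (L 3381)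
 (L 27230))
 (N (L 13921)
 (L 47425)))
 (N (N (L 8465)
 (L 35640))
 (L 20042))))
 (N (N (N (N (L 2139)
 (L 25421))
 (N (L 12584)
 (L 44065)))
 (N (N (L 7179)
 (L 33349))
 (N (L 18454)
 (L 65051))))
 (N (N (N (L 4640)
 (L 29187))
 (N (L 15398)
 (L 51037)))
 (N (N (L 9780)
 (L 38185))
 (L 21806))))))))
 (N (N (N (N (N (N (N (N (L 53)
 (L 22089))
 (N (L 10037)
 (L 38682)))
 (N (N (L 4888)
 (L 29490))
 (N (L 15666)
 (L 52024))))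
 (N (N (N (L 2381)
 (L 25864))
 (N (L 12850)
 (L 44650)))
 (N (N (L 7427)
 (L 33808))
 (L 18722))))
 (N (N (N (N (L 1283)
 (L 23891))
 (N (L 11363)
 (L 41573)))
 (N (N (L 6164)
 (L 31541))
 (N (L 17193)
 (L 57601))))
 (N (N (N (L 3623)
 (L 27664))
 (N (L 14177)
 (L 48134)))
 (N (N (L 8714)
 (L 36130))
 (L 20323)))))
 (N (N (N (N (N (L 596)
 (L 23061))
 (N (L 10769)
 (L 40037)))
 (N (N (L 5454)
 (L 30506))
 (N (L 16426)
 (L 54586))))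
 (N (N (N (L 3072)
 (L 26707))
 (N (L 13588)
 (L 46371)))
 (N (N (L 7997)
 (L 34888))
 (L 19519))))
 (N (N (N (N (L 1830)
 (L 24862))
 (N (L 12104)
 (L 43073)))
 (N (N (L 6724)
 (L 32584))
 (N (L 17954)
 (L 61451))))
 (N (N (N (L 4186)
 (L 28500))
 (N (L 14917)
 (L 49929)))
 (N (N (L 9306)
 (L 37394))
 (L 21265))))))
 (N (N (N (N (N (N (L 324)
 (L 22576))
 (N (L 10333)
 (L 39430)))
 (N (N (L 5171)
 (L 29998))
 (N (L 15976)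
 (L 53265))))
 (N (N (N (L 2656)
 (L 26218))
 (N (L 13152)
 (L 45418)))
 (N (N (L 7713)
 (L 34344))
 (L 19046))))
 (N (N (N (N (L 1557)
 (L 24378))
 (N (L 11803)
 (L 42319)))
 (N (N (L 6445)
 (L 32068))
 (N (L 17509)
 (L 59217))))
 (N (N (N (L 3906)
 (L 28006))
 (N (L 14621)
 (L 48941)))
 (N (N (L 9011)
 (L 36679))
 (L 20789)))))
 (N (N (N (N (N (L 868)
 (L 23398))
 (N (L 11068)
 (L 40815)))
 (N (N (L 5737)
 (L 31018))
 (N (L 16740)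
 (L 56104))))
 (N (N (N (L 3348)
 (L 27176))
 (N (L 13885)
 (L 47198)))
 (N (N (L 8287)
 (L 35435))
 (L 19989))))
 (N (N (N (N (L 2106)
 (L 25366))
 (N (L 12545)
 (L 43825)))
 (N (N (L 7003)
 (L 33135))
 (N (L 18267)
 (L 64075))))
 (N (N (N (L 4464)
 (L 28993))
 (N (L 15215)
 (L 50772)))
 (N (N (L 9743)
 (L 37966))
 (L 21612)))))))
 (N (N (N (N (N (N (N (L 260)
 (L 22335))
 (N (L 10255)
 (L 38980)))
 (N (N (L 4959)
 (L 29736))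
 (N (L 15892)
 (L 52543))))
 (N (N (N (L 2590)
 (L 25966))
 (N (L 13072)
 (L 45097)))
 (N (N (L 7498)
 (L 34070))
 (L 18954))))
 (N (N (N (N (L 1348)
 (L 24139))
 (N (L 11583)
 (L 42022)))
 (N (N (L 6230)
 (L 31802))
 (N (L 17425)
 (L 58391))))
 (N (N (N (L 3691)
 (L 27905))
 (N (L 14395)
 (L 48462)))
 (N (N (L 8791)
 (L 36402))
 (L 20559)))))
 (N (N (N (N (N (L 804)
 (L 23297))
 (N (L 10847)
 (L 40509)))
 (N (N (L 5667)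
 (L 30760))
 (N (L 16653)
 (L 55319))))
 (N (N (N (L 3139)
 (L 26941))
 (N (L 13664)
 (L 46853)))
 (N (N (L 8213)
 (L 35162))
 (L 19761))))
 (N (N (N (N (L 1897)
 (L 25110))
 (N (L 12323)
 (L 43375)))
 (N (N (L 6936)
 (L 32859))
 (N (L 18179)
 (L 62551))))
 (N (N (N (L 4397)
 (L 28750))
 (N (L 15141)
 (L 50256)))
 (N (N (L 9527)
 (L 37680))
 (L 21510))))))
 (N (N (N (N (N (N (L 531)
 (L 22833))
 (N (L 10549)
 (L 39733)))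
 (N (N (L 5384)
 (L 30256))
 (N (L 16204)
 (L 53847))))
 (N (N (N (L 2865)
 (L 26464))
 (N (L 13369)
 (L 45887)))
 (N (N (L 7785)
 (L 34628))
 (L 19281))))
 (N (N (N (N (L 1623)
 (L 24627))
 (N (L 11882)
 (L 42775)))
 (N (N (L 6656)
 (L 32325))
 (N (L 17728)
 (L 60016))))
 (N (N (N (L 4117)
 (L 28248))
 (N (L 14696)
 (L 49421)))
 (N (N (L 9231)
 (L 36960))
 (L 21019)))))
 (N (N (N (N (N (L 1076)
 (L 23650))
 (N (L 11287)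
 (L 41269)))
 (N (N (L 5948)
 (L 31286))
 (N (L 16961)
 (L 56866))))
 (N (N (N (L 3415)
 (L 27423))
 (N (L 14101)
 (L 47671)))
 (N (N (L 8498)
 (L 35847))
 (L 20229))))
 (N (N (N (N (L 2315)
 (L 25616))
 (N (L 12624)
 (L 44310)))
 (N (N (L 7214)
 (L 33550))
 (N (L 18497)
 (L 66066))))
 (N (N (N (L 4675)
 (L 29243))
 (N (L 15438)
 (L 51287)))
 (N (N (L 9817)
 (L 38254))
 (L 21859))))))))))
 (N (N (N (N (N (N (N (N (N (N (L 13)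
 (L 22032))
 (N (L 9991)
 (L 38451)))
 (N (N (L 4703)
 (L 29280))
 (N (L 15466)
 (L 51541))))
 (N (N (N (L 2340)
 (L 25654))
 (N (L 12656)
 (L 44391)))
 (N (N (L 7240)
 (L 33595))
 (N (L 18525)
 (L 67113)))))
 (N (N (N (N (L 1100)
 (L 23827))
 (N (L 11315)
 (L 41324)))
 (N (N (L 5977)
 (L 31324))
 (N (L 16998)
 (L 57114))))
 (N (N (N (L 3440)
 (L 27461))
 (N (L 14129)
 (L 47880)))
 (N (N (L 8527)
 (L 35899))
 (L 20261)))))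
 (N (N (N (N (N (L 555)
 (L 22865))
 (N (L 10579)
 (L 39942)))
 (N (N (L 5409)
 (L 30292))
 (N (L 16233)
 (L 54115))))
 (N (N (N (L 2889)
 (L 26644))
 (N (L 13397)
 (L 46108)))
 (N (N (L 7953)
 (L 34667))
 (L 19459))))
 (N (N (N (N (L 1647)
 (L 24667))
 (N (L 12052)
 (L 42834)))
 (N (N (L 6682)
 (L 32364))
 (N (L 17762)
 (L 60513))))
 (N (N (N (L 4144)
 (L 28436))
 (N (L 14868)
 (L 49505)))
 (N (N (L 9262)
 (L 37167))
 (L 21058))))))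
 (N (N (N (N (N (N (L 284)
 (L 22372))
 (N (L 10280)
 (L 39194)))
 (N (N (L 5128)
 (L 29779))
 (N (L 15921)
 (L 52789))))
 (N (N (N (L 2614)
 (L 26148))
 (N (L 13100)
 (L 45166)))
 (N (N (L 7523)
 (L 34109))
 (L 18993))))
 (N (N (N (N (L 1373)
 (L 24175))
 (N (L 11611)
 (L 42080)))
 (N (N (L 6256)
 (L 31847))
 (N (L 17454)
 (L 58686))))
 (N (N (N (L 3860)
 (L 27944))
 (N (L 14426)
 (L 48684)))
 (N (N (L 8962)
 (L 36455))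
 (L 20592)))))
 (N (N (N (N (N (L 828)
 (L 23334))
 (N (L 11020)
 (L 40715)))
 (N (N (L 5693)
 (L 30806))
 (N (L 16682)
 (L 55605))))
 (N (N (N (L 3164)
 (L 26981))
 (N (L 13837)
 (L 46934)))
 (N (N (L 8237)
 (L 35342))
 (L 19793))))
 (N (N (N (N (L 2066)
 (L 25150))
 (N (L 12352)
 (L 43592)))
 (N (N (L 6961)
 (L 33049))
 (N (L 18212)
 (L 63065))))
 (N (N (N (L 4422)
 (L 28936))
 (N (L 15168)
 (L 50483)))
 (N (N (L 9555)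
 (L 37721))
 (L 21541)))))))
 (N (N (N (N (N (N (N (L 77)
 (L 22127))
 (N (L 10069)
 (L 38736)))
 (N (N (L 4913)
 (L 29523))
 (N (L 15695)
 (L 52256))))
 (N (N (N (L 2406)
 (L 25898))
 (N (L 12880)
 (L 44853)))
 (N (N (L 7453)
 (L 33856))
 (L 18755))))
 (N (N (N (N (L 1307)
 (L 24073))
 (N (L 11534)
 (L 41782)))
 (N (N (L 6189)
 (L 31580))
 (N (L 17230)
 (L 57894))))
 (N (N (N (L 3648)
 (L 27699))
 (N (L 14349)
 (L 48187)))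
 (N (N (L 8746)
 (L 36176))
 (L 20500)))))
 (N (N (N (N (N (L 620)
 (L 23098))
 (N (L 10796)
 (L 40251)))
 (N (N (L 5481)
 (L 30552))
 (N (L 16458)
 (L 54856))))
 (N (N (N (L 3098)
 (L 26881))
 (N (L 13616)
 (L 46604)))
 (N (N (L 8027)
 (L 35082))
 (L 19553))))
 (N (N (N (N (L 1855)
 (L 24899))
 (N (L 12134)
 (L 43277)))
 (N (N (L 6749)
 (L 32780))
 (N (L 17984)
 (L 61778))))
 (N (N (N (L 4354)
 (L 28681))
 (N (L 14945)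
 (L 49997)))
 (N (N (L 9475)
 (L 37443))
 (L 21306))))))
 (N (N (N (N (N (N (L 348)
 (L 22616))
 (N (L 10503)
 (L 39479)))
 (N (N (L 5198)
 (L 30034))
 (N (L 16150)
 (L 53519))))
 (N (N (N (L 2823)
 (L 26398))
 (N (L 13325)
 (L 45610)))
 (N (N (L 7741)
 (L 34399))
 (L 19228))))
 (N (N (N (N (L 1582)
 (L 24428))
 (N (L 11834)
 (L 42523)))
 (N (N (L 6471)
 (L 32105))
 (N (L 17682)
 (L 59657))))
 (N (N (N (L 3931)
 (L 28194))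
 (N (L 14649)
 (L 48995)))
 (N (N (L 9040)
 (L 36873))
 (L 20824)))))
 (N (N (N (N (N (L 1035)
 (L 23579))
 (N (L 11098)
 (L 41029)))
 (N (N (L 5906)
 (L 31060))
 (N (L 16912)
 (L 56379))))
 (N (N (N (L 3372)
 (L 27213))
 (N (L 13911)
 (L 47396)))
 (N (N (L 8455)
 (L 35622))
 (L 20032))))
 (N (N (N (N (L 2131)
 (L 25408))
 (N (L 12574)
 (L 44047)))
 (N (N (L 7171)
 (L 33334))
 (N (L 18438)
 (L 64775))))
 (N (N (N (L 4632)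
 (L 29030))
 (N (L 15389)
 (L 51014)))
 (N (N (L 9770)
 (L 38162))
 (L 21792))))))))
 (N (N (N (N (N (N (N (N (L 45)
 (L 22074))
 (N (L 10027)
 (L 38668)))
 (N (N (L 4880)
 (L 29478))
 (N (L 15655)
 (L 51973))))
 (N (N (N (L 2372)
 (L 25707))
 (N (L 12840)
 (L 44634)))
 (N (N (L 7275)
 (L 33793))
 (L 18706))))
 (N (N (N (N (L 1132)
 (L 23882))
 (N (L 11355)
 (L 41553)))
 (N (N (L 6155)
 (L 31527))
 (N (L 17182)
 (L 57414))))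
 (N (N (N (L 3615)
 (L 27653))
 (N (L 14167)
 (L 47967)))
 (N (N (L 8705)
 (L 36117))
 (L 20309)))))
 (N (N (N (N (N (L 588)
 (L 23052))
 (N (L 10760)
 (L 40023)))
 (N (N (L 5446)
 (L 30496))
 (N (L 16417)
 (L 54545))))
 (N (N (N (L 2921)
 (L 26692))
 (N (L 13579)
 (L 46351)))
 (N (N (L 7989)
 (L 34868))
 (L 19507))))
 (N (N (N (N (L 1822)
 (L 24852))
 (N (L 12091)
 (L 43051)))
 (N (N (L 6715)
 (L 32568))
 (N (L 17946)
 (L 61216))))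
 (N (N (N (L 4178)
 (L 28484))
 (N (L 14906)
 (L 49754)))
 (N (N (L 9297)
 (L 37381))
 (L 21253))))))
 (N (N (N (N (N (N (L 316)
 (L 22561))
 (N (L 10323)
 (L 39274)))
 (N (N (L 5163)
 (L 29982))
 (N (L 15967)
 (L 53095))))
 (N (N (N (L 2647)
 (L 26208))
 (N (L 13142)
 (L 45394)))
 (N (N (L 7703)
 (L 34330))
 (L 19033))))
 (N (N (N (N (L 1549)
 (L 24365))
 (N (L 11791)
 (L 42293)))
 (N (N (L 6435)
 (L 32049))
 (N (L 17500)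
 (L 59153))))
 (N (N (N (L 3897)
 (L 27994))
 (N (L 14610)
 (L 48915)))
 (N (N (L 9002)
 (L 36667))
 (L 20779)))))
 (N (N (N (N (N (L 860)
 (L 23386))
 (N (L 11058)
 (L 40797)))
 (N (N (L 5729)
 (L 31004))
 (N (L 16731)
 (L 55885))))
 (N (N (N (L 3340)
 (L 27166))
 (N (L 13874)
 (L 47186)))
 (N (N (L 8278)
 (L 35420))
 (L 19980))))
 (N (N (N (N (L 2098)
 (L 25352))
 (N (L 12394)
 (L 43804)))
 (N (N (L 6994)
 (L 33121))
 (N (L 18256)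
 (L 63821))))
 (N (N (N (L 4456)
 (L 28981))
 (N (L 15206)
 (L 50758)))
 (N (N (L 9733)
 (L 37946))
 (L 21602)))))))
 (N (N (N (N (N (N (N (L 109)
 (L 22327))
 (N (L 10246)
 (L 38965)))
 (N (N (L 4951)
 (L 29716))
 (N (L 15881)
 (L 52526))))
 (N (N (N (L 2582)
 (L 25956))
 (N (L 13062)
 (L 45071)))
 (N (N (L 7489)
 (L 34056))
 (L 18945))))
 (N (N (N (N (L 1339)
 (L 24124))
 (N (L 11572)
 (L 41997)))
 (N (N (L 6222)
 (L 31785))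
 (N (L 17413)
 (L 58188))))
 (N (N (N (L 3683)
 (L 27749))
 (N (L 14387)
 (L 48439)))
 (N (N (L 8783)
 (L 36382))
 (L 20546)))))
 (N (N (N (N (N (L 796)
 (L 23145))
 (N (L 10837)
 (L 40495)))
 (N (N (L 5659)
 (L 30748))
 (N (L 16641)
 (L 55136))))
 (N (N (N (L 3130)
 (L 26932))
 (N (L 13655)
 (L 46695)))
 (N (N (L 8205)
 (L 35147))
 (L 19749))))
 (N (N (N (N (L 1889)
 (L 25101))
 (N (L 12312)
 (L 43358)))
 (N (N (L 6927)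
 (L 32837))
 (N (L 18025)
 (L 62465))))
 (N (N (N (L 4388)
 (L 28739))
 (N (L 15130)
 (L 50227)))
 (N (N (L 9518)
 (L 37657))
 (L 21356))))))
 (N (N (N (N (N (N (L 523)
 (L 22814))
 (N (L 10538)
 (L 39717)))
 (N (N (L 5231)
 (L 30241))
 (N (L 16195)
 (L 53796))))
 (N (N (N (L 2856)
 (L 26450))
 (N (L 13361)
 (L 45854)))
 (N (N (L 7777)
 (L 34600))
 (L 19270))))
 (N (N (N (N (L 1615)
 (L 24613))
 (N (L 11873)
 (L 42752)))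
 (N (N (L 6505)
 (L 32309))
 (N (L 17718)
 (L 59970))))
 (N (N (N (L 4109)
 (L 28240))
 (N (L 14687)
 (L 49244)))
 (N (N (L 9222)
 (L 36948))
 (L 21010)))))
 (N (N (N (N (N (L 1068)
 (L 23634))
 (N (L 11279)
 (L 41247)))
 (N (N (L 5940)
 (L 31273))
 (N (L 16952)
 (L 56664))))
 (N (N (N (L 3407)
 (L 27412))
 (N (L 14091)
 (L 47648)))
 (N (N (L 8490)
 (L 35693))
 (L 20073))))
 (N (N (N (N (L 2306)
 (L 25603))
 (N (L 12616)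
 (L 44141)))
 (N (N (L 7206)
 (L 33390))
 (N (L 18486)
 (L 65842))))
 (N (N (N (L 4667)
 (L 29232))
 (N (L 15430)
 (L 51268)))
 (N (N (L 9808)
 (L 38233))
 (L 21846)))))))))
 (N (N (N (N (N (N (N (N (N (L 29)
 (L 22053))
 (N (L 10010)
 (L 38489)))
 (N (N (L 4719)
 (L 29449))
 (N (L 15633)
 (L 51772))))
 (N (N (N (L 2356)
 (L 25679))
 (N (L 12820)
 (L 44578)))
 (N (N (L 7259)
 (L 33624))
 (N (L 18542)
 (L 68181)))))
 (N (N (N (N (L 1116)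
 (L 23853))
 (N (L 11333)
 (L 41506)))
 (N (N (L 5994)
 (L 31497))
 (N (L 17164)
 (L 57179))))
 (N (N (N (L 3599)
 (L 27485))
 (N (L 14148)
 (L 47918)))
 (N (N (L 8544)
 (L 35927))
 (L 20286)))))
 (N (N (N (N (N (L 571)
 (L 22886))
 (N (L 10600)
 (L 39981)))
 (N (N (L 5427)
 (L 30465))
 (N (L 16397)
 (L 54324))))
 (N (N (N (L 2905)
 (L 26666))
 (N (L 13417)
 (L 46157)))
 (N (N (L 7969)
 (L 34836))
 (L 19481))))
 (N (N (N (N (L 1806)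
 (L 24688))
 (N (L 12072)
 (L 43016)))
 (N (N (L 6698)
 (L 32537))
 (N (L 17923)
 (L 60783))))
 (N (N (N (L 4161)
 (L 28462))
 (N (L 14887)
 (L 49694)))
 (N (N (L 9279)
 (L 37206))
 (L 21089))))))
 (N (N (N (N (N (N (L 300)
 (L 22541))
 (N (L 10301)
 (L 39230)))
 (N (N (L 5145)
 (L 29802))
 (N (L 15945)
 (L 53011))))
 (N (N (N (L 2631)
 (L 26183))
 (N (L 13118)
 (L 45349)))
 (N (N (L 7685)
 (L 34141))
 (L 19013))))
 (N (N (N (N (L 1389)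
 (L 24343))
 (N (L 11629)
 (L 42256)))
 (N (N (L 6418)
 (L 32017))
 (N (L 17481)
 (L 58925))))
 (N (N (N (L 3878)
 (L 27963))
 (N (L 14446)
 (L 48731)))
 (N (N (L 8980)
 (L 36638))
 (L 20757)))))
 (N (N (N (N (N (L 844)
 (L 23361))
 (N (L 11038)
 (L 40759)))
 (N (N (L 5712)
 (L 30829))
 (N (L 16708)
 (L 55816))))
 (N (N (N (L 3180)
 (L 27144))
 (N (L 13856)
 (L 47136)))
 (N (N (L 8256)
 (L 35386))
 (L 19814))))
 (N (N (N (N (L 2082)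
 (L 25179))
 (N (L 12375)
 (L 43626)))
 (N (N (L 6977)
 (L 33092))
 (N (L 18235)
 (L 63521))))
 (N (N (N (L 4440)
 (L 28961))
 (N (L 15188)
 (L 50538)))
 (N (N (L 9572)
 (L 37915))
 (L 21568)))))))
 (N (N (N (N (N (N (N (L 93)
 (L 22299))
 (N (L 10086)
 (L 38924)))
 (N (N (L 4930)
 (L 29546))
 (N (L 15714)
 (L 52312))))
 (N (N (N (L 2565)
 (L 25928))
 (N (L 12902)
 (L 44889)))
 (N (N (L 7470)
 (L 33886))
 (L 18778))))
 (N (N (N (N (L 1323)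
 (L 24097))
 (N (L 11555)
 (L 41817)))
 (N (N (L 6206)
 (L 31757))
 (N (L 17253)
 (L 57964))))
 (N (N (N (L 3666)
 (L 27723))
 (N (L 14369)
 (L 48392)))
 (N (N (L 8766)
 (L 36353))
 (L 20523)))))
 (N (N (N (N (N (L 780)
 (L 23121))
 (N (L 10817)
 (L 40302)))
 (N (N (L 5641)
 (L 30723))
 (N (L 16480)
 (L 55051))))
 (N (N (N (L 3114)
 (L 26912))
 (N (L 13637)
 (L 46648)))
 (N (N (L 8044)
 (L 35119))
 (L 19726))))
 (N (N (N (N (L 1872)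
 (L 24928))
 (N (L 12295)
 (L 43311)))
 (N (N (L 6766)
 (L 32812))
 (N (L 18007)
 (L 62017))))
 (N (N (N (L 4372)
 (L 28709))
 (N (L 15107)
 (L 50179)))
 (N (N (L 9498)
 (L 37483))
 (L 21327))))))
 (N (N (N (N (N (N (L 364)
 (L 22786))
 (N (L 10520)
 (L 39526)))
 (N (N (L 5214)
 (L 30063))
 (N (L 16177)
 (L 53583))))
 (N (N (N (L 2840)
 (L 26422))
 (N (L 13343)
 (L 45659)))
 (N (N (L 7760)
 (L 34572))
 (L 19250))))
 (N (N (N (N (L 1598)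
 (L 24590))
 (N (L 11853)
 (L 42575)))
 (N (N (L 6487)
 (L 32274))
 (N (L 17700)
 (L 59737))))
 (N (N (N (L 3948)
 (L 28214))
 (N (L 14667)
 (L 49191)))
 (N (N (L 9057)
 (L 36916))
 (L 20847)))))
 (N (N (N (N (N (L 1052)
 (L 23611))
 (N (L 11116)
 (L 41070)))
 (N (N (L 5924)
 (L 31237))
 (N (L 16932)
 (L 56598))))
 (N (N (N (L 3389)
 (L 27243))
 (N (L 13931)
 (L 47457)))
 (N (N (L 8474)
 (L 35657))
 (L 20052))))
 (N (N (N (N (L 2147)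
 (L 25439))
 (N (L 12593)
 (L 44085)))
 (N (N (L 7188)
 (L 33360))
 (N (L 18466)
 (L 65304))))
 (N (N (N (L 4648)
 (L 29202))
 (N (L 15410)
 (L 51209)))
 (N (N (L 9790)
 (L 38203))
 (L 21819))))))))
 (N (N (N (N (N (N (N (N (L 61)
 (L 22101))
 (N (L 10048)
 (L 38700)))
 (N (N (L 4896)
 (L 29501))
 (N (L 15675)
 (L 52049))))
 (N (N (N (L 2390)
 (L 25874))
 (N (L 12859)
 (L 44815)))
 (N (N (L 7435)
 (L 33825))
 (L 18736))))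
 (N (N (N (N (L 1291)
 (L 23908))
 (N (L 11371)
 (L 41740)))
 (N (N (L 6173)
 (L 31551))
 (N (L 17208)
 (L 57642))))
 (N (N (N (L 3631)
 (L 27675))
 (N (L 14186)
 (L 48149)))
 (N (N (L 8723)
 (L 36147))
 (L 20333)))))
 (N (N (N (N (N (L 604)
 (L 23071))
 (N (L 10777)
 (L 40205)))
 (N (N (L 5464)
 (L 30527))
 (N (L 16439)
 (L 54624))))
 (N (N (N (L 3081)
 (L 26717))
 (N (L 13597)
 (L 46391)))
 (N (N (L 8008)
 (L 34906))
 (L 19531))))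
 (N (N (N (N (L 1839)
 (L 24873))
 (N (L 12114)
 (L 43099)))
 (N (N (L 6732)
 (L 32599))
 (N (L 17964)
 (L 61519))))
 (N (N (N (L 4195)
 (L 28511))
 (N (L 14927)
 (L 49959)))
 (N (N (L 9316)
 (L 37411))
 (L 21275))))))
 (N (N (N (N (N (N (L 332)
 (L 22589))
 (N (L 10343)
 (L 39443)))
 (N (N (L 5180)
 (L 30010))
 (N (L 16131)
 (L 53304))))
 (N (N (N (L 2664)
 (L 26374))
 (N (L 13164)
 (L 45580)))
 (N (N (L 7722)
 (L 34367))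
 (L 19205))))
 (N (N (N (N (L 1565)
 (L 24396))
 (N (L 11814)
 (L 42345)))
 (N (N (L 6453)
 (L 32080))
 (N (L 17519)
 (L 59423))))
 (N (N (N (L 3915)
 (L 28160))
 (N (L 14629)
 (L 48957)))
 (N (N (L 9022)
 (L 36697))
 (L 20804)))))
 (N (N (N (N (N (L 876)
 (L 23553))
 (N (L 11077)
 (L 40981)))
 (N (N (L 5888)
 (L 31036))
 (N (L 16749)
 (L 56146))))
 (N (N (N (L 3356)
 (L 27186))
 (N (L 13895)
 (L 47212)))
 (N (N (L 8295)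
 (L 35590))
 (L 20008))))
 (N (N (N (N (L 2115)
 (L 25378))
 (N (L 12555)
 (L 43852)))
 (N (N (L 7011)
 (L 33301))
 (N (L 18277)
 (L 64307))))
 (N (N (N (L 4616)
 (L 29007))
 (N (L 15367)
 (L 50950)))
 (N (N (L 9752)
 (L 37988))
 (L 21768)))))))
 (N (N (N (N (N (N (N (L 268)
 (L 22349))
 (N (L 10263)
 (L 39010)))
 (N (N (L 4967)
 (L 29754))
 (N (L 15902)
 (L 52570))))
 (N (N (N (L 2598)
 (L 26123))
 (N (L 13082)
 (L 45132)))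
 (N (N (L 7506)
 (L 34082))
 (L 18964))))
 (N (N (N (N (L 1356)
 (L 24150))
 (N (L 11591)
 (L 42048)))
 (N (N (L 6239)
 (L 31818))
 (N (L 17437)
 (L 58439))))
 (N (N (N (L 3843)
 (L 27918))
 (N (L 14405)
 (L 48483)))
 (N (N (L 8799)
 (L 36421))
 (L 20569)))))
 (N (N (N (N (N (L 812)
 (L 23309))
 (N (L 10856)
 (L 40526)))
 (N (N (L 5676)
 (L 30776))
 (N (L 16661)
 (L 55359))))
 (N (N (N (L 3147)
 (L 26955))
 (N (L 13675)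
 (L 46884)))
 (N (N (L 8221)
 (L 35172))
 (L 19771))))
 (N (N (N (N (L 2048)
 (L 25123))
 (N (L 12333)
 (L 43544)))
 (N (N (L 6945)
 (L 32878))
 (N (L 18189)
 (L 62796))))
 (N (N (N (L 4405)
 (L 28759))
 (N (L 15150)
 (L 50278)))
 (N (N (L 9537)
 (L 37696))
 (L 21523))))))
 (N (N (N (N (N (N (L 539)
 (L 22845))
 (N (L 10558)
 (L 39753)))
 (N (N (L 5392)
 (L 30266))
 (N (L 16214)
 (L 53872))))
 (N (N (N (L 2873)
 (L 26474))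
 (N (L 13378)
 (L 45923)))
 (N (N (L 7936)
 (L 34642))
 (L 19290))))
 (N (N (N (N (L 1631)
 (L 24641))
 (N (L 12033)
 (L 42797)))
 (N (N (L 6665)
 (L 32341))
 (N (L 17742)
 (L 60222))))
 (N (N (N (L 4126)
 (L 28264))
 (N (L 14848)
 (L 49457)))
 (N (N (L 9242)
 (L 37126))
 (L 21031)))))
 (N (N (N (N (N (L 1084)
 (L 23659))
 (N (L 11295)
 (L 41286)))
 (N (N (L 5959)
 (L 31300))
 (N (L 16974)
 (L 56893))))
 (N (N (N (L 3424)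
 (L 27433))
 (N (L 14111)
 (L 47701)))
 (N (N (L 8508)
 (L 35860))
 (L 20239))))
 (N (N (N (N (L 2323)
 (L 25631))
 (N (L 12635)
 (L 44334)))
 (N (N (L 7222)
 (L 33568))
 (N (L 18507)
 (L 66348))))
 (N (N (N (L 4685)
 (L 29254))
 (N (L 15447)
 (L 51457)))
 (N (N (L 9829)
 (L 38417))
 (L 21870))))))))))))
 (N (N (N (N (N (N (N (N (N (N (N (N (L 3)
 (L 22021))
 (N (L 9835)
 (L 38435)))
 (N (N (L 4692)
 (L 29261))
 (N (L 15454)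
 (L 51492))))
 (N (N (N (L 2330)
 (L 25640))
 (N (L 12646)
 (L 44355)))
 (N (N (L 7228)
 (L 33575))
 (N (L 18513)
 (L 66407)))))
 (N (N (N (N (L 1090)
 (L 23809))
 (N (L 11302)
 (L 41303)))
 (N (N (L 5965)
 (L 31307))
 (N (L 16981)
 (L 56909))))
 (N (N (N (L 3430)
 (L 27443))
 (N (L 14117)
 (L 47720)))
 (N (N (L 8516)
 (L 35876))
 (L 20248)))))
 (N (N (N (N (N (L 545)
 (L 22853))
 (N (L 10564)
 (L 39775)))
 (N (N (L 5398)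
 (L 30276))
 (N (L 16221)
 (L 54046))))
 (N (N (N (L 2879)
 (L 26625))
 (N (L 13386)
 (L 46085)))
 (N (N (L 7943)
 (L 34656))
 (L 19297))))
 (N (N (N (N (L 1637)
 (L 24651))
 (N (L 12041)
 (L 42810)))
 (N (N (L 6671)
 (L 32352))
 (N (L 17749)
 (L 60272))))
 (N (N (N (L 4132)
 (L 28419))
 (N (L 14857)
 (L 49471)))
 (N (N (L 9249)
 (L 37137))
 (L 21042))))))
 (N (N (N (N (N (N (L 274)
 (L 22360))
 (N (L 10269)
 (L 39170)))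
 (N (N (L 4973)
 (L 29761))
 (N (L 15910)
 (L 52745))))
 (N (N (N (L 2604)
 (L 26130))
 (N (L 13089)
 (L 45140)))
 (N (N (L 7512)
 (L 34092))
 (L 18977))))
 (N (N (N (N (L 1362)
 (L 24160))
 (N (L 11599)
 (L 42060)))
 (N (N (L 6246)
 (L 31831))
 (N (L 17444)
 (L 58468))))
 (N (N (N (L 3850)
 (L 27931))
 (N (L 14412)
 (L 48649)))
 (N (N (L 8807)
 (L 36436))
 (L 20581)))))
 (N (N (N (N (N (L 818)
 (L 23319))
 (N (L 10863)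
 (L 40541)))
 (N (N (L 5682)
 (L 30787))
 (N (L 16670)
 (L 55376))))
 (N (N (N (L 3153)
 (L 26965))
 (N (L 13826)
 (L 46902)))
 (N (N (L 8227)
 (L 35182))
 (L 19780))))
 (N (N (N (N (L 2056)
 (L 25133))
 (N (L 12340)
 (L 43565)))
 (N (N (L 6951)
 (L 33033))
 (N (L 18198)
 (L 62989))))
 (N (N (N (L 4412)
 (L 28770))
 (N (L 15156)
 (L 50443)))
 (N (N (L 9543)
 (L 37706))
 (L 21530)))))))
 (N (N (N (N (N (N (N (L 67)
 (L 22110))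
 (N (L 10055)
 (L 38715)))
 (N (N (L 4902)
 (L 29512))
 (N (L 15684)
 (L 52071))))
 (N (N (N (L 2396)
 (L 25884))
 (N (L 12867)
 (L 44829)))
 (N (N (L 7441)
 (L 33831))
 (L 18743))))
 (N (N (N (N (L 1297)
 (L 23916))
 (N (L 11520)
 (L 41754)))
 (N (N (L 6179)
 (L 31561))
 (N (L 17217)
 (L 57673))))
 (N (N (N (L 3638)
 (L 27682))
 (N (L 14337)
 (L 48164)))
 (N (N (L 8731)
 (L 36159))
 (L 20487)))))
 (N (N (N (N (N (L 610)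
 (L 23082))
 (N (L 10784)
 (L 40217)))
 (N (N (L 5471)
 (L 30537))
 (N (L 16447)
 (L 54795))))
 (N (N (N (L 3087)
 (L 26725))
 (N (L 13603)
 (L 46412)))
 (N (N (L 8014)
 (L 34920))
 (L 19540))))
 (N (N (N (N (L 1845)
 (L 24881))
 (N (L 12121)
 (L 43115)))
 (N (N (L 6738)
 (L 32614))
 (N (L 17973)
 (L 61709))))
 (N (N (N (L 4201)
 (L 28519))
 (N (L 14933)
 (L 49971)))
 (N (N (L 9322)
 (L 37424))
 (L 21286))))))
 (N (N (N (N (N (N (L 338)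
 (L 22598))
 (N (L 10349)
 (L 39455)))
 (N (N (L 5187)
 (L 30021))
 (N (L 16138)
 (L 53326))))
 (N (N (N (L 2670)
 (L 26382))
 (N (L 13313)
 (L 45590)))
 (N (N (L 7731)
 (L 34380))
 (L 19213))))
 (N (N (N (N (L 1571)
 (L 24406))
 (N (L 11821)
 (L 42502)))
 (N (N (L 6460)
 (L 32093))
 (N (L 17671)
 (L 59452))))
 (N (N (N (L 3921)
 (L 28171))
 (N (L 14638)
 (L 48977)))
 (N (N (L 9028)
 (L 36704))
 (L 20811)))))
 (N (N (N (N (N (L 1025)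
 (L 23562))
 (N (L 11085)
 (L 41000)))
 (N (N (L 5895)
 (L 31045))
 (N (L 16899)
 (L 56163))))
 (N (N (N (L 3362)
 (L 27192))
 (N (L 13901)
 (L 47374)))
 (N (N (L 8302)
 (L 35599))
 (L 20017))))
 (N (N (N (N (L 2121)
 (L 25387))
 (N (L 12562)
 (L 43867)))
 (N (N (L 7017)
 (L 33313))
 (N (L 18284)
 (L 64344))))
 (N (N (N (L 4622)
 (L 29016))
 (N (L 15374)
 (L 50980)))
 (N (N (L 9759)
 (L 38147))
 (L 21778))))))))
 (N (N (N (N (N (N (N (N (L 35)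
 (L 22062))
 (N (L 10016)
 (L 38504)))
 (N (N (L 4869)
 (L 29459))
 (N (L 15643)
 (L 51786))))
 (N (N (N (L 2362)
 (L 25688))
 (N (L 12828)
 (L 44597)))
 (N (N (L 7265)
 (L 33636))
 (N (L 18695)
 (L 68951)))))
 (N (N (N (N (L 1122)
 (L 23862))
 (N (L 11341)
 (L 41523)))
 (N (N (L 6000)
 (L 31508))
 (N (L 17170)
 (L 57353))))
 (N (N (N (L 3605)
 (L 27492))
 (N (L 14157)
 (L 47940)))
 (N (N (L 8550)
 (L 35943))
 (L 20294)))))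
 (N (N (N (N (N (L 577)
 (L 22894))
 (N (L 10606)
 (L 39995)))
 (N (N (L 5434)
 (L 30477))
 (N (L 16404)
 (L 54353))))
 (N (N (N (L 2911)
 (L 26679))
 (N (L 13423)
 (L 46174)))
 (N (N (L 7975)
 (L 34849))
 (L 19492))))
 (N (N (N (N (L 1812)
 (L 24840))
 (N (L 12079)
 (L 43023)))
 (N (N (L 6705)
 (L 32548))
 (N (L 17931)
 (L 60994))))
 (N (N (N (L 4167)
 (L 28468))
 (N (L 14895)
 (L 49736)))
 (N (N (L 9285)
 (L 37214))
 (L 21097))))))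
 (N (N (N (N (N (N (L 306)
 (L 22547))
 (N (L 10307)
 (L 39244)))
 (N (N (L 5151)
 (L 29961))
 (N (L 15956)
 (L 53041))))
 (N (N (N (L 2637)
 (L 26190))
 (N (L 13127)
 (L 45366)))
 (N (N (L 7693)
 (L 34155))
 (L 19022))))
 (N (N (N (N (L 1538)
 (L 24351))
 (N (L 11781)
 (L 42270)))
 (N (N (L 6424)
 (L 32026))
 (N (L 17488)
 (L 58942))))
 (N (N (N (L 3887)
 (L 27980))
 (N (L 14597)
 (L 48746)))
 (N (N (L 8988)
 (L 36650))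
 (L 20767)))))
 (N (N (N (N (N (L 850)
 (L 23371))
 (N (L 11045)
 (L 40770)))
 (N (N (L 5719)
 (L 30982))
 (N (L 16716)
 (L 55844))))
 (N (N (N (L 3329)
 (L 27154))
 (N (L 13863)
 (L 47158)))
 (N (N (L 8267)
 (L 35397))
 (L 19821))))
 (N (N (N (N (L 2088)
 (L 25194))
 (N (L 12382)
 (L 43789)))
 (N (N (L 6984)
 (L 33102))
 (N (L 18245)
 (L 63565))))
 (N (N (N (L 4446)
 (L 28968))
 (N (L 15196)
 (L 50725)))
 (N (N (L 9579)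
 (L 37929))
 (L 21583)))))))
 (N (N (N (N (N (N (N (L 99)
 (L 22309))
 (N (L 10092)
 (L 38935)))
 (N (N (L 4938)
 (L 29700))
 (N (L 15724)
 (L 52481))))
 (N (N (N (L 2571)
 (L 25934))
 (N (L 12908)
 (L 44906)))
 (N (N (L 7477)
 (L 33897))
 (L 18787))))
 (N (N (N (N (L 1329)
 (L 24109))
 (N (L 11561)
 (L 41836)))
 (N (N (L 6212)
 (L 31765))
 (N (L 17260)
 (L 58123))))
 (N (N (N (L 3672)
 (L 27734))
 (N (L 14375)
 (L 48413)))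
 (N (N (L 8772)
 (L 36366))
 (L 20531)))))
 (N (N (N (N (N (L 786)
 (L 23131))
 (N (L 10825)
 (L 40468)))
 (N (N (L 5647)
 (L 30730))
 (N (L 16486)
 (L 55065))))
 (N (N (N (L 3120)
 (L 26918))
 (N (L 13643)
 (L 46669)))
 (N (N (L 8193)
 (L 35128))
 (L 19734))))
 (N (N (N (N (L 1879)
 (L 24941))
 (N (L 12301)
 (L 43327)))
 (N (N (L 6917)
 (L 32823))
 (N (L 18014)
 (L 62061))))
 (N (N (N (L 4378)
 (L 28723))
 (N (L 15113)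
 (L 50206)))
 (N (N (L 9506)
 (L 37643))
 (L 21341))))))
 (N (N (N (N (N (N (L 513)
 (L 22798))
 (N (L 10526)
 (L 39686)))
 (N (N (L 5221)
 (L 30218))
 (N (L 16183)
 (L 53600))))
 (N (N (N (L 2846)
 (L 26431))
 (N (L 13349)
 (L 45825)))
 (N (N (L 7766)
 (L 34587))
 (L 19258))))
 (N (N (N (N (L 1604)
 (L 24598))
 (N (L 11860)
 (L 42586)))
 (N (N (L 6494)
 (L 32284))
 (N (L 17706)
 (L 59907))))
 (N (N (N (L 4097)
 (L 28223))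
 (N (L 14675)
 (L 49208)))
 (N (N (L 9064)
 (L 36930))
 (L 20998)))))
 (N (N (N (N (N (L 1058)
 (L 23623))
 (N (L 11268)
 (L 41227)))
 (N (N (L 5930)
 (L 31247))
 (N (L 16938)
 (L 56620))))
 (N (N (N (L 3397)
 (L 27398))
 (N (L 14080)
 (L 47617)))
 (N (N (L 8480)
 (L 35673))
 (L 20059))))
 (N (N (N (N (L 2153)
 (L 25449))
 (N (L 12603)
 (L 44104)))
 (N (N (L 7196)
 (L 33372))
 (N (L 18473)
 (L 65377))))
 (N (N (N (L 4656)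
 (L 29215))
 (N (L 15417)
 (L 51233)))
 (N (N (L 9796)
 (L 38213))
 (L 21828)))))))))
 (N (N (N (N (N (N (N (N (N (L 19)
 (L 22038))
 (N (L 9997)
 (L 38462)))
 (N (N (L 4709)
 (L 29288))
 (N (L 15619)
 (L 51733))))
 (N (N (N (L 2346)
 (L 25664))
 (N (L 12808)
 (L 44553)))
 (N (N (L 7246)
 (L 33611))
 (N (L 18531)
 (L 67381)))))
 (N (N (N (N (L 1106)
 (L 23837))
 (N (L 11322)
 (L 41479)))
 (N (N (L 5983)
 (L 31336))
 (N (L 17006)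
 (L 57134))))
 (N (N (N (L 3589)
 (L 27471))
 (N (L 14136)
 (L 47896)))
 (N (N (L 8533)
 (L 35910))
 (L 20273)))))
 (N (N (N (N (N (L 561)
 (L 22874))
 (N (L 10587)
 (L 39955)))
 (N (N (L 5417)
 (L 30303))
 (N (L 16240)
 (L 54128))))
 (N (N (N (L 2895)
 (L 26653))
 (N (L 13405)
 (L 46129)))
 (N (N (L 7959)
 (L 34818))
 (L 19466))))
 (N (N (N (N (L 1796)
 (L 24677))
 (N (L 12059)
 (L 42848)))
 (N (N (L 6688)
 (L 32516))
 (N (L 17768)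
 (L 60693))))
 (N (N (N (L 4151)
 (L 28448))
 (N (L 14876)
 (L 49519)))
 (N (N (L 9268)
 (L 37185))
 (L 21070))))))
 (N (N (N (N (N (N (L 290)
 (L 22379))
 (N (L 10289)
 (L 39207)))
 (N (N (L 5135)
 (L 29787))
 (N (L 15930)
 (L 52833))))
 (N (N (N (L 2621)
 (L 26161))
 (N (L 13107)
 (L 45324)))
 (N (N (L 7530)
 (L 34117))
 (L 19002))))
 (N (N (N (N (L 1379)
 (L 24329))
 (N (L 11618)
 (L 42092)))
 (N (N (L 6407)
 (L 31856))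
 (N (L 17466)
 (L 58714))))
 (N (N (N (L 3868)
 (L 27952))
 (N (L 14434)
 (L 48693)))
 (N (N (L 8969)
 (L 36615))
 (L 20743)))))
 (N (N (N (N (N (L 834)
 (L 23344))
 (N (L 11026)
 (L 40729)))
 (N (N (L 5702)
 (L 30815))
 (N (L 16694)
 (L 55630))))
 (N (N (N (L 3170)
 (L 26987))
 (N (L 13844)
 (L 46951)))
 (N (N (L 8245)
 (L 35362))
 (L 19800))))
 (N (N (N (N (L 2072)
 (L 25161))
 (N (L 12361)
 (L 43606)))
 (N (N (L 6967)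
 (L 33059))
 (N (L 18220)
 (L 63261))))
 (N (N (N (L 4429)
 (L 28943))
 (N (L 15176)
 (L 50509)))
 (N (N (L 9561)
 (L 37740))
 (L 21553)))))))
 (N (N (N (N (N (N (N (L 83)
 (L 22282))
 (N (L 10075)
 (L 38760)))
 (N (N (L 4920)
 (L 29533))
 (N (L 15701)
 (L 52287))))
 (N (N (N (L 2412)
 (L 25908))
 (N (L 12890)
 (L 44865)))
 (N (N (L 7460)
 (L 33869))
 (L 18762))))
 (N (N (N (N (L 1313)
 (L 24081))
 (N (L 11541)
 (L 41801)))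
 (N (N (L 6195)
 (L 31592))
 (N (L 17239)
 (L 57920))))
 (N (N (N (L 3656)
 (L 27707))
 (N (L 14356)
 (L 48211)))
 (N (N (L 8754)
 (L 36188))
 (L 20512)))))
 (N (N (N (N (N (L 769)
 (L 23107))
 (N (L 10803)
 (L 40266)))
 (N (N (L 5487)
 (L 30562))
 (N (L 16466)
 (L 54874))))
 (N (N (N (L 3104)
 (L 26893))
 (N (L 13622)
 (L 46621)))
 (N (N (L 8033)
 (L 35102))
 (L 19564))))
 (N (N (N (N (L 1861)
 (L 24914))
 (N (L 12140)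
 (L 43286)))
 (N (N (L 6755)
 (L 32795))
 (N (L 17995)
 (L 61967))))
 (N (N (N (L 4361)
 (L 28691))
 (N (L 14951)
 (L 50017)))
 (N (N (L 9484)
 (L 37459))
 (L 21312))))))
 (N (N (N (N (N (N (L 354)
 (L 22625))
 (N (L 10509)
 (L 39491)))
 (N (N (L 5204)
 (L 30042))
 (N (L 16160)
 (L 53534))))
 (N (N (N (L 2829)
 (L 26405))
 (N (L 13332)
 (L 45628)))
 (N (N (L 7749)
 (L 34410))
 (L 19235))))
 (N (N (N (N (L 1588)
 (L 24577))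
 (N (L 11842)
 (L 42536)))
 (N (N (L 6477)
 (L 32257))
 (N (L 17689)
 (L 59680))))
 (N (N (N (L 3937)
 (L 28200))
 (N (L 14656)
 (L 49171)))
 (N (N (L 9046)
 (L 36892))
 (L 20834)))))
 (N (N (N (N (N (L 1042)
 (L 23590))
 (N (L 11105)
 (L 41046)))
 (N (N (L 5912)
 (L 31072))
 (N (L 16920)
 (L 56408))))
 (N (N (N (L 3379)
 (L 27228))
 (N (L 13919)
 (L 47417)))
 (N (N (L 8461)
 (L 35638))
 (L 20039))))
 (N (N (N (N (L 2137)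
 (L 25419))
 (N (L 12581)
 (L 44056)))
 (N (N (L 7177)
 (L 33345))
 (N (L 18450)
 (L 65029))))
 (N (N (N (L 4638)
 (L 29040))
 (N (L 15396)
 (L 51027)))
 (N (N (L 9778)
 (L 38179))
 (L 21803))))))))
 (N (N (N (N (N (N (N (N (L 51)
 (L 22083))
 (N (L 10035)
 (L 38677)))
 (N (N (L 4886)
 (L 29486))
 (N (L 15664)
 (L 52021))))
 (N (N (N (L 2379)
 (L 25861))
 (N (L 12848)
 (L 44648)))
 (N (N (L 7424)
 (L 33803))
 (L 18720))))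
 (N (N (N (N (L 1281)
 (L 23888))
 (N (L 11361)
 (L 41570)))
 (N (N (L 6162)
 (L 31538))
 (N (L 17191)
 (L 57454))))
 (N (N (N (L 3621)
 (L 27662))
 (N (L 14175)
 (L 47982)))
 (N (N (L 8712)
 (L 36126))
 (L 20318)))))
 (N (N (N (N (N (L 594)
 (L 23059))
 (N (L 10767)
 (L 40035)))
 (N (N (L 5452)
 (L 30503))
 (N (L 16424)
 (L 54572))))
 (N (N (N (L 2927)
 (L 26704))
 (N (L 13586)
 (L 46367)))
 (N (N (L 7995)
 (L 34883))
 (L 19516))))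
 (N (N (N (N (L 1828)
 (L 24860))
 (N (L 12098)
 (L 43069)))
 (N (N (L 6721)
 (L 32580))
 (N (L 17952)
 (L 61286))))
 (N (N (N (L 4184)
 (L 28493))
 (N (L 14913)
 (L 49924)))
 (N (N (L 9304)
 (L 37392))
 (L 21262))))))
 (N (N (N (N (N (N (L 322)
 (L 22574))
 (N (L 10331)
 (L 39428)))
 (N (N (L 5169)
 (L 29996))
 (N (L 15974)
 (L 53262))))
 (N (N (N (L 2654)
 (L 26216))
 (N (L 13150)
 (L 45408)))
 (N (N (L 7711)
 (L 34339))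
 (L 19044))))
 (N (N (N (N (L 1555)
 (L 24374))
 (N (L 11800)
 (L 42315)))
 (N (N (L 6442)
 (L 32063))
 (N (L 17507)
 (L 59203))))
 (N (N (N (L 3904)
 (L 28003))
 (N (L 14619)
 (L 48936)))
 (N (N (L 9009)
 (L 36676))
 (L 20787)))))
 (N (N (N (N (N (L 866)
 (L 23395))
 (N (L 11066)
 (L 40812)))
 (N (N (L 5735)
 (L 31015))
 (N (L 16738)
 (L 56075))))
 (N (N (N (L 3346)
 (L 27174))
 (N (L 13880)
 (L 47196)))
 (N (N (L 8285)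
 (L 35431))
 (L 19986))))
 (N (N (N (N (L 2104)
 (L 25359))
 (N (L 12400)
 (L 43822)))
 (N (N (L 7000)
 (L 33129))
 (N (L 18264)
 (L 63854))))
 (N (N (N (L 4462)
 (L 28989))
 (N (L 15213)
 (L 50770)))
 (N (N (L 9741)
 (L 37959))
 (L 21610)))))))
 (N (N (N (N (N (N (N (L 258)
 (L 22333))
 (N (L 10253)
 (L 38976)))
 (N (N (L 4957)
 (L 29733))
 (N (L 15888)
 (L 52539))))
 (N (N (N (L 2588)
 (L 25964))
 (N (L 13070)
 (L 45091)))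
 (N (N (L 7496)
 (L 34066))
 (L 18952))))
 (N (N (N (N (L 1345)
 (L 24132))
 (N (L 11580)
 (L 42013)))
 (N (N (L 6228)
 (L 31799))
 (N (L 17423)
 (L 58378))))
 (N (N (N (L 3689)
 (L 27760))
 (N (L 14393)
 (L 48454)))
 (N (N (L 8789)
 (L 36400))
 (L 20556)))))
 (N (N (N (N (N (L 802)
 (L 23151))
 (N (L 10845)
 (L 40504)))
 (N (N (L 5665)
 (L 30758))
 (N (L 16649)
 (L 55317))))
 (N (N (N (L 3136)
 (L 26939))
 (N (L 13662)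
 (L 46704)))
 (N (N (L 8211)
 (L 35157))
 (L 19759))))
 (N (N (N (N (L 1895)
 (L 25108))
 (N (L 12320)
 (L 43372)))
 (N (N (L 6934)
 (L 32853))
 (N (L 18177)
 (L 62531))))
 (N (N (N (L 4395)
 (L 28748))
 (N (L 15138)
 (L 50252)))
 (N (N (L 9524)
 (L 37672))
 (L 21507))))))
 (N (N (N (N (N (N (L 529)
 (L 22826))
 (N (L 10545)
 (L 39728)))
 (N (N (L 5382)
 (L 30250))
 (N (L 16202)
 (L 53839))))
 (N (N (N (L 2863)
 (L 26460))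
 (N (L 13367)
 (L 45876)))
 (N (N (L 7783)
 (L 34616))
 (L 19279))))
 (N (N (N (N (L 1621)
 (L 24623))
 (N (L 11879)
 (L 42769)))
 (N (N (L 6511)
 (L 32320))
 (N (L 17726)
 (L 60009))))
 (N (N (N (L 4115)
 (L 28246))
 (N (L 14694)
 (L 49409)))
 (N (N (L 9229)
 (L 36956))
 (L 21016)))))
 (N (N (N (N (N (L 1074)
 (L 23647))
 (N (L 11285)
 (L 41264)))
 (N (N (L 5946)
 (L 31284))
 (N (L 16959)
 (L 56854))))
 (N (N (N (L 3413)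
 (L 27421))
 (N (L 14099)
 (L 47669)))
 (N (N (L 8496)
 (L 35845))
 (L 20080))))
 (N (N (N (N (L 2313)
 (L 25614))
 (N (L 12622)
 (L 44307)))
 (N (N (L 7212)
 (L 33545))
 (N (L 18493)
 (L 65902))))
 (N (N (N (L 4673)
 (L 29239))
 (N (L 15436)
 (L 51284)))
 (N (N (L 9815)
 (L 38248))
 (L 21857))))))))))
 (N (N (N (N (N (N (N (N (N (N (L 11)
 (L 22030))
 (N (L 9989)
 (L 38449)))
 (N (N (L 4701)
 (L 29278))
 (N (L 15463)
 (L 51529))))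
 (N (N (N (L 2338)
 (L 25651))
 (N (L 12654)
 (L 44386)))
 (N (N (L 7237)
 (L 33590))
 (N (L 18523)
 (L 66904)))))
 (N (N (N (N (L 1098)
 (L 23824))
 (N (L 11312)
 (L 41320)))
 (N (N (L 5975)
 (L 31322))
 (N (L 16995)
 (L 57095))))
 (N (N (N (L 3438)
 (L 27459))
 (N (L 14127)
 (L 47877)))
 (N (N (L 8525)
 (L 35896))
 (L 20259)))))
 (N (N (N (N (N (L 553)
 (L 22863))
 (N (L 10575)
 (L 39936)))
 (N (N (L 5407)
 (L 30289))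
 (N (L 16231)
 (L 54094))))
 (N (N (N (L 2887)
 (L 26640))
 (N (L 13395)
 (L 46099)))
 (N (N (L 7951)
 (L 34664))
 (L 19310))))
 (N (N (N (N (L 1645)
 (L 24665))
 (N (L 12050)
 (L 42830)))
 (N (N (L 6680)
 (L 32361))
 (N (L 17760)
 (L 60499))))
 (N (N (N (L 4142)
 (L 28429))
 (N (L 14866)
 (L 49500)))
 (N (N (L 9260)
 (L 37162))
 (L 21055))))))
 (N (N (N (N (N (N (L 282)
 (L 22370))
 (N (L 10277)
 (L 39191)))
 (N (N (L 5126)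
 (L 29774))
 (N (L 15918)
 (L 52776))))
 (N (N (N (L 2612)
 (L 26142))
 (N (L 13098)
 (L 45163)))
 (N (N (L 7521)
 (L 34106))
 (L 18991))))
 (N (N (N (N (L 1371)
 (L 24172))
 (N (L 11608)
 (L 42075)))
 (N (N (L 6254)
 (L 31844))
 (N (L 17452)
 (L 58673))))
 (N (N (N (L 3858)
 (L 27942))
 (N (L 14423)
 (L 48678)))
 (N (N (L 8816)
 (L 36451))
 (L 20590)))))
 (N (N (N (N (N (L 826)
 (L 23331))
 (N (L 11018)
 (L 40711)))
 (N (N (L 5691)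
 (L 30803))
 (N (L 16680)
 (L 55580))))
 (N (N (N (L 3162)
 (L 26975))
 (N (L 13835)
 (L 46932)))
 (N (N (L 8235)
 (L 35339))
 (L 19790))))
 (N (N (N (N (L 2064)
 (L 25144))
 (N (L 12350)
 (L 43587)))
 (N (N (L 6959)
 (L 33044))
 (N (L 18210)
 (L 63051))))
 (N (N (N (L 4420)
 (L 28933))
 (N (L 15165)
 (L 50472)))
 (N (N (L 9553)
 (L 37718))
 (L 21539)))))))
 (N (N (N (N (N (N (N (L 75)
 (L 22125))
 (N (L 10065)
 (L 38731)))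
 (N (N (L 4911)
 (L 29521))
 (N (L 15693)
 (L 52252))))
 (N (N (N (L 2404)
 (L 25896))
 (N (L 12878)
 (L 44847)))
 (N (N (L 7451)
 (L 33853))
 (L 18753))))
 (N (N (N (N (L 1305)
 (L 24070))
 (N (L 11532)
 (L 41779)))
 (N (N (L 6187)
 (L 31578))
 (N (L 17227)
 (L 57870))))
 (N (N (N (L 3646)
 (L 27697))
 (N (L 14346)
 (L 48181)))
 (N (N (L 8742)
 (L 36173))
 (L 20497)))))
 (N (N (N (N (N (L 618)
 (L 23095))
 (N (L 10794)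
 (L 40247)))
 (N (N (L 5479)
 (L 30550))
 (N (L 16456)
 (L 54842))))
 (N (N (N (L 3096)
 (L 26736))
 (N (L 13614)
 (L 46448)))
 (N (N (L 8024)
 (L 35077))
 (L 19551))))
 (N (N (N (N (L 1853)
 (L 24896))
 (N (L 12132)
 (L 43271)))
 (N (N (L 6747)
 (L 32773))
 (N (L 17982)
 (L 61772))))
 (N (N (N (L 4352)
 (L 28677))
 (N (L 14943)
 (L 49995)))
 (N (N (L 9473)
 (L 37440))
 (L 21303))))))
 (N (N (N (N (N (N (L 346)
 (L 22612))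
 (N (L 10501)
 (L 39474)))
 (N (N (L 5196)
 (L 30032))
 (N (L 16148)
 (L 53360))))
 (N (N (N (L 2821)
 (L 26396))
 (N (L 13323)
 (L 45608)))
 (N (N (L 7739)
 (L 34394))
 (L 19225))))
 (N (N (N (N (L 1580)
 (L 24422))
 (N (L 11831)
 (L 42518)))
 (N (N (L 6469)
 (L 32103))
 (N (L 17680)
 (L 59653))))
 (N (N (N (L 3929)
 (L 28190))
 (N (L 14647)
 (L 48988)))
 (N (N (L 9038)
 (L 36871))
 (L 20822)))))
 (N (N (N (N (N (L 1033)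
 (L 23576))
 (N (L 11096)
 (L 41027)))
 (N (N (L 5904)
 (L 31058))
 (N (L 16910)
 (L 56358))))
 (N (N (N (L 3370)
 (L 27211))
 (N (L 13909)
 (L 47391)))
 (N (N (L 8453)
 (L 35617))
 (L 20028))))
 (N (N (N (N (L 2129)
 (L 25404))
 (N (L 12572)
 (L 44045)))
 (N (N (L 7168)
 (L 33332))
 (N (L 18436)
 (L 64608))))
 (N (N (N (L 4630)
 (L 29028))
 (N (L 15386)
 (L 51003)))
 (N (N (L 9768)
 (L 38160))
 (L 21790))))))))
 (N (N (N (N (N (N (N (N (L 43)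
 (L 22071))
 (N (L 10025)
 (L 38665)))
 (N (N (L 4878)
 (L 29476))
 (N (L 15653)
 (L 51969))))
 (N (N (N (L 2370)
 (L 25704))
 (N (L 12837)
 (L 44626)))
 (N (N (L 7273)
 (L 33648))
 (L 18704))))
 (N (N (N (N (L 1130)
 (L 23879))
 (N (L 11352)
 (L 41551)))
 (N (N (L 6152)
 (L 31524))
 (N (L 17180)
 (L 57409))))
 (N (N (N (L 3613)
 (L 27649))
 (N (L 14165)
 (L 47965)))
 (N (N (L 8559)
 (L 36112))
 (L 20305)))))
 (N (N (N (N (N (L 586)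
 (L 23050))
 (N (L 10758)
 (L 40016)))
 (N (N (L 5443)
 (L 30493))
 (N (L 16414)
 (L 54538))))
 (N (N (N (L 2919)
 (L 26690))
 (N (L 13576)
 (L 46347)))
 (N (N (L 7987)
 (L 34861))
 (L 19505))))
 (N (N (N (N (L 1820)
 (L 24848))
 (N (L 12088)
 (L 43046)))
 (N (N (L 6713)
 (L 32566))
 (N (L 17942)
 (L 61204))))
 (N (N (N (L 4176)
 (L 28480))
 (N (L 14904)
 (L 49751)))
 (N (N (L 9294)
 (L 37232))
 (L 21251))))))
 (N (N (N (N (N (N (L 314)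
 (L 22559))
 (N (L 10320)
 (L 39267)))
 (N (N (L 5161)
 (L 29979))
 (N (L 15965)
 (L 53089))))
 (N (N (N (L 2645)
 (L 26204))
 (N (L 13138)
 (L 45390)))
 (N (N (L 7701)
 (L 34317))
 (L 19031))))
 (N (N (N (N (L 1547)
 (L 24363))
 (N (L 11789)
 (L 42289)))
 (N (N (L 6433)
 (L 32041))
 (N (L 17498)
 (L 59147))))
 (N (N (N (L 3895)
 (L 27989))
 (N (L 14607)
 (L 48907)))
 (N (N (L 8997)
 (L 36660))
 (L 20777)))))
 (N (N (N (N (N (L 858)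
 (L 23383))
 (N (L 11056)
 (L 40793)))
 (N (N (L 5727)
 (L 30998))
 (N (L 16728)
 (L 55875))))
 (N (N (N (L 3338)
 (L 27163))
 (N (L 13872)
 (L 47178)))
 (N (N (L 8276)
 (L 35417))
 (L 19975))))
 (N (N (N (N (L 2096)
 (L 25350))
 (N (L 12391)
 (L 43802)))
 (N (N (L 6992)
 (L 33115))
 (N (L 18254)
 (L 63818))))
 (N (N (N (L 4454)
 (L 28979))
 (N (L 15204)
 (L 50747)))
 (N (N (L 9730)
 (L 37941))
 (L 21599)))))))
 (N (N (N (N (N (N (N (L 107)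
 (L 22320))
 (N (L 10244)
 (L 38955)))
 (N (N (L 4948)
 (L 29711))
 (N (L 15878)
 (L 52518))))
 (N (N (N (L 2580)
 (L 25952))
 (N (L 13059)
 (L 45068)))
 (N (N (L 7487)
 (L 34053))
 (L 18799))))
 (N (N (N (N (L 1337)
 (L 24122))
 (N (L 11570)
 (L 41994)))
 (N (N (L 6220)
 (L 31779))
 (N (L 17411)
 (L 58172))))
 (N (N (N (L 3681)
 (L 27747))
 (N (L 14385)
 (L 48435)))
 (N (N (L 8781)
 (L 36380))
 (L 20542)))))
 (N (N (N (N (N (L 794)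
 (L 23143))
 (N (L 10835)
 (L 40486)))
 (N (N (L 5656)
 (L 30744))
 (N (L 16495)
 (L 55117))))
 (N (N (N (L 3128)
 (L 26930))
 (N (L 13653)
 (L 46693)))
 (N (N (L 8202)
 (L 35145))
 (L 19747))))
 (N (N (N (N (L 1887)
 (L 25098))
 (N (L 12310)
 (L 43351)))
 (N (N (L 6925)
 (L 32833))
 (N (L 18023)
 (L 62311))))
 (N (N (N (L 4386)
 (L 28736))
 (N (L 15126)
 (L 50222)))
 (N (N (L 9516)
 (L 37653))
 (L 21354))))))
 (N (N (N (N (N (N (L 521)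
 (L 22812))
 (N (L 10535)
 (L 39714)))
 (N (N (L 5229)
 (L 30238))
 (N (L 16192)
 (L 53787))))
 (N (N (N (L 2854)
 (L 26447))
 (N (L 13357)
 (L 45852)))
 (N (N (L 7775)
 (L 34598))
 (L 19268))))
 (N (N (N (N (L 1613)
 (L 24611))
 (N (L 11871)
 (L 42605)))
 (N (N (L 6502)
 (L 32305))
 (N (L 17716)
 (L 59946))))
 (N (N (N (L 4107)
 (L 28237))
 (N (L 14685)
 (L 49237)))
 (N (N (L 9218)
 (L 36944))
 (L 21008)))))
 (N (N (N (N (N (L 1066)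
 (L 23631))
 (N (L 11277)
 (L 41240)))
 (N (N (L 5938)
 (L 31271))
 (N (L 16950)
 (L 56662))))
 (N (N (N (L 3405)
 (L 27410))
 (N (L 14089)
 (L 47640)))
 (N (N (L 8488)
 (L 35691))
 (L 20070))))
 (N (N (N (N (L 2304)
 (L 25600))
 (N (L 12614)
 (L 44128)))
 (N (N (L 7204)
 (L 33386))
 (N (L 18482)
 (L 65639))))
 (N (N (N (L 4664)
 (L 29229))
 (N (L 15428)
 (L 51263)))
 (N (N (L 9806)
 (L 38231))
 (L 21843)))))))))
 (N (N (N (N (N (N (N (N (N (L 27)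
 (L 22050))
 (N (L 10008)
 (L 38487)))
 (N (N (L 4717)
 (L 29445))
 (N (L 15631)
 (L 51752))))
 (N (N (N (L 2354)
 (L 25677))
 (N (L 12818)
 (L 44572)))
 (N (N (L 7256)
 (L 33622))
 (N (L 18540)
 (L 67940)))))
 (N (N (N (N (L 1114)
 (L 23849))
 (N (L 11331)
 (L 41499)))
 (N (N (L 5992)
 (L 31493))
 (N (L 17162)
 (L 57171))))
 (N (N (N (L 3597)
 (L 27483))
 (N (L 14145)
 (L 47911)))
 (N (N (L 8542)
 (L 35924))
 (L 20283)))))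
 (N (N (N (N (N (L 569)
 (L 22884))
 (N (L 10598)
 (L 39974)))
 (N (N (L 5425)
 (L 30316))
 (N (L 16393)
 (L 54316))))
 (N (N (N (L 2903)
 (L 26663))
 (N (L 13415)
 (L 46155)))
 (N (N (L 7967)
 (L 34833))
 (L 19477))))
 (N (N (N (N (L 1804)
 (L 24686))
 (N (L 12069)
 (L 43014)))
 (N (N (L 6696)
 (L 32534))
 (N (L 17921)
 (L 60762))))
 (N (N (N (L 4159)
 (L 28460))
 (N (L 14885)
 (L 49685)))
 (N (N (L 9277)
 (L 37196))
 (L 21087))))))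
 (N (N (N (N (N (N (L 298)
 (L 22539))
 (N (L 10299)
 (L 39227)))
 (N (N (L 5143)
 (L 29799))
 (N (L 15942)
 (L 53001))))
 (N (N (N (L 2629)
 (L 26177))
 (N (L 13116)
 (L 45341)))
 (N (N (L 7683)
 (L 34139))
 (L 19011))))
 (N (N (N (N (L 1387)
 (L 24341))
 (N (L 11627)
 (L 42252)))
 (N (N (L 6415)
 (L 32015))
 (N (L 17477)
 (L 58913))))
 (N (N (N (L 3876)
 (L 27961))
 (N (L 14444)
 (L 48720)))
 (N (N (L 8977)
 (L 36636))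
 (L 20754)))))
 (N (N (N (N (N (L 842)
 (L 23357))
 (N (L 11036)
 (L 40753)))
 (N (N (L 5710)
 (L 30826))
 (N (L 16705)
 (L 55657))))
 (N (N (N (L 3178)
 (L 27141))
 (N (L 13854)
 (L 47128)))
 (N (N (L 8254)
 (L 35379))
 (L 19811))))
 (N (N (N (N (L 2080)
 (L 25177))
 (N (L 12372)
 (L 43622)))
 (N (N (L 6975)
 (L 33082))
 (N (L 18232)
 (L 63504))))
 (N (N (N (L 4438)
 (L 28956))
 (N (L 15185)
 (L 50533)))
 (N (N (L 9569)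
 (L 37909))
 (L 21565)))))))
 (N (N (N (N (N (N (N (L 91)
 (L 22294))
 (N (L 10084)
 (L 38921)))
 (N (N (L 4928)
 (L 29543))
 (N (L 15712)
 (L 52305))))
 (N (N (N (L 2563)
 (L 25921))
 (N (L 12900)
 (L 44886)))
 (N (N (L 7468)
 (L 33883))
 (L 18776))))
 (N (N (N (N (L 1321)
 (L 24094))
 (N (L 11551)
 (L 41810)))
 (N (N (L 6204)
 (L 31750))
 (N (L 17251)
 (L 57951))))
 (N (N (N (L 3664)
 (L 27719))
 (N (L 14367)
 (L 48238)))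
 (N (N (L 8763)
 (L 36204))
 (L 20521)))))
 (N (N (N (N (N (L 778)
 (L 23119))
 (N (L 10813)
 (L 40294)))
 (N (N (L 5639)
 (L 30720))
 (N (L 16478)
 (L 55049))))
 (N (N (N (L 3112)
 (L 26907))
 (N (L 13635)
 (L 46643)))
 (N (N (L 8041)
 (L 35116))
 (L 19724))))
 (N (N (N (N (L 1870)
 (L 24926))
 (N (L 12293)
 (L 43304)))
 (N (N (L 6764)
 (L 32808))
 (N (L 18005)
 (L 62005))))
 (N (N (N (L 4369)
 (L 28705))
 (N (L 15104)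
 (L 50030)))
 (N (N (L 9492)
 (L 37480))
 (L 21324))))))
 (N (N (N (N (N (N (L 362)
 (L 22638))
 (N (L 10518)
 (L 39517)))
 (N (N (L 5212)
 (L 30058))
 (N (L 16170)
 (L 53573))))
 (N (N (N (L 2838)
 (L 26420))
 (N (L 13341)
 (L 45654)))
 (N (N (L 7758)
 (L 34567))
 (L 19248))))
 (N (N (N (N (L 1596)
 (L 24588))
 (N (L 11851)
 (L 42571)))
 (N (N (L 6485)
 (L 32271))
 (N (L 17698)
 (L 59731))))
 (N (N (N (L 3946)
 (L 28212))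
 (N (L 14665)
 (L 49189)))
 (N (N (L 9055)
 (L 36911))
 (L 20845)))))
 (N (N (N (N (N (L 1050)
 (L 23607))
 (N (L 11114)
 (L 41067)))
 (N (N (L 5921)
 (L 31233))
 (N (L 16929)
 (L 56582))))
 (N (N (N (L 3387)
 (L 27240))
 (N (L 13929)
 (L 47446)))
 (N (N (L 8471)
 (L 35651))
 (L 20050))))
 (N (N (N (N (L 2145)
 (L 25434))
 (N (L 12590)
 (L 44080)))
 (N (N (L 7186)
 (L 33358))
 (N (L 18463)
 (L 65296))))
 (N (N (N (L 4646)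
 (L 29197))
 (N (L 15406)
 (L 51201)))
 (N (N (L 9788)
 (L 38197))
 (L 21816))))))))
 (N (N (N (N (N (N (N (N (L 59)
 (L 22099))
 (N (L 10044)
 (L 38695)))
 (N (N (L 4894)
 (L 29498))
 (N (L 15673)
 (L 52041))))
 (N (N (N (L 2388)
 (L 25871))
 (N (L 12856)
 (L 44812)))
 (N (N (L 7433)
 (L 33823))
 (L 18733))))
 (N (N (N (N (L 1289)
 (L 23906))
 (N (L 11369)
 (L 41735)))
 (N (N (L 6171)
 (L 31548))
 (N (L 17206)
 (L 57638))))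
 (N (N (N (L 3629)
 (L 27673))
 (N (L 14184)
 (L 48144)))
 (N (N (L 8721)
 (L 36145))
 (L 20331)))))
 (N (N (N (N (N (L 602)
 (L 23069))
 (N (L 10775)
 (L 40201)))
 (N (N (L 5462)
 (L 30521))
 (N (L 16437)
 (L 54615))))
 (N (N (N (L 3079)
 (L 26715))
 (N (L 13594)
 (L 46386)))
 (N (N (L 8005)
 (L 34903))
 (L 19526))))
 (N (N (N (N (L 1837)
 (L 24870))
 (N (L 12111)
 (L 43097)))
 (N (N (L 6730)
 (L 32595))
 (N (L 17961)
 (L 61498))))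
 (N (N (N (L 4192)
 (L 28508))
 (N (L 14925)
 (L 49948)))
 (N (N (L 9313)
 (L 37408))
 (L 21273))))))
 (N (N (N (N (N (N (L 330)
 (L 22586))
 (N (L 10341)
 (L 39441)))
 (N (N (L 5177)
 (L 30006))
 (N (L 15983)
 (L 53297))))
 (N (N (N (L 2662)
 (L 26369))
 (N (L 13162)
 (L 45575)))
 (N (N (L 7720)
 (L 34363))
 (L 19201))))
 (N (N (N (N (L 1563)
 (L 24385))
 (N (L 11810)
 (L 42341)))
 (N (N (L 6451)
 (L 32078))
 (N (L 17517)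
 (L 59416))))
 (N (N (N (L 3913)
 (L 28013))
 (N (L 14627)
 (L 48951)))
 (N (N (L 9019)
 (L 36695))
 (L 20800)))))
 (N (N (N (N (N (L 874)
 (L 23406))
 (N (L 11075)
 (L 40975)))
 (N (N (L 5743)
 (L 31034))
 (N (L 16746)
 (L 56133))))
 (N (N (N (L 3354)
 (L 27184))
 (N (L 13893)
 (L 47208)))
 (N (N (L 8293)
 (L 35586))
 (L 20004))))
 (N (N (N (N (L 2113)
 (L 25375))
 (N (L 12553)
 (L 43847)))
 (N (N (L 7009)
 (L 33295))
 (N (L 18275)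
 (L 64285))))
 (N (N (N (L 4614)
 (L 29004))
 (N (L 15365)
 (L 50945)))
 (N (N (L 9750)
 (L 37978))
 (L 21765)))))))
 (N (N (N (N (N (N (N (L 266)
 (L 22347))
 (N (L 10261)
 (L 39008)))
 (N (N (L 4965)
 (L 29752))
 (N (L 15900)
 (L 52567))))
 (N (N (N (L 2596)
 (L 26119))
 (N (L 13079)
 (L 45130)))
 (N (N (L 7504)
 (L 34080))
 (L 18961))))
 (N (N (N (N (L 1354)
 (L 24146))
 (N (L 11589)
 (L 42044)))
 (N (N (L 6237)
 (L 31814))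
 (N (L 17433)
 (L 58430))))
 (N (N (N (L 3841)
 (L 27915))
 (N (L 14403)
 (L 48479)))
 (N (N (L 8797)
 (L 36417))
 (L 20567)))))
 (N (N (N (N (N (L 810)
 (L 23307))
 (N (L 10854)
 (L 40523)))
 (N (N (L 5674)
 (L 30772))
 (N (L 16659)
 (L 55348))))
 (N (N (N (L 3145)
 (L 26950))
 (N (L 13672)
 (L 46880)))
 (N (N (L 8219)
 (L 35170))
 (L 19769))))
 (N (N (N (N (L 1903)
 (L 25120))
 (N (L 12330)
 (L 43531)))
 (N (N (L 6943)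
 (L 32873))
 (N (L 18187)
 (L 62753))))
 (N (N (N (L 4403)
 (L 28756))
 (N (L 15148)
 (L 50272)))
 (N (N (L 9535)
 (L 37691))
 (L 21520))))))
 (N (N (N (N (N (N (L 537)
 (L 22842))
 (N (L 10556)
 (L 39746)))
 (N (N (L 5390)
 (L 30264))
 (N (L 16212)
 (L 53863))))
 (N (N (N (L 2871)
 (L 26472))
 (N (L 13376)
 (L 45914)))
 (N (N (L 7791)
 (L 34638))
 (L 19288))))
 (N (N (N (N (L 1629)
 (L 24639))
 (N (L 11888)
 (L 42789)))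
 (N (N (L 6663)
 (L 32337))
 (N (L 17740)
 (L 60208))))
 (N (N (N (L 4123)
 (L 28260))
 (N (L 14703)
 (L 49449)))
 (N (N (L 9238)
 (L 37122))
 (L 21028)))))
 (N (N (N (N (N (L 1082)
 (L 23657))
 (N (L 11293)
 (L 41280)))
 (N (N (L 5954)
 (L 31297))
 (N (L 16970)
 (L 56887))))
 (N (N (N (L 3422)
 (L 27431))
 (N (L 14109)
 (L 47691)))
 (N (N (L 8506)
 (L 35855))
 (L 20237))))
 (N (N (N (N (L 2321)
 (L 25628))
 (N (L 12633)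
 (L 44331)))
 (N (N (L 7220)
 (L 33562))
 (N (L 18505)
 (L 66160))))
 (N (N (N (L 4683)
 (L 29252))
 (N (L 15444)
 (L 51303)))
 (N (N (L 9827)
 (L 38413))
 (L 21867)))))))))))
 (N (N (N (N (N (N (N (N (N (N (N (L 7)
 (L 22025))
 (N (L 9840)
 (L 38440)))
 (N (N (L 4697)
 (L 29270))
 (N (L 15458)
 (L 51510))))
 (N (N (N (L 2334)
 (L 25645))
 (N (L 12650)
 (L 44374)))
 (N (N (L 7232)
 (L 33580))
 (N (L 18517)
 (L 66633)))))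
 (N (N (N (N (L 1094)
 (L 23817))
 (N (L 11308)
 (L 41310)))
 (N (N (L 5970)
 (L 31314))
 (N (L 16988)
 (L 56928))))
 (N (N (N (L 3434)
 (L 27447))
 (N (L 14122)
 (L 47726)))
 (N (N (L 8521)
 (L 35889))
 (L 20255)))))
 (N (N (N (N (N (L 549)
 (L 22859))
 (N (L 10571)
 (L 39783)))
 (N (N (L 5403)
 (L 30282))
 (N (L 16226)
 (L 54070))))
 (N (N (N (L 2883)
 (L 26632))
 (N (L 13390)
 (L 46091)))
 (N (N (L 7947)
 (L 34660))
 (L 19303))))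
 (N (N (N (N (L 1641)
 (L 24659))
 (N (L 12046)
 (L 42818)))
 (N (N (L 6676)
 (L 32356))
 (N (L 17755)
 (L 60450))))
 (N (N (N (L 4137)
 (L 28423))
 (N (L 14861)
 (L 49492)))
 (N (N (L 9253)
 (L 37148))
 (L 21048))))))
 (N (N (N (N (N (N (L 278)
 (L 22366))
 (N (L 10273)
 (L 39182)))
 (N (N (L 5120)
 (L 29768))
 (N (L 15914)
 (L 52762))))
 (N (N (N (L 2608)
 (L 26136))
 (N (L 13094)
 (L 45146)))
 (N (N (L 7517)
 (L 34098))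
 (L 18982))))
 (N (N (N (N (L 1366)
 (L 24167))
 (N (L 11603)
 (L 42064)))
 (N (N (L 6250)
 (L 31836))
 (N (L 17448)
 (L 58649))))
 (N (N (N (L 3854)
 (L 27937))
 (N (L 14417)
 (L 48667)))
 (N (N (L 8812)
 (L 36442))
 (L 20586)))))
 (N (N (N (N (N (L 822)
 (L 23324))
 (N (L 11011)
 (L 40558)))
 (N (N (L 5686)
 (L 30793))
 (N (L 16675)
 (L 55400))))
 (N (N (N (L 3157)
 (L 26971))
 (N (L 13831)
 (L 46922)))
 (N (N (L 8231)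
 (L 35334))
 (L 19785))))
 (N (N (N (N (L 2060)
 (L 25139))
 (N (L 12344)
 (L 43571)))
 (N (N (L 6955)
 (L 33037))
 (N (L 18205)
 (L 63011))))
 (N (N (N (L 4416)
 (L 28781))
 (N (L 15161)
 (L 50459)))
 (N (N (L 9548)
 (L 37712))
 (L 21534)))))))
 (N (N (N (N (N (N (N (L 71)
 (L 22117))
 (N (L 10060)
 (L 38722)))
 (N (N (L 4907)
 (L 29516))
 (N (L 15689)
 (L 52237))))
 (N (N (N (L 2400)
 (L 25889))
 (N (L 12874)
 (L 44835)))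
 (N (N (L 7446)
 (L 33844))
 (L 18747))))
 (N (N (N (N (L 1301)
 (L 24064))
 (N (L 11526)
 (L 41762)))
 (N (N (L 6183)
 (L 31569))
 (N (L 17222)
 (L 57697))))
 (N (N (N (L 3642)
 (L 27689))
 (N (L 14342)
 (L 48175)))
 (N (N (L 8737)
 (L 36165))
 (L 20491)))))
 (N (N (N (N (N (L 614)
 (L 23089))
 (N (L 10788)
 (L 40230)))
 (N (N (L 5475)
 (L 30546))
 (N (L 16452)
 (L 54811))))
 (N (N (N (L 3092)
 (L 26731))
 (N (L 13608)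
 (L 46438)))
 (N (N (L 8018)
 (L 34926))
 (L 19544))))
 (N (N (N (N (L 1849)
 (L 24890))
 (N (L 12127)
 (L 43120)))
 (N (N (L 6742)
 (L 32622))
 (N (L 17978)
 (L 61749))))
 (N (N (N (L 4205)
 (L 28527))
 (N (L 14938)
 (L 49984)))
 (N (N (L 9326)
 (L 37428))
 (L 21294))))))
 (N (N (N (N (N (N (L 342)
 (L 22605))
 (N (L 10496)
 (L 39470)))
 (N (N (L 5191)
 (L 30026))
 (N (L 16144)
 (L 53344))))
 (N (N (N (L 2817)
 (L 26389))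
 (N (L 13318)
 (L 45598)))
 (N (N (L 7735)
 (L 34387))
 (L 19217))))
 (N (N (N (N (L 1576)
 (L 24415))
 (N (L 11827)
 (L 42511)))
 (N (N (L 6464)
 (L 32099))
 (N (L 17675)
 (L 59467))))
 (N (N (N (L 3925)
 (L 28181))
 (N (L 14643)
 (L 48981)))
 (N (N (L 9034)
 (L 36716))
 (L 20816)))))
 (N (N (N (N (N (L 1029)
 (L 23567))
 (N (L 11089)
 (L 41019)))
 (N (N (L 5900)
 (L 31050))
 (N (L 16906)
 (L 56331))))
 (N (N (N (L 3366)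
 (L 27206))
 (N (L 13905)
 (L 47384)))
 (N (N (L 8449)
 (L 35605))
 (L 20022))))
 (N (N (N (N (L 2125)
 (L 25395))
 (N (L 12566)
 (L 43885)))
 (N (N (L 7021)
 (L 33320))
 (N (L 18288)
 (L 64552))))
 (N (N (N (L 4626)
 (L 29023))
 (N (L 15380)
 (L 50993)))
 (N (N (L 9763)
 (L 38154))
 (L 21783))))))))
 (N (N (N (N (N (N (N (N (L 39)
 (L 22066))
 (N (L 10020)
 (L 38509)))
 (N (N (L 4874)
 (L 29470))
 (N (L 15648)
 (L 51799))))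
 (N (N (N (L 2366)
 (L 25693))
 (N (L 12832)
 (L 44607)))
 (N (N (L 7269)
 (L 33641))
 (N (L 18699)
 (L 69963)))))
 (N (N (N (N (L 1126)
 (L 23871))
 (N (L 11345)
 (L 41536)))
 (N (N (L 6148)
 (L 31520))
 (N (L 17174)
 (L 57380))))
 (N (N (N (L 3609)
 (L 27499))
 (N (L 14161)
 (L 47956)))
 (N (N (L 8555)
 (L 36106))
 (L 20299)))))
 (N (N (N (N (N (L 581)
 (L 23045))
 (N (L 10754)
 (L 40003)))
 (N (N (L 5439)
 (L 30484))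
 (N (L 16408)
 (L 54378))))
 (N (N (N (L 2915)
 (L 26685))
 (N (L 13571)
 (L 46188)))
 (N (N (L 7979)
 (L 34856))
 (L 19500))))
 (N (N (N (N (L 1816)
 (L 24844))
 (N (L 12084)
 (L 43034)))
 (N (N (L 6709)
 (L 32554))
 (N (L 17937)
 (L 61039))))
 (N (N (N (L 4172)
 (L 28475))
 (N (L 14900)
 (L 49742)))
 (N (N (L 9290)
 (L 37227))
 (L 21101))))))
 (N (N (N (N (N (N (L 310)
 (L 22553))
 (N (L 10315)
 (L 39252)))
 (N (N (L 5157)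
 (L 29967))
 (N (L 15960)
 (L 53064))))
 (N (N (N (L 2641)
 (L 26196))
 (N (L 13132)
 (L 45384)))
 (N (N (L 7697)
 (L 34309))
 (L 19027))))
 (N (N (N (N (L 1543)
 (L 24357))
 (N (L 11785)
 (L 42278)))
 (N (N (L 6429)
 (L 32034))
 (N (L 17493)
 (L 58985))))
 (N (N (N (L 3891)
 (L 27985))
 (N (L 14601)
 (L 48897)))
 (N (N (L 8993)
 (L 36656))
 (L 20772)))))
 (N (N (N (N (N (L 854)
 (L 23376))
 (N (L 11050)
 (L 40781)))
 (N (N (L 5723)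
 (L 30992))
 (N (L 16721)
 (L 55861))))
 (N (N (N (L 3334)
 (L 27159))
 (N (L 13868)
 (L 47168)))
 (N (N (L 8271)
 (L 35402))
 (L 19970))))
 (N (N (N (N (L 2092)
 (L 25199))
 (N (L 12387)
 (L 43796)))
 (N (N (L 6988)
 (L 33106))
 (N (L 18250)
 (L 63755))))
 (N (N (N (L 4450)
 (L 28973))
 (N (L 15200)
 (L 50736)))
 (N (N (L 9583)
 (L 37937))
 (L 21592)))))))
 (N (N (N (N (N (N (N (L 103)
 (L 22314))
 (N (L 10096)
 (L 38941)))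
 (N (N (L 4942)
 (L 29706))
 (N (L 15873)
 (L 52502))))
 (N (N (N (L 2575)
 (L 25944))
 (N (L 12912)
 (L 45059)))
 (N (N (L 7482)
 (L 33903))
 (L 18795))))
 (N (N (N (N (L 1333)
 (L 24114))
 (N (L 11566)
 (L 41985)))
 (N (N (L 6216)
 (L 31771))
 (N (L 17264)
 (L 58148))))
 (N (N (N (L 3677)
 (L 27743))
 (N (L 14381)
 (L 48423)))
 (N (N (L 8777)
 (L 36374))
 (L 20537)))))
 (N (N (N (N (N (L 790)
 (L 23135))
 (N (L 10830)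
 (L 40476)))
 (N (N (L 5652)
 (L 30739))
 (N (L 16490)
 (L 55094))))
 (N (N (N (L 3124)
 (L 26924))
 (N (L 13647)
 (L 46680)))
 (N (N (L 8197)
 (L 35136))
 (L 19740))))
 (N (N (N (N (L 1883)
 (L 25088))
 (N (L 12306)
 (L 43339)))
 (N (N (L 6921)
 (L 32828))
 (N (L 18019)
 (L 62249))))
 (N (N (N (L 4382)
 (L 28730))
 (N (L 15117)
 (L 50214)))
 (N (N (L 9510)
 (L 37648))
 (L 21347))))))
 (N (N (N (N (N (N (L 517)
 (L 22806))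
 (N (L 10531)
 (L 39697)))
 (N (N (L 5225)
 (L 30227))
 (N (L 16187)
 (L 53766))))
 (N (N (N (L 2850)
 (L 26442))
 (N (L 13353)
 (L 45838)))
 (N (N (L 7771)
 (L 34592))
 (L 19263))))
 (N (N (N (N (L 1609)
 (L 24605))
 (N (L 11865)
 (L 42601)))
 (N (N (L 6498)
 (L 32294))
 (N (L 17710)
 (L 59921))))
 (N (N (N (L 4102)
 (L 28228))
 (N (L 14679)
 (L 49221)))
 (N (N (L 9070)
 (L 36939))
 (L 21004)))))
 (N (N (N (N (N (L 1062)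
 (L 23627))
 (N (L 11273)
 (L 41232)))
 (N (N (L 5934)
 (L 31260))
 (N (L 16945)
 (L 56645))))
 (N (N (N (L 3401)
 (L 27404))
 (N (L 14085)
 (L 47626)))
 (N (N (L 8484)
 (L 35679))
 (L 20063))))
 (N (N (N (N (L 2157)
 (L 25453))
 (N (L 12607)
 (L 44116)))
 (N (N (L 7200)
 (L 33380))
 (N (L 18478)
 (L 65581))))
 (N (N (N (L 4660)
 (L 29223))
 (N (L 15421)
 (L 51239)))
 (N (N (L 9801)
 (L 38225))
 (L 21836)))))))))
 (N (N (N (N (N (N (N (N (N (L 23)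
 (L 22043))
 (N (L 10001)
 (L 38478)))
 (N (N (L 4713)
 (L 29294))
 (N (L 15625)
 (L 51744))))
 (N (N (N (L 2350)
 (L 25673))
 (N (L 12813)
 (L 44566)))
 (N (N (L 7252)
 (L 33615))
 (N (L 18535)
 (L 67637)))))
 (N (N (N (N (L 1110)
 (L 23842))
 (N (L 11327)
 (L 41493)))
 (N (N (L 5988)
 (L 31344))
 (N (L 17156)
 (L 57149))))
 (N (N (N (L 3593)
 (L 27477))
 (N (L 14140)
 (L 47903)))
 (N (N (L 8538)
 (L 35918))
 (L 20278)))))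
 (N (N (N (N (N (L 565)
 (L 22880))
 (N (L 10593)
 (L 39969)))
 (N (N (L 5421)
 (L 30307))
 (N (L 16389)
 (L 54301))))
 (N (N (N (L 2899)
 (L 26657))
 (N (L 13411)
 (L 46138)))
 (N (N (L 7963)
 (L 34823))
 (L 19471))))
 (N (N (N (N (L 1800)
 (L 24682))
 (N (L 12063)
 (L 42860)))
 (N (N (L 6692)
 (L 32530))
 (N (L 17774)
 (L 60727))))
 (N (N (N (L 4155)
 (L 28454))
 (N (L 14880)
 (L 49670)))
 (N (N (L 9273)
 (L 37191))
 (L 21080))))))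
 (N (N (N (N (N (N (L 294)
 (L 22528))
 (N (L 10294)
 (L 39222)))
 (N (N (L 5139)
 (L 29792))
 (N (L 15937)
 (L 52840))))
 (N (N (N (L 2625)
 (L 26170))
 (N (L 13112)
 (L 45331)))
 (N (N (L 7534)
 (L 34127))
 (L 19007))))
 (N (N (N (N (L 1383)
 (L 24336))
 (N (L 11622)
 (L 42241)))
 (N (N (L 6411)
 (L 32005))
 (N (L 17471)
 (L 58885))))
 (N (N (N (L 3872)
 (L 27957))
 (N (L 14438)
 (L 48713)))
 (N (N (L 8973)
 (L 36629))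
 (L 20750)))))
 (N (N (N (N (N (L 838)
 (L 23349))
 (N (L 11030)
 (L 40737)))
 (N (N (L 5706)
 (L 30821))
 (N (L 16698)
 (L 55644))))
 (N (N (N (L 3174)
 (L 26992))
 (N (L 13849)
 (L 47109)))
 (N (N (L 8250)
 (L 35373))
 (L 19804))))
 (N (N (N (N (L 2076)
 (L 25172))
 (N (L 12365)
 (L 43615)))
 (N (N (L 6971)
 (L 33075))
 (N (L 18225)
 (L 63286))))
 (N (N (N (L 4433)
 (L 28950))
 (N (L 15180)
 (L 50520)))
 (N (N (L 9565)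
 (L 37893))
 (L 21559)))))))
 (N (N (N (N (N (N (N (L 87)
 (L 22288))
 (N (L 10080)
 (L 38766)))
 (N (N (L 4924)
 (L 29538))
 (N (L 15706)
 (L 52296))))
 (N (N (N (L 2416)
 (L 25916))
 (N (L 12894)
 (L 44877)))
 (N (N (L 7464)
 (L 33877))
 (L 18769))))
 (N (N (N (N (L 1317)
 (L 24087))
 (N (L 11546)
 (L 41805)))
 (N (N (L 6199)
 (L 31599))
 (N (L 17244)
 (L 57937))))
 (N (N (N (L 3660)
 (L 27712))
 (N (L 14362)
 (L 48220)))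
 (N (N (L 8759)
 (L 36196))
 (L 20516)))))
 (N (N (N (N (N (L 774)
 (L 23115))
 (N (L 10808)
 (L 40272)))
 (N (N (L 5634)
 (L 30569))
 (N (L 16472)
 (L 54889))))
 (N (N (N (L 3108)
 (L 26899))
 (N (L 13627)
 (L 46628)))
 (N (N (L 8037)
 (L 35111))
 (L 19718))))
 (N (N (N (N (L 1866)
 (L 24921))
 (N (L 12144)
 (L 43294)))
 (N (N (L 6759)
 (L 32803))
 (N (L 17999)
 (L 61982))))
 (N (N (N (L 4365)
 (L 28698))
 (N (L 14956)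
 (L 50023)))
 (N (N (L 9488)
 (L 37464))
 (L 21316))))))
 (N (N (N (N (N (N (L 358)
 (L 22630))
 (N (L 10514)
 (L 39507)))
 (N (N (L 5208)
 (L 30049))
 (N (L 16164)
 (L 53558))))
 (N (N (N (L 2834)
 (L 26414))
 (N (L 13336)
 (L 45642)))
 (N (N (L 7753)
 (L 34416))
 (L 19242))))
 (N (N (N (N (L 1592)
 (L 24584))
 (N (L 11847)
 (L 42561)))
 (N (N (L 6481)
 (L 32265))
 (N (L 17694)
 (L 59715))))
 (N (N (N (L 3942)
 (L 28207))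
 (N (L 14661)
 (L 49182)))
 (N (N (L 9050)
 (L 36906))
 (L 20840)))))
 (N (N (N (N (N (L 1046)
 (L 23599))
 (N (L 11109)
 (L 41060)))
 (N (N (L 5917)
 (L 31080))
 (N (L 16925)
 (L 56420))))
 (N (N (N (L 3383)
 (L 27232))
 (N (L 13923)
 (L 47428)))
 (N (N (L 8467)
 (L 35642))
 (L 20044))))
 (N (N (N (N (L 2141)
 (L 25426))
 (N (L 12586)
 (L 44069)))
 (N (N (L 7181)
 (L 33352))
 (N (L 18459)
 (L 65073))))
 (N (N (N (L 4642)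
 (L 29189))
 (N (L 15401)
 (L 51041)))
 (N (N (L 9784)
 (L 38188))
 (L 21808))))))))
 (N (N (N (N (N (N (N (N (L 55)
 (L 22092))
 (N (L 10040)
 (L 38687)))
 (N (N (L 4890)
 (L 29492))
 (N (L 15668)
 (L 52029))))
 (N (N (N (L 2383)
 (L 25867))
 (N (L 12852)
 (L 44653)))
 (N (N (L 7429)
 (L 33814))
 (L 18724))))
 (N (N (N (N (L 1285)
 (L 23894))
 (N (L 11365)
 (L 41578)))
 (N (N (L 6166)
 (L 31543))
 (N (L 17201)
 (L 57606))))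
 (N (N (N (L 3625)
 (L 27668))
 (N (L 14179)
 (L 48136)))
 (N (N (L 8717)
 (L 36138))
 (L 20326)))))
 (N (N (N (N (N (L 598)
 (L 23064))
 (N (L 10771)
 (L 40042)))
 (N (N (L 5456)
 (L 30512))
 (N (L 16432)
 (L 54600))))
 (N (N (N (L 3075)
 (L 26709))
 (N (L 13590)
 (L 46373)))
 (N (N (L 8000)
 (L 34892))
 (L 19521))))
 (N (N (N (N (L 1832)
 (L 24865))
 (N (L 12107)
 (L 43084)))
 (N (N (L 6726)
 (L 32591))
 (N (L 17956)
 (L 61461))))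
 (N (N (N (L 4188)
 (L 28502))
 (N (L 14920)
 (L 49938)))
 (N (N (L 9308)
 (L 37400))
 (L 21269))))))
 (N (N (N (N (N (N (L 326)
 (L 22578))
 (N (L 10335)
 (L 39433)))
 (N (N (L 5173)
 (L 30002))
 (N (L 15978)
 (L 53281))))
 (N (N (N (L 2658)
 (L 26220))
 (N (L 13156)
 (L 45421)))
 (N (N (L 7715)
 (L 34354))
 (L 19049))))
 (N (N (N (N (L 1559)
 (L 24380))
 (N (L 11805)
 (L 42322)))
 (N (N (L 6447)
 (L 32070))
 (N (L 17512)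
 (L 59224))))
 (N (N (N (L 3908)
 (L 28008))
 (N (L 14623)
 (L 48944)))
 (N (N (L 9014)
 (L 36691))
 (L 20794)))))
 (N (N (N (N (N (L 870)
 (L 23400))
 (N (L 11070)
 (L 40963)))
 (N (N (L 5739)
 (L 31025))
 (N (L 16742)
 (L 56123))))
 (N (N (N (L 3350)
 (L 27178))
 (N (L 13887)
 (L 47203)))
 (N (N (L 8289)
 (L 35437))
 (L 19996))))
 (N (N (N (N (L 2108)
 (L 25370))
 (N (L 12549)
 (L 43829)))
 (N (N (L 7005)
 (L 33284))
 (N (L 18271)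
 (L 64096))))
 (N (N (N (L 4610)
 (L 28997))
 (N (L 15360)
 (L 50784)))
 (N (N (L 9745)
 (L 37969))
 (L 21760)))))))
 (N (N (N (N (N (N (N (L 262)
 (L 22340))
 (N (L 10257)
 (L 38989)))
 (N (N (L 4961)
 (L 29741))
 (N (L 15894)
 (L 52548))))
 (N (N (N (L 2592)
 (L 26113))
 (N (L 13074)
 (L 45109)))
 (N (N (L 7500)
 (L 34075))
 (L 18957))))
 (N (N (N (N (L 1350)
 (L 24141))
 (N (L 11585)
 (L 42027)))
 (N (N (L 6232)
 (L 31808))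
 (N (L 17427)
 (L 58412))))
 (N (N (N (L 3693)
 (L 27909))
 (N (L 14397)
 (L 48467)))
 (N (N (L 8793)
 (L 36404))
 (L 20561)))))
 (N (N (N (N (N (L 806)
 (L 23301))
 (N (L 10850)
 (L 40515)))
 (N (N (L 5669)
 (L 30762))
 (N (L 16655)
 (L 55326))))
 (N (N (N (L 3141)
 (L 26943))
 (N (L 13667)
 (L 46867)))
 (N (N (L 8215)
 (L 35165))
 (L 19763))))
 (N (N (N (N (L 1899)
 (L 25114))
 (N (L 12325)
 (L 43521)))
 (N (N (L 6939)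
 (L 32865))
 (N (L 18181)
 (L 62559))))
 (N (N (N (L 4399)
 (L 28752))
 (N (L 15143)
 (L 50259)))
 (N (N (L 9531)
 (L 37683))
 (L 21513))))))
 (N (N (N (N (N (N (L 533)
 (L 22835))
 (N (L 10551)
 (L 39735)))
 (N (N (L 5386)
 (L 30259))
 (N (L 16208)
 (L 53852))))
 (N (N (N (L 2867)
 (L 26467))
 (N (L 13372)
 (L 45899)))
 (N (N (L 7787)
 (L 34632))
 (L 19284))))
 (N (N (N (N (L 1625)
 (L 24630))
 (N (L 11884)
 (L 42780)))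
 (N (N (L 6659)
 (L 32330))
 (N (L 17732)
 (L 60184))))
 (N (N (N (L 4119)
 (L 28252))
 (N (L 14698)
 (L 49433)))
 (N (N (L 9233)
 (L 36965))
 (L 21023)))))
 (N (N (N (N (N (L 1078)
 (L 23652))
 (N (L 11289)
 (L 41272)))
 (N (N (L 5950)
 (L 31290))
 (N (L 16964)
 (L 56871))))
 (N (N (N (L 3418)
 (L 27426))
 (N (L 14104)
 (L 47675)))
 (N (N (L 8502)
 (L 35850))
 (L 20233))))
 (N (N (N (N (L 2317)
 (L 25619))
 (N (L 12628)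
 (L 44318)))
 (N (N (L 7216)
 (L 33552))
 (N (L 18500)
 (L 66075))))
 (N (N (N (L 4677)
 (L 29245))
 (N (L 15440)
 (L 51295)))
 (N (N (L 9821)
 (L 38256))
 (L 21862))))))))))
 (N (N (N (N (N (N (N (N (N (N (L 15)
 (L 22034))
 (N (L 9993)
 (L 38453)))
 (N (N (L 4705)
 (L 29282))
 (N (L 15469)
 (L 51555))))
 (N (N (N (L 2342)
 (L 25659))
 (N (L 12802)
 (L 44399)))
 (N (N (L 7242)
 (L 33600))
 (N (L 18527)
 (L 67153)))))
 (N (N (N (N (L 1102)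
 (L 23831))
 (N (L 11317)
 (L 41327)))
 (N (N (L 5979)
 (L 31329))
 (N (L 17000)
 (L 57128))))
 (N (N (N (L 3585)
 (L 27465))
 (N (L 14132)
 (L 47886)))
 (N (N (L 8529)
 (L 35903))
 (L 20264)))))
 (N (N (N (N (N (L 557)
 (L 22870))
 (N (L 10582)
 (L 39946)))
 (N (N (L 5411)
 (L 30295))
 (N (L 16235)
 (L 54118))))
 (N (N (N (L 2891)
 (L 26647))
 (N (L 13399)
 (L 46110)))
 (N (N (L 7955)
 (L 34669))
 (L 19462))))
 (N (N (N (N (L 1792)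
 (L 24671))
 (N (L 12054)
 (L 42839)))
 (N (N (L 6684)
 (L 32367))
 (N (L 17764)
 (L 60527))))
 (N (N (N (L 4146)
 (L 28441))
 (N (L 14870)
 (L 49508)))
 (N (N (L 9264)
 (L 37170))
 (L 21060))))))
 (N (N (N (N (N (N (L 286)
 (L 22374))
 (N (L 10283)
 (L 39199)))
 (N (N (L 5131)
 (L 29781))
 (N (L 15924)
 (L 52814))))
 (N (N (N (L 2616)
 (L 26153))
 (N (L 13102)
 (L 45168)))
 (N (N (L 7526)
 (L 34111))
 (L 18995))))
 (N (N (N (N (L 1375)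
 (L 24321))
 (N (L 11613)
 (L 42085)))
 (N (N (L 6402)
 (L 31849))
 (N (L 17458)
 (L 58693))))
 (N (N (N (L 3862)
 (L 27948))
 (N (L 14429)
 (L 48686)))
 (N (N (L 8965)
 (L 36462))
 (L 20738)))))
 (N (N (N (N (N (L 830)
 (L 23337))
 (N (L 11022)
 (L 40719)))
 (N (N (L 5695)
 (L 30808))
 (N (L 16689)
 (L 55615))))
 (N (N (N (L 3166)
 (L 26983))
 (N (L 13839)
 (L 46939)))
 (N (N (L 8239)
 (L 35348))
 (L 19796))))
 (N (N (N (N (L 2068)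
 (L 25152))
 (N (L 12355)
 (L 43594)))
 (N (N (L 6963)
 (L 33052))
 (N (L 18215)
 (L 63241))))
 (N (N (N (L 4425)
 (L 28938))
 (N (L 15171)
 (L 50489)))
 (N (N (L 9557)
 (L 37735))
 (L 21546)))))))
 (N (N (N (N (N (N (N (L 79)
 (L 22275))
 (N (L 10071)
 (L 38746)))
 (N (N (L 4915)
 (L 29528))
 (N (L 15697)
 (L 52265))))
 (N (N (N (L 2408)
 (L 25901))
 (N (L 12884)
 (L 44859)))
 (N (N (L 7456)
 (L 33861))
 (L 18757))))
 (N (N (N (N (L 1309)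
 (L 24077))
 (N (L 11536)
 (L 41786)))
 (N (N (L 6191)
 (L 31585))
 (N (L 17232)
 (L 57905))))
 (N (N (N (L 3651)
 (L 27701))
 (N (L 14351)
 (L 48190)))
 (N (N (L 8749)
 (L 36181))
 (L 20504)))))
 (N (N (N (N (N (L 622)
 (L 23102))
 (N (L 10799)
 (L 40254)))
 (N (N (L 5483)
 (L 30557))
 (N (L 16460)
 (L 54861))))
 (N (N (N (L 3100)
 (L 26886))
 (N (L 13618)
 (L 46607)))
 (N (N (L 8029)
 (L 35093))
 (L 19557))))
 (N (N (N (N (L 1857)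
 (L 24907))
 (N (L 12136)
 (L 43280)))
 (N (N (L 6751)
 (L 32784))
 (N (L 17988)
 (L 61785))))
 (N (N (N (L 4357)
 (L 28683))
 (N (L 14947)
 (L 50010)))
 (N (N (L 9478)
 (L 37447))
 (L 21308))))))
 (N (N (N (N (N (N (L 350)
 (L 22618))
 (N (L 10505)
 (L 39482)))
 (N (N (L 5200)
 (L 30036))
 (N (L 16155)
 (L 53522))))
 (N (N (N (L 2825)
 (L 26400))
 (N (L 13327)
 (L 45617)))
 (N (N (L 7744)
 (L 34403))
 (L 19230))))
 (N (N (N (N (L 1584)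
 (L 24430))
 (N (L 11836)
 (L 42526)))
 (N (N (L 6473)
 (L 32108))
 (N (L 17684)
 (L 59659))))
 (N (N (N (L 3933)
 (L 28196))
 (N (L 14651)
 (L 49007)))
 (N (N (L 9042)
 (L 36877))
 (L 20827)))))
 (N (N (N (N (N (L 1037)
 (L 23581))
 (N (L 11101)
 (L 41037)))
 (N (N (L 5908)
 (L 31063))
 (N (L 16915)
 (L 56389))))
 (N (N (N (L 3374)
 (L 27223))
 (N (L 13913)
 (L 47402)))
 (N (N (L 8457)
 (L 35626))
 (L 20034))))
 (N (N (N (N (L 2133)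
 (L 25411))
 (N (L 12577)
 (L 44050)))
 (N (N (L 7173)
 (L 33338))
 (N (L 18441)
 (L 64823))))
 (N (N (N (L 4634)
 (L 29032))
 (N (L 15392)
 (L 51020)))
 (N (N (L 9774)
 (L 38168))
 (L 21797))))))))
 (N (N (N (N (N (N (N (N (L 47)
 (L 22076))
 (N (L 10031)
 (L 38671)))
 (N (N (L 4882)
 (L 29481))
 (N (L 15658)
 (L 52009))))
 (N (N (N (L 2375)
 (L 25710))
 (N (L 12842)
 (L 44639)))
 (N (N (L 7277)
 (L 33796))
 (L 18709))))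
 (N (N (N (N (L 1134)
 (L 23884))
 (N (L 11357)
 (L 41560)))
 (N (N (L 6157)
 (L 31529))
 (N (L 17185)
 (L 57439))))
 (N (N (N (L 3617)
 (L 27656))
 (N (L 14170)
 (L 47974)))
 (N (N (L 8707)
 (L 36121))
 (L 20311)))))
 (N (N (N (N (N (L 590)
 (L 23054))
 (N (L 10762)
 (L 40025)))
 (N (N (L 5448)
 (L 30499))
 (N (L 16419)
 (L 54555))))
 (N (N (N (L 2923)
 (L 26698))
 (N (L 13581)
 (L 46357)))
 (N (N (L 7991)
 (L 34875))
 (L 19511))))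
 (N (N (N (N (L 1824)
 (L 24854))
 (N (L 12093)
 (L 43059)))
 (N (N (L 6717)
 (L 32571))
 (N (L 17948)
 (L 61234))))
 (N (N (N (L 4180)
 (L 28489))
 (N (L 14908)
 (L 49760)))
 (N (N (L 9300)
 (L 37385))
 (L 21257))))))
 (N (N (N (N (N (N (L 318)
 (L 22565))
 (N (L 10326)
 (L 39276)))
 (N (N (L 5165)
 (L 29985))
 (N (L 15969)
 (L 53102))))
 (N (N (N (L 2649)
 (L 26211))
 (N (L 13145)
 (L 45400)))
 (N (N (L 7706)
 (L 34332))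
 (L 19035))))
 (N (N (N (N (L 1551)
 (L 24367))
 (N (L 11794)
 (L 42298)))
 (N (N (L 6438)
 (L 32053))
 (N (L 17502)
 (L 59172))))
 (N (N (N (L 3899)
 (L 27996))
 (N (L 14613)
 (L 48926)))
 (N (N (L 9005)
 (L 36670))
 (L 20783)))))
 (N (N (N (N (N (L 862)
 (L 23390))
 (N (L 11061)
 (L 40801)))
 (N (N (L 5731)
 (L 31008))
 (N (L 16733)
 (L 55904))))
 (N (N (N (L 3342)
 (L 27168))
 (N (L 13876)
 (L 47188)))
 (N (N (L 8280)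
 (L 35423))
 (L 19982))))
 (N (N (N (N (L 2100)
 (L 25354))
 (N (L 12396)
 (L 43811)))
 (N (N (L 6996)
 (L 33123))
 (N (L 18259)
 (L 63824))))
 (N (N (N (L 4458)
 (L 28983))
 (N (L 15208)
 (L 50762)))
 (N (N (L 9737)
 (L 37948))
 (L 21604)))))))
 (N (N (N (N (N (N (N (L 111)
 (L 22329))
 (N (L 10249)
 (L 38968)))
 (N (N (L 4953)
 (L 29726))
 (N (L 15883)
 (L 52532))))
 (N (N (N (L 2584)
 (L 25959))
 (N (L 13065)
 (L 45077)))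
 (N (N (L 7492)
 (L 34061))
 (L 18947))))
 (N (N (N (N (L 1341)
 (L 24127))
 (N (L 11574)
 (L 42006)))
 (N (N (L 6224)
 (L 31793))
 (N (L 17416)
 (L 58199))))
 (N (N (N (L 3685)
 (L 27754))
 (N (L 14389)
 (L 48443)))
 (N (N (L 8785)
 (L 36388))
 (L 20549)))))
 (N (N (N (N (N (L 798)
 (L 23147))
 (N (L 10840)
 (L 40497)))
 (N (N (L 5661)
 (L 30752))
 (N (L 16644)
 (L 55140))))
 (N (N (N (L 3132)
 (L 26934))
 (N (L 13657)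
 (L 46697)))
 (N (N (L 8207)
 (L 35152))
 (L 19752))))
 (N (N (N (N (L 1891)
 (L 25103))
 (N (L 12315)
 (L 43360)))
 (N (N (L 6930)
 (L 32846))
 (N (L 18028)
 (L 62497))))
 (N (N (N (L 4390)
 (L 28742))
 (N (L 15132)
 (L 50234)))
 (N (N (L 9520)
 (L 37663))
 (L 21358))))))
 (N (N (N (N (N (N (L 525)
 (L 22817))
 (N (L 10540)
 (L 39722)))
 (N (N (L 5376)
 (L 30244))
 (N (L 16197)
 (L 53804))))
 (N (N (N (L 2858)
 (L 26454))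
 (N (L 13363)
 (L 45859)))
 (N (N (L 7779)
 (L 34605))
 (L 19275))))
 (N (N (N (N (L 1617)
 (L 24616))
 (N (L 11875)
 (L 42758)))
 (N (N (L 6507)
 (L 32312))
 (N (L 17721)
 (L 59987))))
 (N (N (N (L 4111)
 (L 28242))
 (N (L 14690)
 (L 49249)))
 (N (N (L 9225)
 (L 36951))
 (L 21012)))))
 (N (N (N (N (N (L 1070)
 (L 23639))
 (N (L 11281)
 (L 41251)))
 (N (N (L 5942)
 (L 31278))
 (N (L 16954)
 (L 56677))))
 (N (N (N (L 3409)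
 (L 27415))
 (N (L 14094)
 (L 47661)))
 (N (N (L 8492)
 (L 35696))
 (L 20076))))
 (N (N (N (N (L 2309)
 (L 25610))
 (N (L 12618)
 (L 44289)))
 (N (N (L 7208)
 (L 33537))
 (N (L 18488)
 (L 65848))))
 (N (N (N (L 4669)
 (L 29234))
 (N (L 15432)
 (L 51270)))
 (N (N (L 9811)
 (L 38237))
 (L 21850)))))))))
 (N (N (N (N (N (N (N (N (N (L 31)
 (L 22055))
 (N (L 10012)
 (L 38493)))
 (N (N (L 4864)
 (L 29451))
 (N (L 15636)
 (L 51776))))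
 (N (N (N (L 2358)
 (L 25682))
 (N (L 12822)
 (L 44582)))
 (N (N (L 7261)
 (L 33628))
 (N (L 18690)
 (L 68410)))))
 (N (N (N (N (L 1118)
 (L 23857))
 (N (L 11335)
 (L 41511)))
 (N (N (L 5996)
 (L 31503))
 (N (L 17166)
 (L 57187))))
 (N (N (N (L 3601)
 (L 27487))
 (N (L 14150)
 (L 47923)))
 (N (N (L 8546)
 (L 35931))
 (L 20290)))))
 (N (N (N (N (N (L 573)
 (L 22889))
 (N (L 10602)
 (L 39983)))
 (N (N (L 5429)
 (L 30468))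
 (N (L 16399)
 (L 54328))))
 (N (N (N (L 2907)
 (L 26673))
 (N (L 13419)
 (L 46160)))
 (N (N (L 7971)
 (L 34838))
 (L 19484))))
 (N (N (N (N (L 1808)
 (L 24833))
 (N (L 12075)
 (L 43018)))
 (N (N (L 6701)
 (L 32541))
 (N (L 17925)
 (L 60942))))
 (N (N (N (L 4163)
 (L 28464))
 (N (L 14889)
 (L 49700)))
 (N (N (L 9281)
 (L 37209))
 (L 21093))))))
 (N (N (N (N (N (N (L 302)
 (L 22543))
 (N (L 10303)
 (L 39233)))
 (N (N (L 5147)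
 (L 29808))
 (N (L 15947)
 (L 53026))))
 (N (N (N (L 2633)
 (L 26186))
 (N (L 13120)
 (L 45354)))
 (N (N (L 7687)
 (L 34146))
 (L 19015))))
 (N (N (N (N (L 1391)
 (L 24346))
 (N (L 11631)
 (L 42259)))
 (N (N (L 6420)
 (L 32019))
 (N (L 17484)
 (L 58929))))
 (N (N (N (L 3882)
 (L 27969))
 (N (L 14448)
 (L 48739)))
 (N (N (L 8982)
 (L 36641))
 (L 20761)))))
 (N (N (N (N (N (L 846)
 (L 23364))
 (N (L 11040)
 (L 40762)))
 (N (N (L 5715)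
 (L 30831))
 (N (L 16710)
 (L 55824))))
 (N (N (N (L 3182)
 (L 27148))
 (N (L 13858)
 (L 47140)))
 (N (N (L 8260)
 (L 35392))
 (L 19816))))
 (N (N (N (N (L 2084)
 (L 25184))
 (N (L 12377)
 (L 43630)))
 (N (N (L 6980)
 (L 33097))
 (N (L 18239)
 (L 63542))))
 (N (N (N (L 4442)
 (L 28964))
 (N (L 15190)
 (L 50703)))
 (N (N (L 9574)
 (L 37919))
 (L 21571)))))))
 (N (N (N (N (N (N (N (L 95)
 (L 22304))
 (N (L 10088)
 (L 38929)))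
 (N (N (L 4932)
 (L 29551))
 (N (L 15719)
 (L 52323))))
 (N (N (N (L 2567)
 (L 25930))
 (N (L 12904)
 (L 44893)))
 (N (N (L 7473)
 (L 33888))
 (L 18780))))
 (N (N (N (N (L 1325)
 (L 24101))
 (N (L 11557)
 (L 41829)))
 (N (N (L 6208)
 (L 31759))
 (N (L 17255)
 (L 58113))))
 (N (N (N (L 3668)
 (L 27726))
 (N (L 14371)
 (L 48406)))
 (N (N (L 8768)
 (L 36357))
 (L 20527)))))
 (N (N (N (N (N (L 782)
 (L 23126))
 (N (L 10819)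
 (L 40448)))
 (N (N (L 5643)
 (L 30725))
 (N (L 16482)
 (L 55053))))
 (N (N (N (L 3116)
 (L 26914))
 (N (L 13639)
 (L 46651)))
 (N (N (L 8046)
 (L 35122))
 (L 19729))))
 (N (N (N (N (L 1875)
 (L 24934))
 (N (L 12297)
 (L 43317)))
 (N (N (L 6768)
 (L 32819))
 (N (L 18010)
 (L 62029))))
 (N (N (N (L 4374)
 (L 28711))
 (N (L 15109)
 (L 50188)))
 (N (N (L 9500)
 (L 37635))
 (L 21331))))))
 (N (N (N (N (N (N (L 366)
 (L 22790))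
 (N (L 10522)
 (L 39528)))
 (N (N (L 5217)
 (L 30212))
 (N (L 16179)
 (L 53589))))
 (N (N (N (L 2842)
 (L 26424))
 (N (L 13345)
 (L 45668)))
 (N (N (L 7762)
 (L 34580))
 (L 19252))))
 (N (N (N (N (L 1600)
 (L 24592))
 (N (L 11855)
 (L 42578)))
 (N (N (L 6489)
 (L 32276))
 (N (L 17702)
 (L 59741))))
 (N (N (N (L 3950)
 (L 28216))
 (N (L 14670)
 (L 49198)))
 (N (N (L 9060)
 (L 36922))
 (L 20994)))))
 (N (N (N (N (N (L 1054)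
 (L 23615))
 (N (L 11118)
 (L 41219)))
 (N (N (L 5926)
 (L 31241))
 (N (L 16934)
 (L 56612))))
 (N (N (N (L 3392)
 (L 27246))
 (N (L 13933)
 (L 47463)))
 (N (N (L 8476)
 (L 35660))
 (L 20054))))
 (N (N (N (N (L 2149)
 (L 25443))
 (N (L 12596)
 (L 44088)))
 (N (N (L 7191)
 (L 33362))
 (N (L 18468)
 (L 65345))))
 (N (N (N (L 4651)
 (L 29206))
 (N (L 15412)
 (L 51215)))
 (N (N (L 9792)
 (L 38206))
 (L 21821))))))))
 (N (N (N (N (N (N (N (N (L 63)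
 (L 22105))
 (N (L 10051)
 (L 38709)))
 (N (N (L 4898)
 (L 29504))
 (N (L 15679)
 (L 52051))))
 (N (N (N (L 2392)
 (L 25877))
 (N (L 12862)
 (L 44818)))
 (N (N (L 7437)
 (L 33827))
 (L 18738))))
 (N (N (N (N (L 1293)
 (L 23911))
 (N (L 11373)
 (L 41743)))
 (N (N (L 6175)
 (L 31556))
 (N (L 17211)
 (L 57649))))
 (N (N (N (L 3633)
 (L 27678))
 (N (L 14189)
 (L 48153)))
 (N (N (L 8725)
 (L 36152))
 (L 20336)))))
 (N (N (N (N (N (L 606)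
 (L 23074))
 (N (L 10779)
 (L 40210)))
 (N (N (L 5466)
 (L 30531))
 (N (L 16442)
 (L 54633))))
 (N (N (N (L 3083)
 (L 26719))
 (N (L 13599)
 (L 46396)))
 (N (N (L 8010)
 (L 34912))
 (L 19534))))
 (N (N (N (N (L 1841)
 (L 24875))
 (N (L 12116)
 (L 43104)))
 (N (N (L 6734)
 (L 32603))
 (N (L 17967)
 (L 61537))))
 (N (N (N (L 4197)
 (L 28514))
 (N (L 14929)
 (L 49962)))
 (N (N (L 9318)
 (L 37413))
 (L 21277))))))
 (N (N (N (N (N (N (L 334)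
 (L 22591))
 (N (L 10345)
 (L 39445)))
 (N (N (L 5183)
 (L 30015))
 (N (L 16133)
 (L 53315))))
 (N (N (N (L 2666)
 (L 26376))
 (N (L 13166)
 (L 45582)))
 (N (N (L 7726)
 (L 34371))
 (L 19209))))
 (N (N (N (N (L 1567)
 (L 24399))
 (N (L 11817)
 (L 42347)))
 (N (N (L 6455)
 (L 32085))
 (N (L 17664)
 (L 59430))))
 (N (N (N (L 3917)
 (L 28163))
 (N (L 14632)
 (L 48970)))
 (N (N (L 9024)
 (L 36699))
 (L 20806)))))
 (N (N (N (N (N (L 878)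
 (L 23558))
 (N (L 11079)
 (L 40988)))
 (N (N (L 5890)
 (L 31039))
 (N (L 16751)
 (L 56150))))
 (N (N (N (L 3358)
 (L 27188))
 (N (L 13897)
 (L 47361)))
 (N (N (L 8297)
 (L 35594))
 (L 20010))))
 (N (N (N (N (L 2117)
 (L 25380))
 (N (L 12557)
 (L 43860)))
 (N (N (L 7013)
 (L 33303))
 (N (L 18279)
 (L 64321))))
 (N (N (N (L 4618)
 (L 29010))
 (N (L 15370)
 (L 50966)))
 (N (N (L 9754)
 (L 37993))
 (L 21770)))))))
 (N (N (N (N (N (N (N (L 270)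
 (L 22352))
 (N (L 10265)
 (L 39012)))
 (N (N (L 4969)
 (L 29756))
 (N (L 15905)
 (L 52589))))
 (N (N (N (L 2600)
 (L 26125))
 (N (L 13085)
 (L 45134)))
 (N (N (L 7508)
 (L 34085))
 (L 18967))))
 (N (N (N (N (L 1358)
 (L 24152))
 (N (L 11594)
 (L 42052)))
 (N (N (L 6241)
 (L 31820))
 (N (L 17439)
 (L 58446))))
 (N (N (N (L 3846)
 (L 27923))
 (N (L 14408)
 (L 48491)))
 (N (N (L 8803)
 (L 36423))
 (L 20573)))))
 (N (N (N (N (N (L 814)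
 (L 23314))
 (N (L 10858)
 (L 40534)))
 (N (N (L 5678)
 (L 30778))
 (N (L 16663)
 (L 55366))))
 (N (N (N (L 3149)
 (L 26957))
 (N (L 13677)
 (L 46888)))
 (N (N (L 8223)
 (L 35176))
 (L 19775))))
 (N (N (N (N (L 2051)
 (L 25126))
 (N (L 12335)
 (L 43553)))
 (N (N (L 6947)
 (L 33027))
 (N (L 18193)
 (L 62807))))
 (N (N (N (L 4408)
 (L 28762))
 (N (L 15152)
 (L 50281)))
 (N (N (L 9539)
 (L 37700))
 (L 21525))))))
 (N (N (N (N (N (N (L 541)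
 (L 22849))
 (N (L 10560)
 (L 39759)))
 (N (N (L 5394)
 (L 30268))
 (N (L 16216)
 (L 54027))))
 (N (N (N (L 2875)
 (L 26476))
 (N (L 13380)
 (L 45926)))
 (N (N (L 7939)
 (L 34647))
 (L 19292))))
 (N (N (N (N (L 1633)
 (L 24647))
 (N (L 12037)
 (L 42802)))
 (N (N (L 6667)
 (L 32344))
 (N (L 17744)
 (L 60241))))
 (N (N (N (L 4128)
 (L 28266))
 (N (L 14853)
 (L 49460)))
 (N (N (L 9244)
 (L 37133))
 (L 21035)))))
 (N (N (N (N (N (L 1086)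
 (L 23661))
 (N (L 11297)
 (L 41294)))
 (N (N (L 5961)
 (L 31302))
 (N (L 16976)
 (L 56901))))
 (N (N (N (L 3426)
 (L 27438))
 (N (L 14113)
 (L 47703)))
 (N (N (L 8511)
 (L 35863))
 (L 20241))))
 (N (N (N (N (L 2325)
 (L 25634))
 (N (L 12639)
 (L 44337)))
 (N (N (L 7224)
 (L 33571))
 (N (L 18509)
 (L 66377))))
 (N (N (N (L 4687)
 (L 29257))
 (N (L 15450)
 (L 51460)))
 (N (N (L 9831)
 (L 38424))
 (L 21872))))))))))))))

/-- A table. -/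
def mclOrd : Tree :=
  (N (N (N (N (N (N (N (N (N (N (N (N (N (N (L 0)
 (L 4186))
 (N (L 2032)
 (L 12175)))
 (N (N (L 11260)
 (L 14075))
 (N (L 3287)
 (L 9369))))
 (N (N (N (L 12674)
 (L 4369))
 (N (L 786)
 (L 8773)))
 (N (N (L 8559)
 (L 8364))
 (N (L 15335)
 (L 12149)))))
 (N (N (N (N (L 5461)
 (L 6934))
 (N (L 15308)
 (L 12383)))
 (N (N (L 10269)
 (L 9201))
 (N (L 15084)
 (L 3832))))
 (N (N (N (L 13369)
 (L 15377))
 (N (L 2935)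
 (L 6638)))
 (N (N (L 4599)
 (L 5894))
 (L 13490)))))
 (N (N (N (N (N (L 9894)
 (L 4373))
 (N (L 3401)
 (L 311)))
 (N (N (L 9480)
 (L 8719))
 (N (L 3384)
 (L 11497))))
 (N (N (N (L 6690)
 (L 14207))
 (N (L 4884)
 (L 6827)))
 (N (N (L 4696)
 (L 3074))
 (L 8142))))
 (N (N (N (N (L 8850)
 (L 12644))
 (N (L 10654)
 (L 5999)))
 (N (N (L 8835)
 (L 4236))
 (N (L 10395)
 (L 2241))))
 (N (N (N (L 10380)
 (L 10604))
 (N (L 750)
 (L 12747)))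
 (N (N (L 15365)
 (L 9478))
 (L 14972))))))
 (N (N (N (N (N (N (L 10376)
 (L 928))
 (N (L 4585)
 (L 13440)))
 (N (N (L 9537)
 (L 4860))
 (N (L 5269)
 (L 6501))))
 (N (N (N (L 3622)
 (L 5378))
 (N (L 12826)
 (L 3830)))
 (N (N (L 15253)
 (L 329))
 (L 7480))))
 (N (N (N (N (L 5256)
 (L 4854))
 (N (L 2469)
 (L 9128)))
 (N (N (L 2081)
 (L 8550))
 (N (L 8732)
 (L 676))))
 (N (N (N (L 2294)
 (L 1614))
 (N (L 12066)
 (L 12335)))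
 (N (N (L 3211)
 (L 9903))
 (L 3454)))))
 (N (N (N (N (N (L 4381)
 (L 12761))
 (N (L 11817)
 (L 6372)))
 (N (N (L 11111)
 (L 13895))
 (N (L 4087)
 (L 8989))))
 (N (N (N (L 9721)
 (L 11199))
 (N (L 7913)
 (L 10727)))
 (N (N (L 9752)
 (L 12340))
 (L 8438))))
 (N (N (N (N (L 6782)
 (L 2143))
 (N (L 2781)
 (L 10036)))
 (N (N (L 8611)
 (L 9609))
 (N (L 11713)
 (L 13854))))
 (N (N (N (L 8118)
 (L 8612))
 (N (L 2116)
 (L 14012)))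
 (N (N (L 13881)
 (L 11949))
 (L 13263)))))))
 (N (N (N (N (N (N (N (L 11695)
 (L 5626))
 (N (L 10370)
 (L 2395)))
 (N (N (L 9743)
 (L 7229))
 (N (L 3465)
 (L 13557))))
 (N (N (N (L 2614)
 (L 14305))
 (N (L 401)
 (L 250)))
 (N (N (L 5231)
 (L 15089))
 (L 12201))))
 (N (N (N (N (L 11615)
 (L 8671))
 (N (L 10407)
 (L 6273)))
 (N (N (L 11963)
 (L 2184))
 (N (L 373)
 (L 6230))))
 (N (N (N (L 8954)
 (L 5555))
 (N (L 10038)
 (L 1323)))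
 (N (N (L 7386)
 (L 14870))
 (L 7313)))))
 (N (N (N (N (N (L 2481)
 (L 2282))
 (N (L 2933)
 (L 238)))
 (N (N (L 5379)
 (L 11500))
 (N (L 6181)
 (L 10165))))
 (N (N (N (L 8760)
 (L 6779))
 (N (L 8332)
 (L 1825)))
 (N (N (L 826)
 (L 13747))
 (L 9374))))
 (N (N (N (N (L 11978)
 (L 14722))
 (N (L 9083)
 (L 538)))
 (N (N (L 7430)
 (L 9543))
 (N (L 13929)
 (L 1016))))
 (N (N (N (L 8837)
 (L 161))
 (N (L 12928)
 (L 9206)))
 (N (N (L 11752)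
 (L 8))
 (L 14372))))))
 (N (N (N (N (N (N (L 3970)
 (L 8422))
 (N (L 10845)
 (L 2028)))
 (N (N (L 3107)
 (L 600))
 (N (L 4877)
 (L 1226))))
 (N (N (N (L 6661)
 (L 14229))
 (N (L 9797)
 (L 3145)))
 (N (N (L 2611)
 (L 5090))
 (L 13269))))
 (N (N (N (N (L 4586)
 (L 11215))
 (N (L 8324)
 (L 8001)))
 (N (N (L 11826)
 (L 1837))
 (N (L 11344)
 (L 9820))))
 (N (N (N (L 4633)
 (L 4757))
 (N (L 9310)
 (L 4976)))
 (N (N (L 6761)
 (L 6097))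
 (L 9308)))))
 (N (N (N (N (N (L 14901)
 (L 9572))
 (N (L 2148)
 (L 14228)))
 (N (N (L 13989)
 (L 3672))
 (N (L 1356)
 (L 2312))))
 (N (N (N (L 9590)
 (L 2316))
 (N (L 5184)
 (L 6993)))
 (N (N (L 14334)
 (L 10172))
 (L 14148))))
 (N (N (N (N (L 4684)
 (L 15213))
 (N (L 14327)
 (L 12184)))
 (N (N (L 1442)
 (L 14146))
 (N (L 14738)
 (L 1244))))
 (N (N (N (L 5961)
 (L 2041))
 (N (L 3288)
 (L 7027)))
 (N (N (L 758)
 (L 11893))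
 (L 1166))))))))
 (N (N (N (N (N (N (N (N (L 13637)
 (L 1941))
 (N (L 12870)
 (L 6672)))
 (N (N (L 6748)
 (L 788))
 (N (L 11936)
 (L 11953))))
 (N (N (N (L 9368)
 (L 6427))
 (N (L 9730)
 (L 10833)))
 (N (N (L 14790)
 (L 13682))
 (N (L 8957)
 (L 1662)))))
 (N (N (N (N (L 15102)
 (L 8914))
 (N (L 5111)
 (L 10248)))
 (N (N (L 353)
 (L 11292))
 (N (L 6974)
 (L 6428))))
 (N (N (N (L 15233)
 (L 92))
 (N (L 3003)
 (L 4425)))
 (N (N (L 11044)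
 (L 9035))
 (L 58)))))
 (N (N (N (N (N (L 13827)
 (L 2745))
 (N (L 7432)
 (L 2568)))
 (N (N (L 3289)
 (L 7646))
 (N (L 1824)
 (L 14037))))
 (N (N (N (L 10349)
 (L 1834))
 (N (L 7758)
 (L 11474)))
 (N (N (L 7364)
 (L 7940))
 (L 9235))))
 (N (N (N (N (L 8113)
 (L 10680))
 (N (L 8556)
 (L 13892)))
 (N (N (L 8375)
 (L 15304))
 (N (L 2736)
 (L 3606))))
 (N (N (N (L 5383)
 (L 14250))
 (N (L 12449)
 (L 8224)))
 (N (N (L 6830)
 (L 4180))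
 (L 3880))))))
 (N (N (N (N (N (N (L 5712)
 (L 6096))
 (N (L 5003)
 (L 5477)))
 (N (N (L 3786)
 (L 6559))
 (N (L 12228)
 (L 1041))))
 (N (N (N (L 7938)
 (L 11326))
 (N (L 1284)
 (L 594)))
 (N (N (L 13357)
 (L 10517))
 (L 2065))))
 (N (N (N (N (L 2038)
 (L 571))
 (N (L 2302)
 (L 15255)))
 (N (N (L 5748)
 (L 486))
 (N (L 8457)
 (L 11361))))
 (N (N (N (L 1520)
 (L 12804))
 (N (L 4284)
 (L 6237)))
 (N (N (L 11297)
 (L 7414))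
 (L 1767)))))
 (N (N (N (N (N (L 2055)
 (L 658))
 (N (L 11760)
 (L 8143)))
 (N (N (L 4947)
 (L 10776))
 (N (L 3123)
 (L 360))))
 (N (N (N (L 307)
 (L 11561))
 (N (L 12375)
 (L 2619)))
 (N (N (L 10598)
 (L 8344))
 (L 7023))))
 (N (N (N (N (L 9525)
 (L 14949))
 (N (L 949)
 (L 13046)))
 (N (N (L 3188)
 (L 8783))
 (N (L 8257)
 (L 1811))))
 (N (N (N (L 11735)
 (L 1026))
 (N (L 13114)
 (L 8931)))
 (N (N (L 12580)
 (L 31))
 (L 11776)))))))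
 (N (N (N (N (N (N (N (L 1084)
 (L 3357))
 (N (L 13183)
 (L 15028)))
 (N (N (L 13835)
 (L 15046))
 (N (L 8708)
 (L 8879))))
 (N (N (N (L 10806)
 (L 6542))
 (N (L 8982)
 (L 11240)))
 (N (N (L 14511)
 (L 14141))
 (L 13756))))
 (N (N (N (N (L 3452)
 (L 10320))
 (N (L 9207)
 (L 13396)))
 (N (N (L 13313)
 (L 8600))
 (N (L 6009)
 (L 434))))
 (N (N (N (L 779)
 (L 5145))
 (N (L 10005)
 (L 7101)))
 (N (N (L 3665)
 (L 7711))
 (L 14872)))))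
 (N (N (N (N (N (L 9392)
 (L 6740))
 (N (L 6724)
 (L 9379)))
 (N (N (L 3747)
 (L 11552))
 (N (L 4593)
 (L 9778))))
 (N (N (N (L 9848)
 (L 1772))
 (N (L 731)
 (L 14594)))
 (N (N (L 1909)
 (L 5391))
 (L 9489))))
 (N (N (N (N (L 3485)
 (L 2511))
 (N (L 11661)
 (L 5797)))
 (N (N (L 14721)
 (L 2262))
 (N (L 205)
 (L 13504))))
 (N (N (N (L 4804)
 (L 9238))
 (N (L 1300)
 (L 3391)))
 (N (N (L 12568)
 (L 8777))
 (L 10766))))))
 (N (N (N (N (N (N (L 5063)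
 (L 6799))
 (N (L 326)
 (L 8561)))
 (N (N (L 1699)
 (L 15232))
 (N (L 11367)
 (L 7060))))
 (N (N (N (L 4306)
 (L 13304))
 (N (L 915)
 (L 5205)))
 (N (N (L 4731)
 (L 7187))
 (L 7034))))
 (N (N (N (N (L 3810)
 (L 6614))
 (N (L 7218)
 (L 12694)))
 (N (N (L 704)
 (L 9847))
 (N (L 11982)
 (L 13753))))
 (N (N (N (L 588)
 (L 1405))
 (N (L 78)
 (L 15030)))
 (N (N (L 9208)
 (L 1470))
 (L 13110)))))
 (N (N (N (N (N (L 9244)
 (L 11503))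
 (N (L 7764)
 (L 8629)))
 (N (N (L 12745)
 (L 15373))
 (N (L 9393)
 (L 4400))))
 (N (N (N (L 11787)
 (L 7155))
 (N (L 10259)
 (L 13461)))
 (N (N (L 4882)
 (L 12824))
 (L 5532))))
 (N (N (N (N (L 2635)
 (L 798))
 (N (L 6227)
 (L 9011)))
 (N (N (L 5284)
 (L 15254))
 (N (L 1186)
 (L 1843))))
 (N (N (N (L 2914)
 (L 3780))
 (N (L 12868)
 (L 3278)))
 (N (N (L 10379)
 (L 5875))
 (L 6712)))))))))
 (N (N (N (N (N (N (N (N (N (L 5129)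
 (L 10037))
 (N (L 14017)
 (L 2590)))
 (N (N (L 13792)
 (L 8875))
 (N (L 6192)
 (L 9704))))
 (N (N (N (L 8073)
 (L 3097))
 (N (L 7874)
 (L 11351)))
 (N (N (L 2037)
 (L 5057))
 (N (L 7536)
 (L 2814)))))
 (N (N (N (N (L 8061)
 (L 12041))
 (N (L 6381)
 (L 11499)))
 (N (N (L 2784)
 (L 15142))
 (N (L 11283)
 (L 4626))))
 (N (N (N (L 13940)
 (L 10849))
 (N (L 4516)
 (L 7427)))
 (N (N (L 1390)
 (L 12722))
 (L 3437)))))
 (N (N (N (N (N (L 4545)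
 (L 4261))
 (N (L 7720)
 (L 2034)))
 (N (N (L 6029)
 (L 10894))
 (N (L 10931)
 (L 10410))))
 (N (N (N (L 9667)
 (L 2212))
 (N (L 2198)
 (L 14512)))
 (N (N (L 5052)
 (L 807))
 (L 13383))))
 (N (N (N (N (L 15189)
 (L 14150))
 (N (L 9141)
 (L 7721)))
 (N (N (L 14136)
 (L 1991))
 (N (L 5750)
 (L 961))))
 (N (N (N (L 847)
 (L 8748))
 (N (L 3227)
 (L 1031)))
 (N (N (L 14295)
 (L 514))
 (L 13475))))))
 (N (N (N (N (N (N (L 10612)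
 (L 6205))
 (N (L 1152)
 (L 7424)))
 (N (N (L 2263)
 (L 2530))
 (N (L 7723)
 (L 11452))))
 (N (N (N (L 10010)
 (L 407))
 (N (L 7125)
 (L 13743)))
 (N (N (L 9953)
 (L 5933))
 (L 4092))))
 (N (N (N (N (L 9351)
 (L 2562))
 (N (L 6887)
 (L 14090)))
 (N (N (L 1035)
 (L 3696))
 (N (L 7064)
 (L 5897))))
 (N (N (N (L 5)
 (L 10064))
 (N (L 12343)
 (L 11773)))
 (N (N (L 9258)
 (L 10485))
 (L 11757)))))
 (N (N (N (N (N (L 569)
 (L 2512))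
 (N (L 12439)
 (L 10737)))
 (N (N (L 8203)
 (L 4827))
 (N (L 12133)
 (L 2394))))
 (N (N (N (L 9659)
 (L 774))
 (N (L 11504)
 (L 9870)))
 (N (N (L 4458)
 (L 14248))
 (L 14245))))
 (N (N (N (N (L 5642)
 (L 7337))
 (N (L 7772)
 (L 3155)))
 (N (N (L 15295)
 (L 2259))
 (N (L 11728)
 (L 1209))))
 (N (N (N (L 6902)
 (L 3434))
 (N (L 9096)
 (L 6788)))
 (N (N (L 7288)
 (L 6536))
 (L 795)))))))
 (N (N (N (N (N (N (N (L 7411)
 (L 8501))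
 (N (L 11086)
 (L 10573)))
 (N (N (L 1313)
 (L 10919))
 (N (L 2812)
 (L 13123))))
 (N (N (N (L 13986)
 (L 2762))
 (N (L 146)
 (L 14741)))
 (N (N (L 10325)
 (L 4960))
 (L 41))))
 (N (N (N (N (L 13150)
 (L 466))
 (N (L 15334)
 (L 8419)))
 (N (N (L 718)
 (L 2637))
 (N (L 1637)
 (L 2063))))
 (N (N (N (L 280)
 (L 15145))
 (N (L 5013)
 (L 12767)))
 (N (N (L 1920)
 (L 13427))
 (L 7108)))))
 (N (N (N (N (N (L 7148)
 (L 12944))
 (N (L 3563)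
 (L 13878)))
 (N (N (L 4119)
 (L 6594))
 (N (L 2224)
 (L 2476))))
 (N (N (N (L 2397)
 (L 6352))
 (N (L 12675)
 (L 4589)))
 (N (N (L 12044)
 (L 2837))
 (L 3593))))
 (N (N (N (N (L 598)
 (L 12777))
 (N (L 6604)
 (L 13733)))
 (N (N (L 11878)
 (L 13981))
 (N (L 14681)
 (L 10313))))
 (N (N (N (L 15265)
 (L 11334))
 (N (L 1580)
 (L 14516)))
 (N (N (L 10999)
 (L 10090))
 (L 298))))))
 (N (N (N (N (N (N (L 9597)
 (L 6670))
 (N (L 6033)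
 (L 15001)))
 (N (N (L 381)
 (L 6797))
 (N (L 2835)
 (L 13016))))
 (N (N (N (L 8880)
 (L 12365))
 (N (L 13661)
 (L 4377)))
 (N (N (L 870)
 (L 6897))
 (L 4165))))
 (N (N (N (N (L 10745)
 (L 3698))
 (N (L 14360)
 (L 4408)))
 (N (N (L 7433)
 (L 8395))
 (N (L 6682)
 (L 1946))))
 (N (N (N (L 11508)
 (L 306))
 (N (L 533)
 (L 7028)))
 (N (N (L 14302)
 (L 9287))
 (L 2200)))))
 (N (N (N (N (N (L 13597)
 (L 5564))
 (N (L 13006)
 (L 6486)))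
 (N (N (L 1836)
 (L 13321))
 (N (L 2593)
 (L 336))))
 (N (N (N (L 9570)
 (L 11182))
 (N (L 6704)
 (L 14830)))
 (N (N (L 118)
 (L 12068))
 (L 6702))))
 (N (N (N (N (L 8592)
 (L 11872))
 (N (L 6422)
 (L 14290)))
 (N (N (L 13582)
 (L 2992))
 (N (L 13915)
 (L 6687))))
 (N (N (N (L 5497)
 (L 135))
 (N (L 10174)
 (L 1568)))
 (N (N (L 4483)
 (L 8222))
 (L 10534))))))))
 (N (N (N (N (N (N (N (N (L 11788)
 (L 2676))
 (N (L 7230)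
 (L 10971)))
 (N (N (L 2310)
 (L 13942))
 (N (L 7159)
 (L 9334))))
 (N (N (N (L 9454)
 (L 13121))
 (N (L 3166)
 (L 9087)))
 (N (N (L 9634)
 (L 9842))
 (L 8597))))
 (N (N (N (N (L 13757)
 (L 6415))
 (N (L 9502)
 (L 15122)))
 (N (N (L 7647)
 (L 10253))
 (N (L 4468)
 (L 9036))))
 (N (N (N (L 15079)
 (L 13720))
 (N (L 1514)
 (L 3356)))
 (N (N (L 11114)
 (L 14390))
 (L 2075)))))
 (N (N (N (N (N (L 9718)
 (L 11939))
 (N (L 6411)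
 (L 7978)))
 (N (N (L 11808)
 (L 9645))
 (N (L 11692)
 (L 4970))))
 (N (N (N (L 10611)
 (L 4794))
 (N (L 8187)
 (L 3621)))
 (N (N (L 1332)
 (L 7372))
 (L 8256))))
 (N (N (N (N (L 946)
 (L 3551))
 (N (L 9826)
 (L 15209)))
 (N (N (L 8182)
 (L 2652))
 (N (L 14176)
 (L 3284))))
 (N (N (N (L 2030)
 (L 3045))
 (N (L 4158)
 (L 4953)))
 (N (N (L 12946)
 (L 14782))
 (L 11328))))))
 (N (N (N (N (N (N (L 10039)
 (L 15378))
 (N (L 14787)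
 (L 4550)))
 (N (N (L 3458)
 (L 8321))
 (N (L 8411)
 (L 4439))))
 (N (N (N (L 2051)
 (L 6456))
 (N (L 6516)
 (L 14434)))
 (N (N (L 4188)
 (L 6578))
 (L 11828))))
 (N (N (N (N (L 10575)
 (L 5385))
 (N (L 9916)
 (L 14977)))
 (N (N (L 8316)
 (L 11556))
 (N (L 11314)
 (L 10666))))
 (N (N (N (L 8475)
 (L 12161))
 (N (L 13625)
 (L 11348)))
 (N (N (L 10144)
 (L 12092))
 (L 4721)))))
 (N (N (N (N (N (L 8520)
 (L 3235))
 (N (L 7653)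
 (L 3476)))
 (N (N (L 11985)
 (L 10102))
 (N (L 9846)
 (L 13810))))
 (N (N (N (L 11138)
 (L 14458))
 (N (L 3778)
 (L 11053)))
 (N (N (L 8581)
 (L 7733))
 (L 10938))))
 (N (N (N (N (L 1373)
 (L 14034))
 (N (L 13333)
 (L 8750)))
 (N (N (L 6130)
 (L 2894))
 (N (L 6334)
 (L 13603))))
 (N (N (N (L 5907)
 (L 10576))
 (N (L 6332)
 (L 5438)))
 (N (N (L 10910)
 (L 9295))
 (L 1864)))))))
 (N (N (N (N (N (N (N (L 2570)
 (L 9510))
 (N (L 4156)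
 (L 1330)))
 (N (N (L 14436)
 (L 330))
 (N (L 7865)
 (L 10952))))
 (N (N (N (L 9013)
 (L 13621))
 (N (L 11640)
 (L 1694)))
 (N (N (L 2159)
 (L 2436))
 (L 1558))))
 (N (N (N (N (L 3195)
 (L 9429))
 (N (L 12525)
 (L 1479)))
 (N (N (L 3876)
 (L 8945))
 (N (L 10193)
 (L 4730))))
 (N (N (N (L 1605)
 (L 12844))
 (N (L 14172)
 (L 1312)))
 (N (N (L 11021)
 (L 11687))
 (L 4855)))))
 (N (N (N (N (N (L 10178)
 (L 4080))
 (N (L 5394)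
 (L 11841)))
 (N (N (L 4432)
 (L 2750))
 (N (L 12587)
 (L 8909))))
 (N (N (N (L 4755)
 (L 1217))
 (N (L 9051)
 (L 8290)))
 (N (N (L 5766)
 (L 6629))
 (L 3201))))
 (N (N (N (N (L 13257)
 (L 12603))
 (N (L 510)
 (L 6138)))
 (N (N (L 8176)
 (L 14151))
 (N (L 197)
 (L 9164))))
 (N (N (N (L 742)
 (L 4745))
 (N (L 5916)
 (L 5224)))
 (N (N (L 7374)
 (L 15134))
 (L 6645))))))
 (N (N (N (N (N (N (L 11255)
 (L 609))
 (N (L 4774)
 (L 1343)))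
 (N (N (L 10091)
 (L 12725))
 (N (L 8062)
 (L 14698))))
 (N (N (N (L 11329)
 (L 8441))
 (N (L 10600)
 (L 14325)))
 (N (N (L 14447)
 (L 902))
 (L 9283))))
 (N (N (N (N (L 2728)
 (L 1334))
 (N (L 10606)
 (L 7219)))
 (N (N (L 5494)
 (L 705))
 (N (L 6326)
 (L 3624))))
 (N (N (N (L 10980)
 (L 10945))
 (N (L 11653)
 (L 4374)))
 (N (N (L 5558)
 (L 10913))
 (L 9690)))))
 (N (N (N (N (N (L 6195)
 (L 14446))
 (N (L 5121)
 (L 4620)))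
 (N (N (L 9202)
 (L 11775))
 (N (L 10784)
 (L 11983))))
 (N (N (N (L 3159)
 (L 1976))
 (N (L 14662)
 (L 15291)))
 (N (N (L 3481)
 (L 10150))
 (L 14192))))
 (N (N (N (N (L 2539)
 (L 970))
 (N (L 11218)
 (L 13103)))
 (N (N (L 794)
 (L 14165))
 (N (L 12743)
 (L 9133))))
 (N (N (N (L 14706)
 (L 13639))
 (N (L 11992)
 (L 11058)))
 (N (N (L 12225)
 (L 3371))
 (L 6270))))))))))
 (N (N (N (N (N (N (N (N (N (N (L 3082)
 (L 5927))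
 (N (L 6479)
 (L 13931)))
 (N (N (L 3189)
 (L 13489))
 (N (L 9912)
 (L 7039))))
 (N (N (N (L 9354)
 (L 12566))
 (N (L 1752)
 (L 7989)))
 (N (N (L 12064)
 (L 13784))
 (N (L 12140)
 (L 12290)))))
 (N (N (N (N (L 1118)
 (L 187))
 (N (L 4492)
 (L 753)))
 (N (N (L 3532)
 (L 8209))
 (N (L 7554)
 (L 6513))))
 (N (N (N (L 8647)
 (L 5996))
 (N (L 5300)
 (L 400)))
 (N (N (L 4507)
 (L 7301))
 (L 3984)))))
 (N (N (N (N (N (L 737)
 (L 8337))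
 (N (L 5876)
 (L 3445)))
 (N (N (L 857)
 (L 2365))
 (N (L 4572)
 (L 13078))))
 (N (N (N (L 7370)
 (L 6703))
 (N (L 4279)
 (L 3194)))
 (N (N (L 2461)
 (L 3089))
 (L 4358))))
 (N (N (N (N (L 13007)
 (L 13752))
 (N (L 608)
 (L 5469)))
 (N (N (L 3251)
 (L 11485))
 (N (L 10378)
 (L 318))))
 (N (N (N (L 12191)
 (L 11671))
 (N (L 13251)
 (L 10837)))
 (N (N (L 11122)
 (L 5936))
 (L 13552))))))
 (N (N (N (N (N (N (L 2903)
 (L 8282))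
 (N (L 4553)
 (L 10389)))
 (N (N (L 14770)
 (L 5560))
 (N (L 13294)
 (L 1221))))
 (N (N (N (L 180)
 (L 3185))
 (N (L 4594)
 (L 1700)))
 (N (N (L 1876)
 (L 1882))
 (L 15234))))
 (N (N (N (N (L 3041)
 (L 1845))
 (N (L 15008)
 (L 4493)))
 (N (N (L 4916)
 (L 496))
 (N (L 7657)
 (L 10694))))
 (N (N (N (L 5144)
 (L 6589))
 (N (L 12528)
 (L 2681)))
 (N (N (L 6870)
 (L 8574))
 (L 2842)))))
 (N (N (N (N (N (L 11995)
 (L 2253))
 (N (L 5885)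
 (L 10384)))
 (N (N (L 2990)
 (L 1787))
 (N (L 11222)
 (L 8123))))
 (N (N (N (L 14890)
 (L 8289))
 (N (L 11682)
 (L 13385)))
 (N (N (L 5085)
 (L 14049))
 (L 12320))))
 (N (N (N (N (L 12740)
 (L 14545))
 (N (L 4136)
 (L 12573)))
 (N (N (L 13413)
 (L 1132))
 (N (L 13477)
 (L 10169))))
 (N (N (N (L 6814)
 (L 5689))
 (N (L 7181)
 (L 5686)))
 (N (N (L 10512)
 (L 7077))
 (L 7025)))))))
 (N (N (N (N (N (N (N (L 6961)
 (L 7766))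
 (N (L 8480)
 (L 6550)))
 (N (N (L 3945)
 (L 13590))
 (N (L 13292)
 (L 7149))))
 (N (N (N (L 12349)
 (L 10763))
 (N (L 7967)
 (L 4776)))
 (N (N (L 1528)
 (L 4994))
 (L 13936))))
 (N (N (N (N (L 6673)
 (L 8932))
 (N (L 249)
 (L 1272)))
 (N (N (L 14518)
 (L 2659))
 (N (L 8388)
 (L 7718))))
 (N (N (N (L 10719)
 (L 12478))
 (N (L 6300)
 (L 6027)))
 (N (N (L 296)
 (L 9016))
 (L 11656)))))
 (N (N (N (N (N (L 4629)
 (L 10615))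
 (N (L 12831)
 (L 11401)))
 (N (N (L 13220)
 (L 5609))
 (N (L 3239)
 (L 14500))))
 (N (N (N (L 11544)
 (L 9861))
 (N (L 12575)
 (L 5925)))
 (N (N (L 7909)
 (L 12230))
 (L 12192))))
 (N (N (N (N (L 13447)
 (L 9758))
 (N (L 1969)
 (L 12278)))
 (N (N (L 5181)
 (L 9683))
 (N (L 11532)
 (L 1133))))
 (N (N (N (L 3733)
 (L 1160))
 (N (L 11277)
 (L 817)))
 (N (N (L 12073)
 (L 2937))
 (L 8175))))))
 (N (N (N (N (N (N (L 12516)
 (L 12636))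
 (N (L 5591)
 (L 3059)))
 (N (N (L 6510)
 (L 6824))
 (N (L 5309)
 (L 5177))))
 (N (N (N (L 7587)
 (L 8152))
 (N (L 853)
 (L 14654)))
 (N (N (L 11214)
 (L 11154))
 (L 5165))))
 (N (N (N (N (L 14633)
 (L 10487))
 (N (L 10802)
 (L 836)))
 (N (N (L 10498)
 (L 9891))
 (N (L 1260)
 (L 1020))))
 (N (N (N (L 1141)
 (L 13535))
 (N (L 8855)
 (L 2035)))
 (N (N (L 14572)
 (L 4987))
 (L 1552)))))
 (N (N (N (N (N (L 6910)
 (L 6066))
 (N (L 9851)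
 (L 11888)))
 (N (N (L 5843)
 (L 9469))
 (N (L 14826)
 (L 14882))))
 (N (N (N (L 5126)
 (L 13519))
 (N (L 14189)
 (L 13119)))
 (N (N (L 8076)
 (L 11003))
 (L 12333))))
 (N (N (N (N (L 14748)
 (L 10444))
 (N (L 842)
 (L 6320)))
 (N (N (L 15303)
 (L 12093))
 (N (L 3908)
 (L 2215))))
 (N (N (N (L 3572)
 (L 7202))
 (N (L 4426)
 (L 3651)))
 (N (N (L 5693)
 (L 8031))
 (L 6935))))))))
 (N (N (N (N (N (N (N (N (L 2901)
 (L 12116))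
 (N (L 6236)
 (L 4732)))
 (N (N (L 2451)
 (L 6889))
 (N (L 13076)
 (L 14805))))
 (N (N (N (L 13665)
 (L 80))
 (N (L 2074)
 (L 9661)))
 (N (N (L 7293)
 (L 4240))
 (L 1228))))
 (N (N (N (N (L 4563)
 (L 2230))
 (N (L 14760)
 (L 917)))
 (N (N (L 7306)
 (L 8674))
 (N (L 7917)
 (L 14115))))
 (N (N (N (L 8838)
 (L 4417))
 (N (L 3965)
 (L 10086)))
 (N (N (L 12785)
 (L 6057))
 (L 1002)))))
 (N (N (N (N (N (L 6210)
 (L 2269))
 (N (L 879)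
 (L 7991)))
 (N (N (L 9371)
 (L 14742))
 (N (L 7353)
 (L 2994))))
 (N (N (N (L 8150)
 (L 5821))
 (N (L 712)
 (L 8725)))
 (N (N (L 10607)
 (L 643))
 (L 14933))))
 (N (N (N (N (L 10260)
 (L 12441))
 (N (L 10523)
 (L 1276)))
 (N (N (L 3658)
 (L 14121))
 (N (L 8865)
 (L 5435))))
 (N (N (N (L 11035)
 (L 7110))
 (N (L 4871)
 (L 3118)))
 (N (N (L 5948)
 (L 7945))
 (L 4619))))))
 (N (N (N (N (N (N (L 7684)
 (L 12119))
 (N (L 14992)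
 (L 12240)))
 (N (N (L 9224)
 (L 5870))
 (N (L 6752)
 (L 7642))))
 (N (N (N (L 50)
 (L 10836))
 (N (L 12440)
 (L 11920)))
 (N (N (L 3129)
 (L 14080))
 (L 13261))))
 (N (N (N (N (L 11927)
 (L 15103))
 (N (L 7640)
 (L 11892)))
 (N (N (L 13505)
 (L 9832))
 (N (L 9256)
 (L 5080))))
 (N (N (N (L 12545)
 (L 8864))
 (N (L 2309)
 (L 463)))
 (N (N (L 251)
 (L 3647))
 (L 6390)))))
 (N (N (N (N (N (L 9577)
 (L 4604))
 (N (L 4979)
 (L 3364)))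
 (N (N (L 839)
 (L 4746))
 (N (L 9460)
 (L 4644))))
 (N (N (N (L 4829)
 (L 2401))
 (N (L 3175)
 (L 316)))
 (N (N (L 398)
 (L 11457))
 (L 14208))))
 (N (N (N (N (L 6281)
 (L 7294))
 (N (L 4603)
 (L 4961)))
 (N (N (L 2266)
 (L 2987))
 (N (L 4503)
 (L 10404))))
 (N (N (N (L 10142)
 (L 7737))
 (N (L 11758)
 (L 5773)))
 (N (N (L 2870)
 (L 6154))
 (L 14618)))))))
 (N (N (N (N (N (N (N (L 958)
 (L 15187))
 (N (L 14196)
 (L 9333)))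
 (N (N (L 11531)
 (L 13231))
 (N (L 4334)
 (L 845))))
 (N (N (N (L 9143)
 (L 13917))
 (N (L 13529)
 (L 7402)))
 (N (N (L 11535)
 (L 7192))
 (L 14455))))
 (N (N (N (N (L 7214)
 (L 2583))
 (N (L 13623)
 (L 8067)))
 (N (N (L 8027)
 (L 3036))
 (N (L 6938)
 (L 13780))))
 (N (N (N (L 1009)
 (L 9698))
 (N (L 1187)
 (L 15333)))
 (N (N (L 12917)
 (L 4216))
 (L 9336)))))
 (N (N (N (N (N (L 6566)
 (L 2290))
 (N (L 9675)
 (L 2496)))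
 (N (N (L 13407)
 (L 7611))
 (N (L 12956)
 (L 6339))))
 (N (N (N (L 10618)
 (L 1546))
 (N (L 9984)
 (L 1150)))
 (N (N (L 2601)
 (L 10554))
 (L 10319))))
 (N (N (N (N (L 7321)
 (L 13416))
 (N (L 357)
 (L 4445)))
 (N (N (L 10043)
 (L 13571))
 (N (L 6869)
 (L 15229))))
 (N (N (N (L 6092)
 (L 6659))
 (N (L 7685)
 (L 11715)))
 (N (N (L 6461)
 (L 8983))
 (L 7019))))))
 (N (N (N (N (N (N (L 11719)
 (L 5431))
 (N (L 10605)
 (L 10215)))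
 (N (N (L 14211)
 (L 10822))
 (N (L 5665)
 (L 1518))))
 (N (N (N (L 6771)
 (L 14241))
 (N (L 14713)
 (L 10152)))
 (N (N (L 14366)
 (L 12391))
 (L 10163))))
 (N (N (N (N (L 1971)
 (L 11287))
 (N (L 12680)
 (L 5945)))
 (N (N (L 2984)
 (L 811))
 (N (L 7880)
 (L 12897))))
 (N (N (N (L 11320)
 (L 12164))
 (N (L 11820)
 (L 3117)))
 (N (N (L 12867)
 (L 4230))
 (L 3231)))))
 (N (N (N (N (N (L 4700)
 (L 3329))
 (N (L 40)
 (L 10374)))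
 (N (N (L 10715)
 (L 12560))
 (N (L 4697)
 (L 5320))))
 (N (N (N (L 12669)
 (L 12328))
 (N (L 12555)
 (L 15044)))
 (N (N (L 6120)
 (L 12400))
 (L 4409))))
 (N (N (N (N (L 13033)
 (L 14912))
 (N (L 12658)
 (L 4107)))
 (N (N (L 959)
 (L 10559))
 (N (L 7024)
 (L 12452))))
 (N (N (N (L 9688)
 (L 5199))
 (N (L 7473)
 (L 5106)))
 (N (N (L 455)
 (L 10075))
 (L 3774)))))))))
 (N (N (N (N (N (N (N (N (N (L 9409)
 (L 1137))
 (N (L 12356)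
 (L 171)))
 (N (N (L 15196)
 (L 14677))
 (N (L 14929)
 (L 14891))))
 (N (N (N (L 1391)
 (L 11941))
 (N (L 605)
 (L 456)))
 (N (N (L 9812)
 (L 11918))
 (N (L 13925)
 (L 5168)))))
 (N (N (N (N (L 6089)
 (L 10991))
 (N (L 651)
 (L 6095)))
 (N (N (L 6216)
 (L 9839))
 (N (L 11608)
 (L 1671))))
 (N (N (N (L 12613)
 (L 10957))
 (N (L 3947)
 (L 13457)))
 (N (N (L 14650)
 (L 10877))
 (L 10867)))))
 (N (N (N (N (N (L 1696)
 (L 5271))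
 (N (L 11043)
 (L 10871)))
 (N (N (L 10131)
 (L 2242))
 (N (L 11310)
 (L 2807))))
 (N (N (N (L 5329)
 (L 11278))
 (N (L 1448)
 (L 5006)))
 (N (N (L 10647)
 (L 13865))
 (L 13235))))
 (N (N (N (N (L 5304)
 (L 4570))
 (N (L 14210)
 (L 8546)))
 (N (N (L 6792)
 (L 15360))
 (N (L 4689)
 (L 7398))))
 (N (N (N (L 4151)
 (L 6821))
 (N (L 1106)
 (L 6086)))
 (N (N (L 4407)
 (L 1413))
 (L 9665))))))
 (N (N (N (N (N (N (L 10828)
 (L 3958))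
 (N (L 13515)
 (L 13107)))
 (N (N (L 10164)
 (L 4577))
 (N (L 1386)
 (L 7556))))
 (N (N (N (L 2603)
 (L 11824))
 (N (L 5328)
 (L 10820)))
 (N (N (L 977)
 (L 11208))
 (L 6610))))
 (N (N (N (N (L 7088)
 (L 7926))
 (N (L 303)
 (L 11254)))
 (N (N (L 10258)
 (L 2660))
 (N (L 1367)
 (L 8303))))
 (N (N (N (L 4967)
 (L 13979))
 (N (L 493)
 (L 945)))
 (N (N (L 15354)
 (L 8607))
 (L 13498)))))
 (N (N (N (N (N (L 14456)
 (L 8205))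
 (N (L 8918)
 (L 3187)))
 (N (N (L 4438)
 (L 4661))
 (N (L 7079)
 (L 4716))))
 (N (N (N (L 6065)
 (L 6340))
 (N (L 7213)
 (L 3689)))
 (N (N (L 756)
 (L 15199))
 (L 4193))))
 (N (N (N (N (L 12894)
 (L 15396))
 (N (L 5786)
 (L 13148)))
 (N (N (L 15252)
 (L 462))
 (N (L 10048)
 (L 5276))))
 (N (N (N (L 5508)
 (L 5207))
 (N (L 11318)
 (L 12035)))
 (N (N (L 4687)
 (L 1419))
 (L 1801)))))))
 (N (N (N (N (N (N (N (L 14716)
 (L 8459))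
 (N (L 6004)
 (L 5646)))
 (N (N (L 893)
 (L 14702))
 (N (L 7243)
 (L 2961))))
 (N (N (N (L 6017)
 (L 7093))
 (N (L 5579)
 (L 11205)))
 (N (N (L 14280)
 (L 14061))
 (L 11404))))
 (N (N (N (N (L 3487)
 (L 10951))
 (N (L 8461)
 (L 3099)))
 (N (N (L 225)
 (L 15138))
 (N (L 12807)
 (L 7729))))
 (N (N (N (L 8553)
 (L 12542))
 (N (L 12324)
 (L 15058)))
 (N (N (L 5607)
 (L 14402))
 (L 7383)))))
 (N (N (N (N (N (L 9960)
 (L 8369))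
 (N (L 7194)
 (L 1674)))
 (N (N (L 7033)
 (L 11360))
 (N (L 6553)
 (L 13021))))
 (N (N (N (L 7476)
 (L 15353))
 (N (L 7837)
 (L 2883)))
 (N (N (L 3010)
 (L 8589))
 (L 7698))))
 (N (N (N (N (L 11864)
 (L 2809))
 (N (L 5992)
 (L 10462)))
 (N (N (L 14478)
 (L 7859))
 (N (L 13388)
 (L 3140))))
 (N (N (N (L 10284)
 (L 12028))
 (N (L 14416)
 (L 793)))
 (N (N (L 8473)
 (L 688))
 (L 14930))))))
 (N (N (N (N (N (N (L 11876)
 (L 5963))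
 (N (L 11842)
 (L 6026)))
 (N (N (L 11158)
 (L 158))
 (N (L 5968)
 (L 7012))))
 (N (N (N (L 11468)
 (L 11444))
 (N (L 7995)
 (L 12242)))
 (N (N (L 5888)
 (L 7810))
 (L 4718))))
 (N (N (N (N (L 6933)
 (L 9464))
 (N (L 5398)
 (L 11721)))
 (N (N (L 5327)
 (L 12717))
 (N (L 6732)
 (L 1862))))
 (N (N (N (L 12259)
 (L 8733))
 (N (L 5569)
 (L 4999)))
 (N (N (L 14548)
 (L 4282))
 (L 12728)))))
 (N (N (N (N (N (L 4908)
 (L 267))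
 (N (L 13112)
 (L 4363)))
 (N (N (L 11042)
 (L 4084))
 (N (L 12429)
 (L 8251))))
 (N (N (N (L 14687)
 (L 10041))
 (N (L 4131)
 (L 10927)))
 (N (N (L 6923)
 (L 8807))
 (L 13598))))
 (N (N (N (N (L 11020)
 (L 11741))
 (N (L 3501)
 (L 15162)))
 (N (N (L 3016)
 (L 6657))
 (N (L 12766)
 (L 1444))))
 (N (N (N (L 9007)
 (L 12065))
 (N (L 297)
 (L 4921)))
 (N (N (L 5377)
 (L 13876))
 (L 10252))))))))
 (N (N (N (N (N (N (N (N (L 3397)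
 (L 1488))
 (N (L 14481)
 (L 1430)))
 (N (N (L 8130)
 (L 8937))
 (N (L 6159)
 (L 7038))))
 (N (N (N (L 741)
 (L 378))
 (N (L 12171)
 (L 11207)))
 (N (N (L 1108)
 (L 14796))
 (L 6275))))
 (N (N (N (N (L 9115)
 (L 14593))
 (N (L 10535)
 (L 11881)))
 (N (N (L 12097)
 (L 11914))
 (N (L 2719)
 (L 1884))))
 (N (N (N (L 2193)
 (L 13858))
 (N (L 7282)
 (L 939)))
 (N (N (L 13968)
 (L 14082))
 (L 11022)))))
 (N (N (N (N (N (L 12845)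
 (L 3137))
 (N (L 9386)
 (L 5990)))
 (N (N (L 10684)
 (L 5158))
 (N (L 3637)
 (L 6160))))
 (N (N (N (L 15331)
 (L 10279))
 (N (L 110)
 (L 12941)))
 (N (N (L 2893)
 (L 3650))
 (L 9364))))
 (N (N (N (N (L 13536)
 (L 2508))
 (N (L 6695)
 (L 14690)))
 (N (N (L 13735)
 (L 10622))
 (N (L 6341)
 (L 4141))))
 (N (N (N (L 7332)
 (L 2777))
 (N (L 7086)
 (L 11269)))
 (N (N (L 3415)
 (L 5793))
 (L 3104))))))
 (N (N (N (N (N (N (L 13271)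
 (L 14056))
 (N (L 2534)
 (L 8723)))
 (N (N (L 12454)
 (L 615))
 (N (L 13343)
 (L 2580))))
 (N (N (N (L 6389)
 (L 15069))
 (N (L 2538)
 (L 12999)))
 (N (N (L 10561)
 (L 10434))
 (L 8140))))
 (N (N (N (N (L 6718)
 (L 1188))
 (N (L 6404)
 (L 12482)))
 (N (N (L 11621)
 (L 5397))
 (N (L 10030)
 (L 56))))
 (N (N (N (L 15095)
 (L 10191))
 (N (L 3541)
 (L 6851)))
 (N (N (L 6781)
 (L 2892))
 (L 5760)))))
 (N (N (N (N (N (L 1464)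
 (L 7521))
 (N (L 4047)
 (L 14424)))
 (N (N (L 1460)
 (L 7777))
 (N (L 9513)
 (L 7047))))
 (N (N (N (L 15174)
 (L 2023))
 (N (L 513)
 (L 9113)))
 (N (N (L 6669)
 (L 11898))
 (L 5141))))
 (N (N (N (N (L 4321)
 (L 4927))
 (N (L 10992)
 (L 11784)))
 (N (N (L 632)
 (L 9381))
 (N (L 1538)
 (L 9252))))
 (N (N (N (L 13194)
 (L 3533))
 (N (L 5255)
 (L 14006)))
 (N (N (L 1618)
 (L 3968))
 (L 11170)))))))
 (N (N (N (N (N (N (N (L 7724)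
 (L 335))
 (N (L 10738)
 (L 10855)))
 (N (N (L 8912)
 (L 11835))
 (N (L 9536)
 (L 619))))
 (N (N (N (L 2873)
 (L 5151))
 (N (L 261)
 (L 6219)))
 (N (N (L 2815)
 (L 1717))
 (L 6534))))
 (N (N (N (N (L 6011)
 (L 2610))
 (N (L 9780)
 (L 7549)))
 (N (N (L 13072)
 (L 7615))
 (N (L 7413)
 (L 8109))))
 (N (N (N (L 3480)
 (L 13520))
 (N (L 10851)
 (L 13245)))
 (N (N (L 6090)
 (L 14894))
 (L 6164)))))
 (N (N (N (N (N (L 12964)
 (L 11527))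
 (N (L 6319)
 (L 584)))
 (N (N (L 13207)
 (L 14589))
 (N (L 4194)
 (L 1553))))
 (N (N (N (L 564)
 (L 7417))
 (N (L 7258)
 (L 752)))
 (N (N (L 4917)
 (L 7919))
 (L 8145))))
 (N (N (N (N (L 15130)
 (L 1980))
 (N (L 2995)
 (L 5841)))
 (N (N (L 12300)
 (L 4575))
 (N (L 4808)
 (L 6462))))
 (N (N (N (L 7950)
 (L 1434))
 (N (L 14665)
 (L 5376)))
 (N (N (L 12181)
 (L 10126))
 (L 11525))))))
 (N (N (N (N (N (N (L 13177)
 (L 14938))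
 (N (L 15156)
 (L 12433)))
 (N (N (L 5204)
 (L 963))
 (N (L 11381)
 (L 102))))
 (N (N (N (L 8258)
 (L 8158))
 (N (L 11724)
 (L 5966)))
 (N (N (L 5965)
 (L 1253))
 (L 14202))))
 (N (N (N (N (L 1146)
 (L 13317))
 (N (L 12382)
 (L 8105)))
 (N (N (L 2627)
 (L 13911))
 (N (L 1219)
 (L 4702))))
 (N (N (N (L 25)
 (L 11925))
 (N (L 12085)
 (L 9964)))
 (N (N (L 4888)
 (L 9657))
 (L 2086)))))
 (N (N (N (N (N (L 10904)
 (L 26))
 (N (L 13645)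
 (L 13856)))
 (N (N (L 2785)
 (L 7831))
 (N (L 4248)
 (L 3784))))
 (N (N (N (L 454)
 (L 15201))
 (N (L 14008)
 (L 1038)))
 (N (N (L 12070)
 (L 1392))
 (L 11761))))
 (N (N (N (N (L 15350)
 (L 5351))
 (N (L 14039)
 (L 9027)))
 (N (N (L 9414)
 (L 14234))
 (N (L 10899)
 (L 9989))))
 (N (N (N (L 10710)
 (L 2150))
 (N (L 12599)
 (L 11463)))
 (N (N (L 299)
 (L 1672))
 (L 10045)))))))))))
 (N (N (N (N (N (N (N (N (N (N (N (L 14113)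
 (L 2811))
 (N (L 4652)
 (L 9293)))
 (N (N (L 7649)
 (L 3535))
 (N (L 1805)
 (L 14479))))
 (N (N (N (L 10740)
 (L 227))
 (N (L 4184)
 (L 7272)))
 (N (N (L 13566)
 (L 10994))
 (N (L 5022)
 (L 4691)))))
 (N (N (N (N (L 2456)
 (L 11799))
 (N (L 11347)
 (L 1282)))
 (N (N (L 3154)
 (L 2731))
 (N (L 11718)
 (L 15125))))
 (N (N (N (L 2478)
 (L 2377))
 (N (L 2618)
 (L 12062)))
 (N (N (L 703)
 (L 7523))
 (L 10100)))))
 (N (N (N (N (N (L 10767)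
 (L 9991))
 (N (L 10993)
 (L 3909)))
 (N (N (L 6010)
 (L 13223))
 (N (L 12973)
 (L 1962))))
 (N (N (N (L 3559)
 (L 4365))
 (N (L 5483)
 (L 3553)))
 (N (N (L 925)
 (L 13441))
 (L 7365))))
 (N (N (N (N (L 12629)
 (L 13061))
 (N (L 8400)
 (L 12742)))
 (N (N (L 15358)
 (L 14953))
 (N (L 14413)
 (L 5935))))
 (N (N (N (L 4089)
 (L 10519))
 (N (L 13487)
 (L 10741)))
 (N (N (L 2723)
 (L 14104))
 (L 3326))))))
 (N (N (N (N (N (N (L 4083)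
 (L 11039))
 (N (L 10161)
 (L 15031)))
 (N (N (L 3957)
 (L 12659))
 (N (L 216)
 (L 13807))))
 (N (N (N (L 3913)
 (L 12983))
 (N (L 4308)
 (L 12561)))
 (N (N (L 7013)
 (L 4168))
 (L 12589))))
 (N (N (N (N (L 14831)
 (L 10443))
 (N (L 8436)
 (L 11516)))
 (N (N (L 15055)
 (L 10265))
 (N (L 9733)
 (L 7785))))
 (N (N (N (L 8788)
 (L 1893))
 (N (L 3176)
 (L 6142)))
 (N (N (L 647)
 (L 1230))
 (L 7811)))))
 (N (N (N (N (N (L 2607)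
 (L 7773))
 (N (L 1077)
 (L 8392)))
 (N (N (L 7216)
 (L 379))
 (N (L 8291)
 (L 358))))
 (N (N (N (L 14357)
 (L 359))
 (N (L 3032)
 (L 7512)))
 (N (N (L 4898)
 (L 5421))
 (L 8771))))
 (N (N (N (N (L 4627)
 (L 4036))
 (N (L 5801)
 (L 9426)))
 (N (N (L 14537)
 (L 8339))
 (N (L 10387)
 (L 10946))))
 (N (N (N (L 4982)
 (L 12063))
 (N (L 7317)
 (L 931)))
 (N (N (L 8904)
 (L 13853))
 (L 2962)))))))
 (N (N (N (N (N (N (N (L 10197)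
 (L 8212))
 (N (L 1176)
 (L 13851)))
 (N (N (L 3337)
 (L 3604))
 (N (L 9387)
 (L 7042))))
 (N (N (N (L 11068)
 (L 14361))
 (N (L 9418)
 (L 7465)))
 (N (N (L 3152)
 (L 15230))
 (L 5846))))
 (N (N (N (N (L 1828)
 (L 11798))
 (N (L 11958)
 (L 9702)))
 (N (N (L 2677)
 (L 629))
 (N (L 2643)
 (L 5303))))
 (N (N (N (L 5796)
 (L 2437))
 (N (L 13679)
 (L 6760)))
 (N (N (L 10171)
 (L 9068))
 (L 7551)))))
 (N (N (N (N (N (L 1763)
 (L 8348))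
 (N (L 6075)
 (L 7846)))
 (N (N (L 11414)
 (L 13129))
 (N (L 5608)
 (L 2764))))
 (N (N (N (L 2878)
 (L 6972))
 (N (L 12592)
 (L 8530)))
 (N (N (L 4595)
 (L 10989))
 (L 1886))))
 (N (N (N (N (L 10)
 (L 697))
 (N (L 2)
 (L 1914)))
 (N (N (L 1777)
 (L 5498))
 (N (L 11155)
 (L 1935))))
 (N (N (N (L 12579)
 (L 1477))
 (N (L 12279)
 (L 7339)))
 (N (N (L 6167)
 (L 3143))
 (L 13459))))))
 (N (N (N (N (N (N (L 5649)
 (L 7873))
 (N (L 12533)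
 (L 11932)))
 (N (N (L 11139)
 (L 14801))
 (N (L 10592)
 (L 11095))))
 (N (N (N (L 11717)
 (L 6148))
 (N (L 602)
 (L 8690)))
 (N (N (L 13888)
 (L 8768))
 (L 7838))))
 (N (N (N (N (L 14639)
 (L 10626))
 (N (L 13209)
 (L 14621)))
 (N (N (L 8541)
 (L 10644))
 (N (L 1321)
 (L 11819))))
 (N (N (N (L 12549)
 (L 3495))
 (N (L 8298)
 (L 7000)))
 (N (N (L 10591)
 (L 3406))
 (L 5215)))))
 (N (N (N (N (N (L 10918)
 (L 10072))
 (N (L 7958)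
 (L 9879)))
 (N (N (L 13589)
 (L 14631))
 (N (L 14807)
 (L 900))))
 (N (N (N (L 13201)
 (L 3761))
 (N (L 11353)
 (L 7544)))
 (N (N (L 659)
 (L 1196))
 (L 5182))))
 (N (N (N (N (L 2470)
 (L 760))
 (N (L 10986)
 (L 1415)))
 (N (N (L 7233)
 (L 6913))
 (N (L 9477)
 (L 2605))))
 (N (N (N (L 4740)
 (L 13809))
 (N (L 11592)
 (L 15312)))
 (N (N (L 15286)
 (L 8980))
 (L 13284))))))))
 (N (N (N (N (N (N (N (N (L 6455)
 (L 9121))
 (N (L 4101)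
 (L 9405)))
 (N (N (L 12020)
 (L 8808))
 (N (L 10146)
 (L 7261))))
 (N (N (N (L 11380)
 (L 4144))
 (N (L 14145)
 (L 12699)))
 (N (N (L 3456)
 (L 6476))
 (N (L 9455)
 (L 3260)))))
 (N (N (N (N (L 7444)
 (L 13184))
 (N (L 746)
 (L 12898)))
 (N (N (L 6296)
 (L 6380))
 (N (L 12735)
 (L 6350))))
 (N (N (N (L 8384)
 (L 15262))
 (N (L 5475)
 (L 8702)))
 (N (N (L 2501)
 (L 3534))
 (L 3150)))))
 (N (N (N (N (N (L 11854)
 (L 4340))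
 (N (L 15343)
 (L 15315)))
 (N (N (L 9892)
 (L 8305))
 (N (L 1649)
 (L 13804))))
 (N (N (N (L 11456)
 (L 9284))
 (N (L 1853)
 (L 662)))
 (N (N (L 8601)
 (L 9465))
 (L 4909))))
 (N (N (N (N (L 5959)
 (L 9910))
 (N (L 5422)
 (L 11821)))
 (N (N (L 2824)
 (L 12933))
 (N (L 8097)
 (L 7320))))
 (N (N (N (L 491)
 (L 3256))
 (N (L 1099)
 (L 4113)))
 (N (N (L 5359)
 (L 3315))
 (L 8023))))))
 (N (N (N (N (N (N (L 10403)
 (L 14264))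
 (N (L 13097)
 (L 3324)))
 (N (N (L 3776)
 (L 6139))
 (N (L 4058)
 (L 9747))))
 (N (N (N (L 4848)
 (L 14526))
 (N (L 10724)
 (L 15289)))
 (N (N (L 500)
 (L 888))
 (L 11202))))
 (N (N (N (N (L 1159)
 (L 3918))
 (N (L 14346)
 (L 8138)))
 (N (N (L 8093)
 (L 9608))
 (N (L 12873)
 (L 4020))))
 (N (N (N (L 9422)
 (L 1379))
 (N (L 13101)
 (L 12017)))
 (N (N (L 9213)
 (L 13525))
 (L 2856)))))
 (N (N (N (N (N (L 14138)
 (L 7482))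
 (N (L 3210)
 (L 14140)))
 (N (N (L 8613)
 (L 10753))
 (N (L 8696)
 (L 2877))))
 (N (N (N (L 12496)
 (L 10602))
 (N (L 12026)
 (L 12895)))
 (N (N (L 10104)
 (L 13247))
 (L 11794))))
 (N (N (N (N (L 4537)
 (L 13921))
 (N (L 3090)
 (L 11795)))
 (N (N (L 9325)
 (L 183))
 (N (L 5473)
 (L 2022))))
 (N (N (N (L 1301)
 (L 6769))
 (N (L 405)
 (L 6810)))
 (N (N (L 12239)
 (L 3510))
 (L 2033)))))))
 (N (N (N (N (N (N (N (L 14986)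
 (L 7137))
 (N (L 9771)
 (L 15082)))
 (N (N (L 12957)
 (L 3980))
 (N (L 15329)
 (L 6922))))
 (N (N (N (L 7186)
 (L 604))
 (N (L 14149)
 (L 6691)))
 (N (N (L 4506)
 (L 7349))
 (L 6354))))
 (N (N (N (N (L 10069)
 (L 3344))
 (N (L 9768)
 (L 13544)))
 (N (N (L 12678)
 (L 4622))
 (N (L 12130)
 (L 2818))))
 (N (N (N (L 10834)
 (L 4562))
 (N (L 5058)
 (L 14608)))
 (N (N (L 3263)
 (L 6681))
 (L 14507)))))
 (N (N (N (N (N (L 10083)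
 (L 11008))
 (N (L 3985)
 (L 12803)))
 (N (N (L 10797)
 (L 14731))
 (N (L 8407)
 (L 1459))))
 (N (N (N (L 8640)
 (L 7840))
 (N (L 12200)
 (L 10697)))
 (N (N (L 2591)
 (L 8310))
 (L 3828))))
 (N (N (N (N (L 2714)
 (L 12830))
 (N (L 11825)
 (L 1115)))
 (N (N (L 2163)
 (L 11213))
 (N (L 4019)
 (L 8818))))
 (N (N (N (L 9616)
 (L 563))
 (N (L 13785)
 (L 3428)))
 (N (N (L 14661)
 (L 4638))
 (L 7630))))))
 (N (N (N (N (N (N (L 9624)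
 (L 12923))
 (N (L 1806)
 (L 12488)))
 (N (N (L 437)
 (L 3742))
 (N (L 13969)
 (L 4756))))
 (N (N (N (L 12347)
 (L 11764))
 (N (L 14840)
 (L 2817)))
 (N (N (L 6950)
 (L 15035))
 (L 9476))))
 (N (N (N (N (L 10943)
 (L 11128))
 (N (L 11897)
 (L 7067)))
 (N (N (L 5762)
 (L 13228))
 (N (L 1794)
 (L 1212))))
 (N (N (N (L 11632)
 (L 4398))
 (N (L 4542)
 (L 11620)))
 (N (N (L 12074)
 (L 5467))
 (L 736)))))
 (N (N (N (N (N (L 11622)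
 (L 15274))
 (N (L 8079)
 (L 3600)))
 (N (N (L 2955)
 (L 9038))
 (N (L 11727)
 (L 2991))))
 (N (N (N (L 9165)
 (L 6880))
 (N (L 4995)
 (L 13126)))
 (N (N (L 9564)
 (L 14579))
 (L 6114))))
 (N (N (N (N (L 14045)
 (L 4763))
 (N (L 11191)
 (L 5012)))
 (N (N (L 8246)
 (L 4220))
 (N (L 338)
 (L 15216))))
 (N (N (N (L 4819)
 (L 10033))
 (N (L 3405)
 (L 11368)))
 (N (N (L 11192)
 (L 6021))
 (L 11896)))))))))
 (N (N (N (N (N (N (N (N (N (L 2271)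
 (L 13270))
 (N (L 3132)
 (L 4303)))
 (N (N (L 10645)
 (L 8710))
 (N (L 9473)
 (L 4910))))
 (N (N (N (L 4395)
 (L 4174))
 (N (L 4000)
 (L 13668)))
 (N (N (L 1083)
 (L 2466))
 (N (L 15063)
 (L 5634)))))
 (N (N (N (N (L 10917)
 (L 10446))
 (N (L 5765)
 (L 14477)))
 (N (N (L 10551)
 (L 10062))
 (N (L 13828)
 (L 9878))))
 (N (N (N (L 199)
 (L 1431))
 (N (L 6023)
 (L 8231)))
 (N (N (L 8877)
 (L 9701))
 (L 12808)))))
 (N (N (N (N (N (L 10244)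
 (L 7323))
 (N (L 9194)
 (L 10588)))
 (N (N (L 12640)
 (L 12739))
 (N (L 384)
 (L 13518))))
 (N (N (N (L 4751)
 (L 15132))
 (N (L 10639)
 (L 12252)))
 (N (N (L 14620)
 (L 9085))
 (L 6908))))
 (N (N (N (N (L 14806)
 (L 6778))
 (N (L 8255)
 (L 10739)))
 (N (N (L 3579)
 (L 8682))
 (N (L 10166)
 (L 9294))))
 (N (N (N (L 1814)
 (L 13728))
 (N (L 13773)
 (L 11931)))
 (N (N (L 8547)
 (L 9928))
 (L 11801))))))
 (N (N (N (N (N (N (L 8342)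
 (L 7754))
 (N (L 8527)
 (L 5479)))
 (N (N (L 13008)
 (L 11630))
 (N (L 3245)
 (L 965))))
 (N (N (N (L 12783)
 (L 6737))
 (N (L 7782)
 (L 6556)))
 (N (N (L 4090)
 (L 11055))
 (L 2432))))
 (N (N (N (N (L 547)
 (L 13482))
 (N (L 9915)
 (L 4046)))
 (N (N (L 12912)
 (L 15352))
 (N (L 4801)
 (L 7001))))
 (N (N (N (L 10538)
 (L 9129))
 (N (L 1753)
 (L 3974)))
 (N (N (L 5239)
 (L 2757))
 (L 5334)))))
 (N (N (N (N (N (L 8345)
 (L 7813))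
 (N (L 2140)
 (L 11081)))
 (N (N (L 10729)
 (L 13298))
 (N (L 15236)
 (L 10819))))
 (N (N (N (L 13641)
 (L 11533))
 (N (L 10398)
 (L 12269)))
 (N (N (L 2445)
 (L 8842))
 (L 7196))))
 (N (N (N (N (L 1296)
 (L 4722))
 (N (L 1904)
 (L 9728)))
 (N (N (L 9627)
 (L 7161))
 (N (L 1707)
 (L 142))))
 (N (N (N (L 11189)
 (L 9621))
 (N (L 12019)
 (L 12459)))
 (N (N (L 5871)
 (L 9169))
 (L 15048)))))))
 (N (N (N (N (N (N (N (L 5967)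
 (L 5595))
 (N (L 1124)
 (L 1269)))
 (N (N (L 186)
 (L 673))
 (N (L 936)
 (L 15245))))
 (N (N (N (L 13585)
 (L 654))
 (N (L 3625)
 (L 14333)))
 (N (N (L 9631)
 (L 5734))
 (L 7899))))
 (N (N (N (N (L 11407)
 (L 15235))
 (N (L 14459)
 (L 47)))
 (N (N (L 1870)
 (L 7559))
 (N (L 2782)
 (L 1982))))
 (N (N (N (L 4823)
 (L 14676))
 (N (L 11655)
 (L 2712)))
 (N (N (L 4783)
 (L 6002))
 (L 474)))))
 (N (N (N (N (N (L 8015)
 (L 2654))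
 (N (L 1416)
 (L 14563)))
 (N (N (L 2012)
 (L 10176))
 (N (L 14791)
 (L 12050))))
 (N (N (N (L 11863)
 (L 14915))
 (N (L 3969)
 (L 33)))
 (N (N (L 9806)
 (L 13071))
 (L 5331))))
 (N (N (N (N (L 11834)
 (L 12141))
 (N (L 10628)
 (L 3589)))
 (N (N (L 12297)
 (L 2165))
 (N (L 126)
 (L 772))))
 (N (N (N (L 6756)
 (L 7643))
 (N (L 1543)
 (L 14242)))
 (N (N (L 14808)
 (L 13147))
 (L 9108))))))
 (N (N (N (N (N (N (L 2168)
 (L 10527))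
 (N (L 8677)
 (L 13550)))
 (N (N (L 7824)
 (L 8532))
 (N (L 5615)
 (L 5490))))
 (N (N (N (L 12108)
 (L 3196))
 (N (L 14067)
 (L 13660)))
 (N (N (L 13642)
 (L 9556))
 (L 12162))))
 (N (N (N (N (L 10944)
 (L 3395))
 (N (L 13859)
 (L 6182)))
 (N (N (L 2276)
 (L 185))
 (N (L 10807)
 (L 15296))))
 (N (N (N (L 10186)
 (L 11203))
 (N (L 5086)
 (L 1660)))
 (N (N (L 2896)
 (L 3585))
 (L 7745)))))
 (N (N (N (N (N (L 2797)
 (L 626))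
 (N (L 2442)
 (L 2073)))
 (N (N (L 2969)
 (L 15104))
 (N (L 84)
 (L 1145))))
 (N (N (N (L 3859)
 (L 8508))
 (N (L 4634)
 (L 7963)))
 (N (N (L 5688)
 (L 8554))
 (L 5162))))
 (N (N (N (N (L 7976)
 (L 6071))
 (N (L 9646)
 (L 10655)))
 (N (N (L 3731)
 (L 8190))
 (N (L 5986)
 (L 4283))))
 (N (N (N (L 4221)
 (L 2416))
 (N (L 5733)
 (L 3413)))
 (N (N (L 12157)
 (L 4932))
 (L 6003))))))))
 (N (N (N (N (N (N (N (N (L 8985)
 (L 4209))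
 (N (L 1561)
 (L 10054)))
 (N (N (L 9830)
 (L 14285))
 (N (L 6146)
 (L 4021))))
 (N (N (N (L 11300)
 (L 3424))
 (N (L 9095)
 (L 13624)))
 (N (N (L 6684)
 (L 10079))
 (L 2341))))
 (N (N (N (N (L 13090)
 (L 14429))
 (N (L 815)
 (L 9204)))
 (N (N (L 7800)
 (L 11247))
 (N (L 4285)
 (L 14126))))
 (N (N (N (L 11075)
 (L 3422))
 (N (L 3730)
 (L 10687)))
 (N (N (L 4663)
 (L 15013))
 (L 748)))))
 (N (N (N (N (N (L 10270)
 (L 9655))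
 (N (L 948)
 (L 5043)))
 (N (N (L 13240)
 (L 8826))
 (N (L 4242)
 (L 1972))))
 (N (N (N (L 4420)
 (L 864))
 (N (L 5031)
 (L 2771)))
 (N (N (L 15339)
 (L 10793))
 (L 12700))))
 (N (N (N (N (L 2701)
 (L 9118))
 (N (L 7495)
 (L 3808)))
 (N (N (L 395)
 (L 14599))
 (N (L 8930)
 (L 2147))))
 (N (N (N (L 2964)
 (L 11903))
 (N (L 1829)
 (L 13992)))
 (N (N (L 5408)
 (L 7985))
 (L 3732))))))
 (N (N (N (N (N (N (L 8185)
 (L 1949))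
 (N (L 14266)
 (L 8036)))
 (N (N (L 1266)
 (L 2304))
 (N (L 11900)
 (L 9937))))
 (N (N (N (L 4642)
 (L 4462))
 (N (L 1600)
 (L 3381)))
 (N (N (L 9686)
 (L 2517))
 (L 5347))))
 (N (N (N (N (L 14100)
 (L 10435))
 (N (L 9060)
 (L 6342)))
 (N (N (L 11048)
 (L 11251))
 (N (L 15071)
 (L 10702))))
 (N (N (N (L 5480)
 (L 12323))
 (N (L 1468)
 (L 3128)))
 (N (N (L 6677)
 (L 12559))
 (L 7351)))))
 (N (N (N (N (N (L 11069)
 (L 4900))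
 (N (L 12911)
 (L 5904)))
 (N (N (L 1821)
 (L 7916))
 (N (L 5868)
 (L 1417))))
 (N (N (N (L 10804)
 (L 10536))
 (N (L 8749)
 (L 3072)))
 (N (N (L 5759)
 (L 10076))
 (L 6848))))
 (N (N (N (N (L 5524)
 (L 8568))
 (N (L 10984)
 (L 7743)))
 (N (N (L 5362)
 (L 4559))
 (N (L 14368)
 (L 9140))))
 (N (N (N (L 14505)
 (L 3846))
 (N (L 14551)
 (L 1776)))
 (N (N (L 4123)
 (L 4632))
 (L 13993)))))))
 (N (N (N (N (N (N (N (L 14744)
 (L 14524))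
 (N (L 5709)
 (L 14020)))
 (N (N (L 1364)
 (L 8693))
 (N (L 4002)
 (L 3426))))
 (N (N (N (L 14729)
 (L 6844))
 (N (L 13980)
 (L 12909)))
 (N (N (L 9640)
 (L 11284))
 (L 4290))))
 (N (N (N (N (L 7112)
 (L 4171))
 (N (L 2313)
 (L 5588)))
 (N (N (L 6651)
 (L 12590))
 (N (L 9098)
 (L 2174))))
 (N (N (N (L 8627)
 (L 6269))
 (N (L 4231)
 (L 13741)))
 (N (N (L 10250)
 (L 12664))
 (L 769)))))
 (N (N (N (N (N (L 9938)
 (L 131))
 (N (L 6915)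
 (L 3805)))
 (N (N (L 4490)
 (L 11288))
 (N (L 6200)
 (L 1751))))
 (N (N (N (L 10418)
 (L 574))
 (N (L 10236)
 (L 4538)))
 (N (N (L 1823)
 (L 111))
 (L 1140))))
 (N (N (N (N (L 12237)
 (L 12685))
 (N (L 6575)
 (L 9137)))
 (N (N (L 3843)
 (L 11400))
 (N (L 419)
 (L 4717))))
 (N (N (N (L 1015)
 (L 1848))
 (N (L 3728)
 (L 573)))
 (N (N (L 7449)
 (L 6809))
 (L 11004))))))
 (N (N (N (N (N (N (L 1355)
 (L 15223))
 (N (L 8086)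
 (L 2725)))
 (N (N (L 13062)
 (L 7792))
 (N (L 11994)
 (L 1142))))
 (N (N (N (L 13213)
 (L 1203))
 (N (L 12426)
 (L 4993)))
 (N (N (L 4581)
 (L 7163))
 (L 2096))))
 (N (N (N (N (L 12770)
 (L 10281))
 (N (L 8284)
 (L 8202)))
 (N (N (L 14377)
 (L 10107))
 (N (L 9032)
 (L 8188))))
 (N (N (N (L 13814)
 (L 7795))
 (N (L 1749)
 (L 13890)))
 (N (N (L 2628)
 (L 6361))
 (L 4245)))))
 (N (N (N (N (N (L 3848)
 (L 13987))
 (N (L 2221)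
 (L 6505)))
 (N (N (L 11415)
 (L 6944))
 (N (L 12723)
 (L 14743))))
 (N (N (N (L 13154)
 (L 4120))
 (N (L 14125)
 (L 9755)))
 (N (N (L 11567)
 (L 4565))
 (L 6477))))
 (N (N (N (N (L 13329)
 (L 3002))
 (N (L 10586)
 (L 5040)))
 (N (N (L 3049)
 (L 13034))
 (N (L 4460)
 (L 10123))))
 (N (N (N (L 6365)
 (L 13768))
 (N (L 9630)
 (L 3921)))
 (N (N (L 1498)
 (L 6037))
 (L 5465))))))))))
 (N (N (N (N (N (N (N (N (N (N (L 9103)
 (L 15131))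
 (N (L 444)
 (L 14279)))
 (N (N (L 3419)
 (L 14670))
 (N (L 11591)
 (L 11750))))
 (N (N (N (L 3061)
 (L 2020))
 (N (L 2109)
 (L 2720)))
 (N (N (L 3179)
 (L 8545))
 (N (L 8420)
 (L 4239)))))
 (N (N (N (N (L 10149)
 (L 725))
 (N (L 10308)
 (L 15301)))
 (N (N (L 5244)
 (L 13478))
 (N (L 11056)
 (L 10511))))
 (N (N (N (L 9078)
 (L 7319))
 (N (L 6632)
 (L 12067)))
 (N (N (L 10421)
 (L 7944))
 (L 3403)))))
 (N (N (N (N (N (L 4402)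
 (L 11579))
 (N (L 3312)
 (L 6871)))
 (N (N (L 6367)
 (L 5405))
 (N (L 5828)
 (L 6257))))
 (N (N (N (L 3590)
 (L 14836))
 (N (L 1139)
 (L 10007)))
 (N (N (L 5478)
 (L 14974))
 (L 9539))))
 (N (N (N (N (L 12858)
 (L 7308))
 (N (L 4254)
 (L 13635)))
 (N (N (L 2816)
 (L 11657))
 (N (L 1807)
 (L 7144))))
 (N (N (N (L 13301)
 (L 4397))
 (N (L 8317)
 (L 1011)))
 (N (N (L 13264)
 (L 1779))
 (L 7650))))))
 (N (N (N (N (N (N (L 14605)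
 (L 3119))
 (N (L 6962)
 (L 828)))
 (N (N (L 1747)
 (L 11472))
 (N (L 15282)
 (L 2444))))
 (N (N (N (L 1422)
 (L 7634))
 (N (L 11149)
 (L 2137)))
 (N (N (L 3688)
 (L 3663))
 (L 3788))))
 (N (N (N (N (L 13587)
 (L 9398))
 (N (L 12081)
 (L 1613)))
 (N (N (L 6430)
 (L 2475))
 (N (L 1049)
 (L 6973))))
 (N (N (N (L 15022)
 (L 6019))
 (N (L 1264)
 (L 2043)))
 (N (N (L 8042)
 (L 13839))
 (L 13816)))))
 (N (N (N (N (N (L 14886)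
 (L 15239))
 (N (L 12908)
 (L 11112)))
 (N (N (L 3749)
 (L 9809))
 (N (L 12275)
 (L 3515))))
 (N (N (N (L 4427)
 (L 960))
 (N (L 1181)
 (L 1682)))
 (N (N (L 8711)
 (L 7520))
 (L 9269))))
 (N (N (N (N (L 10413)
 (L 7524))
 (N (L 2540)
 (L 7209)))
 (N (N (L 8650)
 (L 10706))
 (N (L 831)
 (L 9467))))
 (N (N (N (L 5805)
 (L 2860))
 (N (L 13370)
 (L 3661)))
 (N (N (L 5371)
 (L 11060))
 (L 2769)))))))
 (N (N (N (N (N (N (N (L 13626)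
 (L 13847))
 (N (L 782)
 (L 461)))
 (N (N (L 9471)
 (L 12692))
 (N (L 2830)
 (L 8498))))
 (N (N (N (L 8014)
 (L 14393))
 (N (L 3382)
 (L 3418)))
 (N (N (L 4163)
 (L 1400))
 (L 10659))))
 (N (N (N (N (L 14816)
 (L 7868))
 (N (L 14155)
 (L 9200)))
 (N (N (L 12136)
 (L 5528))
 (N (L 6315)
 (L 12148))))
 (N (N (N (L 4207)
 (L 13649))
 (N (L 4558)
 (L 12299)))
 (N (N (L 7814)
 (L 7851))
 (L 14976)))))
 (N (N (N (N (N (L 11594)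
 (L 974))
 (N (L 237)
 (L 4326)))
 (N (N (L 11059)
 (L 627))
 (N (L 3453)
 (L 11605))))
 (N (N (N (L 2255)
 (L 13051))
 (N (L 8087)
 (L 14709)))
 (N (N (L 12741)
 (L 15243))
 (L 3506))))
 (N (N (N (N (L 10157)
 (L 4777))
 (N (L 4894)
 (L 15222)))
 (N (N (L 7648)
 (L 14596))
 (N (L 13916)
 (L 12246))))
 (N (N (N (L 231)
 (L 13436))
 (N (L 11175)
 (L 2532)))
 (N (N (L 7786)
 (L 690))
 (L 7050))))))
 (N (N (N (N (N (N (L 14376)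
 (L 13469))
 (N (L 11619)
 (L 3871)))
 (N (N (L 14483)
 (L 5687))
 (N (L 14378)
 (L 10278))))
 (N (N (N (L 8668)
 (L 376))
 (N (L 119)
 (L 5616)))
 (N (N (L 5375)
 (L 5625))
 (L 13496))))
 (N (N (N (N (L 11422)
 (L 10071))
 (N (L 9899)
 (L 7645)))
 (N (N (L 10510)
 (L 8412))
 (N (L 7862)
 (L 14236))))
 (N (N (N (L 10031)
 (L 2190))
 (N (L 3511)
 (L 13904)))
 (N (N (L 6685)
 (L 8533))
 (L 4748)))))
 (N (N (N (N (N (L 5235)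
 (L 5884))
 (N (L 8604)
 (L 7708)))
 (N (N (L 11030)
 (L 9924))
 (N (L 10800)
 (L 7133))))
 (N (N (N (L 4895)
 (L 5411))
 (N (L 5527)
 (L 5691)))
 (N (N (L 1693)
 (L 10316))
 (L 4536))))
 (N (N (N (N (L 2503)
 (L 2359))
 (N (L 14462)
 (L 4121)))
 (N (N (L 878)
 (L 2862))
 (N (L 11306)
 (L 1445))))
 (N (N (N (L 12113)
 (L 14127))
 (N (L 2505)
 (L 4214)))
 (N (N (L 14730)
 (L 2632))
 (L 991))))))))
 (N (N (N (N (N (N (N (N (L 57)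
 (L 3023))
 (N (L 548)
 (L 9935)))
 (N (N (L 5886)
 (L 12839))
 (N (L 11999)
 (L 13813))))
 (N (N (N (L 9228)
 (L 6577))
 (N (L 1651)
 (L 13872)))
 (N (N (L 12853)
 (L 9345))
 (L 8399))))
 (N (N (N (N (L 4865)
 (L 11860))
 (N (L 8163)
 (L 9579)))
 (N (N (L 2220)
 (L 7869))
 (N (L 14345)
 (L 10213))))
 (N (N (N (L 7673)
 (L 1236))
 (N (L 5315)
 (L 922)))
 (N (N (L 14407)
 (L 1965))
 (L 8482)))))
 (N (N (N (N (N (L 4672)
 (L 1068))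
 (N (L 1414)
 (L 13988)))
 (N (N (L 1695)
 (L 10452))
 (N (L 10801)
 (L 8666))))
 (N (N (N (L 14832)
 (L 14835))
 (N (L 2438)
 (L 9273)))
 (N (N (L 13806)
 (L 88))
 (L 7059))))
 (N (N (N (N (L 3259)
 (L 8853))
 (N (L 8524)
 (L 7578)))
 (N (N (L 1655)
 (L 10898))
 (N (L 5779)
 (L 4907))))
 (N (N (N (L 7061)
 (L 10232))
 (N (L 14278)
 (L 11012)))
 (N (N (L 8641)
 (L 3997))
 (L 9312))))))
 (N (N (N (N (N (N (L 184)
 (L 6175))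
 (N (L 4497)
 (L 7140)))
 (N (N (L 5957)
 (L 15092))
 (N (L 6783)
 (L 3319))))
 (N (N (N (L 3807)
 (L 10959))
 (N (L 710)
 (L 7619)))
 (N (N (L 4659)
 (L 7224))
 (L 6112))))
 (N (N (N (N (L 15314)
 (L 14096))
 (N (L 11063)
 (L 11478)))
 (N (N (L 8761)
 (L 13576))
 (N (L 4237)
 (L 12271))))
 (N (N (N (L 2886)
 (L 8679))
 (N (L 2208)
 (L 2936)))
 (N (N (L 696)
 (L 2467))
 (L 10791)))))
 (N (N (N (N (N (L 14240)
 (L 11498))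
 (N (L 3838)
 (L 5517)))
 (N (N (L 14201)
 (L 5323))
 (N (L 15228)
 (L 5776))))
 (N (N (N (L 3569)
 (L 1894))
 (N (L 14433)
 (L 778)))
 (N (N (L 13542)
 (L 8312))
 (L 4616))))
 (N (N (N (N (L 352)
 (L 8366))
 (N (L 8681)
 (L 12484)))
 (N (N (L 763)
 (L 8513))
 (N (L 10286)
 (L 2847))))
 (N (N (N (L 5230)
 (L 7901))
 (N (L 12821)
 (L 8767)))
 (N (N (L 4797)
 (L 601))
 (L 8357)))))))
 (N (N (N (N (N (N (N (L 557)
 (L 11333))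
 (N (L 3283)
 (L 2690)))
 (N (N (L 9268)
 (L 8207))
 (N (L 9547)
 (L 11293))))
 (N (N (N (L 13844)
 (L 12380))
 (N (L 14858)
 (L 3910)))
 (N (N (L 13100)
 (L 4357))
 (L 11359))))
 (N (N (N (N (L 6641)
 (L 12318))
 (N (L 11330)
 (L 4637)))
 (N (N (L 11197)
 (L 9109))
 (N (L 2048)
 (L 13750))))
 (N (N (N (L 4012)
 (L 425))
 (N (L 3486)
 (L 1708)))
 (N (N (L 6587)
 (L 11980))
 (L 5070)))))
 (N (N (N (N (N (L 2569)
 (L 12418))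
 (N (L 14954)
 (L 10964)))
 (N (N (L 10200)
 (L 2911))
 (N (L 6251)
 (L 10183))))
 (N (N (N (L 114)
 (L 10947))
 (N (L 13601)
 (L 10360)))
 (N (N (L 14824)
 (L 10875))
 (L 2972))))
 (N (N (N (N (L 14940)
 (L 1161))
 (N (L 9037)
 (L 10673)))
 (N (N (L 4191)
 (L 5088))
 (N (L 5360)
 (L 9927))))
 (N (N (N (L 14294)
 (L 143))
 (N (L 2547)
 (L 10567)))
 (N (N (L 11232)
 (L 3607))
 (L 2558))))))
 (N (N (N (N (N (N (L 11253)
 (L 2904))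
 (N (L 2726)
 (L 13389)))
 (N (N (L 526)
 (L 6393))
 (N (L 12469)
 (L 8851))))
 (N (N (N (L 1294)
 (L 1665))
 (N (L 11947)
 (L 12415)))
 (N (N (L 7744)
 (L 4354))
 (L 7454))))
 (N (N (N (N (L 14755)
 (L 5261))
 (N (L 2479)
 (L 4387)))
 (N (N (L 707)
 (L 9457))
 (N (L 3488)
 (L 9714))))
 (N (N (N (L 14584)
 (L 12586))
 (N (L 4662)
 (L 3562)))
 (N (N (L 3540)
 (L 3823))
 (L 1661)))))
 (N (N (N (N (N (L 861)
 (L 10760))
 (N (L 13683)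
 (L 12424)))
 (N (N (L 288)
 (L 15317))
 (N (L 6790)
 (L 693))))
 (N (N (N (L 8735)
 (L 5180))
 (N (L 1784)
 (L 7046)))
 (N (N (L 1555)
 (L 4945))
 (L 11814))))
 (N (N (N (N (L 1342)
 (L 5735))
 (N (L 13039)
 (L 7833)))
 (N (N (L 2323)
 (L 2209))
 (N (L 10883)
 (L 12838))))
 (N (N (N (L 3170)
 (L 13018))
 (N (L 11181)
 (L 7898)))
 (N (N (L 14685)
 (L 8737))
 (L 4085)))))))))
 (N (N (N (N (N (N (N (N (N (L 10513)
 (L 8658))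
 (N (L 6928)
 (L 2759)))
 (N (N (L 8243)
 (L 13997))
 (N (L 13491)
 (L 14725))))
 (N (N (N (L 11231)
 (L 5451))
 (N (L 10243)
 (L 5226)))
 (N (N (L 9280)
 (L 4815))
 (N (L 7198)
 (L 2629)))))
 (N (N (N (N (L 3983)
 (L 3570))
 (N (L 3613)
 (L 12852)))
 (N (N (L 11643)
 (L 11270))
 (N (L 11501)
 (L 6646))))
 (N (N (N (L 7610)
 (L 12280))
 (N (L 6653)
 (L 7471)))
 (N (N (L 7912)
 (L 3789))
 (L 5457)))))
 (N (N (N (N (N (L 2040)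
 (L 5252))
 (N (L 2596)
 (L 4775)))
 (N (N (L 4477)
 (L 13059))
 (N (L 9353)
 (L 998))))
 (N (N (N (L 6612)
 (L 7738))
 (N (L 5910)
 (L 11633)))
 (N (N (L 9588)
 (L 9275))
 (L 2344))))
 (N (N (N (N (L 9977)
 (L 4624))
 (N (L 3856)
 (L 7404)))
 (N (N (L 610)
 (L 938))
 (N (L 9408)
 (L 7856))))
 (N (N (N (L 15367)
 (L 2552))
 (N (L 14496)
 (L 4149)))
 (N (N (L 3161)
 (L 7477))
 (L 3048))))))
 (N (N (N (N (N (N (L 5745)
 (L 7937))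
 (N (L 2921)
 (L 14204)))
 (N (N (L 13787)
 (L 14898))
 (N (L 6803)
 (L 11459))))
 (N (N (N (L 9875)
 (L 12101))
 (N (L 5939)
 (L 3253)))
 (N (N (L 6448)
 (L 4114))
 (L 7266))))
 (N (N (N (N (L 11769)
 (L 13982))
 (N (L 7235)
 (L 8753)))
 (N (N (L 14389)
 (L 7728))
 (N (L 2588)
 (L 10884))))
 (N (N (N (L 7283)
 (L 10998))
 (N (L 6802)
 (L 10247)))
 (N (N (L 252)
 (L 14637))
 (L 636)))))
 (N (N (N (N (N (L 13507)
 (L 14))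
 (N (L 1932)
 (L 7746)))
 (N (N (L 1113)
 (L 11416))
 (N (L 5823)
 (L 12760))))
 (N (N (N (L 8926)
 (L 2947))
 (N (L 3785)
 (L 10569)))
 (N (N (L 2076)
 (L 13305))
 (L 3915))))
 (N (N (N (N (L 6817)
 (L 2228))
 (N (L 6099)
 (L 4441)))
 (N (N (L 15036)
 (L 1607))
 (N (L 11450)
 (L 3115))))
 (N (N (N (L 5790)
 (L 1795))
 (N (L 11016)
 (L 773)))
 (N (N (L 11007)
 (L 1899))
 (L 9317)))))))
 (N (N (N (N (N (N (N (L 4256)
 (L 10781))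
 (N (L 3640)
 (L 7821)))
 (N (N (L 2839)
 (L 6739))
 (N (L 10093)
 (L 3205))))
 (N (N (N (L 3274)
 (L 9044))
 (N (L 14131)
 (L 203)))
 (N (N (L 10422)
 (L 7241))
 (L 7437))))
 (N (N (N (N (L 1383)
 (L 15208))
 (N (L 11804)
 (L 5291)))
 (N (N (L 8759)
 (L 10273))
 (N (L 13390)
 (L 9760))))
 (N (N (N (L 13568)
 (L 11219))
 (N (L 9025)
 (L 13188)))
 (N (N (L 12515)
 (L 9749))
 (L 1345)))))
 (N (N (N (N (N (L 14275)
 (L 15281))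
 (N (L 12152)
 (L 9024)))
 (N (N (L 399)
 (L 2698))
 (N (L 10405)
 (L 3522))))
 (N (N (N (L 15191)
 (L 7894))
 (N (L 10636)
 (L 2152)))
 (N (N (L 5928)
 (L 9592))
 (L 5895))))
 (N (N (N (N (L 12712)
 (L 2019))
 (N (L 5114)
 (L 2662)))
 (N (N (L 12814)
 (L 3379))
 (N (L 891)
 (L 2791))))
 (N (N (N (L 15240)
 (L 10340))
 (N (L 13690)
 (L 7405)))
 (N (N (L 10307)
 (L 5034))
 (L 15018))))))
 (N (N (N (N (N (N (L 535)
 (L 15167))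
 (N (L 9563)
 (L 934)))
 (N (N (L 14635)
 (L 14391))
 (N (L 3033)
 (L 4179))))
 (N (N (N (L 9971)
 (L 7591))
 (N (L 5753)
 (L 12084)))
 (N (N (L 2056)
 (L 9142))
 (L 10017))))
 (N (N (N (N (L 12029)
 (L 6828))
 (N (L 5830)
 (L 4435)))
 (N (N (L 7092)
 (L 13045))
 (N (L 156)
 (L 8968))))
 (N (N (N (L 7497)
 (L 7946))
 (N (L 10541)
 (L 6070)))
 (N (N (L 13628)
 (L 7612))
 (L 3869)))))
 (N (N (N (N (N (L 2650)
 (L 4273))
 (N (L 4896)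
 (L 11520)))
 (N (N (L 13322)
 (L 302))
 (N (L 14874)
 (L 14187))))
 (N (N (N (L 13156)
 (L 14435))
 (N (L 12738)
 (L 14198)))
 (N (N (L 13409)
 (L 42))
 (L 13022))))
 (N (N (N (N (L 1716)
 (L 1595))
 (N (L 6259)
 (L 8146)))
 (N (N (L 2354)
 (L 262))
 (N (L 2297)
 (L 11729))))
 (N (N (N (L 10336)
 (L 9671))
 (N (L 12197)
 (L 3468)))
 (N (N (L 2794)
 (L 7855))
 (L 1482))))))))
 (N (N (N (N (N (N (N (N (L 10019)
 (L 9612))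
 (N (L 10630)
 (L 13379)))
 (N (N (L 2520)
 (L 6721))
 (N (L 8504)
 (L 1034))))
 (N (N (N (L 2088)
 (L 4723))
 (N (L 11375)
 (L 6473)))
 (N (N (L 13800)
 (L 12949))
 (L 5578))))
 (N (N (N (N (L 2499)
 (L 10025))
 (N (L 13026)
 (L 5947)))
 (N (N (L 9509)
 (L 13312))
 (N (L 8404)
 (L 14128))))
 (N (N (N (L 10034)
 (L 4646))
 (N (L 7867)
 (L 11230)))
 (N (N (L 14185)
 (L 6734))
 (L 5455)))))
 (N (N (N (N (N (L 2413)
 (L 10923))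
 (N (L 6845)
 (L 1831)))
 (N (N (L 7098)
 (L 3373))
 (N (L 6485)
 (L 8129))))
 (N (N (N (L 12235)
 (L 1943))
 (N (L 4733)
 (L 8380)))
 (N (N (L 5580)
 (L 4798))
 (L 10118))))
 (N (N (N (N (L 2783)
 (L 1190))
 (N (L 8596)
 (L 542)))
 (N (N (L 15194)
 (L 3715))
 (N (L 13944)
 (L 12138))))
 (N (N (N (L 2923)
 (L 5808))
 (N (L 14539)
 (L 4304)))
 (N (N (L 4227)
 (L 14629))
 (L 4350))))))
 (N (N (N (N (N (N (L 5488)
 (L 1458))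
 (N (L 2317)
 (L 13418)))
 (N (N (L 11165)
 (L 5820))
 (N (L 11476)
 (L 12518))))
 (N (N (N (L 13899)
 (L 9198))
 (N (L 11193)
 (L 6212)))
 (N (N (L 11029)
 (L 6000))
 (L 2347))))
 (N (N (N (N (L 7334)
 (L 10546))
 (N (L 631)
 (L 8326)))
 (N (N (L 7211)
 (L 5631))
 (N (L 10879)
 (L 2649))))
 (N (N (N (L 4159)
 (L 6232))
 (N (L 2211)
 (L 14860)))
 (N (N (L 8318)
 (L 3446))
 (L 5424)))))
 (N (N (N (N (N (L 5958)
 (L 14032))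
 (N (L 1232)
 (L 9322)))
 (N (N (L 275)
 (L 10969))
 (N (L 15020)
 (L 6437))))
 (N (N (N (L 8551)
 (L 7683))
 (N (L 11593)
 (L 12775)))
 (N (N (L 14925)
 (L 3012))
 (L 5082))))
 (N (N (N (N (L 5201)
 (L 12034))
 (N (L 6883)
 (L 12105)))
 (N (N (L 9186)
 (L 10251))
 (N (L 9881)
 (L 12750))))
 (N (N (N (L 12128)
 (L 6713))
 (N (L 10928)
 (L 12755)))
 (N (N (L 3358)
 (L 3840))
 (L 14601)))))))
 (N (N (N (N (N (N (N (L 11868)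
 (L 3042))
 (N (L 2007)
 (L 14249)))
 (N (N (L 1333)
 (L 4859))
 (N (L 9090)
 (L 6391))))
 (N (N (N (L 9319)
 (L 3217))
 (N (L 14352)
 (L 6997)))
 (N (N (L 309)
 (L 3923))
 (L 5221))))
 (N (N (N (N (L 9898)
 (L 2495))
 (N (L 10032)
 (L 10368)))
 (N (N (L 9305)
 (L 5980))
 (N (L 9948)
 (L 10967))))
 (N (N (N (L 15263)
 (L 1642))
 (N (L 3376)
 (L 15356)))
 (N (N (L 4313)
 (L 1768))
 (L 3270)))))
 (N (N (N (N (N (L 6252)
 (L 8170))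
 (N (L 11959)
 (L 11045)))
 (N (N (L 15393)
 (L 6858))
 (N (L 14998)
 (L 10310))))
 (N (N (N (L 10155)
 (L 14570))
 (N (L 4598)
 (L 4401)))
 (N (N (L 2021)
 (L 13632))
 (L 7446))))
 (N (N (N (N (L 7662)
 (L 2907))
 (N (L 10190)
 (L 13347)))
 (N (N (L 13860)
 (L 5212))
 (N (L 3992)
 (L 7714))))
 (N (N (N (L 13846)
 (L 11405))
 (N (L 4446)
 (L 9433)))
 (N (N (L 3685)
 (L 3079))
 (L 581))))))
 (N (N (N (N (N (N (L 134)
 (L 7114))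
 (N (L 8428)
 (L 5491)))
 (N (N (L 10330)
 (L 12907))
 (N (L 15097)
 (L 11518))))
 (N (N (N (L 15171)
 (L 9852))
 (N (L 7421)
 (L 10333)))
 (N (N (L 5923)
 (L 6822))
 (L 3255))))
 (N (N (N (N (L 9838)
 (L 2579))
 (N (L 8757)
 (L 12511)))
 (N (N (L 7486)
 (L 1797))
 (N (L 14846)
 (L 6834))))
 (N (N (N (L 475)
 (L 4009))
 (N (L 1475)
 (L 11574)))
 (N (N (L 7679)
 (L 4456))
 (L 1089)))))
 (N (N (N (N (N (L 3039)
 (L 3167))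
 (N (L 2585)
 (L 1126)))
 (N (N (L 9774)
 (L 8894))
 (N (L 1393)
 (L 12553))))
 (N (N (N (L 14900)
 (L 10159))
 (N (L 9276)
 (L 3760)))
 (N (N (L 14617)
 (L 11875))
 (L 13919))))
 (N (N (N (N (L 9384)
 (L 9342))
 (N (L 10842)
 (L 8452)))
 (N (N (L 270)
 (L 1590))
 (N (L 10302)
 (L 14092))))
 (N (N (N (L 14445)
 (L 7920))
 (N (L 3087)
 (L 8815)))
 (N (N (L 7927)
 (L 3627))
 (L 11899))))))))))))
 (N (N (N (N (N (N (N (N (N (N (N (N (L 9986)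
 (L 15151))
 (N (L 3338)
 (L 11492)))
 (N (N (L 14746)
 (L 14418))
 (N (L 5553)
 (L 9053))))
 (N (N (N (L 13861)
 (L 11923))
 (N (L 3610)
 (L 3034)))
 (N (N (L 2327)
 (L 8519))
 (N (L 10012)
 (L 4741)))))
 (N (N (N (N (L 1603)
 (L 10263))
 (N (L 2707)
 (L 377)))
 (N (N (L 2305)
 (L 1912))
 (N (L 9462)
 (L 13159))))
 (N (N (N (L 7331)
 (L 9314))
 (N (L 15224)
 (L 14848)))
 (N (N (L 13761)
 (L 4868))
 (L 2011)))))
 (N (N (N (N (N (L 2780)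
 (L 2356))
 (N (L 14728)
 (L 10934)))
 (N (N (L 7340)
 (L 4246))
 (N (L 4679)
 (L 5562))))
 (N (N (N (L 7542)
 (L 4392))
 (N (L 13337)
 (L 10577)))
 (N (N (L 9452)
 (L 8793))
 (L 12871))))
 (N (N (N (N (L 8151)
 (L 13737))
 (N (L 14490)
 (L 12213)))
 (N (N (L 12003)
 (L 12600))
 (N (L 14439)
 (L 7803))))
 (N (N (N (L 3490)
 (L 6818))
 (N (L 586)
 (L 6926)))
 (N (N (L 4705)
 (L 2281))
 (L 13928))))))
 (N (N (N (N (N (N (L 13575)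
 (L 2291))
 (N (L 1673)
 (L 12880)))
 (N (N (L 6716)
 (L 7326))
 (N (L 6323)
 (L 12900))))
 (N (N (N (L 12656)
 (L 6231))
 (N (L 4335)
 (L 13423)))
 (N (N (L 8977)
 (L 15347))
 (L 7807))))
 (N (N (N (N (L 4028)
 (L 2045))
 (N (L 13216)
 (L 14167)))
 (N (N (L 489)
 (L 10787))
 (N (L 7312)
 (L 12474))))
 (N (N (N (L 4443)
 (L 11383))
 (N (L 10650)
 (L 1678)))
 (N (N (L 6157)
 (L 1012))
 (L 9708)))))
 (N (N (N (N (N (L 310)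
 (L 7107))
 (N (L 1485)
 (L 11487)))
 (N (N (L 14554)
 (L 14724))
 (N (L 13949)
 (L 6616))))
 (N (N (N (L 9696)
 (L 1522))
 (N (L 1599)
 (L 4973)))
 (N (N (L 7228)
 (L 13805))
 (L 7336))))
 (N (N (N (N (L 9061)
 (L 11206))
 (N (L 9814)
 (L 12594)))
 (N (N (L 12713)
 (L 13528))
 (N (L 8189)
 (L 13434))))
 (N (N (N (L 13674)
 (L 1105))
 (N (L 1896)
 (L 5395)))
 (N (N (L 10433)
 (L 8715))
 (L 11426)))))))
 (N (N (N (N (N (N (N (L 13212)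
 (L 402))
 (N (L 127)
 (L 3975)))
 (N (N (L 233)
 (L 10936))
 (N (L 8000)
 (L 10000))))
 (N (N (N (L 8558)
 (L 7081))
 (N (L 8306)
 (L 2805)))
 (N (N (L 15389)
 (L 2559))
 (L 8511))))
 (N (N (N (N (L 6081)
 (L 2411))
 (N (L 385)
 (L 12372)))
 (N (N (L 13547)
 (L 15133))
 (N (L 8885)
 (L 10382))))
 (N (N (N (L 389)
 (L 6596))
 (N (L 12507)
 (L 10060)))
 (N (N (L 12393)
 (L 10181))
 (L 9363)))))
 (N (N (N (N (N (L 4349)
 (L 3586))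
 (N (L 6960)
 (L 6169)))
 (N (N (L 7287)
 (L 12254))
 (N (L 12461)
 (L 2913))))
 (N (N (N (L 942)
 (L 5756))
 (N (L 15276)
 (L 14451)))
 (N (N (L 3368)
 (L 9349))
 (L 12437))))
 (N (N (N (N (L 10794)
 (L 1222))
 (N (L 7071)
 (L 5741)))
 (N (N (L 7625)
 (L 4464))
 (N (L 1586)
 (L 14016))))
 (N (N (N (L 7843)
 (L 12212))
 (N (L 5025)
 (L 14669)))
 (N (N (L 14287)
 (L 5388))
 (L 10756))))))
 (N (N (N (N (N (N (L 8068)
 (L 528))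
 (N (L 1844)
 (L 7238)))
 (N (N (L 4128)
 (L 13252))
 (N (L 4726)
 (L 854))))
 (N (N (N (L 12890)
 (L 8634))
 (N (L 2225)
 (L 14170)))
 (N (N (L 371)
 (L 12366))
 (L 277))))
 (N (N (N (N (L 1737)
 (L 13900))
 (N (L 13014)
 (L 12721)))
 (N (N (L 442)
 (L 422))
 (N (L 416)
 (L 10473))))
 (N (N (N (L 82)
 (L 6018))
 (N (L 13437)
 (L 1998)))
 (N (N (L 5462)
 (L 6265))
 (L 14473)))))
 (N (N (N (N (N (L 1967)
 (L 5061))
 (N (L 3503)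
 (L 2098)))
 (N (N (L 4251)
 (L 14365))
 (N (L 2251)
 (L 13796))))
 (N (N (N (L 10495)
 (L 13198))
 (N (L 7135)
 (L 7275)))
 (N (N (L 12222)
 (L 8432))
 (L 14751))))
 (N (N (N (N (L 13760)
 (L 13877))
 (N (L 13955)
 (L 1067)))
 (N (N (L 12287)
 (L 2953))
 (N (L 12377)
 (L 6344))))
 (N (N (N (L 6971)
 (L 6890))
 (N (L 1719)
 (L 12182)))
 (N (N (L 14931)
 (L 10377))
 (L 3827))))))))
 (N (N (N (N (N (N (N (N (L 13926)
 (L 9150))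
 (N (L 8311)
 (L 7734)))
 (N (N (L 15184)
 (L 6719))
 (N (L 8892)
 (L 7324))))
 (N (N (N (L 236)
 (L 15242))
 (N (L 6613)
 (L 11977)))
 (N (N (L 9731)
 (L 951))
 (N (L 8729)
 (L 7316)))))
 (N (N (N (N (L 5131)
 (L 5067))
 (N (L 1004)
 (L 5554)))
 (N (N (L 2322)
 (L 1859))
 (N (L 10321)
 (L 12121))))
 (N (N (N (L 9917)
 (L 15011))
 (N (L 4215)
 (L 5072)))
 (N (N (L 3280)
 (L 15211))
 (L 8534)))))
 (N (N (N (N (N (L 11273)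
 (L 1650))
 (N (L 1739)
 (L 15340)))
 (N (N (L 2183)
 (L 14286))
 (N (L 7593)
 (L 90))))
 (N (N (N (L 13834)
 (L 13155))
 (N (L 3237)
 (L 5476)))
 (N (N (L 5128)
 (L 885))
 (L 15275))))
 (N (N (N (N (L 4075)
 (L 4512))
 (N (L 8867)
 (L 9987)))
 (N (N (L 6549)
 (L 1610))
 (N (L 14536)
 (L 2236))))
 (N (N (N (L 5863)
 (L 5015))
 (N (L 10364)
 (L 5692)))
 (N (N (L 6211)
 (L 7154))
 (L 1576))))))
 (N (N (N (N (N (N (L 12698)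
 (L 15306))
 (N (L 4918)
 (L 7182)))
 (N (N (L 14932)
 (L 7367))
 (N (L 3864)
 (L 518))))
 (N (N (N (L 11782)
 (L 1214))
 (N (L 1724)
 (L 10329)))
 (N (N (L 764)
 (L 14769))
 (L 883))))
 (N (N (N (N (L 5001)
 (L 13079))
 (N (L 8779)
 (L 2120)))
 (N (N (L 12260)
 (L 2639))
 (N (L 10657)
 (L 9674))))
 (N (N (N (L 6722)
 (L 6490))
 (N (L 2015)
 (L 15009)))
 (N (N (L 13848)
 (L 5399))
 (L 2958)))))
 (N (N (N (N (N (L 9777)
 (L 6924))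
 (N (L 1237)
 (L 9883)))
 (N (N (L 14460)
 (L 8651))
 (N (L 683)
 (L 1992))))
 (N (N (N (L 13359)
 (L 6885))
 (N (L 8564)
 (L 2275)))
 (N (N (L 14535)
 (L 11178))
 (L 8297))))
 (N (N (N (N (L 4424)
 (L 14164))
 (N (L 10396)
 (L 9542)))
 (N (N (L 15062)
 (L 10789))
 (N (L 14658)
 (L 12386))))
 (N (N (N (L 8215)
 (L 5585))
 (N (L 6022)
 (L 4596)))
 (N (N (L 9130)
 (L 9506))
 (L 9970)))))))
 (N (N (N (N (N (N (N (L 10870)
 (L 6209))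
 (N (L 9214)
 (L 3518)))
 (N (N (L 9726)
 (L 1495))
 (N (L 11669)
 (L 291))))
 (N (N (N (L 11399)
 (L 8101))
 (N (L 8623)
 (L 5264)))
 (N (N (L 13136)
 (L 1658))
 (L 9528))))
 (N (N (N (N (L 8686)
 (L 9064))
 (N (L 4761)
 (L 1070)))
 (N (N (L 2634)
 (L 6940))
 (N (L 7474)
 (L 5450))))
 (N (N (N (L 15375)
 (L 1933))
 (N (L 4476)
 (L 2025)))
 (N (N (L 4955)
 (L 168))
 (L 14733)))))
 (N (N (N (N (N (L 12980)
 (L 8004))
 (N (L 1051)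
 (L 13350)))
 (N (N (L 6144)
 (L 6831))
 (N (L 9551)
 (L 13996))))
 (N (N (N (L 11700)
 (L 9829))
 (N (L 973)
 (L 9023)))
 (N (N (L 4444)
 (L 661))
 (L 2753))))
 (N (N (N (N (L 13451)
 (L 3996))
 (N (L 9995)
 (L 10889)))
 (N (N (L 14842)
 (L 9722))
 (N (L 12345)
 (L 8762))))
 (N (N (N (L 5529)
 (L 10895))
 (N (L 10699)
 (L 7847)))
 (N (N (L 4926)
 (L 10616))
 (L 13192))))))
 (N (N (N (N (N (N (L 115)
 (L 11607))
 (N (L 14362)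
 (L 14989)))
 (N (N (L 5594)
 (L 979))
 (N (L 568)
 (L 3853))))
 (N (N (N (L 6052)
 (L 7906))
 (N (L 12520)
 (L 5931)))
 (N (N (L 7111)
 (L 2905))
 (L 3056))))
 (N (N (N (N (L 10648)
 (L 1298))
 (N (L 3262)
 (L 6084)))
 (N (N (L 1572)
 (L 9770))
 (N (L 13432)
 (L 12704))))
 (N (N (N (L 1493)
 (L 10878))
 (N (L 322)
 (L 8413)))
 (N (N (L 10438)
 (L 2463))
 (L 12124)))))
 (N (N (N (N (N (L 14678)
 (L 13098))
 (N (L 11590)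
 (L 5543)))
 (N (N (L 7654)
 (L 611))
 (N (L 971)
 (L 11907))))
 (N (N (N (L 7389)
 (L 14495))
 (N (L 12306)
 (L 8579)))
 (N (N (L 4008)
 (L 10780))
 (L 12431))))
 (N (N (N (N (L 10560)
 (L 7884))
 (N (L 645)
 (L 8804)))
 (N (N (L 7565)
 (L 12925))
 (N (L 4359)
 (L 1357))))
 (N (N (N (L 4300)
 (L 4611))
 (N (L 7686)
 (L 2138)))
 (N (N (L 6472)
 (L 12578))
 (L 1239)))))))))
 (N (N (N (N (N (N (N (N (N (L 281)
 (L 1447))
 (N (L 7080)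
 (L 1293)))
 (N (N (L 13857)
 (L 10088))
 (N (L 1338)
 (L 12950))))
 (N (N (N (L 136)
 (L 6384))
 (N (L 9520)
 (L 9328)))
 (N (N (L 7836)
 (L 14624))
 (N (L 10385)
 (L 4190)))))
 (N (N (N (N (L 9638)
 (L 3314))
 (N (L 1385)
 (L 1088)))
 (N (N (L 7205)
 (L 11195))
 (N (L 8800)
 (L 4267))))
 (N (N (N (L 9888)
 (L 3466))
 (N (L 13523)
 (L 7124)))
 (N (N (L 10061)
 (L 13564))
 (L 4591)))))
 (N (N (N (N (N (L 4939)
 (L 8824))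
 (N (L 4833)
 (L 12931)))
 (N (N (L 10271)
 (L 4118))
 (N (L 14754)
 (L 6082))))
 (N (N (N (L 11554)
 (L 6633))
 (N (L 13208)
 (L 5277)))
 (N (N (L 1583)
 (L 3744))
 (L 9217))))
 (N (N (N (N (L 833)
 (L 1167))
 (N (L 14509)
 (L 8509)))
 (N (N (L 12513)
 (L 7066))
 (N (L 4166)
 (L 6838))))
 (N (N (N (L 12635)
 (L 5701))
 (N (L 10803)
 (L 8034)))
 (N (N (L 5781)
 (L 9350))
 (L 6696))))))
 (N (N (N (N (N (N (L 8891)
 (L 7322))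
 (N (L 2371)
 (L 4226)))
 (N (N (L 8024)
 (L 2452))
 (N (L 5445)
 (L 13494))))
 (N (N (N (L 14855)
 (L 11625))
 (N (L 11174)
 (L 8426)))
 (N (N (L 1617)
 (L 1542))
 (L 8262))))
 (N (N (N (N (L 3953)
 (L 2410))
 (N (L 9365)
 (L 8571)))
 (N (N (L 1891)
 (L 14569))
 (N (L 1426)
 (L 12863))))
 (N (N (N (L 5758)
 (L 3472))
 (N (L 3575)
 (L 6347)))
 (N (N (L 2378)
 (L 7617))
 (L 4588)))))
 (N (N (N (N (N (L 11629)
 (L 1143))
 (N (L 7801)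
 (L 8092)))
 (N (N (L 7117)
 (L 14921))
 (N (L 4782)
 (L 13913))))
 (N (N (N (L 11580)
 (L 5815))
 (N (L 12261)
 (L 164)))
 (N (N (L 639)
 (L 11136))
 (L 5810))))
 (N (N (N (N (L 6297)
 (L 10002))
 (N (L 8177)
 (L 13056)))
 (N (N (L 14403)
 (L 7566))
 (N (L 3558)
 (L 6072))))
 (N (N (N (L 3124)
 (L 13017))
 (N (L 649)
 (L 3440)))
 (N (N (L 8198)
 (L 9190))
 (L 4986)))))))
 (N (N (N (N (N (N (N (L 6868)
 (L 8060))
 (N (L 13202)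
 (L 8355)))
 (N (N (L 2949)
 (L 9550))
 (N (L 6857)
 (L 4715))))
 (N (N (N (L 1970)
 (L 9710))
 (N (L 4327)
 (L 9039)))
 (N (N (L 6199)
 (L 14293))
 (L 7068))))
 (N (N (N (N (L 11797)
 (L 14029))
 (N (L 11811)
 (L 175)))
 (N (N (L 1582)
 (L 9957))
 (N (L 9166)
 (L 13762))))
 (N (N (N (L 8915)
 (L 2100))
 (N (L 2700)
 (L 4269)))
 (N (N (L 13754)
 (L 12969))
 (L 10562)))))
 (N (N (N (N (N (L 9047)
 (L 6050))
 (N (L 2408)
 (L 5468)))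
 (N (N (L 15127)
 (L 9008))
 (N (L 3521)
 (L 7665))))
 (N (N (N (L 8927)
 (L 6749))
 (N (L 13738)
 (L 14222)))
 (N (N (L 6898)
 (L 6647))
 (L 14319))))
 (N (N (N (N (L 9296)
 (L 13746))
 (N (L 6912)
 (L 12199)))
 (N (N (L 13060)
 (L 10525))
 (N (L 5635)
 (L 13983))))
 (N (N (N (L 12762)
 (L 11536))
 (N (L 12221)
 (L 15266)))
 (N (N (L 7876)
 (L 4839))
 (L 5253))))))
 (N (N (N (N (N (N (L 8663)
 (L 8058))
 (N (L 8472)
 (L 9819)))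
 (N (N (L 2441)
 (L 14223))
 (N (L 6435)
 (L 8181))))
 (N (N (N (L 12177)
 (L 10198))
 (N (L 14996)
 (L 6417)))
 (N (N (L 869)
 (L 3224))
 (L 14497))))
 (N (N (N (N (L 4333)
 (L 12878))
 (N (L 3081)
 (L 9585)))
 (N (N (L 2857)
 (L 14598))
 (N (L 6480)
 (L 283))))
 (N (N (N (L 12598)
 (L 5485))
 (N (L 6502)
 (L 7760)))
 (N (N (L 3351)
 (L 12687))
 (L 2843)))))
 (N (N (N (N (N (L 6668)
 (L 10890))
 (N (L 525)
 (L 3311)))
 (N (N (L 7008)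
 (L 9079))
 (N (L 10003)
 (L 5866))))
 (N (N (N (L 8408)
 (L 679))
 (N (L 681)
 (L 274)))
 (N (N (L 15143)
 (L 10831))
 (L 13104))))
 (N (N (N (N (L 5049)
 (L 6812))
 (N (L 10664)
 (L 10229)))
 (N (N (L 5722)
 (L 10237))
 (N (L 7693)
 (L 2421))))
 (N (N (N (L 1492)
 (L 7839))
 (N (L 11572)
 (L 5971)))
 (N (N (L 9589)
 (L 7478))
 (L 14547))))))))
 (N (N (N (N (N (N (N (N (L 11163)
 (L 3113))
 (N (L 9306)
 (L 623)))
 (N (N (L 5127)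
 (L 10698))
 (N (L 3631)
 (L 1812))))
 (N (N (N (L 5448)
 (L 10372))
 (N (L 6909)
 (L 9231)))
 (N (N (L 11435)
 (L 2133))
 (L 1486))))
 (N (N (N (N (L 1635)
 (L 4766))
 (N (L 6789)
 (L 2796)))
 (N (N (L 834)
 (L 10544))
 (N (L 2744)
 (L 549))))
 (N (N (N (L 7545)
 (L 8136))
 (N (L 12013)
 (L 8754)))
 (N (N (L 2879)
 (L 1303))
 (L 13238)))))
 (N (N (N (N (N (L 3865)
 (L 1007))
 (N (L 14084)
 (L 13799)))
 (N (N (L 2175)
 (L 11067))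
 (N (L 8178)
 (L 10798))))
 (N (N (N (L 7818)
 (L 5074))
 (N (L 15003)
 (L 15029)))
 (N (N (L 7516)
 (L 8769))
 (L 13963))))
 (N (N (N (N (L 8786)
 (L 13273))
 (N (L 10125)
 (L 1529)))
 (N (N (L 6418)
 (L 955))
 (N (L 5932)
 (L 2187))))
 (N (N (N (L 11815)
 (L 7296))
 (N (L 1455)
 (L 15379)))
 (N (N (L 10893)
 (L 1549))
 (L 1292))))))
 (N (N (N (N (N (N (L 5783)
 (L 8232))
 (N (L 8153)
 (L 10196)))
 (N (N (L 6445)
 (L 12390))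
 (N (L 14392)
 (L 6820))))
 (N (N (N (L 13730)
 (L 9524))
 (N (L 8712)
 (L 6302)))
 (N (N (L 3644)
 (L 3982))
 (L 761))))
 (N (N (N (N (L 2926)
 (L 2658))
 (N (L 10979)
 (L 7037)))
 (N (N (L 7573)
 (L 1762))
 (N (L 7893)
 (L 1733))))
 (N (N (N (L 4289)
 (L 672))
 (N (L 4297)
 (L 8462)))
 (N (N (L 13646)
 (L 4544))
 (L 9656)))))
 (N (N (N (N (N (L 13125)
 (L 2647))
 (N (L 5589)
 (L 10771)))
 (N (N (L 63)
 (L 12581))
 (N (L 6843)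
 (L 12158))))
 (N (N (N (L 9560)
 (L 2126))
 (N (L 2113)
 (L 11186)))
 (N (N (L 2553)
 (L 1566))
 (L 4455))))
 (N (N (N (N (L 12153)
 (L 1688))
 (N (L 2400)
 (L 12485)))
 (N (N (L 6861)
 (L 202))
 (N (L 8338)
 (L 12115))))
 (N (N (N (L 12585)
 (L 2980))
 (N (L 256)
 (L 7982)))
 (N (N (L 13450)
 (L 5045))
 (L 15106)))))))
 (N (N (N (N (N (N (N (L 8271)
 (L 4041))
 (N (L 7822)
 (L 1988)))
 (N (N (L 13755)
 (L 14962))
 (N (L 7528)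
 (L 537))))
 (N (N (N (L 12828)
 (L 5972))
 (N (L 15007)
 (L 1163)))
 (N (N (L 11000)
 (L 1246))
 (L 8662))))
 (N (N (N (N (L 12012)
 (L 1550))
 (N (L 2866)
 (L 5597)))
 (N (N (L 7116)
 (L 7558))
 (N (L 671)
 (L 15177))))
 (N (N (N (L 8270)
 (L 4928))
 (N (L 12005)
 (L 3743)))
 (N (N (L 65)
 (L 9265))
 (L 2084)))))
 (N (N (N (N (N (L 1102)
 (L 13685))
 (N (L 3181)
 (L 1381)))
 (N (N (L 14375)
 (L 1401))
 (N (L 10749)
 (L 11754))))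
 (N (N (N (L 2326)
 (L 11919))
 (N (L 9998)
 (L 6800)))
 (N (N (L 2692)
 (L 10016))
 (L 6590))))
 (N (N (N (N (L 2044)
 (L 4232))
 (N (L 10296)
 (L 10860)))
 (N (N (L 13258)
 (L 12509))
 (N (L 4531)
 (L 5858))))
 (N (N (N (L 11201)
 (L 5196))
 (N (L 540)
 (L 7193)))
 (N (N (L 12571)
 (L 4975))
 (L 4573))))))
 (N (N (N (N (N (N (L 6311)
 (L 10872))
 (N (L 4222)
 (L 5369)))
 (N (N (L 12787)
 (L 10331))
 (N (L 2404)
 (L 1545))))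
 (N (N (N (L 9152)
 (L 5209))
 (N (L 556)
 (L 5094)))
 (N (N (L 7089)
 (L 14027))
 (L 6640))))
 (N (N (N (N (L 3212)
 (L 3064))
 (N (L 8417)
 (L 4937)))
 (N (N (L 6242)
 (L 121))
 (N (L 10950)
 (L 9901))))
 (N (N (N (L 14574)
 (L 6186))
 (N (L 8575)
 (L 12103)))
 (N (N (L 2604)
 (L 2943))
 (L 12996)))))
 (N (N (N (N (N (L 7816)
 (L 6978))
 (N (L 13820)
 (L 12402)))
 (N (N (L 9436)
 (L 15172))
 (N (L 4129)
 (L 8925))))
 (N (N (N (L 100)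
 (L 13492))
 (N (L 14388)
 (L 13382)))
 (N (N (L 9751)
 (L 11259))
 (L 445))))
 (N (N (N (N (L 5174)
 (L 1164))
 (N (L 14586)
 (L 838)))
 (N (N (L 751)
 (L 11062))
 (N (L 9321)
 (L 6503))))
 (N (N (N (L 7151)
 (L 9868))
 (N (L 9658)
 (L 1592)))
 (N (N (L 14964)
 (L 8149))
 (L 13484))))))))))
 (N (N (N (N (N (N (N (N (N (N (L 3737)
 (L 6531))
 (N (L 6241)
 (L 13030)))
 (N (N (L 11957)
 (L 8797))
 (N (L 9380)
 (L 1453))))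
 (N (N (N (L 1093)
 (L 5985))
 (N (L 9517)
 (L 14235)))
 (N (N (L 9488)
 (L 919))
 (N (L 13214)
 (L 9348)))))
 (N (N (N (N (L 14107)
 (L 7354))
 (N (L 10027)
 (L 7255)))
 (N (N (L 11926)
 (L 4968))
 (N (L 11702)
 (L 4014))))
 (N (N (N (L 8387)
 (L 10924))
 (N (L 12135)
 (L 12250)))
 (N (N (L 10423)
 (L 4850))
 (L 4474)))))
 (N (N (N (N (N (L 9123)
 (L 314))
 (N (L 6149)
 (L 6956)))
 (N (N (L 14493)
 (L 4853))
 (N (L 5098)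
 (L 4423))))
 (N (N (N (L 12174)
 (L 11831))
 (N (L 12285)
 (L 8393)))
 (N (N (L 3030)
 (L 5660))
 (L 12167))))
 (N (N (N (N (L 4200)
 (L 4886))
 (N (L 10009)
 (L 2238)))
 (N (N (L 3664)
 (L 8510))
 (N (L 5310)
 (L 2171))))
 (N (N (N (L 12623)
 (L 14672))
 (N (L 3461)
 (L 1022)))
 (N (N (L 7085)
 (L 6599))
 (L 13170))))))
 (N (N (N (N (N (N (L 1245)
 (L 12040))
 (N (L 13132)
 (L 2450)))
 (N (N (L 7055)
 (L 11482))
 (N (L 5832)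
 (L 7735))))
 (N (N (N (L 242)
 (L 4639))
 (N (L 6780)
 (L 3764)))
 (N (N (L 559)
 (L 4513))
 (L 11211))))
 (N (N (N (N (L 4667)
 (L 13340))
 (N (L 3192)
 (L 2333)))
 (N (N (L 10853)
 (L 8336))
 (N (L 13905)
 (L 8474))))
 (N (N (N (L 6035)
 (L 14255))
 (N (L 9945)
 (L 3332)))
 (N (N (L 10049)
 (L 1581))
 (L 6345)))))
 (N (N (N (N (N (L 9003)
 (L 7242))
 (N (L 3766)
 (L 1715)))
 (N (N (L 3772)
 (L 962))
 (N (L 15)
 (L 6408))))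
 (N (N (N (L 13722)
 (L 8924))
 (N (L 1112)
 (L 11910)))
 (N (N (L 15372)
 (L 15370))
 (L 3098))))
 (N (N (N (N (L 3711)
 (L 1570))
 (N (L 10835)
 (L 508)))
 (N (N (L 14297)
 (L 1019))
 (N (L 7546)
 (L 12619))))
 (N (N (N (L 13095)
 (L 13157))
 (N (L 8277)
 (L 1906)))
 (N (N (L 13629)
 (L 6989))
 (L 4146)))))))
 (N (N (N (N (N (N (N (L 3323)
 (L 7006))
 (N (L 13543)
 (L 11343)))
 (N (N (L 6183)
 (L 11157))
 (N (L 1559)
 (L 1502))))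
 (N (N (N (L 4127)
 (L 13335))
 (N (L 1350)
 (L 11349)))
 (N (N (L 15205)
 (L 2710))
 (L 12948))))
 (N (N (N (N (L 8196)
 (L 13393))
 (N (L 7704)
 (L 14492)))
 (N (N (L 7082)
 (L 4050))
 (N (L 2859)
 (L 10765))))
 (N (N (N (L 11385)
 (L 1225))
 (N (L 13808)
 (L 211)))
 (N (N (L 14353)
 (L 2674))
 (L 6742)))))
 (N (N (N (N (N (L 10705)
 (L 13265))
 (N (L 8378)
 (L 5900)))
 (N (N (L 5893)
 (L 1433))
 (N (L 3133)
 (L 13348))))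
 (N (N (N (L 12436)
 (L 6917))
 (N (L 5704)
 (L 8962)))
 (N (N (L 1815)
 (L 9497))
 (L 11378))))
 (N (N (N (N (L 13394)
 (L 5137))
 (N (L 433)
 (L 10533)))
 (N (N (L 3550)
 (L 5964))
 (N (L 3442)
 (L 9034))))
 (N (N (N (L 23)
 (L 3247))
 (N (L 5262)
 (L 13135)))
 (N (N (L 9340)
 (L 7853))
 (L 9196))))))
 (N (N (N (N (N (N (L 7780)
 (L 4893))
 (N (L 10391)
 (L 1961)))
 (N (N (L 4378)
 (L 15080))
 (N (L 6276)
 (L 2900))))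
 (N (N (N (L 2800)
 (L 10825))
 (N (L 1537)
 (L 12489)))
 (N (N (L 9136)
 (L 7637))
 (L 11768))))
 (N (N (N (N (L 13310)
 (L 2303))
 (N (L 13710)
 (L 5678)))
 (N (N (L 10068)
 (L 11411))
 (N (L 15272)
 (L 3207))))
 (N (N (N (L 9239)
 (L 8995))
 (N (L 2000)
 (L 7075)))
 (N (N (L 11116)
 (L 9104))
 (L 12708)))))
 (N (N (N (N (N (L 3222)
 (L 3035))
 (N (L 10830)
 (L 1248)))
 (N (N (L 13948)
 (L 7396))
 (N (L 1879)
 (L 2888))))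
 (N (N (N (L 8683)
 (L 687))
 (N (L 9139)
 (L 9309)))
 (N (N (L 11168)
 (L 11599))
 (L 2188))))
 (N (N (N (N (L 271)
 (L 808))
 (N (L 14648)
 (L 13958)))
 (N (N (L 15010)
 (L 5019))
 (N (L 13705)
 (L 11424))))
 (N (N (N (L 6143)
 (L 3739))
 (N (L 13765)
 (L 4383)))
 (N (N (L 14527)
 (L 12190))
 (L 12876))))))))
 (N (N (N (N (N (N (N (N (L 3628)
 (L 14525))
 (N (L 980)
 (L 2239)))
 (N (N (L 3564)
 (L 64))
 (N (L 2504)
 (L 15111))))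
 (N (N (N (L 2887)
 (L 14550))
 (N (L 1889)
 (L 4519)))
 (N (N (L 1158)
 (L 997))
 (L 5883))))
 (N (N (N (N (L 7197)
 (L 12794))
 (N (L 2153)
 (L 9672)))
 (N (N (L 5285)
 (L 9088))
 (N (L 11844)
 (L 6133))))
 (N (N (N (L 7674)
 (L 505))
 (N (L 12943)
 (L 3313)))
 (N (N (L 15000)
 (L 426))
 (L 3423)))))
 (N (N (N (N (N (L 9127)
 (L 12757))
 (N (L 8059)
 (L 15207)))
 (N (N (L 5024)
 (L 9002))
 (N (L 2718)
 (L 11057))))
 (N (N (N (L 13262)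
 (L 1773))
 (N (L 7310)
 (L 3547)))
 (N (N (L 14829)
 (L 12799))
 (L 6786))))
 (N (N (N (N (L 9559)
 (L 3588))
 (N (L 2387)
 (L 7799)))
 (N (N (L 1597)
 (L 305))
 (N (L 15288)
 (L 4153))))
 (N (N (N (L 3004)
 (L 71))
 (N (L 11631)
 (L 363)))
 (N (N (L 12245)
 (L 8260))
 (L 5229))))))
 (N (N (N (N (N (N (L 5581)
 (L 957))
 (N (L 11187)
 (L 8111)))
 (N (N (L 10386)
 (L 12574))
 (N (L 14257)
 (L 11137))))
 (N (N (N (L 2278)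
 (L 6088))
 (N (L 2166)
 (L 13748)))
 (N (N (L 3863)
 (L 6679))
 (L 4299))))
 (N (N (N (N (L 2049)
 (L 13149))
 (N (L 12672)
 (L 9459)))
 (N (N (L 14093)
 (L 13083))
 (N (L 12045)
 (L 8010))))
 (N (N (N (L 1743)
 (L 6290))
 (N (L 393)
 (L 1473)))
 (N (N (L 6041)
 (L 3546))
 (L 3977)))))
 (N (N (N (N (N (L 5104)
 (L 12072))
 (N (L 8789)
 (L 14355)))
 (N (N (L 12626)
 (L 14014))
 (N (L 4148)
 (L 4876))))
 (N (N (N (L 3191)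
 (L 9366))
 (N (L 10439)
 (L 2584)))
 (N (N (L 15094)
 (L 11513))
 (L 14175))))
 (N (N (N (N (L 14058)
 (L 11296))
 (N (L 14024)
 (L 9567)))
 (N (N (L 1900)
 (L 12606))
 (N (L 14491)
 (L 13867))))
 (N (N (N (L 3336)
 (L 218))
 (N (L 9695)
 (L 4923)))
 (N (N (L 7130)
 (L 4366))
 (L 1481)))))))
 (N (N (N (N (N (N (N (L 14546)
 (L 14781))
 (N (L 12756)
 (L 2623)))
 (N (N (L 5324)
 (L 8320))
 (N (L 6349)
 (L 3520))))
 (N (N (N (L 12294)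
 (L 5622))
 (N (L 4592)
 (L 4124)))
 (N (N (L 9058)
 (L 3712))
 (L 9952))))
 (N (N (N (N (L 8194)
 (L 7771))
 (N (L 6101)
 (L 8423)))
 (N (N (L 2146)
 (L 386))
 (N (L 11751)
 (L 9737))))
 (N (N (N (L 7304)
 (L 8226))
 (N (L 6525)
 (L 10962)))
 (N (N (L 12924)
 (L 5447))
 (L 9492)))))
 (N (N (N (N (N (L 10843)
 (L 12793))
 (N (L 8548)
 (L 81)))
 (N (N (L 5505)
 (L 2768))
 (N (L 7547)
 (L 13653))))
 (N (N (N (L 580)
 (L 8201))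
 (N (L 11984)
 (L 4847)))
 (N (N (L 10428)
 (L 10597))
 (L 12632))))
 (N (N (N (N (L 12748)
 (L 1987))
 (N (L 193)
 (L 4668)))
 (N (N (L 6421)
 (L 10168))
 (N (L 5108)
 (L 6535))))
 (N (N (N (L 13138)
 (L 15052))
 (N (L 975)
 (L 1548)))
 (N (N (L 485)
 (L 6124))
 (L 3013))))))
 (N (N (N (N (N (N (L 9437)
 (L 995))
 (N (L 6243)
 (L 14426)))
 (N (N (L 7099)
 (L 12591))
 (N (L 11606)
 (L 15061))))
 (N (N (N (L 13356)
 (L 14406))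
 (N (L 1681)
 (L 2373)))
 (N (N (L 5486)
 (L 290))
 (L 1533))))
 (N (N (N (N (L 3857)
 (L 13293))
 (N (L 9192)
 (L 6517)))
 (N (N (L 11117)
 (L 2861))
 (N (L 14487)
 (L 1521))))
 (N (N (N (L 13758)
 (L 3271))
 (N (L 1420)
 (L 13160)))
 (N (N (L 9400)
 (L 9897))
 (L 108)))))
 (N (N (N (N (N (L 10218)
 (L 9399))
 (N (L 8890)
 (L 3407)))
 (N (N (L 787)
 (L 14018))
 (N (L 7690)
 (L 11466))))
 (N (N (N (L 7120)
 (L 10556))
 (N (L 4983)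
 (L 9746)))
 (N (N (L 4941)
 (L 6976))
 (L 12102))))
 (N (N (N (N (L 2306)
 (L 9385))
 (N (L 8960)
 (L 3517)))
 (N (N (L 694)
 (L 14074))
 (N (L 6892)
 (L 9642))))
 (N (N (N (L 12388)
 (L 15047))
 (N (L 3380)
 (L 10026)))
 (N (N (L 6125)
 (L 10912))
 (L 6291)))))))))
 (N (N (N (N (N (N (N (N (N (L 11097)
 (L 9119))
 (N (L 1305)
 (L 9286)))
 (N (N (L 4524)
 (L 10477))
 (N (L 13465)
 (L 9889))))
 (N (N (N (L 6431)
 (L 11529))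
 (N (L 9764)
 (L 9902)))
 (N (N (L 14913)
 (L 10608))
 (N (L 10557)
 (L 7765)))))
 (N (N (N (N (L 11461)
 (L 10153))
 (N (L 12773)
 (L 13563)))
 (N (N (L 1619)
 (L 13081))
 (N (L 13551)
 (L 5190))))
 (N (N (N (L 15053)
 (L 1990))
 (N (L 5565)
 (L 3919)))
 (N (N (L 3015)
 (L 13561))
 (L 5506)))))
 (N (N (N (N (N (L 1819)
 (L 11783))
 (N (L 2203)
 (L 5318)))
 (N (N (L 418)
 (L 1259))
 (N (L 8210)
 (L 10011))))
 (N (N (N (L 7227)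
 (L 10262))
 (N (L 12406)
 (L 14221)))
 (N (N (L 6747)
 (L 6298))
 (L 11562))))
 (N (N (N (N (L 2018)
 (L 4704))
 (N (L 14771)
 (L 10478)))
 (N (N (L 1286)
 (L 13930))
 (N (L 9978)
 (L 665))))
 (N (N (N (L 8812)
 (L 105))
 (N (L 3354)
 (L 12046)))
 (N (N (L 14298)
 (L 1062))
 (L 14543))))))
 (N (N (N (N (N (N (L 10301)
 (L 13777))
 (N (L 2826)
 (L 9326)))
 (N (N (L 799)
 (L 6946))
 (N (L 1144)
 (L 10476))))
 (N (N (N (L 855)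
 (L 8471))
 (N (L 13697)
 (L 4318)))
 (N (N (L 6333)
 (L 9732))
 (L 6634))))
 (N (N (N (N (L 313)
 (L 2434))
 (N (L 10051)
 (L 9307)))
 (N (N (L 5466)
 (L 5187))
 (N (L 13842)
 (L 8565))))
 (N (N (N (L 3900)
 (L 3701))
 (N (L 13467)
 (L 13455)))
 (N (N (L 8371)
 (L 15161))
 (L 8626)))))
 (N (N (N (N (N (L 9158)
 (L 3186))
 (N (L 7929)
 (L 6600)))
 (N (N (L 9205)
 (L 14911))
 (N (L 6106)
 (L 5026))))
 (N (N (N (L 2912)
 (L 2052))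
 (N (L 9920)
 (L 1757)))
 (N (N (L 427)
 (L 14443))
 (L 8743))))
 (N (N (N (N (L 2363)
 (L 2057))
 (N (L 1005)
 (L 13041)))
 (N (N (L 10192)
 (L 11766))
 (N (L 6310)
 (L 2366))))
 (N (N (N (L 7131)
 (L 9251))
 (N (L 3171)
 (L 9220)))
 (N (N (L 4618)
 (L 7961))
 (L 15002)))))))
 (N (N (N (N (N (N (N (L 3216)
 (L 5493))
 (N (L 15152)
 (L 5120)))
 (N (N (L 856)
 (L 12460))
 (N (L 11235)
 (L 3359))))
 (N (N (N (L 4802)
 (L 2477))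
 (N (L 5062)
 (L 5877)))
 (N (N (L 12683)
 (L 7491))
 (L 12861))))
 (N (N (N (N (L 6798)
 (L 15070))
 (N (L 12719)
 (L 7072)))
 (N (N (L 12218)
 (L 8063))
 (N (L 5567)
 (L 3911))))
 (N (N (N (L 824)
 (L 8857))
 (N (L 12531)
 (L 9583)))
 (N (N (L 791)
 (L 9909))
 (L 14902)))))
 (N (N (N (N (N (L 1838)
 (L 12039))
 (N (L 1722)
 (L 7220)))
 (N (N (L 3799)
 (L 6465))
 (N (L 4792)
 (L 11705))))
 (N (N (N (L 10810)
 (L 10239))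
 (N (L 7924)
 (L 1877)))
 (N (N (L 12229)
 (L 8689))
 (L 12263))))
 (N (N (N (N (L 6979)
 (L 4343))
 (N (L 14968)
 (L 7947)))
 (N (N (L 9553)
 (L 14510))
 (N (L 7641)
 (L 15090))))
 (N (N (N (L 3174)
 (L 10540))
 (N (L 3040)
 (L 1609)))
 (N (N (L 10638)
 (L 5827))
 (L 7602))))))
 (N (N (N (N (N (N (L 5879)
 (L 1968))
 (N (L 4727)
 (L 9856)))
 (N (N (L 1656)
 (L 1878))
 (N (L 11166)
 (L 11699))))
 (N (N (N (L 14783)
 (L 12706))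
 (N (L 8678)
 (L 6621)))
 (N (N (L 5542)
 (L 8044))
 (L 884))))
 (N (N (N (N (L 1243)
 (L 5343))
 (N (L 14803)
 (L 3404)))
 (N (N (L 8040)
 (L 13553))
 (N (L 7762)
 (L 14561))))
 (N (N (N (L 11050)
 (L 9877))
 (N (L 5041)
 (L 8347)))
 (N (N (L 2335)
 (L 9907))
 (L 13596)))))
 (N (N (N (N (N (L 6414)
 (L 1201))
 (N (L 278)
 (L 7146)))
 (N (N (L 1423)
 (L 7044))
 (N (L 1508)
 (L 5838))))
 (N (N (N (L 4959)
 (L 14756))
 (N (L 5909)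
 (L 3291)))
 (N (N (L 2379)
 (L 4035))
 (L 11637))))
 (N (N (N (N (L 5568)
 (L 12705))
 (N (L 13233)
 (L 2518)))
 (N (N (L 14988)
 (L 3596))
 (N (L 5340)
 (L 5096))))
 (N (N (N (L 1544)
 (L 1017))
 (N (L 5662)
 (L 10906)))
 (N (N (L 7635)
 (L 1204))
 (L 13272))))))))
 (N (N (N (N (N (N (N (N (L 3751)
 (L 4988))
 (N (L 14812)
 (L 968)))
 (N (N (L 3431)
 (L 5612))
 (N (L 3156)
 (L 12307))))
 (N (N (N (L 12905)
 (L 13211))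
 (N (L 10932)
 (L 356)))
 (N (N (L 4176)
 (L 1515))
 (L 6076))))
 (N (N (N (N (L 5716)
 (L 11635))
 (N (L 14919)
 (L 4154)))
 (N (N (L 6823)
 (L 10915))
 (N (L 14889)
 (L 6699))))
 (N (N (N (L 8026)
 (L 6725))
 (N (L 9944)
 (L 3994)))
 (N (N (L 7598)
 (L 9505))
 (L 2328)))))
 (N (N (N (N (N (L 12952)
 (L 6467))
 (N (L 5987)
 (L 10688)))
 (N (N (L 7456)
 (L 4578))
 (N (L 4566)
 (L 4996))))
 (N (N (N (L 2747)
 (L 7502))
 (N (L 1983)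
 (L 9720)))
 (N (N (L 14442)
 (L 13815))
 (L 14064))))
 (N (N (N (N (L 2405)
 (L 5087))
 (N (L 7510)
 (L 1494)))
 (N (N (L 343)
 (L 8852))
 (N (L 9568)
 (L 5307))))
 (N (N (N (L 8356)
 (L 6955))
 (N (L 10629)
 (L 6322)))
 (N (N (L 3583)
 (L 13885))
 (L 14659))))))
 (N (N (N (N (N (N (L 9491)
 (L 12922))
 (N (L 12236)
 (L 6816)))
 (N (N (L 13118)
 (L 9490))
 (N (L 6301)
 (L 9343))))
 (N (N (N (L 12935)
 (L 14967))
 (N (L 1418)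
 (L 3478)))
 (N (N (L 709)
 (L 13162))
 (L 12109))))
 (N (N (N (N (L 5890)
 (L 4005))
 (N (L 152)
 (L 14667)))
 (N (N (L 4958)
 (L 6527))
 (N (L 1018)
 (L 1263))))
 (N (N (N (L 12143)
 (L 1638))
 (N (L 13719)
 (L 9397)))
 (N (N (L 7236)
 (L 14666))
 (L 5680)))))
 (N (N (N (N (N (L 8204)
 (L 14139))
 (N (L 406)
 (L 12812)))
 (N (N (L 2688)
 (L 6313))
 (N (L 1315)
 (L 2522))))
 (N (N (N (L 46)
 (L 3750))
 (N (L 8615)
 (L 3850)))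
 (N (N (L 13226)
 (L 5140))
 (L 15033))))
 (N (N (N (N (L 11244)
 (L 10431))
 (N (L 8609)
 (L 13345)))
 (N (N (L 4569)
 (L 1601))
 (N (L 4364)
 (L 9803))))
 (N (N (N (L 9438)
 (L 7826))
 (N (L 4069)
 (L 15060)))
 (N (N (L 1903)
 (L 8919))
 (L 6921)))))))
 (N (N (N (N (N (N (N (L 7809)
 (L 13548))
 (N (L 9950)
 (L 11258)))
 (N (N (L 13840)
 (L 1153))
 (N (L 7530)
 (L 10916))))
 (N (N (N (L 14265)
 (L 2128))
 (N (L 15270)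
 (L 7538)))
 (N (N (L 4389)
 (L 4915))
 (L 5059))))
 (N (N (N (N (L 9709)
 (L 7817))
 (N (L 3591)
 (L 10716)))
 (N (N (L 8110)
 (L 9120))
 (N (L 7877)
 (L 6794))))
 (N (N (N (L 3331)
 (L 3484))
 (N (L 1913)
 (L 12088)))
 (N (N (L 6194)
 (L 11929))
 (L 7073)))))
 (N (N (N (N (N (L 7589)
 (L 592))
 (N (L 51)
 (L 7452)))
 (N (N (L 6512)
 (L 6863))
 (N (L 4243)
 (L 10631))))
 (N (N (N (L 14606)
 (L 1604))
 (N (L 11974)
 (L 2852)))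
 (N (N (L 7888)
 (L 11987))
 (L 6001))))
 (N (N (N (N (L 3330)
 (L 12857))
 (N (L 10941)
 (L 12)))
 (N (N (L 13108)
 (L 13377))
 (N (L 8280)
 (L 12703))))
 (N (N (N (L 3866)
 (L 3928))
 (N (L 5724)
 (L 9643)))
 (N (N (L 9622)
 (L 3924))
 (L 7500))))))
 (N (N (N (N (N (N (L 3893)
 (L 5917))
 (N (L 10139)
 (L 15338)))
 (N (N (L 2301)
 (L 7123))
 (N (L 346)
 (L 8632))))
 (N (N (N (L 11110)
 (L 14066))
 (N (L 858)
 (L 9802)))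
 (N (N (L 10055)
 (L 3955))
 (L 11577))))
 (N (N (N (N (L 12456)
 (L 15264))
 (N (L 3753)
 (L 13054)))
 (N (N (L 14292)
 (L 10566))
 (N (L 5242)
 (L 1241))))
 (N (N (N (L 409)
 (L 8254))
 (N (L 15341)
 (L 6321)))
 (N (N (L 12688)
 (L 3860))
 (L 9561)))))
 (N (N (N (N (N (L 14028)
 (L 6837))
 (N (L 8050)
 (L 10905)))
 (N (N (L 1138)
 (L 5941))
 (N (L 5674)
 (L 9253))))
 (N (N (N (L 6836)
 (L 14763))
 (N (L 3226)
 (L 11662)))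
 (N (N (L 9063)
 (L 7692))
 (L 10044))))
 (N (N (N (N (L 452)
 (L 11074))
 (N (L 8121)
 (L 132)))
 (N (N (L 7774)
 (L 1317))
 (N (L 11141)
 (L 6842))))
 (N (N (N (L 14332)
 (L 12031))
 (N (L 235)
 (L 15128)))
 (N (N (L 4067)
 (L 754))
 (L 10225)))))))))))
 (N (N (N (N (N (N (N (N (N (N (N (L 4452)
 (L 155))
 (N (L 9362)
 (L 1224)))
 (N (N (L 12395)
 (L 9880))
 (N (L 14178)
 (L 3861))))
 (N (N (N (L 9250)
 (L 14994))
 (N (L 11542)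
 (L 15049)))
 (N (N (L 8902)
 (L 7438))
 (N (L 15135)
 (L 6795)))))
 (N (N (N (N (L 4097)
 (L 7298))
 (N (L 6582)
 (L 14766)))
 (N (N (L 2368)
 (L 12006))
 (N (L 13667)
 (L 6177))))
 (N (N (N (L 4845)
 (L 5103))
 (N (L 6846)
 (L 12927)))
 (N (N (L 967)
 (L 8518))
 (L 2621)))))
 (N (N (N (N (N (L 14723)
 (L 14923))
 (N (L 2229)
 (L 4816)))
 (N (N (L 12468)
 (L 9531))
 (N (L 140)
 (L 7864))))
 (N (N (N (L 12886)
 (L 3316))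
 (N (L 10733)
 (L 10138)))
 (N (N (L 10014)
 (L 1080))
 (L 8016))))
 (N (N (N (N (L 5364)
 (L 2786))
 (N (L 9215)
 (L 6580)))
 (N (N (L 9840)
 (L 15362))
 (N (L 12007)
 (L 9980))))
 (N (N (N (L 10623)
 (L 9804))
 (N (L 9713)
 (L 2274)))
 (N (N (L 6438)
 (L 7036))
 (L 5718))))))
 (N (N (N (N (N (N (L 14488)
 (L 10070))
 (N (L 2106)
 (L 1231)))
 (N (N (L 10987)
 (L 7796))
 (N (L 13769)
 (L 15153))))
 (N (N (N (L 8978)
 (L 5243))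
 (N (L 11909)
 (L 14120)))
 (N (N (L 4027)
 (L 4404))
 (L 2016))))
 (N (N (N (N (L 1907)
 (L 9082))
 (N (L 13023)
 (L 670)))
 (N (N (L 8813)
 (L 1462))
 (N (L 5361)
 (L 13823))))
 (N (N (N (L 4770)
 (L 7932))
 (N (L 7781)
 (L 4837)))
 (N (N (L 4899)
 (L 15319))
 (L 10599)))))
 (N (N (N (N (N (L 6249)
 (L 2493))
 (N (L 9197)
 (L 2189)))
 (N (N (L 7010)
 (L 2865))
 (N (L 170)
 (L 6507))))
 (N (N (N (L 9210)
 (L 13707))
 (N (L 10942)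
 (L 8758)))
 (N (N (L 14105)
 (L 4314))
 (L 7215))))
 (N (N (N (N (L 5251)
 (L 8906))
 (N (L 11096)
 (L 3360)))
 (N (N (L 11996)
 (L 4528))
 (N (L 11573)
 (L 13627))))
 (N (N (N (L 13035)
 (L 3825))
 (N (L 8253)
 (L 2231)))
 (N (N (L 11940)
 (L 12288))
 (L 2482)))))))
 (N (N (N (N (N (N (N (L 11441)
 (L 1663))
 (N (L 12792)
 (L 1378)))
 (N (N (L 150)
 (L 7964))
 (N (L 4692)
 (L 8791))))
 (N (N (N (L 4944)
 (L 85))
 (N (L 3046)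
 (L 7069)))
 (N (N (L 14515)
 (L 5245))
 (L 1689))))
 (N (N (N (N (L 12168)
 (L 7484))
 (N (L 1450)
 (L 5472)))
 (N (N (L 14712)
 (L 7263))
 (N (L 12517)
 (L 5934))))
 (N (N (N (L 258)
 (L 7552))
 (N (L 7608)
 (L 1368)))
 (N (N (L 14130)
 (L 14736))
 (L 9010)))))
 (N (N (N (N (N (L 12025)
 (L 6662))
 (N (L 15024)
 (L 3949)))
 (N (N (L 14036)
 (L 4767))
 (N (L 2299)
 (L 4338))))
 (N (N (N (L 3671)
 (L 14238))
 (N (L 2789)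
 (L 3393)))
 (N (N (L 5211)
 (L 5856))
 (L 15068))))
 (N (N (N (N (L 4571)
 (L 5157))
 (N (L 3077)
 (L 11291)))
 (N (N (L 2287)
 (L 11019))
 (N (L 6532)
 (L 1539))))
 (N (N (N (L 5366)
 (L 15173))
 (N (L 2031)
 (L 362)))
 (N (N (L 9501)
 (L 1922))
 (L 487))))))
 (N (N (N (N (N (N (L 11648)
 (L 481))
 (N (L 14764)
 (L 4039)))
 (N (N (L 5538)
 (L 2669))
 (N (L 1840)
 (L 802))))
 (N (N (N (L 2173)
 (L 8699))
 (N (L 4650)
 (L 5989)))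
 (N (N (L 13659)
 (L 3906))
 (L 14009))))
 (N (N (N (N (L 6292)
 (L 3714))
 (N (L 6959)
 (L 14616)))
 (N (N (L 5763)
 (L 4669))
 (N (L 11321)
 (L 9816))))
 (N (N (N (L 7179)
 (L 11392))
 (N (L 12071)
 (L 14959)))
 (N (N (L 3103)
 (L 2971))
 (L 12986)))))
 (N (N (N (N (N (L 701)
 (L 3512))
 (N (L 13395)
 (L 12389)))
 (N (N (L 1085)
 (L 3775))
 (N (L 14263)
 (L 2869))))
 (N (N (N (L 814)
 (L 8132))
 (N (L 7644)
 (L 10503)))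
 (N (N (L 3069)
 (L 2409))
 (L 14430))))
 (N (N (N (N (L 7951)
 (L 4429))
 (N (L 11224)
 (L 1429)))
 (N (N (L 1780)
 (L 2218))
 (N (L 9617)
 (L 3121))))
 (N (N (N (L 9444)
 (L 3700))
 (N (L 1760)
 (L 3643)))
 (N (N (L 7952)
 (L 852))
 (L 9654))))))))
 (N (N (N (N (N (N (N (N (L 2819)
 (L 9110))
 (N (L 15004)
 (L 11282)))
 (N (N (L 6459)
 (L 5940))
 (N (L 4681)
 (L 14708))))
 (N (N (N (L 13962)
 (L 11488))
 (N (L 6833)
 (L 9843)))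
 (N (N (L 9466)
 (L 14557))
 (N (L 2691)
 (L 3151)))))
 (N (N (N (N (L 1465)
 (L 14412))
 (N (L 13285)
 (L 10617)))
 (N (N (L 14588)
 (L 10133))
 (N (L 13158)
 (L 9662))))
 (N (N (N (L 10052)
 (L 9644))
 (N (L 1507)
 (L 7483)))
 (N (N (L 2993)
 (L 1033))
 (L 6213)))))
 (N (N (N (N (N (L 15346)
 (L 11105))
 (N (L 12797)
 (L 1940)))
 (N (N (L 1410)
 (L 8621))
 (N (L 137)
 (L 15193))))
 (N (N (N (L 8127)
 (L 13941))
 (N (L 4561)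
 (L 7035)))
 (N (N (L 12569)
 (L 8917))
 (L 5651))))
 (N (N (N (N (L 3177)
 (L 4810))
 (N (L 7264)
 (L 12414)))
 (N (N (L 11916)
 (L 4806))
 (N (L 8156)
 (L 14317))))
 (N (N (N (L 8350)
 (L 201))
 (N (L 5028)
 (L 6999)))
 (N (N (L 8829)
 (L 13120))
 (L 1676))))))
 (N (N (N (N (N (N (L 8484)
 (L 8406))
 (N (L 11510)
 (L 11774)))
 (N (N (L 13614)
 (L 2689))
 (N (L 4007)
 (L 7555))))
 (N (N (N (L 3820)
 (L 1659))
 (N (L 2573)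
 (L 4965)))
 (N (N (L 11089)
 (L 1425))
 (L 5575))))
 (N (N (N (N (L 10614)
 (L 3948))
 (N (L 12087)
 (L 7998)))
 (N (N (L 7226)
 (L 1564))
 (N (L 3735)
 (L 6293))))
 (N (N (N (L 14168)
 (L 4015))
 (N (L 130)
 (L 9913)))
 (N (N (L 1399)
 (L 8448))
 (L 4433)))))
 (N (N (N (N (N (L 739)
 (L 12865))
 (N (L 2578)
 (L 3986)))
 (N (N (L 7661)
 (L 3814))
 (N (L 14851)
 (L 2620))))
 (N (N (N (L 6376)
 (L 11434))
 (N (L 7592)
 (L 13662)))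
 (N (N (L 2944)
 (L 14342))
 (L 1451))))
 (N (N (N (N (L 14885)
 (L 3706))
 (N (L 12546)
 (L 4653)))
 (N (N (L 3346)
 (L 12378))
 (N (L 2497)
 (L 286))))
 (N (N (N (L 83)
 (L 1409))
 (N (L 11354)
 (L 14674)))
 (N (N (L 6464)
 (L 7251))
 (L 2047)))))))
 (N (N (N (N (N (N (N (L 4480)
 (L 6173))
 (N (L 14590)
 (L 5540)))
 (N (N (L 6353)
 (L 3230))
 (N (L 829)
 (L 13977))))
 (N (N (N (L 2353)
 (L 12651))
 (N (L 7392)
 (L 10311)))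
 (N (N (L 11454)
 (L 1915))
 (L 723))))
 (N (N (N (N (L 12195)
 (L 11448))
 (N (L 6107)
 (L 6163)))
 (N (N (L 7949)
 (L 3153))
 (N (L 3676)
 (L 1078))))
 (N (N (N (L 1563)
 (L 5482))
 (N (L 8966)
 (L 4323)))
 (N (N (L 6434)
 (L 4164))
 (L 4436)))))
 (N (N (N (N (N (L 5453)
 (L 14765))
 (N (L 15277)
 (L 8117)))
 (N (N (L 4138)
 (L 12782))
 (N (L 11571)
 (L 10988))))
 (N (N (N (L 14888)
 (L 9184))
 (N (L 10864)
 (L 3580)))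
 (N (N (L 1396)
 (L 11104))
 (L 13923))))
 (N (N (N (N (L 3479)
 (L 6267))
 (N (L 5548)
 (L 7677)))
 (N (N (L 3307)
 (L 3409))
 (N (L 12562)
 (L 11033))))
 (N (N (N (L 5288)
 (L 7561))
 (N (L 8032)
 (L 12570)))
 (N (N (L 5577)
 (L 315))
 (L 11859))))))
 (N (N (N (N (N (N (L 9775)
 (L 8449))
 (N (L 14922)
 (L 527)))
 (N (N (L 10537)
 (L 14013))
 (N (L 5714)
 (L 4887))))
 (N (N (N (L 12506)
 (L 3883))
 (N (L 2889)
 (L 12494)))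
 (N (N (L 4270)
 (L 3272))
 (L 4457))))
 (N (N (N (N (L 7908)
 (L 12921))
 (N (L 14260)
 (L 14476)))
 (N (N (L 7553)
 (L 173))
 (N (L 6098)
 (L 532))))
 (N (N (N (L 5770)
 (L 5643))
 (N (L 8497)
 (L 3408)))
 (N (N (L 1478)
 (L 9859))
 (L 6451)))))
 (N (N (N (N (N (L 13438)
 (L 5317))
 (N (L 3932)
 (L 8638)))
 (N (N (L 7387)
 (L 12832))
 (N (L 13578)
 (L 6954))))
 (N (N (N (L 13215)
 (L 2234))
 (N (L 5330)
 (L 9337)))
 (N (N (L 12820)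
 (L 813))
 (L 11140))))
 (N (N (N (N (L 4249)
 (L 15160))
 (N (L 13675)
 (L 14005)))
 (N (N (L 11673)
 (L 12156))
 (N (L 6986)
 (L 11076))))
 (N (N (N (L 8950)
 (L 12684))
 (N (L 4880)
 (L 331)))
 (N (N (L 12472)
 (L 12800))
 (L 8493)))))))))
 (N (N (N (N (N (N (N (N (N (L 3248)
 (L 2270))
 (N (L 11315)
 (L 5695)))
 (N (N (L 2557)
 (L 13174))
 (N (L 3058)
 (L 7518))))
 (N (N (N (L 1309)
 (L 11331))
 (N (L 13774)
 (L 10095)))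
 (N (N (L 2985)
 (L 11227))
 (N (L 8307)
 (L 10156)))))
 (N (N (N (N (L 1310)
 (L 11091))
 (N (L 552)
 (L 5198)))
 (N (N (L 13541)
 (L 3529))
 (N (L 12937)
 (L 8108))))
 (N (N (N (L 10788)
 (L 5981))
 (N (L 13299)
 (L 4399)))
 (N (N (L 4743)
 (L 1793))
 (L 13249)))))
 (N (N (N (N (N (L 11540)
 (L 7100))
 (N (L 11106)
 (L 12094)))
 (N (N (L 1728)
 (L 6268))
 (N (L 9865)
 (L 9221))))
 (N (N (N (L 6060)
 (L 3757))
 (N (L 7249)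
 (L 10691)))
 (N (N (L 3144)
 (L 12471))
 (L 5400))))
 (N (N (N (N (L 9116)
 (L 1928))
 (N (L 10425)
 (L 8528)))
 (N (N (L 5728)
 (L 926))
 (N (L 13643)
 (L 2939))))
 (N (N (N (L 892)
 (L 9107))
 (N (L 11024)
 (L 3729)))
 (N (N (L 2507)
 (L 5374))
 (L 7507))))))
 (N (N (N (N (N (N (L 10891)
 (L 3603))
 (N (L 15268)
 (L 9487)))
 (N (N (L 9080)
 (L 680))
 (N (L 3327)
 (L 6965))))
 (N (N (N (L 14359)
 (L 6324))
 (N (L 3111)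
 (L 279)))
 (N (N (L 6998)
 (L 10868))
 (L 1989))))
 (N (N (N (N (L 13502)
 (L 9941))
 (N (L 13939)
 (L 3901)))
 (N (N (L 11011)
 (L 12604))
 (N (L 7104)
 (L 12864))))
 (N (N (N (L 8208)
 (L 7436))
 (N (L 11894)
 (L 8939)))
 (N (N (L 9176)
 (L 3803))
 (L 2008)))))
 (N (N (N (N (N (L 9225)
 (L 2827))
 (N (L 1861)
 (L 2455)))
 (N (N (L 9555)
 (L 246))
 (N (L 3560)
 (L 4070))))
 (N (N (N (L 8166)
 (L 4747))
 (N (L 120)
 (L 4949)))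
 (N (N (L 5743)
 (L 15323))
 (L 11393))))
 (N (N (N (N (L 14463)
 (L 8834))
 (N (L 10272)
 (L 7395)))
 (N (N (L 11366)
 (L 3))
 (N (L 12686)
 (L 12854))))
 (N (N (N (L 10515)
 (L 12053))
 (N (L 4142)
 (L 2448)))
 (N (N (L 6440)
 (L 8648))
 (L 10137)))))))
 (N (N (N (N (N (N (N (L 1436)
 (L 13500))
 (N (L 8249)
 (L 5771)))
 (N (N (L 4954)
 (L 10926))
 (N (L 11642)
 (L 5250))))
 (N (N (N (L 10563)
 (L 4889))
 (N (L 15072)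
 (L 10350)))
 (N (N (L 9663)
 (L 15349))
 (L 9965))))
 (N (N (N (N (L 13471)
 (L 2298))
 (N (L 12255)
 (L 11465)))
 (N (N (L 13783)
 (L 7930))
 (N (L 7157)
 (L 7054))))
 (N (N (N (L 13889)
 (L 6867))
 (N (L 1441)
 (L 12646)))
 (N (N (L 12965)
 (L 14291))
 (L 4225)))))
 (N (N (N (N (N (L 2426)
 (L 4013))
 (N (L 10725)
 (L 14499)))
 (N (N (L 11311)
 (L 3669))
 (N (L 12051)
 (L 10811))))
 (N (N (N (L 12913)
 (L 10458))
 (N (L 12584)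
 (L 11083)))
 (N (N (L 6975)
 (L 7604))
 (L 1714))))
 (N (N (N (N (L 8698)
 (L 2053))
 (N (L 5099)
 (L 15066)))
 (N (N (L 15220)
 (L 14386))
 (N (L 2490)
 (L 3940))))
 (N (N (N (L 9367)
 (L 5116))
 (N (L 5514)
 (L 11094)))
 (N (N (L 6514)
 (L 9776))
 (L 15359))))))
 (N (N (N (N (N (N (L 6031)
 (L 12443))
 (N (L 8434)
 (L 301)))
 (N (N (L 66)
 (L 2925))
 (N (L 12888)
 (L 15328))))
 (N (N (N (L 666)
 (L 8694))
 (N (L 10742)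
 (L 2244)))
 (N (N (L 10552)
 (L 10170))
 (L 6666))))
 (N (N (N (N (L 12049)
 (L 13420))
 (N (L 3006)
 (L 7953)))
 (N (N (L 7150)
 (L 11438))
 (N (L 6059)
 (L 5611))))
 (N (N (N (L 4072)
 (L 4274))
 (N (L 12843)
 (L 14324)))
 (N (N (L 7702)
 (L 14680))
 (L 6362)))))
 (N (N (N (N (N (L 13398)
 (L 6108))
 (N (L 4280)
 (L 10342)))
 (N (N (L 8314)
 (L 13182))
 (N (L 8241)
 (L 9795))))
 (N (N (N (L 4502)
 (L 4567))
 (N (L 14259)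
 (L 3203)))
 (N (N (L 9503)
 (L 9766))
 (L 13089))))
 (N (N (N (N (L 13466)
 (L 7412))
 (N (L 11998)
 (L 4640)))
 (N (N (L 7343)
 (L 2974))
 (N (L 11668)
 (L 3494))))
 (N (N (N (L 10147)
 (L 9233))
 (N (L 8913)
 (L 12283)))
 (N (N (L 7736)
 (L 1856))
 (L 9798))))))))
 (N (N (N (N (N (N (N (N (L 3053)
 (L 9288))
 (N (L 10121)
 (L 15124)))
 (N (N (L 10293)
 (L 13488))
 (N (L 14825)
 (L 10619))))
 (N (N (N (L 8862)
 (L 14868))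
 (N (L 4920)
 (L 2778)))
 (N (N (L 9216)
 (L 15271))
 (L 10001))))
 (N (N (N (N (L 5219)
 (L 3233))
 (N (L 7457)
 (L 5636)))
 (N (N (L 14071)
 (L 8817))
 (N (L 4356)
 (L 15283))))
 (N (N (N (L 15019)
 (L 13303))
 (N (L 13831)
 (L 4178)))
 (N (N (L 11986)
 (L 9066))
 (L 14945)))))
 (N (N (N (N (N (L 3847)
 (L 1785))
 (N (L 10678)
 (L 7169)))
 (N (N (L 3095)
 (L 13826))
 (N (L 2013)
 (L 3884))))
 (N (N (N (L 8916)
 (L 7501))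
 (N (L 6693)
 (L 15088)))
 (N (N (L 4796)
 (L 7787))
 (L 8439))))
 (N (N (N (N (L 4495)
 (L 2595))
 (N (L 8707)
 (L 11954)))
 (N (N (L 11200)
 (L 11746))
 (N (L 12233)
 (L 7767))))
 (N (N (N (L 7732)
 (L 13656))
 (N (L 832)
 (L 1653)))
 (N (N (L 5390)
 (L 10642))
 (L 12813))))))
 (N (N (N (N (N (N (L 7987)
 (L 11779))
 (N (L 4584)
 (L 9753)))
 (N (N (L 7996)
 (L 3276))
 (N (L 6753)
 (L 13102))))
 (N (N (N (L 13286)
 (L 11976))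
 (N (L 387)
 (L 13706)))
 (N (N (L 2494)
 (L 1335))
 (L 9404))))
 (N (N (N (N (L 14230)
 (L 12572))
 (N (L 4385)
 (L 6359)))
 (N (N (L 12127)
 (L 1858))
 (N (L 13281)
 (L 13384))))
 (N (N (N (L 13242)
 (L 14887))
 (N (L 3200)
 (L 9872)))
 (N (N (L 13918)
 (L 11153))
 (L 15345)))))
 (N (N (N (N (N (L 4836)
 (L 12011))
 (N (L 8082)
 (L 1037)))
 (N (N (L 5154)
 (L 2179))
 (N (L 6180)
 (L 210))))
 (N (N (N (L 7571)
 (L 5053))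
 (N (L 12737)
 (L 11440)))
 (N (N (L 13927)
 (L 8944))
 (L 12096))))
 (N (N (N (N (L 471)
 (L 14876))
 (N (L 12593)
 (L 10795)))
 (N (N (L 30)
 (L 3202))
 (N (L 9929)
 (L 3198))))
 (N (N (N (L 7638)
 (L 9046))
 (N (L 2617)
 (L 4912)))
 (N (N (L 8636)
 (L 3473))
 (L 10481)))))))
 (N (N (N (N (N (N (N (L 8019)
 (L 12208))
 (N (L 9896)
 (L 2342)))
 (N (N (L 1318)
 (L 8567))
 (N (L 2721)
 (L 7420))))
 (N (N (N (L 14503)
 (L 15016))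
 (N (L 3659)
 (L 13196)))
 (N (N (L 6526)
 (L 1412))
 (L 2042))))
 (N (N (N (N (L 1487)
 (L 6129))
 (N (L 9356)
 (L 5048)))
 (N (N (L 5547)
 (L 11460))
 (N (L 10327)
 (L 8770))))
 (N (N (N (L 13232)
 (L 5658))
 (N (L 14809)
 (L 464)))
 (N (N (L 5746)
 (L 6091))
 (L 1905)))))
 (N (N (N (N (N (L 9161)
 (L 11159))
 (N (L 1654)
 (L 15165)))
 (N (N (L 2572)
 (L 6562))
 (N (L 11604)
 (L 5509))))
 (N (N (N (L 10426)
 (L 993))
 (N (L 4587)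
 (L 7835)))
 (N (N (L 12536)
 (L 10814))
 (L 13779))))
 (N (N (N (N (L 1501)
 (L 8825))
 (N (L 6588)
 (L 5791)))
 (N (N (L 7597)
 (L 5757))
 (N (L 15203)
 (L 7222))))
 (N (N (N (L 12789)
 (L 8700))
 (N (L 13472)
 (L 2071)))
 (N (N (L 4597)
 (L 5874))
 (L 10249))))))
 (N (N (N (N (N (N (L 2085)
 (L 2671))
 (N (L 12405)
 (L 7719)))
 (N (N (L 11743)
 (L 14284))
 (N (L 12495)
 (L 2989))))
 (N (N (N (L 10640)
 (L 1319))
 (N (L 6763)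
 (L 8327)))
 (N (N (L 728)
 (L 13716))
 (L 12247))))
 (N (N (N (N (L 10925)
 (L 14226))
 (N (L 691)
 (L 5153)))
 (N (N (L 9996)
 (L 8979))
 (N (L 1175)
 (L 5859))))
 (N (N (N (L 3636)
 (L 14565))
 (N (L 1954)
 (L 14114)))
 (N (N (L 1050)
 (L 9685))
 (L 14856)))))
 (N (N (N (N (N (L 8841)
 (L 5970))
 (N (L 13163)
 (L 5587)))
 (N (N (L 7828)
 (L 4105))
 (N (L 3673)
 (L 11018))))
 (N (N (N (L 10823)
 (L 12881))
 (N (L 8465)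
 (L 14656)))
 (N (N (L 978)
 (L 10590))
 (L 8003))))
 (N (N (N (N (L 9383)
 (L 6351))
 (N (L 12997)
 (L 14010)))
 (N (N (L 566)
 (L 4487))
 (N (L 2125)
 (L 9105))))
 (N (N (N (L 11271)
 (L 2129))
 (N (L 7049)
 (L 14762)))
 (N (N (L 12530)
 (L 13742))
 (L 14310))))))))))
 (N (N (N (N (N (N (N (N (N (N (L 6196)
 (L 10087))
 (N (L 3943)
 (L 14717)))
 (N (N (L 3971)
 (L 9757))
 (N (L 5263)
 (L 2488))))
 (N (N (N (L 3450)
 (L 3914))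
 (N (L 8047)
 (L 4786)))
 (N (N (L 7541)
 (L 9576))
 (N (L 4102)
 (L 5484)))))
 (N (N (N (N (L 3433)
 (L 10195))
 (N (L 13308)
 (L 7588)))
 (N (N (L 781)
 (L 8376))
 (N (L 648)
 (L 4728))))
 (N (N (N (L 14101)
 (L 1347))
 (N (L 14895)
 (L 10381)))
 (N (N (L 7453)
 (L 2761))
 (L 3294)))))
 (N (N (N (N (N (L 4051)
 (L 11217))
 (N (L 7981)
 (L 9323)))
 (N (N (L 10189)
 (L 10288))
 (N (L 3400)
 (L 11654))))
 (N (N (N (L 2960)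
 (L 273))
 (N (L 13540)
 (L 12358)))
 (N (N (L 8566)
 (L 1370))
 (L 1288))))
 (N (N (N (N (L 13372)
 (L 7348))
 (N (L 8506)
 (L 4820)))
 (N (N (L 11845)
 (L 7102))
 (N (L 6162)
 (L 15202))))
 (N (N (N (L 7613)
 (L 6119))
 (N (L 2655)
 (L 6511)))
 (N (N (L 5345)
 (L 255))
 (L 9446))))))
 (N (N (N (N (N (N (L 2435)
 (L 2582))
 (N (L 1344)
 (L 11528)))
 (N (N (L 3242)
 (L 13421))
 (N (L 3834)
 (L 6504))))
 (N (N (N (L 12316)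
 (L 12054))
 (N (L 4737)
 (L 11712)))
 (N (N (L 14880)
 (L 5416))
 (L 6879))))
 (N (N (N (N (L 14301)
 (L 12759))
 (N (L 531)
 (L 10674)))
 (N (N (L 9373)
 (L 5510))
 (N (L 2319)
 (L 1438))))
 (N (N (N (L 3705)
 (L 13503))
 (N (L 2178)
 (L 14003)))
 (N (N (L 9571)
 (L 5294))
 (L 12595)))))
 (N (N (N (N (N (L 11908)
 (L 4861))
 (N (L 14538)
 (L 2891)))
 (N (N (L 12338)
 (L 5550))
 (N (L 8646)
 (L 4606))))
 (N (N (N (L 2402)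
 (L 1250))
 (N (L 692)
 (L 5273)))
 (N (N (L 14086)
 (L 954))
 (L 5603))))
 (N (N (N (N (L 12557)
 (L 5228))
 (N (L 11145)
 (L 6929)))
 (N (N (L 3812)
 (L 12802))
 (N (L 11261)
 (L 9004))))
 (N (N (N (L 8463)
 (L 6184))
 (N (L 3989)
 (L 15383)))
 (N (N (L 1769)
 (L 5464))
 (L 11708)))))))
 (N (N (N (N (N (N (N (L 12715)
 (L 5620))
 (N (L 1052)
 (L 9059)))
 (N (N (L 4879)
 (L 8994))
 (N (L 6608)
 (L 6925))))
 (N (N (N (L 4989)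
 (L 15182))
 (N (L 3817)
 (L 1667)))
 (N (N (L 10846)
 (L 12477))
 (L 8088))))
 (N (N (N (N (L 11409)
 (L 11664))
 (N (L 2433)
 (L 3317)))
 (N (N (L 1030)
 (L 7722))
 (N (L 5638)
 (L 1567))))
 (N (N (N (L 5655)
 (L 3516))
 (N (L 14695)
 (L 12523)))
 (N (N (L 10136)
 (L 12548))
 (L 4223)))))
 (N (N (N (N (N (L 9006)
 (L 3483))
 (N (L 3088)
 (L 11384)))
 (N (N (L 443)
 (L 11720))
 (N (L 9600)
 (L 5236))))
 (N (N (N (L 935)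
 (L 10255))
 (N (L 7382)
 (L 2449)))
 (N (N (L 2213)
 (L 11810))
 (L 3513))))
 (N (N (N (N (L 12317)
 (L 12024))
 (N (L 2197)
 (L 11040)))
 (N (N (L 12348)
 (L 15149))
 (N (L 4262)
 (L 2666))))
 (N (N (N (L 5902)
 (L 4610))
 (N (L 5365)
 (L 128)))
 (N (N (L 5954)
 (L 8822))
 (L 9954))))))
 (N (N (N (N (N (N (L 6522)
 (L 11418))
 (N (L 13043)
 (L 2123)))
 (N (N (L 9684)
 (L 2009))
 (N (L 6083)
 (L 8512))))
 (N (N (N (L 4390)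
 (L 6247))
 (N (L 10973)
 (L 1778)))
 (N (N (L 11323)
 (L 13082))
 (L 9793))))
 (N (N (N (N (L 7290)
 (L 4448))
 (N (L 1252)
 (L 4831)))
 (N (N (L 4601)
 (L 721))
 (N (L 11099)
 (L 9394))))
 (N (N (N (L 14567)
 (L 5018))
 (N (L 2385)
 (L 10751)))
 (N (N (L 5068)
 (L 837))
 (L 12089)))))
 (N (N (N (N (N (L 1466)
 (L 8883))
 (N (L 2535)
 (L 7802)))
 (N (N (L 14072)
 (L 10471))
 (N (L 12521)
 (L 13729))))
 (N (N (N (L 12179)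
 (L 69))
 (N (L 9940)
 (L 10920)))
 (N (N (L 1402)
 (L 11711))
 (L 757))))
 (N (N (N (N (L 7318)
 (L 1648))
 (N (L 8038)
 (L 7410)))
 (N (N (L 11127)
 (L 10424))
 (N (L 13166)
 (L 3375))))
 (N (N (N (L 12146)
 (L 13326))
 (N (L 38)
 (L 7539)))
 (N (N (L 2480)
 (L 4631))
 (L 7515))))))))
 (N (N (N (N (N (N (N (N (L 12410)
 (L 11965))
 (N (L 7614)
 (L 11952)))
 (N (N (L 5825)
 (L 6807))
 (N (L 7170)
 (L 7121))))
 (N (N (N (L 11107)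
 (L 14983))
 (N (L 4576)
 (L 8716)))
 (N (N (L 420)
 (L 7632))
 (L 585))))
 (N (N (N (N (L 5301)
 (L 8598))
 (N (L 4883)
 (L 11558)))
 (N (N (L 4079)
 (L 7896))
 (N (L 9148)
 (L 9421))))
 (N (N (N (L 12334)
 (L 8720))
 (N (L 2831)
 (L 10160)))
 (N (N (L 12607)
 (L 15129))
 (L 10409)))))
 (N (N (N (N (N (L 13342)
 (L 8055))
 (N (L 1675)
 (L 14528)))
 (N (N (L 899)
 (L 10497))
 (N (L 6058)
 (L 7605))))
 (N (N (N (L 2293)
 (L 1198))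
 (N (L 10520)
 (L 10238)))
 (N (N (L 2067)
 (L 3436))
 (L 10450))))
 (N (N (N (N (L 2204)
 (L 4032))
 (N (L 12042)
 (L 8969)))
 (N (N (L 4707)
 (L 9277))
 (N (L 2446)
 (L 2820))))
 (N (N (N (L 14822)
 (L 7426))
 (N (L 14199)
 (L 5974)))
 (N (N (L 4210)
 (L 13412))
 (L 12877))))))
 (N (N (N (N (N (N (L 3935)
 (L 2334))
 (N (L 4199)
 (L 803)))
 (N (N (L 1855)
 (L 8469))
 (N (L 6660)
 (L 5982))))
 (N (N (N (L 10723)
 (L 15118))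
 (N (L 5417)
 (L 14660)))
 (N (N (L 3347)
 (L 13517))
 (L 987))))
 (N (N (N (N (L 7358)
 (L 4115))
 (N (L 6758)
 (L 11883)))
 (N (N (L 804)
 (L 9423))
 (N (L 7531)
 (L 7695))))
 (N (N (N (L 2080)
 (L 7709))
 (N (L 3754)
 (L 12193)))
 (N (N (L 410)
 (L 2346))
 (L 9420)))))
 (N (N (N (N (N (L 15390)
 (L 9886))
 (N (L 7315)
 (L 11432)))
 (N (N (L 3538)
 (L 4466))
 (N (L 2545)
 (L 12657))))
 (N (N (N (L 6111)
 (L 7020))
 (N (L 6424)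
 (L 2156)))
 (N (N (L 13798)
 (L 10542))
 (L 337))))
 (N (N (N (N (L 1274)
 (L 1808))
 (N (L 1443)
 (L 9979)))
 (N (N (L 1574)
 (L 9601))
 (N (L 7257)
 (L 7659))))
 (N (N (N (L 9257)
 (L 5167))
 (N (L 8787)
 (L 5011)))
 (N (N (L 2630)
 (L 2528))
 (L 3273)))))))
 (N (N (N (N (N (N (N (L 1326)
 (L 7922))
 (N (L 5792)
 (L 7344)))
 (N (N (L 14371)
 (L 10730))
 (N (L 8745)
 (L 11268))))
 (N (N (N (L 14133)
 (L 13717))
 (N (L 8588)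
 (L 11809)))
 (N (N (L 10345)
 (L 4870))
 (L 7618))))
 (N (N (N (N (L 1664)
 (L 8300))
 (N (L 13606)
 (L 9410)))
 (N (N (L 14519)
 (L 6492))
 (N (L 13424)
 (L 903))))
 (N (N (N (L 7832)
 (L 12043))
 (N (L 14135)
 (L 7381)))
 (N (N (L 8367)
 (L 3888))
 (L 10568)))))
 (N (N (N (N (N (L 9866)
 (L 4838))
 (N (L 10187)
 (L 4552)))
 (N (N (L 1562)
 (L 11646))
 (N (L 2406)
 (L 3390))))
 (N (N (N (L 14758)
 (L 904))
 (N (L 12806)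
 (L 11822)))
 (N (N (L 396)
 (L 1684))
 (L 3240))))
 (N (N (N (N (L 12251)
 (L 13010))
 (N (L 11071)
 (L 5715)))
 (N (N (L 11753)
 (L 3065))
 (N (L 13824)
 (L 4735))))
 (N (N (N (L 13607)
 (L 2986))
 (N (L 5960)
 (L 2308)))
 (N (N (L 9485)
 (L 11595))
 (L 1268))))))
 (N (N (N (N (N (N (L 1612)
 (L 4241))
 (N (L 12498)
 (L 5551)))
 (N (N (L 6116)
 (L 3927))
 (N (L 13386)
 (L 656))))
 (N (N (N (L 5997)
 (L 212))
 (N (L 13275)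
 (L 9447)))
 (N (N (L 1227)
 (L 15294))
 (L 14772))))
 (N (N (N (N (L 6233)
 (L 9389))
 (N (L 11672)
 (L 166)))
 (N (N (L 4275)
 (L 9417))
 (N (L 4997)
 (L 7355))))
 (N (N (N (L 217)
 (L 7409))
 (N (L 13415)
 (L 1121)))
 (N (N (L 10113)
 (L 2705))
 (L 3470)))))
 (N (N (N (N (N (L 9179)
 (L 8233))
 (N (L 9818)
 (L 11521)))
 (N (N (L 5313)
 (L 3873))
 (N (L 11709)
 (L 10175))))
 (N (N (N (L 2661)
 (L 10777))
 (N (L 2254)
 (L 5778)))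
 (N (N (L 4500)
 (L 11103))
 (L 719))))
 (N (N (N (N (L 4213)
 (L 9626))
 (N (L 4018)
 (L 9890)))
 (N (N (L 11950)
 (L 391))
 (N (L 6873)
 (L 717))))
 (N (N (N (L 13794)
 (L 3252))
 (N (L 6701)
 (L 4052)))
 (N (N (L 6482)
 (L 13965))
 (L 11327)))))))))
 (N (N (N (N (N (N (N (N (N (L 8084)
 (L 9151))
 (N (L 4204)
 (L 10285)))
 (N (N (L 10686)
 (L 15325))
 (N (L 12984)
 (L 3686))))
 (N (N (N (L 4228)
 (L 11944))
 (N (L 10775)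
 (L 4134)))
 (N (N (L 1527)
 (L 36))
 (N (L 8706)
 (L 6856)))))
 (N (N (N (N (L 2226)
 (L 8655))
 (N (L 12312)
 (L 8295)))
 (N (N (L 6849)
 (L 7056))
 (N (L 5296)
 (L 11968))))
 (N (N (N (L 12423)
 (L 4950))
 (N (L 5496)
 (L 11847)))
 (N (N (L 13217)
 (L 12679))
 (L 10700)))))
 (N (N (N (N (N (L 7861)
 (L 10821))
 (N (L 5817)
 (L 6034)))
 (N (N (L 7262)
 (L 1924))
 (N (L 1069)
 (L 7460))))
 (N (N (N (L 2115)
 (L 12695))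
 (N (L 11650)
 (L 10982)))
 (N (N (L 6675)
 (L 7141))
 (L 10701))))
 (N (N (N (N (L 3574)
 (L 2280))
 (N (L 6717)
 (L 8920)))
 (N (N (L 9613)
 (L 6601))
 (N (L 8405)
 (L 13442))))
 (N (N (N (L 8133)
 (L 7730))
 (N (L 14745)
 (L 8454)))
 (N (N (L 9313)
 (L 12325))
 (L 1569))))))
 (N (N (N (N (N (N (L 1631)
 (L 1841))
 (N (L 6262)
 (L 5179)))
 (N (N (L 7485)
 (L 8874))
 (N (L 3537)
 (L 13943))))
 (N (N (N (L 11001)
 (L 1789))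
 (N (L 13139)
 (L 3960)))
 (N (N (L 2485)
 (L 1467))
 (L 11818))))
 (N (N (N (N (L 8427)
 (L 13493))
 (N (L 14810)
 (L 7333)))
 (N (N (L 12601)
 (L 9562))
 (N (L 10207)
 (L 14914))))
 (N (N (N (L 14877)
 (L 15381))
 (N (L 8352)
 (L 4139)))
 (N (N (L 11134)
 (L 9043))
 (L 2876)))))
 (N (N (N (N (N (L 4557)
 (L 14316))
 (N (L 4181)
 (L 5109)))
 (N (N (L 1349)
 (L 1723))
 (N (L 8872)
 (L 10489))))
 (N (N (N (L 14022)
 (L 8486))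
 (N (L 7585)
 (L 1657)))
 (N (N (L 8803)
 (L 9375))
 (L 4523))))
 (N (N (N (N (L 4201)
 (L 5326))
 (N (L 13087)
 (L 9723)))
 (N (N (L 6907)
 (L 13012))
 (N (L 52)
 (L 5604))))
 (N (N (N (L 8236)
 (L 14051))
 (N (L 3882)
 (L 6571)))
 (N (N (L 13146)
 (L 12098))
 (L 1374)))))))
 (N (N (N (N (N (N (N (L 4762)
 (L 14641))
 (N (L 1247)
 (L 7563)))
 (N (N (L 14118)
 (L 1489))
 (N (L 10414)
 (L 4858))))
 (N (N (N (L 8922)
 (L 10711))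
 (N (L 15237)
 (L 6746)))
 (N (N (L 5752)
 (L 272))
 (L 3001))))
 (N (N (N (N (L 14958)
 (L 8934))
 (N (L 6773)
 (L 14774)))
 (N (N (L 4534)
 (L 10346))
 (N (L 10484)
 (L 14513))))
 (N (N (N (L 1281)
 (L 13073))
 (N (L 10933)
 (L 11346)))
 (N (N (L 13180)
 (L 14871))
 (L 6152)))))
 (N (N (N (N (N (L 11406)
 (L 6419))
 (N (L 11885)
 (L 14739)))
 (N (N (L 5017)
 (L 6994))
 (N (L 12286)
 (L 1641))))
 (N (N (N (L 9330)
 (L 13195))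
 (N (L 1497)
 (L 6568)))
 (N (N (L 5427)
 (L 8368))
 (L 10953))))
 (N (N (N (N (L 13288)
 (L 13401))
 (N (L 3867)
 (L 12630)))
 (N (N (L 15093)
 (L 11550))
 (N (L 1036)
 (L 13751))))
 (N (N (N (L 10112)
 (L 914))
 (N (L 1897)
 (L 4055)))
 (N (N (L 6648)
 (L 3978))
 (L 15083))))))
 (N (N (N (N (N (N (L 12344)
 (L 620))
 (N (L 11092)
 (L 15115)))
 (N (N (L 3740)
 (L 3073))
 (N (L 1210)
 (L 5348))))
 (N (N (N (L 12224)
 (L 730))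
 (N (L 4649)
 (L 11588)))
 (N (N (L 15075)
 (L 7311))
 (L 9234))))
 (N (N (N (N (L 3556)
 (L 15054))
 (N (L 11704)
 (L 8998)))
 (N (N (L 7716)
 (L 4725))
 (N (L 14867)
 (L 1234))))
 (N (N (N (L 1557)
 (L 10097))
 (N (L 14161)
 (L 3608)))
 (N (N (L 7172)
 (L 49))
 (L 4311)))))
 (N (N (N (N (N (L 5234)
 (L 5440))
 (N (L 7883)
 (L 5530)))
 (N (N (L 5924)
 (L 1171))
 (N (L 14682)
 (L 4244))))
 (N (N (N (L 1804)
 (L 8672))
 (N (L 2754)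
 (L 5901)))
 (N (N (L 4143)
 (L 15027))
 (L 1359))))
 (N (N (N (N (L 10132)
 (L 8997))
 (N (L 9227)
 (L 11627)))
 (N (N (L 15065)
 (L 14937))
 (N (L 4406)
 (L 1809))))
 (N (N (N (L 14246)
 (L 9145))
 (N (L 1813)
 (L 14467)))
 (N (N (L 12716)
 (L 14622))
 (L 2952))))))))
 (N (N (N (N (N (N (N (N (L 14471)
 (L 8717))
 (N (L 8810)
 (L 8351)))
 (N (N (L 4479)
 (L 13086))
 (N (L 10722)
 (L 14714))))
 (N (N (N (L 5993)
 (L 4657))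
 (N (L 3050)
 (L 827)))
 (N (N (L 10472)
 (L 5653))
 (L 20))))
 (N (N (N (N (L 9101)
 (L 15117))
 (N (L 13565)
 (L 10453)))
 (N (N (L 4830)
 (L 593))
 (N (L 886)
 (L 11641))))
 (N (N (N (L 11813)
 (L 9786))
 (N (L 13346)
 (L 10210)))
 (N (N (L 7769)
 (L 3071))
 (L 3652)))))
 (N (N (N (N (N (L 6245)
 (L 14529))
 (N (L 7052)
 (L 10949)))
 (N (N (L 9448)
 (L 9279))
 (N (L 15298)
 (L 8179))))
 (N (N (N (L 13306)
 (L 14217))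
 (N (L 5785)
 (L 8248)))
 (N (N (L 8539)
 (L 4938))
 (L 9070))))
 (N (N (N (N (L 7103)
 (L 9255))
 (N (L 7499)
 (L 9930)))
 (N (N (L 12625)
 (L 12396))
 (N (L 8266)
 (L 7467))))
 (N (N (N (L 12977)
 (L 7941))
 (N (L 3691)
 (L 630)))
 (N (N (L 3443)
 (L 181))
 (L 2069))))))
 (N (N (N (N (N (N (L 15005)
 (L 7572))
 (N (L 14091)
 (L 14043)))
 (N (N (L 7858)
 (L 13446))
 (N (L 7609)
 (L 11836))))
 (N (N (N (L 14591)
 (L 3264))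
 (N (L 13802)
 (L 2273)))
 (N (N (L 4623)
 (L 9017))
 (L 2746))))
 (N (N (N (N (L 12819)
 (L 646))
 (N (L 3632)
 (L 10352)))
 (N (N (L 3399)
 (L 55))
 (N (L 14859)
 (L 7513))))
 (N (N (N (L 9355)
 (L 9245))
 (N (L 1701)
 (L 906)))
 (N (N (L 14007)
 (L 325))
 (L 9633)))))
 (N (N (N (N (N (L 11870)
 (L 106))
 (N (L 13736)
 (L 10304)))
 (N (N (L 4625)
 (L 14864))
 (N (L 8839)
 (L 13290))))
 (N (N (N (L 14356)
 (L 7656))
 (N (L 3388)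
 (L 5912)))
 (N (N (L 15120)
 (L 4793))
 (L 9170))))
 (N (N (N (N (L 6426)
 (L 14398))
 (N (L 727)
 (L 14261)))
 (N (N (L 5592)
 (L 1939))
 (N (L 8261)
 (L 10326))))
 (N (N (N (L 10416)
 (L 3165))
 (N (L 3449)
 (L 14110)))
 (N (N (L 10786)
 (L 9629))
 (L 11442)))))))
 (N (N (N (N (N (N (N (L 6278)
 (L 8832))
 (N (L 2136)
 (L 4362)))
 (N (N (L 13512)
 (L 7083))
 (N (L 3748)
 (L 9299))))
 (N (N (N (L 1702)
 (L 5501))
 (N (L 7208)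
 (L 2919)))
 (N (N (L 10194)
 (L 10930))
 (L 4533))))
 (N (N (N (N (L 6806)
 (L 6025))
 (N (L 3720)
 (L 13818)))
 (N (N (L 12196)
 (L 10757))
 (N (L 3872)
 (L 5319))))
 (N (N (N (L 11363)
 (L 11417))
 (N (L 12137)
 (L 3890)))
 (N (N (L 12016)
 (L 2756))
 (L 11167)))))
 (N (N (N (N (N (L 3172)
 (L 12438))
 (N (L 4929)
 (L 1388)))
 (N (N (L 7825)
 (L 1101))
 (N (L 9540)
 (L 9652))))
 (N (N (N (L 2170)
 (L 3416))
 (N (L 3387)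
 (L 10529)))
 (N (N (L 12176)
 (L 9976))
 (L 4081))))
 (N (N (N (N (L 11600)
 (L 5218))
 (N (L 15040)
 (L 12609)))
 (N (N (L 11014)
 (L 14697))
 (N (L 6584)
 (L 6094))))
 (N (N (N (L 4295)
 (L 13594))
 (N (L 1953)
 (L 9470)))
 (N (N (L 10056)
 (L 10154))
 (L 14990))))))
 (N (N (N (N (N (N (L 5679)
 (L 11840))
 (N (L 1125)
 (L 2124)))
 (N (N (L 14788)
 (L 10526))
 (N (L 9893)
 (L 74))))
 (N (N (N (L 4271)
 (L 6113))
 (N (L 7990)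
 (L 3703)))
 (N (N (L 953)
 (L 6840))
 (L 1766))))
 (N (N (N (N (L 1104)
 (L 7153))
 (N (L 8893)
 (L 14628)))
 (N (N (L 11857)
 (L 354))
 (N (L 9029)
 (L 4781))))
 (N (N (N (L 14421)
 (L 276))
 (N (L 6705)
 (L 3157)))
 (N (N (L 12364)
 (L 5696))
 (L 3925)))))
 (N (N (N (N (N (L 4253)
 (L 14111))
 (N (L 14281)
 (L 11475)))
 (N (N (L 11738)
 (L 7200))
 (N (L 12432)
 (L 6165))))
 (N (N (N (L 10420)
 (L 12403))
 (N (L 1194)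
 (L 1384)))
 (N (N (L 9712)
 (L 10832))
 (L 6256))))
 (N (N (N (N (L 10746)
 (L 1256))
 (N (L 5225)
 (L 10436)))
 (N (N (L 2367)
 (L 10461))
 (N (L 4117)
 (L 9922))))
 (N (N (N (L 1491)
 (L 3868))
 (N (L 10844)
 (L 5406)))
 (N (N (L 8704)
 (L 4844))
 (L 9111)))))))))))))
 (N (N (N (N (N (N (N (N (N (N (N (N (N (L 14727)
 (L 4612))
 (N (L 11639)
 (L 8018)))
 (N (N (L 2066)
 (L 6363))
 (N (L 9097)
 (L 9378))))
 (N (N (N (L 10158)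
 (L 6984))
 (N (L 13763)
 (L 13633)))
 (N (N (L 11462)
 (L 4258))
 (N (L 9682)
 (L 13088)))))
 (N (N (N (N (L 241)
 (L 10995))
 (N (L 4470)
 (L 3353)))
 (N (N (L 2738)
 (L 3543))
 (N (L 5367)
 (L 4103))))
 (N (N (N (L 14030)
 (L 6738))
 (N (L 8374)
 (L 2602)))
 (N (N (L 2425)
 (L 12786))
 (L 14910)))))
 (N (N (N (N (N (L 12936)
 (L 13766))
 (N (L 2615)
 (L 8516)))
 (N (N (L 11072)
 (L 1712))
 (N (L 9863)
 (L 5442))))
 (N (N (N (L 7070)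
 (L 5042))
 (N (L 285)
 (L 483)))
 (N (N (L 12896)
 (L 10448))
 (L 1832))))
 (N (N (N (N (L 1297)
 (L 11152))
 (N (L 12874)
 (L 10978)))
 (N (N (L 3633)
 (L 8155))
 (N (L 13428)
 (L 1519))))
 (N (N (N (L 13631)
 (L 10679))
 (N (L 4992)
 (L 2802)))
 (N (N (L 2296)
 (L 3302))
 (L 6240))))))
 (N (N (N (N (N (N (L 5826)
 (L 12788))
 (N (L 14664)
 (L 1094)))
 (N (N (L 4862)
 (L 1021))
 (N (L 1008)
 (L 12987))))
 (N (N (N (L 14423)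
 (L 5703))
 (N (L 9828)
 (L 14218)))
 (N (N (L 10480)
 (L 4024))
 (L 3683))))
 (N (N (N (N (L 14237)
 (L 1926))
 (N (L 6678)
 (L 12267)))
 (N (N (L 1476)
 (L 5238))
 (N (L 11565)
 (L 3581))))
 (N (N (N (L 8610)
 (L 8847))
 (N (L 12968)
 (L 2376)))
 (N (N (L 7239)
 (L 10663))
 (L 7279)))))
 (N (N (N (N (N (L 11339)
 (L 10445))
 (N (L 3011)
 (L 4530)))
 (N (N (L 2210)
 (L 3410))
 (N (L 1713)
 (L 11585))))
 (N (N (N (L 4233)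
 (L 2543))
 (N (L 6403)
 (L 12972)))
 (N (N (L 3587)
 (L 10865))
 (L 15247))))
 (N (N (N (N (L 8006)
 (L 13954))
 (N (L 10728)
 (L 13178)))
 (N (N (L 11946)
 (L 13593))
 (N (L 12689)
 (L 15344))))
 (N (N (N (L 2388)
 (L 4709))
 (N (L 11614)
 (L 13130)))
 (N (N (L 11340)
 (L 3649))
 (L 698)))))))
 (N (N (N (N (N (N (N (L 6576)
 (L 5519))
 (N (L 1786)
 (L 8701)))
 (N (N (L 9993)
 (L 8988))
 (N (L 653)
 (L 2180))))
 (N (N (N (L 12848)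
 (L 12056))
 (N (L 10770)
 (L 13605)))
 (N (N (L 10227)
 (L 10713))
 (L 1857))))
 (N (N (N (N (L 347)
 (L 13080))
 (N (L 15195)
 (L 3457)))
 (N (N (L 6104)
 (L 10490))
 (N (L 5545)
 (L 15387))))
 (N (N (N (L 8576)
 (L 5166))
 (N (L 9997)
 (L 9972)))
 (N (N (L 5705)
 (L 15249))
 (L 1024)))))
 (N (N (N (N (N (L 1646)
 (L 11073))
 (N (L 2027)
 (L 327)))
 (N (N (L 1996)
 (L 10127))
 (N (L 8039)
 (L 13324))))
 (N (N (N (L 15267)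
 (L 11332))
 (N (L 14425)
 (L 9411)))
 (N (N (L 5903)
 (L 14015))
 (L 321))))
 (N (N (N (N (L 3612)
 (L 2077))
 (N (L 13538)
 (L 388)))
 (N (N (L 7253)
 (L 5434))
 (N (L 5640)
 (L 11981))))
 (N (N (N (L 7631)
 (L 15394))
 (N (L 11730)
 (L 3199)))
 (N (N (L 12637)
 (L 3080))
 (L 1213))))))
 (N (N (N (N (N (N (L 1625)
 (L 5342))
 (N (L 14965)
 (L 14079)))
 (N (N (L 9586)
 (L 14252))
 (N (L 713)
 (L 14277))))
 (N (N (N (L 10261)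
 (L 6866))
 (N (L 13266)
 (L 9594)))
 (N (N (L 14732)
 (L 12729))
 (L 9475))))
 (N (N (N (N (L 7490)
 (L 7871))
 (N (L 614)
 (L 14610)))
 (N (N (L 14299)
 (L 10292))
 (N (L 3028)
 (L 5033))))
 (N (N (N (L 11991)
 (L 6062))
 (N (L 3584)
 (L 3241)))
 (N (N (L 9189)
 (L 7696))
 (L 6201)))))
 (N (N (N (N (N (L 14602)
 (L 12989))
 (N (L 2693)
 (L 4905)))
 (N (N (L 4974)
 (L 3318))
 (N (L 10119)
 (L 8799))))
 (N (N (N (L 13093)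
 (L 8900))
 (N (L 3611)
 (L 11172)))
 (N (N (L 7616)
 (L 14498))
 (L 9316))))
 (N (N (N (N (L 4752)
 (L 13908))
 (N (L 11837)
 (L 3887)))
 (N (N (L 300)
 (L 5574))
 (N (L 5944)
 (L 223))))
 (N (N (N (L 2151)
 (L 6443))
 (N (L 10256)
 (L 10732)))
 (N (N (L 4029)
 (L 10111))
 (L 12027))))))))
 (N (N (N (N (N (N (N (N (L 5249)
 (L 13724))
 (N (L 11867)
 (L 4325)))
 (N (N (L 3507)
 (L 6128))
 (N (L 1975)
 (L 8119))))
 (N (N (N (L 3779)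
 (L 2191))
 (N (L 13106)
 (L 684)))
 (N (N (L 9419)
 (L 13648))
 (N (L 11491)
 (L 10532)))))
 (N (N (N (N (L 14159)
 (L 7652))
 (N (L 13376)
 (L 13410)))
 (N (N (L 8304)
 (L 8878))
 (N (L 1001)
 (L 14956))))
 (N (N (N (L 10356)
 (L 13236))
 (N (L 7472)
 (L 3629)))
 (N (N (L 12772)
 (L 682))
 (L 2318)))))
 (N (N (N (N (N (L 7889)
 (L 8126))
 (N (L 12701)
 (L 11901)))
 (N (N (L 54)
 (L 14935))
 (N (L 5260)
 (L 9598))))
 (N (N (N (L 7706)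
 (L 1205))
 (N (L 263)
 (L 11226)))
 (N (N (L 11858)
 (L 498))
 (L 13789))))
 (N (N (N (N (L 8764)
 (L 2734))
 (N (L 1984)
 (L 7043)))
 (N (N (L 8692)
 (L 4431))
 (N (L 9048)
 (L 7717))))
 (N (N (N (L 12967)
 (L 10226))
 (N (L 10633)
 (L 5661)))
 (N (N (L 8409)
 (L 3770))
 (L 15139))))))
 (N (N (N (N (N (N (L 8517)
 (L 14627))
 (N (L 6538)
 (L 8005)))
 (N (N (L 10954)
 (L 13922))
 (N (L 15342)
 (L 8479))))
 (N (N (N (L 10008)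
 (L 12497))
 (N (L 4328)
 (L 8886)))
 (N (N (L 4293)
 (L 9282))
 (L 14800))))
 (N (N (N (N (L 729)
 (L 7567))
 (N (L 374)
 (L 2350)))
 (N (N (L 11689)
 (L 8645))
 (N (L 5848)
 (L 15355))))
 (N (N (N (L 12126)
 (L 14775))
 (N (L 4546)
 (L 14600)))
 (N (N (L 12047)
 (L 12539))
 (L 14797)))))
 (N (N (N (N (N (L 4212)
 (L 13658))
 (N (L 13327)
 (L 14383)))
 (N (N (L 10369)
 (L 9994))
 (N (L 7668)
 (L 5632))))
 (N (N (N (L 8054)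
 (L 8247))
 (N (L 8211)
 (L 12304)))
 (N (N (L 767)
 (L 5598))
 (L 2787))))
 (N (N (N (N (L 11543)
 (L 383))
 (N (L 6015)
 (L 284)))
 (N (N (L 13077)
 (L 431))
 (N (L 13199)
 (L 9052))))
 (N (N (N (L 11628)
 (L 10901))
 (N (L 6650)
 (L 10783)))
 (N (N (L 10909)
 (L 8549))
 (L 14947)))))))
 (N (N (N (N (N (N (N (L 4195)
 (L 7628))
 (N (L 11160)
 (L 724)))
 (N (N (L 14643)
 (L 7918))
 (N (L 6409)
 (L 9932))))
 (N (N (N (L 4964)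
 (L 6187))
 (N (L 4568)
 (L 7902)))
 (N (N (L 6346)
 (L 3467))
 (L 12859))))
 (N (N (N (N (L 12959)
 (L 10543))
 (N (L 4219)
 (L 11420)))
 (N (N (L 1191)
 (L 4265))
 (N (L 7416)
 (L 617))))
 (N (N (N (L 976)
 (L 2144))
 (N (L 5670)
 (L 10214)))
 (N (N (L 11522)
 (L 13946))
 (L 12551)))))
 (N (N (N (N (N (L 14486)
 (L 2024))
 (N (L 4617)
 (L 9134)))
 (N (N (L 3645)
 (L 8858))
 (N (L 3638)
 (L 8301))))
 (N (N (N (L 13734)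
 (L 8447))
 (N (L 12884)
 (L 14193)))
 (N (N (L 7284)
 (L 3990))
 (L 8854))))
 (N (N (N (N (L 9495)
 (L 1336))
 (N (L 1632)
 (L 1575)))
 (N (N (L 6770)
 (L 6222))
 (N (L 3363)
 (L 3020))))
 (N (N (N (L 5149)
 (L 1956))
 (N (L 7122)
 (L 12232)))
 (N (N (L 13725)
 (L 7914))
 (L 10963))))))
 (N (N (N (N (N (N (L 6720)
 (L 4779))
 (N (L 7829)
 (L 4095)))
 (N (N (L 3498)
 (L 2459))
 (N (L 13124)
 (L 5081))))
 (N (N (N (L 11830)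
 (L 2167))
 (N (L 11445)
 (L 4914)))
 (N (N (L 11874)
 (L 12342))
 (L 11616))))
 (N (N (N (N (L 9790)
 (L 10935))
 (N (L 10080)
 (L 11309)))
 (N (N (L 8183)
 (L 10970))
 (N (L 15309)
 (L 4494))))
 (N (N (N (L 2121)
 (L 9515))
 (N (L 4922)
 (L 7503)))
 (N (N (L 460)
 (L 14761))
 (L 1456)))))
 (N (N (N (N (N (L 6573)
 (L 1325))
 (N (L 11070)
 (L 157)))
 (N (N (L 12371)
 (L 1742))
 (N (L 15357)
 (L 8691))))
 (N (N (N (L 13403)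
 (L 1771))
 (N (L 14849)
 (L 6478)))
 (N (N (L 7087)
 (L 543))
 (L 6759))))
 (N (N (N (N (L 12295)
 (L 413))
 (N (L 2164)
 (L 5356)))
 (N (N (L 8884)
 (L 5822))
 (N (L 6523)
 (L 7292))))
 (N (N (N (L 13381)
 (L 9468))
 (N (L 2561)
 (L 7065)))
 (N (N (L 11125)
 (L 72))
 (L 7670)))))))))
 (N (N (N (N (N (N (N (N (N (L 11770)
 (L 9973))
 (N (L 10583)
 (L 13267)))
 (N (N (L 6155)
 (L 14854))
 (N (L 2549)
 (L 12624))))
 (N (N (N (L 4795)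
 (L 5430))
 (N (L 13772)
 (L 4044)))
 (N (N (L 12645)
 (L 6765))
 (N (L 7136)
 (L 10212)))))
 (N (N (N (N (L 7575)
 (L 12309))
 (N (L 13912)
 (L 3592)))
 (N (N (L 11960)
 (L 14384))
 (N (L 790)
 (L 5829))))
 (N (N (N (L 3054)
 (L 9837))
 (N (L 5037)
 (L 9734)))
 (N (N (L 881)
 (L 11956))
 (L 6906)))))
 (N (N (N (N (N (L 5988)
 (L 5414))
 (N (L 7705)
 (L 3427)))
 (N (N (L 14585)
 (L 3566))
 (N (L 9884)
 (L 2566))))
 (N (N (N (L 5596)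
 (L 9357))
 (N (L 5676)
 (L 7176)))
 (N (N (L 12465)
 (L 7790))
 (L 8315))))
 (N (N (N (N (L 5191)
 (L 1290))
 (N (L 1925)
 (L 512)))
 (N (N (L 874)
 (L 4580))
 (N (L 13829)
 (L 9131))))
 (N (N (N (L 9914)
 (L 7309))
 (N (L 12668)
 (L 11568)))
 (N (N (L 4062)
 (L 6254))
 (L 4066))))))
 (N (N (N (N (N (N (L 8656)
 (L 7031))
 (N (L 4673)
 (L 9272)))
 (N (N (L 304)
 (L 13042))
 (N (L 2898)
 (L 7280))))
 (N (N (N (L 7017)
 (L 8523))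
 (N (L 9157)
 (L 7993)))
 (N (N (L 4811)
 (L 9193))
 (L 7607))))
 (N (N (N (N (L 8809)
 (L 8458))
 (N (L 5073)
 (L 13038)))
 (N (N (L 13569)
 (L 4298))
 (N (L 15086)
 (L 3995))))
 (N (N (N (L 14097)
 (L 4187))
 (N (L 9352)
 (L 5295)))
 (N (N (L 2765)
 (L 11471))
 (L 2419)))))
 (N (N (N (N (N (L 13669)
 (L 9807))
 (N (L 14636)
 (L 11988)))
 (N (N (L 1361)
 (L 12538))
 (N (L 12104)
 (L 4682))))
 (N (N (N (L 8410)
 (L 208))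
 (N (L 13622)
 (L 6963)))
 (N (N (L 129)
 (L 1892))
 (L 6545))))
 (N (N (N (N (L 7988)
 (L 11274))
 (N (L 453)
 (L 7580)))
 (N (N (L 1964)
 (L 1775))
 (N (L 13971)
 (L 13657))))
 (N (N (N (L 4167)
 (L 3875))
 (N (L 15056)
 (L 5316)))
 (N (N (L 3716)
 (L 2427))
 (L 14073)))))))
 (N (N (N (N (N (N (N (L 6103)
 (L 4505))
 (N (L 169)
 (L 13672)))
 (N (N (L 15226)
 (L 735))
 (N (L 7700)
 (L 1472))))
 (N (N (N (L 11419)
 (L 2216))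
 (N (L 13429)
 (L 9955)))
 (N (N (L 9173)
 (L 3841))
 (L 11855))))
 (N (N (N (N (L 11009)
 (L 13481))
 (N (L 4555)
 (L 3267)))
 (N (N (L 4060)
 (L 13131))
 (N (L 11548)
 (L 12653))))
 (N (N (N (L 4683)
 (L 1796))
 (N (L 1042)
 (L 12486)))
 (N (N (L 8394)
 (L 7380))
 (L 4272)))))
 (N (N (N (N (N (L 8278)
 (L 3623))
 (N (L 14004)
 (L 9195)))
 (N (N (L 5302)
 (L 2774))
 (N (L 6930)
 (L 9699))))
 (N (N (N (L 12134)
 (L 13510))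
 (N (L 13070)
 (L 10922)))
 (N (N (L 7878)
 (L 13715))
 (L 12639))))
 (N (N (N (N (L 1524)
 (L 4384))
 (N (L 10796)
 (L 3897)))
 (N (N (L 9315)
 (L 1322))
 (N (L 10383)
 (L 14799))))
 (N (N (N (L 8572)
 (L 4))
 (N (L 12376)
 (L 14076)))
 (N (N (L 10826)
 (L 2741))
 (L 2598))))))
 (N (N (N (N (N (N (L 11759)
 (L 3697))
 (N (L 8587)
 (L 6115)))
 (N (N (L 13127)
 (L 9065))
 (N (L 572)
 (L 3907))))
 (N (N (N (L 13581)
 (L 6328))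
 (N (L 9126)
 (L 7703)))
 (N (N (L 13873)
 (L 13788))
 (L 9300))))
 (N (N (N (N (L 14652)
 (L 9782))
 (N (L 7270)
 (L 12183)))
 (N (N (L 3719)
 (L 14784))
 (N (L 1249)
 (L 3083))))
 (N (N (N (L 7139)
 (L 8037))
 (N (L 8617)
 (L 9223)))
 (N (N (L 506)
 (L 7595))
 (L 7119)))))
 (N (N (N (N (N (L 3802)
 (L 7191))
 (N (L 9500)
 (L 15034)))
 (N (N (L 7327)
 (L 14792))
 (N (L 8910)
 (L 1615))))
 (N (N (N (L 835)
 (L 3328))
 (N (L 11185)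
 (L 11792)))
 (N (N (L 10105)
 (L 8781))
 (L 12198))))
 (N (N (N (N (L 10388)
 (L 8992))
 (N (L 2918)
 (L 8379)))
 (N (N (L 7689)
 (L 9270))
 (N (L 13764)
 (L 11196))))
 (N (N (N (L 15285)
 (L 5020))
 (N (L 11372)
 (L 13137)))
 (N (N (L 11473)
 (L 8895))
 (L 10185))))))))
 (N (N (N (N (N (N (N (N (L 8440)
 (L 1197))
 (N (L 14343)
 (L 1997)))
 (N (N (L 14815)
 (L 3891))
 (N (L 14820)
 (L 4026))))
 (N (N (N (L 6074)
 (L 2895))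
 (N (L 8460)
 (L 1174)))
 (N (N (L 8525)
 (L 11851))
 (L 13999))))
 (N (N (N (N (L 10224)
 (L 5526))
 (N (L 1620)
 (L 2272)))
 (N (N (L 14339)
 (L 1027))
 (N (L 5891)
 (L 7564))))
 (N (N (N (L 12322)
 (L 13511))
 (N (L 11052)
 (L 7435)))
 (N (N (L 6547)
 (L 14934))
 (L 13173)))))
 (N (N (N (N (N (L 4891)
 (L 12617))
 (N (L 2638)
 (L 13319)))
 (N (N (L 1611)
 (L 13361))
 (N (L 12281)
 (L 1207))))
 (N (N (N (L 14085)
 (L 9918))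
 (N (L 6171)
 (L 5105)))
 (N (N (L 11446)
 (L 15392))
 (L 3557))))
 (N (N (N (N (L 2119)
 (L 6238))
 (N (L 15050)
 (L 7459)))
 (N (N (L 7091)
 (L 1439))
 (N (L 2740)
 (L 7526))))
 (N (N (N (L 1267)
 (L 1215))
 (N (L 2256)
 (L 4135)))
 (N (N (L 8020)
 (L 13718))
 (L 13613))))))
 (N (N (N (N (N (N (L 8341)
 (L 2381))
 (N (L 9074)
 (L 7378)))
 (N (N (L 9211)
 (L 3668))
 (N (L 9740)
 (L 13864))))
 (N (N (N (L 14555)
 (L 8154))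
 (N (L 8359)
 (L 5194)))
 (N (N (L 1061)
 (L 9835))
 (L 4849))))
 (N (N (N (N (L 3942)
 (L 2575))
 (N (L 5584)
 (L 324)))
 (N (N (L 733)
 (L 2702))
 (N (L 10695)
 (L 11209))))
 (N (N (N (L 9885)
 (L 11486))
 (N (L 15299)
 (L 1148)))
 (N (N (L 8328)
 (L 3019))
 (L 5208)))))
 (N (N (N (N (N (L 2462)
 (L 689))
 (N (L 5976)
 (L 3694)))
 (N (N (L 12856)
 (L 11745))
 (N (L 11955)
 (L 13331))))
 (N (N (N (L 14122)
 (L 2005))
 (N (L 1162)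
 (L 1756)))
 (N (N (L 6454)
 (L 12185))
 (L 4694))))
 (N (N (N (N (L 11848)
 (L 3818))
 (N (L 13268)
 (L 8491)))
 (N (N (L 6855)
 (L 294))
 (N (L 9573)
 (L 1959))))
 (N (N (N (L 14453)
 (L 3842))
 (N (L 12529)
 (L 10081)))
 (N (N (L 6405)
 (L 14819))
 (L 15073)))))))
 (N (N (N (N (N (N (N (L 7886)
 (L 7872))
 (N (L 13681)
 (L 9762)))
 (N (N (L 2111)
 (L 11869))
 (N (L 6731)
 (L 12901))))
 (N (N (N (L 8234)
 (L 6141))
 (N (L 13560)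
 (L 6736)))
 (N (N (L 13364)
 (L 1950))
 (L 10028))))
 (N (N (N (N (L 7529)
 (L 12519))
 (N (L 9434)
 (L 3660)))
 (N (N (L 15244)
 (L 11173))
 (N (L 10078)
 (L 11972))))
 (N (N (N (L 5795)
 (L 361))
 (N (L 1850)
 (L 844)))
 (N (N (L 3377)
 (L 5557))
 (L 859)))))
 (N (N (N (N (N (L 4053)
 (L 2533))
 (N (L 11458)
 (L 2257)))
 (N (N (L 12015)
 (L 5189))
 (N (L 1930)
 (L 4277))))
 (N (N (N (L 9999)
 (L 11670))
 (N (L 7106)
 (L 13378)))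
 (N (N (L 15371)
 (L 14276))
 (L 11124))))
 (N (N (N (N (L 8669)
 (L 5937))
 (N (L 1957)
 (L 4812)))
 (N (N (L 5203)
 (L 7393))
 (N (L 4421)
 (L 8302))))
 (N (N (N (L 3464)
 (L 6263))
 (N (L 2565)
 (L 10856)))
 (N (N (L 1440)
 (L 14078))
 (L 11832))))))
 (N (N (N (N (N (N (L 3687)
 (L 2321))
 (N (L 15322)
 (L 2092)))
 (N (N (L 989)
 (L 125))
 (N (L 1117)
 (L 11850))))
 (N (N (N (L 9689)
 (L 287))
 (N (L 5358)
 (L 12353)))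
 (N (N (L 10762)
 (L 8792))
 (L 13655))))
 (N (N (N (N (L 1220)
 (L 8820))
 (N (L 10099)
 (L 15398)))
 (N (N (L 14112)
 (L 13821))
 (N (L 12373)
 (L 5143))))
 (N (N (N (L 3899)
 (L 14200))
 (N (L 12303)
 (L 6572)))
 (N (N (L 11280)
 (L 6943))
 (L 8952)))))
 (N (N (N (N (N (L 9691)
 (L 2968))
 (N (L 3578)
 (L 3727)))
 (N (N (L 12847)
 (L 1755))
 (N (L 12763)
 (L 3666))))
 (N (N (N (L 12710)
 (L 13256))
 (N (L 14169)
 (L 911)))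
 (N (N (L 8868)
 (L 7375))
 (L 6197))))
 (N (N (N (N (L 8687)
 (L 14358))
 (N (L 8573)
 (L 1149)))
 (N (N (L 10857)
 (L 163))
 (N (L 2393)
 (L 1860))))
 (N (N (N (L 13664)
 (L 7742))
 (N (L 14942)
 (L 14474)))
 (N (N (L 2833)
 (L 12918))
 (L 10328))))))))))
 (N (N (N (N (N (N (N (N (N (N (L 2245)
 (L 11370))
 (N (L 4736)
 (L 8030)))
 (N (N (L 12078)
 (L 2492))
 (N (L 6980)
 (L 2422))))
 (N (N (N (L 1398)
 (L 8296))
 (N (L 6603)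
 (L 12544)))
 (N (N (L 6872)
 (L 12620))
 (N (L 4205)
 (L 1025)))))
 (N (N (N (N (L 10122)
 (L 12829))
 (N (L 5780)
 (L 8492)))
 (N (N (L 13801)
 (L 9062))
 (N (L 3215)
 (L 9507))))
 (N (N (N (L 3066)
 (L 14415))
 (N (L 3944)
 (L 14050)))
 (N (N (L 3620)
 (L 12550))
 (L 14340)))))
 (N (N (N (N (N (L 5637)
 (L 9212))
 (N (L 8901)
 (L 2261)))
 (N (N (L 9019)
 (L 2976))
 (N (L 3934)
 (L 15057))))
 (N (N (N (L 10141)
 (L 2760))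
 (N (L 6992)
 (L 10460)))
 (N (N (L 12209)
 (L 10581))
 (L 2087))))
 (N (N (N (N (L 2474)
 (L 3898))
 (N (L 6360)
 (L 5134)))
 (N (N (L 12282)
 (L 5536))
 (N (L 3734)
 (L 3767))))
 (N (N (N (L 567)
 (L 13524))
 (N (L 2730)
 (L 4413)))
 (N (N (L 1395)
 (L 5115))
 (L 2418))))))
 (N (N (N (N (N (N (L 448)
 (L 10975))
 (N (L 2844)
 (L 10690)))
 (N (N (L 11716)
 (L 12522))
 (N (L 14735)
 (L 9580))))
 (N (N (N (L 13027)
 (L 15210))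
 (N (L 15206)
 (L 14514)))
 (N (N (L 2724)
 (L 7979))
 (L 1791))))
 (N (N (N (N (L 6654)
 (L 503))
 (N (L 14408)
 (L 13277)))
 (N (N (L 11790)
 (L 2489))
 (N (L 13190)
 (L 4467))))
 (N (N (N (L 3362)
 (L 9168))
 (N (L 9967)
 (L 9430)))
 (N (N (L 5016)
 (L 13339))
 (L 8722)))))
 (N (N (N (N (N (L 11316)
 (L 4471))
 (N (L 4656)
 (L 5138)))
 (N (N (L 1847)
 (L 194))
 (N (L 4521)
 (L 14542))))
 (N (N (N (L 11945)
 (L 4857))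
 (N (L 10721)
 (L 1745)))
 (N (N (L 13142)
 (L 895))
 (L 339))))
 (N (N (N (N (L 10106)
 (L 6364))
 (N (L 3091)
 (L 11289)))
 (N (N (L 8608)
 (L 11812))
 (N (L 3979)
 (L 12732))))
 (N (N (N (L 11061)
 (L 15081))
 (N (L 11171)
 (L 12955)))
 (N (N (L 11624)
 (L 5492))
 (L 10233)))))))
 (N (N (N (N (N (N (N (L 7127)
 (L 9191))
 (N (L 13610)
 (L 11586)))
 (N (N (L 10707)
 (L 7596))
 (N (L 14638)
 (L 1936))))
 (N (N (N (L 6447)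
 (L 9472))
 (N (L 10463)
 (L 12458)))
 (N (N (L 13296)
 (L 14504))
 (L 15098))))
 (N (N (N (N (L 9632)
 (L 3482))
 (N (L 1944)
 (L 749)))
 (N (N (L 351)
 (L 3718))
 (N (L 6042)
 (L 14571))))
 (N (N (N (L 8096)
 (L 2613))
 (N (L 4972)
 (L 11676)))
 (N (N (L 3477)
 (L 11325))
 (L 14740)))))
 (N (N (N (N (N (L 6689)
 (L 4091))
 (N (L 6077)
 (L 7994)))
 (N (N (L 3874)
 (L 7481))
 (N (L 4690)
 (L 6266))))
 (N (N (N (L 6287)
 (L 12734))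
 (N (L 4520)
 (L 5850)))
 (N (N (L 4933)
 (L 4322))
 (L 14916))))
 (N (N (N (N (L 13689)
 (L 2233))
 (N (L 12321)
 (L 10018)))
 (N (N (L 13966)
 (L 2391))
 (N (L 726)
 (L 14320))))
 (N (N (N (L 13778)
 (L 5618))
 (N (L 1622)
 (L 9402)))
 (N (N (L 5787)
 (L 982))
 (L 1320))))))
 (N (N (N (N (N (N (L 14262)
 (L 13374))
 (N (L 13483)
 (L 14216)))
 (N (N (L 15116)
 (L 9219))
 (N (L 15059)
 (L 12988))))
 (N (N (N (L 11681)
 (L 9242))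
 (N (L 11177)
 (L 6329)))
 (N (N (L 15136)
 (L 3576))
 (L 1483))))
 (N (N (N (N (L 9203)
 (L 10432))
 (N (L 2268)
 (L 8160)))
 (N (N (L 5392)
 (L 34))
 (N (L 10726)
 (L 4192))))
 (N (N (N (L 2704)
 (L 1952))
 (N (L 13179)
 (L 4835)))
 (N (N (L 1645)
 (L 11335))
 (L 10651)))))
 (N (N (N (N (N (L 14653)
 (L 11431))
 (N (L 1735)
 (L 1098)))
 (N (N (L 12618)
 (L 8274))
 (N (L 9961)
 (L 12744))))
 (N (N (N (L 3902)
 (L 11879))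
 (N (L 8738)
 (L 7842)))
 (N (N (L 6221)
 (L 2577))
 (L 3342))))
 (N (N (N (N (L 12764)
 (L 2114))
 (N (L 14243)
 (L 2717)))
 (N (N (L 13325)
 (L 12448))
 (N (L 5520)
 (L 9370))))
 (N (N (N (L 2795)
 (L 12442))
 (N (L 2770)
 (L 8859)))
 (N (N (L 5892)
 (L 14609))
 (L 13537))))))))
 (N (N (N (N (N (N (N (N (L 519)
 (L 13411))
 (N (L 10624)
 (L 5186)))
 (N (N (L 4648)
 (L 14614))
 (N (L 3999)
 (L 8830))))
 (N (N (N (L 5920)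
 (L 1705))
 (N (L 2279)
 (L 1193)))
 (N (N (L 5690)
 (L 12998))
 (L 1644))))
 (N (N (N (N (L 13259)
 (L 8041))
 (N (L 10417)
 (L 13036)))
 (N (N (L 515)
 (L 1424))
 (N (L 2954)
 (L 12711))))
 (N (N (N (L 10035)
 (L 7885))
 (N (L 5009)
 (L 10358)))
 (N (N (L 9482)
 (L 14688))
 (L 10474)))))
 (N (N (N (N (N (L 12962)
 (L 9805))
 (N (L 7152)
 (L 8013)))
 (N (N (L 10509)
 (L 5675))
 (N (L 8637)
 (L 15217))))
 (N (N (N (L 5069)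
 (L 4962))
 (N (L 8091)
 (L 11904)))
 (N (N (L 1687)
 (L 6330))
 (L 1013))))
 (N (N (N (N (L 6931)
 (L 113))
 (N (L 6123)
 (L 13959)))
 (N (N (L 10305)
 (L 6294))
 (N (L 9441)
 (L 1283))))
 (N (N (N (L 13445)
 (L 11967))
 (N (L 11511)
 (L 10023)))
 (N (N (L 8990)
 (L 4856))
 (L 404))))))
 (N (N (N (N (N (N (L 12752)
 (L 3493))
 (N (L 8736)
 (L 1863)))
 (N (N (L 7910)
 (L 12076))
 (N (L 11993)
 (L 192))))
 (N (N (N (L 14379)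
 (L 5197))
 (N (L 8785)
 (L 6494)))
 (N (N (L 823)
 (L 784))
 (L 7676))))
 (N (N (N (N (L 6234)
 (L 1168))
 (N (L 5727)
 (L 6644)))
 (N (N (L 5346)
 (L 9248))
 (N (L 1835)
 (L 8908))))
 (N (N (N (L 9833)
 (L 8594))
 (N (L 8157)
 (L 6991)))
 (N (N (L 13456)
 (L 8456))
 (L 12652)))))
 (N (N (N (N (N (L 3126)
 (L 4843))
 (N (L 14147)
 (L 266)))
 (N (N (L 3249)
 (L 7841))
 (N (L 2001)
 (L 14475))))
 (N (N (N (L 2884)
 (L 11862))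
 (N (L 7757)
 (L 11362)))
 (N (N (L 4301)
 (L 5410))
 (L 15175))))
 (N (N (N (N (L 12055)
 (L 3341))
 (N (L 871)
 (L 8192)))
 (N (N (L 11541)
 (L 8391))
 (N (L 10294)
 (L 9951))))
 (N (N (N (L 14399)
 (L 10082))
 (N (L 15261)
 (L 7776)))
 (N (N (L 9679)
 (L 12210))
 (L 3438)))))))
 (N (N (N (N (N (N (N (L 206)
 (L 14663))
 (N (L 8846)
 (L 12791)))
 (N (N (L 13688)
 (L 11304))
 (N (L 12220)
 (L 12535))))
 (N (N (N (L 5834)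
 (L 11505))
 (N (L 920)
 (L 14795)))
 (N (N (L 14026)
 (L 6631))
 (L 10582))))
 (N (N (N (N (L 10073)
 (L 12110))
 (N (L 9298)
 (L 6942)))
 (N (N (L 5764)
 (L 12774))
 (N (L 10627)
 (L 7798))))
 (N (N (N (L 4818)
 (L 8860))
 (N (L 1200)
 (L 7697)))
 (N (N (L 12887)
 (L 12540))
 (L 8836)))))
 (N (N (N (N (N (L 1100)
 (L 12493))
 (N (L 13224)
 (L 11740)))
 (N (N (L 3790)
 (L 4936))
 (N (L 13739)
 (L 3523))))
 (N (N (N (L 10704)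
 (L 11805))
 (N (L 5439)
 (L 12628)))
 (N (N (L 6067)
 (L 887))
 (L 14186))))
 (N (N (N (N (L 1729)
 (L 6239))
 (N (L 11236)
 (L 8072)))
 (N (N (L 13360)
 (L 9974))
 (N (L 9484)
 (L 13698))))
 (N (N (N (L 2525)
 (L 14106))
 (N (L 403)
 (L 12412)))
 (N (N (L 6147)
 (L 1437))
 (L 13044))))))
 (N (N (N (N (N (N (L 3722)
 (L 11856))
 (N (L 5227)
 (L 1685)))
 (N (N (L 3582)
 (L 12417))
 (N (L 3844)
 (L 13367))))
 (N (N (N (L 7096)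
 (L 1006))
 (N (L 1261)
 (L 13991)))
 (N (N (L 7045)
 (L 3987))
 (L 5299))))
 (N (N (N (N (L 11710)
 (L 9261))
 (N (L 15178)
 (L 6043)))
 (N (N (L 9154)
 (L 4540))
 (N (L 11243)
 (L 13960))))
 (N (N (N (L 944)
 (L 1348))
 (N (L 4403)
 (L 5322)))
 (N (N (L 6764)
 (L 7939))
 (L 8562)))))
 (N (N (N (N (N (L 14651)
 (L 147))
 (N (L 2265)
 (L 3912)))
 (N (N (L 10676)
 (L 1584))
 (N (L 14274)
 (L 10736))))
 (N (N (N (L 3577)
 (L 8500))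
 (N (L 3831)
 (L 8888)))
 (N (N (L 5393)
 (L 7058))
 (L 12120))))
 (N (N (N (N (L 7167)
 (L 2487))
 (N (L 5906)
 (L 2338)))
 (N (N (L 5005)
 (L 4388))
 (N (L 9677)
 (L 9167))))
 (N (N (N (L 12647)
 (L 877))
 (N (L 6420)
 (L 7362)))
 (N (N (L 12361)
 (L 11785))
 (L 792)))))))))
 (N (N (N (N (N (N (N (N (N (L 8223)
 (L 7442))
 (N (L 14980)
 (L 2375)))
 (N (N (L 576)
 (L 7212))
 (N (L 4641)
 (L 14400))))
 (N (N (N (L 1182)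
 (L 11162))
 (N (L 2541)
 (L 12310)))
 (N (N (L 204)
 (L 7376))
 (N (L 8487)
 (L 6533)))))
 (N (N (N (N (L 3959)
 (L 15368))
 (N (L 1706)
 (L 7819)))
 (N (N (L 6667)
 (L 8450))
 (N (L 10506)
 (L 12608))))
 (N (N (N (L 14047)
 (L 11886))
 (N (L 5372)
 (L 11519)))
 (N (N (L 11238)
 (L 1192))
 (L 4247)))))
 (N (N (N (N (N (L 14970)
 (L 13253))
 (N (L 2648)
 (L 14177)))
 (N (N (L 14541)
 (L 94))
 (N (L 2029)
 (L 11322))))
 (N (N (N (L 1817)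
 (L 12447))
 (N (L 7330)
 (L 7712)))
 (N (N (L 11234)
 (L 12106))
 (L 1331))))
 (N (N (N (N (L 6548)
 (L 5602))
 (N (L 10371)
 (L 9874)))
 (N (N (L 13354)
 (L 8489))
 (N (L 1530)
 (L 14883))))
 (N (N (N (L 7022)
 (L 8514))
 (N (L 1994)
 (L 7504)))
 (N (N (L 6039)
 (L 14981))
 (L 479))))))
 (N (N (N (N (N (N (L 10024)
 (L 13841))
 (N (L 7346)
 (L 6253)))
 (N (N (L 13075)
 (L 11663))
 (N (L 6728)
 (L 554))))
 (N (N (N (L 5899)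
 (L 13819))
 (N (L 13647)
 (L 13501)))
 (N (N (L 6371)
 (L 785))
 (L 9639))))
 (N (N (N (N (L 8022)
 (L 1311))
 (N (L 12855)
 (L 3886)))
 (N (N (L 11220)
 (L 15219))
 (N (L 15107)
 (L 3931))))
 (N (N (N (L 6055)
 (L 14752))
 (N (L 14750)
 (L 6515)))
 (N (N (L 1995)
 (L 5720))
 (L 4963)))))
 (N (N (N (N (N (L 229)
 (L 4428))
 (N (L 3320)
 (L 10063)))
 (N (N (L 13870)
 (L 1199))
 (N (L 13210)
 (L 4701))))
 (N (N (N (L 6049)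
 (L 10530))
 (N (L 6295)
 (L 12125)))
 (N (N (L 5600)
 (L 6327))
 (L 1670))))
 (N (N (N (N (L 8161)
 (L 3709))
 (N (L 6228)
 (L 6805)))
 (N (N (L 15126)
 (L 12337))
 (N (L 14144)
 (L 4037))))
 (N (N (N (L 3282)
 (L 1802))
 (N (L 8451)
 (L 7731)))
 (N (N (L 2680)
 (L 2644))
 (L 6593)))))))
 (N (N (N (N (N (N (N (L 7366)
 (L 4278))
 (N (L 2264)
 (L 850)))
 (N (N (L 14975)
 (L 4396))
 (N (L 2472)
 (L 6134))))
 (N (N (N (L 11308)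
 (L 12697))
 (N (L 9785)
 (L 14489)))
 (N (N (L 6671)
 (L 5721))
 (L 14087))))
 (N (N (N (N (L 4463)
 (L 4076))
 (N (L 10290)
 (L 6775)))
 (N (N (L 5039)
 (L 587))
 (N (L 11922)
 (L 8184))))
 (N (N (N (L 8331)
 (L 1754))
 (N (L 9372)
 (L 8967)))
 (N (N (L 14502)
 (L 1480))
 (L 550)))))
 (N (N (N (N (N (L 15186)
 (L 5335))
 (N (L 7210)
 (L 12060)))
 (N (N (L 12313)
 (L 13141))
 (N (L 8100)
 (L 4803))))
 (N (N (N (L 7897)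
 (L 4162))
 (N (L 11245)
 (L 1921)))
 (N (N (L 11679)
 (L 9347))
 (L 7165))))
 (N (N (N (N (L 14517)
 (L 1369))
 (N (L 3279)
 (L 6555)))
 (N (N (L 1057)
 (L 5731))
 (N (L 10004)
 (L 9969))))
 (N (N (N (L 908)
 (L 868))
 (N (L 12505)
 (L 3345)))
 (N (N (L 8540)
 (L 5736))
 (L 5706))))))
 (N (N (N (N (N (N (L 1624)
 (L 2311))
 (N (L 4125)
 (L 12069)))
 (N (N (L 9174)
 (L 9956))
 (N (L 14054)
 (L 2515))))
 (N (N (N (L 5386)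
 (L 3634))
 (N (L 12567)
 (L 4636)))
 (N (N (L 3462)
 (L 1880))
 (L 14645))))
 (N (N (N (N (L 8657)
 (L 1948))
 (N (L 9382)
 (L 13065)))
 (N (N (L 7966)
 (L 10571))
 (N (L 607)
 (L 10412))))
 (N (N (N (L 1353)
 (L 3682))
 (N (L 10390)
 (L 4173)))
 (N (N (L 5267)
 (L 4532))
 (L 6131)))))
 (N (N (N (N (N (L 7126)
 (L 6564))
 (N (L 2715)
 (L 6595)))
 (N (N (L 4096)
 (L 12058))
 (N (L 4481)
 (L 9172))))
 (N (N (N (L 11707)
 (L 2695))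
 (N (L 9412)
 (L 4658)))
 (N (N (L 2134)
 (L 15114))
 (L 4307))))
 (N (N (N (N (L 7285)
 (L 9146))
 (N (L 9827)
 (L 3946)))
 (N (N (L 5994)
 (L 15100))
 (N (L 7053)
 (L 8252))))
 (N (N (N (L 9055)
 (L 10689))
 (N (L 8727)
 (L 9274)))
 (N (N (L 12314)
 (L 595))
 (L 6932))))))))
 (N (N (N (N (N (N (N (N (L 910)
 (L 7514))
 (N (L 11233)
 (L 3378)))
 (N (N (L 207)
 (L 10594))
 (N (L 3824)
 (L 8557))))
 (N (N (N (L 2946)
 (L 10661))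
 (N (L 6489)
 (L 14597)))
 (N (N (L 13934)
 (L 5355))
 (L 12885))))
 (N (N (N (N (L 11151)
 (L 10066))
 (N (L 4522)
 (L 6061)))
 (N (N (L 2823)
 (L 3234))
 (N (L 10609)
 (L 14364))))
 (N (N (N (L 9719)
 (L 12490))
 (N (L 9508)
 (L 5100)))
 (N (N (L 4675)
 (L 6407))
 (L 4252)))))
 (N (N (N (N (N (L 6028)
 (L 7921))
 (N (L 14802)
 (L 10483)))
 (N (N (L 10852)
 (L 9625))
 (N (L 3648)
 (L 9512))))
 (N (N (N (L 8102)
 (L 209))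
 (N (L 15147)
 (L 13580)))
 (N (N (L 159)
 (L 13495))
 (L 3439))))
 (N (N (N (N (L 2641)
 (L 10499))
 (N (L 12030)
 (L 10972)))
 (N (N (L 3147)
 (L 14532))
 (N (L 2374)
 (L 6841))))
 (N (N (N (L 1727)
 (L 8445))
 (N (L 8292)
 (L 2965)))
 (N (N (L 3292)
 (L 3614))
 (L 3009))))))
 (N (N (N (N (N (N (L 3681)
 (L 6316))
 (N (L 11732)
 (L 12464)))
 (N (N (L 6996)
 (L 15374))
 (N (L 9254)
 (L 7620))))
 (N (N (N (L 9285)
 (L 8421))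
 (N (L 896)
 (L 13990)))
 (N (N (L 10873)
 (L 10406))
 (L 5922))))
 (N (N (N (N (L 8424)
 (L 1170))
 (N (L 323)
 (L 7357)))
 (N (N (L 14470)
 (L 3361))
 (N (L 9209)
 (L 4004))))
 (N (N (N (L 4161)
 (L 6005))
 (N (L 12362)
 (L 8740)))
 (N (N (L 6369)
 (L 2199))
 (L 213)))))
 (N (N (N (N (N (L 5349)
 (L 502))
 (N (L 2267)
 (L 2599)))
 (N (N (L 13355)
 (L 6791))
 (N (L 11762)
 (L 14347))))
 (N (N (N (L 6079)
 (L 1902))
 (N (L 13111)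
 (L 10334)))
 (N (N (L 3792)
 (L 490))
 (L 5289))))
 (N (N (N (N (L 12612)
 (L 8605))
 (N (L 2931)
 (L 6529)))
 (N (N (L 9000)
 (L 3539))
 (N (L 13833)
 (L 558))))
 (N (N (N (L 11239)
 (L 5984))
 (N (L 8265)
 (L 12467)))
 (N (N (L 10779)
 (L 14321))
 (L 8959)))))))
 (N (N (N (N (N (N (N (L 3677)
 (L 13893))
 (N (L 7779)
 (L 14212)))
 (N (N (L 177)
 (L 6105))
 (N (L 10662)
 (L 6860))))
 (N (N (N (L 10188)
 (L 5522))
 (N (L 6220)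
 (L 14865)))
 (N (N (L 11164)
 (L 14918))
 (L 76))))
 (N (N (N (N (L 2743)
 (L 678))
 (N (L 14381)
 (L 7475)))
 (N (N (L 14613)
 (L 996))
 (N (L 9424)
 (L 6987))))
 (N (N (N (L 14957)
 (L 3333))
 (N (L 3221)
 (L 5995)))
 (N (N (L 1277)
 (L 1074))
 (L 4022)))))
 (N (N (N (N (N (L 6875)
 (L 4864))
 (N (L 98)
 (L 8993)))
 (N (N (L 1697)
 (L 1097))
 (N (L 449)
 (L 3702))))
 (N (N (N (L 8776)
 (L 6825))
 (N (L 12958)
 (L 10493)))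
 (N (N (L 320)
 (L 1421))
 (L 8267))))
 (N (N (N (N (L 1306)
 (L 14387))
 (N (L 11285)
 (L 14997)))
 (N (N (L 1849)
 (L 1820))
 (N (L 308)
 (L 6602))))
 (N (N (N (L 9014)
 (L 8775))
 (N (L 13197)
 (L 10085)))
 (N (N (L 4602)
 (L 9054))
 (L 195))))))
 (N (N (N (N (N (N (L 13947)
 (L 9724))
 (N (L 3993)
 (L 12052)))
 (N (N (L 1086)
 (L 2510))
 (N (L 232)
 (L 8415))))
 (N (N (N (L 1130)
 (L 8017))
 (N (L 4753)
 (L 11389)))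
 (N (N (L 8861)
 (L 15101))
 (L 14059))))
 (N (N (N (N (L 8169)
 (L 5265))
 (N (L 2283)
 (L 8272)))
 (N (N (L 9789)
 (L 4375))
 (N (L 11512)
 (L 5185))))
 (N (N (N (L 6288)
 (L 13651))
 (N (L 7904)
 (L 13573)))
 (N (N (L 11079)
 (L 9530))
 (L 7188)))))
 (N (N (N (N (N (L 5698)
 (L 5077))
 (N (L 5240)
 (L 8167)))
 (N (N (L 4386)
 (L 7992))
 (N (L 5433)
 (L 7399))))
 (N (N (N (L 112)
 (L 6481))
 (N (L 1154)
 (L 1240)))
 (N (N (L 14215)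
 (L 4093))
 (L 9132))))
 (N (N (N (N (L 12341)
 (L 10441))
 (N (L 3325)
 (L 10109)))
 (N (N (L 1157)
 (L 8057))
 (N (L 1503)
 (L 7680))))
 (N (N (N (L 3100)
 (L 988))
 (N (L 245)
 (L 12462)))
 (N (N (L 14646)
 (L 13230))
 (L 1178)))))))))))
 (N (N (N (N (N (N (N (N (N (N (N (L 3007)
 (L 699))
 (N (L 1287)
 (L 2509)))
 (N (N (L 8595)
 (L 13937))
 (N (L 7171)
 (L 355))))
 (N (N (N (L 2202)
 (L 9649))
 (N (L 2336)
 (L 3305)))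
 (N (N (L 8938)
 (L 14351))
 (N (L 5489)
 (L 13153)))))
 (N (N (N (N (L 10427)
 (L 3290))
 (N (L 14137)
 (L 8214)))
 (N (N (L 11559)
 (L 9873))
 (N (L 4292)
 (L 14893))))
 (N (N (N (L 5170)
 (L 7534))
 (N (L 12077)
 (L 13978)))
 (N (N (L 2651)
 (L 5983))
 (L 9499)))))
 (N (N (N (N (N (L 12663)
 (L 5089))
 (N (L 4412)
 (L 1377)))
 (N (N (L 6948)
 (L 5504))
 (N (L 1629)
 (L 9124))))
 (N (N (N (L 8349)
 (L 14632))
 (N (L 7496)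
 (L 14657)))
 (N (N (L 6468)
 (L 14417))
 (L 2687))))
 (N (N (N (N (L 6379)
 (L 7860))
 (N (L 12633)
 (L 3085)))
 (N (N (L 9479)
 (L 10595))
 (N (L 2850)
 (L 3469))))
 (N (N (N (L 13419)
 (L 12866))
 (N (L 13644)
 (L 11046)))
 (N (N (L 927)
 (L 4509))
 (L 10681))))))
 (N (N (N (N (N (N (L 8340)
 (L 1955))
 (N (L 8099)
 (L 11807)))
 (N (N (L 4351)
 (L 8976))
 (N (L 6284)
 (L 6745))))
 (N (N (N (L 8866)
 (L 477))
 (N (L 5666)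
 (L 10015)))
 (N (N (L 6729)
 (L 6896))
 (L 4645))))
 (N (N (N (N (L 13443)
 (L 9783))
 (N (L 13028)
 (L 13714)))
 (N (N (L 14195)
 (L 167))
 (N (L 8322)
 (L 10022))))
 (N (N (N (L 5305)
 (L 3680))
 (N (L 15051)
 (L 9041)))
 (N (N (L 3160)
 (L 11911))
 (L 8308)))))
 (N (N (N (N (N (L 11971)
 (L 11345))
 (N (L 7752)
 (L 191)))
 (N (N (L 12207)
 (L 10672))
 (N (L 1608)
 (L 14917))))
 (N (N (N (L 5644)
 (L 9673))
 (N (L 14737)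
 (L 4310)))
 (N (N (L 9395)
 (L 14109))
 (L 2554))))
 (N (N (N (N (L 3096)
 (L 3508))
 (N (L 12778)
 (L 13074)))
 (N (N (L 7030)
 (L 6990))
 (N (L 12726)
 (L 10235))))
 (N (N (N (L 12374)
 (L 5292))
 (N (L 8730)
 (L 11005)))
 (N (N (L 4698)
 (L 5677))
 (L 15376)))))))
 (N (N (N (N (N (N (N (L 6543)
 (L 1047))
 (N (L 14749)
 (L 14966)))
 (N (N (L 4734)
 (L 9615))
 (N (L 12099)
 (L 8228))))
 (N (N (N (L 6894)
 (L 9546))
 (N (L 12008)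
 (L 5845)))
 (N (N (L 3839)
 (L 10799))
 (L 10677))))
 (N (N (N (N (L 3653)
 (L 11109))
 (N (L 9763)
 (L 6168)))
 (N (N (L 12359)
 (L 4711))
 (N (L 6951)
 (L 11006))))
 (N (N (N (L 9463)
 (L 6715))
 (N (L 1096)
 (L 6008)))
 (N (N (L 3293)
 (L 3509))
 (L 7109)))))
 (N (N (N (N (N (L 2845)
 (L 11882))
 (N (L 10454)
 (L 12947)))
 (N (N (L 12048)
 (L 13879))
 (N (L 8230)
 (L 12409))))
 (N (N (N (L 3228)
 (L 3017))
 (N (L 6743)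
 (L 21)))
 (N (N (L 13692)
 (L 6274))
 (L 8751))))
 (N (N (N (N (L 3525)
 (L 14336))
 (N (L 10303)
 (L 4291)))
 (N (N (L 13967)
 (L 5624))
 (N (L 8942)
 (L 3435))))
 (N (N (N (L 3765)
 (L 2548))
 (N (L 8570)
 (L 12765)))
 (N (N (L 8191)
 (L 6064))
 (L 6068))))))
 (N (N (N (N (N (N (L 8488)
 (L 6122))
 (N (L 5730)
 (L 13476)))
 (N (N (L 2694)
 (L 1452))
 (N (L 11563)
 (L 9767))))
 (N (N (N (L 13726)
 (L 6306))
 (N (L 6847)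
 (L 7778)))
 (N (N (L 6499)
 (L 1741))
 (L 13650))))
 (N (N (N (N (L 13037)
 (L 9641))
 (N (L 13791)
 (L 13001)))
 (N (N (L 2237)
 (L 4419))
 (N (L 2054)
 (L 9527))))
 (N (N (N (L 14119)
 (L 10266))
 (N (L 7568)
 (L 7627)))
 (N (N (L 6063)
 (L 14786))
 (L 8075)))))
 (N (N (N (N (N (L 14626)
 (L 10116))
 (N (L 5195)
 (L 15015)))
 (N (N (L 2742)
 (L 11685))
 (N (L 9175)
 (L 8821))))
 (N (N (N (L 2248)
 (L 7537))
 (N (L 2181)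
 (L 11796)))
 (N (N (L 15146)
 (L 13353))
 (L 5699))))
 (N (N (N (N (L 5860)
 (L 4504))
 (N (L 1109)
 (L 14701)))
 (N (N (L 222)
 (L 5683))
 (N (L 9538)
 (L 230))))
 (N (N (N (L 5549)
 (L 8431))
 (N (L 11763)
 (L 11895)))
 (N (N (L 14464)
 (L 2182))
 (L 6336))))))))
 (N (N (N (N (N (N (N (N (L 11666)
 (L 1981))
 (N (L 6881)
 (L 2078)))
 (N (N (L 14134)
 (L 8806))
 (N (L 8268)
 (L 14843))))
 (N (N (N (L 846)
 (L 848))
 (N (L 5220)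
 (L 2118)))
 (N (N (L 14239)
 (L 12292))
 (N (L 9260)
 (L 10145)))))
 (N (N (N (N (L 9985)
 (L 12401))
 (N (L 11582)
 (L 7359)))
 (N (N (L 2706)
 (L 2332))
 (N (L 5290)
 (L 4813))))
 (N (N (N (L 2592)
 (L 14604))
 (N (L 2867)
 (L 8649)))
 (N (N (L 2383)
 (L 3565))
 (L 6400)))))
 (N (N (N (N (N (L 3655)
 (L 12502))
 (N (L 12002)
 (L 4264)))
 (N (N (L 13509)
 (L 138))
 (N (L 4450)
 (L 6692))))
 (N (N (N (L 2362)
 (L 5869))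
 (N (L 8107)
 (L 1532)))
 (N (N (L 6643)
 (L 5066))
 (L 524))))
 (N (N (N (N (L 11065)
 (L 13452))
 (N (L 3220)
 (L 1432)))
 (N (N (L 2337)
 (L 93))
 (N (L 11093)
 (L 2668))))
 (N (N (N (L 11123)
 (L 328))
 (N (L 13522)
 (L 14991)))
 (N (N (L 5216)
 (L 12543))
 (L 13463))))))
 (N (N (N (N (N (N (L 7974)
 (L 716))
 (N (L 986)
 (L 12504)))
 (N (N (L 1966)
 (L 7749))
 (N (L 3793)
 (L 9905))))
 (N (N (N (L 10315)
 (L 15037))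
 (N (L 10451)
 (L 10411)))
 (N (N (L 12150)
 (L 6085))
 (L 13289))))
 (N (N (N (N (L 2699)
 (L 8288))
 (N (L 7784)
 (L 5694)))
 (N (N (L 7074)
 (L 4676))
 (N (L 1172)
 (L 6040))))
 (N (N (N (L 5641)
 (L 7164))
 (N (L 6585)
 (L 668)))
 (N (N (L 11651)
 (L 5973))
 (L 6338)))))
 (N (N (N (N (N (L 5419)
 (L 1593))
 (N (L 8125)
 (L 596)))
 (N (N (L 3052)
 (L 9678))
 (N (L 4828)
 (L 4017))))
 (N (N (N (L 12291)
 (L 3125))
 (N (L 11252)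
 (L 11256)))
 (N (N (L 644)
 (L 3641))
 (L 8670))))
 (N (N (N (N (L 12445)
 (L 1919))
 (N (L 5474)
 (L 4294)))
 (N (N (L 7936)
 (L 5200))
 (N (L 8490)
 (L 6260))))
 (N (N (N (L 7789)
 (L 2315))
 (N (L 9138)
 (L 10363)))
 (N (N (L 7969)
 (L 5044))
 (L 3811)))))))
 (N (N (N (N (N (N (N (L 11484)
 (L 3690))
 (N (L 3110)
 (L 10578)))
 (N (N (L 7434)
 (L 4360))
 (N (L 8685)
 (L 3777))))
 (N (N (N (L 14344)
 (L 10457))
 (N (L 12673)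
 (L 447)))
 (N (N (L 10245)
 (L 3116))
 (L 12920))))
 (N (N (N (N (L 220)
 (L 12139))
 (N (L 10134)
 (L 7160)))
 (N (N (L 4695)
 (L 8660))
 (N (L 12463)
 (L 1411))))
 (N (N (N (L 7804)
 (L 12272))
 (N (L 6487)
 (L 7827)))
 (N (N (L 77)
 (L 13387))
 (L 11147)))))
 (N (N (N (N (N (L 4260)
 (L 10230))
 (N (L 3135)
 (L 7651)))
 (N (N (L 12095)
 (L 14978))
 (N (L 5794)
 (L 13866))))
 (N (N (N (L 14224)
 (L 9229))
 (N (L 7400)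
 (L 4760)))
 (N (N (L 14271)
 (L 7710))
 (L 2567))))
 (N (N (N (N (L 8330)
 (L 4453))
 (N (L 6045)
 (L 9532)))
 (N (N (L 7190)
 (L 7234))
 (N (L 11338)
 (L 8381))))
 (N (N (N (L 2799)
 (L 2868))
 (N (L 1304)
 (L 4654)))
 (N (N (L 9650)
 (L 10948))
 (L 7009))))))
 (N (N (N (N (N (N (L 10886)
 (L 14924))
 (N (L 14899)
 (L 7576)))
 (N (N (L 7248)
 (L 5546))
 (N (L 3675)
 (L 14703))))
 (N (N (N (L 12276)
 (L 3798))
 (N (L 2447)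
 (L 8639)))
 (N (N (L 8848)
 (L 1709))
 (L 13013))))
 (N (N (N (N (L 5938)
 (L 6945))
 (N (L 11115)
 (L 5854)))
 (N (N (L 2491)
 (L 10813))
 (N (L 7830)
 (L 9516))))
 (N (N (N (L 9636)
 (L 11276))
 (N (L 2243)
 (L 4643)))
 (N (N (L 3755)
 (L 14719))
 (L 14699)))))
 (N (N (N (N (N (L 492)
 (L 14304))
 (N (L 4799)
 (L 15307)))
 (N (N (L 7971)
 (L 3877))
 (N (L 14019)
 (L 14461))))
 (N (N (N (L 11150)
 (L 4339))
 (N (L 14370)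
 (L 342)))
 (N (N (L 12205)
 (L 1449))
 (L 5571))))
 (N (N (N (N (L 634)
 (L 11302))
 (N (L 2564)
 (L 2792)))
 (N (N (L 9112)
 (L 7307))
 (N (L 2996)
 (L 14955))))
 (N (N (N (L 446)
 (L 11188))
 (N (L 3941)
 (L 4826)))
 (N (N (L 8849)
 (L 15321))
 (L 8502)))))))))
 (N (N (N (N (N (N (N (N (N (L 7429)
 (L 11388))
 (N (L 6726)
 (L 5811)))
 (N (N (L 4874)
 (L 14671))
 (N (L 3014)
 (L 13474))))
 (N (N (N (L 12327)
 (L 4590))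
 (N (L 11223)
 (L 12970)))
 (N (N (L 3759)
 (L 5142))
 (N (L 14508)
 (L 2345)))))
 (N (N (N (N (L 553)
 (L 2531))
 (N (L 14077)
 (L 590)))
 (N (N (L 12144)
 (L 10668))
 (N (L 8446)
 (L 5502))))
 (N (N (N (L 3093)
 (L 1513))
 (N (L 5647)
 (L 7203)))
 (N (N (L 8586)
 (L 1630))
 (L 3392)))))
 (N (N (N (N (N (L 11990)
 (L 14188))
 (N (L 2358)
 (L 9988)))
 (N (N (L 3684)
 (L 10816))
 (N (L 13699)
 (L 13094))))
 (N (N (N (L 13330)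
 (L 1499))
 (N (L 2616)
 (L 5951)))
 (N (N (L 5423)
 (L 5816))
 (L 12810))))
 (N (N (N (N (L 10500)
 (L 5819))
 (N (L 11054)
 (L 6642)))
 (N (N (L 5425)
 (L 5282))
 (N (L 4671)
 (L 3548))))
 (N (N (N (L 14031)
 (L 14414))
 (N (L 13092)
 (L 5507)))
 (N (N (L 7629)
 (L 13274))
 (L 4073))))))
 (N (N (N (N (N (N (L 12241)
 (L 6620))
 (N (L 13309)
 (L 2110)))
 (N (N (L 2966)
 (L 1691))
 (N (L 8522)
 (L 1040))))
 (N (N (N (L 5286)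
 (L 11034))
 (N (L 13122)
 (L 3954)))
 (N (N (L 14396)
 (L 1387))
 (L 3131))))
 (N (N (N (N (L 11603)
 (L 2536))
 (N (L 7962)
 (L 10108)))
 (N (N (L 6774)
 (L 14374))
 (N (L 9887)
 (L 2064))))
 (N (N (N (L 14793)
 (L 7815))
 (N (L 14441)
 (L 8774)))
 (N (N (L 2430)
 (L 990))
 (L 8362)))))
 (N (N (N (N (N (L 12769)
 (L 7794))
 (N (L 13534)
 (L 10914)))
 (N (N (L 8991)
 (L 14710))
 (N (L 4942)
 (L 1329))))
 (N (N (N (L 15225)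
 (L 11248))
 (N (L 2324)
 (L 5789)))
 (N (N (L 3708)
 (L 9668))
 (L 8244))))
 (N (N (N (N (L 1934)
 (L 4071))
 (N (L 5719)
 (L 3801)))
 (N (N (L 14873)
 (L 4056))
 (N (L 14385)
 (L 7975))))
 (N (N (N (L 14984)
 (L 4754))
 (N (L 5669)
 (L 11701)))
 (N (N (L 1059)
 (L 9028))
 (L 5887)))))))
 (N (N (N (N (N (N (N (L 12796)
 (L 9844))
 (N (L 3616)
 (L 15121)))
 (N (N (L 6988)
 (L 1759))
 (N (L 15391)
 (L 5697))))
 (N (N (N (L 1103)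
 (L 12166))
 (N (L 7895)
 (L 5150)))
 (N (N (L 13049)
 (L 13817))
 (L 12902))))
 (N (N (N (N (L 12892)
 (L 1509))
 (N (L 9442)
 (L 14206)))
 (N (N (L 12476)
 (L 6544))
 (N (L 9739)
 (L 5164))))
 (N (N (N (L 214)
 (L 4094))
 (N (L 11379)
 (L 1127)))
 (N (N (L 7489)
 (L 1827))
 (L 14404)))))
 (N (N (N (N (N (L 1048)
 (L 9864))
 (N (L 8844)
 (L 14494)))
 (N (N (L 6958)
 (L 8946))
 (N (L 6202)
 (L 2708))))
 (N (N (N (L 5566)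
 (L 3713))
 (N (L 117)
 (L 8216)))
 (N (N (L 4971)
 (L 7090))
 (L 6449))))
 (N (N (N (N (L 10367)
 (L 2139))
 (N (L 6496)
 (L 178)))
 (N (N (L 13025)
 (L 7345))
 (N (L 8361)
 (L 8536))))
 (N (N (N (L 13499)
 (L 2348))
 (N (L 13545)
 (L 5749)))
 (N (N (L 11373)
 (L 7493))
 (L 6698))))))
 (N (N (N (N (N (N (L 7633)
 (L 247))
 (N (L 11515)
 (L 12100)))
 (N (N (L 3421)
 (L 6964))
 (N (L 1275)
 (L 12771))))
 (N (N (N (L 6277)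
 (L 10897))
 (N (L 4422)
 (L 5332)))
 (N (N (L 7018)
 (L 2285))
 (L 14581))))
 (N (N (N (N (L 7678)
 (L 5535))
 (N (L 6474)
 (L 11467)))
 (N (N (L 179)
 (L 13365))
 (N (L 2927)
 (L 5444))))
 (N (N (N (L 11617)
 (L 122))
 (N (L 5913)
 (L 13241)))
 (N (N (L 14065)
 (L 14952))
 (L 11969)))))
 (N (N (N (N (N (L 14577)
 (L 10887))
 (N (L 15185)
 (L 10531)))
 (N (N (L 6285)
 (L 3067))
 (N (L 10996)
 (L 10130))))
 (N (N (N (L 5878)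
 (L 10459))
 (N (L 523)
 (L 11942)))
 (N (N (L 4382)
 (L 8499))
 (L 3667))))
 (N (N (N (N (L 13812)
 (L 9297))
 (N (L 11905)
 (L 1028)))
 (N (N (L 6398)
 (L 4465))
 (N (L 714)
 (L 5133))))
 (N (N (N (L 6117)
 (L 13052))
 (N (L 14108)
 (L 15190)))
 (N (N (L 6730)
 (L 4674))
 (L 1888))))))))
 (N (N (N (N (N (N (N (N (L 4749)
 (L 3204))
 (N (L 8094)
 (L 11267)))
 (N (N (L 9736)
 (L 10094))
 (N (L 11017)
 (L 3076))))
 (N (N (N (L 1822)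
 (L 6755))
 (N (L 10882)
 (L 5782)))
 (N (N (L 14583)
 (L 14454))
 (L 13527))))
 (N (N (N (N (L 13970)
 (L 9458))
 (N (L 11609)
 (L 11816)))
 (N (N (L 7184)
 (L 13140))
 (N (L 6484)
 (L 1090))))
 (N (N (N (L 2828)
 (L 4288))
 (N (L 8582)
 (L 14789)))
 (N (N (L 2606)
 (L 9784))
 (L 7783)))))
 (N (N (N (N (N (L 2571)
 (L 1023))
 (N (L 8538)
 (L 8951)))
 (N (N (L 9005)
 (L 12976))
 (N (L 5470)
 (L 11587))))
 (N (N (N (L 9523)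
 (L 3756))
 (N (L 14273)
 (L 12942)))
 (N (N (L 9407)
 (L 6166))
 (L 1963))))
 (N (N (N (N (L 13470)
 (L 511))
 (N (L 15363)
 (L 8697)))
 (N (N (L 6488)
 (L 12217))
 (N (L 8661)
 (L 13200))))
 (N (N (N (L 4788)
 (L 3500))
 (N (L 12919)
 (L 1602)))
 (N (N (L 2840)
 (L 3141))
 (L 8363))))))
 (N (N (N (N (N (N (L 4086)
 (L 5921))
 (N (L 2758)
 (L 4064)))
 (N (N (L 12301)
 (L 7584))
 (N (L 3829)
 (L 2046))))
 (N (N (N (L 12596)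
 (L 9266))
 (N (L 15324)
 (L 13151)))
 (N (N (L 12615)
 (L 13473))
 (L 8437))))
 (N (N (N (N (L 14833)
 (L 4155))
 (N (L 8089)
 (L 9187)))
 (N (N (L 7423)
 (L 2104))
 (N (L 2529)
 (L 1588))))
 (N (N (N (L 8929)
 (L 930))
 (N (L 2544)
 (L 12979)))
 (N (N (L 12151)
 (L 1781))
 (L 9599)))))
 (N (N (N (N (N (L 11889)
 (L 10366))
 (N (L 7740)
 (L 13414)))
 (N (N (L 13595)
 (L 4196))
 (N (L 13246)
 (L 4034))))
 (N (N (N (L 14171)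
 (L 9324))
 (N (L 3595)
 (L 1571)))
 (N (N (L 8898)
 (L 8654))
 (L 7505))))
 (N (N (N (N (L 9756)
 (L 11694))
 (N (L 1692)
 (L 3571)))
 (N (N (L 8195)
 (L 7601))
 (N (L 13636)
 (L 1010))))
 (N (N (N (L 3773)
 (L 8856))
 (N (L 9344)
 (L 12479)))
 (N (N (L 3425)
 (L 15399))
 (L 11026)))))))
 (N (N (N (N (N (N (N (L 8778)
 (L 12809))
 (N (L 3738)
 (L 7852)))
 (N (N (L 11714)
 (L 13439))
 (N (L 9750)
 (L 1541))))
 (N (N (N (L 7857)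
 (L 2465))
 (N (L 10773)
 (L 7259)))
 (N (N (L 873)
 (L 9388))
 (L 7057))))
 (N (N (N (N (L 11194)
 (L 13666))
 (N (L 10375)
 (L 4393)))
 (N (N (L 7379)
 (L 2656))
 (N (L 9049)
 (L 10415))))
 (N (N (N (L 7655)
 (L 1014))
 (N (L 1517)
 (L 13227)))
 (N (N (L 9619)
 (L 5363))
 (L 5407)))))
 (N (N (N (N (N (L 7532)
 (L 7805))
 (N (L 2516)
 (L 14747)))
 (N (N (L 9541)
 (L 8476))
 (N (L 929)
 (L 4331))))
 (N (N (N (L 12357)
 (L 8043))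
 (N (L 10754)
 (L 8098)))
 (N (N (L 15221)
 (L 15150))
 (L 819))))
 (N (N (N (N (L 348)
 (L 1358))
 (N (L 11734)
 (L 9162)))
 (N (N (L 5083)
 (L 5572))
 (N (L 15166)
 (L 295))))
 (N (N (N (L 6977)
 (L 2776))
 (N (L 545)
 (L 13352)))
 (N (N (L 5803)
 (L 14926))
 (L 4160))))))
 (N (N (N (N (N (N (L 6606)
 (L 12534))
 (N (L 13652)
 (L 12253)))
 (N (N (L 924)
 (L 2527))
 (N (L 9939)
 (L 1371))))
 (N (N (N (L 13684)
 (L 1134))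
 (N (L 2460)
 (L 10840)))
 (N (N (L 6224)
 (L 4068))
 (L 14268))))
 (N (N (N (N (L 2232)
 (L 11144))
 (N (L 13532)
 (L 10392)))
 (N (N (L 6174)
 (L 12434))
 (N (L 7960)
 (L 4045))))
 (N (N (N (L 3300)
 (L 14450))
 (N (L 12811)
 (L 12993)))
 (N (N (L 8481)
 (L 226))
 (L 5148)))))
 (N (N (N (N (N (L 12666)
 (L 3213))
 (N (L 4527)
 (L 14564)))
 (N (N (L 7406)
 (L 4023))
 (N (L 8955)
 (L 9921))))
 (N (N (N (L 6475)
 (L 6561))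
 (N (L 12691)
 (L 1340)))
 (N (N (L 12319)
 (L 13448))
 (L 2779))))
 (N (N (N (N (L 2586)
 (L 3707))
 (N (L 1195)
 (L 810)))
 (N (N (L 5460)
 (L 13862))
 (N (L 7570)
 (L 15250))))
 (N (N (N (L 3806)
 (L 10140))
 (N (L 3455)
 (L 8535)))
 (N (N (L 7492)
 (L 12036))
 (L 2885))))))))))
 (N (N (N (N (N (N (N (N (N (N (L 5627)
 (L 13003))
 (N (L 5503)
 (L 981)))
 (N (N (L 13402)
 (L 1816))
 (N (L 13920)
 (L 13914))))
 (N (N (N (L 1746)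
 (L 9522))
 (N (L 11748)
 (L 6839)))
 (N (N (L 13181)
 (L 5176))
 (N (L 6617)
 (L 2882)))))
 (N (N (N (N (L 13976)
 (L 3265))
 (N (L 5352)
 (L 6279)))
 (N (N (L 10548)
 (L 3554))
 (N (L 2006)
 (L 12394))))
 (N (N (N (L 6013)
 (L 11589))
 (N (L 4043)
 (L 8986)))
 (N (N (L 11973)
 (L 7156))
 (L 8007)))))
 (N (N (N (N (N (L 9056)
 (L 465))
 (N (L 8485)
 (L 14691)))
 (N (N (L 10660)
 (L 11506))
 (N (L 7506)
 (L 14580))))
 (N (N (N (L 2880)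
 (L 2484))
 (N (L 13973)
 (L 10274)))
 (N (N (L 4263)
 (L 5824))
 (L 11408))))
 (N (N (N (N (L 5036)
 (L 12032))
 (N (L 9432)
 (L 14431)))
 (N (N (L 1680)
 (L 5605))
 (N (L 8543)
 (L 3816))))
 (N (N (N (L 3826)
 (L 10769))
 (N (L 6947)
 (L 5614)))
 (N (N (L 708)
 (L 12155))
 (L 14444))))))
 (N (N (N (N (N (N (L 10585)
 (L 12450))
 (N (L 7725)
 (L 11064)))
 (N (N (L 2982)
 (L 14231))
 (N (L 10880)
 (L 3988))))
 (N (N (N (L 2981)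
 (L 6524))
 (N (L 7007)
 (L 14878)))
 (N (N (L 10747)
 (L 8051))
 (L 12277))))
 (N (N (N (N (L 7302)
 (L 6286))
 (N (L 13000)
 (L 6020)))
 (N (N (L 2513)
 (L 9569))
 (N (L 8470)
 (L 3642))))
 (N (N (N (L 15078)
 (L 344))
 (N (L 2576)
 (L 10564)))
 (N (N (L 14863)
 (L 11742))
 (L 5523)))))
 (N (N (N (N (N (L 11313)
 (L 430))
 (N (L 3531)
 (L 13838)))
 (N (N (L 5050)
 (L 8279))
 (N (L 770)
 (L 13887))))
 (N (N (N (L 12822)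
 (L 3044))
 (N (L 13128)
 (L 14861)))
 (N (N (L 7373)
 (L 62))
 (L 12018))))
 (N (N (N (N (L 5055)
 (L 9545))
 (N (L 1045)
 (L 101)))
 (N (N (L 6927)
 (L 1271))
 (N (L 75)
 (L 154))))
 (N (N (N (L 9741)
 (L 5272))
 (N (L 7675)
 (L 14002)))
 (N (N (L 11237)
 (L 8873))
 (L 14041)))))))
 (N (N (N (N (N (N (N (L 10748)
 (L 5169))
 (N (L 17)
 (L 579)))
 (N (N (L 650)
 (L 11356))
 (N (L 3769)
 (L 11464))))
 (N (N (N (L 259)
 (L 9549))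
 (N (L 12899)
 (L 4678)))
 (N (N (L 4759)
 (L 5512))
 (L 621))))
 (N (N (N (N (L 13464)
 (L 2339))
 (N (L 14686)
 (L 11265)))
 (N (N (L 2874)
 (L 2386))
 (N (L 2864)
 (L 4867))))
 (N (N (N (L 2235)
 (L 862))
 (N (L 14531)
 (L 4541)))
 (N (N (L 1177)
 (L 5023))
 (L 5454)))))
 (N (N (N (N (N (L 1107)
 (L 13283))
 (N (L 5004)
 (L 1265)))
 (N (N (L 2642)
 (L 333))
 (N (L 3414)
 (L 3068))))
 (N (N (N (L 6208)
 (L 8259))
 (N (L 6574)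
 (L 10685)))
 (N (N (L 5113)
 (L 11902))
 (L 9178))))
 (N (N (N (N (L 11861)
 (L 14544))
 (N (L 2454)
 (L 13237)))
 (N (N (L 2940)
 (L 12262))
 (N (L 6530)
 (L 4814))))
 (N (N (N (L 6539)
 (L 2364))
 (N (L 239)
 (L 8599)))
 (N (N (L 3250)
 (L 14696))
 (L 13085))))))
 (N (N (N (N (N (N (L 14099)
 (L 3303))
 (N (L 12736)
 (L 6565)))
 (N (N (L 1407)
 (L 8552))
 (N (L 13584)
 (L 10907))))
 (N (N (N (L 5173)
 (L 2633))
 (N (L 3656)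
 (L 7768)))
 (N (N (L 12187)
 (L 8763))
 (L 7026))))
 (N (N (N (N (L 13793)
 (L 11569))
 (N (L 2917)
 (L 3343)))
 (N (N (L 7369)
 (L 3063))
 (N (L 10246)
 (L 6709))))
 (N (N (N (L 2899)
 (L 3448))
 (N (L 2468)
 (L 12746)))
 (N (N (L 8443)
 (L 2808))
 (L 9882)))))
 (N (N (N (N (N (L 8974)
 (L 12850))
 (N (L 3432)
 (L 5952)))
 (N (N (L 4126)
 (L 9906))
 (N (L 9611)
 (L 863))))
 (N (N (N (L 8435)
 (L 8180))
 (N (L 3060)
 (L 6264)))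
 (N (N (L 1758)
 (L 4978))
 (L 7925))))
 (N (N (N (N (L 1554)
 (L 7076))
 (N (L 5710)
 (L 843)))
 (N (N (L 9981)
 (L 421))
 (N (L 15041)
 (L 1666))))
 (N (N (N (L 9791)
 (L 15386))
 (N (L 6697)
 (L 11697)))
 (N (N (L 14852)
 (L 7231))
 (L 7581))))))))
 (N (N (N (N (N (N (N (N (L 1389)
 (L 9919))
 (N (L 5804)
 (L 13172)))
 (N (N (L 797)
 (L 8705))
 (N (L 8240)
 (L 7923))))
 (N (N (N (L 6047)
 (L 4238))
 (N (L 13015)
 (L 3084)))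
 (N (N (L 5146)
 (L 13909))
 (L 10241))))
 (N (N (N (N (L 8064)
 (L 10809))
 (N (L 91)
 (L 8455)))
 (N (N (L 368)
 (L 12107))
 (N (L 10646)
 (L 13599))))
 (N (N (N (L 6605)
 (L 7338))
 (N (L 13302)
 (L 5717)))
 (N (N (L 9534)
 (L 11638))
 (L 6939)))))
 (N (N (N (N (N (L 10397)
 (L 4547))
 (N (L 11833)
 (L 11447)))
 (N (N (L 1071)
 (L 1973))
 (N (L 14823)
 (L 12835))))
 (N (N (N (L 5135)
 (L 1206))
 (N (L 2357)
 (L 12080)))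
 (N (N (L 13358)
 (L 14640))
 (L 3598))))
 (N (N (N (N (L 4320)
 (L 11180))
 (N (L 3266)
 (L 87)))
 (N (N (L 1927)
 (L 6540))
 (N (L 11216)
 (L 12610))))
 (N (N (N (L 7003)
 (L 6118))
 (N (L 10861)
 (L 8811)))
 (N (N (L 5354)
 (L 8741))
 (L 13600))))))
 (N (N (N (N (N (N (L 1211)
 (L 13254))
 (N (L 9144)
 (L 3635)))
 (N (N (L 12204)
 (L 830))
 (N (L 3275)
 (L 3791))))
 (N (N (N (L 520)
 (L 12914))
 (N (L 1352)
 (L 3618)))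
 (N (N (L 5095)
 (L 12308))
 (L 2369))))
 (N (N (N (N (L 9149)
 (L 13514))
 (N (L 1979)
 (L 6497)))
 (N (N (L 8353)
 (L 1505))
 (N (L 6674)
 (L 13546))))
 (N (N (N (L 9301)
 (L 11025))
 (N (L 9147)
 (L 8414)))
 (N (N (L 11023)
 (L 7206))
 (L 6469)))))
 (N (N (N (N (N (L 1908)
 (L 11781))
 (N (L 3526)
 (L 10744)))
 (N (N (L 9725)
 (L 15273))
 (N (L 3781)
 (L 12492))))
 (N (N (N (L 12730)
 (L 2626))
 (N (L 11371)
 (L 2851)))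
 (N (N (L 2097)
 (L 11698))
 (L 6007))))
 (N (N (N (N (L 5163)
 (L 1606))
 (N (L 9075)
 (L 8956)))
 (N (N (L 7256)
 (L 1173))
 (N (L 14103)
 (L 7820))))
 (N (N (N (L 14875)
 (L 8070))
 (N (L 13164)
 (L 6801)))
 (N (N (L 5539)
 (L 10084))
 (L 1375)))))))
 (N (N (N (N (N (N (N (L 7105)
 (L 8083))
 (N (L 2916)
 (L 13903)))
 (N (N (L 14395)
 (L 11975))
 (N (L 3741)
 (L 3420))))
 (N (N (N (L 5880)
 (L 12293))
 (N (L 7314)
 (L 14841)))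
 (N (N (L 6046)
 (L 1938))
 (L 14184))))
 (N (N (N (N (L 257)
 (L 5918))
 (N (L 11530)
 (L 13063)))
 (N (N (L 11873)
 (L 11257))
 (N (L 13399)
 (L 4543))))
 (N (N (N (L 13998)
 (L 9908))
 (N (L 5452)
 (L 1510)))
 (N (N (L 1803)
 (L 12117))
 (L 13579)))))
 (N (N (N (N (N (L 10466)
 (L 9602))
 (N (L 12274)
 (L 15212)))
 (N (N (L 6283)
 (L 6016))
 (N (L 14469)
 (L 7418))))
 (N (N (N (L 9199)
 (L 1366))
 (N (L 7173)
 (L 2186)))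
 (N (N (L 6813)
 (L 10839))
 (L 7943))))
 (N (N (N (N (L 1565)
 (L 5953))
 (N (L 11037)
 (L 411)))
 (N (N (L 10496)
 (L 8619))
 (N (L 8273)
 (L 15316))))
 (N (N (N (L 10437)
 (L 9486))
 (N (L 4948)
 (L 9529)))
 (N (N (L 14055)
 (L 10401))
 (L 1072))))))
 (N (N (N (N (N (N (L 451)
 (L 14804))
 (N (L 13882)
 (L 5325)))
 (N (N (L 6073)
 (L 6787))
 (N (L 12954)
 (L 657))))
 (N (N (N (L 1851)
 (L 12849))
 (N (L 12298)
 (L 5223)))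
 (N (N (L 14506)
 (L 9396))
 (L 412))))
 (N (N (N (N (L 663)
 (L 4132))
 (N (L 4852)
 (L 2906)))
 (N (N (L 12422)
 (L 3858))
 (N (L 11412)
 (L 6032))))
 (N (N (N (L 11611)
 (L 319))
 (N (L 8984)
 (L 7508)))
 (N (N (L 9153)
 (L 3246))
 (L 5097)))))
 (N (N (N (N (N (L 2709)
 (L 12398))
 (N (L 12670)
 (L 10859)))
 (N (N (L 5030)
 (L 5101))
 (N (L 913)
 (L 867))))
 (N (N (N (L 8970)
 (L 1726))
 (N (L 6069)
 (L 14338)))
 (N (N (L 15091)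
 (L 10042))
 (L 2519))))
 (N (N (N (N (L 7300)
 (L 14048))
 (N (L 3903)
 (L 7954)))
 (N (N (L 5628)
 (L 9259))
 (N (L 11575)
 (L 13161))))
 (N (N (N (L 5798)
 (L 11364))
 (N (L 15140)
 (L 2155)))
 (N (N (L 13371)
 (L 13711))
 (L 4016)))))))))
 (N (N (N (N (N (N (N (N (N (L 7999)
 (L 4943))
 (N (L 3029)
 (L 15204)))
 (N (N (L 4769)
 (L 11545))
 (N (L 7245)
 (L 494))))
 (N (N (N (L 14649)
 (L 7425))
 (N (L 14437)
 (L 11429)))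
 (N (N (L 578)
 (L 8429))
 (N (L 7892)
 (L 15085)))))
 (N (N (N (N (L 2201)
 (L 3244))
 (N (L 4361)
 (L 12270)))
 (N (N (L 7715)
 (L 1122))
 (N (L 13898)
 (L 12781))))
 (N (N (N (L 467)
 (L 14068))
 (N (L 8887)
 (L 1397)))
 (N (N (L 14767)
 (L 4966))
 (L 10276)))))
 (N (N (N (N (N (L 4738)
 (L 7903))
 (N (L 7195)
 (L 9453)))
 (N (N (L 13781)
 (L 14999))
 (N (L 2682)
 (L 10065))))
 (N (N (N (L 9715)
 (L 732))
 (N (L 8193)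
 (L 11493)))
 (N (N (L 397)
 (L 10505))
 (L 3692))))
 (N (N (N (N (L 14776)
 (L 13363))
 (N (L 7517)
 (L 2838)))
 (N (N (L 8630)
 (L 966))
 (N (L 9335)
 (L 6966))))
 (N (N (N (L 5281)
 (L 9942))
 (N (L 5188)
 (L 2004)))
 (N (N (L 369)
 (L 9794))
 (L 14209))))))
 (N (N (N (N (N (N (L 7540)
 (L 7145))
 (N (L 7021)
 (L 4266)))
 (N (N (L 9117)
 (L 12893))
 (N (L 2711)
 (L 4990))))
 (N (N (N (L 13731)
 (L 10516))
 (N (L 6664)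
 (L 9773)))
 (N (N (L 13902)
 (L 12455))
 (L 5051))))
 (N (N (N (N (L 6299)
 (L 14313))
 (N (L 1066)
 (L 2407)))
 (N (N (L 1881)
 (L 11747))
 (N (L 1999)
 (L 11928))))
 (N (N (N (L 12010)
 (L 14156))
 (N (L 15179)
 (L 1469)))
 (N (N (L 12244)
 (L 6030))
 (L 7488)))))
 (N (N (N (N (N (L 2924)
 (L 12981))
 (N (L 7701)
 (L 7663)))
 (N (N (L 1242)
 (L 3134))
 (N (L 4647)
 (L 4049))))
 (N (N (N (L 9544)
 (L 12805))
 (N (L 13749)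
 (L 99)))
 (N (N (L 53)
 (L 15039))
 (L 6429))))
 (N (N (N (N (L 11596)
 (L 13759))
 (N (L 9226)
 (L 7854)))
 (N (N (L 6920)
 (L 11118))
 (N (L 7142)
 (L 13152))))
 (N (N (N (L 13910)
 (L 12961))
 (N (L 5513)
 (L 1683)))
 (N (N (L 4613)
 (L 6087))
 (L 6680)))))))
 (N (N (N (N (N (N (N (L 6453)
 (L 5563))
 (N (L 15141)
 (L 15297)))
 (N (N (L 2131)
 (L 7271))
 (N (L 2556)
 (L 6305))))
 (N (N (N (L 8713)
 (L 10096))
 (N (L 4539)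
 (L 7448)))
 (N (N (L 12420)
 (L 7984))
 (L 10223))))
 (N (N (N (N (L 800)
 (L 984))
 (N (L 4729)
 (L 11169)))
 (N (N (L 2523)
 (L 3657))
 (N (L 14244)
 (L 612))))
 (N (N (N (L 2061)
 (L 4038))
 (N (L 6665)
 (L 14961)))
 (N (N (L 3169)
 (L 12257))
 (L 9456)))))
 (N (N (N (N (N (L 14684)
 (L 11087))
 (N (L 12724)
 (L 5654)))
 (N (N (L 1958)
 (L 7935))
 (N (L 12000)
 (L 149))))
 (N (N (N (L 8172)
 (L 2957))
 (N (L 6121)
 (L 482)))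
 (N (N (L 3854)
 (L 1123))
 (L 1362))))
 (N (N (N (N (L 5139)
 (L 10635))
 (N (L 10885)
 (L 11436)))
 (N (N (L 3396)
 (L 6796))
 (N (L 13891)
 (L 3355))))
 (N (N (N (L 5279)
 (L 151))
 (N (L 1945)
 (L 10341)))
 (N (N (L 3855)
 (L 4077))
 (L 9992))))))
 (N (N (N (N (N (N (L 5772)
 (L 14814))
 (N (L 15105)
 (L 13678)))
 (N (N (L 35)
 (L 2458))
 (N (L 12541)
 (L 11352))))
 (N (N (N (L 6413)
 (L 3297))
 (N (L 950)
 (L 1474)))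
 (N (N (L 8383)
 (L 7201))
 (L 1490))))
 (N (N (N (N (L 3182)
 (L 11210))
 (N (L 13193)
 (L 11430)))
 (N (N (L 5844)
 (L 5955))
 (N (L 4655)
 (L 1718))))
 (N (N (N (L 8742)
 (L 11644))
 (N (L 12564)
 (L 1596)))
 (N (N (L 12817)
 (L 3726))
 (L 10637)))))
 (N (N (N (N (N (L 8653)
 (L 1736))
 (N (L 1000)
 (L 14634)))
 (N (N (L 1156)
 (L 5807))
 (N (L 3524)
 (L 638))))
 (N (N (N (L 7177)
 (L 14162))
 (N (L 11887)
 (L 2145)))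
 (N (N (L 13975)
 (L 10709))
 (L 3236))))
 (N (N (N (N (L 3268)
 (L 10059))
 (N (L 1800)
 (L 1427)))
 (N (N (L 9185)
 (L 2300))
 (N (L 8285)
 (L 5409))))
 (N (N (N (L 1634)
 (L 9483))
 (N (L 6036)
 (L 11780)))
 (N (N (L 12379)
 (L 3962))
 (L 7986))))))))
 (N (N (N (N (N (N (N (N (L 7004)
 (L 6914))
 (N (L 12840)
 (L 10242)))
 (N (N (L 5919)
 (L 12667))
 (N (L 4564)
 (L 9071))))
 (N (N (N (L 7129)
 (L 14174))
 (N (L 6255)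
 (L 13117)))
 (N (N (L 6006)
 (L 10539))
 (L 12086))))
 (N (N (N (N (L 5656)
 (L 8078))
 (N (L 3149)
 (L 13169)))
 (N (N (L 3905)
 (L 1917))
 (N (L 12170)
 (L 7016))))
 (N (N (N (L 8112)
 (L 2766))
 (N (L 7870)
 (L 4329)))
 (N (N (L 15198)
 (L 1))
 (L 10603)))))
 (N (N (N (N (N (L 4257)
 (L 9391))
 (N (L 14556)
 (L 6014)))
 (N (N (L 1770)
 (L 11917))
 (N (L 5613)
 (L 6579))))
 (N (N (N (L 4549)
 (L 4956))
 (N (L 6217)
 (L 11937)))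
 (N (N (L 1591)
 (L 8521))
 (L 13709))))
 (N (N (N (N (L 3862)
 (L 5664))
 (N (L 3070)
 (L 2102)))
 (N (N (L 6905)
 (L 13336))
 (N (L 11827)
 (L 2829))))
 (N (N (N (L 6941)
 (L 6370))
 (N (L 992)
 (L 2697)))
 (N (N (L 7428)
 (L 7415))
 (L 3646))))))
 (N (N (N (N (N (N (L 4391)
 (L 10759))
 (N (L 4677)
 (L 9015)))
 (N (N (L 2624)
 (L 10874))
 (N (L 12203)
 (L 720))))
 (N (N (N (L 10467)
 (L 6711))
 (N (L 9493)
 (L 13855)))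
 (N (N (L 5336)
 (L 7237))
 (L 5855))))
 (N (N (N (N (L 9341)
 (L 5002))
 (N (L 14191)
 (L 5202)))
 (N (N (L 10361)
 (L 1179))
 (N (L 7329)
 (L 4319))))
 (N (N (N (L 12416)
 (L 37))
 (N (L 12421)
 (L 901)))
 (N (N (L 5038)
 (L 4353))
 (L 5915)))))
 (N (N (N (N (N (L 8333)
 (L 2206))
 (N (L 10805)
 (L 3412)))
 (N (N (L 13591)
 (L 11523))
 (N (L 12503)
 (L 13144))))
 (N (N (N (L 4551)
 (L 14326))
 (N (L 6714)
 (L 5881)))
 (N (N (L 68)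
 (L 15108))
 (L 1376))))
 (N (N (N (N (L 1867)
 (L 10601))
 (N (L 13064)
 (L 13316)))
 (N (N (L 12501)
 (L 6919))
 (N (L 5861)
 (L 10488))))
 (N (N (N (L 4499)
 (L 6392))
 (N (L 7132)
 (L 3973)))
 (N (N (L 15326)
 (L 11906))
 (L 1898)))))))
 (N (N (N (N (N (N (N (L 6402)
 (L 7621))
 (N (L 4824)
 (L 3530)))
 (N (N (L 8675)
 (L 5621))
 (N (L 14630)
 (L 3183))))
 (N (N (N (L 6865)
 (L 14811))
 (N (L 2890)
 (L 9222)))
 (N (N (L 11686)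
 (L 14154))
 (L 2307))))
 (N (N (N (N (L 9031)
 (L 3956))
 (N (L 635)
 (L 3055)))
 (N (N (L 8923)
 (L 15109))
 (N (L 14623)
 (L 8845))))
 (N (N (N (L 13318)
 (L 7095))
 (N (L 6622)
 (L 6751)))
 (N (N (L 633)
 (L 10202))
 (L 2483)))))
 (N (N (N (N (N (L 4969)
 (L 3568))
 (N (L 9748)
 (L 9628)))
 (N (N (L 14869)
 (L 4040))
 (N (L 14311)
 (L 3389))))
 (N (N (N (L 6136)
 (L 13574))
 (N (L 14559)
 (L 4368)))
 (N (N (L 60)
 (L 8343))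
 (L 13426))))
 (N (N (N (N (L 12248)
 (L 13349))
 (N (L 1307)
 (L 9504)))
 (N (N (L 12779)
 (L 15154))
 (N (L 2609)
 (L 3459))))
 (N (N (N (L 14331)
 (L 4911))
 (N (L 4063)
 (L 6358)))
 (N (N (L 12399)
 (L 7934))
 (L 6304))))))
 (N (N (N (N (N (N (L 7879)
 (L 12249))
 (N (L 13897)
 (L 8882)))
 (N (N (L 14552)
 (L 14312))
 (N (L 4376)
 (L 8714))))
 (N (N (N (L 7225)
 (L 8903))
 (N (L 4276)
 (L 1270)))
 (N (N (L 10299)
 (L 3024))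
 (L 8442))))
 (N (N (N (N (L 14465)
 (L 1547))
 (N (L 6832)
 (L 4902)))
 (N (N (L 706)
 (L 5418))
 (N (L 14560)
 (L 8200))))
 (N (N (N (L 10900)
 (L 14482))
 (N (L 6744)
 (L 1285)))
 (N (N (L 969)
 (L 4680))
 (L 13204)))))
 (N (N (N (N (N (L 8631)
 (L 8120))
 (N (L 4224)
 (L 10291)))
 (N (N (L 2646)
 (L 7431))
 (N (L 3496)
 (L 12975))))
 (N (N (N (L 13295)
 (L 6521))
 (N (L 1506)
 (L 9183)))
 (N (N (L 10955)
 (L 2360))
 (L 8287))))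
 (N (N (N (N (L 11357)
 (L 7907))
 (N (L 9607)
 (L 4189)))
 (N (N (L 11421)
 (L 3833))
 (N (L 13567)
 (L 7439))))
 (N (N (N (L 11190)
 (L 3626))
 (N (L 3385)
 (L 3398)))
 (N (N (L 1500)
 (L 12289))
 (L 8584))))))))))))
 (N (N (N (N (N (N (N (N (N (N (N (N (L 8591)
 (L 7748))
 (N (L 11618)
 (L 12284)))
 (N (N (L 8996)
 (L 1135))
 (N (L 3304)
 (L 6423))))
 (N (N (N (L 5232)
 (L 2963))
 (N (L 12945)
 (L 14920)))
 (N (N (L 3214)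
 (L 12154))
 (N (L 3504)
 (L 14419)))))
 (N (N (N (N (L 8744)
 (L 13843))
 (N (L 1647)
 (L 12889)))
 (N (N (L 6707)
 (L 12014))
 (N (L 14522)
 (L 14214))))
 (N (N (N (L 3243)
 (L 11890))
 (N (L 8197)
 (L 1185)))
 (N (N (L 3505)
 (L 5713))
 (L 6630)))))
 (N (N (N (N (N (L 4109)
 (L 11272))
 (N (L 14838)
 (L 3492)))
 (N (N (L 9271)
 (L 9582))
 (N (L 7244)
 (L 5685))))
 (N (N (N (L 2108)
 (L 1327))
 (N (L 10632)
 (L 6854)))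
 (N (N (L 5755)
 (L 12131))
 (L 12749))))
 (N (N (N (N (L 12709)
 (L 9781))
 (N (L 8074)
 (L 715)))
 (N (N (L 3365)
 (L 12475))
 (N (L 2929)
 (L 14693))))
 (N (N (N (L 9218)
 (L 5681))
 (N (L 12336)
 (L 9958)))
 (N (N (L 5775)
 (L 5436))
 (L 224))))))
 (N (N (N (N (N (N (L 8935)
 (L 14896))
 (N (L 9831)
 (L 7915)))
 (N (N (L 13951)
 (L 3475))
 (N (L 7063)
 (L 9045))))
 (N (N (N (L 12427)
 (L 13341))
 (N (L 14575)
 (L 4454)))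
 (N (N (L 432)
 (L 12776))
 (L 1346))))
 (N (N (N (N (L 4133)
 (L 9030))
 (N (L 1254)
 (L 10419)))
 (N (N (L 14692)
 (L 897))
 (N (L 3836)
 (L 1698))))
 (N (N (N (L 1341)
 (L 1960))
 (N (L 14472)
 (L 13616)))
 (N (N (L 13291)
 (L 12001))
 (L 14773)))))
 (N (N (N (N (N (L 10584)
 (L 11915))
 (N (L 3193)
 (L 3491)))
 (N (N (L 12022)
 (L 3180))
 (N (L 96)
 (L 10896))))
 (N (N (N (L 5864)
 (L 10173))
 (N (L 9401)
 (L 8309)))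
 (N (N (L 9796)
 (L 12021))
 (L 8009))))
 (N (N (N (N (L 5872)
 (L 565))
 (N (L 9026)
 (L 4042)))
 (N (N (L 3966)
 (L 777))
 (N (L 4315)
 (L 15183))))
 (N (N (N (L 6750)
 (L 9552))
 (N (L 12846)
 (L 15168)))
 (N (N (L 8897)
 (L 8242))
 (L 7956)))))))
 (N (N (N (N (N (N (N (L 380)
 (L 13687))
 (N (L 9067)
 (L 12842)))
 (N (N (L 2653)
 (L 10888))
 (N (L 3164)
 (L 5702))))
 (N (N (N (L 10683)
 (L 4430))
 (N (L 6207)
 (L 4526)))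
 (N (N (L 13351)
 (L 3339))
 (L 4609))))
 (N (N (N (N (L 8614)
 (L 8616))
 (N (L 13693)
 (L 6528)))
 (N (N (L 14282)
 (L 12219))
 (N (L 10231)
 (L 1901))))
 (N (N (N (L 4098)
 (L 4930))
 (N (L 6312)
 (L 5010)))
 (N (N (L 15248)
 (L 6784))
 (L 1525)))))
 (N (N (N (N (N (L 11425)
 (L 6132))
 (N (L 12038)
 (L 1428)))
 (N (N (L 5171)
 (L 15181))
 (N (L 4324)
 (L 669))))
 (N (N (N (L 9821)
 (L 15176))
 (N (L 14157)
 (L 6335)))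
 (N (N (L 9177)
 (L 9440))
 (L 13811))))
 (N (N (N (N (L 14720)
 (L 12879))
 (N (L 15320)
 (L 370)))
 (N (N (L 1627)
 (L 2790))
 (N (L 8642)
 (L 575))))
 (N (N (N (L 4784)
 (L 1872))
 (N (L 14549)
 (L 12547)))
 (N (N (L 14673)
 (L 1075))
 (L 3699))))))
 (N (N (N (N (N (N (L 747)
 (L 10162))
 (N (L 5784)
 (L 10670)))
 (N (N (L 3710)
 (L 912))
 (N (L 10696)
 (L 14001))))
 (N (N (N (L 13497)
 (L 11853))
 (N (L 7726)
 (L 1457)))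
 (N (N (L 14025)
 (L 13109))
 (L 10589))))
 (N (N (N (N (L 1734)
 (L 9339))
 (N (L 8676)
 (L 5659)))
 (N (N (L 10464)
 (L 345))
 (N (L 5515)
 (L 3122))))
 (N (N (N (L 4615)
 (L 12527))
 (N (L 796)
 (L 5341)))
 (N (N (L 9825)
 (L 13896))
 (L 5426)))))
 (N (N (N (N (N (L 9102)
 (L 12231))
 (N (L 2755)
 (L 12650)))
 (N (N (L 8467)
 (L 2093))
 (N (L 539)
 (L 11979))))
 (N (N (N (L 14044)
 (L 11148))
 (N (L 1774)
 (L 11225)))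
 (N (N (L 13373)
 (L 11078))
 (L 7))))
 (N (N (N (N (L 14927)
 (L 11376))
 (N (L 13559)
 (L 10151)))
 (N (N (L 340)
 (L 12605))
 (N (L 15006)
 (L 3895))))
 (N (N (N (L 4259)
 (L 909))
 (N (L 7247)
 (L 5373)))
 (N (N (L 10394)
 (L 332))
 (L 6627))))))))
 (N (N (N (N (N (N (N (N (L 3101)
 (L 7594))
 (N (L 1640)
 (L 7487)))
 (N (N (L 3670)
 (L 2713))
 (N (L 8263)
 (L 7297))))
 (N (N (N (L 2112)
 (L 3752))
 (N (L 5172)
 (L 2922)))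
 (N (N (L 7469)
 (L 4981))
 (N (L 7325)
 (L 4535)))))
 (N (N (N (N (L 15332)
 (L 5368))
 (N (L 5008)
 (L 15112)))
 (N (N (L 8827)
 (L 5259))
 (N (L 6862)
 (L 13219))))
 (N (N (N (L 7498)
 (L 11305))
 (N (L 14088)
 (L 7403)))
 (N (N (L 2103)
 (L 13460))
 (L 13884)))))
 (N (N (N (N (N (L 13362)
 (L 5027))
 (N (L 8964)
 (L 1652)))
 (N (N (L 12780)
 (L 12425))
 (N (L 1556)
 (L 11645))))
 (N (N (N (L 2247)
 (L 5389))
 (N (L 4137)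
 (L 13278)))
 (N (N (L 11891)
 (L 4312))
 (L 14943))))
 (N (N (N (N (L 5650)
 (L 11601))
 (N (L 2002)
 (L 3417)))
 (N (N (L 6442)
 (L 6375))
 (N (L 12823)
 (L 13617))))
 (N (N (N (L 4764)
 (L 12649))
 (N (L 13570)
 (L 5192)))
 (N (N (L 1463)
 (L 12180))
 (L 3130))))))
 (N (N (N (N (N (N (L 14373)
 (L 6886))
 (N (L 2640)
 (L 9181)))
 (N (N (L 104)
 (L 7168))
 (N (L 7388)
 (L 3797))))
 (N (N (N (L 9761)
 (L 3197))
 (N (L 11539)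
 (L 12037)))
 (N (N (L 1551)
 (L 840))
 (L 7626))))
 (N (N (N (N (L 5851)
 (L 6356))
 (N (L 3736)
 (L 8798)))
 (N (N (L 14587)
 (L 13009))
 (N (L 6401)
 (L 7385))))
 (N (N (N (L 8746)
 (L 7671))
 (N (L 10077)
 (L 13630)))
 (N (N (L 9931)
 (L 3787))
 (L 15218)))))
 (N (N (N (N (N (L 13556)
 (L 9772))
 (N (L 7445)
 (L 8881)))
 (N (N (L 6558)
 (L 6735))
 (N (L 14715)
 (L 8796))))
 (N (N (N (L 2967)
 (L 9361))
 (N (L 7450)
 (L 10322)))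
 (N (N (L 14267)
 (L 3599))
 (L 2970))))
 (N (N (N (N (L 5384)
 (L 3025))
 (N (L 11183)
 (L 3630)))
 (N (N (L 2622)
 (L 561))
 (N (L 13539)
 (L 12296))))
 (N (N (N (L 14069)
 (L 4946))
 (N (L 15110)
 (L 7094)))
 (N (N (L 789)
 (L 11675))
 (L 13186)))))))
 (N (N (N (N (N (N (N (L 5812)
 (L 14194))
 (N (L 11286)
 (L 13485)))
 (N (N (L 12696)
 (L 1360))
 (N (L 11049)
 (L 10289))))
 (N (N (N (L 816)
 (L 10365))
 (N (L 2196)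
 (L 5420)))
 (N (N (L 11275)
 (L 14129))
 (L 11228))))
 (N (N (N (N (L 2122)
 (L 3800))
 (N (L 13168)
 (L 234)))
 (N (N (L 570)
 (L 1951))
 (N (L 7574)
 (L 4234))))
 (N (N (N (L 4336)
 (L 9474))
 (N (L 2431)
 (L 5867)))
 (N (N (L 14501)
 (L 11443))
 (L 7305)))))
 (N (N (N (N (N (L 2727)
 (L 5862))
 (N (L 3114)
 (L 12481)))
 (N (N (L 7032)
 (L 9021))
 (N (L 2250)
 (L 9680))))
 (N (N (N (L 2871)
 (L 7443))
 (N (L 9824)
 (L 14440)))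
 (N (N (L 9853)
 (L 11659))
 (L 3206))))
 (N (N (N (N (L 10734)
 (L 11509))
 (N (L 1703)
 (L 12172)))
 (N (N (L 13907)
 (L 14143))
 (N (L 10850)
 (L 6250))))
 (N (N (N (L 8199)
 (L 15385))
 (N (L 12860)
 (L 13886)))
 (N (N (L 11080)
 (L 10708))
 (L 8680))))))
 (N (N (N (N (N (N (L 13260)
 (L 3870))
 (N (L 9247)
 (L 9742)))
 (N (N (L 10985)
 (L 11524))
 (N (L 1131)
 (L 12387))))
 (N (N (N (L 3795)
 (L 4211))
 (N (L 12953)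
 (L 13185)))
 (N (N (L 14718)
 (L 14707))
 (L 8940))))
 (N (N (N (N (L 7051)
 (L 14247))
 (N (L 14615)
 (L 28)))
 (N (N (L 14314)
 (L 12985))
 (N (L 6185)
 (L 8372))))
 (N (N (N (L 4913)
 (L 5668))
 (N (L 5056)
 (L 1394)))
 (N (N (L 10572)
 (L 5287))
 (L 12751)))))
 (N (N (N (N (N (L 3127)
 (L 9156))
 (N (L 13677)
 (L 7527)))
 (N (N (L 9246)
 (L 188))
 (N (L 5813)
 (L 4807))))
 (N (N (N (L 8080)
 (L 11229))
 (N (L 13221)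
 (L 3051)))
 (N (N (L 8633)
 (L 3745))
 (L 15351))))
 (N (N (N (N (L 1354)
 (L 6768))
 (N (L 4352)
 (L 6723)))
 (N (N (L 8780)
 (L 13961))
 (N (L 9481)
 (L 14941))))
 (N (N (N (L 2672)
 (L 7713))
 (N (L 9605)
 (L 8947)))
 (N (N (L 14380)
 (L 5708))
 (L 9925)))))))))
 (N (N (N (N (N (N (N (N (N (L 7207)
 (L 8235))
 (N (L 253)
 (L 9018)))
 (N (N (L 13984)
 (L 3837))
 (N (L 13480)
 (L 11723))))
 (N (N (N (L 7793)
 (L 9377))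
 (N (L 1403)
 (L 2951)))
 (N (N (L 8963)
 (L 8319))
 (N (L 10858)
 (L 13745)))))
 (N (N (N (N (L 3904)
 (L 11551))
 (N (L 1560)
 (L 8703)))
 (N (N (L 7041)
 (L 5213))
 (N (L 13680)
 (L 15067))))
 (N (N (N (L 6395)
 (L 13770))
 (N (L 13604)
 (L 11307)))
 (N (N (L 3573)
 (L 2090))
 (L 5802)))))
 (N (N (N (N (N (L 8987)
 (L 11013))
 (N (L 14183)
 (L 8218)))
 (N (N (L 7291)
 (L 97))
 (N (L 1095)
 (L 15043))))
 (N (N (N (L 11584)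
 (L 1585))
 (N (L 5381)
 (L 8124)))
 (N (N (L 6425)
 (L 8122))
 (L 734))))
 (N (N (N (N (L 6700)
 (L 11553))
 (N (L 2941)
 (L 923)))
 (N (N (L 12906)
 (L 4574))
 (N (L 11423)
 (L 160))))
 (N (N (N (L 2909)
 (L 10486))
 (N (L 9163)
 (L 6637)))
 (N (N (L 7997)
 (L 9706))
 (L 12836))))))
 (N (N (N (N (N (N (L 6639)
 (L 759))
 (N (L 2331)
 (L 7972)))
 (N (N (L 2594)
 (L 4182))
 (N (L 4202)
 (L 5021))))
 (N (N (N (L 5217)
 (L 2392))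
 (N (L 674)
 (L 1937)))
 (N (N (L 12265)
 (L 10908))
 (L 7957))))
 (N (N (N (N (L 9125)
 (L 13116))
 (N (L 667)
 (L 382)))
 (N (N (L 2751)
 (L 174))
 (N (L 15388)
 (L 921))))
 (N (N (N (L 13562)
 (L 12500))
 (N (L 12563)
 (L 13700)))
 (N (N (L 13218)
 (L 11634))
 (L 5007)))))
 (N (N (N (N (N (L 7875)
 (L 8081))
 (N (L 13803)
 (L 116)))
 (N (N (L 13822)
 (L 13328))
 (N (L 11212)
 (L 5586))))
 (N (N (N (L 10295)
 (L 3008))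
 (N (L 10743)
 (L 14354)))
 (N (N (L 9593)
 (L 3796))
 (L 2223))))
 (N (N (N (N (L 394)
 (L 10277))
 (N (L 6153)
 (L 10335)))
 (N (N (L 4449)
 (L 9926))
 (N (L 435)
 (L 8466))))
 (N (N (N (L 3617)
 (L 11660))
 (N (L 6808)
 (L 501)))
 (N (N (L 5093)
 (L 1720))
 (L 12994)))))))
 (N (N (N (N (N (N (N (L 890)
 (L 10621))
 (N (L 3937)
 (L 14306)))
 (N (N (L 11793)
 (L 11690))
 (N (L 7806)
 (L 4841))))
 (N (N (N (L 9072)
 (L 765))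
 (N (L 14315)
 (L 3225)))
 (N (N (L 546)
 (L 599))
 (L 8162))))
 (N (N (N (N (L 3991)
 (L 8245))
 (N (L 10470)
 (L 12727)))
 (N (N (L 1628)
 (L 9716))
 (N (L 12132)
 (L 5521))))
 (N (N (N (L 11703)
 (L 1875))
 (N (L 7479)
 (L 14468)))
 (N (N (L 8159)
 (L 2735))
 (L 5456)))))
 (N (N (N (N (N (L 3695)
 (L 12435))
 (N (L 11871)
 (L 5412)))
 (N (N (L 190)
 (L 7890))
 (N (L 4415)
 (L 6452))))
 (N (N (N (L 4660)
 (L 4712))
 (N (L 13055)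
 (L 14432)))
 (N (N (L 14152)
 (L 880))
 (L 13530))))
 (N (N (N (N (L 1496)
 (L 11933))
 (N (L 10429)
 (L 12392)))
 (N (N (L 14382)
 (L 8755))
 (N (L 8805)
 (L 2581))))
 (N (N (N (L 8667)
 (L 9933))
 (N (L 4122)
 (L 15310)))
 (N (N (L 11264)
 (L 8220))
 (L 5768))))))
 (N (N (N (N (N (N (L 375)
 (L 5396))
 (N (L 1029)
 (L 11789)))
 (N (N (L 6557)
 (L 2679))
 (N (L 9069)
 (L 11295))))
 (N (N (N (L 11041)
 (L 6609))
 (N (L 9618)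
 (L 11756)))
 (N (N (L 13640)
 (L 9106))
 (L 8801))))
 (N (N (N (N (L 13670)
 (L 972))
 (N (L 2696)
 (L 11453)))
 (N (N (L 13391)
 (L 13300))
 (N (L 5839)
 (L 641))))
 (N (N (N (L 2587)
 (L 1765))
 (N (L 11581)
 (L 11502)))
 (N (N (L 6378)
 (L 2380))
 (L 11744)))))
 (N (N (N (N (N (L 14296)
 (L 4957))
 (N (L 4666)
 (L 1155)))
 (N (N (L 6652)
 (L 470))
 (N (L 4800)
 (L 805))))
 (N (N (N (L 12904)
 (L 8135))
 (N (L 14568)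
 (L 11684)))
 (N (N (L 12329)
 (L 1202))
 (L 5147))))
 (N (N (N (N (L 1918)
 (L 4901))
 (N (L 12508)
 (L 3758)))
 (N (N (L 4061)
 (L 2062))
 (N (L 1865)
 (L 8816))))
 (N (N (N (L 9707)
 (L 952))
 (N (L 8889)
 (L 13703)))
 (N (N (L 5979)
 (L 5889))
 (L 12189))))))))
 (N (N (N (N (N (N (N (N (L 5556)
 (L 10758))
 (N (L 4486)
 (L 4475)))
 (N (N (L 14309)
 (L 12145))
 (N (L 240)
 (L 8293))))
 (N (N (N (L 9331)
 (L 6982))
 (N (L 15330)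
 (L 3105)))
 (N (N (L 13875)
 (L 14011))
 (L 12655))))
 (N (N (N (N (L 440)
 (L 13572))
 (N (L 11731)
 (L 12552)))
 (N (N (L 3223)
 (L 5387))
 (N (L 417)
 (L 1054))))
 (N (N (N (L 11495)
 (L 9705))
 (N (L 9834)
 (L 7289)))
 (N (N (L 7763)
 (L 13790))
 (L 12638)))))
 (N (N (N (N (N (L 11507)
 (L 13832))
 (N (L 11246)
 (L 1830)))
 (N (N (L 3308)
 (L 8323))
 (N (L 1711)
 (L 10634))))
 (N (N (N (L 5726)
 (L 1710))
 (N (L 5404)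
 (L 5943)))
 (N (N (L 12833)
 (L 10501))
 (L 780))))
 (N (N (N (N (L 10761)
 (L 11317))
 (N (L 11250)
 (L 2349)))
 (N (N (L 10314)
 (L 2473))
 (N (L 27)
 (L 7775))))
 (N (N (N (L 504)
 (L 3430))
 (N (L 2039)
 (L 1060)))
 (N (N (L 9676)
 (L 2942))
 (L 424))))))
 (N (N (N (N (N (N (L 13332)
 (L 2625))
 (N (L 13521)
 (L 9263)))
 (N (N (L 11546)
 (L 9519))
 (N (L 15279)
 (L 6248))))
 (N (N (N (L 2997)
 (L 5648))
 (N (L 1372)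
 (L 10479)))
 (N (N (L 1887)
 (L 12707))
 (L 12211))))
 (N (N (N (N (L 10143)
 (L 10983))
 (N (L 2959)
 (L 4372)))
 (N (N (L 7390)
 (L 9518))
 (N (L 14884)
 (L 534))))
 (N (N (N (L 9648)
 (L 12326))
 (N (L 9077)
 (L 12974)))
 (N (N (L 1183)
 (L 2793))
 (L 5606)))))
 (N (N (N (N (N (L 7808)
 (L 13422))
 (N (L 12451)
 (L 13775)))
 (N (N (L 8478)
 (L 1916))
 (N (L 14042)
 (L 9416))))
 (N (N (N (L 9360)
 (L 1910))
 (N (L 9232)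
 (L 1721)))
 (N (N (L 6804)
 (L 11002))
 (L 3809))))
 (N (N (N (N (L 468)
 (L 10184))
 (N (L 4451)
 (L 3849)))
 (N (N (L 5446)
 (L 7217))
 (N (L 5896)
 (L 15148))))
 (N (N (N (L 1058)
 (L 14023))
 (N (L 1639)
 (L 1577)))
 (N (N (L 12702)
 (L 429))
 (L 11755)))))))
 (N (N (N (N (N (N (N (L 2854)
 (L 15336))
 (N (L 15038)
 (L 5582)))
 (N (N (L 14422)
 (L 941))
 (N (L 14904)
 (L 13549))))
 (N (N (N (L 13375)
 (L 11))
 (N (L 9693)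
 (L 11350)))
 (N (N (L 7166)
 (L 6307))
 (L 3301))))
 (N (N (N (N (L 11100)
 (L 12079))
 (N (L 12091)
 (L 9171)))
 (N (N (L 3528)
 (L 675))
 (N (L 14269)
 (L 12216))))
 (N (N (N (L 9521)
 (L 8148))
 (N (L 6903)
 (L 2775)))
 (N (N (L 2546)
 (L 10669))
 (L 12634)))))
 (N (N (N (N (N (L 11337)
 (L 10348))
 (N (L 1818)
 (L 529)))
 (N (N (L 3998)
 (L 6615))
 (N (L 1169)
 (L 5905))))
 (N (N (N (L 5160)
 (L 5403))
 (N (L 4031)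
 (L 6688)))
 (N (N (L 9606)
 (L 13250))
 (L 4890))))
 (N (N (N (N (L 11865)
 (L 10449))
 (N (L 4789)
 (L 12453)))
 (N (N (L 4758)
 (L 11028))
 (N (L 12714)
 (L 9836))))
 (N (N (N (L 2683)
 (L 14779))
 (N (L 70)
 (L 11989)))
 (N (N (L 5495)
 (L 9073))
 (L 12558))))))
 (N (N (N (N (N (N (L 3497)
 (L 11726))
 (N (L 1180)
 (L 7583)))
 (N (N (L 8833)
 (L 14726))
 (N (L 2219)
 (L 4708))))
 (N (N (N (L 5117)
 (L 4897))
 (N (L 8444)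
 (L 2320)))
 (N (N (L 11299)
 (L 6396))
 (L 4872))))
 (N (N (N (N (L 4556)
 (L 13282))
 (N (L 11470)
 (L 14847)))
 (N (N (L 4074)
 (L 10442))
 (N (L 12404)
 (L 14817))))
 (N (N (N (L 3717)
 (L 12165))
 (N (L 8756)
 (L 79)))
 (N (N (L 6100)
 (L 13404))
 (L 14052)))))
 (N (N (N (N (N (L 5487)
 (L 4739))
 (N (L 2050)
 (L 1299)))
 (N (N (L 12360)
 (L 11241))
 (N (L 1119)
 (L 12654))))
 (N (N (N (L 13588)
 (L 8139))
 (N (L 5266)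
 (L 9081)))
 (N (N (L 14163)
 (L 1216))
 (L 9435))))
 (N (N (N (N (L 8238)
 (L 6967))
 (N (L 7328)
 (L 14063)))
 (N (N (L 6777)
 (L 9694))
 (N (L 10283)
 (L 10785))))
 (N (N (N (L 6884)
 (L 14166))
 (N (L 3499)
 (L 7887)))
 (N (N (L 7788)
 (L 11126))
 (L 3916))))))))))
 (N (N (N (N (N (N (N (N (N (N (L 12470)
 (L 4511))
 (N (L 13068)
 (L 14839)))
 (N (N (L 12940)
 (L 2295))
 (N (L 5751)
 (L 10282))))
 (N (N (N (L 14160)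
 (L 3229))
 (N (L 1686)
 (L 6198)))
 (N (N (L 8416)
 (L 144))
 (N (L 13771)
 (L 7863)))))
 (N (N (N (N (L 1076)
 (L 14173))
 (N (L 12457)
 (L 3933)))
 (N (N (L 4183)
 (L 13031))
 (N (L 11806)
 (L 7881))))
 (N (N (N (L 9823)
 (L 13696))
 (N (L 13592)
 (L 3120)))
 (N (N (L 8782)
 (L 7911))
 (L 7791)))))
 (N (N (N (N (N (L 10881)
 (L 3881))
 (N (L 12790)
 (L 15287)))
 (N (N (L 3298)
 (L 2423))
 (N (L 6204)
 (L 1883))))
 (N (N (N (L 15258)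
 (L 59))
 (N (L 13618)
 (L 9801)))
 (N (N (L 12370)
 (L 11997))
 (L 11010))))
 (N (N (N (N (L 10021)
 (L 7557))
 (N (L 4605)
 (L 8529)))
 (N (N (L 7688)
 (L 15251))
 (N (L 248)
 (L 5617))))
 (N (N (N (L 12147)
 (L 768))
 (N (L 6441)
 (L 10764)))
 (N (N (L 8035)
 (L 6815))
 (L 5380))))))
 (N (N (N (N (N (N (L 943)
 (L 14558))
 (N (L 11066)
 (L 3514)))
 (N (N (L 9574)
 (L 8840))
 (N (L 8496)
 (L 8965))))
 (N (N (N (L 6382)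
 (L 8603))
 (N (L 341)
 (L 15238)))
 (N (N (L 109)
 (L 2185))
 (L 14428))))
 (N (N (N (N (L 8526)
 (L 3619))
 (N (L 2370)
 (L 10555)))
 (N (N (L 8029)
 (L 12512))
 (N (L 2506)
 (L 9514))))
 (N (N (N (L 12910)
 (L 5076))
 (N (L 14033)
 (L 8264)))
 (N (N (L 13433)
 (L 3725))
 (L 7189)))))
 (N (N (N (N (N (L 6968)
 (L 7462))
 (N (L 14777)
 (L 10774)))
 (N (N (L 9635)
 (L 43))
 (N (L 14566)
 (L 12966))))
 (N (N (N (L 10521)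
 (L 7590))
 (N (L 12872)
 (L 6145)))
 (N (N (L 14818)
 (L 13586))
 (L 8008))))
 (N (N (N (N (L 469)
 (L 8114))
 (N (L 11564)
 (L 4116)))
 (N (N (L 9249)
 (L 6498))
 (N (L 555)
 (L 4001))))
 (N (N (N (L 4866)
 (L 12661))
 (N (L 10522)
 (L 13165)))
 (N (N (L 14350)
 (L 12059))
 (L 7223)))))))
 (N (N (N (N (N (N (N (L 14270)
 (L 11027))
 (N (L 6683)
 (L 6258)))
 (N (N (L 4371)
 (L 11365))
 (N (L 8269)
 (L 6893))))
 (N (N (N (L 13964)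
 (L 9703))
 (N (L 457)
 (L 3972)))
 (N (N (L 801)
 (L 5769))
 (L 14438))))
 (N (N (N (N (L 14448)
 (L 3021))
 (N (L 6891)
 (L 8382)))
 (N (N (L 11479)
 (L 15292))
 (N (L 7681)
 (L 849))))
 (N (N (N (L 123)
 (L 10098))
 (N (L 2399)
 (L 3394)))
 (N (N (L 14410)
 (L 200))
 (L 13315)))))
 (N (N (N (N (N (L 4608)
 (L 10298))
 (N (L 14828)
 (L 866)))
 (N (N (L 8933)
 (L 4881))
 (N (L 4367)
 (L 3724))))
 (N (N (N (L 8045)
 (L 14303))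
 (N (L 622)
 (L 11130)))
 (N (N (L 3552)
 (L 825))
 (L 13620))))
 (N (N (N (N (L 3605)
 (L 5849))
 (N (L 13516)
 (L 11913)))
 (N (N (L 29)
 (L 4482))
 (N (L 865)
 (L 7162))))
 (N (N (N (L 11249)
 (L 1589))
 (N (L 4172)
 (L 10430)))
 (N (N (L 2555)
 (L 8227))
 (L 13874))))))
 (N (N (N (N (N (N (L 9603)
 (L 8941))
 (N (L 11547)
 (L 14944)))
 (N (N (L 905)
 (L 12407))
 (N (L 11623)
 (L 15042))))
 (N (N (N (L 13694)
 (L 10815))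
 (N (L 11736)
 (L 5275)))
 (N (N (L 39)
 (L 3383))
 (L 9769))))
 (N (N (N (N (L 11921)
 (L 898))
 (N (L 6054)
 (L 12597)))
 (N (N (L 12631)
 (L 4030))
 (N (L 6995)
 (L 9869))))
 (N (N (N (L 7682)
 (L 603))
 (N (L 3474)
 (L 11778)))
 (N (N (L 2821)
 (L 5078))
 (L 12718)))))
 (N (N (N (N (N (L 2550)
 (L 11179))
 (N (L 14116)
 (L 589)))
 (N (N (L 2351)
 (L 7834))
 (N (L 495)
 (L 14254))))
 (N (N (N (L 2443)
 (L 15113))
 (N (L 9086)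
 (L 15300)))
 (N (N (L 165)
 (L 11739))
 (L 4317))))
 (N (N (N (N (L 4878)
 (L 8971))
 (N (L 5122)
 (L 2105)))
 (N (N (L 12875)
 (L 14213))
 (N (L 517)
 (L 3092))))
 (N (N (N (L 10990)
 (L 9876))
 (N (L 8433)
 (L 6508)))
 (N (N (L 14595)
 (L 10570))
 (L 10148))))))))
 (N (N (N (N (N (N (N (N (L 13067)
 (L 14341))
 (N (L 3142)
 (L 4255)))
 (N (N (L 14844)
 (L 8453))
 (N (L 292)
 (L 3299))))
 (N (N (N (L 7394)
 (L 8385))
 (N (L 1885)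
 (L 3146)))
 (N (N (L 334)
 (L 7407))
 (L 2810))))
 (N (N (N (N (L 1189)
 (L 6191))
 (N (L 10179)
 (L 10182)))
 (N (N (L 1032)
 (L 14256))
 (N (L 3148)
 (L 5222))))
 (N (N (N (L 10354)
 (L 5873))
 (N (L 6282)
 (L 10317)))
 (N (N (L 12991)
 (L 2095))
 (L 12194)))))
 (N (N (N (N (N (L 6206)
 (L 8239))
 (N (L 2194)
 (L 5402)))
 (N (N (L 1869)
 (L 7118))
 (N (L 14523)
 (L 10067))))
 (N (N (N (L 1633)
 (L 4229))
 (N (L 13952)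
 (L 14973)))
 (N (N (L 5836)
 (L 933))
 (L 10939))))
 (N (N (N (N (L 6399)
 (L 12315))
 (N (L 4834)
 (L 12163)))
 (N (N (L 6850)
 (L 12206))
 (N (L 2471)
 (L 4169))))
 (N (N (N (L 2014)
 (L 8048))
 (N (L 2675)
 (L 2979)))
 (N (N (L 12583)
 (L 7286))
 (L 13526))))))
 (N (N (N (N (N (N (L 12368)
 (L 1573))
 (N (L 2977)
 (L 11722)))
 (N (N (L 10720)
 (L 6952))
 (N (L 2343)
 (L 6416))))
 (N (N (N (L 10221)
 (L 172))
 (N (L 438)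
 (L 4302)))
 (N (N (L 1704)
 (L 6386))
 (L 1978))))
 (N (N (N (N (L 702)
 (L 7606))
 (N (L 8928)
 (L 10649)))
 (N (N (L 1003)
 (L 1895))
 (N (L 2514)
 (L 4170))))
 (N (N (N (L 10318)
 (L 642))
 (N (L 2841)
 (L 14427)))
 (N (N (L 11647)
 (L 6126))
 (L 8953)))))
 (N (N (N (N (N (L 1079)
 (L 11570))
 (N (L 5739)
 (L 7174)))
 (N (N (L 6433)
 (L 4145))
 (N (L 9425)
 (L 12660))))
 (N (N (N (L 13555)
 (L 2288))
 (N (L 2135)
 (L 8863)))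
 (N (N (L 13099)
 (L 5516))
 (L 9620))))
 (N (N (N (N (L 1262)
 (L 3138))
 (N (L 7983)
 (L 14182)))
 (N (N (L 3219)
 (L 4791))
 (N (L 12188)
 (L 6024))))
 (N (N (N (L 9304)
 (L 4514))
 (N (L 5241)
 (L 7352)))
 (N (N (L 14834)
 (L 7252))
 (L 4108)))))))
 (N (N (N (N (N (N (N (L 12690)
 (L 1744))
 (N (L 11943)
 (L 5593)))
 (N (N (L 8104)
 (L 9788))
 (N (L 4437)
 (L 3852))))
 (N (N (N (L 10768)
 (L 13933))
 (N (L 6383)
 (L 13956)))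
 (N (N (L 12473)
 (L 3168))
 (L 14647))))
 (N (N (N (N (L 6882)
 (L 5847))
 (N (L 12815)
 (L 11119)))
 (N (N (L 3519)
 (L 11480))
 (N (L 3489)
 (L 7667))))
 (N (N (N (L 11395)
 (L 14813))
 (N (L 9841)
 (L 12339)))
 (N (N (L 11489)
 (L 15246))
 (L 1091)))))
 (N (N (N (N (N (L 932)
 (L 4869))
 (N (L 11221)
 (L 6225)))
 (N (N (L 6918)
 (L 10324))
 (N (L 1233)
 (L 809))))
 (N (N (N (L 2329)
 (L 14963))
 (N (L 9445)
 (L 5908)))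
 (N (N (L 6151)
 (L 3369))
 (L 14318))))
 (N (N (N (N (L 4771)
 (L 9867))
 (N (L 8907)
 (L 8360)))
 (N (N (L 3269)
 (L 12273))
 (N (L 8624)
 (L 14190))))
 (N (N (N (L 11133)
 (L 22))
 (N (L 8425)
 (L 145)))
 (N (N (L 4742)
 (L 7335))
 (L 6560))))))
 (N (N (N (N (N (N (L 7548)
 (L 4931))
 (N (L 7850)
 (L 1404)))
 (N (N (L 1504)
 (L 2160))
 (N (L 11098)
 (L 14704))))
 (N (N (N (L 8590)
 (L 6272))
 (N (L 6289)
 (L 14592)))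
 (N (N (L 12588)
 (L 14102))
 (L 5206))))
 (N (N (N (N (L 1677)
 (L 6308))
 (N (L 6953)
 (L 6500)))
 (N (N (L 11737)
 (L 15311))
 (N (L 14307)
 (L 1929))))
 (N (N (N (L 497)
 (L 12614))
 (N (L 10502)
 (L 3885)))
 (N (N (L 7741)
 (L 2439))
 (L 13175)))))
 (N (N (N (N (N (L 1986)
 (L 8217))
 (N (L 9810)
 (L 4379)))
 (N (N (L 499)
 (L 15384))
 (N (L 625)
 (L 7185))))
 (N (N (N (L 7281)
 (L 14553))
 (N (L 8418)
 (L 2161)))
 (N (N (L 1977)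
 (L 3981))
 (L 11767))))
 (N (N (N (N (L 8709)
 (L 439))
 (N (L 14951)
 (L 5511)))
 (N (N (L 3502)
 (L 2881))
 (N (L 6493)
 (L 6757))))
 (N (N (N (L 12784)
 (L 686))
 (N (L 6583)
 (L 14480)))
 (N (N (L 9450)
 (L 9182))
 (L 6303)))))))))
 (N (N (N (N (N (N (N (N (N (L 15032)
 (L 5075))
 (N (L 8386)
 (L 11843)))
 (N (N (L 10997)
 (L 14484))
 (N (L 8229)
 (L 7582))))
 (N (N (N (L 5998)
 (L 3615))
 (N (L 3654)
 (L 9947)))
 (N (N (L 12264)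
 (L 9651))
 (N (L 5401)
 (L 5682)))))
 (N (N (N (N (L 6686)
 (L 14420))
 (N (L 3536)
 (L 2172)))
 (N (N (L 5278)
 (L 3952))
 (N (L 15327)
 (L 2801))))
 (N (N (N (L 544)
 (L 8313))
 (N (L 4185)
 (L 9923)))
 (N (N (L 13676)
 (L 822))
 (L 6038)))))
 (N (N (N (N (N (L 8635)
 (L 3285))
 (N (L 7525)
 (L 11427)))
 (N (N (L 9735)
 (L 12159))
 (N (L 2403)
 (L 744))))
 (N (N (N (L 3894)
 (L 7844))
 (N (L 14197)
 (L 3348)))
 (N (N (L 4607)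
 (L 5831))
 (L 10050))))
 (N (N (N (N (L 12243)
 (L 1082))
 (N (L 7750)
 (L 9159)))
 (N (N (L 350)
 (L 12033))
 (N (L 4203)
 (L 10323))))
 (N (N (N (L 3920)
 (L 15241))
 (N (L 12351)
 (L 13011)))
 (N (N (L 10074)
 (L 5337))
 (L 8483))))))
 (N (N (N (N (N (N (L 685)
 (L 7849))
 (N (L 11242)
 (L 12419)))
 (N (N (L 3078)
 (L 4025))
 (N (L 10587)
 (L 153))))
 (N (N (N (L 5806)
 (L 13105))
 (N (L 875)
 (L 11800)))
 (N (N (L 13554)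
 (L 390))
 (L 1846))))
 (N (N (N (N (L 8219)
 (L 2612))
 (N (L 5214)
 (L 2017)))
 (N (N (L 12258)
 (L 8688))
 (N (L 5840)
 (L 4346))))
 (N (N (N (L 10115)
 (L 1484))
 (N (L 14363)
 (L 4078)))
 (N (N (L 2060)
 (L 5800))
 (L 6244)))))
 (N (N (N (N (N (L 6754)
 (L 1279))
 (N (L 9498)
 (L 2737)))
 (N (N (L 6708)
 (L 3139))
 (N (L 11534)
 (L 5737))))
 (N (N (N (L 13)
 (L 7014))
 (N (L 964)
 (L 1783)))
 (N (N (L 13417)
 (L 516))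
 (L 8134))))
 (N (N (N (N (L 9262)
 (L 1406))
 (N (L 14862)
 (L 4206)))
 (N (N (L 2551)
 (L 11938))
 (N (L 10752)
 (L 14409))))
 (N (N (N (L 12169)
 (L 4208))
 (N (L 11390)
 (L 1931)))
 (N (N (L 12837)
 (L 4614))
 (L 13229)))))))
 (N (N (N (N (N (N (N (L 4817)
 (L 7269))
 (N (L 6436)
 (L 5857)))
 (N (N (L 4651)
 (L 13314))
 (N (L 7267)
 (L 3047))))
 (N (N (N (L 15382)
 (L 7464))
 (N (L 12576)
 (L 5107)))
 (N (N (L 6176)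
 (L 4515))
 (L 12883))))
 (N (N (N (N (L 2973)
 (L 14907))
 (N (L 11382)
 (L 11184)))
 (N (N (L 478)
 (L 3386))
 (N (L 1874)
 (L 4140))))
 (N (N (N (L 14946)
 (L 2563))
 (N (L 2277)
 (L 1911)))
 (N (N (L 13602)
 (L 9180))
 (L 5610)))))
 (N (N (N (N (N (L 1798)
 (L 6491))
 (N (L 14283)
 (L 9291)))
 (N (N (L 4130)
 (L 4341))
 (N (L 11802)
 (L 10976))))
 (N (N (N (L 5552)
 (L 6261))
 (N (L 9575)
 (L 3567)))
 (N (N (L 13663)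
 (L 13133))
 (L 1064))))
 (N (N (N (N (L 11526)
 (L 5071))
 (N (L 745)
 (L 13995)))
 (N (N (L 3350)
 (L 7265))
 (N (L 67)
 (L 14780))))
 (N (N (N (L 9855)
 (L 5183))
 (N (L 6385)
 (L 4059)))
 (N (N (L 10312)
 (L 4952))
 (L 14449))))))
 (N (N (N (N (N (N (L 3721)
 (L 13727))
 (N (L 5270)
 (L 2663)))
 (N (N (L 1587)
 (L 11725))
 (N (L 2372)
 (L 6618))))
 (N (N (N (L 8507)
 (L 4724))
 (N (L 3545)
 (L 4491)))
 (N (N (L 8397)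
 (L 5946))
 (L 5311))))
 (N (N (N (N (L 2999)
 (L 13248))
 (N (L 12662)
 (L 12083)))
 (N (N (L 10518)
 (L 6509))
 (N (L 11866)
 (L 10234))))
 (N (N (N (L 7268)
 (L 7461))
 (N (L 8137)
 (L 5942)))
 (N (N (L 3232)
 (L 73))
 (L 5672)))))
 (N (N (N (N (N (L 10652)
 (L 4485))
 (N (L 6156)
 (L 9815)))
 (N (N (L 13171)
 (L 8164))
 (N (L 15214)
 (L 4630))))
 (N (N (N (L 5449)
 (L 12411))
 (N (L 9230)
 (L 9584)))
 (N (N (L 7361)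
 (L 8046))
 (L 9871))))
 (N (N (N (N (L 11772)
 (L 1238))
 (N (L 4496)
 (L 14905)))
 (N (N (L 9966)
 (L 4840))
 (N (L 11131)
 (L 6457))))
 (N (N (N (L 13767)
 (L 8329))
 (N (L 4459)
 (L 5102)))
 (N (N (L 2803)
 (L 3208))
 (L 13145))))))))
 (N (N (N (N (N (N (N (N (L 2956)
 (L 11930))
 (N (L 6188)
 (L 13408)))
 (N (N (L 10735)
 (L 1382))
 (N (L 9100)
 (L 6829))))
 (N (N (N (L 13558)
 (L 7397))
 (N (L 6387)
 (L 3822)))
 (N (N (L 3835)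
 (L 15021))
 (L 3763))))
 (N (N (N (N (L 1579)
 (L 3109))
 (N (L 6172)
 (L 6056)))
 (N (N (L 13825)
 (L 11101))
 (N (L 8515)
 (L 10714))))
 (N (N (N (L 12676)
 (L 9669))
 (N (L 10228)
 (L 1328)))
 (N (N (L 3158)
 (L 5298))
 (L 6460)))))
 (N (N (N (N (N (L 5130)
 (L 12834))
 (N (L 9155)
 (L 10120)))
 (N (N (L 8726)
 (L 4099))
 (N (L 3951)
 (L 3879))))
 (N (N (N (L 4330)
 (L 268))
 (N (L 3771)
 (L 1873)))
 (N (N (L 15197)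
 (L 11294))
 (L 7440))))
 (N (N (N (N (L 11786)
 (L 11935))
 (N (L 8542)
 (L 14948)))
 (N (N (L 11279)
 (L 15395))
 (N (L 14132)
 (L 5837))))
 (N (N (N (L 3136)
 (L 3936))
 (N (L 2107)
 (L 10625)))
 (N (N (L 45)
 (L 10180))
 (L 1165))))))
 (N (N (N (N (N (N (L 11583)
 (L 13695))
 (N (L 10220)
 (L 13222)))
 (N (N (L 10892)
 (L 11082))
 (N (L 10494)
 (L 4345))))
 (N (N (N (L 9461)
 (L 12123))
 (N (L 12915)
 (L 6864)))
 (N (N (L 10869)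
 (L 6357))
 (L 219))))
 (N (N (N (N (L 15278)
 (L 1866))
 (N (L 9091)
 (L 13397)))
 (N (N (L 11538)
 (L 15064))
 (N (L 3976)
 (L 11451))))
 (N (N (N (L 14909)
 (L 2749))
 (N (L 6878)
 (L 5949)))
 (N (N (L 13533)
 (L 6916))
 (L 10491)))))
 (N (N (N (N (N (L 12801)
 (L 12227))
 (N (L 10201)
 (L 14850)))
 (N (N (L 12930)
 (L 2414))
 (N (L 10199)
 (L 7441))))
 (N (N (N (L 9084)
 (L 6985))
 (N (L 13002)
 (L 2664)))
 (N (N (L 14753)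
 (L 10558))
 (L 2836))))
 (N (N (N (N (L 3930)
 (L 6635))
 (N (L 2673)
 (L 14960)))
 (N (N (L 2920)
 (L 14124))
 (N (L 918)
 (L 8870))))
 (N (N (N (L 12352)
 (L 5518))
 (N (L 7468)
 (L 551)))
 (N (N (L 8905)
 (L 3542))
 (L 6785)))))))
 (N (N (N (N (N (N (N (L 8718)
 (L 1365))
 (N (L 13871)
 (L 5064)))
 (N (N (L 4635)
 (L 2457))
 (N (L 12537)
 (L 10217))))
 (N (N (N (L 560)
 (L 4685))
 (N (L 6412)
 (L 8237)))
 (N (N (L 5046)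
 (L 12446))
 (L 10547))))
 (N (N (N (N (L 11374)
 (L 6733))
 (N (L 11132)
 (L 11413)))
 (N (N (L 10610)
 (L 6189))
 (N (L 5246)
 (L 4548))))
 (N (N (N (L 6214)
 (L 14928))
 (N (L 3277)
 (L 9692)))
 (N (N (L 2667)
 (L 5312))
 (L 8033)))))
 (N (N (N (N (N (L 9390)
 (L 12556))
 (N (L 6190)
 (L 536)))
 (N (N (L 1535)
 (L 8396))
 (N (L 985)
 (L 7980))))
 (N (N (N (L 3821)
 (L 5599))
 (N (L 13454)
 (L 7753)))
 (N (N (L 1974)
 (L 13435))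
 (L 9738))))
 (N (N (N (N (L 12428)
 (L 6466))
 (N (L 13297)
 (L 10675)))
 (N (N (L 4750)
 (L 1536))
 (N (L 6193)
 (L 13776))))
 (N (N (N (L 9281)
 (L 10956))
 (N (L 9511)
 (L 12758)))
 (N (N (L 4664)
 (L 10921))
 (L 10903))))))
 (N (N (N (N (N (N (L 6607)
 (L 4805))
 (N (L 8430)
 (L 6658)))
 (N (N (L 8739)
 (L 4919))
 (N (L 7751)
 (L 507))))
 (N (N (N (L 8165)
 (L 312))
 (N (L 11319)
 (L 10778)))
 (N (N (L 488)
 (L 11135))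
 (L 11557))))
 (N (N (N (N (L 9862)
 (L 12430))
 (N (L 4498)
 (L 7579)))
 (N (N (L 415)
 (L 3184))
 (N (L 13279)
 (L 6826))))
 (N (N (N (L 5248)
 (L 6110))
 (N (L 3463)
 (L 8095)))
 (N (N (L 8275)
 (L 3813))
 (L 10514)))))
 (N (N (N (N (N (L 5429)
 (L 6135))
 (N (L 9811)
 (L 766)))
 (N (N (L 6655)
 (L 10211))
 (N (L 11838)
 (L 7175))))
 (N (N (N (L 12733)
 (L 4703))
 (N (L 12160)
 (L 13276)))
 (N (N (L 372)
 (L 14908))
 (L 1623))))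
 (N (N (N (N (L 738)
 (L 4885))
 (N (L 13894)
 (L 2289)))
 (N (N (L 1947)
 (L 7447))
 (N (L 10129)
 (L 1748))))
 (N (N (N (L 4688)
 (L 6741))
 (N (L 11771)
 (L 12754)))
 (N (N (L 2855)
 (L 5747))
 (L 12938)))))))))))
 (N (N (N (N (N (N (N (N (N (N (N (L 7931)
 (L 2767))
 (N (L 4286)
 (L 7658)))
 (N (N (L 7622)
 (L 10456))
 (N (L 7371)
 (L 722))))
 (N (N (N (L 5777)
 (L 7699))
 (N (L 8569)
 (L 2079)))
 (N (N (L 9050)
 (L 7727))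
 (N (L 5499)
 (L 664)))))
 (N (N (N (N (L 3929)
 (L 15074))
 (N (L 11301)
 (L 9558)))
 (N (N (L 7276)
 (L 9959))
 (N (L 5463)
 (L 5382))))
 (N (N (N (L 8580)
 (L 13004))
 (N (L 9241)
 (L 6981)))
 (N (N (L 628)
 (L 2059))
 (L 8225)))))
 (N (N (N (N (N (L 9596)
 (L 2748))
 (N (L 1852)
 (L 4529)))
 (N (N (L 9745)
 (L 10344))
 (N (L 4296)
 (L 5283))))
 (N (N (N (L 8643)
 (L 269))
 (N (L 9765)
 (L 12202)))
 (N (N (L 2260)
 (L 14289))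
 (L 2636))))
 (N (N (N (N (L 12129)
 (L 10863))
 (N (L 11143)
 (L 7797)))
 (N (N (L 4501)
 (L 6178))
 (N (L 12466)
 (L 8795))))
 (N (N (N (L 4011)
 (L 9754))
 (N (L 10046)
 (L 1511)))
 (N (N (L 8921)
 (L 15215))
 (L 13985))))))
 (N (N (N (N (N (N (L 4768)
 (L 5833))
 (N (L 14098)
 (L 8555)))
 (N (N (L 14837)
 (L 12616))
 (N (L 5926)
 (L 12643))))
 (N (N (N (L 5914)
 (L 3031))
 (N (L 10968)
 (L 14903)))
 (N (N (L 11084)
 (L 1636))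
 (L 12795))))
 (N (N (N (N (L 13863)
 (L 4903))
 (N (L 1598)
 (L 10854)))
 (N (N (L 8503)
 (L 15014))
 (N (L 9535)
 (L 2101))))
 (N (N (N (L 7691)
 (L 2930))
 (N (L 5459)
 (L 11948)))
 (N (N (L 762)
 (L 3963))
 (L 12903)))))
 (N (N (N (N (N (L 6888)
 (L 6053))
 (N (L 12483)
 (L 14679)))
 (N (N (L 1833)
 (L 14466))
 (N (L 10841)
 (L 11281))))
 (N (N (N (L 10040)
 (L 10981))
 (N (L 10755)
 (L 8644)))
 (N (N (L 1868)
 (L 8403))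
 (L 4048))))
 (N (N (N (N (L 10817)
 (L 14644))
 (N (L 2806)
 (L 2453)))
 (N (N (L 1046)
 (L 11439))
 (N (L 5014)
 (L 13868))))
 (N (N (N (L 2804)
 (L 8936))
 (N (L 8784)
 (L 3819)))
 (N (N (L 9711)
 (L 7199))
 (L 10029)))))))
 (N (N (N (N (N (N (N (L 13205)
 (L 4405))
 (N (L 9443)
 (L 423)))
 (N (N (L 14179)
 (L 1810))
 (N (L 6318)
 (L 4713))))
 (N (N (N (L 15380)
 (L 2763))
 (N (L 3762)
 (L 3639)))
 (N (N (L 3005)
 (L 7240))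
 (L 12582))))
 (N (N (N (N (L 13654)
 (L 9637))
 (N (L 4934)
 (L 5125)))
 (N (N (L 10300)
 (L 9431))
 (N (L 10455)
 (L 13713))))
 (N (N (N (L 8544)
 (L 3597))
 (N (L 11038)
 (L 12444)))
 (N (N (L 11576)
 (L 9792))
 (L 10128)))))
 (N (N (N (N (N (L 1854)
 (L 8828))
 (N (L 7458)
 (L 198)))
 (N (N (L 8281)
 (L 12408))
 (N (L 8943)
 (L 4991))))
 (N (N (N (L 5541)
 (L 9936))
 (N (L 1257)
 (L 228)))
 (N (N (L 2162)
 (L 5852))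
 (L 3964))))
 (N (N (N (N (L 7739)
 (L 1116))
 (N (L 4583)
 (L 5432)))
 (N (N (L 4744)
 (L 12642))
 (N (L 740)
 (L 5835))))
 (N (N (N (L 6877)
 (L 2217))
 (N (L 12932)
 (L 6766)))
 (N (N (L 14038)
 (L 8652))
 (L 13050))))))
 (N (N (N (N (N (N (L 459)
 (L 10829))
 (N (L 4177)
 (L 13508)))
 (N (N (L 13453)
 (L 14705))
 (N (L 12622)
 (L 7599))))
 (N (N (N (L 4892)
 (L 5268))
 (N (L 365)
 (L 660)))
 (N (N (L 5774)
 (L 8090))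
 (L 14906))))
 (N (N (N (N (L 14642)
 (L 1782))
 (N (L 15123)
 (L 5333)))
 (N (N (L 12350)
 (L 9))
 (N (L 11566)
 (L 6937))))
 (N (N (N (L 10264)
 (L 11560))
 (N (L 8213)
 (L 2975)))
 (N (N (L 7377)
 (L 3108))
 (L 2420)))))
 (N (N (N (N (N (L 2249)
 (L 2205))
 (N (L 3018)
 (L 8141)))
 (N (N (L 3447)
 (L 10808))
 (N (L 860)
 (L 11665))))
 (N (N (N (L 5950)
 (L 6767))
 (N (L 7928)
 (L 1339)))
 (N (N (L 4157)
 (L 10790))
 (L 13638))))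
 (N (N (N (N (L 11849)
 (L 956))
 (N (L 15366)
 (L 12075)))
 (N (N (L 6397)
 (L 2932))
 (N (L 4447)
 (L 14689))))
 (N (N (N (L 7543)
 (L 10057))
 (N (L 5338)
 (L 10440)))
 (N (N (L 13797)
 (L 12577))
 (L 872))))))))
 (N (N (N (N (N (N (N (N (L 7273)
 (L 4710))
 (N (L 8346)
 (L 11884)))
 (N (N (L 9449)
 (L 317))
 (N (L 4665)
 (L 14534))))
 (N (N (N (L 8752)
 (L 2464))
 (N (L 8563)
 (L 6901)))
 (N (N (L 11674)
 (L 5415))
 (N (L 1147)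
 (L 15023)))))
 (N (N (N (N (L 3674)
 (L 13047))
 (N (L 11121)
 (L 8505)))
 (N (N (L 10219)
 (L 13671))
 (N (L 3190)
 (L 2195))))
 (N (N (N (L 8975)
 (L 480))
 (N (L 13019)
 (L 8628)))
 (N (N (L 11108)
 (L 8560))
 (L 1788)))))
 (N (N (N (N (N (L 10965)
 (L 10782))
 (N (L 2089)
 (L 4152)))
 (N (N (L 8464)
 (L 89))
 (N (L 8721)
 (L 11626))))
 (N (N (N (L 11696)
 (L 5112))
 (N (L 9990)
 (L 6109)))
 (N (N (L 1690)
 (L 13053))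
 (L 7942))))
 (N (N (N (N (L 12330)
 (L 7666))
 (N (L 13721)
 (L 4342)))
 (N (N (L 3209)
 (L 10528))
 (N (L 5123)
 (L 15318))))
 (N (N (N (L 10911)
 (L 6102))
 (N (L 5707)
 (L 428)))
 (N (N (L 10297)
 (L 4197))
 (L 1039))))))
 (N (N (N (N (N (N (L 8831)
 (L 1826))
 (N (L 13906)
 (L 5956)))
 (N (N (L 5673)
 (L 894))
 (N (L 14993)
 (L 12354))))
 (N (N (N (L 3218)
 (L 7138))
 (N (L 13244)
 (L 10337)))
 (N (N (L 8731)
 (L 7519))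
 (L 2729))))
 (N (N (N (N (L 8011)
 (L 2070))
 (N (L 5978)
 (L 13287)))
 (N (N (L 5663)
 (L 2897))
 (N (L 14785)
 (L 5740))))
 (N (N (N (L 15163)
 (L 10643))
 (N (L 1136)
 (L 4175)))
 (N (N (L 4719)
 (L 2948))
 (L 7002)))))
 (N (N (N (N (N (L 11636)
 (L 11537))
 (N (L 2252)
 (L 5297)))
 (N (N (L 1669)
 (L 6470))
 (N (L 2284)
 (L 11391))))
 (N (N (N (L 13740)
 (L 14233))
 (N (L 1738)
 (L 8495)))
 (N (N (L 3845)
 (L 4057))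
 (L 4822))))
 (N (N (N (N (L 5533)
 (L 6388))
 (N (L 13020)
 (L 4706)))
 (N (N (L 5458)
 (L 9427))
 (N (L 1114)
 (L 14328))))
 (N (N (N (L 9700)
 (L 14142))
 (N (L 10579)
 (L 13702)))
 (N (N (L 13612)
 (L 6179))
 (L 11377)))))))
 (N (N (N (N (N (N (N (L 11691)
 (L 10818))
 (N (L 4104)
 (L 9717)))
 (N (N (L 4332)
 (L 10351))
 (N (L 8578)
 (L 9860))))
 (N (N (N (L 7246)
 (L 2825))
 (N (L 13932)
 (L 14394)))
 (N (N (L 776)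
 (L 9895))
 (L 1053))))
 (N (N (N (N (L 7470)
 (L 8823))
 (N (L 4925)
 (L 882)))
 (N (N (L 7965)
 (L 2127))
 (N (L 562)
 (L 4348))))
 (N (N (N (L 408)
 (L 7664))
 (N (L 2429)
 (L 12768)))
 (N (N (L 14040)
 (L 4904))
 (L 9494)))))
 (N (N (N (N (N (L 1314)
 (L 13366))
 (N (L 10167)
 (L 4780)))
 (N (N (L 15227)
 (L 2082))
 (N (L 8625)
 (L 11355))))
 (N (N (N (L 5754)
 (L 12982))
 (N (L 2286)
 (L 3261)))
 (N (N (L 5788)
 (L 6520))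
 (L 2058))))
 (N (N (N (N (L 2099)
 (L 2389))
 (N (L 1890)
 (L 2983)))
 (N (N (L 6483)
 (L 8899))
 (N (L 13458)
 (L 6446))))
 (N (N (N (L 7812)
 (L 1408))
 (N (L 1643)
 (L 6343)))
 (N (N (L 15293)
 (L 13040))
 (L 1251))))))
 (N (N (N (N (N (N (L 10306)
 (L 2772))
 (N (L 11341)
 (L 4980)))
 (N (N (L 15159)
 (L 9289))
 (N (L 5742)
 (L 12602))))
 (N (N (N (L 14117)
 (L 818))
 (N (L 14603)
 (L 189)))
 (N (N (L 14892)
 (L 12355))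
 (L 4065))))
 (N (N (N (N (L 15200)
 (L 1578))
 (N (L 12627)
 (L 8025)))
 (N (N (L 6625)
 (L 7204))
 (N (L 4147)
 (L 4316))))
 (N (N (N (L 11612)
 (L 15369))
 (N (L 13189)
 (L 6309)))
 (N (N (L 14219)
 (L 14845))
 (L 8583)))))
 (N (N (N (N (N (L 8577)
 (L 7250))
 (N (L 3704)
 (L 5531)))
 (N (N (L 13883)
 (L 9759))
 (N (L 10053)
 (L 8620))))
 (N (N (N (L 1523)
 (L 9278))
 (N (L 2132)
 (L 182)))
 (N (N (L 12311)
 (L 7535))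
 (L 5258))))
 (N (N (N (N (L 2813)
 (L 9911))
 (N (L 8066)
 (L 14337)))
 (N (N (L 2950)
 (L 12995))
 (N (L 12480)
 (L 1454))))
 (N (N (N (L 11088)
 (L 14668))
 (N (L 13115)
 (L 4469)))
 (N (N (L 11387)
 (L 1063))
 (L 8283)))))))))
 (N (N (N (N (N (N (N (N (N (L 14794)
 (L 6656))
 (N (L 9076)
 (L 14300)))
 (N (N (L 1363)
 (L 4082))
 (N (L 7562)
 (L 4472))))
 (N (N (N (L 11598)
 (L 5350))
 (N (L 10656)
 (L 1111)))
 (N (N (L 15119)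
 (L 14985))
 (N (L 8370)
 (L 812)))))
 (N (N (N (N (L 7959)
 (L 11494))
 (N (L 9267)
 (L 12611)))
 (N (N (L 14533)
 (L 2314))
 (N (L 7687)
 (L 5865))))
 (N (N (N (L 5534)
 (L 15155))
 (N (L 15026)
 (L 11403)))
 (N (N (L 3926)
 (L 9817))
 (L 3163)))))
 (N (N (N (N (N (L 11031)
 (L 6012))
 (N (L 13400)
 (L 13255)))
 (N (N (L 2645)
 (L 10717))
 (N (L 4440)
 (L 14700))))
 (N (N (N (L 9311)
 (L 7463))
 (N (L 9587)
 (L 10393)))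
 (N (N (L 4250)
 (L 14322))
 (L 5079))))
 (N (N (N (N (L 6444)
 (L 11428))
 (N (L 10553)
 (L 2154)))
 (N (N (L 6355)
 (L 8673))
 (N (L 4998)
 (L 10703))))
 (N (N (N (L 7113)
 (L 7183))
 (N (L 4508)
 (L 7639)))
 (N (N (L 11481)
 (L 10848))
 (L 711))))))
 (N (N (N (N (N (N (L 9808)
 (L 2117))
 (N (L 4106)
 (L 8869)))
 (N (N (L 11102)
 (L 8948))
 (N (L 7623)
 (L 6373))))
 (N (N (N (L 2361)
 (L 9813))
 (N (L 2670)
 (L 11198)))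
 (N (N (L 9845)
 (L 8843))
 (L 15076))))
 (N (N (N (N (L 2589)
 (L 9188))
 (N (L 597)
 (L 2003)))
 (N (N (L 14612)
 (L 5645))
 (N (L 7823)
 (L 3000))))
 (N (N (N (L 10812)
 (L 3782))
 (N (L 3322)
 (L 6150)))
 (N (N (L 14227)
 (L 11597))
 (L 12693)))))
 (N (N (N (N (N (L 176)
 (L 6835))
 (N (L 12487)
 (L 7278)))
 (N (N (L 10013)
 (L 5732))
 (N (L 13069)
 (L 9975))))
 (N (N (N (L 3549)
 (L 11749))
 (N (L 14095)
 (L 12682)))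
 (N (N (L 3295)
 (L 11263))
 (L 3527))))
 (N (N (N (N (L 14778)
 (L 5443))
 (N (L 14995)
 (L 13531)))
 (N (N (L 6904)
 (L 5684))
 (N (L 15313)
 (L 12514))))
 (N (N (N (L 11777)
 (L 5471))
 (N (L 13994)
 (L 14288)))
 (N (N (L 999)
 (L 2428))
 (L 5738)))))))
 (N (N (N (N (N (N (N (L 3367)
 (L 2526))
 (N (L 3851)
 (L 5911)))
 (N (N (L 1229)
 (L 9415))
 (N (L 2822)
 (L 8398))))
 (N (N (N (L 11146)
 (L 11677))
 (N (L 10866)
 (L 2486)))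
 (N (N (L 13066)
 (L 8221))
 (L 14540))))
 (N (N (N (N (L 2773)
 (L 8958))
 (N (L 8053)
 (L 13084)))
 (N (N (L 5818)
 (L 2657))
 (N (L 1764)
 (L 5573))))
 (N (N (N (L 13935)
 (L 8115))
 (N (L 5000)
 (L 450)))
 (N (N (L 7029)
 (L 4111))
 (L 5437)))))
 (N (N (N (N (N (L 7707)
 (L 8794))
 (N (L 10475)
 (L 3043)))
 (N (N (L 15361)
 (L 4110))
 (N (L 7669)
 (L 10596))))
 (N (N (N (L 6611)
 (L 8973))
 (N (L 10208)
 (L 13732)))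
 (N (N (L 2094)
 (L 14853))
 (L 13479))))
 (N (N (N (N (L 12256)
 (L 2978))
 (N (L 3037)
 (L 2214)))
 (N (N (L 9009)
 (L 583))
 (N (L 8790)
 (L 4305))))
 (N (N (N (L 12367)
 (L 436))
 (N (L 7158)
 (L 521)))
 (N (N (L 2574)
 (L 3693))
 (L 1435))))))
 (N (N (N (N (N (N (L 8622)
 (L 9033))
 (N (L 10613)
 (L 5257)))
 (N (N (L 13974)
 (L 12929))
 (N (L 13057)
 (L 1208))))
 (N (N (N (L 1044)
 (L 4217))
 (N (L 12385)
 (L 9439)))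
 (N (N (L 15025)
 (L 3075))
 (L 13406))))
 (N (N (N (N (L 9338)
 (L 8335))
 (N (L 5353)
 (L 13880)))
 (N (N (L 8103)
 (L 12004))
 (N (L 12565)
 (L 5047))))
 (N (N (N (L 14205)
 (L 13901))
 (N (L 8695)
 (L 1235)))
 (N (N (L 3254)
 (L 5321))
 (L 441)))))
 (N (N (N (N (N (L 244)
 (L 4825))
 (N (L 12112)
 (L 1799)))
 (N (N (L 3441)
 (L 15087))
 (N (L 3662)
 (L 367))))
 (N (N (N (L 4281)
 (L 10580))
 (N (L 11369)
 (L 10124)))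
 (N (N (L 11015)
 (L 7494))
 (L 806))))
 (N (N (N (N (L 6819)
 (L 14611))
 (N (L 2355)
 (L 12384)))
 (N (N (L 8766)
 (L 6569))
 (N (L 4411)
 (L 13430))))
 (N (N (N (L 14734)
 (L 6706))
 (N (L 5054)
 (L 7391)))
 (N (N (L 10653)
 (L 254))
 (L 9857))))))))
 (N (N (N (N (N (N (N (N (L 889)
 (L 1731))
 (N (L 8819)
 (L 2703)))
 (N (N (L 14323)
 (L 148))
 (N (L 6235)
 (L 9302))))
 (N (N (N (L 11964)
 (L 13167))
 (N (L 9040)
 (L 9290)))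
 (N (N (L 10254)
 (L 9591))
 (L 6314))))
 (N (N (N (N (L 7577)
 (L 3296))
 (N (L 3922)
 (L 2382)))
 (N (N (L 6899)
 (L 8684))
 (N (L 5991)
 (L 8659))))
 (N (N (N (L 4380)
 (L 5428))
 (N (L 196)
 (L 4473)))
 (N (N (L 11483)
 (L 8724))
 (L 8128)))))
 (N (N (N (N (N (L 13096)
 (L 364))
 (N (L 14411)
 (L 12671)))
 (N (N (L 907)
 (L 6676))
 (N (L 10847)
 (L 4414))))
 (N (N (N (L 6203)
 (L 5029))
 (N (L 2240)
 (L 2853)))
 (N (N (L 14060)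
 (L 3411))
 (L 12023))))
 (N (N (N (N (L 5561)
 (L 10977))
 (N (L 2415)
 (L 821)))
 (N (N (L 1273)
 (L 5132))
 (N (L 6450)
 (L 2141))))
 (N (N (N (L 7360)
 (L 9042))
 (N (L 2083)
 (L 9264)))
 (N (N (L 10482)
 (L 4478))
 (L 1289))))))
 (N (N (N (N (N (N (L 6325)
 (L 9122))
 (N (L 4579)
 (L 5035)))
 (N (N (L 1184)
 (L 6552))
 (N (L 10089)
 (L 771))))
 (N (N (N (L 13786)
 (L 1471))
 (N (L 5280)
 (L 13243)))
 (N (N (L 7694)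
 (L 7973))
 (L 1942))))
 (N (N (N (N (L 5623)
 (L 4337))
 (N (L 5576)
 (L 1679)))
 (N (N (L 13005)
 (L 6368))
 (N (L 6093)
 (L 3334))))
 (N (N (N (L 11342)
 (L 5767))
 (N (L 3027)
 (L 12621)))
 (N (N (L 1351)
 (L 2142))
 (L 13024)))))
 (N (N (N (N (N (L 13225)
 (L 15302))
 (N (L 8468)
 (L 11962)))
 (N (N (L 8389)
 (L 6710))
 (N (L 5633)
 (L 12978))))
 (N (N (N (L 14711)
 (L 1526))
 (N (L 10508)
 (L 2722)))
 (N (N (L 7078)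
 (L 8593))
 (L 3173))))
 (N (N (N (N (L 11303)
 (L 11961))
 (N (L 4714)
 (L 1512)))
 (N (N (L 8012)
 (L 8250))
 (N (L 1280)
 (L 7756))))
 (N (N (N (L 1792)
 (L 10117))
 (N (L 14225)
 (L 11970)))
 (N (N (L 2875)
 (L 15137))
 (L 9934)))))))
 (N (N (N (N (N (N (N (L 11683)
 (L 3321))
 (N (L 6519)
 (L 12916)))
 (N (N (L 4935)
 (L 11514))
 (N (L 1291)
 (L 6229))))
 (N (N (N (L 4489)
 (L 10862))
 (N (L 7977)
 (L 14405)))
 (N (N (L 8401)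
 (L 4370))
 (L 289))))
 (N (N (N (N (L 10940)
 (L 10593))
 (N (L 7384)
 (L 11678)))
 (N (N (L 5652)
 (L 5032))
 (N (L 11610)
 (L 15397))))
 (N (N (N (L 6554)
 (L 15188))
 (N (L 5559)
 (L 6874)))
 (N (N (L 5671)
 (L 14035))
 (L 947)))))
 (N (N (N (N (N (L 14576)
 (L 6223))
 (N (L 5544)
 (L 12825)))
 (N (N (L 9496)
 (L 10332))
 (N (L 7356)
 (L 5481))))
 (N (N (N (L 14982)
 (L 1110))
 (N (L 4582)
 (L 9681)))
 (N (N (L 12648)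
 (L 14768))
 (L 5975))))
 (N (N (N (N (L 5370)
 (L 13392))
 (N (L 9727)
 (L 6394)))
 (N (N (L 3062)
 (L 6432))
 (N (L 13701)
 (L 14203))))
 (N (N (N (L 2988)
 (L 9729))
 (N (L 12841)
 (L 472)))
 (N (N (L 8028)
 (L 12173))
 (L 86))))))
 (N (N (N (N (N (N (L 8294)
 (L 10402))
 (N (L 9135)
 (L 8358)))
 (N (N (L 12082)
 (L 9610))
 (N (L 2684)
 (L 10362))))
 (N (N (N (L 4355)
 (L 9787))
 (N (L 820)
 (L 458)))
 (N (N (L 3768)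
 (L 10504))
 (L 4985))))
 (N (N (N (N (L 6137)
 (L 876))
 (N (L 13849)
 (L 5842)))
 (N (N (L 4218)
 (L 14521))
 (N (L 1087)
 (L 940))))
 (N (N (N (L 9900)
 (L 11047))
 (N (L 8171)
 (L 3889)))
 (N (N (L 10204)
 (L 8373))
 (L 11156)))))
 (N (N (N (N (N (L 4268)
 (L 1092))
 (N (L 14520)
 (L 755)))
 (N (N (L 9697)
 (L 994))
 (N (L 15158)
 (L 3815))))
 (N (N (N (L 11791)
 (L 12851))
 (N (L 13323)
 (L 8537)))
 (N (N (L 9318)
 (L 1985))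
 (L 3310))))
 (N (N (N (N (L 8052)
 (L 13203))
 (N (L 7672)
 (L 11803)))
 (N (N (L 1128)
 (L 10974))
 (N (L 1055)
 (L 2521))))
 (N (N (N (L 14757)
 (L 13048))
 (N (L 1380)
 (L 2207)))
 (N (N (L 3896)
 (L 14062))
 (L 3257))))))))))
 (N (N (N (N (N (N (N (N (N (N (L 12223)
 (L 7303))
 (N (L 6439)
 (L 15045)))
 (N (N (L 10287)
 (L 9057))
 (N (L 5175)
 (L 2733))))
 (N (N (N (L 10135)
 (L 4442))
 (N (L 10399)
 (L 1461)))
 (N (N (L 640)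
 (L 5570))
 (N (L 11667)
 (L 11706)))))
 (N (N (N (N (L 5500)
 (L 15164))
 (N (L 7048)
 (L 14308)))
 (N (N (L 4906)
 (L 3026))
 (N (L 5729)
 (L 4484))))
 (N (N (N (L 14330)
 (L 14939))
 (N (L 12526)
 (L 9800)))
 (N (N (L 11823)
 (L 3162))
 (L 4765)))))
 (N (N (N (N (N (L 13462)
 (L 9320))
 (N (L 851)
 (L 10937)))
 (N (N (L 11298)
 (L 8116))
 (N (L 15169)
 (L 3038))))
 (N (N (N (L 3878)
 (L 2739))
 (N (L 10469)
 (L 4198)))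
 (N (N (L 4699)
 (L 6546))
 (L 12939))))
 (N (N (N (N (L 5210)
 (L 4863))
 (N (L 5853)
 (L 2352)))
 (N (N (L 13712)
 (L 11680))
 (N (L 221)
 (L 677))))
 (N (N (N (L 8085)
 (L 14971))
 (N (L 8972)
 (L 5161)))
 (N (N (L 2631)
 (L 366))
 (L 16))))))
 (N (N (N (N (N (N (L 13143)
 (L 4778))
 (N (L 12827)
 (L 9983)))
 (N (N (L 6949)
 (L 10267))
 (N (L 10665)
 (L 13577))))
 (N (N (N (L 11449)
 (L 11613))
 (N (L 13176)
 (L 6567)))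
 (N (N (L 5293)
 (L 3429))
 (L 12960))))
 (N (N (N (N (L 3178)
 (L 12816))
 (N (L 14936)
 (L 4670)))
 (N (N (L 10876)
 (L 11477))
 (N (L 12510)
 (L 15144))))
 (N (N (N (L 8168)
 (L 10960))
 (N (L 12363)
 (L 12118)))
 (N (N (L 10929)
 (L 4842))
 (L 7011)))))
 (N (N (N (N (N (L 7178)
 (L 12926))
 (N (L 4461)
 (L 10958)))
 (N (N (L 12992)
 (L 13280))
 (N (L 6793)
 (L 2848))))
 (N (N (N (L 9403)
 (L 11090))
 (N (L 9548)
 (L 1316)))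
 (N (N (L 6246)
 (L 4821))
 (L 13686))))
 (N (N (N (N (L 2072)
 (L 10468))
 (N (L 4003)
 (L 11437)))
 (N (N (L 6591)
 (L 3286))
 (N (L 11262)
 (L 4787))))
 (N (N (N (L 2222)
 (L 15017))
 (N (L 9623)
 (L 11312)))
 (N (N (L 4560)
 (L 6663))
 (L 783)))))))
 (N (N (N (N (N (N (N (L 4006)
 (L 6463))
 (N (L 14253)
 (L 13029)))
 (N (N (L 2091)
 (L 1043))
 (N (L 13113)
 (L 5667))))
 (N (N (N (L 12990)
 (L 15096))
 (N (L 14153)
 (L 5601)))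
 (N (N (L 5744)
 (L 9413))
 (L 1056))))
 (N (N (N (N (L 10101)
 (L 3102))
 (N (L 14655)
 (L 11578)))
 (N (N (L 7097)
 (L 12818))
 (N (L 8174)
 (L 7660))))
 (N (N (N (L 13506)
 (L 618))
 (N (L 5583)
 (L 7147)))
 (N (N (L 10792)
 (L 9962))
 (L 11966)))))
 (N (N (N (N (N (L 13368)
 (L 10693))
 (N (L 3258)
 (L 8665)))
 (N (N (L 10492)
 (L 7882))
 (N (L 9022)
 (L 5110))))
 (N (N (N (L 11397)
 (L 6271))
 (N (L 4088)
 (L 3746)))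
 (N (N (L 8402)
 (L 6374))
 (L 12532))))
 (N (N (N (N (L 7905)
 (L 616))
 (N (L 12677)
 (L 2396)))
 (N (N (L 6280)
 (L 10824))
 (N (L 10373)
 (L 3917))))
 (N (N (N (L 11846)
 (L 10682))
 (N (L 15337)
 (L 15180)))
 (N (N (L 15077)
 (L 8531))
 (L 12111))))))
 (N (N (N (N (N (N (L 1594)
 (L 13338))
 (N (L 12215)
 (L 9236)))
 (N (N (L 9943)
 (L 6727))
 (N (L 6377)
 (L 8325))))
 (N (N (N (L 5657)
 (L 24))
 (N (L 3555)
 (L 6772)))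
 (N (N (L 3451)
 (L 2036))
 (L 2928))))
 (N (N (N (N (L 7970)
 (L 7933))
 (N (L 7401)
 (L 2424)))
 (N (N (L 4832)
 (L 5118))
 (N (L 1616)
 (L 2597))))
 (N (N (N (L 15012)
 (L 10353))
 (N (L 1223)
 (L 10902)))
 (N (N (L 10408)
 (L 3112))
 (L 3892)))))
 (N (N (N (N (N (L 11649)
 (L 5537))
 (N (L 11120)
 (L 2325)))
 (N (N (L 2292)
 (L 13691))
 (N (L 6581)
 (L 4628))))
 (N (N (N (L 8606)
 (L 3402))
 (N (L 10222)
 (L 4790)))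
 (N (N (L 8186)
 (L 5152))
 (L 2600))))
 (N (N (N (N (L 8772)
 (L 6636))
 (N (L 1255)
 (L 9858)))
 (N (N (L 2945)
 (L 8077))
 (N (L 265)
 (L 9093))))
 (N (N (N (L 8065)
 (L 522))
 (N (L 6051)
 (L 264)))
 (N (N (L 9653)
 (L 7342))
 (L 9647))))))))
 (N (N (N (N (N (N (N (N (L 12499)
 (L 7968))
 (N (L 3352)
 (L 9329)))
 (N (N (L 2227)
 (L 14348))
 (N (L 14821)
 (L 32))))
 (N (N (N (L 10280)
 (L 11517))
 (N (L 14979)
 (L 1761)))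
 (N (N (L 11877)
 (L 12346))
 (L 6518))))
 (N (N (N (N (L 10006)
 (L 14220))
 (N (L 9670)
 (L 11839)))
 (N (N (L 13634)
 (L 12891))
 (N (L 5178)
 (L 6))))
 (N (N (N (L 5119)
 (L 215))
 (N (L 15231)
 (L 530)))
 (N (N (L 5969)
 (L 1151))
 (L 6623)))))
 (N (N (N (N (N (L 4235)
 (L 2130))
 (N (L 7560)
 (L 2788)))
 (N (N (L 5274)
 (L 9557))
 (N (L 6694)
 (L 10400))))
 (N (N (N (L 4488)
 (L 3967))
 (N (L 2010)
 (L 6127)))
 (N (N (L 10731)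
 (L 3309))
 (L 3374))))
 (N (N (N (N (L 10671)
 (L 3057))
 (N (L 5799)
 (L 10827)))
 (N (N (L 2524)
 (L 7522))
 (N (L 2192)
 (L 7509))))
 (N (N (N (L 3281)
 (L 9968))
 (N (L 15305)
 (L 3601)))
 (N (N (L 4416)
 (L 11410))
 (L 12397))))))
 (N (N (N (N (N (N (L 12753)
 (L 4600))
 (N (L 5237)
 (L 9099)))
 (N (N (L 6586)
 (L 5084))
 (N (L 1790)
 (L 6776))))
 (N (N (N (L 19)
 (L 4150))
 (N (L 14582)
 (L 5929)))
 (N (N (L 12226)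
 (L 6811))
 (L 15284))))
 (N (N (N (N (L 10447)
 (L 13845))
 (N (L 6541)
 (L 10020)))
 (N (N (L 5247)
 (L 9581))
 (N (L 484)
 (L 10103))))
 (N (N (N (L 1302)
 (L 7115))
 (N (L 7466)
 (L 12681)))
 (N (N (L 9292)
 (L 8021))
 (L 12302)))))
 (N (N (N (N (N (L 6876)
 (L 9406))
 (N (L 5306)
 (L 9946)))
 (N (N (L 10206)
 (L 10339))
 (N (L 7770)
 (L 8949))))
 (N (N (N (L 9604)
 (L 8871))
 (N (L 6895)
 (L 11036)))
 (N (N (L 11085)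
 (L 5882))
 (L 6649))))
 (N (N (N (N (L 9346)
 (L 11765))
 (N (L 8585)
 (L 7511)))
 (N (N (L 5977)
 (L 7232))
 (N (L 7408)
 (L 2560))))
 (N (N (N (L 14969)
 (L 8477))
 (N (L 9554)
 (L 14530)))
 (N (N (L 3306)
 (L 4924))
 (L 6619)))))))
 (N (N (N (N (N (N (N (L 3335)
 (L 13619))
 (N (L 1295)
 (L 2384)))
 (N (N (L 606)
 (L 9020))
 (N (L 4940)
 (L 13134))))
 (N (N (N (L 2608)
 (L 6597))
 (N (L 124)
 (L 10961)))
 (N (N (L 15099)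
 (L 9376))
 (L 2340))))
 (N (N (N (N (L 12869)
 (L 3238))
 (N (L 7347)
 (L 6080)))
 (N (N (L 9012)
 (L 14070))
 (N (L 139)
 (L 13058))))
 (N (N (N (L 7755)
 (L 14452))
 (N (L 2440)
 (L 6911)))
 (N (N (L 12305)
 (L 8999))
 (L 13187)))))
 (N (N (N (N (N (L 14879)
 (L 13615))
 (N (L 9614)
 (L 12381)))
 (N (N (L 7891)
 (L 2390))
 (N (L 743)
 (L 14089))))
 (N (N (N (L 7550)
 (L 4984))
 (N (L 2026)
 (L 8049)))
 (N (N (L 10772)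
 (L 4693))
 (L 2498))))
 (N (N (N (N (L 2177)
 (L 5159))
 (N (L 2500)
 (L 7062)))
 (N (N (L 392)
 (L 13836))
 (N (L 10712)
 (L 13869))))
 (N (N (N (L 7260)
 (L 4347))
 (N (L 11394)
 (L 15348)))
 (N (N (L 4554)
 (L 1446))
 (L 10359))))))
 (N (N (N (N (N (N (L 5060)
 (L 10574))
 (N (L 414)
 (L 133)))
 (N (N (L 3938)
 (L 6218))
 (N (L 10203)
 (L 10177))))
 (N (N (N (L 14562)
 (L 12798))
 (N (L 14083)
 (L 13673)))
 (N (N (L 6366)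
 (L 11386))
 (L 1073))))
 (N (N (N (N (L 14625)
 (L 11829))
 (N (L 12331)
 (L 13950)))
 (N (N (L 162)
 (L 11733))
 (N (L 1531)
 (L 5339))))
 (N (N (N (L 141)
 (L 6140))
 (N (L 6969)
 (L 3939)))
 (N (N (L 2158)
 (L 13583))
 (L 3460)))))
 (N (N (N (N (N (L 2752)
 (L 5091))
 (N (L 12214)
 (L 14232)))
 (N (N (L 5725)
 (L 13380))
 (N (L 11658)
 (L 15257))))
 (N (N (N (L 12731)
 (L 7586))
 (N (L 9565)
 (L 13852)))
 (N (N (L 591)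
 (L 8602))
 (L 7759))))
 (N (N (N (N (L 12491)
 (L 4054))
 (N (L 8071)
 (L 11051)))
 (N (N (L 10545)
 (L 13945))
 (N (L 11129)
 (L 4410))))
 (N (N (N (L 10838)
 (L 9963))
 (N (L 12963)
 (L 8664)))
 (N (N (L 7422)
 (L 1308))
 (L 2502)))))))))
 (N (N (N (N (N (N (N (N (N (L 2685)
 (L 10047))
 (N (L 3340)
 (L 4951)))
 (N (N (L 3471)
 (L 48))
 (N (L 6983)
 (L 14675))))
 (N (N (N (L 5441)
 (L 3602))
 (N (L 476)
 (L 13486)))
 (N (N (L 11396)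
 (L 7636))
 (N (L 349)
 (L 2732)))))
 (N (N (N (N (L 13320)
 (L 13334))
 (N (L 8276)
 (L 3366)))
 (N (N (L 14021)
 (L 916))
 (N (L 14578)
 (L 6215))))
 (N (N (N (L 8390)
 (L 8144))
 (N (L 10343)
 (L 10209)))
 (N (N (L 613)
 (L 700))
 (L 9358)))))
 (N (N (N (N (N (L 3106)
 (L 12934))
 (N (L 1842)
 (L 7221)))
 (N (N (L 4873)
 (L 8069))
 (N (L 10240)
 (L 2872))))
 (N (N (N (L 8961)
 (L 2863))
 (N (L 1732)
 (L 7600)))
 (N (N (L 2686)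
 (L 4773))
 (L 6852))))
 (N (N (N (N (L 7350)
 (L 1993))
 (N (L 8896)
 (L 14180)))
 (N (N (L 2412)
 (L 3544))
 (N (L 582)
 (L 1129))))
 (N (N (N (L 5814)
 (L 14881))
 (N (L 3783)
 (L 5314)))
 (N (N (L 14272)
 (L 14349))
 (L 9982))))))
 (N (N (N (N (N (N (L 695)
 (L 9243))
 (N (L 14619)
 (L 5619)))
 (N (N (L 13972)
 (L 44))
 (N (L 12971)
 (L 4846))))
 (N (N (N (L 14866)
 (L 6853))
 (N (L 1626)
 (L 12238)))
 (N (N (L 10620)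
 (L 2417))
 (L 8802))))
 (N (N (N (N (L 10550)
 (L 13091))
 (N (L 6044)
 (L 8494)))
 (N (N (L 9854)
 (L 9428))
 (N (L 3594)
 (L 13957))))
 (N (N (N (L 4510)
 (L 14369))
 (N (L 9744)
 (L 11176)))
 (N (N (L 13708)
 (L 11469))
 (L 8334)))))
 (N (N (N (N (N (L 7624)
 (L 12369))
 (N (L 13513)
 (L 6048)))
 (N (N (L 5155)
 (L 10338))
 (N (L 2915)
 (L 6331))))
 (N (N (N (L 4720)
 (L 4344))
 (N (L 10309)
 (L 10347)))
 (N (N (L 11398)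
 (L 10205))
 (L 14457))))
 (N (N (N (N (L 1668)
 (L 11924))
 (N (L 1065)
 (L 11490)))
 (N (N (L 9566)
 (L 14057))
 (N (L 4287)
 (L 15170))))
 (N (N (N (L 3561)
 (L 13723))
 (N (L 2798)
 (L 12641)))
 (N (N (L 4686)
 (L 12882))
 (L 9332)))))))
 (N (N (N (N (N (N (N (L 5413)
 (L 2246))
 (N (L 8728)
 (L 11204)))
 (N (N (L 8618)
 (L 11496))
 (N (L 7277)
 (L 8173))))
 (N (N (N (L 2678)
 (L 13444))
 (N (L 5723)
 (L 6337)))
 (N (N (L 13468)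
 (L 2537))
 (L 4517))))
 (N (N (N (N (L 9359)
 (L 3094))
 (N (L 12332)
 (L 5525)))
 (N (N (L 15260)
 (L 9160))
 (N (L 7848)
 (L 13924))))
 (N (N (N (L 243)
 (L 10275))
 (N (L 9533)
 (L 7084)))
 (N (N (L 95)
 (L 10465))
 (L 11951)))))
 (N (N (N (N (N (L 2542)
 (L 11324))
 (N (L 1725)
 (L 6471)))
 (N (N (L 9849)
 (L 2938))
 (N (L 13608)
 (L 2858))))
 (N (N (N (L 4875)
 (L 6628))
 (N (L 12720)
 (L 4785)))
 (N (N (L 1621)
 (L 2149))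
 (L 7866))))
 (N (N (N (N (L 12234)
 (L 8354))
 (N (L 10549)
 (L 12090)))
 (N (N (L 11358)
 (L 14827))
 (N (L 13953)
 (L 11142))))
 (N (N (N (L 10268)
 (L 3609))
 (N (L 2902)
 (L 8911)))
 (N (N (L 6410)
 (L 7254))
 (L 9001))))))
 (N (N (N (N (N (N (L 13795)
 (L 5700))
 (N (L 6626)
 (L 4112)))
 (N (N (L 9094)
 (L 14950))
 (N (L 6598)
 (L 4977))))
 (N (N (N (L 13837)
 (L 9578))
 (N (L 3349)
 (L 12951)))
 (N (N (L 10357)
 (L 12009))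
 (L 11693))))
 (N (N (N (N (L 13704)
 (L 7341))
 (N (L 7363)
 (L 3086)))
 (N (N (L 3950)
 (L 103))
 (N (L 3794)
 (L 8734))))
 (N (N (N (L 10966)
 (L 9664))
 (N (L 9666)
 (L 6624)))
 (N (N (L 7455)
 (L 14158))
 (L 10507)))))
 (N (N (N (N (N (L 9526)
 (L 2849))
 (N (L 12268)
 (L 2330)))
 (N (N (L 1740)
 (L 13449))
 (N (L 7845)
 (L 14335))))
 (N (N (N (L 1540)
 (L 5136))
 (N (L 12524)
 (L 12122)))
 (N (N (L 13611)
 (L 11549))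
 (L 8056))))
 (N (N (N (N (L 5344)
 (L 9237))
 (N (L 6537)
 (L 15256)))
 (N (N (L 12862)
 (L 14053))
 (N (L 1120)
 (L 841))))
 (N (N (N (L 7005)
 (L 473))
 (N (L 7955)
 (L 7143)))
 (N (N (L 6563)
 (L 9850))
 (L 11266))))))))
 (N (N (N (N (N (N (N (N (L 2716)
 (L 6161))
 (N (L 11912)
 (L 12266)))
 (N (N (L 2068)
 (L 10257))
 (N (L 4033)
 (L 5809))))
 (N (N (N (L 6859)
 (L 541))
 (N (L 9904)
 (L 2832)))
 (N (N (L 6900)
 (L 11032))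
 (L 2176))))
 (N (N (N (N (L 5590)
 (L 3022))
 (N (L 8002)
 (L 8206)))
 (N (N (L 13191)
 (L 6226))
 (N (L 9822)
 (L 14258))))
 (N (N (N (L 4394)
 (L 9779))
 (N (L 14397)
 (L 6495)))
 (N (N (L 14694)
 (L 10216))
 (L 4621)))))
 (N (N (N (N (N (L 13938)
 (L 1258))
 (N (L 11455)
 (L 10058)))
 (N (N (L 5898)
 (L 3444))
 (N (L 1218)
 (L 14759))))
 (N (N (N (L 7299)
 (L 1839))
 (N (L 14683)
 (L 14798)))
 (N (N (L 13234)
 (L 14485))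
 (L 509))))
 (N (N (N (N (L 8981)
 (L 3372))
 (N (L 5233)
 (L 14251)))
 (N (N (L 15157)
 (L 7533))
 (N (L 7569)
 (L 15364))))
 (N (N (N (L 13239)
 (L 4418))
 (N (L 2910)
 (L 107)))
 (N (N (L 10114)
 (L 11161))
 (L 9240))))))
 (N (N (N (N (N (N (L 8377)
 (L 15290))
 (N (L 14987)
 (L 15192)))
 (N (N (L 260)
 (L 6592))
 (N (L 13830)
 (L 2157))))
 (N (N (N (L 13744)
 (L 5761))
 (N (L 983)
 (L 12142)))
 (N (N (L 9687)
 (L 14329))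
 (L 12554))))
 (N (N (N (N (L 10092)
 (L 10692))
 (N (L 5092)
 (L 6458)))
 (N (N (L 6158)
 (L 11880))
 (N (L 4772)
 (L 18))))
 (N (N (N (L 9949)
 (L 61))
 (N (L 9451)
 (L 13609)))
 (N (N (L 2834)
 (L 5156))
 (L 4010)))))
 (N (N (N (N (N (L 7761)
 (L 8365))
 (N (L 14897)
 (L 2934)))
 (N (N (L 13311)
 (L 13206))
 (N (L 937)
 (L 10718))))
 (N (N (N (L 5629)
 (L 7128))
 (N (L 6970)
 (L 7948)))
 (N (N (L 14123)
 (L 14081))
 (L 14046))))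
 (N (N (N (N (L 1278)
 (L 12178))
 (N (L 2665)
 (L 15259)))
 (N (N (L 11077)
 (L 13431))
 (N (L 5639)
 (L 8747))))
 (N (N (N (L 4309)
 (L 6317))
 (N (L 7368)
 (L 3679)))
 (N (N (L 14000)
 (L 1081))
 (L 11652)))))))
 (N (N (N (N (N (N (N (L 5124)
 (L 12114))
 (N (L 2998)
 (L 15280)))
 (N (N (L 6348)
 (L 14573))
 (N (L 5357)
 (L 10667))))
 (N (N (N (L 7603)
 (L 6570))
 (N (L 11433)
 (L 14401)))
 (N (N (L 5630)
 (L 8765))
 (L 10110))))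
 (N (N (N (N (L 6170)
 (L 3961))
 (N (L 13405)
 (L 8131)))
 (N (N (L 13782)
 (L 11113))
 (N (L 7419)
 (L 2258))))
 (N (N (N (L 2908)
 (L 11555))
 (N (L 4518)
 (L 11688)))
 (N (N (L 11852)
 (L 9327))
 (L 14857)))))
 (N (N (N (N (N (L 5930)
 (L 11934))
 (N (L 1730)
 (L 5193)))
 (N (N (L 6957)
 (L 6551))
 (N (L 1750)
 (L 6506))))
 (N (N (N (L 10565)
 (L 3804))
 (N (L 2398)
 (L 7015)))
 (N (N (L 13344)
 (L 652))
 (L 12665))))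
 (N (N (N (N (L 12057)
 (L 9660))
 (N (L 3678)
 (L 15269)))
 (N (N (L 14367)
 (L 9092))
 (N (L 5711)
 (L 293))))
 (N (N (N (L 12186)
 (L 637))
 (N (L 4100)
 (L 1534)))
 (N (N (L 4809)
 (L 3723))
 (L 14094))))))
 (N (N (N (N (N (N (L 7747)
 (L 4525))
 (N (L 9799)
 (L 7900)))
 (N (N (L 9114)
 (L 7451))
 (N (L 577)
 (L 14607))))
 (N (N (N (L 282)
 (L 655))
 (N (L 4851)
 (L 6762)))
 (N (N (L 10524)
 (L 7274))
 (L 10641))))
 (N (N (N (N (L 1324)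
 (L 5308))
 (N (L 13425)
 (L 9595)))
 (N (N (L 2846)
 (L 1923))
 (N (L 11602)
 (L 12413))))
 (N (N (N (L 1337)
 (L 8299))
 (N (L 6078)
 (L 12061)))
 (N (N (L 1516)
 (L 10750))
 (L 775)))))
 (N (N (N (N (N (L 8876)
 (L 13850))
 (N (L 11402)
 (L 11290)))
 (N (N (L 5962)
 (L 10658))
 (N (L 14181)
 (L 10355))))
 (N (N (N (L 6406)
 (L 7295))
 (N (L 8814)
 (L 13032)))
 (N (N (L 8106)
 (L 4434))
 (L 11336))))
 (N (N (N (N (L 5254)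
 (L 8286))
 (N (L 9303)
 (L 8147)))
 (N (N (L 6936)
 (L 7040))
 (N (L 7134)
 (L 624))))
 (N (N (N (L 2169)
 (L 13307))
 (N (L 1871)
 (L 3370)))
 (N (N (L 5065)
 (L 7180))
 (L 9089))))))))))))))

end CfsgLib.TailsData
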