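import Cfsg.Agent.Lib.Tails.McLTable
import Cfsg.Agent.Lib.Rigid.McLData

/-!
A check of the table for the threefold cover of McL.
-/

set_option autoImplicit false
set_option maxRecDepth 100000
set_option maxHeartbeats 0

namespace CfsgLib.TailsData

theorem mclTableOrd1_ok : mclTable.ordB 1925 1925 = true := by decide +kernel

end CfsgLib.TailsData
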