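import Cfsg.Agent.Lib.Tails.McLThreeData
import Cfsg.Agent.Lib.Rigid.McLData

/-!
# The checks of the certificate at 3 for the multiplier of McL
-/

set_option autoImplicit false
set_option maxRecDepth 100000
set_option maxHeartbeats 0

namespace CfsgLib.Schur.Tails.RigidCert.McL

open CfsgLib.TailsData

theorem three_cert : threeMcLTailCert.checkB = true := by decide +kernel

theorem three_data : primeB CfsgLib.Rigid.McL.data.one
    [CfsgLib.Rigid.McL.data.u, CfsgLib.Rigid.McL.data.v, CfsgLib.Rigid.McL.data.w]
    threeMcLTailOps threeMcLTailGi threeMcLTailHi threeMcLTailLayers threeMcLTailCert = true := by decide +kernel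

theorem three_sizes : threeMcLTailCert.p = 3 ∧ threeMcLTailCert.q = 9 ∧ threeMcLTailCert.n = 6 := by
  refine ⟨?_, ?_, ?_⟩ <;> decide +kernel

end CfsgLib.Schur.Tails.RigidCert.McL
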