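import Cfsg.Agent.Lib.Tails.McLTwoData
import Cfsg.Agent.Lib.Rigid.McLData

/-!
# The checks of the certificate at 2 for the multiplier of McL
-/

set_option autoImplicit false
set_option maxRecDepth 100000
set_option maxHeartbeats 0

namespace CfsgLib.Schur.Tails.RigidCert.McL

open CfsgLib.TailsData

theorem two_cert : twoMcLTailCert.checkB = true := by decide +kernel

theorem two_data : primeB CfsgLib.Rigid.McL.data.one
    [CfsgLib.Rigid.McL.data.u, CfsgLib.Rigid.McL.data.v, CfsgLib.Rigid.McL.data.w]
    twoMcLTailOps twoMcLTailGi twoMcLTailHi twoMcLTailLayers twoMcLTailCert = true := by decide +kernel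

theorem two_sizes : twoMcLTailCert.p = 2 ∧ twoMcLTailCert.q = 2 ∧ twoMcLTailCert.n = 7 ∧ twoMcLTailCert.tau = [] := by
  refine ⟨?_, ?_, ?_, ?_⟩ <;> decide +kernel

end CfsgLib.Schur.Tails.RigidCert.McL
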