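import Cfsg.Agent.Lib.Rigid.McLOut
import Cfsg.Agent.Lib.Tails.McLTwoCheck
import Cfsg.Agent.Lib.Tails.McLThreeCheck
import Cfsg.Agent.Lib.Tails.McLFiveCheck
import Cfsg.Agent.Lib.Tails.SLNine
import Cfsg.Agent.Lib.Tails.McLTableGensCheck
import Cfsg.Agent.Lib.Tails.McLTableTreeACheck
import Cfsg.Agent.Lib.Tails.McLTableTreeBCheck
import Cfsg.Agent.Lib.Tails.McLTableVCheck
import Cfsg.Agent.Lib.Tails.McLTableKCheck
import Cfsg.Agent.Lib.Tails.McLTablePsiCheck
import Cfsg.Agent.Lib.Tails.McLTableRepsCheck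
import Cfsg.Agent.Lib.Tails.McLTablePairCheck
import Cfsg.Agent.Lib.Tails.McLTableOrd0Check
import Cfsg.Agent.Lib.Tails.McLTableOrd1Check
import Cfsg.Agent.Lib.Tails.McLTableOrd2Check
import Cfsg.Agent.Lib.Tails.McLTableOrd3Check
import Cfsg.Agent.Lib.Tails.McLTableOrd4Check
import Cfsg.Agent.Lib.Tails.McLTableOrd5Check
import Cfsg.Agent.Lib.Tails.McLTableOrd6Check
import Cfsg.Agent.Lib.Tails.McLTableOrd7Check
import Cfsg.Agent.Lib.Tails.McLTableX0Check
import Cfsg.Agent.Lib.Tails.McLTableX1Check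
import Cfsg.Agent.Lib.Tails.McLTableX2Check
import Cfsg.Agent.Lib.Tails.McLTableX3Check
import Cfsg.Agent.Lib.Tails.McLTableY0Check
import Cfsg.Agent.Lib.Tails.McLTableY1Check
import Cfsg.Agent.Lib.Tails.McLTableY2Check
import Cfsg.Agent.Lib.Tails.McLTableY3Check

/-!
# The multiplier of McL
-/

set_option autoImplicit false
set_option maxRecDepth 100000

namespace CfsgLib.Schur.Tails.RigidCert.McL

open Cfsg CfsgLib.Rigid CfsgLib.Rigid.McL CfsgLib.TailsData CfsgLib.Schur.Tails.RigidCert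

attribute [local irreducible] twoMcLTailCert threeMcLTailCert fiveMcLTailCert twoMcLTailOps threeMcLTailOps fiveMcLTailOps
  twoMcLTailGi threeMcLTailGi fiveMcLTailGi twoMcLTailHi threeMcLTailHi fiveMcLTailHi twoMcLTailLayers threeMcLTailLayers fiveMcLTailLayers

theorem eq_one_of_full {G : Type*} [Group G] (c : Cod G) : ∀ (Ls : List (ℕ × List ℕ)) (l : List ℕ),
    c.Full l Ls → ∀ g ∈ c.stab l, (∀ L ∈ Ls, img (c.C g) L.1 = L.1) → g = 1
  | [], _, h, g, hg, _ => h g hg
  | L :: Ls, l, h, g, hg, hfix => eq_one_of_full c Ls (L.1 :: l) h.2 g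
      (fun b hb hbp => by
        rcases List.mem_cons.1 hb with rfl | hb
        · exact hfix L List.mem_cons_self
        · exact hg b hb hbp) fun L' hL' => hfix L' (List.mem_cons_of_mem _ hL')

theorem ptOfChain {G : Type*} [Group G] (c : Cod G) {K : Subgroup G} : ∀ (Ls : List (ℕ × List ℕ)) (l : List ℕ),
    c.ChainOK K l Ls → ∀ L ∈ Ls, c.Pt L.1
  | [], _, _, _, hL => absurd hL List.not_mem_nil
  | L :: Ls, l, h, L', hL => by
    rcases List.mem_cons.1 hL with rfl | hL
    · exact h.1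
    · exact ptOfChain c Ls (L.1 :: l) h.2.2.2 L' hL

theorem base_pts : data.levels.map Level.b = [16384, 1009664, 5976064, 5242880, 4718592] := by decide +kernel

theorem table_sizes : mclTable.q = 3 ∧ mclTable.N = 15400 ∧ mclTable.mv = 81 ∧ mclTable.nk = 720 := ⟨rfl, rfl, rfl, rfl⟩

theorem multiplier_grp : Cfsg.HasCyclicSchurMultiplier ↥grp 3 := by
  have := finite_co0
  obtain ⟨U, hU⟩ := exists_gen autU_ok (fun k => (ent_row k).1) fun k => (uu_fixed k).1
  obtain ⟨V, hV⟩ := exists_gen autV_ok (fun k => (ent_row k).2.1) fun k => (uu_fixed k).2.1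
  obtain ⟨W, hW⟩ := exists_gen autW_ok (fun k => (ent_row k).2.2) fun k => (uu_fixed k).2.2
  obtain ⟨cu, cv, cw, c1⟩ := code_ok
  simp only [eqL_iff] at cu cv cw c1
  let c := basis.cod grp grp_fix
  have h1 : c.C 1 = data.one := by
    show basis.cols ((1 : grp) : Co0) = _
    rw [show ((1 : grp) : Co0) = 1 from rfl, basis.cols_one, c1]
  have hlev : c.Levels data.one data.known [] data.levels := by
    refine levels_of_checks basis grp grp_fix _ _ _ baseCoef [] base_ok ?_
    intro i hi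
    have hi' : i < 5 := hi
    interval_cases i
    exacts [level0_ok, level1_ok, level2_ok, level3_ok, level4_ok]
  have hbase : ∀ M ∈ [data.u, data.v, data.w], c.Mem ⊤ M := by
    intro M hM
    simp only [List.mem_cons, List.not_mem_nil, or_false] at hM
    rcases hM with rfl | rfl | rfl
    exacts [⟨U, trivial, hU.trans cu⟩, ⟨V, trivial, hV.trans cv⟩, ⟨W, trivial, hW.trans cw⟩]
  have hchain := c.chain_of_levels h1 (c.slp_sound h1 data.ops _ hbase ops_ok) data.levels [] hlev
  have hfull := (c.full_of_card hchain (by rw [prod_ok, card_grp])).1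
  have hinj : Function.Injective c.C := c.injective_of_full hchain hfull
  have hb : ∀ M ∈ [data.u, data.v, data.w], ∃ g, c.C g = M := fun M hM => (hbase M hM).imp fun g hg => hg.2
  obtain ⟨a2, b2, n2, t2⟩ := two_sizes
  obtain ⟨a3, b3, n3⟩ := three_sizes
  obtain ⟨a5, b5, n5, t5⟩ := five_sizes
  have hbound : ∀ (Γ : Type) [Group Γ] [Finite Γ] (σ : Γ →* ↥grp), Cfsg.IsStemExtension σ →
      IsCyclic σ.ker ∧ Nat.card σ.ker ∣ 3 := by
    intro Γ _ _ σ hσ
    have h9 : ¬ 3 ^ 2 ∣ Nat.card σ.ker := by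
      have : Fact (Nat.Prime 3) := ⟨Nat.prime_three⟩
      have : Fact threeMcLTailCert.p.Prime := ⟨a3 ▸ Nat.prime_three⟩
      exact (realised c hinj h1 hb three_cert three_data (by rw [a3, n3, card_grp]; decide)).sq_not_dvd a3 b3 hσ
    have hne : ∀ p : ℕ, p.Prime → p ≠ 3 → ¬ p ∣ Nat.card σ.ker := by
      intro p hp hp3
      have := Fact.mk hp
      by_cases hp2 : p = 2
      · subst hp2
        have : Fact twoMcLTailCert.p.Prime := ⟨a2 ▸ hp⟩
        exact (realised c hinj h1 hb two_cert two_data (by rw [a2, n2, card_grp]; decide)).not_dvd a2 b2 t2 hσ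
      by_cases hp5 : p = 5
      · subst hp5
        have : Fact fiveMcLTailCert.p.Prime := ⟨a5 ▸ hp⟩
        exact (realised c hinj h1 hb five_cert five_data (by rw [a5, n5, card_grp]; decide)).not_dvd a5 b5 t5 hσ
      refine not_dvd_of_sq hσ fun hsq => ?_
      rw [card_grp, show (898128000 : ℕ) = (2 ^ 7 * 3 ^ 6 * 5 ^ 3) * (7 * 11) by norm_num] at hsq
      have hco : Nat.Coprime (p ^ 2) (2 ^ 7 * 3 ^ 6 * 5 ^ 3) := (Nat.Coprime.mul_right
        (Nat.Coprime.pow 2 7 ((Nat.coprime_primes hp Nat.prime_two).2 hp2))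
        (Nat.Coprime.pow 2 6 ((Nat.coprime_primes hp Nat.prime_three).2 hp3))).mul_right
        (Nat.Coprime.pow 2 3 ((Nat.coprime_primes hp Nat.prime_five).2 hp5))
      have hsf : Squarefree (7 * 11) := by
        rw [Nat.squarefree_mul (by norm_num)]
        exact ⟨(by norm_num : Nat.Prime 7).squarefree, (by norm_num : Nat.Prime 11).squarefree⟩
      exact hp.not_isUnit (hsf p (by rw [← pow_two]; exact hco.dvd_of_dvd_mul_left hsq))
    have hdvd : Nat.card σ.ker ∣ 3 := by
      rw [Nat.dvd_iff_prime_pow_dvd_dvd]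
      intro p k hp hpk
      rcases Nat.eq_zero_or_pos k with rfl | hk
      · simp
      obtain rfl : p = 3 := by
        by_contra hne2
        exact hne p hp hne2 ((dvd_pow_self p hk.ne').trans hpk)
      have : k ≤ 1 := by
        by_contra hcon
        exact h9 ((pow_dvd_pow 3 (by omega)).trans hpk)
      exact (pow_dvd_pow 3 this).trans (by norm_num)
    refine ⟨?_, hdvd⟩
    rcases (Nat.dvd_prime Nat.prime_three).1 hdvd with h | h
    · have : Subsingleton σ.ker := (Nat.card_eq_one_iff_unique.1 h).1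
      infer_instance
    · have : Fact (Nat.Prime 3) := ⟨Nat.prime_three⟩
      exact isCyclic_of_prime_card (p := 3) h
  refine hasCyclic_of_bound ?_ hbound
  have : NeZero mclTable.q := ⟨show (3 : ℕ) ≠ 0 by decide⟩
  refine CodTable.exists_stem (c := c) mclTable [16384, 1009664, 5976064, 5242880, 4718592] [data.u, data.v, data.w]
    (fun g h hgh => ?_) h1 hb ?_ mclTableGens_ok mclTableTreeA_ok mclTableTreeB_ok mclTableV_ok mclTableK_ok
    mclTablePsi_ok mclTableReps_ok ?_ ?_ ?_ mclTablePair_ok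
  · have hone : g⁻¹ * h = 1 := eq_one_of_full c _ [] hfull _ (fun b hb => absurd hb (by simp)) fun L hL => by
      obtain ⟨L0, hL0, rfl⟩ := List.mem_map.1 hL
      have hmem : L0.b ∈ [16384, 1009664, 5976064, 5242880, 4718592] :=
        base_pts ▸ List.mem_map.2 ⟨L0, hL0, rfl⟩
      show img (c.C (g⁻¹ * h)) L0.b = L0.b
      rw [c.img_mul, ← hgh _ hmem]
      exact c.img_inv_img g (ptOfChain c _ [] hchain _ hL)
    exact (inv_mul_eq_one.1 hone)
  · rw [table_sizes.2.1, table_sizes.2.2.1, table_sizes.2.2.2, card_grp]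
  · intro i hi
    rw [table_sizes.2.1] at hi
    by_cases h0 : i < 1925
    · exact ⟨0, 1925, by omega, h0, mclTableOrd0_ok⟩
    by_cases h1 : i < 3850
    · exact ⟨1925, 1925, by omega, h1, mclTableOrd1_ok⟩
    by_cases h2 : i < 5775
    · exact ⟨3850, 1925, by omega, h2, mclTableOrd2_ok⟩
    by_cases h3 : i < 7700
    · exact ⟨5775, 1925, by omega, h3, mclTableOrd3_ok⟩
    by_cases h4 : i < 9625
    · exact ⟨7700, 1925, by omega, h4, mclTableOrd4_ok⟩
    by_cases h5 : i < 11550
    · exact ⟨9625, 1925, by omega, h5, mclTableOrd5_ok⟩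
    by_cases h6 : i < 13475
    · exact ⟨11550, 1925, by omega, h6, mclTableOrd6_ok⟩
    exact ⟨13475, 1925, by omega, by omega, mclTableOrd7_ok⟩
  · intro i hi
    rw [table_sizes.2.1] at hi
    by_cases h0 : i < 3850
    · exact ⟨0, 3850, by omega, h0, mclTableX0_ok⟩
    by_cases h1 : i < 7700
    · exact ⟨3850, 3850, by omega, h1, mclTableX1_ok⟩
    by_cases h2 : i < 11550
    · exact ⟨7700, 3850, by omega, h2, mclTableX2_ok⟩
    exact ⟨11550, 3850, by omega, by omega, mclTableX3_ok⟩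
  · intro i hi
    rw [table_sizes.2.1] at hi
    by_cases h0 : i < 3850
    · exact ⟨0, 3850, by omega, h0, mclTableY0_ok⟩
    by_cases h1 : i < 7700
    · exact ⟨3850, 3850, by omega, h1, mclTableY1_ok⟩
    by_cases h2 : i < 11550
    · exact ⟨7700, 3850, by omega, h2, mclTableY2_ok⟩
    exact ⟨11550, 3850, by omega, by omega, mclTableY3_ok⟩

theorem multiplier_spor : Cfsg.HasCyclicSchurMultiplier ↥Cfsg.Spor.McL 3 := by
  have := finite_co0
  exact hasCyclic_congr CfsgLib.Rigid.McL.sporEquiv.symm multiplier_grp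

end CfsgLib.Schur.Tails.RigidCert.McL
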