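import Cfsg.Agent.Lib.Tails.OSevenModel
import Cfsg.Agent.Lib.Tails.OSevenCertData
import Cfsg.Agent.Lib.Tails.Coded

/-!
# Checks of the certificates for the orthogonal group of dimension seven over three elements
-/

set_option autoImplicit false
set_option maxRecDepth 100000
set_option exponentiation.threshold 4000

namespace CfsgLib.Schur.Tails.OSeven

open Cfsg.Lie CfsgLib.Golay CfsgLib.TailsData G2Mat

/-- The data at one prime; the program starts from the four generators. -/
noncomputable def primeB (c : Cert) (gens hs : List ℕ) (stp : List (ℕ × Bool × ℕ × ℕ)) : Bool :=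
  Coded.relsB opsG [oneUG] gens c hs && Bsgs.slpCheck opsG oSevenGenCodes stp &&
    (gens ++ hs).all fun g => (oSevenGenCodes ++ stp.map (·.1)).contains g

/-- Evaluate the entries of a list before use. -/
noncomputable def force1 (L : List ℕ) : List ℕ :=
  List.rec (motive := fun _ => List ℕ) [] (fun x _ ih => forceG x fun y => y :: ih) L

/-- The images of a vector under the products of the generators, each taken less than `p` times. -/
noncomputable def imgsP (p : ℕ) : List ℕ → ℕ → List ℕ
  | [], v => [v]
  | g :: gs, v => forceG (loG g) fun A =>
    let r := imgsP p gs v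
    Nat.rec (motive := fun _ => List ℕ → List ℕ) (fun _ => [])
      (fun _ ih l => l ++ ih (force1 (l.map fun x => apV A x))) p r

/-- The bits separate the entries. -/
noncomputable def sepB : List ℕ → List ℕ → Bool
  | _, [] => true
  | _, [_] => true
  | [], _ => false
  | i :: B, l => sepB B (force1 (l.filter fun x => Nat.beq (Nat.land x i) 0)) &&
      sepB B (force1 (l.filter fun x => !Nat.beq (Nat.land x i) 0))

/-- The images of the vector are different. -/
noncomputable def orbitB (p : ℕ) (gens use : List ℕ) (v : ℕ) (bits : List ℕ) (m : ℕ) : Bool :=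
  forceG v fun v =>
    let E := imgsP p (use.map fun i => gens.getD i oneUG) v
    smallB 14 v && (use.all fun i => Nat.blt i gens.length) && Nat.ble m E.length && sepB bits E

/-- A word fixes the vector and has order above two. -/
noncomputable def fixB (gens w : List ℕ) (v : ℕ) : Bool :=
  (w.all fun i => Nat.blt i gens.length) &&
    forceG (loG (Coded.evO opsG gens w)) fun A =>
      Nat.beq (apV A v) v && !Nat.beq A oneG && !Nat.beq (mulG A A) oneG

theorem two_cert : twoOSevenCert.checkB = true := by decide +kernel

theorem three_cert : threeOSevenCert.checkB = true := by decide +kernel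

theorem two_data : primeB twoOSevenCert twoOSevenGens twoOSevenHs twoOSevenSlp = true := by decide +kernel

theorem three_data : primeB threeOSevenCert threeOSevenGens threeOSevenHs threeOSevenSlp = true := by
  decide +kernel

theorem two_orbit : orbitB 2 twoOSevenGens twoOSevenUse twoOSevenVec twoOSevenBits 512 = true := by
  decide +kernel

theorem three_orbit : orbitB 3 threeOSevenGens threeOSevenUse threeOSevenVec threeOSevenBits 6561 = true := by
  decide +kernel

theorem three_fix : fixB threeOSevenGens threeOSevenFix threeOSevenVec = true := by decide +kernel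

theorem cert_sizes : (twoOSevenCert.p = 2 ∧ twoOSevenCert.q = 4 ∧ twoOSevenCert.n = 9) ∧
    (threeOSevenCert.p = 3 ∧ threeOSevenCert.q = 9 ∧ threeOSevenCert.n = 9) := by
  refine ⟨⟨?_, ?_, ?_⟩, ?_, ?_, ?_⟩ <;> decide +kernel

end CfsgLib.Schur.Tails.OSeven
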