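import Cfsg.Agent.Lib.Tails.OSevenSimple
import Cfsg.Agent.Lib.Tails.OSevenCertChecks
import Cfsg.Agent.Lib.Tails.AltBasic

/-!
# The bound on the multiplier of the orthogonal group of dimension seven over three elements
-/

set_option autoImplicit false
set_option maxRecDepth 100000
set_option exponentiation.threshold 4000

namespace CfsgLib.Schur.Tails.OSeven

open Cfsg.Lie CfsgLib.Golay CfsgLib.TailsData Matrix Subgroup G2Mat

attribute [local irreducible] oSevenGenCodes twoOSevenCert threeOSevenCert twoOSevenGens threeOSevenGens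
  twoOSevenHs threeOSevenHs twoOSevenSlp threeOSevenSlp twoOSevenUse threeOSevenUse twoOSevenVec
  threeOSevenVec twoOSevenBits threeOSevenBits threeOSevenFix PackPerm.getP PackPerm.pack

theorem force1_eq : ∀ L : List ℕ, force1 L = L
  | [] => rfl
  | a :: L => by
    show forceG a (fun y => y :: force1 L) = _
    rw [forceG_eq, force1_eq L]

theorem sepB_nodup : ∀ (B : List ℕ) (l : List ℕ), sepB B l = true → l.Nodup := by
  intro B
  induction B with
  | nil =>
    intro l h
    match l with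
    | [] => simp
    | [_] => simp
    | _ :: _ :: _ => simp [sepB] at h
  | cons i B ih =>
    intro l h
    match l with
    | [] => simp
    | [_] => simp
    | a :: b :: r =>
      simp only [sepB, force1_eq, Bool.and_eq_true] at h
      have h1 := ih _ h.1
      have h2 := ih _ h.2
      refine List.nodup_iff_count_le_one.2 fun x => ?_
      cases hx : Nat.beq (Nat.land x i) 0
      · rw [← List.count_filter (p := fun x => !Nat.beq (Nat.land x i) 0)
          (show (!Nat.beq (Nat.land x i) 0) = true by rw [hx]; rfl)]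
        exact List.nodup_iff_count_le_one.1 h2 x
      · rw [← List.count_filter (p := fun x => Nat.beq (Nat.land x i) 0) hx]
        exact List.nodup_iff_count_le_one.1 h1 x

/-- A vector code which is an image of `v` under the subgroup. -/
def Img (K : Subgroup (GL chevG2.Idx (ZMod 3))) (v x : ℕ) : Prop :=
  smallB 14 x = true ∧ ∃ k ∈ K, vec3 x = (k : Matrix chevG2.Idx chevG2.Idx (ZMod 3)) *ᵥ vec3 v

theorem Img.step {K : Subgroup (GL chevG2.Idx (ZMod 3))} {v x g : ℕ} (hok : opsG.ok g = true)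
    (hgK : opsG.val g ∈ K) (h : Img K v x) : Img K v (apV (loG g) x) := by
  obtain ⟨hx, k, hk, e⟩ := h
  have hA := lanes (okG_iff.1 hok).1
  have hx' := (smallB_iff.1 hx).2
  refine ⟨smallB_iff.2 ⟨apV_lt _ _, fun i hi => by
    rw [getP_apV hA hx' hi]; exact Nat.mod_lt _ (by norm_num)⟩, opsG.val g * k, mul_mem hgK hk, ?_⟩
  rw [← mat3_mulVec hA hx', e, Units.val_mul, ← mulVec_mulVec,
    show (opsG.val g : Matrix chevG2.Idx chevG2.Idx (ZMod 3)) = mat3 (loG g) from valG_val hok]

theorem imgsP_img {K : Subgroup (GL chevG2.Idx (ZMod 3))} {p v : ℕ} (hv : smallB 14 v = true) :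
    ∀ gs : List ℕ, (∀ g ∈ gs, opsG.ok g = true ∧ opsG.val g ∈ K) → ∀ x ∈ imgsP p gs v, Img K v x := by
  intro gs
  induction gs with
  | nil =>
    intro _ x hx
    rw [imgsP, List.mem_singleton] at hx
    subst hx
    exact ⟨hv, 1, one_mem K, by rw [Units.val_one, one_mulVec]⟩
  | cons g gs ih =>
    intro hgs
    have ih := ih fun y hy => hgs y (List.mem_cons_of_mem _ hy)
    obtain ⟨hok, hgK⟩ := hgs g List.mem_cons_self
    rw [imgsP, forceG_eq]
    show ∀ x ∈ Nat.rec (motive := fun _ => List ℕ → List ℕ) (fun _ => [])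
      (fun _ ih l => l ++ ih (force1 (l.map fun x => apV (loG g) x))) p (imgsP p gs v), Img K v x
    have key : ∀ (n : ℕ) (l : List ℕ), (∀ x ∈ l, Img K v x) →
        ∀ x ∈ Nat.rec (motive := fun _ => List ℕ → List ℕ) (fun _ => [])
          (fun _ ih l => l ++ ih (force1 (l.map fun x => apV (loG g) x))) n l, Img K v x := by
      intro n
      induction n with
      | zero => intro l _ x hx; simp at hx
      | succ n ihn =>
        intro l hl x hx
        rcases List.mem_append.1 hx with hx | hx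
        · exact hl x hx
        · refine ihn _ (fun y hy => ?_) x hx
          rw [force1_eq, List.mem_map] at hy
          obtain ⟨z, hz, rfl⟩ := hy
          exact (hl z hz).step hok hgK
    exact key p _ ih

/-- The listed images, with elements giving them. -/
theorem orbit_elems {p m v : ℕ} {gens use bits : List ℕ} (h : orbitB p gens use v bits m = true)
    {K : Subgroup (GL chevG2.Idx (ZMod 3))} (hg : ∀ g ∈ gens, opsG.ok g = true ∧ opsG.val g ∈ K) :
    ∃ (n : ℕ) (k : Fin n → K), m ≤ n ∧ Function.Injective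
      fun i => ((k i : GL chevG2.Idx (ZMod 3)) : Matrix chevG2.Idx chevG2.Idx (ZMod 3)) *ᵥ vec3 v := by
  simp only [orbitB, forceG_eq, Bool.and_eq_true, Nat.ble_eq, List.all_eq_true, Nat.blt_eq] at h
  obtain ⟨⟨⟨hv, huse⟩, hlen⟩, hsep⟩ := h
  have hnd := sepB_nodup _ _ hsep
  have hgs : ∀ g ∈ use.map (fun i => gens.getD i oneUG), opsG.ok g = true ∧ opsG.val g ∈ K := by
    intro g hg'
    obtain ⟨i, hi, rfl⟩ := List.mem_map.1 hg'
    rw [List.getD_eq_getElem _ _ (huse i hi)]
    exact hg _ (List.getElem_mem _)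
  choose hs k hk he using fun i : Fin (imgsP p (use.map fun i => gens.getD i oneUG) v).length =>
    imgsP_img hv _ hgs _ (List.getElem_mem i.isLt)
  refine ⟨_, fun i => ⟨k i, hk i⟩, hlen, fun i j e => ?_⟩
  exact Fin.ext (hnd.getElem_inj_iff.1 (vec3_inj (hs i) (hs j) (by rw [he i, he j]; exact e)))

theorem le_card_orbit {p m v : ℕ} {gens use bits : List ℕ} (h : orbitB p gens use v bits m = true)
    {K : Subgroup (GL chevG2.Idx (ZMod 3))} (hg : ∀ g ∈ gens, opsG.ok g = true ∧ opsG.val g ∈ K) :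
    m ≤ Nat.card K := by
  obtain ⟨n, k, hn, hk⟩ := orbit_elems h hg
  refine hn.trans ?_
  rw [← Nat.card_fin n]
  exact Nat.card_le_card_of_injective k fun i j e => hk (by simp only [e])

theorem le_card_orbit_fix {p m v : ℕ} {gens use bits w : List ℕ} (h : orbitB p gens use v bits m = true)
    (hf : fixB gens w v = true) {K : Subgroup (GL chevG2.Idx (ZMod 3))}
    (hg : ∀ g ∈ gens, opsG.ok g = true ∧ opsG.val g ∈ K) : m * 3 ≤ Nat.card K := by
  obtain ⟨n, k, hn, hk⟩ := orbit_elems h hg
  have hv : smallB 14 v = true := by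
    simp only [orbitB, forceG_eq, Bool.and_eq_true] at h
    exact h.1.1.1
  simp only [fixB, forceG_eq, Bool.and_eq_true, List.all_eq_true, Nat.blt_eq, Nat.beq_eq,
    Bool.not_eq_true'] at hf
  obtain ⟨hw, ⟨hfix, h1⟩, h2⟩ := hf
  obtain ⟨hok, hval⟩ := Coded.evO_spec (O := opsG) (fun g hg' => (hg g hg').1) w
  set c := Coded.evO opsG gens w
  have hfK : opsG.val c ∈ K := by
    rw [hval, evW]
    refine list_prod_mem fun g hg' => ?_
    obtain ⟨i, hi, rfl⟩ := List.mem_map.1 hg'
    rw [List.getD_eq_getElem _ _ (hw i hi)]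
    exact (hg _ (List.getElem_mem _)).2
  set f : K := ⟨opsG.val c, hfK⟩
  have hfM : ((f : GL chevG2.Idx (ZMod 3)) : Matrix chevG2.Idx chevG2.Idx (ZMod 3)) = mat3 (loG c) :=
    valG_val hok
  have hsm : smallB 196 (loG c) = true := (okG_iff.1 hok).1
  have hone : smallB 196 oneG = true := by decide +kernel
  have hfv : ((f : GL chevG2.Idx (ZMod 3)) : Matrix chevG2.Idx chevG2.Idx (ZMod 3)) *ᵥ vec3 v = vec3 v := by
    rw [hfM, mat3_mulVec (lanes hsm) (smallB_iff.1 hv).2, hfix]
  have hf1 : f ≠ 1 := fun e => by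
    have : mat3 (loG c) = mat3 oneG := by rw [← hfM, e, mat3_oneG]; rfl
    rw [mat3_inj (smallB_iff.1 hsm).1 (lanes hsm) (smallB_iff.1 hone).1 (lanes hone) this, Nat.beq_refl] at h1
    exact Bool.noConfusion h1
  have hf2 : f * f ≠ 1 := fun e => by
    have : mat3 (mulG (loG c) (loG c)) = mat3 oneG := by
      rw [mat3_mulG (lanes hsm) (lanes hsm), ← hfM, ← Units.val_mul, ← Subgroup.coe_mul, e, mat3_oneG]
      rfl
    rw [mat3_inj (mulG_lt _ _) (lanes (mulG_smallB hsm hsm)) (smallB_iff.1 hone).1 (lanes hone) this,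
      Nat.beq_refl] at h2
    exact Bool.noConfusion h2
  let r : Fin 3 → K := ![1, f, f * f]
  have hr : Function.Injective r := by
    intro a b e
    fin_cases a <;> fin_cases b <;> simp [r, hf1, hf1.symm, hf2, hf2.symm] at e ⊢
  have hrv : ∀ a, ((r a : GL chevG2.Idx (ZMod 3)) : Matrix chevG2.Idx chevG2.Idx (ZMod 3)) *ᵥ vec3 v = vec3 v := by
    intro a
    fin_cases a
    · simp [r]
    · simpa [r] using hfv
    · simp [r, ← mulVec_mulVec, hfv]
  refine (Nat.mul_le_mul_right 3 hn).trans ?_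
  rw [show n * 3 = Nat.card (Fin n × Fin 3) by simp]
  refine Nat.card_le_card_of_injective (fun z => k z.1 * r z.2) fun a b e => ?_
  have e' := congrArg (fun g : K =>
    ((g : GL chevG2.Idx (ZMod 3)) : Matrix chevG2.Idx chevG2.Idx (ZMod 3)) *ᵥ vec3 v) e
  simp only [Subgroup.coe_mul, Units.val_mul, ← mulVec_mulVec, hrv] at e'
  have h0 : a.1 = b.1 := hk e'
  refine Prod.ext h0 (hr (mul_left_cancel (a := k a.1) ?_))
  rw [show k a.1 * r a.2 = k b.1 * r b.2 from e, h0]

theorem realised {c : Cert} {gens hs : List ℕ} {stp : List (ℕ × Bool × ℕ × ℕ)} (hc : c.checkB = true)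
    (h : primeB c gens hs stp = true)
    (hsize : ∀ K : Subgroup (GL chevG2.Idx (ZMod 3)),
      (∀ g ∈ gens, opsG.ok g = true ∧ opsG.val g ∈ K) → c.p ^ c.n ≤ Nat.card K)
    (hdiv : ¬ c.p ^ (c.n + 1) ∣ Nat.card ↥H7) : c.Realised ↥H7 := by
  simp only [primeB, Bool.and_eq_true, List.all_eq_true, List.contains_iff_mem] at h
  obtain ⟨⟨hr, hslp⟩, hall⟩ := h
  have hb : ∀ b ∈ oSevenGenCodes, opsG.ok b = true ∧ opsG.val b ∈ H7 := fun b hb =>
    ⟨genCodes_ok b hb, subset_closure ⟨b, hb, rfl⟩⟩
  have hmem : ∀ g ∈ gens ++ hs, opsG.ok g = true ∧ opsG.val g ∈ H7 :=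
    fun g hg => Bsgs.slp_sound opsG _ hslp hb g (hall g hg)
  refine Coded.realised (O := opsG) (H := H7) (MonoidHom.id ↥H7) hc
    (fun g hg => (hmem g (List.mem_append_left _ hg)).2)
    (fun g hg => (hmem g (List.mem_append_right _ hg)).2) (fun z hz => ?_) hr (fun g hg => ?_) hdiv
  · rw [List.mem_singleton.1 hz]
    exact ⟨by rw [show opsG.val oneUG = 1 from opsG.val_one]; exact one_mem _, Subtype.ext opsG.val_one⟩
  · show c.p ^ c.n ≤ Nat.card (Subgroup.closure (g '' {k | k < c.n}))
    rw [← Subgroup.card_map_of_injective H7.subtype_injective]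
    refine hsize _ fun x hx => ?_
    obtain ⟨i, hi, rfl⟩ := List.getElem_of_mem hx
    refine ⟨(hmem _ (List.mem_append_left _ (List.getElem_mem hi))).1, g i, ?_, ?_⟩
    · have hlen : gens.length = c.n := by
        simp only [Coded.relsB, Bool.and_eq_true, decide_eq_true_eq] at hr
        exact hr.1.1.1.2
      exact Subgroup.subset_closure ⟨i, show i < c.n by omega, rfl⟩
    · show (g i : GL chevG2.Idx (ZMod 3)) = _
      rw [hg i hi, List.getD_eq_getElem _ _ hi]

theorem bound {Γ : Type} [Group Γ] [Finite Γ] (σ : Γ →* ↥H7) (hσ : Cfsg.IsStemExtension σ) :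
    IsCyclic σ.ker ∧ Nat.card σ.ker ∣ 6 := by
  have := H7_finite
  obtain ⟨⟨a2, b2, n2⟩, a3, b3, n3⟩ := cert_sizes
  refine Alt.bound_six hσ ?_ ?_ fun p hp hp2 hp3 => ?_
  · have : Fact (Nat.Prime 2) := ⟨Nat.prime_two⟩
    have : Fact twoOSevenCert.p.Prime := ⟨a2 ▸ Nat.prime_two⟩
    exact (realised two_cert two_data (fun K hK => by
      rw [a2, n2]; exact le_card_orbit two_orbit hK)
      (by rw [a2, n2, card_H7]; decide)).sq_not_dvd a2 b2 hσ
  · have : Fact (Nat.Prime 3) := ⟨Nat.prime_three⟩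
    have : Fact threeOSevenCert.p.Prime := ⟨a3 ▸ Nat.prime_three⟩
    exact (realised three_cert three_data (fun K hK => by
      rw [a3, n3]; exact le_card_orbit_fix three_orbit three_fix hK)
      (by rw [a3, n3, card_H7]; decide)).sq_not_dvd a3 b3 hσ
  · have := Fact.mk hp
    refine not_dvd_of_sq hσ fun hsq => ?_
    rw [card_H7, show (4585351680 : ℕ) = (2 ^ 9 * 3 ^ 9) * (5 * (7 * 13)) by norm_num] at hsq
    have hco : Nat.Coprime (p ^ 2) (2 ^ 9 * 3 ^ 9) := Nat.Coprime.mul_right
      (Nat.Coprime.pow 2 9 ((Nat.coprime_primes hp Nat.prime_two).2 hp2))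
      (Nat.Coprime.pow 2 9 ((Nat.coprime_primes hp Nat.prime_three).2 hp3))
    have hsf : Squarefree (5 * (7 * 13)) := by
      rw [Nat.squarefree_mul (by norm_num), Nat.squarefree_mul (by norm_num)]
      exact ⟨(by norm_num : Nat.Prime 5).squarefree, (by norm_num : Nat.Prime 7).squarefree,
        (by norm_num : Nat.Prime 13).squarefree⟩
    exact hp.not_isUnit (hsf p (by rw [← pow_two]; exact hco.dvd_of_dvd_mul_left hsq))

end CfsgLib.Schur.Tails.OSeven
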