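import Cfsg.Agent.Lib.Tails.OSevenSpinChecks
import Cfsg.Agent.Lib.Tails.OSevenTriple

/-!
# The double cover of the orthogonal group of dimension seven over three elements
-/

set_option autoImplicit false
set_option maxRecDepth 100000
set_option exponentiation.threshold 4000

namespace CfsgLib.Schur.Tails.OSeven.Spin

open Cfsg.Lie CfsgLib.Golay CfsgLib.TailsData Matrix Subgroup G2Mat OSeven
open OSeven.Triple (vecZ actF pt_small negV_small vec3_negV vecZ_sep)
open scoped commutatorElement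
open CfsgLib.Chev.TwG2.Three (eT)

attribute [local irreducible] oSevenGenCodes oSevenPts oSevenActs oSevenInvs oSevenSpinGens oSevenGammas
  oSevenMinus oSevenDiagWords oSevenMoveWords oSevenSpinWords PackPerm.getP PackPerm.pack getW
  mulG apV valG loG mulUG

/-- The matrices. -/
abbrev M14 : Type := Matrix chevG2.Idx chevG2.Idx (ZMod 3)

/-- Pairs of a matrix on vectors and one on spinors. -/
abbrev Amb : Type := GL chevG2.Idx (ZMod 3) × GL chevG2.Idx (ZMod 3)

/-- The central involution. -/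
noncomputable def JM : M14 := mat3 (loG oSevenMinus)

/-- The operator of a point. -/
noncomputable def gam (x : Fin 378) : M14 := mat3 (gammaA x.val)

/-- A further basis vector. -/
noncomputable def tailV (j : Fin 6) : chevG2.Idx → ZMod 3 := vec3 (256 ^ (8 + j.val))

/-- The first basis spinor. -/
noncomputable def vac : chevG2.Idx → ZMod 3 := vec3 1

/-- The invariant. -/
def GoodP (g : Amb) : Prop :=
  (g.2 : M14) * JM = JM * (g.2 : M14) ∧ (∀ j, (g.2 : M14) *ᵥ tailV j = tailV j) ∧
    ∃ π : Fin 378 → Fin 378, ∀ x,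
      ((g.1 : M14) *ᵥ vecZ x = vecZ (π x) ∧ (g.2 : M14) * gam x = gam (π x) * (g.2 : M14)) ∨
      ((g.1 : M14) *ᵥ vecZ x = -vecZ (π x) ∧ (g.2 : M14) * gam x = JM * (gam (π x) * (g.2 : M14)))

theorem spin_facts : (∀ c ∈ oSevenSpinGens, okG c = true) ∧ oSevenSpinGens.length = 4 ∧
    (∀ c ∈ oSevenGammas, okG c = true) ∧ okG oSevenMinus = true ∧
    (∀ w ∈ oSevenDiagWords ++ oSevenMoveWords, ∀ x ∈ w, x < 378) ∧ oSevenGammas.length = 378 ∧
    mulG (loG oSevenMinus) (loG oSevenMinus) = oneG := by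
  have h := spin_checks.1
  simp only [spinB, Bool.and_eq_true, List.all_eq_true, Nat.blt_eq, Nat.beq_eq, beq_iff_eq] at h
  exact ⟨h.1.1.1.1.1.1.1.1.1, h.1.1.1.1.1.1.1.1.2, h.1.1.1.1.1.1.1.2, h.1.1.1.1.1.1.2, h.1.1.1.1.1.2,
    h.1.1.1.1.2, h.1.1.1.2⟩

theorem ok_lanes {c : ℕ} (h : okG c = true) : ∀ m < 196, PackPerm.getP (loG c) m < 3 :=
  lanes (okG_iff.1 h).1

theorem minus_sq : JM * JM = 1 := by
  rw [JM, ← mat3_mulG (ok_lanes spin_facts.2.2.2.1) (ok_lanes spin_facts.2.2.2.1), spin_facts.2.2.2.2.2.2,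
    mat3_oneG]

theorem gamma_ok (x : Fin 378) : okG (oSevenGammas.getD x.val oneUG) = true := by
  have hl : x.val < oSevenGammas.length := spin_facts.2.2.2.2.2.1.symm ▸ x.isLt
  rw [List.getD_eq_getElem _ _ hl]
  exact spin_facts.2.2.1 _ (List.getElem_mem hl)

theorem spin_ok {k : ℕ} (hk : k < 4) : okG (oSevenSpinGens.getD k oneUG) = true := by
  have hl : k < oSevenSpinGens.length := spin_facts.2.1.symm ▸ hk
  rw [List.getD_eq_getElem _ _ hl]
  exact spin_facts.1 _ (List.getElem_mem hl)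

theorem gen_ok {k : ℕ} (hk : k < 4) : okG (oSevenGenCodes.getD k oneUG) = true := by
  have hl : k < oSevenGenCodes.length := length_gens.symm ▸ hk
  rw [List.getD_eq_getElem _ _ hl]
  exact genCodes_ok _ (List.getElem_mem hl)

theorem goodP_one : GoodP 1 :=
  ⟨by simp, fun j => by simp, id, fun x => Or.inl ⟨by simp, by simp⟩⟩

theorem goodP_mul {g h : Amb} (hg : GoodP g) (hh : GoodP h) : GoodP (g * h) := by
  obtain ⟨gJ, gT, π, gP⟩ := hg
  obtain ⟨hJ, hT, π', hP⟩ := hh
  refine ⟨?_, fun j => ?_, π ∘ π', fun x => ?_⟩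
  · rw [Prod.snd_mul, Units.val_mul, mul_assoc, hJ, ← mul_assoc, gJ, mul_assoc]
  · rw [Prod.snd_mul, Units.val_mul, ← mulVec_mulVec, hT, gT]
  · rw [Prod.fst_mul, Prod.snd_mul, Units.val_mul, Units.val_mul, ← mulVec_mulVec, Function.comp_apply]
    rcases hP x with ⟨a1, a2⟩ | ⟨a1, a2⟩ <;> rcases gP (π' x) with ⟨b1, b2⟩ | ⟨b1, b2⟩ <;> rw [a1]
    · exact Or.inl ⟨b1, by rw [mul_assoc, a2, ← mul_assoc, b2, mul_assoc]⟩
    · exact Or.inr ⟨b1, by rw [mul_assoc, a2, ← mul_assoc, b2, mul_assoc, mul_assoc]⟩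
    · refine Or.inr ⟨by rw [mulVec_neg, b1], ?_⟩
      rw [mul_assoc, a2, ← mul_assoc, gJ, mul_assoc, ← mul_assoc (g.2 : M14), b2, mul_assoc]
    · refine Or.inl ⟨by rw [mulVec_neg, b1, neg_neg], ?_⟩
      rw [mul_assoc, a2, ← mul_assoc, gJ, mul_assoc, ← mul_assoc (g.2 : M14), b2, ← mul_assoc, ← mul_assoc,
        minus_sq, one_mul, mul_assoc]

/-- The lift of a generator. -/
noncomputable def liftS (k : ℕ) : Amb :=
  (valG (oSevenGenCodes.getD k oneUG), valG (oSevenSpinGens.getD k oneUG))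

theorem goodP_lift {k : ℕ} (hk : k < 4) : GoodP (liftS k) := by
  have hc : cliffB k = true := by
    obtain ⟨a0, a1, a2, a3⟩ := cliff_checks
    interval_cases k <;> assumption
  have ha : actB k = true := by
    obtain ⟨a0, a1, a2, a3⟩ := act_checks
    interval_cases k <;> assumption
  simp only [cliffB, forceG_eq, Bool.and_eq_true, Bool.or_eq_true, List.all_eq_true, List.mem_range,
    Nat.beq_eq] at hc
  simp only [actB, forceG_eq, List.all_eq_true, List.mem_range, Bool.and_eq_true, Bool.or_eq_true,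
    Nat.blt_eq, Nat.beq_eq] at ha
  obtain ⟨⟨hJ, hT⟩, hP⟩ := hc
  have e2 : ((liftS k).2 : M14) = mat3 (spinA k) := valG_val (spin_ok hk)
  have e1 : ((liftS k).1 : M14) = mat3 (loG (oSevenGenCodes.getD k oneUG)) := valG_val (gen_ok hk)
  have lS : ∀ m < 196, PackPerm.getP (spinA k) m < 3 := ok_lanes (spin_ok hk)
  have lJ := ok_lanes spin_facts.2.2.2.1
  have hpow : ∀ j < 6, ∀ m < 14, PackPerm.getP (256 ^ (8 + j)) m < 3 := by decide +kernel
  refine ⟨?_, fun j => ?_, actF (oSevenActs.getD k 0), fun x => ?_⟩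
  · rw [e2, JM, ← mat3_mulG lS lJ, ← mat3_mulG lJ lS, hJ]
  · rw [e2, tailV, mat3_mulVec lS (hpow j.val j.isLt), hT j.val j.isLt]
  · have hA : (actF (oSevenActs.getD k 0) x).val = getW (oSevenActs.getD k 0) x.val := by
      rw [actF, dif_pos (ha x.val x.isLt).1.1.1.1]
    have hv : ((liftS k).1 : M14) *ᵥ vecZ x =
        vec3 (apV (loG (oSevenGenCodes.getD k oneUG)) (ptV x.val)) := by
      rw [e1, vecZ, mat3_mulVec (ok_lanes (gen_ok hk)) (smallB_iff.1 (pt_small x)).2]
    have lC : ∀ y : Fin 378, ∀ m < 196, PackPerm.getP (gammaA y.val) m < 3 := fun y => ok_lanes (gamma_ok y)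
    set y := actF (oSevenActs.getD k 0) x with hy
    have hw : smallB 14 (ptV y.val) = true := pt_small y
    rcases hP x.val x.isLt with ⟨h1, h2⟩ | ⟨h1, h2⟩
    · rw [← hA] at h1 h2
      refine Or.inl ⟨by rw [hv, h1]; rfl, ?_⟩
      rw [e2, gam, gam, ← mat3_mulG lS (lC x), ← mat3_mulG (lC y) lS, h2]
    · rw [← hA] at h1 h2
      refine Or.inr ⟨by rw [hv, h1, vec3_negV hw]; rfl, ?_⟩
      rw [e2, gam, gam, JM, ← mat3_mulG lS (lC x), ← mat3_mulG (lC y) lS,
        ← mat3_mulG lJ (mulG_small (lC y) lS), h2]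

/-- The cover before taking the derived group. -/
noncomputable def BigS : Subgroup Amb := closure {g | ∃ k < 4, liftS k = g}

theorem goodP_of_mem {g : Amb} (hg : g ∈ BigS) : GoodP g := by
  refine Subgroup.closure_induction ?_ goodP_one (fun a b _ _ ha hb => goodP_mul ha hb) (fun a _ ha => ?_) hg
  · rintro _ ⟨k, hk, rfl⟩
    exact goodP_lift hk
  · have hp : ∀ k : ℕ, GoodP (a ^ k) := fun k => by
      induction k with
      | zero => rw [pow_zero]; exact goodP_one
      | succ k ih => rw [pow_succ]; exact goodP_mul ih ha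
    have e : a⁻¹ = a ^ (orderOf a - 1) := inv_eq_of_mul_eq_one_right (by
      rw [← pow_succ', Nat.sub_add_cancel (orderOf_pos a), pow_orderOf_eq_one])
    rw [e]
    exact hp _

/-- The map to the matrices on vectors. -/
noncomputable def projS : ↥BigS →* GL chevG2.Idx (ZMod 3) := (MonoidHom.fst _ _).comp BigS.subtype

theorem range_projS : projS.range = H7 := by
  rw [projS, MonoidHom.range_comp, Subgroup.range_subtype, BigS, MonoidHom.map_closure, H7]
  congr 1
  ext g
  constructor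
  · rintro ⟨_, ⟨k, hk, rfl⟩, rfl⟩
    have hk' : k < oSevenGenCodes.length := length_gens.symm ▸ hk
    exact ⟨_, List.getElem_mem hk', (congrArg valG (List.getD_eq_getElem _ _ hk')).symm⟩
  · rintro ⟨c, hc, rfl⟩
    obtain ⟨k, hk, rfl⟩ := List.getElem_of_mem hc
    exact ⟨liftS k, ⟨k, length_gens ▸ hk, rfl⟩, congrArg valG (List.getD_eq_getElem _ _ hk)⟩

/-- The map onto the group. -/
noncomputable def toS : ↥BigS →* ↥H7 :=
  (MulEquiv.subgroupCongr range_projS).toMonoidHom.comp projS.rangeRestrict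

theorem toS_surjective : Function.Surjective toS :=
  (MulEquiv.subgroupCongr range_projS).surjective.comp projS.rangeRestrict_surjective

theorem toS_val (g : ↥BigS) : ((toS g : ↥H7) : GL chevG2.Idx (ZMod 3)) = g.1.1 := rfl

theorem vecZ_ne_neg (x : Fin 378) : vecZ x ≠ -vecZ x := by
  intro h
  have hs := pt_small x
  have hp := pts_checks.1
  simp only [ptsB, forceG_eq, List.all_eq_true, List.mem_range, Bool.and_eq_true, Bool.or_eq_true,
    Nat.blt_eq, Nat.beq_eq] at hp
  rw [vecZ, ← vec3_negV hs] at h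
  exact absurd (vec3_inj hs (negV_small _) h) (hp x.val x.isLt).1.2.ne

/-- The sign of a kernel element. -/
noncomputable def sgnS (g : ↥BigS) : ZMod 3 := ((g.1.2 : M14) *ᵥ vac) (eT 0)

theorem diag_mulVec {D : ℕ}
    (h : ∀ i < 14, ∀ j < 14, i = j ∨ PackPerm.getP D (14 * j + i) = 0) (v : chevG2.Idx → ZMod 3)
    (x : chevG2.Idx) : (mat3 D *ᵥ v) x = (PackPerm.getP D (14 * (eT.symm x).val + (eT.symm x).val) : ZMod 3) * v x := by
  rw [Matrix.mulVec, dotProduct, Finset.sum_eq_single x]
  · rfl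
  · intro y _ hy
    rcases h (eT.symm x).val (eT.symm x).isLt (eT.symm y).val (eT.symm y).isLt with e | e
    · exact absurd (eT.symm.injective (Fin.ext e.symm)) hy
    · rw [mat3, e, Nat.cast_zero, zero_mul]
  · exact fun h => absurd (Finset.mem_univ x) h

/-- The operator of a word of points. -/
noncomputable def wordC (w : List ℕ) : M14 := mat3 (loG (Coded.evO opsG oSevenGammas w))

theorem wordC_comm {M : M14} (hM : ∀ x, M * gam x = gam x * M) :
    ∀ w : List ℕ, (∀ x ∈ w, x < 378) → M * wordC w = wordC w * M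
  | [], _ => by
    rw [wordC, Coded.evO, show (opsG.one : ℕ) = oneUG from rfl, oneUG_lo, mat3_oneG, mul_one, one_mul]
  | x :: w, h => by
    have hx := h x List.mem_cons_self
    have ih := wordC_comm hM w fun y hy => h y (List.mem_cons_of_mem _ hy)
    have hok : ∀ c ∈ oSevenGammas, opsG.ok c = true := spin_facts.2.2.1
    have e : wordC (x :: w) = gam ⟨x, hx⟩ * wordC w := by
      rw [wordC, Coded.evO, show ∀ a b, opsG.mul a b = mulUG a b from fun _ _ => rfl, lo_mulUG,
        mat3_mulG (ok_lanes (Bsgs.getD_ok opsG hok x)) (ok_lanes (Coded.evO_spec hok w).1)]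
      rfl
    rw [e, ← mul_assoc, hM, mul_assoc, ih, mul_assoc]

theorem vec_one : ∀ i < 14, PackPerm.getP 1 i = if i = 0 then 1 else 0 := by decide +kernel

theorem vec_unit : ∀ j < 14, ∀ i < 14, PackPerm.getP (256 ^ j) i = if i = j then 1 else 0 := by decide +kernel

theorem vec_two : ∀ j < 14, ∀ i < 14, PackPerm.getP (2 * 256 ^ j) i = if i = j then 2 else 0 := by
  decide +kernel

theorem vec3_unit (j : Fin 14) : vec3 (256 ^ j.val) = Pi.single (eT j) 1 := by
  funext x
  rw [vec3, vec_unit j.val j.isLt _ (eT.symm x).isLt, Pi.single_apply]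
  by_cases h : x = eT j
  · simp [h]
  · rw [if_neg fun e => h (by rw [← Equiv.apply_symm_apply eT x, Fin.ext e]), if_neg h, Nat.cast_zero]

theorem ker_scalar {g : ↥BigS} (hg : toS g = 1) :
    g.1.1 = 1 ∧ (∀ j : Fin 14, (g.1.2 : M14) *ᵥ Pi.single (eT j) (1 : ZMod 3) =
      (if j.val < 8 then sgnS g else 1) • Pi.single (eT j) (1 : ZMod 3)) := by
  obtain ⟨hJ, hT, π, hP⟩ := goodP_of_mem g.2
  have h1 : g.1.1 = 1 := congrArg Subtype.val hg
  refine ⟨h1, ?_⟩
  set M : M14 := (g.1.2 : M14) with hMdef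
  have hM : ∀ x, M * gam x = gam x * M := fun x => by
    rcases hP x with ⟨a, b⟩ | ⟨a, b⟩ <;> rw [h1, Units.val_one, one_mulVec] at a
    · rw [b, ← vecZ_sep (Or.inl a)]
    · have e := vecZ_sep (Or.inr a)
      rw [← e] at a
      exact absurd a (vecZ_ne_neg x)
  have hdiag : ∀ D ∈ diagL, M * mat3 D = mat3 D * M ∧
      ∀ i < 14, ∀ j < 14, i = j ∨ PackPerm.getP D (14 * j + i) = 0 := by
    intro D hD
    have hd := spin_checks.2.1
    simp only [diagB, Bool.and_eq_true, List.all_eq_true, List.mem_range, Bool.or_eq_true, Nat.beq_eq] at hd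
    refine ⟨?_, hd.1 D hD⟩
    simp only [diagL, List.mem_cons, List.mem_map] at hD
    rcases hD with rfl | ⟨w, hw, rfl⟩
    · exact hJ
    · exact wordC_comm hM w (spin_facts.2.2.2.2.1 w (List.mem_append_left _ hw))
  have hvac : vac = Pi.single (eT 0) 1 := by rw [vac, ← vec3_unit 0]; rfl
  have hz : M *ᵥ vac = sgnS g • vac := by
    funext x
    by_cases hx : x = eT 0
    · subst hx
      rw [Pi.smul_apply, hvac, Pi.single_eq_same, smul_eq_mul, mul_one, sgnS, ← hvac]
    · rw [Pi.smul_apply, hvac, Pi.single_eq_of_ne hx, smul_zero]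
      have hd := spin_checks.2.1
      simp only [diagB, Bool.and_eq_true, List.all_eq_true, List.mem_range, Bool.or_eq_true,
        List.any_eq_true, Nat.beq_eq, Bool.not_eq_true'] at hd
      have hj : (eT.symm x).val ≠ 0 := fun e => hx (by
        rw [← Equiv.apply_symm_apply eT x, show eT.symm x = 0 from Fin.ext e])
      obtain ⟨D, hD, hne⟩ := (hd.2 _ (eT.symm x).isLt).resolve_left hj
      obtain ⟨hc, hdg⟩ := hdiag D hD
      have e := congrFun (congrArg (fun A : M14 => A *ᵥ (Pi.single (eT 0) 1 : chevG2.Idx → ZMod 3)) hc) x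
      simp only [← mulVec_mulVec] at e
      have e0 : mat3 D *ᵥ (Pi.single (eT 0) 1 : chevG2.Idx → ZMod 3) =
          (PackPerm.getP D 0 : ZMod 3) • Pi.single (eT 0) 1 := by
        funext y
        rw [diag_mulVec hdg, Pi.smul_apply, smul_eq_mul]
        by_cases hy : y = eT 0
        · subst hy; simp
        · rw [Pi.single_eq_of_ne hy, mul_zero, mul_zero]
      rw [e0, mulVec_smul, Pi.smul_apply, smul_eq_mul, diag_mulVec hdg] at e
      by_contra hv
      have hcast := mul_right_cancel₀ hv e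
      have hsm : smallB 196 D = true := by
        simp only [diagL, List.mem_cons, List.mem_map] at hD
        rcases hD with rfl | ⟨w, -, rfl⟩
        · exact (okG_iff.1 spin_facts.2.2.2.1).1
        · exact (okG_iff.1 (Coded.evO_spec (O := opsG) spin_facts.2.2.1 w).1).1
      have heq := cast_inj3 (lanes hsm 0 (by norm_num))
        (lanes hsm _ (by have := (eT.symm x).isLt; omega)) hcast
      rw [← heq, Nat.beq_refl] at hne
      exact Bool.noConfusion hne
  intro j
  by_cases hj : j.val < 8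
  · rw [if_pos hj]
    have hm := spin_checks.2.2
    simp only [moveB, forceG_eq, List.all_eq_true, List.mem_range, Bool.or_eq_true, Nat.beq_eq] at hm
    set w := oSevenMoveWords.getD j.val [] with hwdef
    have hwlt : ∀ x ∈ w, x < 378 := by
      intro x hx
      by_cases hl : j.val < oSevenMoveWords.length
      · rw [hwdef, List.getD_eq_getElem _ _ hl] at hx
        exact spin_facts.2.2.2.2.1 _ (List.mem_append_right _ (List.getElem_mem hl)) x hx
      · rw [hwdef, List.getD_eq_default _ _ (by omega)] at hx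
        exact absurd hx List.not_mem_nil
    have hok := (Coded.evO_spec (O := opsG) spin_facts.2.2.1 w).1
    have e : M *ᵥ (wordC w *ᵥ vac) = sgnS g • (wordC w *ᵥ vac) := by
      rw [mulVec_mulVec, wordC_comm hM w hwlt, ← mulVec_mulVec, hz, mulVec_smul]
    rw [wordC, vac, mat3_mulVec (ok_lanes hok) (fun k hk => by rw [vec_one k hk]; split <;> norm_num)] at e
    rcases hm j.val hj with h | h <;> rw [h] at e
    · rwa [vec3_unit] at e
    · have h2 : vec3 (2 * 256 ^ j.val) = (2 : ZMod 3) • (Pi.single (eT j) 1 : chevG2.Idx → ZMod 3) := by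
        funext x
        rw [vec3, vec_two j.val j.isLt _ (eT.symm x).isLt, Pi.smul_apply, Pi.single_apply]
        by_cases hxj : x = eT j
        · simp [hxj]
        · rw [if_neg fun e => hxj (by rw [← Equiv.apply_symm_apply eT x, Fin.ext e]), if_neg hxj, smul_zero,
            Nat.cast_zero]
      rw [h2, mulVec_smul, smul_comm] at e
      have h4 : ∀ a b : chevG2.Idx → ZMod 3, (2 : ZMod 3) • a = (2 : ZMod 3) • b → a = b := fun a b h => by
        have := congrArg (fun v : chevG2.Idx → ZMod 3 => (2 : ZMod 3) • v) h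
        simpa [smul_smul, show (2 : ZMod 3) * 2 = 1 by decide] using this
      exact h4 _ _ e
  · rw [if_neg hj, one_smul, ← vec3_unit]
    have := hT ⟨j.val - 8, by omega⟩
    rwa [tailV, show 8 + (j.val - 8) = j.val by omega] at this

theorem ker_eq {g h : ↥BigS} (hg : toS g = 1) (hh : toS h = 1) (e : sgnS g = sgnS h) : g = h := by
  obtain ⟨g1, g2⟩ := ker_scalar hg
  obtain ⟨h1, h2⟩ := ker_scalar hh
  refine Subtype.ext (Prod.ext (g1.trans h1.symm) (Units.ext (Matrix.ext_of_mulVec_single fun i => ?_)))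
  obtain ⟨j, rfl⟩ := eT.surjective i
  rw [g2, h2, e]

theorem toS_ker : toS.ker ≤ center ↥BigS := fun g hg => mem_center_iff.2 fun h => by
  obtain ⟨g1, g2⟩ := ker_scalar hg
  obtain ⟨hJ, hT, -⟩ := goodP_of_mem h.2
  refine Subtype.ext (Prod.ext ?_ (Units.ext (Matrix.ext_of_mulVec_single fun i => ?_)))
  · show h.1.1 * g.1.1 = g.1.1 * h.1.1
    rw [g1, mul_one, one_mul]
  obtain ⟨j, rfl⟩ := eT.surjective i
  show (((h.1.2 * g.1.2 : GL chevG2.Idx (ZMod 3)) : M14)) *ᵥ _ =
    (((g.1.2 * h.1.2 : GL chevG2.Idx (ZMod 3)) : M14)) *ᵥ _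
  rw [Units.val_mul, Units.val_mul, ← mulVec_mulVec, ← mulVec_mulVec, g2, mulVec_smul]
  by_cases hj : j.val < 8
  · rw [if_pos hj]
    set v : chevG2.Idx → ZMod 3 := (h.1.2 : M14) *ᵥ Pi.single (eT j) 1
    have hd := spin_checks.2.1
    simp only [diagB, Bool.and_eq_true, List.all_eq_true, List.mem_range, Bool.or_eq_true, Nat.beq_eq] at hd
    have hdg := hd.1 (loG oSevenMinus) (by simp [diagL])
    have hJv : JM *ᵥ v = (PackPerm.getP (loG oSevenMinus) (14 * j.val + j.val) : ZMod 3) • v := by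
      rw [mulVec_mulVec, ← hJ, ← mulVec_mulVec, ← mulVec_smul]
      congr 1
      funext y
      rw [JM, diag_mulVec hdg, Pi.smul_apply, smul_eq_mul]
      by_cases hy : y = eT j
      · subst hy; simp
      · rw [Pi.single_eq_of_ne hy, mul_zero, mul_zero]
    have hlow : ∀ y, ¬ (eT.symm y).val < 8 → v y = 0 := fun y hy => by
      have e := congrFun hJv y
      rw [JM, diag_mulVec hdg, Pi.smul_apply, smul_eq_mul] at e
      have hdj : ∀ j < 14, PackPerm.getP (loG oSevenMinus) (14 * j + j) = if j < 8 then 2 else 1 :=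
        minus_diag
      rw [hdj _ (eT.symm y).isLt, hdj j.val j.isLt, if_neg hy, if_pos hj] at e
      have : ∀ a : ZMod 3, ((1 : ℕ) : ZMod 3) * a = ((2 : ℕ) : ZMod 3) * a → a = 0 := by decide
      exact this _ e
    have hv : v = ∑ y : chevG2.Idx, v y • (Pi.single y 1 : chevG2.Idx → ZMod 3) := by
      funext x; simp [Finset.sum_apply, Pi.single_apply]
    conv_rhs => rw [hv]
    rw [mulVec_sum]
    conv_lhs => rw [hv, Finset.smul_sum]
    refine Finset.sum_congr rfl fun y _ => ?_
    obtain ⟨i, rfl⟩ := eT.surjective y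
    rw [mulVec_smul, g2, smul_comm]
    by_cases hi : i.val < 8
    · rw [if_pos hi]
    · simp only [hlow (eT i) (by rwa [Equiv.symm_apply_apply]), zero_smul]
  · rw [if_neg hj, one_smul]
    have hjT := hT ⟨j.val - 8, by omega⟩
    rw [tailV, show 8 + (j.val - 8) = j.val by omega, vec3_unit] at hjT
    rw [hjT, g2, if_neg hj, one_smul]

/-- A lift of a word. -/
noncomputable def wordL (w : List ℕ) : Amb := (w.map liftS).prod

theorem wordL_mem {w : List ℕ} (h : ∀ i ∈ w, i < 4) : wordL w ∈ BigS :=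
  list_prod_mem fun g hg => by
    obtain ⟨i, hi, rfl⟩ := List.mem_map.1 hg
    exact subset_closure ⟨i, h i hi, rfl⟩

theorem wordL_fst (w : List ℕ) : (wordL w).1 = valG (wordO w) := by
  rw [(wordO_spec w).2, wordL, ← MonoidHom.coe_fst, map_list_prod, List.map_map]
  rfl

theorem walk_small : ∀ {w : List ℕ}, (∀ i ∈ w, i < 4) →
    smallB 14 (walkS w) = true ∧ ((wordL w).2 : M14) *ᵥ vac = vec3 (walkS w)
  | [], _ => ⟨by decide +kernel, by simp [wordL, walkS, vac]⟩
  | i :: w, h => by
    obtain ⟨s, e⟩ := walk_small fun j hj => h j (List.mem_cons_of_mem _ hj)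
    have hA : ∀ m < 196, PackPerm.getP (spinA i) m < 3 := ok_lanes (spin_ok (h i List.mem_cons_self))
    have hv := (smallB_iff.1 s).2
    refine ⟨smallB_iff.2 ⟨apV_lt _ _, fun m hm => ?_⟩, ?_⟩
    · show PackPerm.getP (apV (spinA i) (walkS w)) m < 3
      rw [getP_apV hA hv hm]; exact Nat.mod_lt _ (by norm_num)
    rw [wordL, List.map_cons, List.prod_cons, Prod.snd_mul, Units.val_mul, ← wordL, ← mulVec_mulVec, e,
      show ((liftS i).2 : M14) = mat3 (spinA i) from valG_val (spin_ok (h i List.mem_cons_self)),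
      mat3_mulVec hA hv]
    rfl

/-- The cover. -/
abbrev CovS : Type := ↥(commutator ↥BigS)

/-- The covering map. -/
noncomputable def sigmaS : CovS →* ↥H7 := toS.comp (commutator ↥BigS).subtype

theorem stemS : Cfsg.IsStemExtension sigmaS := by
  have := H7_finite
  have hperf := derived_perfect H7_perfect toS_surjective toS_ker
  refine ⟨fun g => ?_, fun x hx => mem_center_iff.2 fun y =>
    Subtype.ext (mem_center_iff.1 (toS_ker (show toS x.1 = 1 from hx)) y.1), le_top.trans hperf.ge⟩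
  obtain ⟨y, hy, e⟩ := (commutator_mul_ker H7_perfect toS_surjective).ge (mem_top g)
  exact ⟨⟨y, hy⟩, e⟩

theorem card_ker : Nat.card sigmaS.ker = 2 := by
  have hk : ∀ a : sigmaS.ker, toS a.1.1 = 1 := fun a => a.2
  have hne : ∀ a : sigmaS.ker, sgnS a.1.1 ≠ 0 := by
    intro a h0
    obtain ⟨-, h2⟩ := ker_scalar (hk a)
    have h := h2 0
    rw [if_pos (by norm_num), h0, zero_smul] at h
    have h3 := congrArg (fun v => ((a.1.1.1.2⁻¹ : GL chevG2.Idx (ZMod 3)) : M14) *ᵥ v) h
    simp only [mulVec_mulVec, ← Units.val_mul, inv_mul_cancel, Units.val_one, one_mulVec, mulVec_zero] at h3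
    simpa using congrFun h3 (eT 0)
  have hle : Nat.card sigmaS.ker ≤ 2 := by
    let f : sigmaS.ker → {z : ZMod 3 // z ≠ 0} := fun a => ⟨sgnS a.1.1, hne a⟩
    refine (Nat.card_le_card_of_injective f fun a b h => Subtype.ext (Subtype.ext ?_)).trans ?_
    · exact ker_eq (hk a) (hk b) (congrArg Subtype.val h)
    · rw [Nat.card_eq_fintype_card]; decide
  have hw := spin_checks.1
  simp only [spinB, Bool.and_eq_true, List.all_eq_true, Nat.blt_eq, beq_iff_eq, Bool.not_eq_true',
    beq_eq_false_iff_ne, List.mem_append] at hw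
  obtain ⟨⟨⟨-, hlt⟩, hlow⟩, hdiff⟩ := hw
  set u := oSevenSpinWords.getD 0 []
  set v := oSevenSpinWords.getD 1 []
  let U : ↥BigS := ⟨wordL u, wordL_mem fun i hi => hlt i (Or.inl hi)⟩
  let V : ↥BigS := ⟨wordL v, wordL_mem fun i hi => hlt i (Or.inr hi)⟩
  have h1 : ∀ i ∈ u ++ v, i < 4 := fun i hi => hlt i (List.mem_append.1 hi)
  have h2 : ∀ i ∈ v ++ u, i < 4 := fun i hi => hlt i (List.mem_append.1 hi).symm
  have eUV : (U * V).1 = wordL (u ++ v) := by simp [U, V, wordL]
  have eVU : (V * U).1 = wordL (v ++ u) := by simp [U, V, wordL]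
  have he : toS (U * V) = toS (V * U) := Subtype.ext (by
    rw [toS_val, toS_val, eUV, eVU, wordL_fst, wordL_fst]
    exact Units.ext (by rw [valG_val (wordO_spec _).1, valG_val (wordO_spec _).1, hlow]))
  have hne1 : U * V ≠ V * U := fun e => hdiff (by
    obtain ⟨s1, w1⟩ := walk_small h1
    obtain ⟨s2, w2⟩ := walk_small h2
    rw [← eUV, e, eVU, w2] at w1
    exact (vec3_inj s2 s1 w1).symm)
  have hz : (⟨⁅U, V⁆, commutator_mem_commutator (mem_top U) (mem_top V)⟩ : CovS) ∈ sigmaS.ker := by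
    show toS ⁅U, V⁆ = 1
    rw [map_commutatorElement, commutatorElement_eq_one_iff_mul_comm, ← map_mul, ← map_mul]
    exact he
  have h1ne : sigmaS.ker ≠ ⊥ := fun hb => by
    rw [hb, mem_bot, Subtype.ext_iff] at hz
    exact hne1 (commutatorElement_eq_one_iff_mul_comm.1 hz)
  have h1lt : 1 < Nat.card sigmaS.ker := (Subgroup.one_lt_card_iff_ne_bot _).2 h1ne
  omega

end CfsgLib.Schur.Tails.OSeven.Spin
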