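import Cfsg.Agent.Lib.Tails.OSevenTripleChecks
import Cfsg.Agent.Lib.Tails.OSevenSpinData

/-!
# Checks of the spin group of dimension seven over three elements

The spinors have dimension eight; the vectors of value one act on them by unitary Clifford elements.
-/

set_option autoImplicit false
set_option maxRecDepth 100000
set_option exponentiation.threshold 4000
set_option maxHeartbeats 0

namespace CfsgLib.Schur.Tails.OSeven

open CfsgLib.Golay CfsgLib.TailsData G2Mat

/-- The matrix of a lift. -/
noncomputable def spinA (k : ℕ) : ℕ := loG (oSevenSpinGens.getD k oneUG)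

/-- The matrix of a vector of value one. -/
noncomputable def gammaA (x : ℕ) : ℕ := loG (oSevenGammas.getD x oneUG)

/-- A lift respects the vectors of value one and fixes the six further coordinates. -/
noncomputable def cliffB (k : ℕ) : Bool :=
  forceG (spinA k) fun M => forceG (loG oSevenMinus) fun J =>
    forceG (oSevenActs.getD k 0) fun A => forceG (loG (oSevenGenCodes.getD k oneUG)) fun G =>
      Nat.beq (mulG M J) (mulG J M) &&
      ((List.range 6).all fun j => forceG (256 ^ (8 + j)) fun v => Nat.beq (apV M v) v) &&
      (List.range 378).all fun x =>
        forceG (gammaA x) fun C => forceG (gammaA (getW A x)) fun C' =>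
          forceG (mulG M C) fun L => forceG (mulG C' M) fun R => forceG (apV G (ptV x)) fun u =>
            forceG (ptV (getW A x)) fun w =>
              (Nat.beq u w && Nat.beq L R) || (Nat.beq u (negV w) && Nat.beq L (mulG J R))

/-- The diagonal operators. -/
noncomputable def diagL : List ℕ :=
  loG oSevenMinus :: oSevenDiagWords.map fun w => loG (Coded.evO opsG oSevenGammas w)

/-- The operators are diagonal and separate the first coordinate from the others. -/
noncomputable def diagB : Bool :=
  (diagL.all fun D => (List.range 14).all fun i => (List.range 14).all fun j =>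
    Nat.beq i j || Nat.beq (PackPerm.getP D (14 * j + i)) 0) &&
  (List.range 14).all fun j => Nat.beq j 0 ||
    diagL.any fun D => !(Nat.beq (PackPerm.getP D (14 * j + j)) (PackPerm.getP D 0))

/-- The words move the first basis spinor to every one, up to sign. -/
noncomputable def moveB : Bool :=
  (List.range 8).all fun j =>
    forceG (apV (loG (Coded.evO opsG oSevenGammas (oSevenMoveWords.getD j []))) 1) fun v =>
      Nat.beq v (256 ^ j) || Nat.beq v (2 * 256 ^ j)

/-- A word applied to the first basis spinor. -/
noncomputable def walkS (w : List ℕ) : ℕ := w.foldr (fun k v => apV (spinA k) v) 1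

/-- The codes are units, and the two words commute below and not above. -/
noncomputable def spinB : Bool :=
  let u := oSevenSpinWords.getD 0 []
  let v := oSevenSpinWords.getD 1 []
  oSevenSpinGens.all okG && (oSevenSpinGens.length == 4) && oSevenGammas.all okG && okG oSevenMinus &&
    (oSevenDiagWords ++ oSevenMoveWords).all (fun w => w.all fun x => Nat.blt x 378) &&
    Nat.beq oSevenGammas.length 378 && (mulG (loG oSevenMinus) (loG oSevenMinus) == oneG) &&
    (u ++ v).all (fun k => Nat.blt k 4) &&
    (loG (wordO (u ++ v)) == loG (wordO (v ++ u))) && !(walkS (u ++ v) == walkS (v ++ u))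

theorem spin_checks : spinB = true ∧ diagB = true ∧ moveB = true := by
  refine ⟨?_, ?_, ?_⟩ <;> decide +kernel

theorem minus_diag : ∀ j < 14, PackPerm.getP (loG oSevenMinus) (14 * j + j) = if j < 8 then 2 else 1 := by
  decide +kernel

theorem cliff_checks : cliffB 0 = true ∧ cliffB 1 = true ∧ cliffB 2 = true ∧ cliffB 3 = true := by
  refine ⟨?_, ?_, ?_, ?_⟩ <;> decide +kernel

end CfsgLib.Schur.Tails.OSeven
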