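import Cfsg.Agent.Lib.Tails.OSevenBound
import Cfsg.Agent.Lib.Tails.OSevenTriple
import Cfsg.Agent.Lib.Tails.OSevenSpin
import Cfsg.Agent.Lib.Tails.SLNine

/-!
# The multiplier of the orthogonal group of dimension seven over three elements
-/

set_option autoImplicit false

namespace CfsgLib.Schur.Tails.OSeven

universe u

theorem multiplier {F : Type u} [Field F] [Fintype F] (hF : Fintype.card F = 3) :
    Cfsg.HasCyclicSchurMultiplier (Cfsg.POmega F (Cfsg.quadFormOdd 3 F)) 6 := by
  have := H7_finite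
  obtain ⟨A, iA, fA, σ₁, h₁, ⟨e₁⟩⟩ := Triple.exists_cover
  obtain ⟨e⟩ := pomega_equiv hF
  refine hasCyclic_congr e (hasCyclic_of_two H7_perfect h₁ Spin.stemS ?_ fun _ _ _ σ hσ => bound σ hσ)
  rw [Nat.card_congr e₁.toEquiv, Nat.card_congr Multiplicative.toAdd, Nat.card_zmod, Spin.card_ker]
  rfl

end CfsgLib.Schur.Tails.OSeven
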