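import Cfsg.Agent.Lib.Tails.OSevenModel
import Cfsg.Agent.Lib.Tails.OSevenTripleData

/-!
# Checks of the triple cover of the orthogonal group of dimension seven over three elements

The cover acts with phases on the 378 lines of value one; a phase difference on the
joined pairs is respected.
-/

set_option autoImplicit false
set_option maxRecDepth 100000
set_option exponentiation.threshold 4000

namespace CfsgLib.Schur.Tails.OSeven

open CfsgLib.Golay CfsgLib.TailsData G2Mat

/-- A lane of sixteen bits. -/
def getW (A i : ℕ) : ℕ := (A >>> (16 * i)) % 65536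

/-- The code of a point. -/
noncomputable def ptV (x : ℕ) : ℕ := (oSevenPts >>> (112 * x)) % 256 ^ 14

/-- The code of the opposite vector. -/
def negV (v : ℕ) : ℕ := PackPerm.pack ((List.range 14).map fun i => (3 - PackPerm.getP v i) % 3)

/-- The chosen vectors are the smaller ones and increase. -/
noncomputable def ptsB : Bool :=
  (List.range 378).all fun x => forceG (ptV x) fun v =>
    smallB 14 v && Nat.blt v (negV v) && (Nat.beq (x + 1) 378 || Nat.blt v (ptV (x + 1)))

/-- A generator moves the points as listed. -/
noncomputable def actB (k : ℕ) : Bool :=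
  forceG (oSevenActs.getD k 0) fun A => forceG (oSevenInvs.getD k 0) fun Ai =>
    forceG (loG (oSevenGenCodes.getD k oneUG)) fun M =>
      (List.range 378).all fun x =>
        Nat.blt (getW A x) 378 && Nat.blt (getW Ai x) 378 && Nat.beq (getW A (getW Ai x)) x &&
          Nat.beq (getW Ai (getW A x)) x &&
          forceG (ptV (getW A x)) fun w => forceG (apV M (ptV x)) fun u =>
            Nat.beq u w || Nat.beq u (negV w)

/-- The value of a joined pair. -/
def valB (ones twos y : ℕ) : ℕ := (ones.testBit y).toNat + 2 * (twos.testBit y).toNat

/-- A generator respects the joined pairs and their values. -/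
noncomputable def pairsT (k : ℕ) : Bool :=
  forceG (oSevenActs.getD k 0) fun A => forceG (oSevenPhases.getD k 0) fun S =>
    (List.range 378).all fun x =>
      forceG (getW A x) fun x' => forceG (getW S x) fun sx =>
        forceG (oSevenMasks.getD x' 0) fun m' => forceG (oSevenOnes.getD x' 0) fun o' =>
          forceG (oSevenTwos.getD x' 0) fun t' => forceG (oSevenOnes.getD x 0) fun o =>
            forceG (oSevenTwos.getD x 0) fun t =>
              (oSevenNbs.getD x []).all fun y => forceG (getW A y) fun y' =>
                m'.testBit y' &&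
                  Nat.beq ((valB o' t' y' + getW S y) % 3) ((valB o t y + sx) % 3)

/-- The lists and the bits agree. -/
noncomputable def maskOkB : Bool :=
  (List.range 378).all fun x =>
    Nat.beq (PackPerm.hits (oSevenNbs.getD x [])) (oSevenMasks.getD x 0)

/-- Every point is joined to one nearer to the first. -/
noncomputable def nearB : Bool :=
  forceG oSevenPar fun P => forceG oSevenDep fun D =>
    (List.range 378).all fun x => Nat.beq x 0 ||
      forceG (getW P x) fun p =>
        Nat.blt p 378 && (oSevenMasks.getD p 0).testBit x && Nat.blt (getW D p) (getW D x)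

/-- A word on the points with its phase. -/
noncomputable def walkT (w : List ℕ) (p : ℕ × ℕ) : ℕ × ℕ :=
  w.foldr (fun k q => (getW (oSevenActs.getD k 0) q.1,
    q.2 + getW (oSevenPhases.getD k 0) q.1)) p

/-- The two words commute below and not above. -/
noncomputable def uvB : Bool :=
  let u := oSevenTripleWords.getD 0 []
  let v := oSevenTripleWords.getD 1 []
  (u ++ v).all (fun k => Nat.blt k 4) &&
    (loG (wordO (u ++ v)) == loG (wordO (v ++ u))) &&
    !((walkT (u ++ v) (0, 0)).2 % 3 == (walkT (v ++ u) (0, 0)).2 % 3)

theorem pts_checks : ptsB = true ∧ maskOkB = true ∧ nearB = true ∧ uvB = true := by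
  refine ⟨?_, ?_, ?_, ?_⟩ <;> decide +kernel

theorem act_checks : actB 0 = true ∧ actB 1 = true ∧ actB 2 = true ∧ actB 3 = true := by
  refine ⟨?_, ?_, ?_, ?_⟩ <;> decide +kernel

theorem pairs_checks : pairsT 0 = true ∧ pairsT 1 = true ∧ pairsT 2 = true ∧ pairsT 3 = true := by
  refine ⟨?_, ?_, ?_, ?_⟩ <;> decide +kernel

end CfsgLib.Schur.Tails.OSeven
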