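import Cfsg.Agent.Lib.Tails.Finish
import Cfsg.Agent.Lib.MathieuOut.Concrete

/-!
# Certificates for groups of permutations of 24 points
-/

set_option autoImplicit false

namespace CfsgLib.Schur.Tails.Perm

open Cfsg CfsgLib.Golay CfsgLib.M24Cert CfsgLib.MathieuOut

/-- The certificate is realised by the given permutations. -/
noncomputable def realisedB (masks : List ℕ) (gens : List (List ℕ)) (c : Cert) (hs : List (List ℕ))
    (steps : List CfsgLib.Golay.Step) (levels : List Level) : Bool :=
  allB (fun L => memG masks L) gens && allB (fun L => memG masks L) hs &&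
    Nat.beq gens.length c.n &&
    allB (fun r => eqB (evalL gens r.1) (evalL gens r.2)) c.rels &&
    Nat.beq hs.length c.fus.length &&
    allLt (fun i =>
      let f := c.fus.getD i ⟨[], [], []⟩
      allLt (fun k => eqB (compL (hs.getD i []) (evalL gens (f.xs.getD k [])))
        (compL (evalL gens (f.ys.getD k [])) (hs.getD i []))) f.xs.length) c.fus.length &&
    chainCheck 24 gens steps [] levels &&
    Nat.ble (c.p ^ c.n) (levels.map fun l => l.imgs.length).prod

theorem evW_evalG {M : Type*} [Monoid M] (l : List M) :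
    ∀ w, evW (fun i => l.getD i 1) w = evalG l w
  | [] => rfl
  | i :: w => by
    rw [evalG, ← evW_evalG l w]
    simp [evW]

theorem realised {G : Subgroup (Equiv.Perm GolayPt)} {masks : List ℕ} (hG : Cut G masks) {c : Cert}
    (hc : c.checkB = true) {gens hs : List (List ℕ)} {steps : List CfsgLib.Golay.Step}
    {levels : List Level} (h : realisedB masks gens c hs steps levels = true)
    (hdiv : ¬ c.p ^ (c.n + 1) ∣ Nat.card G) : c.Realised ↥G := by
  refine ⟨hc, ?_⟩
  simp only [realisedB, Bool.and_eq_true, allB_iff, Nat.beq_eq, Nat.ble_eq] at h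
  obtain ⟨⟨⟨⟨⟨⟨⟨hgens, hhs⟩, hn⟩, hrel⟩, hlen⟩, hfus⟩, hchain⟩, hprod⟩ := h
  have hv : ∀ L ∈ gens, validL 24 L = true := fun L hL => (hG.of_test (hgens L hL)).1
  let g : ℕ → ↥G := fun i =>
    if h : i < gens.length then ⟨pL gens[i], (hG.of_test (hgens _ (List.getElem_mem h))).2⟩ else 1
  have hg : ∀ w, ((evW g w : ↥G) : Equiv.Perm GolayPt) = pL (evalL gens w) := fun w => by
    rw [(pL_evalL hv w).2, ← evW_evalG]
    show G.subtype (evW g w) = _
    rw [map_evW]
    congr 1
    funext i
    simp only [g, Subgroup.coe_subtype]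
    split_ifs with hi
    · rw [List.getD_eq_getElem _ _ (by simpa using hi)]
      simp
    · rw [List.getD_eq_default _ _ (by simpa using hi)]
      rfl
  refine ⟨g, fun r hr => Subtype.ext ?_, fun f hf => ?_, ?_, hdiv⟩
  · rw [hg, hg, eqB_eq (hrel r hr)]
  · obtain ⟨i, hi, rfl⟩ := List.getElem_of_mem hf
    have hi' : i < hs.length := by omega
    obtain ⟨hhv, hhm⟩ := hG.of_test (hhs _ (List.getElem_mem hi'))
    refine ⟨⟨pL hs[i], hhm⟩, fun k hk => Subtype.ext ?_⟩
    have h1 := allLt_spec hfus i hi
    simp only [List.getD_eq_getElem _ _ hi, List.getD_eq_getElem _ _ hi'] at h1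
    have h2 := congrArg pL (eqB_eq (allLt_spec h1 k hk))
    rw [pL_compL hhv (pL_evalL hv _).1, pL_compL (pL_evalL hv _).1 hhv] at h2
    rw [Subgroup.coe_mul, Subgroup.coe_mul, hg, hg]
    exact h2
  · refine le_trans hprod (le_trans ?_ (le_of_eq (Subgroup.card_map_of_injective (f := G.subtype)
      (K := Subgroup.closure (g '' {k | k < c.n})) G.subtype_injective)))
    set K := (Subgroup.closure (g '' {k | k < c.n})).map G.subtype
    have hmem : ∀ L ∈ gens, pL L ∈ K := fun L hL => by
      obtain ⟨i, hi, rfl⟩ := List.getElem_of_mem hL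
      refine ⟨g i, Subgroup.subset_closure ⟨i, show i < c.n by omega, rfl⟩, ?_⟩
      simp only [g, Subgroup.coe_subtype, dif_pos hi]
    have h := chain_card_ge K (chainCheck_ok hchain)
      (chainCheck_reps ptEquiv K hchain fun L hL => hmem L hL)
    rwa [fixNums_nil] at h

end CfsgLib.Schur.Tails.Perm
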