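import Cfsg.Agent.Lib.Rigid.Out
import Cfsg.Agent.Lib.Tails.Finish

/-!
# Certificates for groups coded by matrices over the field with two elements

The Sylow subgroup is bounded below by orbits of bit vectors, one layer inside the stabiliser of the
points before it.
-/

set_option autoImplicit false

namespace CfsgLib.Schur.Tails.RigidCert

open CfsgLib.Rigid

/-- Evaluate a number before use. -/
noncomputable def forceN {α : Type} (x : ℕ) (k : ℕ → α) : α :=
  Nat.rec (k 0) (fun n _ => k (Nat.succ n)) x

theorem forceN_eq {α : Type} (x : ℕ) (k : ℕ → α) : forceN x k = k x := by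
  cases x <;> rfl

/-- Evaluate a list before use. -/
noncomputable def forceL {α : Type} (L : List ℕ) : (List ℕ → α) → α :=
  List.rec (fun k => k []) (fun a _ ih k => forceN a fun y => ih fun t => k (y :: t)) L

theorem forceL_eq {α : Type} : ∀ (L : List ℕ) (k : List ℕ → α), forceL L k = k L
  | [], _ => rfl
  | a :: L, k => by
    show forceN a (fun y => forceL L fun t => k (y :: t)) = _
    rw [forceN_eq, forceL_eq L]

/-- The code of a word. -/
noncomputable def evC (one : List ℕ) (gens : List (List ℕ)) : List ℕ → List ℕ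
  | [] => one
  | i :: w => forceL (evC one gens w) fun B => mulF (gens.getD i one) B

/-- A layer: transversal words, the point, bits separating the images, and their number. -/
structure Layer where
  /-- The words. -/
  ws : List (List ℕ)
  /-- The point. -/
  b : ℕ
  /-- Bits separating the images. -/
  bits : List ℕ
  /-- A lower bound for the number of images. -/
  m : ℕ

/-- The images under products of powers. -/
noncomputable def imgsC (p : ℕ) : List (List ℕ) → ℕ → List ℕ
  | [], v => [v]
  | A :: As, v => forceL A fun A => forceL (imgsC p As v) fun r =>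
    Nat.rec (motive := fun _ => List ℕ → List ℕ) (fun _ => [])
      (fun _ ih l => l ++ forceL (l.map fun x => img A x) ih) p r

/-- The bits separate the entries. -/
noncomputable def sepC : List ℕ → List ℕ → Bool
  | _, [] => true
  | _, [_] => true
  | [], _ => false
  | i :: B, l => forceL (l.filter fun x => Nat.beq (Nat.land x i) 0) (sepC B) &&
      forceL (l.filter fun x => !Nat.beq (Nat.land x i) 0) (sepC B)

/-- The check of the layers. -/
noncomputable def layersB (p : ℕ) (one : List ℕ) (gens : List (List ℕ)) : List ℕ → List Layer → Bool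
  | _, [] => true
  | prev, L :: Ls =>
    Nat.beq (img one L.b) L.b &&
    (L.ws.all fun w => (w.all fun i => Nat.blt i gens.length) &&
      forceL (evC one gens w) fun A => prev.all fun x => Nat.beq (img A x) x) &&
    forceL (imgsC p (L.ws.map (evC one gens)) L.b) (fun E => Nat.ble L.m E.length && sepC L.bits E) &&
    layersB p one gens (L.b :: prev) Ls

/-- The bound given by the layers. -/
def layersM (Ls : List Layer) : ℕ := (Ls.map Layer.m).prod

/-- The relations and the conjugations. -/
noncomputable def relsB (one : List ℕ) (gens hs : List (List ℕ)) (c : Cert) : Bool :=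
  Nat.beq gens.length c.n && Nat.beq hs.length c.fus.length &&
  (c.rels.all fun r => eqL (evC one gens r.1) (evC one gens r.2)) &&
  (List.range c.fus.length).all fun i =>
    let f := c.fus.getD i ⟨[], [], []⟩
    (List.range f.xs.length).all fun k =>
      eqL (mulF (hs.getD i one) (evC one gens (f.xs.getD k [])))
        (mulF (evC one gens (f.ys.getD k [])) (hs.getD i one))

/-- The data at one prime. -/
noncomputable def primeB (one : List ℕ) (base : List (List ℕ)) (ops : List Op) (gi hi : List ℕ)
    (Ls : List Layer) (c : Cert) : Bool :=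
  let known := base ++ ops.map Op.M
  let gens := gi.map fun i => known.getD i one
  slpOk one ops base && ((gi ++ hi).all fun i => Nat.blt i known.length) &&
    relsB one gens (hi.map fun i => known.getD i one) c &&
    layersB c.p one gens [] Ls && Nat.ble (c.p ^ c.n) (layersM Ls)

variable {G : Type} [Group G] (c : Cod G)

theorem evC_spec {one : List ℕ} (h1 : c.C 1 = one) {gens : List (List ℕ)} {g : ℕ → G}
    (hg : ∀ i, c.C (g i) = gens.getD i one) :
    ∀ w, evC one gens w = c.C (evW g w)
  | [] => by simp [evC, evW, h1]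
  | i :: w => by rw [evC, forceL_eq, evC_spec h1 hg w, ← hg i, ← c.mul, evW_cons]

theorem sepC_nodup : ∀ (B : List ℕ) (l : List ℕ), sepC B l = true → l.Nodup := by
  intro B
  induction B with
  | nil =>
    intro l h
    match l with
    | [] => simp
    | [_] => simp
    | _ :: _ :: _ => simp [sepC] at h
  | cons i B ih =>
    intro l h
    match l with
    | [] => simp
    | [_] => simp
    | a :: b :: r =>
      simp only [sepC, forceL_eq, Bool.and_eq_true] at h
      have h1 := ih _ h.1
      have h2 := ih _ h.2
      refine List.nodup_iff_count_le_one.2 fun x => ?_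
      cases hx : Nat.beq (Nat.land x i) 0
      · rw [← List.count_filter (p := fun x => !Nat.beq (Nat.land x i) 0)
          (show (!Nat.beq (Nat.land x i) 0) = true by rw [hx]; rfl)]
        exact List.nodup_iff_count_le_one.1 h2 x
      · rw [← List.count_filter (p := fun x => Nat.beq (Nat.land x i) 0) hx]
        exact List.nodup_iff_count_le_one.1 h1 x

/-- The elements of the subgroup fixing the points. -/
def fixing (K : Subgroup G) (prev : List ℕ) : Set G :=
  {g | g ∈ K ∧ ∀ x ∈ prev, img (c.C g) x = x}

theorem imgsC_mem {one : List ℕ} (h1 : c.C 1 = one) {K : Subgroup G} {prev : List ℕ} {p b : ℕ}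
    (hprev : ∀ x ∈ prev, img one x = x) (hb : img one b = b) :
    ∀ As : List (List ℕ), (∀ A ∈ As, ∃ g ∈ fixing c K prev, c.C g = A) →
      ∀ x ∈ imgsC p As b, ∃ g ∈ fixing c K prev, img (c.C g) b = x := by
  intro As
  induction As with
  | nil =>
    intro _ x hx
    rw [imgsC, List.mem_singleton] at hx
    subst hx
    exact ⟨1, ⟨one_mem K, fun y hy => by rw [h1, hprev y hy]⟩, by rw [h1, hb]⟩
  | cons A As ih =>
    intro hAs
    have ih := ih fun y hy => hAs y (List.mem_cons_of_mem _ hy)
    obtain ⟨g, ⟨hgK, hgf⟩, hgA⟩ := hAs A List.mem_cons_self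
    rw [imgsC, forceL_eq, forceL_eq]
    have key : ∀ (n : ℕ) (l : List ℕ), (∀ x ∈ l, ∃ g ∈ fixing c K prev, img (c.C g) b = x) →
        ∀ x ∈ Nat.rec (motive := fun _ => List ℕ → List ℕ) (fun _ => [])
          (fun _ ih l => l ++ forceL (l.map fun x => img A x) ih) n l,
          ∃ g ∈ fixing c K prev, img (c.C g) b = x := by
      intro n
      induction n with
      | zero => intro l _ x hx; simp at hx
      | succ n ihn =>
        intro l hl x hx
        rw [List.mem_append, forceL_eq] at hx
        rcases hx with hx | hx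
        · exact hl x hx
        · refine ihn _ (fun y hy => ?_) x hx
          rw [List.mem_map] at hy
          obtain ⟨z, hz, rfl⟩ := hy
          obtain ⟨k, ⟨hkK, hkf⟩, hk⟩ := hl z hz
          exact ⟨g * k, ⟨mul_mem hgK hkK, fun y hy => by rw [c.img_mul, hkf y hy, hgf y hy]⟩,
            by rw [c.img_mul, hk, hgA]⟩
    exact key p _ ih

theorem layers_card [Finite G] {one : List ℕ} (h1 : c.C 1 = one) {K : Subgroup G} {p : ℕ}
    {gens : List (List ℕ)} {g : ℕ → G} (hg : ∀ i, c.C (g i) = gens.getD i one)
    (hK : ∀ i < gens.length, g i ∈ K) :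
    ∀ (Ls : List Layer) (prev : List ℕ), (∀ x ∈ prev, img one x = x) →
      layersB p one gens prev Ls = true → layersM Ls ≤ Nat.card (fixing c K prev) := by
  intro Ls
  induction Ls with
  | nil =>
    intro prev hprev _
    have : Nonempty (fixing c K prev) := ⟨⟨1, one_mem K, fun y hy => by rw [h1, hprev y hy]⟩⟩
    exact Nat.card_pos
  | cons L Ls ih =>
    intro prev hprev h
    simp only [layersB, forceL_eq, Bool.and_eq_true, List.all_eq_true, Nat.beq_eq, Nat.blt_eq,
      Nat.ble_eq] at h
    obtain ⟨⟨⟨hb, hws⟩, hlen, hsep⟩, hrest⟩ := h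
    have hrest := ih _ (fun x hx => by
      rcases List.mem_cons.1 hx with rfl | hx
      · exact hb
      · exact hprev x hx) hrest
    have hAs : ∀ A ∈ L.ws.map (evC one gens), ∃ a ∈ fixing c K prev, c.C a = A := by
      intro A hA
      obtain ⟨w, hw, rfl⟩ := List.mem_map.1 hA
      obtain ⟨hlt, hfix⟩ := hws w hw
      refine ⟨evW g w, ⟨?_, fun x hx => ?_⟩, (evC_spec c h1 hg w).symm⟩
      · rw [evW]
        refine list_prod_mem fun y hy => ?_
        obtain ⟨i, hi, rfl⟩ := List.mem_map.1 hy
        exact hK i (hlt i hi)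
      · rw [← evC_spec c h1 hg w]
        exact hfix x hx
    set E := imgsC p (L.ws.map (evC one gens)) L.b
    choose k hk he using fun i : Fin E.length => imgsC_mem c h1 hprev hb _ hAs _ (List.getElem_mem i.isLt)
    have hnd := sepC_nodup _ _ hsep
    show L.m * layersM Ls ≤ _
    refine (Nat.mul_le_mul hlen hrest).trans ?_
    rw [← Nat.card_fin E.length, ← Nat.card_prod]
    refine Nat.card_le_card_of_injective (fun z => ⟨k z.1 * z.2.1, mul_mem (hk z.1).1 z.2.2.1,
      fun x hx => by rw [c.img_mul, z.2.2.2 x (List.mem_cons_of_mem _ hx), (hk z.1).2 x hx]⟩)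
      fun a a' e => ?_
    have e1 : k a.1 * a.2.1 = k a'.1 * a'.2.1 := congrArg Subtype.val e
    have e2 := congrArg (fun y => img (c.C y) L.b) e1
    simp only [c.img_mul, a.2.2.2 L.b List.mem_cons_self, a'.2.2.2 L.b List.mem_cons_self, he] at e2
    have h0 : a.1 = a'.1 := Fin.ext (hnd.getElem_inj_iff.1 e2)
    rw [h0] at e1
    exact Prod.ext h0 (Subtype.ext (mul_left_cancel e1))

theorem realised [Finite G] (hinj : Function.Injective c.C) {one : List ℕ} (h1 : c.C 1 = one)
    {base : List (List ℕ)} (hbase : ∀ M ∈ base, ∃ g, c.C g = M) {cert : Cert} (hc : cert.checkB = true)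
    {ops : List Op} {gi hi : List ℕ} {Ls : List Layer} (h : primeB one base ops gi hi Ls cert = true)
    (hdiv : ¬ cert.p ^ (cert.n + 1) ∣ Nat.card G) : cert.Realised G := by
  refine ⟨hc, ?_⟩
  simp only [primeB, Bool.and_eq_true, List.all_eq_true, Nat.blt_eq, Nat.ble_eq] at h
  obtain ⟨⟨⟨⟨hslp, hidx⟩, hr⟩, hlay⟩, hbig⟩ := h
  simp only [relsB, Bool.and_eq_true, List.all_eq_true, Nat.beq_eq, eqL_iff, List.mem_range] at hr
  obtain ⟨⟨⟨hlen, hhlen⟩, hrel⟩, hfus⟩ := hr
  set known := base ++ ops.map Op.M
  set gens := gi.map fun i => known.getD i one with hgens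
  set hs := hi.map fun i => known.getD i one with hhs
  have hknown := c.slp_sound (K := ⊤) h1 ops base
    (fun M hM => (hbase M hM).imp fun x hx => ⟨trivial, hx⟩) hslp
  have hcode : ∀ (L : List ℕ), (∀ i ∈ L, i < known.length) → ∀ i,
      ∃ g : G, c.C g = (L.map fun j => known.getD j one).getD i one := by
    intro L hL i
    by_cases hi : i < L.length
    · rw [List.getD_eq_getElem _ _ (by simpa using hi), List.getElem_map,
        List.getD_eq_getElem _ _ (hL _ (List.getElem_mem hi))]
      exact (hknown _ (List.getElem_mem _)).imp fun x hx => hx.2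
    · rw [List.getD_eq_default _ _ (by simpa using hi)]
      exact ⟨1, h1⟩
  choose g hg using hcode gi fun i hi' => hidx i (List.mem_append_left _ hi')
  choose h hh using hcode hi fun i hi' => hidx i (List.mem_append_right _ hi')
  refine ⟨g, fun r hr' => hinj ?_, fun f hf => ?_, ?_, hdiv⟩
  · rw [← evC_spec c h1 hg, ← evC_spec c h1 hg]
    exact hrel r hr'
  · obtain ⟨i, hi', rfl⟩ := List.getElem_of_mem hf
    refine ⟨h i, fun k hk => hinj ?_⟩
    have e := hfus i hi'
    simp only [List.getD_eq_getElem _ _ hi'] at e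
    have e := e k hk
    rw [← hh i] at e
    rw [c.mul, c.mul, ← evC_spec c h1 hg, ← evC_spec c h1 hg]
    exact e
  · refine hbig.trans ((layers_card c h1 hg (K := Subgroup.closure (g '' {k | k < cert.n}))
      (fun i hi' => Subgroup.subset_closure ⟨i, hlen ▸ hi', rfl⟩) Ls [] (by simp) hlay).trans ?_)
    exact Nat.card_le_card_of_injective (fun x => ⟨x.1, x.2.1⟩) fun a b e =>
      Subtype.ext (congrArg (fun y => y.1) e)

theorem trivial_of_primes {Q : Type} [Group Q] [Finite Q]
    (h : ∀ p : ℕ, p.Prime → p ^ 2 ∣ Nat.card Q → ∀ (E : Type) [Group E] [Finite E] (σ : E →* Q),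
      Cfsg.IsStemExtension σ → ¬ p ∣ Nat.card σ.ker) :
    Cfsg.HasCyclicSchurMultiplier Q 1 := by
  refine CfsgLib.Schur.hasCyclicSchurMultiplier_one fun Γ _ _ σ hσ => ?_
  rw [← MonoidHom.ker_eq_bot_iff, ← Subgroup.card_eq_one]
  by_contra hne
  obtain ⟨p, hp, hdvd⟩ := Nat.exists_prime_and_dvd hne
  have := Fact.mk hp
  by_cases hsq : p ^ 2 ∣ Nat.card Q
  · exact h p hp hsq Γ σ hσ hdvd
  · exact not_dvd_of_sq hσ hsq hdvd

end CfsgLib.Schur.Tails.RigidCert
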