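import Cfsg.Agent.Lib.Tails.RuFiveData
import Cfsg.Agent.Lib.Tails.EqsSplit
import Cfsg.Agent.Lib.Tails.RigidSplit
import Cfsg.Agent.Lib.Ru.CertDefs

/-!
# The checks of the certificate at 5 for the multiplier of Ru
-/

set_option autoImplicit false
set_option maxRecDepth 100000
set_option maxHeartbeats 0

namespace CfsgLib.Schur.Tails.RigidCert.Ru

open CfsgLib.TailsData EqsSplit

theorem five_cert : fiveRuTailCert.checkB = true := by decide +kernel

/-- The codes known after 0 parts. -/
noncomputable def fiveKnown0 : List (List ℕ) := [CfsgLib.RuLattice.cU, CfsgLib.RuLattice.cV, CfsgLib.RuLattice.cW]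

/-- The codes known after 1 parts. -/
noncomputable def fiveKnown1 : List (List ℕ) := fiveKnown0 ++ fiveRuTailPart0.map CfsgLib.Rigid.Op.M

/-- The codes known after 2 parts. -/
noncomputable def fiveKnown2 : List (List ℕ) := fiveKnown1 ++ fiveRuTailPart1.map CfsgLib.Rigid.Op.M

/-- The codes known after 3 parts. -/
noncomputable def fiveKnown3 : List (List ℕ) := fiveKnown2 ++ fiveRuTailPart2.map CfsgLib.Rigid.Op.M

/-- The codes known after 4 parts. -/
noncomputable def fiveKnown4 : List (List ℕ) := fiveKnown3 ++ fiveRuTailPart3.map CfsgLib.Rigid.Op.M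

/-- The codes known after 5 parts. -/
noncomputable def fiveKnown5 : List (List ℕ) := fiveKnown4 ++ fiveRuTailPart4.map CfsgLib.Rigid.Op.M

/-- The codes known after 6 parts. -/
noncomputable def fiveKnown6 : List (List ℕ) := fiveKnown5 ++ fiveRuTailPart5.map CfsgLib.Rigid.Op.M

/-- The codes known after 7 parts. -/
noncomputable def fiveKnown7 : List (List ℕ) := fiveKnown6 ++ fiveRuTailPart6.map CfsgLib.Rigid.Op.M

/-- The codes known after 8 parts. -/
noncomputable def fiveKnown8 : List (List ℕ) := fiveKnown7 ++ fiveRuTailPart7.map CfsgLib.Rigid.Op.M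

/-- The codes known after 9 parts. -/
noncomputable def fiveKnown9 : List (List ℕ) := fiveKnown8 ++ fiveRuTailPart8.map CfsgLib.Rigid.Op.M

/-- The codes known after 10 parts. -/
noncomputable def fiveKnown10 : List (List ℕ) := fiveKnown9 ++ fiveRuTailPart9.map CfsgLib.Rigid.Op.M

/-- The codes known after 11 parts. -/
noncomputable def fiveKnown11 : List (List ℕ) := fiveKnown10 ++ fiveRuTailPart10.map CfsgLib.Rigid.Op.M

/-- The codes known after 12 parts. -/
noncomputable def fiveKnown12 : List (List ℕ) := fiveKnown11 ++ fiveRuTailPart11.map CfsgLib.Rigid.Op.M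

theorem five_refs0 : refsB CfsgLib.RuLattice.oneC fiveKnown0 fiveRuTailRef0 fiveRuTailInp0 = true := by decide +kernel

theorem five_part0 : CfsgLib.Rigid.slpOk CfsgLib.RuLattice.oneC fiveRuTailPart0 fiveRuTailInp0 = true := by decide +kernel

theorem five_refs1 : refsB CfsgLib.RuLattice.oneC fiveKnown1 fiveRuTailRef1 fiveRuTailInp1 = true := by decide +kernel

theorem five_part1 : CfsgLib.Rigid.slpOk CfsgLib.RuLattice.oneC fiveRuTailPart1 fiveRuTailInp1 = true := by decide +kernel

theorem five_refs2 : refsB CfsgLib.RuLattice.oneC fiveKnown2 fiveRuTailRef2 fiveRuTailInp2 = true := by decide +kernel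

theorem five_part2 : CfsgLib.Rigid.slpOk CfsgLib.RuLattice.oneC fiveRuTailPart2 fiveRuTailInp2 = true := by decide +kernel

theorem five_refs3 : refsB CfsgLib.RuLattice.oneC fiveKnown3 fiveRuTailRef3 fiveRuTailInp3 = true := by decide +kernel

theorem five_part3 : CfsgLib.Rigid.slpOk CfsgLib.RuLattice.oneC fiveRuTailPart3 fiveRuTailInp3 = true := by decide +kernel

theorem five_refs4 : refsB CfsgLib.RuLattice.oneC fiveKnown4 fiveRuTailRef4 fiveRuTailInp4 = true := by decide +kernel

theorem five_part4 : CfsgLib.Rigid.slpOk CfsgLib.RuLattice.oneC fiveRuTailPart4 fiveRuTailInp4 = true := by decide +kernel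

theorem five_refs5 : refsB CfsgLib.RuLattice.oneC fiveKnown5 fiveRuTailRef5 fiveRuTailInp5 = true := by decide +kernel

theorem five_part5 : CfsgLib.Rigid.slpOk CfsgLib.RuLattice.oneC fiveRuTailPart5 fiveRuTailInp5 = true := by decide +kernel

theorem five_refs6 : refsB CfsgLib.RuLattice.oneC fiveKnown6 fiveRuTailRef6 fiveRuTailInp6 = true := by decide +kernel

theorem five_part6 : CfsgLib.Rigid.slpOk CfsgLib.RuLattice.oneC fiveRuTailPart6 fiveRuTailInp6 = true := by decide +kernel

theorem five_refs7 : refsB CfsgLib.RuLattice.oneC fiveKnown7 fiveRuTailRef7 fiveRuTailInp7 = true := by decide +kernel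

theorem five_part7 : CfsgLib.Rigid.slpOk CfsgLib.RuLattice.oneC fiveRuTailPart7 fiveRuTailInp7 = true := by decide +kernel

theorem five_refs8 : refsB CfsgLib.RuLattice.oneC fiveKnown8 fiveRuTailRef8 fiveRuTailInp8 = true := by decide +kernel

theorem five_part8 : CfsgLib.Rigid.slpOk CfsgLib.RuLattice.oneC fiveRuTailPart8 fiveRuTailInp8 = true := by decide +kernel

theorem five_refs9 : refsB CfsgLib.RuLattice.oneC fiveKnown9 fiveRuTailRef9 fiveRuTailInp9 = true := by decide +kernel

theorem five_part9 : CfsgLib.Rigid.slpOk CfsgLib.RuLattice.oneC fiveRuTailPart9 fiveRuTailInp9 = true := by decide +kernel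

theorem five_refs10 : refsB CfsgLib.RuLattice.oneC fiveKnown10 fiveRuTailRef10 fiveRuTailInp10 = true := by decide +kernel

theorem five_part10 : CfsgLib.Rigid.slpOk CfsgLib.RuLattice.oneC fiveRuTailPart10 fiveRuTailInp10 = true := by decide +kernel

theorem five_refs11 : refsB CfsgLib.RuLattice.oneC fiveKnown11 fiveRuTailRef11 fiveRuTailInp11 = true := by decide +kernel

theorem five_part11 : CfsgLib.Rigid.slpOk CfsgLib.RuLattice.oneC fiveRuTailPart11 fiveRuTailInp11 = true := by decide +kernel

theorem five_gens : refsB CfsgLib.RuLattice.oneC fiveKnown12 fiveRuTailGi fiveRuTailGens = true := by decide +kernel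

theorem five_hs : refsB CfsgLib.RuLattice.oneC fiveKnown12 fiveRuTailHi fiveRuTailHs = true := by decide +kernel

theorem five_coded {G : Type} [Group G] (c : CfsgLib.Rigid.Cod G) (h1 : c.C 1 = CfsgLib.RuLattice.oneC)
    (h0 : AllCoded c fiveKnown0) : AllCoded c fiveRuTailGens ∧ AllCoded c fiveRuTailHs := by
  have h1' : AllCoded c fiveKnown1 := allCoded_part c h1 h0 five_refs0 five_part0
  have h2' : AllCoded c fiveKnown2 := allCoded_part c h1 h1' five_refs1 five_part1
  have h3' : AllCoded c fiveKnown3 := allCoded_part c h1 h2' five_refs2 five_part2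
  have h4' : AllCoded c fiveKnown4 := allCoded_part c h1 h3' five_refs3 five_part3
  have h5' : AllCoded c fiveKnown5 := allCoded_part c h1 h4' five_refs4 five_part4
  have h6' : AllCoded c fiveKnown6 := allCoded_part c h1 h5' five_refs5 five_part5
  have h7' : AllCoded c fiveKnown7 := allCoded_part c h1 h6' five_refs6 five_part6
  have h8' : AllCoded c fiveKnown8 := allCoded_part c h1 h7' five_refs7 five_part7
  have h9' : AllCoded c fiveKnown9 := allCoded_part c h1 h8' five_refs8 five_part8
  have h10' : AllCoded c fiveKnown10 := allCoded_part c h1 h9' five_refs9 five_part9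
  have h11' : AllCoded c fiveKnown11 := allCoded_part c h1 h10' five_refs10 five_part10
  have h12' : AllCoded c fiveKnown12 := allCoded_part c h1 h11' five_refs11 five_part11
  exact ⟨allCoded_refs c h12' five_gens, allCoded_refs c h12' five_hs⟩

theorem five_rels : relsB CfsgLib.RuLattice.oneC fiveRuTailGens fiveRuTailHs fiveRuTailCert = true := by decide +kernel

theorem five_layers : layersB fiveRuTailCert.p CfsgLib.RuLattice.oneC fiveRuTailGens [] fiveRuTailLayers = true ∧
    fiveRuTailCert.p ^ fiveRuTailCert.n ≤ layersM fiveRuTailLayers := by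
  constructor <;> decide +kernel

theorem five_sizes : fiveRuTailCert.p = 5 ∧ fiveRuTailCert.q = 5 ∧ fiveRuTailCert.tau = [] ∧
    fiveRuTailCert.n = 3 := by
  refine ⟨?_, ?_, ?_, ?_⟩ <;> decide +kernel

end CfsgLib.Schur.Tails.RigidCert.Ru
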