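import Cfsg.Agent.Lib.Tails.RuThreeData
import Cfsg.Agent.Lib.Tails.EqsSplit
import Cfsg.Agent.Lib.Tails.RigidSplit
import Cfsg.Agent.Lib.Ru.CertDefs

/-!
# The checks of the certificate at 3 for the multiplier of Ru
-/

set_option autoImplicit false
set_option maxRecDepth 100000
set_option maxHeartbeats 0

namespace CfsgLib.Schur.Tails.RigidCert.Ru

open CfsgLib.TailsData EqsSplit

theorem three_cert : threeRuTailCert.checkB = true := by decide +kernel

/-- The codes known after 0 parts. -/
noncomputable def threeKnown0 : List (List ℕ) := [CfsgLib.RuLattice.cU, CfsgLib.RuLattice.cV, CfsgLib.RuLattice.cW]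

/-- The codes known after 1 parts. -/
noncomputable def threeKnown1 : List (List ℕ) := threeKnown0 ++ threeRuTailPart0.map CfsgLib.Rigid.Op.M

/-- The codes known after 2 parts. -/
noncomputable def threeKnown2 : List (List ℕ) := threeKnown1 ++ threeRuTailPart1.map CfsgLib.Rigid.Op.M

/-- The codes known after 3 parts. -/
noncomputable def threeKnown3 : List (List ℕ) := threeKnown2 ++ threeRuTailPart2.map CfsgLib.Rigid.Op.M

/-- The codes known after 4 parts. -/
noncomputable def threeKnown4 : List (List ℕ) := threeKnown3 ++ threeRuTailPart3.map CfsgLib.Rigid.Op.M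

theorem three_refs0 : refsB CfsgLib.RuLattice.oneC threeKnown0 threeRuTailRef0 threeRuTailInp0 = true := by decide +kernel

theorem three_part0 : CfsgLib.Rigid.slpOk CfsgLib.RuLattice.oneC threeRuTailPart0 threeRuTailInp0 = true := by decide +kernel

theorem three_refs1 : refsB CfsgLib.RuLattice.oneC threeKnown1 threeRuTailRef1 threeRuTailInp1 = true := by decide +kernel

theorem three_part1 : CfsgLib.Rigid.slpOk CfsgLib.RuLattice.oneC threeRuTailPart1 threeRuTailInp1 = true := by decide +kernel

theorem three_refs2 : refsB CfsgLib.RuLattice.oneC threeKnown2 threeRuTailRef2 threeRuTailInp2 = true := by decide +kernel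

theorem three_part2 : CfsgLib.Rigid.slpOk CfsgLib.RuLattice.oneC threeRuTailPart2 threeRuTailInp2 = true := by decide +kernel

theorem three_refs3 : refsB CfsgLib.RuLattice.oneC threeKnown3 threeRuTailRef3 threeRuTailInp3 = true := by decide +kernel

theorem three_part3 : CfsgLib.Rigid.slpOk CfsgLib.RuLattice.oneC threeRuTailPart3 threeRuTailInp3 = true := by decide +kernel

theorem three_gens : refsB CfsgLib.RuLattice.oneC threeKnown4 threeRuTailGi threeRuTailGens = true := by decide +kernel

theorem three_hs : refsB CfsgLib.RuLattice.oneC threeKnown4 threeRuTailHi threeRuTailHs = true := by decide +kernel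

theorem three_coded {G : Type} [Group G] (c : CfsgLib.Rigid.Cod G) (h1 : c.C 1 = CfsgLib.RuLattice.oneC)
    (h0 : AllCoded c threeKnown0) : AllCoded c threeRuTailGens ∧ AllCoded c threeRuTailHs := by
  have h1' : AllCoded c threeKnown1 := allCoded_part c h1 h0 three_refs0 three_part0
  have h2' : AllCoded c threeKnown2 := allCoded_part c h1 h1' three_refs1 three_part1
  have h3' : AllCoded c threeKnown3 := allCoded_part c h1 h2' three_refs2 three_part2
  have h4' : AllCoded c threeKnown4 := allCoded_part c h1 h3' three_refs3 three_part3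
  exact ⟨allCoded_refs c h4' three_gens, allCoded_refs c h4' three_hs⟩

theorem three_rels : relsB CfsgLib.RuLattice.oneC threeRuTailGens threeRuTailHs threeRuTailCert = true := by decide +kernel

theorem three_layers : layersB threeRuTailCert.p CfsgLib.RuLattice.oneC threeRuTailGens [] threeRuTailLayers = true ∧
    threeRuTailCert.p ^ threeRuTailCert.n ≤ layersM threeRuTailLayers := by
  constructor <;> decide +kernel

theorem three_sizes : threeRuTailCert.p = 3 ∧ threeRuTailCert.q = 3 ∧ threeRuTailCert.tau = [] ∧
    threeRuTailCert.n = 3 := by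
  refine ⟨?_, ?_, ?_, ?_⟩ <;> decide +kernel

end CfsgLib.Schur.Tails.RigidCert.Ru
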