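import Cfsg.Agent.Lib.Tails.RuTwoData
import Cfsg.Agent.Lib.Tails.EqsSplit
import Cfsg.Agent.Lib.Tails.RigidSplit
import Cfsg.Agent.Lib.Ru.CertDefs

/-!
# The checks of the certificate at 2 for the multiplier of Ru
-/

set_option autoImplicit false
set_option maxRecDepth 100000
set_option maxHeartbeats 0

namespace CfsgLib.Schur.Tails.RigidCert.Ru

open CfsgLib.TailsData EqsSplit

theorem two_rest : restB twoRuTailCert twoRuTailEqs = true := by decide +kernel

theorem two_eqs_0 : eqsPartB twoRuTailCert twoRuTailEqs 0 20 = true := by decide +kernel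

theorem two_eqs_1 : eqsPartB twoRuTailCert twoRuTailEqs 20 20 = true := by decide +kernel

theorem two_eqs_2 : eqsPartB twoRuTailCert twoRuTailEqs 40 20 = true := by decide +kernel

theorem two_eqs_3 : eqsPartB twoRuTailCert twoRuTailEqs 60 20 = true := by decide +kernel

theorem two_eqs_4 : eqsPartB twoRuTailCert twoRuTailEqs 80 20 = true := by decide +kernel

theorem two_eqs_5 : eqsPartB twoRuTailCert twoRuTailEqs 100 20 = true := by decide +kernel

theorem two_eqs_6 : eqsPartB twoRuTailCert twoRuTailEqs 120 20 = true := by decide +kernel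

theorem two_eqs_7 : eqsPartB twoRuTailCert twoRuTailEqs 140 20 = true := by decide +kernel

theorem two_eqs_8 : eqsPartB twoRuTailCert twoRuTailEqs 160 20 = true := by decide +kernel

theorem two_eqs_9 : eqsPartB twoRuTailCert twoRuTailEqs 180 20 = true := by decide +kernel

theorem two_eqs_10 : eqsPartB twoRuTailCert twoRuTailEqs 200 20 = true := by decide +kernel

theorem two_combos_0 : combosPartB twoRuTailCert twoRuTailEqs 0 21 = true := by decide +kernel

theorem two_combos_1 : combosPartB twoRuTailCert twoRuTailEqs 21 21 = true := by decide +kernel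

theorem two_combos_2 : combosPartB twoRuTailCert twoRuTailEqs 42 21 = true := by decide +kernel

theorem two_combos_3 : combosPartB twoRuTailCert twoRuTailEqs 63 21 = true := by decide +kernel

theorem two_combos_4 : combosPartB twoRuTailCert twoRuTailEqs 84 21 = true := by decide +kernel

theorem two_lengths : twoRuTailCert.rels.length ≤ 105 ∧ twoRuTailEqs.length ≤ 220 := by
  constructor <;> decide +kernel

theorem two_cert : twoRuTailCert.checkB = true := by
  obtain ⟨h1, h2⟩ := two_lengths
  refine checkB_of_parts two_rest (P := (List.range 11).map fun k => (20 * k, 20))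
    (Q := (List.range 5).map fun k => (21 * k, 21)) ?_ ?_ ?_ ?_
  · intro a ha
    obtain ⟨k, hk, rfl⟩ := List.mem_map.1 ha
    have hk := List.mem_range.1 hk
    interval_cases k
    exacts [two_eqs_0, two_eqs_1, two_eqs_2, two_eqs_3, two_eqs_4, two_eqs_5, two_eqs_6, two_eqs_7, two_eqs_8, two_eqs_9, two_eqs_10]
  · intro k hk
    exact ⟨(20 * (k / 20), 20), List.mem_map.2 ⟨k / 20, List.mem_range.2 (by omega), rfl⟩, by
      simp only; omega, by simp only; omega⟩
  · intro a ha
    obtain ⟨k, hk, rfl⟩ := List.mem_map.1 ha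
    have hk := List.mem_range.1 hk
    interval_cases k
    exacts [two_combos_0, two_combos_1, two_combos_2, two_combos_3, two_combos_4]
  · intro k hk
    exact ⟨(21 * (k / 21), 21), List.mem_map.2 ⟨k / 21, List.mem_range.2 (by omega), rfl⟩, by
      simp only; omega, by simp only; omega⟩

/-- The codes known after 0 parts. -/
noncomputable def twoKnown0 : List (List ℕ) := [CfsgLib.RuLattice.cU, CfsgLib.RuLattice.cV, CfsgLib.RuLattice.cW]

/-- The codes known after 1 parts. -/
noncomputable def twoKnown1 : List (List ℕ) := twoKnown0 ++ twoRuTailPart0.map CfsgLib.Rigid.Op.M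

/-- The codes known after 2 parts. -/
noncomputable def twoKnown2 : List (List ℕ) := twoKnown1 ++ twoRuTailPart1.map CfsgLib.Rigid.Op.M

/-- The codes known after 3 parts. -/
noncomputable def twoKnown3 : List (List ℕ) := twoKnown2 ++ twoRuTailPart2.map CfsgLib.Rigid.Op.M

/-- The codes known after 4 parts. -/
noncomputable def twoKnown4 : List (List ℕ) := twoKnown3 ++ twoRuTailPart3.map CfsgLib.Rigid.Op.M

/-- The codes known after 5 parts. -/
noncomputable def twoKnown5 : List (List ℕ) := twoKnown4 ++ twoRuTailPart4.map CfsgLib.Rigid.Op.M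

/-- The codes known after 6 parts. -/
noncomputable def twoKnown6 : List (List ℕ) := twoKnown5 ++ twoRuTailPart5.map CfsgLib.Rigid.Op.M

/-- The codes known after 7 parts. -/
noncomputable def twoKnown7 : List (List ℕ) := twoKnown6 ++ twoRuTailPart6.map CfsgLib.Rigid.Op.M

/-- The codes known after 8 parts. -/
noncomputable def twoKnown8 : List (List ℕ) := twoKnown7 ++ twoRuTailPart7.map CfsgLib.Rigid.Op.M

/-- The codes known after 9 parts. -/
noncomputable def twoKnown9 : List (List ℕ) := twoKnown8 ++ twoRuTailPart8.map CfsgLib.Rigid.Op.M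

/-- The codes known after 10 parts. -/
noncomputable def twoKnown10 : List (List ℕ) := twoKnown9 ++ twoRuTailPart9.map CfsgLib.Rigid.Op.M

theorem two_refs0 : refsB CfsgLib.RuLattice.oneC twoKnown0 twoRuTailRef0 twoRuTailInp0 = true := by decide +kernel

theorem two_part0 : CfsgLib.Rigid.slpOk CfsgLib.RuLattice.oneC twoRuTailPart0 twoRuTailInp0 = true := by decide +kernel

theorem two_refs1 : refsB CfsgLib.RuLattice.oneC twoKnown1 twoRuTailRef1 twoRuTailInp1 = true := by decide +kernel

theorem two_part1 : CfsgLib.Rigid.slpOk CfsgLib.RuLattice.oneC twoRuTailPart1 twoRuTailInp1 = true := by decide +kernel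

theorem two_refs2 : refsB CfsgLib.RuLattice.oneC twoKnown2 twoRuTailRef2 twoRuTailInp2 = true := by decide +kernel

theorem two_part2 : CfsgLib.Rigid.slpOk CfsgLib.RuLattice.oneC twoRuTailPart2 twoRuTailInp2 = true := by decide +kernel

theorem two_refs3 : refsB CfsgLib.RuLattice.oneC twoKnown3 twoRuTailRef3 twoRuTailInp3 = true := by decide +kernel

theorem two_part3 : CfsgLib.Rigid.slpOk CfsgLib.RuLattice.oneC twoRuTailPart3 twoRuTailInp3 = true := by decide +kernel

theorem two_refs4 : refsB CfsgLib.RuLattice.oneC twoKnown4 twoRuTailRef4 twoRuTailInp4 = true := by decide +kernel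

theorem two_part4 : CfsgLib.Rigid.slpOk CfsgLib.RuLattice.oneC twoRuTailPart4 twoRuTailInp4 = true := by decide +kernel

theorem two_refs5 : refsB CfsgLib.RuLattice.oneC twoKnown5 twoRuTailRef5 twoRuTailInp5 = true := by decide +kernel

theorem two_part5 : CfsgLib.Rigid.slpOk CfsgLib.RuLattice.oneC twoRuTailPart5 twoRuTailInp5 = true := by decide +kernel

theorem two_refs6 : refsB CfsgLib.RuLattice.oneC twoKnown6 twoRuTailRef6 twoRuTailInp6 = true := by decide +kernel

theorem two_part6 : CfsgLib.Rigid.slpOk CfsgLib.RuLattice.oneC twoRuTailPart6 twoRuTailInp6 = true := by decide +kernel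

theorem two_refs7 : refsB CfsgLib.RuLattice.oneC twoKnown7 twoRuTailRef7 twoRuTailInp7 = true := by decide +kernel

theorem two_part7 : CfsgLib.Rigid.slpOk CfsgLib.RuLattice.oneC twoRuTailPart7 twoRuTailInp7 = true := by decide +kernel

theorem two_refs8 : refsB CfsgLib.RuLattice.oneC twoKnown8 twoRuTailRef8 twoRuTailInp8 = true := by decide +kernel

theorem two_part8 : CfsgLib.Rigid.slpOk CfsgLib.RuLattice.oneC twoRuTailPart8 twoRuTailInp8 = true := by decide +kernel

theorem two_refs9 : refsB CfsgLib.RuLattice.oneC twoKnown9 twoRuTailRef9 twoRuTailInp9 = true := by decide +kernel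

theorem two_part9 : CfsgLib.Rigid.slpOk CfsgLib.RuLattice.oneC twoRuTailPart9 twoRuTailInp9 = true := by decide +kernel

theorem two_gens : refsB CfsgLib.RuLattice.oneC twoKnown10 twoRuTailGi twoRuTailGens = true := by decide +kernel

theorem two_hs : refsB CfsgLib.RuLattice.oneC twoKnown10 twoRuTailHi twoRuTailHs = true := by decide +kernel

theorem two_coded {G : Type} [Group G] (c : CfsgLib.Rigid.Cod G) (h1 : c.C 1 = CfsgLib.RuLattice.oneC)
    (h0 : AllCoded c twoKnown0) : AllCoded c twoRuTailGens ∧ AllCoded c twoRuTailHs := by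
  have h1' : AllCoded c twoKnown1 := allCoded_part c h1 h0 two_refs0 two_part0
  have h2' : AllCoded c twoKnown2 := allCoded_part c h1 h1' two_refs1 two_part1
  have h3' : AllCoded c twoKnown3 := allCoded_part c h1 h2' two_refs2 two_part2
  have h4' : AllCoded c twoKnown4 := allCoded_part c h1 h3' two_refs3 two_part3
  have h5' : AllCoded c twoKnown5 := allCoded_part c h1 h4' two_refs4 two_part4
  have h6' : AllCoded c twoKnown6 := allCoded_part c h1 h5' two_refs5 two_part5
  have h7' : AllCoded c twoKnown7 := allCoded_part c h1 h6' two_refs6 two_part6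
  have h8' : AllCoded c twoKnown8 := allCoded_part c h1 h7' two_refs7 two_part7
  have h9' : AllCoded c twoKnown9 := allCoded_part c h1 h8' two_refs8 two_part8
  have h10' : AllCoded c twoKnown10 := allCoded_part c h1 h9' two_refs9 two_part9
  exact ⟨allCoded_refs c h10' two_gens, allCoded_refs c h10' two_hs⟩

theorem two_rels : relsB CfsgLib.RuLattice.oneC twoRuTailGens twoRuTailHs twoRuTailCert = true := by decide +kernel

theorem two_layers : layersB twoRuTailCert.p CfsgLib.RuLattice.oneC twoRuTailGens [] twoRuTailLayers = true ∧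
    twoRuTailCert.p ^ twoRuTailCert.n ≤ layersM twoRuTailLayers := by
  constructor <;> decide +kernel

theorem two_sizes : twoRuTailCert.p = 2 ∧ twoRuTailCert.q = 4 ∧ 
    twoRuTailCert.n = 14 := by
  refine ⟨?_, ?_, ?_⟩ <;> decide +kernel

end CfsgLib.Schur.Tails.RigidCert.Ru
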