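import Cfsg.Agent.Lib.Tails.RuWitness
import Cfsg.Agent.Lib.Tails.RuTwoCheck
import Cfsg.Agent.Lib.Tails.RuThreeCheck
import Cfsg.Agent.Lib.Tails.RuFiveCheck
import Cfsg.Agent.Lib.Tails.Combine
import Cfsg.Agent.Lib.Tails.SLNine

/-!
# The multiplier of the Rudvalis group
-/

set_option autoImplicit false
set_option maxRecDepth 20000

namespace CfsgLib.Schur.Tails.RigidCert.Ru

open Cfsg Cfsg.Spor CfsgLib.RuLattice CfsgLib.TailsData Subgroup
open scoped commutatorElement

attribute [local irreducible] twoRuTailCert threeRuTailCert fiveRuTailCert twoRuTailGens threeRuTailGens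
  fiveRuTailGens twoRuTailHs threeRuTailHs fiveRuTailHs twoRuTailLayers threeRuTailLayers fiveRuTailLayers

theorem finite_act : Finite Act := Quotient.finite _

theorem base_coded : AllCoded act [cU, cV, cW] := by
  intro M hM
  obtain ⟨hu, hv, hw, -⟩ := eUVW
  simp only [List.mem_cons, List.not_mem_nil, or_false] at hM
  rcases hM with rfl | rfl | rfl
  exacts [⟨eU, hu⟩, ⟨eV, hv⟩, ⟨eW, hw⟩]

theorem bound {Γ : Type} [Group Γ] [Finite Γ] (σ : Γ →* Act) (hσ : Cfsg.IsStemExtension σ) :
    IsCyclic σ.ker ∧ Nat.card σ.ker ∣ 2 := by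
  have := finite_act
  obtain ⟨a2, b2, n2⟩ := two_sizes
  obtain ⟨a3, b3, t3, n3⟩ := three_sizes
  obtain ⟨a5, b5, t5, n5⟩ := five_sizes
  have hinj := full_facts.2.2
  have h4 : ¬ 2 ^ 2 ∣ Nat.card σ.ker := by
    have : Fact (Nat.Prime 2) := ⟨Nat.prime_two⟩
    have : Fact twoRuTailCert.p.Prime := ⟨a2 ▸ Nat.prime_two⟩
    exact (realised_parts act hinj act_one (two_coded act act_one base_coded).1
      (two_coded act act_one base_coded).2 two_cert two_rels two_layers.1 two_layers.2
      (by rw [a2, n2, cards.1]; decide)).sq_not_dvd a2 b2 hσ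
  have hne : ∀ p : ℕ, p.Prime → p ≠ 2 → ¬ p ∣ Nat.card σ.ker := by
    intro p hp hp2
    have := Fact.mk hp
    by_cases hsq : p ^ 2 ∣ Nat.card Act
    · have h35 : p = 3 ∨ p = 5 := by
        by_contra hcon
        push Not at hcon
        rw [cards.1, show (145926144000 : ℕ) = (2 ^ 14 * 3 ^ 3 * 5 ^ 3) * (7 * (13 * 29)) by norm_num] at hsq
        have hco : Nat.Coprime (p ^ 2) (2 ^ 14 * 3 ^ 3 * 5 ^ 3) := (Nat.Coprime.mul_right
          (Nat.Coprime.pow 2 14 ((Nat.coprime_primes hp Nat.prime_two).2 hp2))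
          (Nat.Coprime.pow 2 3 ((Nat.coprime_primes hp Nat.prime_three).2 hcon.1))).mul_right
          (Nat.Coprime.pow 2 3 ((Nat.coprime_primes hp Nat.prime_five).2 hcon.2))
        have hsf : Squarefree (7 * (13 * 29)) := by
          rw [Nat.squarefree_mul (by norm_num), Nat.squarefree_mul (by norm_num)]
          exact ⟨(by norm_num : Nat.Prime 7).squarefree, (by norm_num : Nat.Prime 13).squarefree,
            (by norm_num : Nat.Prime 29).squarefree⟩
        exact hp.not_isUnit (hsf p (by rw [← pow_two]; exact hco.dvd_of_dvd_mul_left hsq))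
      rcases h35 with rfl | rfl
      · have : Fact threeRuTailCert.p.Prime := ⟨a3 ▸ hp⟩
        exact (realised_parts act hinj act_one (three_coded act act_one base_coded).1
          (three_coded act act_one base_coded).2 three_cert three_rels three_layers.1 three_layers.2
          (by rw [a3, n3, cards.1]; decide)).not_dvd a3 b3 t3 hσ
      · have : Fact fiveRuTailCert.p.Prime := ⟨a5 ▸ hp⟩
        exact (realised_parts act hinj act_one (five_coded act act_one base_coded).1
          (five_coded act act_one base_coded).2 five_cert five_rels five_layers.1 five_layers.2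
          (by rw [a5, n5, cards.1]; decide)).not_dvd a5 b5 t5 hσ
    · exact not_dvd_of_sq hσ hsq
  have hdvd : Nat.card σ.ker ∣ 2 := by
    rw [Nat.dvd_iff_prime_pow_dvd_dvd]
    intro p k hp hpk
    rcases Nat.eq_zero_or_pos k with rfl | hk
    · simp
    obtain rfl : p = 2 := by
      by_contra hne2
      exact hne p hp hne2 ((dvd_pow_self p hk.ne').trans hpk)
    have : k ≤ 1 := by
      by_contra hcon
      exact h4 ((pow_dvd_pow 2 (by omega)).trans hpk)
    exact (pow_dvd_pow 2 this).trans (by norm_num)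
  refine ⟨?_, hdvd⟩
  rcases (Nat.dvd_prime Nat.prime_two).1 hdvd with h | h
  · have : Subsingleton σ.ker := (Nat.card_eq_one_iff_unique.1 h).1
    infer_instance
  · have : Fact (Nat.Prime 2) := ⟨Nat.prime_two⟩
    exact isCyclic_of_prime_card (p := 2) h

theorem act_perfect : commutator Act = ⊤ := by
  have := act_simple
  refine (IsSimpleGroup.eq_bot_or_eq_top_of_normal (commutator Act) inferInstance).resolve_left fun h => ?_
  have hc := (commutator_eq_bot_iff_center_eq_top _).1 h
  exact act_noncomm fun x y => (Subgroup.mem_center_iff.1 (hc.ge (Subgroup.mem_top y)) x)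

theorem exists_cover : ∃ (Γ : Type) (_ : Group Γ) (_ : Finite Γ) (σ : Γ →* Act),
    Cfsg.IsStemExtension σ ∧ Nonempty (σ.ker ≃* Multiplicative (ZMod 2)) := by
  have := finite_act
  let π : fourRu →* Act := QuotientGroup.mk' kerSub
  have hπ : Function.Surjective π := QuotientGroup.mk'_surjective _
  have hc : π.ker ≤ center fourRu := by
    rw [show π.ker = kerSub from QuotientGroup.ker_mk' _, center_eq]
  have hperf := derived_perfect act_perfect hπ hc
  let σ : ↥(commutator fourRu) →* Act := π.comp (commutator fourRu).subtype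
  have hσ : Cfsg.IsStemExtension σ := by
    refine ⟨fun g => ?_, fun x hx => mem_center_iff.2 fun y =>
      Subtype.ext (mem_center_iff.1 (hc (show π x.1 = 1 from hx)) y.1), le_top.trans hperf.ge⟩
    obtain ⟨y, hy, e⟩ := (commutator_mul_ker act_perfect hπ).ge (mem_top g)
    exact ⟨⟨y, hy⟩, e⟩
  refine ⟨↥(commutator fourRu), inferInstance, inferInstance, σ, hσ, ?_⟩
  obtain ⟨hcyc, hdvd⟩ := bound σ hσ
  have hne : σ.ker ≠ ⊥ := by
    intro hb
    obtain ⟨X, Y, e, hXY⟩ := RuWit.exists_noncomm
    have hz : (⟨⁅X, Y⁆, commutator_mem_commutator (mem_top X) (mem_top Y)⟩ : ↥(commutator fourRu)) ∈ σ.ker := by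
      show π ⁅X, Y⁆ = 1
      rw [map_commutatorElement, commutatorElement_eq_one_iff_mul_comm, ← map_mul, ← map_mul]
      exact e
    rw [hb, mem_bot, Subtype.ext_iff] at hz
    exact hXY (commutatorElement_eq_one_iff_mul_comm.1 hz)
  have hlt : 1 < Nat.card σ.ker := (Subgroup.one_lt_card_iff_ne_bot _).2 hne
  have hc2 : Nat.card σ.ker = 2 := by
    have := Nat.le_of_dvd (by norm_num) hdvd
    omega
  exact ⟨(zmodCyclicMulEquiv hcyc).symm.trans
    (AddEquiv.toMultiplicative (ZMod.ringEquivCongr hc2).toAddEquiv)⟩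

theorem multiplier : Cfsg.HasCyclicSchurMultiplier Ru 2 := by
  have := finite_act
  exact hasCyclic_congr ruEquiv.symm (hasCyclic_of_bound exists_cover fun _ _ _ σ hσ => bound σ hσ)

end CfsgLib.Schur.Tails.RigidCert.Ru
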