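import Mathlib

/-!
Generated data: a word giving an element commuting with the involution in Ru, and its walks.
-/

set_option autoImplicit false
set_option maxRecDepth 100000

namespace CfsgLib.TailsData

/-- The word, in a generator, the involution and the inverse of the generator. -/
def ruWitWord : List ℕ := [1, 0, 1, 0, 0, 1, 2, 2, 1, 2, 1, 0, 1, 0, 0, 1, 2, 2, 1, 2, 1, 0, 1, 0, 0, 1, 2, 2, 1, 2, 1, 0, 1, 0, 0, 1, 2, 2, 1, 2, 1, 0, 1, 0, 0, 1, 2, 2, 1, 2, 1, 0, 1, 0, 0, 1, 2, 2, 1, 2, 1, 0, 1, 0, 0, 1, 2, 2, 1, 2]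

/-- The code of the inverse of the generator. -/
def ruWitInv : List ℕ := [23562186, 42020808, 26567979, 209234246, 169015855, 225570260, 214416938, 107066286, 149762724, 10286004, 117390389, 198932536, 33367544, 164594187, 52541311, 200301175, 126880465, 166537927, 53793411, 138799130, 36240042, 124181087, 163658105, 207635295, 18314226, 245306355, 45090667, 12924620]

/-- Some images of the first vector. -/
def ruWalkLeftPart0 : List (List ℤ) := [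
  [.ofNat 0, .ofNat 0, .ofNat 0, .ofNat 1, .ofNat 0, .ofNat 0, .negSucc 0, .ofNat 1, .ofNat 0, .ofNat 0, .negSucc 1, .ofNat 1, .negSucc 1, .ofNat 0, .negSucc 2, .negSucc 0, .ofNat 3, .negSucc 0, .ofNat 1, .ofNat 2, .negSucc 3, .negSucc 0, .negSucc 3, .negSucc 2, .negSucc 3, .negSucc 1, .negSucc 1, .negSucc 3, .negSucc 2, .negSucc 2, .ofNat 3, .negSucc 6, .negSucc 5, .negSucc 1, .ofNat 1, .negSucc 12, .negSucc 1, .negSucc 2, .ofNat 7, .negSucc 18, .ofNat 3, .negSucc 15, .ofNat 17, .negSucc 13, .ofNat 11, .negSucc 16, .ofNat 30, .negSucc 2, .ofNat 24, .negSucc 20, .ofNat 63, .negSucc 16, .ofNat 38, .negSucc 7, .ofNat 41, .negSucc 0],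
  [.negSucc 0, .ofNat 0, .ofNat 1, .ofNat 0, .ofNat 0, .ofNat 0, .negSucc 0, .ofNat 1, .negSucc 0, .ofNat 1, .negSucc 0, .negSucc 0, .negSucc 1, .ofNat 0, .negSucc 2, .negSucc 2, .ofNat 0, .ofNat 0, .ofNat 1, .ofNat 1, .negSucc 0, .negSucc 3, .ofNat 1, .negSucc 2, .ofNat 1, .negSucc 1, .ofNat 1, .negSucc 2, .negSucc 0, .ofNat 0, .ofNat 1, .negSucc 2, .negSucc 1, .negSucc 3, .ofNat 6, .negSucc 9, .negSucc 0, .negSucc 3, .ofNat 11, .negSucc 8, .ofNat 9, .negSucc 6, .ofNat 19, .negSucc 1, .ofNat 18, .negSucc 6, .ofNat 23, .ofNat 16, .ofNat 25, .negSucc 3, .ofNat 48, .ofNat 20, .ofNat 28, .ofNat 14, .ofNat 32, .ofNat 20],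
  [.ofNat 0, .ofNat 0, .ofNat 0, .ofNat 1, .ofNat 0, .ofNat 0, .negSucc 0, .ofNat 1, .ofNat 0, .ofNat 0, .negSucc 1, .ofNat 1, .negSucc 1, .ofNat 0, .negSucc 2, .negSucc 0, .ofNat 3, .negSucc 0, .ofNat 1, .ofNat 2, .negSucc 3, .negSucc 0, .negSucc 3, .negSucc 2, .negSucc 3, .negSucc 1, .negSucc 1, .negSucc 3, .negSucc 2, .negSucc 2, .ofNat 3, .negSucc 6, .negSucc 5, .negSucc 1, .ofNat 1, .negSucc 12, .negSucc 1, .negSucc 2, .ofNat 7, .negSucc 18, .ofNat 3, .negSucc 15, .ofNat 17, .negSucc 13, .ofNat 11, .negSucc 16, .ofNat 30, .negSucc 2, .ofNat 24, .negSucc 20, .ofNat 63, .negSucc 16, .ofNat 38, .negSucc 7, .ofNat 41, .negSucc 0],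
  [.ofNat 0, .ofNat 0, .ofNat 0, .ofNat 1, .ofNat 1, .ofNat 0, .ofNat 0, .ofNat 1, .ofNat 2, .ofNat 1, .negSucc 0, .ofNat 2, .ofNat 1, .ofNat 4, .negSucc 3, .ofNat 6, .ofNat 0, .ofNat 1, .ofNat 0, .ofNat 1, .negSucc 6, .ofNat 4, .negSucc 7, .negSucc 1, .negSucc 2, .ofNat 4, .negSucc 6, .ofNat 2, .negSucc 5, .ofNat 4, .negSucc 14, .ofNat 0, .negSucc 7, .ofNat 5, .negSucc 28, .negSucc 8, .negSucc 9, .ofNat 3, .negSucc 34, .negSucc 20, .negSucc 34, .negSucc 18, .negSucc 19, .negSucc 49, .negSucc 29, .negSucc 50, .ofNat 24, .negSucc 79, .negSucc 21, .negSucc 70, .ofNat 19, .negSucc 148, .ofNat 29, .negSucc 86, .ofNat 43, .negSucc 99],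
  [.ofNat 0, .ofNat 0, .ofNat 1, .ofNat 1, .ofNat 1, .ofNat 1, .ofNat 1, .ofNat 2, .ofNat 1, .ofNat 0, .ofNat 0, .ofNat 3, .ofNat 0, .ofNat 5, .negSucc 4, .ofNat 6, .ofNat 0, .negSucc 0, .ofNat 0, .ofNat 1, .negSucc 6, .ofNat 5, .negSucc 8, .negSucc 0, .negSucc 3, .ofNat 7, .negSucc 8, .ofNat 2, .negSucc 7, .ofNat 5, .negSucc 19, .negSucc 5, .negSucc 10, .ofNat 8, .negSucc 32, .negSucc 11, .negSucc 11, .ofNat 2, .negSucc 41, .negSucc 28, .negSucc 39, .negSucc 24, .negSucc 17, .negSucc 57, .negSucc 30, .negSucc 58, .ofNat 30, .negSucc 86, .negSucc 23, .negSucc 83, .ofNat 25, .negSucc 173, .ofNat 34, .negSucc 98, .ofNat 55, .negSucc 111],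
  [.ofNat 0, .ofNat 0, .ofNat 1, .ofNat 1, .ofNat 1, .negSucc 0, .ofNat 2, .ofNat 1, .ofNat 0, .ofNat 0, .ofNat 0, .ofNat 2, .ofNat 1, .ofNat 3, .negSucc 0, .ofNat 5, .ofNat 0, .negSucc 0, .ofNat 2, .ofNat 0, .negSucc 2, .ofNat 5, .negSucc 5, .ofNat 2, .negSucc 0, .ofNat 4, .negSucc 3, .ofNat 3, .negSucc 3, .ofNat 4, .negSucc 9, .ofNat 2, .negSucc 2, .ofNat 8, .negSucc 19, .ofNat 2, .negSucc 4, .ofNat 6, .negSucc 27, .negSucc 3, .negSucc 25, .negSucc 1, .negSucc 24, .negSucc 24, .negSucc 32, .negSucc 19, .negSucc 6, .negSucc 50, .negSucc 36, .negSucc 36, .negSucc 31, .negSucc 96, .negSucc 9, .negSucc 60, .negSucc 4, .negSucc 72]]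

/-- Some images of the first vector. -/
def ruWalkLeftPart1 : List (List ℤ) := [
  [.ofNat 0, .ofNat 0, .ofNat 0, .ofNat 1, .ofNat 1, .ofNat 1, .negSucc 0, .ofNat 1, .ofNat 0, .ofNat 0, .negSucc 1, .ofNat 1, .negSucc 1, .ofNat 2, .negSucc 4, .ofNat 0, .ofNat 0, .ofNat 1, .negSucc 0, .ofNat 3, .negSucc 5, .negSucc 1, .negSucc 4, .negSucc 5, .negSucc 3, .ofNat 2, .negSucc 4, .negSucc 0, .negSucc 5, .negSucc 0, .negSucc 9, .negSucc 8, .negSucc 9, .negSucc 0, .negSucc 12, .negSucc 20, .negSucc 8, .negSucc 3, .negSucc 11, .negSucc 32, .negSucc 14, .negSucc 30, .ofNat 13, .negSucc 41, .ofNat 6, .negSucc 50, .ofNat 55, .negSucc 39, .ofNat 23, .negSucc 61, .ofNat 88, .negSucc 89, .ofNat 68, .negSucc 44, .ofNat 84, .negSucc 44],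
  [.negSucc 0, .ofNat 0, .negSucc 0, .negSucc 0, .ofNat 1, .negSucc 0, .ofNat 0, .negSucc 0, .ofNat 1, .negSucc 0, .ofNat 1, .negSucc 1, .ofNat 3, .negSucc 0, .ofNat 5, .ofNat 0, .ofNat 0, .ofNat 1, .negSucc 0, .negSucc 0, .ofNat 6, .ofNat 2, .ofNat 4, .ofNat 4, .ofNat 5, .negSucc 0, .ofNat 5, .ofNat 2, .ofNat 5, .ofNat 2, .ofNat 6, .ofNat 12, .ofNat 8, .ofNat 1, .ofNat 9, .ofNat 22, .ofNat 6, .ofNat 5, .ofNat 6, .ofNat 34, .ofNat 6, .ofNat 26, .negSucc 17, .ofNat 34, .negSucc 11, .ofNat 37, .negSucc 49, .ofNat 23, .negSucc 25, .ofNat 47, .negSucc 86, .ofNat 62, .negSucc 58, .ofNat 31, .negSucc 71, .ofNat 22],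
  [.ofNat 1, .ofNat 0, .ofNat 1, .negSucc 0, .ofNat 0, .negSucc 0, .ofNat 1, .ofNat 0, .ofNat 1, .ofNat 0, .ofNat 2, .ofNat 2, .ofNat 3, .ofNat 1, .ofNat 2, .ofNat 5, .ofNat 0, .ofNat 1, .ofNat 1, .ofNat 0, .ofNat 0, .ofNat 6, .negSucc 2, .ofNat 5, .ofNat 2, .ofNat 4, .negSucc 1, .ofNat 6, .ofNat 2, .ofNat 6, .negSucc 7, .ofNat 11, .ofNat 2, .ofNat 9, .negSucc 18, .ofNat 16, .negSucc 0, .ofNat 9, .negSucc 28, .ofNat 17, .negSucc 26, .ofNat 20, .negSucc 44, .negSucc 4, .negSucc 47, .ofNat 4, .negSucc 48, .negSucc 46, .negSucc 60, .negSucc 8, .negSucc 103, .negSucc 66, .negSucc 54, .negSucc 53, .negSucc 55, .negSucc 68],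
  [.ofNat 1, .ofNat 0, .ofNat 0, .ofNat 1, .ofNat 0, .negSucc 0, .ofNat 0, .ofNat 1, .ofNat 0, .ofNat 0, .negSucc 0, .ofNat 2, .negSucc 0, .ofNat 0, .negSucc 1, .ofNat 1, .ofNat 1, .negSucc 0, .ofNat 1, .ofNat 1, .negSucc 2, .ofNat 0, .negSucc 2, .negSucc 0, .negSucc 2, .negSucc 0, .negSucc 1, .negSucc 1, .negSucc 0, .negSucc 0, .ofNat 1, .negSucc 2, .negSucc 2, .ofNat 1, .negSucc 1, .negSucc 6, .negSucc 1, .ofNat 1, .ofNat 0, .negSucc 9, .negSucc 3, .negSucc 6, .ofNat 2, .negSucc 11, .negSucc 1, .negSucc 10, .ofNat 13, .negSucc 12, .ofNat 5, .negSucc 16, .ofNat 24, .negSucc 25, .ofNat 17, .negSucc 16, .ofNat 17, .negSucc 12],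
  [.ofNat 0, .ofNat 0, .ofNat 0, .ofNat 0, .ofNat 0, .ofNat 0, .ofNat 0, .ofNat 0, .ofNat 0, .ofNat 1, .ofNat 0, .ofNat 1, .negSucc 0, .ofNat 0, .negSucc 0, .ofNat 0, .ofNat 0, .ofNat 0, .ofNat 0, .ofNat 0, .negSucc 0, .ofNat 1, .negSucc 0, .ofNat 0, .ofNat 0, .ofNat 0, .negSucc 0, .ofNat 0, .ofNat 0, .ofNat 0, .negSucc 1, .negSucc 0, .negSucc 0, .ofNat 0, .negSucc 2, .negSucc 2, .negSucc 1, .ofNat 0, .negSucc 2, .negSucc 3, .negSucc 3, .negSucc 1, .negSucc 1, .negSucc 5, .negSucc 1, .negSucc 5, .ofNat 3, .negSucc 8, .negSucc 0, .negSucc 8, .ofNat 5, .negSucc 15, .ofNat 5, .negSucc 10, .ofNat 7, .negSucc 9],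
  [.ofNat 0, .negSucc 0, .ofNat 1, .negSucc 0, .ofNat 0, .ofNat 1, .ofNat 1, .ofNat 0, .ofNat 1, .negSucc 0, .ofNat 3, .ofNat 0, .ofNat 2, .ofNat 1, .ofNat 3, .ofNat 4, .ofNat 0, .ofNat 0, .ofNat 1, .ofNat 1, .ofNat 3, .ofNat 6, .negSucc 1, .ofNat 6, .ofNat 2, .ofNat 4, .ofNat 1, .ofNat 4, .ofNat 2, .ofNat 4, .negSucc 3, .ofNat 9, .ofNat 3, .ofNat 8, .negSucc 9, .ofNat 19, .ofNat 0, .ofNat 9, .negSucc 19, .ofNat 23, .negSucc 15, .ofNat 21, .negSucc 35, .ofNat 10, .negSucc 35, .ofNat 16, .negSucc 52, .negSucc 20, .negSucc 51, .ofNat 10, .negSucc 101, .negSucc 25, .negSucc 62, .negSucc 25, .negSucc 63, .negSucc 37]]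

/-- Some images of the first vector. -/
def ruWalkLeftPart2 : List (List ℤ) := [
  [.negSucc 0, .negSucc 0, .ofNat 0, .negSucc 0, .ofNat 0, .ofNat 0, .ofNat 1, .negSucc 2, .ofNat 0, .negSucc 0, .ofNat 3, .negSucc 2, .ofNat 3, .negSucc 1, .ofNat 9, .ofNat 0, .negSucc 0, .ofNat 0, .ofNat 0, .ofNat 0, .ofNat 10, .ofNat 3, .ofNat 4, .ofNat 8, .ofNat 5, .ofNat 0, .ofNat 6, .ofNat 4, .ofNat 6, .negSucc 0, .ofNat 8, .ofNat 13, .ofNat 12, .ofNat 4, .ofNat 13, .ofNat 30, .ofNat 8, .ofNat 8, .ofNat 6, .ofNat 45, .ofNat 7, .ofNat 36, .negSucc 24, .ofNat 47, .negSucc 15, .ofNat 55, .negSucc 72, .ofNat 34, .negSucc 35, .ofNat 67, .negSucc 122, .ofNat 87, .negSucc 82, .ofNat 43, .negSucc 103, .ofNat 36],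
  [.negSucc 0, .ofNat 0, .ofNat 0, .ofNat 0, .negSucc 0, .negSucc 0, .negSucc 0, .negSucc 0, .ofNat 0, .ofNat 0, .ofNat 0, .negSucc 0, .ofNat 0, .negSucc 1, .ofNat 2, .negSucc 2, .ofNat 0, .ofNat 1, .ofNat 0, .negSucc 0, .ofNat 2, .negSucc 2, .ofNat 4, .negSucc 0, .ofNat 2, .negSucc 1, .ofNat 3, .ofNat 0, .ofNat 1, .negSucc 0, .ofNat 6, .ofNat 2, .ofNat 4, .negSucc 4, .ofNat 10, .ofNat 2, .ofNat 5, .negSucc 1, .ofNat 15, .ofNat 6, .ofNat 14, .ofNat 7, .ofNat 9, .ofNat 18, .ofNat 14, .ofNat 16, .negSucc 4, .ofNat 29, .ofNat 13, .ofNat 25, .ofNat 2, .ofNat 57, .negSucc 1, .ofNat 34, .negSucc 8, .ofNat 39],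
  [.ofNat 1, .negSucc 0, .ofNat 1, .negSucc 0, .ofNat 0, .ofNat 1, .ofNat 0, .ofNat 2, .negSucc 0, .negSucc 0, .ofNat 1, .ofNat 0, .ofNat 0, .ofNat 0, .ofNat 0, .ofNat 1, .ofNat 1, .negSucc 0, .ofNat 1, .ofNat 1, .ofNat 0, .ofNat 1, .negSucc 0, .ofNat 1, .ofNat 0, .ofNat 1, .ofNat 0, .ofNat 0, .ofNat 1, .ofNat 1, .negSucc 0, .ofNat 0, .ofNat 0, .ofNat 3, .negSucc 0, .ofNat 3, .ofNat 0, .ofNat 2, .negSucc 2, .ofNat 4, .negSucc 1, .ofNat 5, .negSucc 5, .ofNat 3, .negSucc 7, .ofNat 5, .negSucc 11, .ofNat 0, .negSucc 10, .ofNat 2, .negSucc 21, .negSucc 2, .negSucc 15, .negSucc 5, .negSucc 11, .negSucc 6],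
  [.ofNat 0, .ofNat 1, .ofNat 1, .negSucc 0, .ofNat 1, .negSucc 0, .ofNat 1, .ofNat 1, .ofNat 1, .negSucc 0, .ofNat 2, .ofNat 1, .ofNat 3, .ofNat 2, .ofNat 2, .ofNat 6, .ofNat 2, .negSucc 0, .ofNat 4, .ofNat 0, .ofNat 2, .ofNat 7, .negSucc 3, .ofNat 8, .ofNat 3, .ofNat 4, .negSucc 0, .ofNat 5, .ofNat 2, .ofNat 7, .negSucc 4, .ofNat 14, .ofNat 1, .ofNat 11, .negSucc 16, .ofNat 23, .ofNat 0, .ofNat 10, .negSucc 28, .ofNat 25, .negSucc 25, .ofNat 28, .negSucc 47, .ofNat 5, .negSucc 55, .ofNat 15, .negSucc 66, .negSucc 38, .negSucc 72, .ofNat 1, .negSucc 129, .negSucc 54, .negSucc 75, .negSucc 49, .negSucc 81, .negSucc 68],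
  [.ofNat 2, .ofNat 2, .ofNat 0, .ofNat 0, .ofNat 1, .ofNat 0, .ofNat 1, .ofNat 2, .ofNat 1, .negSucc 0, .ofNat 1, .ofNat 3, .ofNat 1, .ofNat 2, .negSucc 2, .ofNat 7, .ofNat 1, .negSucc 0, .ofNat 2, .ofNat 0, .negSucc 4, .ofNat 6, .negSucc 5, .ofNat 2, .negSucc 1, .ofNat 3, .negSucc 4, .ofNat 3, .ofNat 0, .ofNat 5, .negSucc 9, .ofNat 3, .negSucc 4, .ofNat 11, .negSucc 22, .ofNat 4, .negSucc 6, .ofNat 5, .negSucc 32, .negSucc 4, .negSucc 27, .negSucc 0, .negSucc 29, .negSucc 27, .negSucc 40, .negSucc 20, .negSucc 13, .negSucc 57, .negSucc 44, .negSucc 39, .negSucc 41, .negSucc 106, .negSucc 17, .negSucc 70, .negSucc 10, .negSucc 84],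
  [.ofNat 0, .ofNat 1, .ofNat 0, .ofNat 1, .ofNat 0, .negSucc 0, .ofNat 0, .ofNat 0, .ofNat 1, .ofNat 0, .negSucc 0, .ofNat 1, .ofNat 1, .ofNat 1, .negSucc 0, .ofNat 1, .ofNat 0, .negSucc 0, .ofNat 1, .negSucc 0, .negSucc 0, .ofNat 0, .ofNat 0, .ofNat 0, .negSucc 0, .ofNat 1, .negSucc 1, .ofNat 2, .negSucc 1, .ofNat 2, .negSucc 1, .ofNat 0, .negSucc 0, .ofNat 1, .negSucc 5, .negSucc 1, .negSucc 0, .ofNat 0, .negSucc 5, .negSucc 5, .negSucc 5, .negSucc 1, .negSucc 3, .negSucc 8, .negSucc 5, .negSucc 7, .ofNat 3, .negSucc 13, .negSucc 5, .negSucc 12, .ofNat 2, .negSucc 27, .ofNat 4, .negSucc 15, .ofNat 5, .negSucc 16]]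

/-- Some images of the first vector. -/
def ruWalkLeftPart3 : List (List ℤ) := [
  [.ofNat 0, .ofNat 0, .ofNat 1, .negSucc 0, .ofNat 1, .ofNat 0, .ofNat 2, .ofNat 1, .ofNat 0, .ofNat 0, .ofNat 2, .ofNat 1, .ofNat 1, .ofNat 3, .ofNat 0, .ofNat 6, .ofNat 0, .negSucc 0, .ofNat 1, .ofNat 1, .negSucc 0, .ofNat 6, .negSucc 5, .ofNat 4, .ofNat 0, .ofNat 4, .negSucc 3, .ofNat 3, .negSucc 0, .ofNat 4, .negSucc 10, .ofNat 4, .negSucc 2, .ofNat 9, .negSucc 19, .ofNat 6, .negSucc 4, .ofNat 6, .negSucc 29, .ofNat 2, .negSucc 26, .ofNat 3, .negSucc 29, .negSucc 18, .negSucc 36, .negSucc 13, .negSucc 19, .negSucc 49, .negSucc 42, .negSucc 29, .negSucc 52, .negSucc 88, .negSucc 23, .negSucc 58, .negSucc 17, .negSucc 73],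
  [.ofNat 0, .negSucc 0, .ofNat 1, .negSucc 0, .ofNat 0, .ofNat 1, .ofNat 1, .ofNat 1, .ofNat 1, .ofNat 0, .ofNat 1, .ofNat 1, .ofNat 1, .ofNat 1, .ofNat 0, .ofNat 3, .ofNat 1, .ofNat 0, .ofNat 2, .ofNat 1, .negSucc 0, .ofNat 4, .negSucc 2, .ofNat 3, .ofNat 1, .ofNat 3, .negSucc 0, .ofNat 3, .ofNat 0, .ofNat 4, .negSucc 5, .ofNat 6, .negSucc 0, .ofNat 6, .negSucc 13, .ofNat 9, .negSucc 1, .ofNat 6, .negSucc 19, .ofNat 8, .negSucc 15, .ofNat 11, .negSucc 26, .negSucc 4, .negSucc 29, .negSucc 0, .negSucc 28, .negSucc 29, .negSucc 38, .negSucc 10, .negSucc 59, .negSucc 48, .negSucc 33, .negSucc 37, .negSucc 29, .negSucc 47],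
  [.ofNat 0, .ofNat 0, .negSucc 0, .ofNat 0, .ofNat 0, .ofNat 0, .ofNat 0, .negSucc 0, .ofNat 2, .ofNat 0, .ofNat 1, .ofNat 0, .ofNat 1, .ofNat 0, .ofNat 2, .ofNat 2, .ofNat 0, .ofNat 1, .negSucc 0, .ofNat 0, .ofNat 0, .ofNat 3, .ofNat 0, .ofNat 1, .ofNat 0, .ofNat 0, .ofNat 0, .ofNat 2, .ofNat 1, .ofNat 1, .negSucc 0, .ofNat 5, .ofNat 1, .ofNat 3, .negSucc 4, .ofNat 8, .negSucc 0, .ofNat 3, .negSucc 7, .ofNat 9, .negSucc 6, .ofNat 6, .negSucc 15, .ofNat 1, .negSucc 14, .ofNat 2, .negSucc 18, .negSucc 13, .negSucc 18, .ofNat 1, .negSucc 35, .negSucc 15, .negSucc 19, .negSucc 11, .negSucc 21, .negSucc 18],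
  [.ofNat 0, .ofNat 1, .ofNat 1, .negSucc 0, .ofNat 1, .ofNat 0, .ofNat 1, .ofNat 0, .ofNat 1, .negSucc 1, .ofNat 3, .ofNat 0, .ofNat 3, .ofNat 0, .ofNat 4, .ofNat 5, .ofNat 1, .ofNat 0, .ofNat 2, .ofNat 1, .ofNat 4, .ofNat 7, .negSucc 1, .ofNat 8, .ofNat 4, .ofNat 3, .ofNat 2, .ofNat 5, .ofNat 5, .ofNat 5, .negSucc 1, .ofNat 15, .ofNat 3, .ofNat 11, .negSucc 9, .ofNat 28, .ofNat 1, .ofNat 11, .negSucc 22, .ofNat 35, .negSucc 18, .ofNat 33, .negSucc 47, .ofNat 18, .negSucc 51, .ofNat 27, .negSucc 78, .negSucc 22, .negSucc 70, .ofNat 20, .negSucc 144, .negSucc 19, .negSucc 86, .negSucc 29, .negSucc 95, .negSucc 47],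
  [.negSucc 0, .ofNat 0, .ofNat 1, .ofNat 1, .ofNat 0, .ofNat 0, .negSucc 0, .ofNat 0, .ofNat 0, .ofNat 0, .negSucc 0, .ofNat 0, .negSucc 0, .ofNat 0, .negSucc 0, .negSucc 1, .ofNat 0, .negSucc 2, .ofNat 3, .negSucc 0, .ofNat 2, .negSucc 1, .ofNat 1, .ofNat 2, .negSucc 0, .ofNat 0, .ofNat 0, .negSucc 1, .negSucc 1, .ofNat 0, .ofNat 5, .negSucc 3, .ofNat 0, .negSucc 1, .ofNat 8, .negSucc 3, .ofNat 3, .negSucc 2, .ofNat 11, .negSucc 4, .ofNat 10, .negSucc 0, .ofNat 14, .ofNat 7, .ofNat 15, .ofNat 8, .ofNat 7, .ofNat 23, .ofNat 16, .ofNat 11, .ofNat 22, .ofNat 31, .ofNat 6, .ofNat 22, .ofNat 4, .ofNat 32],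
  [.ofNat 2, .ofNat 0, .ofNat 0, .negSucc 0, .ofNat 1, .ofNat 1, .ofNat 2, .ofNat 2, .ofNat 1, .ofNat 1, .ofNat 2, .ofNat 4, .ofNat 0, .ofNat 3, .negSucc 2, .ofNat 9, .ofNat 0, .ofNat 0, .ofNat 1, .ofNat 0, .negSucc 6, .ofNat 9, .negSucc 8, .ofNat 3, .negSucc 1, .ofNat 6, .negSucc 6, .ofNat 5, .negSucc 1, .ofNat 6, .negSucc 18, .ofNat 4, .negSucc 6, .ofNat 13, .negSucc 36, .ofNat 3, .negSucc 11, .ofNat 7, .negSucc 51, .negSucc 7, .negSucc 43, .negSucc 4, .negSucc 44, .negSucc 45, .negSucc 54, .negSucc 37, .negSucc 11, .negSucc 92, .negSucc 60, .negSucc 64, .negSucc 51, .negSucc 167, .negSucc 16, .negSucc 108, .negSucc 1, .negSucc 127]]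

/-- Some images of the first vector. -/
def ruWalkLeftPart4 : List (List ℤ) := [
  [.negSucc 0, .ofNat 0, .ofNat 1, .ofNat 1, .negSucc 0, .ofNat 0, .ofNat 0, .ofNat 0, .ofNat 0, .negSucc 0, .negSucc 0, .ofNat 0, .ofNat 1, .ofNat 0, .ofNat 0, .negSucc 0, .negSucc 0, .ofNat 0, .negSucc 1, .ofNat 0, .ofNat 0, .negSucc 1, .ofNat 0, .negSucc 2, .negSucc 0, .ofNat 0, .ofNat 0, .negSucc 0, .negSucc 0, .ofNat 0, .ofNat 1, .negSucc 3, .negSucc 1, .negSucc 2, .ofNat 2, .negSucc 4, .negSucc 0, .negSucc 2, .ofNat 4, .negSucc 7, .ofNat 3, .negSucc 8, .ofNat 12, .negSucc 4, .ofNat 11, .negSucc 8, .ofNat 19, .ofNat 2, .ofNat 17, .negSucc 5, .ofNat 32, .ofNat 0, .ofNat 23, .ofNat 7, .ofNat 24, .ofNat 9],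
  [.ofNat 1, .negSucc 1, .ofNat 0, .ofNat 0, .ofNat 0, .negSucc 1, .ofNat 3, .negSucc 0, .ofNat 1, .ofNat 0, .ofNat 3, .ofNat 1, .ofNat 3, .ofNat 0, .ofNat 6, .ofNat 5, .ofNat 0, .ofNat 0, .ofNat 1, .negSucc 0, .ofNat 3, .ofNat 8, .negSucc 0, .ofNat 7, .ofNat 3, .ofNat 3, .ofNat 1, .ofNat 7, .ofNat 4, .ofNat 4, .negSucc 2, .ofNat 15, .ofNat 9, .ofNat 8, .negSucc 9, .ofNat 25, .ofNat 5, .ofNat 11, .negSucc 18, .ofNat 32, .negSucc 16, .ofNat 33, .negSucc 48, .ofNat 19, .negSucc 45, .ofNat 31, .negSucc 71, .negSucc 21, .negSucc 66, .ofNat 25, .negSucc 139, .negSucc 12, .negSucc 84, .negSucc 22, .negSucc 94, .negSucc 37],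
  [.ofNat 0, .ofNat 0, .negSucc 0, .ofNat 0, .ofNat 1, .ofNat 0, .negSucc 0, .ofNat 0, .ofNat 1, .ofNat 0, .ofNat 0, .ofNat 0, .ofNat 1, .ofNat 1, .negSucc 0, .ofNat 1, .ofNat 1, .negSucc 0, .ofNat 0, .ofNat 0, .ofNat 0, .ofNat 0, .negSucc 0, .ofNat 0, .ofNat 0, .ofNat 1, .negSucc 0, .ofNat 1, .negSucc 0, .ofNat 1, .negSucc 1, .ofNat 1, .negSucc 0, .ofNat 2, .negSucc 2, .ofNat 2, .negSucc 0, .ofNat 2, .negSucc 4, .ofNat 0, .negSucc 5, .ofNat 0, .negSucc 4, .negSucc 4, .negSucc 6, .negSucc 4, .negSucc 1, .negSucc 10, .negSucc 5, .negSucc 7, .negSucc 5, .negSucc 18, .negSucc 0, .negSucc 11, .negSucc 0, .negSucc 14],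
  [.ofNat 0, .ofNat 0, .ofNat 0, .ofNat 1, .ofNat 0, .ofNat 0, .ofNat 0, .ofNat 0, .ofNat 1, .ofNat 0, .ofNat 0, .ofNat 2, .ofNat 0, .ofNat 2, .negSucc 1, .ofNat 3, .ofNat 1, .ofNat 0, .ofNat 0, .ofNat 1, .negSucc 3, .ofNat 3, .negSucc 5, .negSucc 0, .negSucc 1, .ofNat 3, .negSucc 3, .ofNat 1, .negSucc 2, .ofNat 2, .negSucc 6, .negSucc 0, .negSucc 3, .ofNat 2, .negSucc 14, .negSucc 4, .negSucc 3, .ofNat 1, .negSucc 17, .negSucc 13, .negSucc 18, .negSucc 8, .negSucc 11, .negSucc 23, .negSucc 16, .negSucc 24, .ofNat 8, .negSucc 42, .negSucc 11, .negSucc 37, .ofNat 7, .negSucc 78, .ofNat 14, .negSucc 47, .ofNat 20, .negSucc 51],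
  [.ofNat 1, .ofNat 0, .ofNat 2, .negSucc 0, .ofNat 0, .ofNat 1, .ofNat 2, .ofNat 2, .ofNat 1, .negSucc 0, .ofNat 2, .ofNat 3, .ofNat 2, .ofNat 3, .negSucc 0, .ofNat 8, .ofNat 0, .ofNat 0, .ofNat 2, .ofNat 1, .negSucc 4, .ofNat 8, .negSucc 7, .ofNat 4, .negSucc 0, .ofNat 6, .negSucc 3, .ofNat 5, .negSucc 0, .ofNat 7, .negSucc 13, .ofNat 6, .negSucc 4, .ofNat 13, .negSucc 30, .ofNat 9, .negSucc 7, .ofNat 9, .negSucc 44, .ofNat 2, .negSucc 37, .ofNat 6, .negSucc 46, .negSucc 28, .negSucc 56, .negSucc 20, .negSucc 31, .negSucc 75, .negSucc 66, .negSucc 44, .negSucc 80, .negSucc 134, .negSucc 38, .negSucc 92, .negSucc 26, .negSucc 110],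
  [.ofNat 1, .ofNat 1, .ofNat 2, .negSucc 0, .ofNat 1, .ofNat 1, .ofNat 2, .ofNat 2, .ofNat 0, .ofNat 0, .ofNat 2, .ofNat 3, .ofNat 2, .ofNat 5, .negSucc 2, .ofNat 9, .ofNat 0, .ofNat 0, .ofNat 2, .ofNat 2, .negSucc 5, .ofNat 8, .negSucc 9, .ofNat 4, .negSucc 0, .ofNat 8, .negSucc 7, .ofNat 6, .negSucc 3, .ofNat 9, .negSucc 22, .ofNat 5, .negSucc 8, .ofNat 14, .negSucc 41, .ofNat 3, .negSucc 11, .ofNat 9, .negSucc 58, .negSucc 7, .negSucc 53, .negSucc 2, .negSucc 50, .negSucc 50, .negSucc 65, .negSucc 44, .negSucc 16, .negSucc 107, .negSucc 71, .negSucc 76, .negSucc 66, .negSucc 194, .negSucc 18, .negSucc 127, .negSucc 0, .negSucc 149]]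

/-- Some images of the first vector. -/
def ruWalkLeftPart5 : List (List ℤ) := [
  [.negSucc 1, .ofNat 1, .negSucc 0, .ofNat 1, .ofNat 0, .ofNat 0, .negSucc 1, .ofNat 0, .ofNat 2, .ofNat 0, .negSucc 1, .negSucc 0, .ofNat 0, .ofNat 0, .negSucc 1, .negSucc 1, .ofNat 0, .negSucc 0, .ofNat 0, .negSucc 0, .ofNat 1, .negSucc 2, .ofNat 2, .negSucc 1, .negSucc 1, .negSucc 0, .ofNat 0, .negSucc 1, .negSucc 2, .negSucc 0, .ofNat 3, .negSucc 4, .negSucc 1, .negSucc 5, .ofNat 6, .negSucc 7, .ofNat 2, .negSucc 5, .ofNat 12, .negSucc 12, .ofNat 10, .negSucc 11, .ofNat 22, .negSucc 1, .ofNat 23, .negSucc 6, .ofNat 27, .ofNat 15, .ofNat 30, .negSucc 0, .ofNat 56, .ofNat 19, .ofNat 30, .ofNat 22, .ofNat 31, .ofNat 27],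
  [.negSucc 0, .negSucc 0, .ofNat 0, .negSucc 0, .ofNat 0, .ofNat 1, .negSucc 0, .negSucc 0, .ofNat 0, .ofNat 0, .ofNat 0, .negSucc 1, .ofNat 0, .negSucc 0, .ofNat 2, .negSucc 2, .ofNat 1, .negSucc 1, .ofNat 1, .negSucc 0, .ofNat 5, .negSucc 0, .ofNat 3, .ofNat 3, .ofNat 1, .negSucc 1, .ofNat 3, .negSucc 0, .ofNat 2, .negSucc 1, .ofNat 9, .ofNat 0, .ofNat 5, .negSucc 3, .ofNat 15, .ofNat 6, .ofNat 7, .negSucc 1, .ofNat 19, .ofNat 11, .ofNat 20, .ofNat 10, .ofNat 11, .ofNat 28, .ofNat 18, .ofNat 30, .negSucc 12, .ofNat 45, .ofNat 13, .ofNat 41, .negSucc 8, .ofNat 81, .negSucc 19, .ofNat 49, .negSucc 25, .ofNat 57],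
  [.negSucc 1, .ofNat 1, .ofNat 1, .ofNat 0, .ofNat 0, .ofNat 0, .negSucc 0, .ofNat 0, .ofNat 0, .negSucc 0, .ofNat 0, .negSucc 0, .negSucc 0, .ofNat 0, .negSucc 0, .negSucc 1, .ofNat 0, .ofNat 0, .ofNat 1, .ofNat 1, .ofNat 1, .negSucc 2, .ofNat 1, .negSucc 0, .ofNat 0, .ofNat 0, .ofNat 1, .negSucc 1, .negSucc 0, .ofNat 0, .ofNat 2, .negSucc 1, .negSucc 0, .negSucc 2, .ofNat 5, .negSucc 3, .ofNat 2, .negSucc 2, .ofNat 8, .negSucc 4, .ofNat 7, .negSucc 2, .ofNat 13, .ofNat 4, .ofNat 12, .ofNat 0, .ofNat 9, .ofNat 15, .ofNat 16, .ofNat 2, .ofNat 25, .ofNat 21, .ofNat 14, .ofNat 15, .ofNat 14, .ofNat 18],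
  [.ofNat 0, .ofNat 1, .ofNat 0, .ofNat 0, .negSucc 0, .ofNat 0, .ofNat 0, .ofNat 0, .ofNat 1, .ofNat 1, .negSucc 0, .ofNat 2, .ofNat 0, .ofNat 0, .negSucc 1, .ofNat 0, .negSucc 0, .ofNat 0, .negSucc 0, .ofNat 0, .negSucc 2, .negSucc 0, .negSucc 0, .negSucc 0, .negSucc 1, .ofNat 0, .negSucc 2, .ofNat 0, .negSucc 0, .ofNat 2, .negSucc 3, .negSucc 2, .negSucc 2, .ofNat 0, .negSucc 6, .negSucc 7, .negSucc 2, .negSucc 1, .negSucc 4, .negSucc 13, .negSucc 6, .negSucc 9, .ofNat 0, .negSucc 18, .ofNat 0, .negSucc 18, .ofNat 19, .negSucc 21, .ofNat 5, .negSucc 23, .ofNat 26, .negSucc 40, .ofNat 22, .negSucc 22, .ofNat 27, .negSucc 19],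
  [.ofNat 0, .ofNat 1, .ofNat 0, .negSucc 1, .ofNat 2, .ofNat 0, .ofNat 2, .ofNat 1, .ofNat 1, .ofNat 0, .ofNat 2, .ofNat 3, .ofNat 3, .ofNat 2, .ofNat 0, .ofNat 8, .ofNat 0, .ofNat 0, .ofNat 2, .negSucc 0, .negSucc 1, .ofNat 8, .negSucc 4, .ofNat 7, .ofNat 1, .ofNat 5, .negSucc 4, .ofNat 5, .ofNat 1, .ofNat 7, .negSucc 12, .ofNat 8, .negSucc 1, .ofNat 13, .negSucc 26, .ofNat 14, .negSucc 5, .ofNat 9, .negSucc 40, .ofNat 10, .negSucc 34, .ofNat 11, .negSucc 46, .negSucc 20, .negSucc 53, .negSucc 10, .negSucc 37, .negSucc 65, .negSucc 66, .negSucc 29, .negSucc 94, .negSucc 108, .negSucc 48, .negSucc 74, .negSucc 42, .negSucc 96],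
  [.ofNat 0, .ofNat 0, .ofNat 0, .ofNat 1, .ofNat 0, .ofNat 0, .ofNat 0, .ofNat 1, .ofNat 1, .negSucc 1, .ofNat 1, .ofNat 1, .ofNat 1, .ofNat 1, .ofNat 0, .ofNat 3, .ofNat 0, .ofNat 0, .negSucc 0, .ofNat 0, .negSucc 0, .ofNat 2, .negSucc 1, .negSucc 0, .negSucc 0, .ofNat 2, .negSucc 1, .ofNat 1, .ofNat 0, .ofNat 1, .negSucc 2, .negSucc 0, .negSucc 2, .ofNat 4, .negSucc 7, .ofNat 2, .negSucc 3, .ofNat 1, .negSucc 11, .negSucc 2, .negSucc 8, .negSucc 4, .negSucc 5, .negSucc 9, .negSucc 9, .negSucc 11, .ofNat 1, .negSucc 18, .negSucc 9, .negSucc 15, .negSucc 4, .negSucc 38, .ofNat 1, .negSucc 18, .ofNat 5, .negSucc 26]]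

/-- Some images of the first vector. -/
def ruWalkLeftPart6 : List (List ℤ) := [
  [.ofNat 1, .negSucc 0, .ofNat 0, .ofNat 1, .ofNat 2, .negSucc 1, .ofNat 3, .ofNat 1, .ofNat 1, .ofNat 0, .ofNat 2, .ofNat 3, .ofNat 2, .ofNat 3, .ofNat 1, .ofNat 9, .negSucc 0, .ofNat 1, .ofNat 1, .ofNat 1, .negSucc 2, .ofNat 9, .negSucc 6, .ofNat 4, .ofNat 1, .ofNat 6, .negSucc 4, .ofNat 7, .negSucc 0, .ofNat 6, .negSucc 16, .ofNat 11, .negSucc 0, .ofNat 13, .negSucc 31, .ofNat 12, .negSucc 7, .ofNat 12, .negSucc 46, .ofNat 9, .negSucc 44, .ofNat 9, .negSucc 54, .negSucc 28, .negSucc 62, .negSucc 21, .negSucc 35, .negSucc 84, .negSucc 73, .negSucc 43, .negSucc 95, .negSucc 139, .negSucc 40, .negSucc 92, .negSucc 35, .negSucc 118],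
  [.ofNat 1, .ofNat 0, .ofNat 1, .ofNat 2, .ofNat 0, .ofNat 1, .negSucc 0, .ofNat 2, .ofNat 1, .ofNat 0, .negSucc 0, .ofNat 4, .negSucc 1, .ofNat 3, .negSucc 5, .ofNat 3, .ofNat 1, .ofNat 1, .negSucc 0, .ofNat 3, .negSucc 8, .ofNat 3, .negSucc 8, .negSucc 3, .negSucc 6, .ofNat 4, .negSucc 7, .negSucc 0, .negSucc 7, .ofNat 1, .negSucc 13, .negSucc 9, .negSucc 12, .ofNat 3, .negSucc 25, .negSucc 20, .negSucc 12, .ofNat 0, .negSucc 28, .negSucc 36, .negSucc 31, .negSucc 32, .negSucc 4, .negSucc 58, .negSucc 15, .negSucc 63, .ofNat 48, .negSucc 77, .ofNat 0, .negSucc 85, .ofNat 69, .negSucc 156, .ofNat 60, .negSucc 89, .ofNat 80, .negSucc 90],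
  [.ofNat 2, .ofNat 1, .ofNat 0, .ofNat 1, .ofNat 1, .ofNat 0, .negSucc 0, .ofNat 2, .ofNat 0, .negSucc 0, .negSucc 0, .ofNat 2, .ofNat 0, .ofNat 1, .negSucc 2, .ofNat 3, .ofNat 1, .negSucc 0, .ofNat 1, .ofNat 1, .negSucc 4, .ofNat 1, .negSucc 4, .negSucc 0, .negSucc 1, .ofNat 3, .negSucc 3, .ofNat 1, .negSucc 2, .ofNat 3, .negSucc 7, .negSucc 1, .negSucc 5, .ofNat 4, .negSucc 14, .negSucc 6, .negSucc 5, .ofNat 1, .negSucc 19, .negSucc 14, .negSucc 20, .negSucc 9, .negSucc 10, .negSucc 29, .negSucc 18, .negSucc 27, .ofNat 12, .negSucc 43, .negSucc 13, .negSucc 43, .ofNat 11, .negSucc 88, .ofNat 17, .negSucc 55, .ofNat 25, .negSucc 57],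
  [.negSucc 0, .negSucc 0, .ofNat 0, .ofNat 0, .negSucc 0, .negSucc 0, .ofNat 0, .negSucc 1, .ofNat 1, .negSucc 1, .ofNat 2, .negSucc 1, .ofNat 3, .negSucc 1, .ofNat 8, .negSucc 0, .negSucc 0, .negSucc 0, .ofNat 0, .negSucc 1, .ofNat 9, .ofNat 1, .ofNat 6, .ofNat 6, .ofNat 4, .ofNat 0, .ofNat 7, .ofNat 4, .ofNat 5, .ofNat 1, .ofNat 11, .ofNat 11, .ofNat 11, .ofNat 0, .ofNat 15, .ofNat 26, .ofNat 11, .ofNat 4, .ofNat 12, .ofNat 38, .ofNat 14, .ofNat 35, .negSucc 16, .ofNat 51, .negSucc 6, .ofNat 56, .negSucc 65, .ofNat 44, .negSucc 24, .ofNat 68, .negSucc 104, .ofNat 99, .negSucc 74, .ofNat 52, .negSucc 92, .ofNat 51],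
  [.ofNat 0, .negSucc 0, .ofNat 0, .negSucc 2, .negSucc 0, .ofNat 0, .ofNat 2, .negSucc 2, .ofNat 0, .negSucc 0, .ofNat 5, .negSucc 3, .ofNat 5, .negSucc 2, .ofNat 11, .ofNat 0, .ofNat 0, .ofNat 0, .ofNat 1, .negSucc 2, .ofNat 13, .ofNat 5, .ofNat 8, .ofNat 11, .ofNat 10, .ofNat 0, .ofNat 9, .ofNat 8, .ofNat 12, .ofNat 3, .ofNat 11, .ofNat 23, .ofNat 19, .ofNat 4, .ofNat 15, .ofNat 47, .ofNat 16, .ofNat 10, .ofNat 7, .ofNat 68, .ofNat 15, .ofNat 64, .negSucc 41, .ofNat 78, .negSucc 27, .ofNat 92, .negSucc 120, .ofNat 57, .negSucc 65, .ofNat 109, .negSucc 206, .ofNat 141, .negSucc 143, .ofNat 64, .negSucc 170, .ofNat 53],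
  [.negSucc 0, .negSucc 1, .ofNat 0, .negSucc 1, .ofNat 1, .negSucc 0, .ofNat 3, .negSucc 1, .ofNat 0, .ofNat 0, .ofNat 4, .negSucc 1, .ofNat 5, .negSucc 0, .ofNat 10, .ofNat 4, .ofNat 0, .negSucc 0, .ofNat 3, .negSucc 0, .ofNat 9, .ofNat 9, .ofNat 1, .ofNat 13, .ofNat 9, .ofNat 2, .ofNat 6, .ofNat 9, .ofNat 8, .ofNat 4, .ofNat 4, .ofNat 25, .ofNat 15, .ofNat 9, .ofNat 0, .ofNat 46, .ofNat 11, .ofNat 14, .negSucc 13, .ofNat 63, .negSucc 6, .ofNat 59, .negSucc 58, .ofNat 54, .negSucc 52, .ofNat 70, .negSucc 119, .ofNat 11, .negSucc 88, .ofNat 73, .negSucc 217, .ofNat 59, .negSucc 141, .ofNat 12, .negSucc 164, .negSucc 8]]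

/-- Some images of the first vector. -/
def ruWalkLeftPart7 : List (List ℤ) := [
  [.ofNat 0, .ofNat 1, .ofNat 0, .ofNat 1, .ofNat 0, .ofNat 1, .negSucc 0, .ofNat 2, .ofNat 0, .negSucc 1, .negSucc 0, .ofNat 0, .negSucc 1, .ofNat 0, .negSucc 1, .negSucc 0, .negSucc 0, .ofNat 0, .negSucc 1, .ofNat 1, .negSucc 1, .negSucc 2, .ofNat 0, .negSucc 3, .negSucc 1, .ofNat 0, .negSucc 0, .negSucc 2, .negSucc 1, .negSucc 0, .negSucc 0, .negSucc 7, .negSucc 5, .negSucc 1, .ofNat 2, .negSucc 11, .negSucc 4, .negSucc 3, .ofNat 3, .negSucc 15, .ofNat 1, .negSucc 16, .ofNat 17, .negSucc 14, .ofNat 15, .negSucc 21, .ofNat 32, .negSucc 1, .ofNat 26, .negSucc 22, .ofNat 61, .negSucc 18, .ofNat 42, .negSucc 2, .ofNat 49, .ofNat 3],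
  [.ofNat 1, .ofNat 0, .ofNat 0, .ofNat 0, .negSucc 0, .negSucc 0, .ofNat 0, .negSucc 1, .negSucc 0, .ofNat 1, .ofNat 1, .negSucc 0, .negSucc 0, .negSucc 1, .ofNat 3, .negSucc 2, .ofNat 0, .negSucc 0, .ofNat 0, .negSucc 1, .ofNat 4, .negSucc 0, .ofNat 5, .ofNat 2, .ofNat 1, .negSucc 1, .ofNat 2, .ofNat 0, .ofNat 2, .negSucc 2, .ofNat 8, .ofNat 0, .ofNat 7, .negSucc 3, .ofNat 15, .ofNat 4, .ofNat 7, .negSucc 0, .ofNat 19, .ofNat 11, .ofNat 18, .ofNat 11, .ofNat 8, .ofNat 26, .ofNat 17, .ofNat 30, .negSucc 12, .ofNat 41, .ofNat 12, .ofNat 40, .negSucc 9, .ofNat 79, .negSucc 15, .ofNat 46, .negSucc 25, .ofNat 58],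
  [.ofNat 0, .negSucc 0, .ofNat 1, .ofNat 0, .ofNat 0, .ofNat 1, .ofNat 0, .ofNat 0, .ofNat 0, .ofNat 0, .ofNat 2, .ofNat 0, .negSucc 0, .ofNat 0, .ofNat 0, .ofNat 0, .negSucc 0, .ofNat 0, .ofNat 0, .ofNat 0, .ofNat 1, .ofNat 1, .ofNat 1, .ofNat 1, .ofNat 0, .ofNat 1, .ofNat 1, .ofNat 1, .ofNat 1, .negSucc 0, .negSucc 0, .ofNat 0, .ofNat 1, .ofNat 0, .ofNat 0, .ofNat 2, .ofNat 0, .ofNat 1, .negSucc 1, .ofNat 3, .ofNat 1, .ofNat 3, .negSucc 2, .ofNat 5, .ofNat 0, .ofNat 5, .negSucc 6, .ofNat 4, .negSucc 2, .ofNat 6, .negSucc 11, .ofNat 8, .negSucc 9, .ofNat 4, .negSucc 5, .ofNat 5],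
  [.ofNat 0, .ofNat 0, .ofNat 0, .ofNat 0, .negSucc 0, .ofNat 1, .negSucc 0, .ofNat 0, .ofNat 0, .negSucc 0, .ofNat 1, .ofNat 0, .negSucc 1, .negSucc 0, .ofNat 0, .negSucc 1, .ofNat 0, .negSucc 0, .ofNat 0, .ofNat 0, .ofNat 2, .negSucc 1, .ofNat 2, .ofNat 0, .ofNat 0, .negSucc 0, .ofNat 1, .negSucc 1, .ofNat 2, .negSucc 1, .ofNat 5, .negSucc 2, .ofNat 0, .negSucc 1, .ofNat 10, .negSucc 0, .ofNat 2, .negSucc 2, .ofNat 12, .ofNat 0, .ofNat 13, .ofNat 1, .ofNat 12, .ofNat 12, .ofNat 16, .ofNat 11, .ofNat 0, .ofNat 27, .ofNat 17, .ofNat 17, .ofNat 14, .ofNat 44, .ofNat 3, .ofNat 28, .ofNat 1, .ofNat 37],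
  [.ofNat 1, .ofNat 2, .ofNat 1, .negSucc 0, .negSucc 0, .negSucc 0, .ofNat 0, .ofNat 1, .ofNat 1, .ofNat 1, .ofNat 1, .ofNat 3, .ofNat 0, .ofNat 1, .negSucc 2, .ofNat 4, .negSucc 0, .ofNat 1, .negSucc 0, .negSucc 0, .negSucc 3, .ofNat 2, .negSucc 1, .ofNat 0, .negSucc 0, .ofNat 2, .negSucc 3, .ofNat 2, .negSucc 0, .ofNat 5, .negSucc 9, .ofNat 0, .negSucc 5, .ofNat 3, .negSucc 18, .negSucc 3, .negSucc 5, .ofNat 0, .negSucc 23, .negSucc 10, .negSucc 19, .negSucc 5, .negSucc 15, .negSucc 27, .negSucc 19, .negSucc 26, .ofNat 6, .negSucc 48, .negSucc 19, .negSucc 39, .negSucc 3, .negSucc 86, .ofNat 9, .negSucc 54, .ofNat 19, .negSucc 59],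
  [.ofNat 0, .negSucc 0, .ofNat 1, .ofNat 0, .ofNat 0, .ofNat 1, .ofNat 0, .ofNat 1, .ofNat 0, .negSucc 0, .ofNat 0, .ofNat 1, .ofNat 1, .ofNat 1, .negSucc 0, .ofNat 2, .negSucc 0, .negSucc 0, .ofNat 0, .ofNat 0, .negSucc 0, .ofNat 1, .negSucc 1, .ofNat 0, .negSucc 0, .ofNat 2, .negSucc 0, .ofNat 1, .negSucc 1, .ofNat 1, .negSucc 3, .negSucc 2, .negSucc 2, .ofNat 2, .negSucc 6, .negSucc 1, .negSucc 2, .negSucc 0, .negSucc 9, .negSucc 6, .negSucc 6, .negSucc 5, .negSucc 1, .negSucc 11, .negSucc 3, .negSucc 11, .ofNat 8, .negSucc 15, .negSucc 3, .negSucc 15, .ofNat 5, .negSucc 34, .ofNat 5, .negSucc 17, .ofNat 13, .negSucc 19]]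

/-- Some images of the first vector. -/
def ruWalkLeftPart8 : List (List ℤ) := [
  [.ofNat 0, .ofNat 0, .ofNat 0, .negSucc 1, .ofNat 1, .ofNat 1, .ofNat 2, .ofNat 0, .negSucc 0, .ofNat 0, .ofNat 2, .negSucc 0, .ofNat 2, .ofNat 1, .ofNat 3, .ofNat 3, .negSucc 0, .ofNat 0, .ofNat 0, .ofNat 0, .ofNat 2, .ofNat 4, .negSucc 0, .ofNat 5, .ofNat 3, .ofNat 2, .ofNat 0, .ofNat 3, .ofNat 3, .ofNat 3, .negSucc 4, .ofNat 7, .ofNat 2, .ofNat 7, .negSucc 6, .ofNat 14, .negSucc 0, .ofNat 5, .negSucc 15, .ofNat 19, .negSucc 10, .ofNat 13, .negSucc 23, .ofNat 4, .negSucc 24, .ofNat 11, .negSucc 32, .negSucc 13, .negSucc 37, .ofNat 7, .negSucc 72, .negSucc 17, .negSucc 43, .negSucc 16, .negSucc 43, .negSucc 29],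
  [.negSucc 0, .ofNat 0, .ofNat 0, .ofNat 1, .ofNat 1, .ofNat 0, .negSucc 0, .ofNat 1, .ofNat 0, .ofNat 2, .negSucc 1, .ofNat 1, .negSucc 1, .ofNat 2, .negSucc 5, .negSucc 0, .ofNat 1, .ofNat 1, .ofNat 0, .ofNat 1, .negSucc 5, .negSucc 1, .negSucc 2, .negSucc 5, .negSucc 2, .ofNat 0, .negSucc 3, .negSucc 1, .negSucc 5, .ofNat 0, .negSucc 6, .negSucc 6, .negSucc 6, .negSucc 2, .negSucc 9, .negSucc 19, .negSucc 4, .negSucc 2, .negSucc 3, .negSucc 28, .negSucc 7, .negSucc 23, .ofNat 15, .negSucc 31, .ofNat 9, .negSucc 39, .ofNat 49, .negSucc 26, .ofNat 24, .negSucc 47, .ofNat 82, .negSucc 61, .ofNat 58, .negSucc 30, .ofNat 72, .negSucc 29],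
  [.ofNat 1, .ofNat 0, .negSucc 0, .ofNat 1, .negSucc 0, .ofNat 0, .ofNat 0, .ofNat 0, .ofNat 1, .negSucc 0, .negSucc 0, .ofNat 0, .negSucc 0, .ofNat 0, .negSucc 0, .negSucc 0, .ofNat 2, .negSucc 0, .ofNat 0, .ofNat 0, .negSucc 0, .negSucc 0, .ofNat 0, .negSucc 2, .negSucc 1, .negSucc 1, .ofNat 0, .negSucc 1, .ofNat 0, .negSucc 2, .ofNat 6, .negSucc 2, .negSucc 0, .negSucc 1, .ofNat 6, .negSucc 3, .ofNat 2, .negSucc 2, .ofNat 12, .negSucc 6, .ofNat 11, .negSucc 4, .ofNat 14, .ofNat 4, .ofNat 13, .ofNat 3, .ofNat 11, .ofNat 17, .ofNat 18, .ofNat 6, .ofNat 32, .ofNat 25, .ofNat 14, .ofNat 17, .ofNat 11, .ofNat 23],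
  [.ofNat 0, .ofNat 1, .ofNat 1, .ofNat 1, .ofNat 1, .ofNat 1, .ofNat 0, .ofNat 3, .ofNat 0, .ofNat 0, .negSucc 1, .ofNat 3, .negSucc 0, .ofNat 3, .negSucc 6, .ofNat 4, .negSucc 0, .ofNat 0, .negSucc 0, .ofNat 2, .negSucc 9, .ofNat 0, .negSucc 8, .negSucc 5, .negSucc 4, .ofNat 3, .negSucc 6, .negSucc 1, .negSucc 6, .ofNat 2, .negSucc 14, .negSucc 10, .negSucc 13, .ofNat 3, .negSucc 22, .negSucc 23, .negSucc 13, .negSucc 2, .negSucc 26, .negSucc 39, .negSucc 26, .negSucc 37, .ofNat 6, .negSucc 62, .negSucc 7, .negSucc 68, .ofNat 64, .negSucc 69, .ofNat 12, .negSucc 87, .ofNat 92, .negSucc 147, .ofNat 75, .negSucc 78, .ofNat 97, .negSucc 83],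
  [.ofNat 1, .negSucc 0, .ofNat 0, .ofNat 0, .ofNat 0, .ofNat 0, .ofNat 2, .ofNat 0, .ofNat 0, .ofNat 2, .ofNat 2, .ofNat 2, .negSucc 0, .ofNat 2, .negSucc 0, .ofNat 4, .ofNat 0, .negSucc 0, .ofNat 1, .negSucc 1, .negSucc 2, .ofNat 6, .negSucc 3, .ofNat 3, .negSucc 0, .ofNat 4, .negSucc 4, .ofNat 3, .negSucc 1, .ofNat 3, .negSucc 9, .ofNat 1, .negSucc 0, .ofNat 5, .negSucc 18, .ofNat 1, .negSucc 3, .ofNat 3, .negSucc 25, .negSucc 5, .negSucc 19, .negSucc 1, .negSucc 21, .negSucc 20, .negSucc 23, .negSucc 14, .negSucc 4, .negSucc 42, .negSucc 29, .negSucc 27, .negSucc 25, .negSucc 78, .negSucc 10, .negSucc 49, .negSucc 3, .negSucc 56],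
  [.ofNat 0, .ofNat 0, .ofNat 0, .ofNat 0, .ofNat 0, .ofNat 0, .ofNat 1, .ofNat 0, .negSucc 0, .ofNat 0, .ofNat 0, .ofNat 0, .ofNat 0, .ofNat 0, .ofNat 1, .ofNat 0, .ofNat 0, .negSucc 0, .ofNat 1, .ofNat 0, .ofNat 1, .ofNat 1, .ofNat 0, .ofNat 2, .ofNat 1, .ofNat 0, .ofNat 0, .ofNat 0, .ofNat 0, .negSucc 0, .ofNat 2, .ofNat 0, .ofNat 2, .ofNat 2, .ofNat 3, .ofNat 4, .ofNat 1, .ofNat 2, .ofNat 2, .ofNat 6, .ofNat 2, .ofNat 4, .negSucc 0, .ofNat 6, .negSucc 0, .ofNat 9, .negSucc 7, .ofNat 9, .negSucc 4, .ofNat 10, .negSucc 13, .ofNat 13, .negSucc 10, .ofNat 8, .negSucc 15, .ofNat 8]]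

/-- Some images of the first vector. -/
def ruWalkLeftPart9 : List (List ℤ) := [
  [.ofNat 0, .ofNat 0, .ofNat 1, .ofNat 0, .ofNat 1, .negSucc 0, .ofNat 3, .ofNat 0, .negSucc 1, .negSucc 0, .ofNat 1, .ofNat 0, .ofNat 3, .ofNat 1, .ofNat 4, .ofNat 4, .negSucc 0, .ofNat 0, .ofNat 1, .ofNat 0, .ofNat 1, .ofNat 5, .negSucc 2, .ofNat 5, .ofNat 3, .ofNat 2, .ofNat 0, .ofNat 3, .ofNat 1, .ofNat 2, .negSucc 2, .ofNat 7, .ofNat 5, .ofNat 9, .negSucc 5, .ofNat 15, .negSucc 0, .ofNat 9, .negSucc 15, .ofNat 21, .negSucc 15, .ofNat 15, .negSucc 27, .ofNat 2, .negSucc 31, .ofNat 11, .negSucc 34, .negSucc 19, .negSucc 42, .ofNat 6, .negSucc 79, .negSucc 26, .negSucc 42, .negSucc 21, .negSucc 51, .negSucc 34],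
  [.ofNat 0, .negSucc 1, .ofNat 0, .negSucc 0, .negSucc 0, .ofNat 0, .ofNat 0, .negSucc 2, .ofNat 1, .ofNat 0, .ofNat 3, .negSucc 2, .ofNat 2, .negSucc 1, .ofNat 7, .negSucc 0, .ofNat 0, .ofNat 1, .ofNat 0, .negSucc 0, .ofNat 8, .ofNat 2, .ofNat 5, .ofNat 5, .ofNat 6, .negSucc 0, .ofNat 7, .ofNat 5, .ofNat 7, .ofNat 0, .ofNat 9, .ofNat 15, .ofNat 12, .ofNat 0, .ofNat 12, .ofNat 28, .ofNat 9, .ofNat 6, .ofNat 8, .ofNat 42, .ofNat 12, .ofNat 38, .negSucc 22, .ofNat 50, .negSucc 11, .ofNat 56, .negSucc 70, .ofNat 39, .negSucc 31, .ofNat 69, .negSucc 114, .ofNat 97, .negSucc 80, .ofNat 45, .negSucc 97, .ofNat 42],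
  [.negSucc 0, .ofNat 0, .negSucc 0, .ofNat 0, .ofNat 0, .ofNat 0, .negSucc 0, .negSucc 0, .ofNat 0, .ofNat 1, .ofNat 0, .negSucc 0, .negSucc 1, .ofNat 0, .negSucc 0, .negSucc 2, .ofNat 0, .negSucc 0, .ofNat 1, .negSucc 0, .ofNat 1, .negSucc 2, .ofNat 3, .negSucc 0, .negSucc 0, .negSucc 1, .ofNat 0, .negSucc 2, .negSucc 0, .negSucc 2, .ofNat 5, .negSucc 4, .ofNat 1, .negSucc 4, .ofNat 11, .negSucc 7, .ofNat 3, .negSucc 3, .ofNat 18, .negSucc 7, .ofNat 16, .negSucc 6, .ofNat 23, .ofNat 7, .ofNat 26, .ofNat 4, .ofNat 21, .ofNat 30, .ofNat 31, .ofNat 11, .ofNat 49, .ofNat 46, .ofNat 23, .ofNat 33, .ofNat 22, .ofNat 43],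
  [.ofNat 0, .ofNat 0, .ofNat 1, .ofNat 0, .ofNat 0, .ofNat 0, .ofNat 0, .ofNat 1, .negSucc 0, .ofNat 0, .ofNat 0, .ofNat 1, .negSucc 0, .ofNat 0, .negSucc 0, .ofNat 0, .ofNat 1, .negSucc 0, .ofNat 1, .ofNat 1, .negSucc 0, .ofNat 1, .negSucc 2, .ofNat 1, .negSucc 0, .ofNat 0, .negSucc 0, .negSucc 0, .negSucc 0, .ofNat 0, .negSucc 0, .negSucc 2, .negSucc 0, .ofNat 0, .negSucc 0, .negSucc 3, .ofNat 0, .ofNat 1, .negSucc 0, .negSucc 4, .negSucc 2, .negSucc 1, .negSucc 0, .negSucc 4, .negSucc 2, .negSucc 3, .ofNat 3, .negSucc 6, .ofNat 0, .negSucc 8, .ofNat 6, .negSucc 14, .ofNat 5, .negSucc 11, .ofNat 7, .negSucc 7],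
  [.ofNat 1, .negSucc 0, .negSucc 0, .ofNat 0, .negSucc 1, .ofNat 0, .negSucc 0, .negSucc 1, .negSucc 0, .negSucc 0, .ofNat 1, .negSucc 3, .negSucc 0, .negSucc 3, .ofNat 6, .negSucc 6, .ofNat 0, .ofNat 1, .negSucc 1, .negSucc 0, .ofNat 8, .negSucc 4, .ofNat 11, .negSucc 0, .ofNat 2, .negSucc 4, .ofNat 7, .negSucc 1, .ofNat 5, .negSucc 6, .ofNat 17, .ofNat 0, .ofNat 11, .negSucc 8, .ofNat 33, .ofNat 7, .ofNat 12, .negSucc 3, .ofNat 44, .ofNat 21, .ofNat 41, .ofNat 16, .ofNat 27, .ofNat 55, .ofNat 42, .ofNat 52, .negSucc 15, .ofNat 91, .ofNat 37, .ofNat 78, .ofNat 1, .ofNat 170, .negSucc 17, .ofNat 105, .negSucc 33, .ofNat 120],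
  [.ofNat 0, .ofNat 0, .ofNat 0, .ofNat 0, .ofNat 1, .ofNat 1, .ofNat 0, .ofNat 1, .ofNat 0, .negSucc 0, .ofNat 1, .ofNat 0, .ofNat 1, .ofNat 2, .ofNat 0, .ofNat 3, .ofNat 1, .ofNat 0, .ofNat 0, .ofNat 2, .negSucc 0, .ofNat 3, .negSucc 3, .ofNat 1, .ofNat 1, .ofNat 4, .negSucc 1, .ofNat 3, .negSucc 0, .ofNat 3, .negSucc 7, .ofNat 4, .negSucc 2, .ofNat 6, .negSucc 13, .ofNat 6, .negSucc 3, .ofNat 5, .negSucc 21, .ofNat 3, .negSucc 20, .ofNat 4, .negSucc 22, .negSucc 12, .negSucc 29, .negSucc 11, .negSucc 18, .negSucc 37, .negSucc 32, .negSucc 23, .negSucc 42, .negSucc 65, .negSucc 16, .negSucc 46, .negSucc 12, .negSucc 56]]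

/-- Some images of the first vector. -/
def ruWalkLeftPart10 : List (List ℤ) := [
  [.ofNat 0, .ofNat 1, .negSucc 0, .ofNat 0, .ofNat 0, .negSucc 0, .ofNat 0, .ofNat 0, .ofNat 0, .ofNat 0, .ofNat 0, .ofNat 1, .ofNat 0, .negSucc 0, .ofNat 0, .ofNat 0, .negSucc 0, .negSucc 0, .ofNat 0, .negSucc 1, .ofNat 0, .negSucc 0, .ofNat 1, .ofNat 1, .ofNat 0, .negSucc 1, .ofNat 0, .negSucc 0, .ofNat 1, .ofNat 0, .ofNat 3, .negSucc 1, .ofNat 1, .negSucc 1, .ofNat 6, .negSucc 1, .ofNat 2, .negSucc 2, .ofNat 7, .negSucc 1, .ofNat 8, .negSucc 0, .ofNat 8, .ofNat 4, .ofNat 10, .ofNat 5, .ofNat 6, .ofNat 13, .ofNat 11, .ofNat 8, .ofNat 14, .ofNat 23, .ofNat 6, .ofNat 16, .ofNat 3, .ofNat 21],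
  [.negSucc 0, .negSucc 0, .negSucc 0, .ofNat 0, .ofNat 1, .ofNat 0, .ofNat 0, .negSucc 0, .ofNat 0, .ofNat 0, .negSucc 0, .negSucc 1, .ofNat 0, .negSucc 0, .ofNat 2, .negSucc 2, .negSucc 0, .ofNat 1, .ofNat 0, .ofNat 0, .ofNat 3, .negSucc 1, .ofNat 4, .negSucc 0, .ofNat 1, .negSucc 1, .ofNat 2, .negSucc 0, .ofNat 1, .negSucc 2, .ofNat 5, .ofNat 1, .ofNat 5, .negSucc 3, .ofNat 12, .ofNat 0, .ofNat 4, .negSucc 0, .ofNat 18, .ofNat 6, .ofNat 14, .ofNat 2, .ofNat 12, .ofNat 17, .ofNat 18, .ofNat 14, .ofNat 3, .ofNat 32, .ofNat 18, .ofNat 25, .ofNat 11, .ofNat 59, .ofNat 1, .ofNat 41, .negSucc 2, .ofNat 42],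
  [.ofNat 0, .ofNat 1, .ofNat 1, .ofNat 0, .ofNat 0, .ofNat 0, .negSucc 0, .ofNat 1, .ofNat 1, .ofNat 0, .negSucc 0, .ofNat 1, .negSucc 0, .ofNat 1, .negSucc 2, .ofNat 0, .ofNat 1, .ofNat 1, .ofNat 0, .ofNat 1, .negSucc 2, .ofNat 0, .negSucc 1, .negSucc 1, .negSucc 1, .ofNat 1, .negSucc 1, .ofNat 0, .negSucc 2, .ofNat 2, .negSucc 4, .negSucc 1, .negSucc 5, .ofNat 0, .negSucc 9, .negSucc 6, .negSucc 3, .ofNat 0, .negSucc 9, .negSucc 11, .negSucc 10, .negSucc 9, .negSucc 1, .negSucc 19, .negSucc 6, .negSucc 23, .ofNat 16, .negSucc 27, .negSucc 0, .negSucc 31, .ofNat 23, .negSucc 55, .ofNat 22, .negSucc 33, .ofNat 30, .negSucc 34],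
  [.negSucc 0, .ofNat 0, .ofNat 1, .ofNat 0, .ofNat 2, .ofNat 0, .ofNat 1, .ofNat 0, .ofNat 1, .negSucc 0, .ofNat 2, .ofNat 1, .ofNat 3, .ofNat 3, .ofNat 2, .ofNat 6, .ofNat 0, .ofNat 1, .ofNat 1, .ofNat 3, .ofNat 0, .ofNat 8, .negSucc 6, .ofNat 6, .ofNat 2, .ofNat 5, .negSucc 1, .ofNat 6, .negSucc 0, .ofNat 6, .negSucc 11, .ofNat 12, .negSucc 1, .ofNat 11, .negSucc 23, .ofNat 17, .negSucc 4, .ofNat 11, .negSucc 38, .ofNat 17, .negSucc 38, .ofNat 14, .negSucc 50, .negSucc 14, .negSucc 58, .negSucc 10, .negSucc 46, .negSucc 67, .negSucc 68, .negSucc 27, .negSucc 106, .negSucc 106, .negSucc 49, .negSucc 76, .negSucc 47, .negSucc 98],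
  [.negSucc 1, .ofNat 0, .ofNat 0, .ofNat 0, .ofNat 1, .negSucc 0, .ofNat 0, .negSucc 0, .ofNat 0, .ofNat 0, .ofNat 0, .negSucc 1, .ofNat 1, .ofNat 0, .ofNat 3, .negSucc 1, .ofNat 0, .ofNat 0, .ofNat 1, .ofNat 0, .ofNat 6, .ofNat 0, .ofNat 3, .ofNat 4, .ofNat 3, .ofNat 1, .ofNat 1, .ofNat 1, .ofNat 0, .ofNat 1, .ofNat 2, .ofNat 5, .ofNat 5, .negSucc 0, .ofNat 7, .ofNat 9, .ofNat 5, .ofNat 3, .ofNat 7, .ofNat 16, .ofNat 2, .ofNat 14, .negSucc 5, .ofNat 19, .negSucc 1, .ofNat 20, .negSucc 23, .ofNat 16, .negSucc 8, .ofNat 25, .negSucc 39, .ofNat 37, .negSucc 25, .ofNat 21, .negSucc 34, .ofNat 19],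
  [.ofNat 0, .ofNat 1, .negSucc 0, .ofNat 0, .ofNat 0, .ofNat 0, .negSucc 0, .ofNat 0, .negSucc 0, .ofNat 0, .negSucc 0, .negSucc 0, .negSucc 1, .negSucc 1, .negSucc 0, .negSucc 3, .negSucc 1, .ofNat 0, .negSucc 1, .negSucc 1, .ofNat 1, .negSucc 5, .ofNat 6, .negSucc 3, .ofNat 0, .negSucc 3, .ofNat 2, .negSucc 2, .ofNat 1, .negSucc 3, .ofNat 6, .negSucc 6, .ofNat 1, .negSucc 6, .ofNat 18, .negSucc 9, .ofNat 1, .negSucc 7, .ofNat 24, .negSucc 7, .ofNat 24, .negSucc 11, .ofNat 34, .ofNat 8, .ofNat 41, .ofNat 2, .ofNat 36, .ofNat 44, .ofNat 49, .ofNat 17, .ofNat 73, .ofNat 70, .ofNat 39, .ofNat 54, .ofNat 38, .ofNat 66]]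

/-- Some images of the first vector. -/
def ruWalkLeftPart11 : List (List ℤ) := [
  [.ofNat 0, .ofNat 1, .ofNat 0, .ofNat 0, .ofNat 0, .ofNat 0, .ofNat 0, .ofNat 0, .negSucc 1, .negSucc 0, .negSucc 0, .negSucc 0, .negSucc 0, .negSucc 0, .ofNat 0, .negSucc 2, .ofNat 0, .ofNat 0, .ofNat 0, .ofNat 0, .ofNat 1, .negSucc 3, .ofNat 2, .negSucc 1, .ofNat 1, .negSucc 0, .ofNat 1, .negSucc 1, .ofNat 1, .negSucc 1, .ofNat 4, .negSucc 2, .ofNat 1, .negSucc 2, .ofNat 11, .negSucc 3, .ofNat 2, .negSucc 2, .ofNat 14, .negSucc 1, .ofNat 12, .negSucc 2, .ofNat 18, .ofNat 8, .ofNat 18, .ofNat 5, .ofNat 13, .ofNat 26, .ofNat 22, .ofNat 12, .ofNat 29, .ofNat 42, .ofNat 17, .ofNat 29, .ofNat 13, .ofNat 35],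
  [.negSucc 1, .ofNat 1, .negSucc 1, .ofNat 0, .ofNat 1, .ofNat 1, .negSucc 2, .negSucc 0, .negSucc 0, .negSucc 1, .negSucc 1, .negSucc 4, .negSucc 0, .negSucc 3, .ofNat 2, .negSucc 8, .ofNat 1, .ofNat 1, .negSucc 0, .ofNat 1, .ofNat 7, .negSucc 8, .ofNat 9, .negSucc 3, .ofNat 2, .negSucc 5, .ofNat 8, .negSucc 5, .ofNat 3, .negSucc 7, .ofNat 19, .negSucc 2, .ofNat 5, .negSucc 10, .ofNat 38, .ofNat 0, .ofNat 9, .negSucc 6, .ofNat 51, .ofNat 11, .ofNat 44, .ofNat 2, .ofNat 47, .ofNat 46, .ofNat 54, .ofNat 35, .ofNat 12, .ofNat 95, .ofNat 62, .ofNat 64, .ofNat 55, .ofNat 170, .ofNat 18, .ofNat 111, .ofNat 3, .ofNat 124],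
  [.ofNat 0, .ofNat 0, .negSucc 1, .negSucc 0, .ofNat 0, .ofNat 0, .negSucc 1, .negSucc 0, .ofNat 0, .ofNat 1, .negSucc 1, .negSucc 2, .negSucc 1, .negSucc 1, .ofNat 0, .negSucc 5, .ofNat 0, .negSucc 0, .ofNat 0, .negSucc 1, .ofNat 4, .negSucc 6, .ofNat 8, .negSucc 1, .ofNat 0, .negSucc 4, .ofNat 4, .negSucc 3, .ofNat 1, .negSucc 5, .ofNat 13, .negSucc 4, .ofNat 4, .negSucc 8, .ofNat 26, .negSucc 5, .ofNat 7, .negSucc 7, .ofNat 38, .ofNat 0, .ofNat 36, .negSucc 2, .ofNat 39, .ofNat 27, .ofNat 49, .ofNat 23, .ofNat 23, .ofNat 71, .ofNat 54, .ofNat 43, .ofNat 64, .ofNat 121, .ofNat 22, .ofNat 81, .ofNat 16, .ofNat 98],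
  [.ofNat 0, .ofNat 0, .ofNat 0, .ofNat 1, .ofNat 0, .negSucc 0, .ofNat 0, .ofNat 0, .ofNat 0, .negSucc 0, .ofNat 0, .ofNat 0, .ofNat 0, .ofNat 0, .ofNat 1, .negSucc 0, .negSucc 0, .negSucc 0, .ofNat 1, .negSucc 0, .ofNat 2, .negSucc 0, .ofNat 2, .ofNat 1, .ofNat 0, .negSucc 0, .ofNat 1, .negSucc 0, .ofNat 0, .ofNat 0, .ofNat 5, .negSucc 0, .ofNat 2, .ofNat 0, .ofNat 8, .ofNat 1, .ofNat 3, .ofNat 0, .ofNat 10, .ofNat 4, .ofNat 8, .ofNat 4, .ofNat 5, .ofNat 11, .ofNat 7, .ofNat 12, .negSucc 3, .ofNat 20, .ofNat 5, .ofNat 16, .negSucc 1, .ofNat 32, .negSucc 5, .ofNat 20, .negSucc 9, .ofNat 25],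
  [.negSucc 0, .negSucc 0, .ofNat 1, .ofNat 0, .ofNat 1, .negSucc 0, .ofNat 2, .negSucc 0, .ofNat 0, .ofNat 0, .ofNat 2, .ofNat 0, .ofNat 2, .ofNat 1, .ofNat 4, .ofNat 3, .ofNat 1, .ofNat 0, .ofNat 2, .ofNat 1, .ofNat 4, .ofNat 7, .negSucc 2, .ofNat 7, .ofNat 3, .ofNat 3, .ofNat 1, .ofNat 5, .ofNat 1, .ofNat 3, .negSucc 2, .ofNat 12, .ofNat 5, .ofNat 6, .negSucc 8, .ofNat 20, .ofNat 4, .ofNat 9, .negSucc 16, .ofNat 25, .negSucc 15, .ofNat 26, .negSucc 37, .ofNat 15, .negSucc 38, .ofNat 22, .negSucc 58, .negSucc 18, .negSucc 54, .ofNat 16, .negSucc 111, .negSucc 15, .negSucc 66, .negSucc 22, .negSucc 74, .negSucc 36],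
  [.ofNat 1, .ofNat 0, .ofNat 0, .ofNat 0, .ofNat 0, .ofNat 0, .ofNat 0, .ofNat 0, .ofNat 0, .ofNat 0, .ofNat 0, .ofNat 0, .ofNat 0, .ofNat 0, .ofNat 0, .ofNat 0, .ofNat 0, .ofNat 0, .ofNat 0, .ofNat 0, .ofNat 0, .ofNat 0, .ofNat 0, .ofNat 0, .ofNat 0, .ofNat 0, .ofNat 0, .ofNat 0, .ofNat 0, .ofNat 0, .ofNat 0, .ofNat 0, .ofNat 0, .ofNat 0, .ofNat 0, .ofNat 0, .ofNat 0, .ofNat 0, .ofNat 0, .ofNat 0, .ofNat 0, .ofNat 0, .ofNat 0, .ofNat 0, .ofNat 0, .ofNat 0, .ofNat 0, .ofNat 0, .ofNat 0, .ofNat 0, .ofNat 0, .ofNat 0, .ofNat 0, .ofNat 0, .ofNat 0, .ofNat 0]]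

/-- The images of the first vector along the word after the involution, from the last one. -/
def ruWalkLeft : List (List ℤ) :=
  ruWalkLeftPart0 ++ ruWalkLeftPart1 ++ ruWalkLeftPart2 ++ ruWalkLeftPart3 ++ ruWalkLeftPart4 ++ ruWalkLeftPart5 ++ ruWalkLeftPart6 ++ ruWalkLeftPart7 ++ ruWalkLeftPart8 ++ ruWalkLeftPart9 ++ ruWalkLeftPart10 ++ ruWalkLeftPart11

/-- Some images of the first vector. -/
def ruWalkRightPart0 : List (List ℤ) := [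
  [.ofNat 0, .ofNat 0, .ofNat 0, .negSucc 0, .ofNat 0, .ofNat 0, .ofNat 1, .negSucc 0, .ofNat 0, .ofNat 0, .ofNat 2, .negSucc 0, .ofNat 2, .ofNat 0, .ofNat 3, .ofNat 1, .negSucc 2, .ofNat 1, .negSucc 0, .negSucc 1, .ofNat 4, .ofNat 1, .ofNat 4, .ofNat 3, .ofNat 4, .ofNat 2, .ofNat 2, .ofNat 4, .ofNat 3, .ofNat 3, .negSucc 2, .ofNat 7, .ofNat 6, .ofNat 2, .negSucc 0, .ofNat 13, .ofNat 2, .ofNat 3, .negSucc 6, .ofNat 19, .negSucc 2, .ofNat 16, .negSucc 16, .ofNat 14, .negSucc 10, .ofNat 17, .negSucc 29, .ofNat 3, .negSucc 23, .ofNat 21, .negSucc 62, .ofNat 17, .negSucc 37, .ofNat 8, .negSucc 40, .ofNat 1],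
  [.ofNat 1, .ofNat 0, .negSucc 0, .ofNat 0, .ofNat 0, .ofNat 0, .ofNat 1, .negSucc 0, .ofNat 1, .negSucc 0, .ofNat 1, .ofNat 1, .ofNat 2, .ofNat 0, .ofNat 3, .ofNat 3, .ofNat 0, .ofNat 0, .negSucc 0, .negSucc 0, .ofNat 1, .ofNat 4, .negSucc 0, .ofNat 3, .negSucc 0, .ofNat 2, .negSucc 0, .ofNat 3, .ofNat 1, .ofNat 0, .negSucc 0, .ofNat 3, .ofNat 2, .ofNat 4, .negSucc 5, .ofNat 10, .ofNat 1, .ofNat 4, .negSucc 10, .ofNat 9, .negSucc 8, .ofNat 7, .negSucc 18, .ofNat 2, .negSucc 17, .ofNat 7, .negSucc 22, .negSucc 15, .negSucc 24, .ofNat 4, .negSucc 47, .negSucc 19, .negSucc 27, .negSucc 13, .negSucc 31, .negSucc 19],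
  [.ofNat 1, .negSucc 0, .ofNat 0, .ofNat 2, .negSucc 0, .ofNat 1, .negSucc 1, .ofNat 1, .ofNat 0, .negSucc 0, .negSucc 0, .ofNat 0, .negSucc 1, .ofNat 0, .negSucc 2, .negSucc 1, .ofNat 0, .ofNat 1, .negSucc 1, .ofNat 1, .negSucc 3, .negSucc 2, .negSucc 0, .negSucc 6, .negSucc 3, .ofNat 0, .negSucc 0, .negSucc 2, .negSucc 3, .negSucc 3, .negSucc 0, .negSucc 10, .negSucc 4, .negSucc 5, .ofNat 1, .negSucc 18, .negSucc 3, .negSucc 5, .ofNat 6, .negSucc 25, .ofNat 5, .negSucc 24, .ofNat 26, .negSucc 18, .ofNat 26, .negSucc 27, .ofNat 50, .ofNat 0, .ofNat 41, .negSucc 27, .ofNat 95, .negSucc 17, .ofNat 61, .ofNat 0, .ofNat 72, .ofNat 10],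
  [.ofNat 0, .negSucc 0, .negSucc 0, .ofNat 1, .ofNat 0, .ofNat 0, .negSucc 0, .ofNat 0, .negSucc 0, .ofNat 2, .negSucc 2, .negSucc 0, .negSucc 1, .ofNat 0, .negSucc 2, .negSucc 3, .ofNat 0, .negSucc 0, .negSucc 0, .ofNat 0, .negSucc 2, .negSucc 5, .ofNat 1, .negSucc 6, .negSucc 2, .negSucc 2, .negSucc 0, .negSucc 4, .negSucc 3, .negSucc 4, .ofNat 3, .negSucc 10, .negSucc 1, .negSucc 8, .ofNat 11, .negSucc 21, .ofNat 1, .negSucc 7, .ofNat 23, .negSucc 25, .ofNat 18, .negSucc 24, .ofNat 41, .negSucc 9, .ofNat 43, .negSucc 17, .ofNat 61, .ofNat 26, .ofNat 59, .negSucc 10, .ofNat 117, .ofNat 28, .ofNat 68, .ofNat 31, .ofNat 74, .ofNat 45],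
  [.ofNat 0, .ofNat 1, .ofNat 0, .negSucc 0, .ofNat 1, .ofNat 0, .ofNat 0, .ofNat 1, .ofNat 0, .ofNat 1, .negSucc 0, .ofNat 1, .ofNat 0, .ofNat 1, .negSucc 2, .ofNat 1, .ofNat 1, .ofNat 0, .ofNat 2, .ofNat 1, .negSucc 2, .ofNat 0, .negSucc 2, .ofNat 0, .ofNat 1, .ofNat 1, .negSucc 0, .ofNat 1, .negSucc 0, .ofNat 2, .negSucc 4, .ofNat 3, .negSucc 3, .ofNat 2, .negSucc 9, .negSucc 0, .negSucc 2, .ofNat 1, .negSucc 12, .negSucc 3, .negSucc 10, .negSucc 0, .negSucc 7, .negSucc 13, .negSucc 13, .negSucc 12, .ofNat 1, .negSucc 23, .negSucc 13, .negSucc 20, .negSucc 4, .negSucc 42, .ofNat 2, .negSucc 30, .ofNat 5, .negSucc 36],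
  [.ofNat 0, .ofNat 0, .ofNat 2, .negSucc 0, .negSucc 0, .ofNat 1, .ofNat 1, .ofNat 0, .negSucc 0, .negSucc 0, .ofNat 2, .negSucc 0, .ofNat 1, .ofNat 0, .ofNat 2, .ofNat 0, .ofNat 0, .ofNat 0, .ofNat 0, .ofNat 1, .ofNat 3, .ofNat 2, .ofNat 0, .ofNat 3, .ofNat 2, .ofNat 1, .ofNat 2, .ofNat 2, .ofNat 3, .ofNat 2, .ofNat 0, .ofNat 5, .ofNat 1, .ofNat 3, .negSucc 0, .ofNat 11, .ofNat 1, .ofNat 2, .negSucc 5, .ofNat 14, .negSucc 1, .ofNat 14, .negSucc 12, .ofNat 13, .negSucc 13, .ofNat 16, .negSucc 30, .ofNat 3, .negSucc 22, .ofNat 16, .negSucc 55, .ofNat 12, .negSucc 34, .negSucc 0, .negSucc 37, .negSucc 4]]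

/-- Some images of the first vector. -/
def ruWalkRightPart1 : List (List ℤ) := [
  [.ofNat 0, .ofNat 0, .negSucc 0, .ofNat 0, .ofNat 0, .negSucc 1, .ofNat 0, .ofNat 0, .ofNat 1, .negSucc 0, .ofNat 0, .negSucc 0, .ofNat 2, .negSucc 0, .ofNat 4, .ofNat 1, .negSucc 0, .ofNat 0, .ofNat 0, .negSucc 1, .ofNat 4, .ofNat 0, .ofNat 4, .ofNat 2, .ofNat 3, .negSucc 1, .ofNat 4, .ofNat 2, .ofNat 4, .ofNat 1, .ofNat 7, .ofNat 8, .ofNat 5, .ofNat 1, .ofNat 8, .ofNat 14, .ofNat 4, .ofNat 2, .ofNat 7, .ofNat 23, .ofNat 9, .ofNat 19, .negSucc 8, .ofNat 26, .negSucc 4, .ofNat 29, .negSucc 33, .ofNat 24, .negSucc 14, .ofNat 36, .negSucc 53, .ofNat 53, .negSucc 39, .ofNat 28, .negSucc 49, .ofNat 24],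
  [.negSucc 1, .negSucc 0, .ofNat 1, .ofNat 0, .ofNat 0, .ofNat 1, .ofNat 0, .ofNat 0, .negSucc 0, .ofNat 0, .negSucc 0, .negSucc 0, .negSucc 0, .ofNat 1, .negSucc 0, .negSucc 2, .ofNat 0, .negSucc 0, .ofNat 1, .ofNat 1, .ofNat 2, .negSucc 1, .ofNat 0, .ofNat 0, .negSucc 1, .negSucc 0, .negSucc 0, .negSucc 3, .negSucc 2, .negSucc 2, .ofNat 3, .negSucc 7, .negSucc 0, .negSucc 1, .ofNat 8, .negSucc 9, .ofNat 1, .negSucc 1, .ofNat 15, .negSucc 9, .ofNat 10, .negSucc 10, .ofNat 22, .ofNat 1, .ofNat 22, .negSucc 2, .ofNat 25, .ofNat 21, .ofNat 29, .ofNat 1, .ofNat 50, .ofNat 24, .ofNat 26, .ofNat 22, .ofNat 29, .ofNat 29],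
  [.ofNat 1, .negSucc 0, .ofNat 1, .negSucc 0, .ofNat 1, .ofNat 0, .ofNat 2, .ofNat 0, .ofNat 0, .ofNat 1, .ofNat 2, .ofNat 2, .ofNat 1, .ofNat 1, .ofNat 0, .ofNat 5, .ofNat 1, .ofNat 0, .ofNat 2, .ofNat 1, .negSucc 0, .ofNat 7, .negSucc 4, .ofNat 5, .ofNat 2, .ofNat 4, .negSucc 1, .ofNat 5, .ofNat 0, .ofNat 5, .negSucc 9, .ofNat 9, .ofNat 0, .ofNat 9, .negSucc 19, .ofNat 13, .negSucc 2, .ofNat 8, .negSucc 30, .ofNat 12, .negSucc 26, .ofNat 14, .negSucc 39, .negSucc 10, .negSucc 44, .negSucc 1, .negSucc 37, .negSucc 48, .negSucc 56, .negSucc 15, .negSucc 86, .negSucc 74, .negSucc 45, .negSucc 57, .negSucc 44, .negSucc 72],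
  [.ofNat 0, .ofNat 0, .ofNat 1, .ofNat 1, .negSucc 0, .negSucc 0, .ofNat 0, .negSucc 0, .ofNat 1, .ofNat 1, .ofNat 0, .ofNat 2, .ofNat 0, .ofNat 0, .ofNat 0, .ofNat 1, .negSucc 0, .ofNat 2, .negSucc 2, .ofNat 0, .negSucc 1, .ofNat 2, .negSucc 1, .negSucc 0, .negSucc 0, .ofNat 0, .negSucc 0, .ofNat 1, .negSucc 0, .ofNat 2, .negSucc 3, .ofNat 0, .negSucc 1, .negSucc 0, .negSucc 7, .negSucc 2, .negSucc 3, .ofNat 0, .negSucc 9, .negSucc 4, .negSucc 11, .negSucc 5, .negSucc 8, .negSucc 15, .negSucc 8, .negSucc 16, .ofNat 8, .negSucc 30, .negSucc 4, .negSucc 20, .ofNat 4, .negSucc 46, .ofNat 13, .negSucc 27, .ofNat 15, .negSucc 28],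
  [.ofNat 1, .ofNat 2, .ofNat 1, .ofNat 1, .negSucc 0, .negSucc 0, .negSucc 0, .ofNat 1, .negSucc 0, .negSucc 0, .negSucc 0, .ofNat 1, .negSucc 0, .negSucc 0, .negSucc 1, .negSucc 0, .ofNat 0, .ofNat 1, .negSucc 0, .ofNat 1, .negSucc 1, .negSucc 2, .ofNat 0, .negSucc 2, .negSucc 0, .negSucc 0, .negSucc 0, .negSucc 1, .ofNat 0, .ofNat 0, .ofNat 0, .negSucc 4, .negSucc 2, .negSucc 0, .ofNat 2, .negSucc 9, .negSucc 2, .negSucc 1, .ofNat 4, .negSucc 10, .ofNat 0, .negSucc 8, .ofNat 11, .negSucc 10, .ofNat 7, .negSucc 12, .ofNat 20, .negSucc 2, .ofNat 16, .negSucc 14, .ofNat 39, .negSucc 10, .ofNat 30, .negSucc 4, .ofNat 30, .ofNat 1],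
  [.ofNat 0, .ofNat 0, .ofNat 0, .negSucc 0, .ofNat 1, .negSucc 0, .ofNat 1, .negSucc 0, .negSucc 0, .ofNat 0, .ofNat 0, .negSucc 0, .ofNat 2, .negSucc 0, .ofNat 4, .ofNat 0, .ofNat 1, .negSucc 1, .ofNat 4, .negSucc 0, .ofNat 5, .ofNat 1, .ofNat 2, .ofNat 7, .ofNat 4, .negSucc 1, .ofNat 4, .ofNat 1, .ofNat 4, .ofNat 0, .ofNat 10, .ofNat 9, .ofNat 8, .ofNat 4, .ofNat 12, .ofNat 19, .ofNat 7, .ofNat 5, .ofNat 10, .ofNat 30, .ofNat 10, .ofNat 28, .negSucc 11, .ofNat 35, .negSucc 10, .ofNat 45, .negSucc 49, .ofNat 34, .negSucc 24, .ofNat 51, .negSucc 80, .ofNat 73, .negSucc 60, .ofNat 33, .negSucc 78, .ofNat 32]]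

/-- Some images of the first vector. -/
def ruWalkRightPart2 : List (List ℤ) := [
  [.ofNat 0, .negSucc 0, .ofNat 0, .ofNat 0, .ofNat 0, .ofNat 0, .ofNat 0, .negSucc 0, .ofNat 0, .ofNat 1, .ofNat 0, .ofNat 0, .ofNat 0, .ofNat 0, .ofNat 0, .ofNat 0, .ofNat 1, .ofNat 0, .ofNat 2, .ofNat 0, .ofNat 1, .ofNat 1, .negSucc 0, .ofNat 1, .ofNat 0, .ofNat 0, .ofNat 0, .ofNat 1, .ofNat 0, .ofNat 0, .ofNat 1, .ofNat 3, .ofNat 2, .ofNat 0, .negSucc 1, .ofNat 3, .ofNat 2, .ofNat 1, .negSucc 0, .ofNat 2, .ofNat 0, .ofNat 5, .negSucc 3, .ofNat 5, .negSucc 3, .ofNat 7, .negSucc 8, .ofNat 2, .negSucc 6, .ofNat 7, .negSucc 14, .ofNat 6, .negSucc 11, .ofNat 1, .negSucc 14, .negSucc 0],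
  [.ofNat 0, .ofNat 1, .ofNat 1, .ofNat 0, .negSucc 0, .ofNat 0, .ofNat 0, .ofNat 1, .ofNat 0, .negSucc 1, .negSucc 0, .ofNat 0, .ofNat 1, .ofNat 0, .ofNat 0, .ofNat 0, .ofNat 0, .ofNat 0, .negSucc 0, .ofNat 0, .ofNat 0, .negSucc 1, .ofNat 0, .negSucc 1, .negSucc 0, .ofNat 0, .ofNat 1, .negSucc 1, .ofNat 0, .ofNat 1, .ofNat 2, .negSucc 2, .negSucc 1, .ofNat 1, .ofNat 3, .negSucc 1, .negSucc 0, .negSucc 0, .ofNat 4, .negSucc 1, .ofNat 2, .negSucc 3, .ofNat 7, .negSucc 1, .ofNat 3, .negSucc 2, .ofNat 7, .ofNat 3, .ofNat 7, .negSucc 1, .ofNat 14, .ofNat 1, .ofNat 10, .ofNat 3, .ofNat 9, .ofNat 4],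
  [.ofNat 0, .negSucc 0, .negSucc 0, .ofNat 1, .ofNat 1, .negSucc 2, .ofNat 1, .negSucc 0, .ofNat 0, .ofNat 1, .negSucc 0, .ofNat 0, .ofNat 2, .ofNat 0, .ofNat 3, .ofNat 1, .ofNat 1, .ofNat 0, .ofNat 1, .negSucc 0, .ofNat 1, .ofNat 2, .ofNat 0, .ofNat 2, .ofNat 1, .negSucc 0, .ofNat 1, .ofNat 2, .ofNat 0, .ofNat 0, .ofNat 3, .ofNat 7, .ofNat 6, .ofNat 2, .ofNat 1, .ofNat 9, .ofNat 4, .ofNat 5, .ofNat 2, .ofNat 14, .negSucc 2, .ofNat 13, .negSucc 13, .ofNat 11, .negSucc 13, .ofNat 16, .negSucc 22, .negSucc 0, .negSucc 18, .ofNat 16, .negSucc 44, .ofNat 12, .negSucc 27, .ofNat 2, .negSucc 38, .negSucc 3],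
  [.ofNat 0, .ofNat 0, .ofNat 0, .ofNat 1, .ofNat 2, .ofNat 0, .ofNat 0, .ofNat 1, .ofNat 0, .negSucc 0, .ofNat 0, .ofNat 1, .ofNat 2, .ofNat 2, .negSucc 0, .ofNat 4, .ofNat 1, .ofNat 1, .ofNat 1, .ofNat 2, .negSucc 2, .ofNat 3, .negSucc 5, .ofNat 0, .ofNat 0, .ofNat 4, .negSucc 2, .ofNat 3, .negSucc 2, .ofNat 4, .negSucc 9, .ofNat 4, .negSucc 2, .ofNat 7, .negSucc 17, .ofNat 3, .negSucc 4, .ofNat 6, .negSucc 25, .negSucc 1, .negSucc 27, .negSucc 1, .negSucc 23, .negSucc 23, .negSucc 33, .negSucc 22, .negSucc 6, .negSucc 51, .negSucc 32, .negSucc 36, .negSucc 30, .negSucc 91, .negSucc 4, .negSucc 58, .negSucc 0, .negSucc 73],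
  [.ofNat 0, .ofNat 0, .negSucc 0, .ofNat 0, .ofNat 0, .negSucc 0, .ofNat 1, .negSucc 1, .ofNat 0, .ofNat 0, .ofNat 0, .negSucc 0, .ofNat 2, .negSucc 0, .ofNat 4, .negSucc 0, .ofNat 1, .ofNat 0, .ofNat 0, .negSucc 0, .ofNat 4, .ofNat 1, .ofNat 2, .ofNat 3, .ofNat 3, .ofNat 0, .ofNat 2, .ofNat 2, .ofNat 2, .ofNat 1, .ofNat 4, .ofNat 7, .ofNat 8, .ofNat 0, .ofNat 7, .ofNat 13, .ofNat 7, .ofNat 3, .ofNat 7, .ofNat 19, .ofNat 4, .ofNat 18, .negSucc 10, .ofNat 23, .negSucc 6, .ofNat 28, .negSucc 32, .ofNat 17, .negSucc 15, .ofNat 34, .negSucc 55, .ofNat 45, .negSucc 36, .ofNat 22, .negSucc 50, .ofNat 20],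
  [.ofNat 1, .negSucc 0, .ofNat 1, .ofNat 1, .ofNat 1, .negSucc 0, .ofNat 2, .ofNat 1, .ofNat 1, .negSucc 0, .ofNat 2, .ofNat 2, .ofNat 3, .ofNat 2, .ofNat 2, .ofNat 8, .negSucc 1, .ofNat 0, .ofNat 0, .ofNat 0, .negSucc 1, .ofNat 8, .negSucc 5, .ofNat 4, .ofNat 1, .ofNat 5, .negSucc 1, .ofNat 7, .ofNat 0, .ofNat 6, .negSucc 11, .ofNat 10, .ofNat 1, .ofNat 11, .negSucc 23, .ofNat 14, .negSucc 5, .ofNat 9, .negSucc 39, .ofNat 12, .negSucc 34, .ofNat 11, .negSucc 47, .negSucc 18, .negSucc 52, .negSucc 10, .negSucc 36, .negSucc 64, .negSucc 63, .negSucc 26, .negSucc 92, .negSucc 104, .negSucc 43, .negSucc 70, .negSucc 41, .negSucc 90]]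

/-- Some images of the first vector. -/
def ruWalkRightPart3 : List (List ℤ) := [
  [.ofNat 0, .ofNat 1, .ofNat 0, .negSucc 0, .ofNat 0, .negSucc 1, .ofNat 1, .negSucc 0, .ofNat 0, .negSucc 0, .ofNat 1, .negSucc 0, .ofNat 3, .negSucc 0, .ofNat 5, .ofNat 1, .ofNat 1, .ofNat 0, .ofNat 2, .ofNat 0, .ofNat 5, .ofNat 2, .ofNat 2, .ofNat 6, .ofNat 4, .ofNat 0, .ofNat 2, .ofNat 3, .ofNat 5, .ofNat 2, .ofNat 5, .ofNat 12, .ofNat 6, .ofNat 4, .ofNat 3, .ofNat 20, .ofNat 6, .ofNat 6, .ofNat 0, .ofNat 29, .ofNat 0, .ofNat 29, .negSucc 22, .ofNat 29, .negSucc 22, .ofNat 36, .negSucc 56, .ofNat 12, .negSucc 37, .ofNat 37, .negSucc 96, .ofNat 40, .negSucc 62, .ofNat 12, .negSucc 77, .ofNat 3],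
  [.negSucc 0, .ofNat 1, .ofNat 0, .ofNat 1, .ofNat 1, .ofNat 1, .negSucc 2, .ofNat 2, .ofNat 1, .negSucc 0, .negSucc 1, .negSucc 0, .negSucc 1, .ofNat 1, .negSucc 4, .negSucc 1, .negSucc 0, .ofNat 0, .negSucc 0, .ofNat 1, .negSucc 1, .negSucc 4, .ofNat 1, .negSucc 4, .negSucc 1, .negSucc 0, .ofNat 0, .negSucc 2, .negSucc 2, .negSucc 0, .negSucc 0, .negSucc 7, .negSucc 6, .negSucc 3, .ofNat 3, .negSucc 15, .negSucc 4, .negSucc 6, .ofNat 6, .negSucc 20, .ofNat 5, .negSucc 21, .ofNat 26, .negSucc 15, .ofNat 24, .negSucc 26, .ofNat 45, .ofNat 4, .ofNat 38, .negSucc 24, .ofNat 85, .negSucc 10, .ofNat 53, .ofNat 4, .ofNat 65, .ofNat 10],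
  [.negSucc 0, .ofNat 0, .ofNat 2, .negSucc 0, .ofNat 0, .negSucc 0, .ofNat 0, .ofNat 0, .ofNat 0, .negSucc 0, .ofNat 1, .ofNat 0, .ofNat 2, .ofNat 1, .ofNat 2, .ofNat 1, .ofNat 1, .ofNat 0, .ofNat 3, .ofNat 0, .ofNat 4, .ofNat 3, .ofNat 0, .ofNat 6, .ofNat 3, .ofNat 2, .ofNat 2, .ofNat 2, .ofNat 1, .ofNat 4, .ofNat 1, .ofNat 8, .ofNat 3, .ofNat 4, .negSucc 2, .ofNat 15, .ofNat 4, .ofNat 6, .negSucc 6, .ofNat 21, .negSucc 5, .ofNat 23, .negSucc 22, .ofNat 18, .negSucc 23, .ofNat 23, .negSucc 45, .negSucc 0, .negSucc 37, .ofNat 20, .negSucc 82, .ofNat 7, .negSucc 53, .negSucc 6, .negSucc 58, .negSucc 12],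
  [.negSucc 1, .ofNat 0, .ofNat 0, .ofNat 1, .negSucc 0, .negSucc 0, .negSucc 1, .negSucc 1, .ofNat 0, .negSucc 0, .negSucc 0, .negSucc 2, .negSucc 0, .negSucc 1, .ofNat 2, .negSucc 6, .negSucc 0, .ofNat 0, .negSucc 0, .ofNat 0, .ofNat 7, .negSucc 6, .ofNat 8, .negSucc 1, .ofNat 0, .negSucc 4, .ofNat 5, .negSucc 3, .ofNat 1, .negSucc 5, .ofNat 15, .negSucc 4, .ofNat 4, .negSucc 10, .ofNat 29, .negSucc 4, .ofNat 9, .negSucc 7, .ofNat 42, .ofNat 2, .ofNat 36, .negSucc 0, .ofNat 40, .ofNat 35, .ofNat 50, .ofNat 26, .ofNat 17, .ofNat 75, .ofNat 56, .ofNat 49, .ofNat 56, .ofNat 132, .ofNat 22, .ofNat 90, .ofNat 12, .ofNat 106],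
  [.ofNat 0, .ofNat 2, .negSucc 0, .ofNat 0, .ofNat 0, .ofNat 0, .negSucc 1, .ofNat 1, .ofNat 2, .ofNat 0, .negSucc 1, .ofNat 1, .negSucc 0, .negSucc 0, .negSucc 3, .negSucc 0, .negSucc 0, .ofNat 1, .negSucc 0, .ofNat 0, .negSucc 2, .negSucc 4, .ofNat 2, .negSucc 3, .negSucc 1, .negSucc 1, .ofNat 0, .negSucc 1, .negSucc 0, .ofNat 1, .negSucc 0, .negSucc 3, .negSucc 5, .negSucc 3, .ofNat 0, .negSucc 12, .negSucc 3, .negSucc 5, .ofNat 4, .negSucc 16, .ofNat 3, .negSucc 14, .ofNat 15, .negSucc 15, .ofNat 15, .negSucc 22, .ofNat 33, .negSucc 5, .ofNat 27, .negSucc 21, .ofNat 63, .negSucc 14, .ofNat 42, .negSucc 3, .ofNat 50, .ofNat 2],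
  [.ofNat 0, .ofNat 0, .ofNat 0, .negSucc 0, .ofNat 0, .ofNat 0, .ofNat 1, .negSucc 0, .negSucc 0, .ofNat 0, .ofNat 2, .negSucc 0, .ofNat 2, .negSucc 0, .ofNat 4, .ofNat 0, .ofNat 2, .ofNat 0, .ofNat 2, .ofNat 0, .ofNat 4, .ofNat 3, .ofNat 1, .ofNat 5, .ofNat 3, .ofNat 1, .ofNat 1, .ofNat 3, .ofNat 4, .ofNat 2, .ofNat 2, .ofNat 9, .ofNat 6, .ofNat 4, .ofNat 1, .ofNat 18, .ofNat 6, .ofNat 5, .negSucc 1, .ofNat 23, .negSucc 0, .ofNat 25, .negSucc 20, .ofNat 25, .negSucc 20, .ofNat 32, .negSucc 50, .ofNat 10, .negSucc 35, .ofNat 33, .negSucc 89, .ofNat 33, .negSucc 59, .ofNat 8, .negSucc 69, .ofNat 0]]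

/-- Some images of the first vector. -/
def ruWalkRightPart4 : List (List ℤ) := [
  [.ofNat 1, .negSucc 0, .ofNat 1, .ofNat 0, .ofNat 0, .ofNat 0, .ofNat 2, .ofNat 2, .ofNat 0, .ofNat 0, .ofNat 2, .ofNat 3, .ofNat 1, .ofNat 3, .negSucc 0, .ofNat 7, .ofNat 0, .ofNat 0, .ofNat 1, .ofNat 0, .negSucc 4, .ofNat 7, .negSucc 6, .ofNat 2, .negSucc 0, .ofNat 5, .negSucc 4, .ofNat 4, .negSucc 1, .ofNat 5, .negSucc 13, .ofNat 3, .negSucc 3, .ofNat 9, .negSucc 27, .ofNat 3, .negSucc 6, .ofNat 6, .negSucc 37, .negSucc 4, .negSucc 31, .negSucc 0, .negSucc 33, .negSucc 29, .negSucc 41, .negSucc 25, .negSucc 11, .negSucc 66, .negSucc 47, .negSucc 45, .negSucc 45, .negSucc 121, .negSucc 16, .negSucc 77, .negSucc 4, .negSucc 93],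
  [.ofNat 1, .ofNat 1, .ofNat 1, .ofNat 0, .ofNat 1, .ofNat 0, .ofNat 1, .ofNat 2, .ofNat 0, .negSucc 1, .ofNat 1, .ofNat 1, .ofNat 1, .ofNat 2, .negSucc 0, .ofNat 5, .ofNat 1, .negSucc 0, .ofNat 2, .ofNat 2, .negSucc 0, .ofNat 4, .negSucc 4, .ofNat 3, .ofNat 1, .ofNat 4, .negSucc 1, .ofNat 3, .ofNat 0, .ofNat 4, .negSucc 7, .ofNat 5, .negSucc 2, .ofNat 9, .negSucc 15, .ofNat 8, .negSucc 3, .ofNat 6, .negSucc 25, .ofNat 5, .negSucc 22, .ofNat 8, .negSucc 27, .negSucc 11, .negSucc 36, .negSucc 6, .negSucc 27, .negSucc 38, .negSucc 43, .negSucc 21, .negSucc 58, .negSucc 70, .negSucc 29, .negSucc 50, .negSucc 26, .negSucc 63],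
  [.negSucc 0, .ofNat 0, .ofNat 0, .ofNat 1, .ofNat 0, .negSucc 0, .negSucc 0, .negSucc 0, .ofNat 1, .ofNat 0, .ofNat 0, .negSucc 0, .ofNat 1, .ofNat 1, .ofNat 1, .ofNat 0, .ofNat 0, .negSucc 0, .ofNat 1, .negSucc 0, .ofNat 2, .ofNat 0, .ofNat 1, .ofNat 2, .ofNat 0, .ofNat 0, .ofNat 1, .ofNat 1, .negSucc 0, .ofNat 0, .ofNat 4, .ofNat 2, .ofNat 2, .negSucc 0, .ofNat 3, .ofNat 4, .ofNat 3, .ofNat 0, .ofNat 3, .ofNat 5, .ofNat 3, .ofNat 5, .ofNat 0, .ofNat 9, .ofNat 1, .ofNat 10, .negSucc 8, .ofNat 9, .negSucc 1, .ofNat 12, .negSucc 10, .ofNat 18, .negSucc 10, .ofNat 11, .negSucc 15, .ofNat 12],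
  [.ofNat 1, .ofNat 1, .ofNat 1, .negSucc 0, .ofNat 0, .negSucc 0, .ofNat 1, .ofNat 1, .ofNat 0, .ofNat 1, .ofNat 0, .ofNat 3, .ofNat 1, .ofNat 1, .negSucc 1, .ofNat 4, .ofNat 1, .ofNat 0, .ofNat 2, .ofNat 0, .negSucc 4, .ofNat 4, .negSucc 5, .ofNat 2, .ofNat 0, .ofNat 1, .negSucc 2, .ofNat 2, .ofNat 0, .ofNat 5, .negSucc 6, .ofNat 4, .negSucc 2, .ofNat 6, .negSucc 17, .ofNat 1, .negSucc 3, .ofNat 5, .negSucc 22, .negSucc 2, .negSucc 21, .ofNat 4, .negSucc 25, .negSucc 20, .negSucc 33, .negSucc 13, .negSucc 12, .negSucc 47, .negSucc 36, .negSucc 30, .negSucc 36, .negSucc 81, .negSucc 13, .negSucc 60, .negSucc 9, .negSucc 67],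
  [.ofNat 0, .ofNat 0, .ofNat 1, .negSucc 0, .negSucc 0, .negSucc 0, .ofNat 2, .negSucc 1, .ofNat 0, .negSucc 0, .ofNat 3, .negSucc 0, .ofNat 4, .negSucc 1, .ofNat 8, .ofNat 2, .ofNat 0, .ofNat 0, .ofNat 2, .ofNat 0, .ofNat 8, .ofNat 5, .ofNat 2, .ofNat 9, .ofNat 6, .ofNat 1, .ofNat 5, .ofNat 6, .ofNat 7, .ofNat 4, .ofNat 5, .ofNat 18, .ofNat 12, .ofNat 7, .ofNat 4, .ofNat 34, .ofNat 9, .ofNat 11, .negSucc 4, .ofNat 48, .negSucc 3, .ofNat 46, .negSucc 42, .ofNat 44, .negSucc 38, .ofNat 56, .negSucc 92, .ofNat 13, .negSucc 63, .ofNat 60, .negSucc 164, .ofNat 55, .negSucc 104, .ofNat 15, .negSucc 126, .ofNat 3],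
  [.negSucc 0, .negSucc 0, .ofNat 0, .negSucc 0, .ofNat 0, .ofNat 0, .ofNat 1, .negSucc 2, .ofNat 1, .negSucc 0, .ofNat 3, .negSucc 2, .ofNat 4, .negSucc 1, .ofNat 9, .ofNat 0, .ofNat 1, .ofNat 0, .ofNat 2, .negSucc 0, .ofNat 11, .ofNat 5, .ofNat 5, .ofNat 10, .ofNat 6, .ofNat 1, .ofNat 7, .ofNat 6, .ofNat 6, .ofNat 2, .ofNat 9, .ofNat 18, .ofNat 14, .ofNat 5, .ofNat 10, .ofNat 38, .ofNat 11, .ofNat 11, .ofNat 3, .ofNat 54, .ofNat 4, .ofNat 49, .negSucc 37, .ofNat 57, .negSucc 29, .ofNat 67, .negSucc 97, .ofNat 32, .negSucc 56, .ofNat 78, .negSucc 166, .ofNat 90, .negSucc 112, .ofNat 38, .negSucc 136, .ofNat 28]]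

/-- Some images of the first vector. -/
def ruWalkRightPart5 : List (List ℤ) := [
  [.ofNat 1, .ofNat 0, .ofNat 0, .negSucc 1, .ofNat 0, .negSucc 0, .ofNat 2, .negSucc 1, .ofNat 1, .ofNat 0, .ofNat 4, .ofNat 0, .ofNat 4, .negSucc 0, .ofNat 7, .ofNat 5, .negSucc 0, .negSucc 1, .ofNat 1, .negSucc 2, .ofNat 7, .ofNat 8, .ofNat 2, .ofNat 12, .ofNat 7, .ofNat 2, .ofNat 4, .ofNat 9, .ofNat 8, .ofNat 6, .ofNat 1, .ofNat 19, .ofNat 10, .ofNat 9, .negSucc 3, .ofNat 38, .ofNat 6, .ofNat 9, .negSucc 19, .ofNat 49, .negSucc 9, .ofNat 46, .negSucc 52, .ofNat 36, .negSucc 46, .ofNat 52, .negSucc 96, .negSucc 2, .negSucc 77, .ofNat 53, .negSucc 181, .ofNat 27, .negSucc 115, .negSucc 2, .negSucc 132, .negSucc 16],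
  [.ofNat 0, .ofNat 1, .ofNat 1, .ofNat 0, .ofNat 1, .negSucc 0, .ofNat 1, .ofNat 1, .negSucc 0, .negSucc 1, .ofNat 1, .ofNat 1, .ofNat 2, .negSucc 0, .ofNat 3, .ofNat 3, .negSucc 0, .ofNat 0, .ofNat 1, .ofNat 0, .ofNat 2, .ofNat 3, .negSucc 0, .ofNat 5, .ofNat 3, .ofNat 2, .ofNat 1, .ofNat 2, .ofNat 3, .ofNat 4, .negSucc 0, .ofNat 7, .ofNat 3, .ofNat 6, .negSucc 2, .ofNat 14, .ofNat 0, .ofNat 6, .negSucc 11, .ofNat 19, .negSucc 11, .ofNat 18, .negSucc 25, .ofNat 8, .negSucc 27, .ofNat 15, .negSucc 39, .negSucc 12, .negSucc 37, .ofNat 10, .negSucc 78, .negSucc 11, .negSucc 43, .negSucc 14, .negSucc 51, .negSucc 23],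
  [.ofNat 2, .ofNat 0, .ofNat 1, .ofNat 1, .negSucc 0, .ofNat 0, .ofNat 0, .ofNat 1, .negSucc 0, .ofNat 0, .ofNat 0, .ofNat 2, .negSucc 1, .ofNat 0, .negSucc 1, .ofNat 0, .ofNat 0, .negSucc 0, .ofNat 0, .negSucc 0, .negSucc 2, .ofNat 0, .negSucc 0, .negSucc 0, .negSucc 2, .ofNat 1, .negSucc 3, .negSucc 0, .negSucc 1, .ofNat 0, .negSucc 2, .negSucc 7, .negSucc 1, .ofNat 0, .negSucc 3, .negSucc 11, .negSucc 2, .negSucc 2, .negSucc 2, .negSucc 17, .negSucc 2, .negSucc 11, .ofNat 7, .negSucc 16, .ofNat 7, .negSucc 14, .ofNat 24, .negSucc 9, .ofNat 12, .negSucc 20, .ofNat 40, .negSucc 30, .ofNat 26, .negSucc 14, .ofNat 33, .negSucc 5],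
  [.negSucc 0, .ofNat 0, .ofNat 0, .negSucc 0, .ofNat 0, .negSucc 0, .ofNat 0, .negSucc 0, .ofNat 1, .ofNat 0, .ofNat 1, .negSucc 0, .ofNat 2, .negSucc 1, .ofNat 3, .ofNat 0, .ofNat 0, .ofNat 0, .ofNat 1, .negSucc 0, .ofNat 4, .ofNat 0, .ofNat 4, .ofNat 3, .ofNat 4, .negSucc 1, .ofNat 5, .ofNat 2, .ofNat 5, .ofNat 1, .ofNat 7, .ofNat 10, .ofNat 6, .ofNat 0, .ofNat 8, .ofNat 17, .ofNat 7, .ofNat 2, .ofNat 8, .ofNat 25, .ofNat 11, .ofNat 24, .negSucc 9, .ofNat 32, .negSucc 5, .ofNat 35, .negSucc 41, .ofNat 28, .negSucc 16, .ofNat 44, .negSucc 65, .ofNat 68, .negSucc 48, .ofNat 33, .negSucc 59, .ofNat 28],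
  [.negSucc 0, .ofNat 0, .negSucc 0, .negSucc 0, .ofNat 1, .ofNat 0, .ofNat 1, .negSucc 0, .ofNat 0, .negSucc 0, .ofNat 0, .negSucc 1, .ofNat 2, .negSucc 0, .ofNat 4, .negSucc 0, .ofNat 1, .ofNat 0, .ofNat 1, .ofNat 1, .ofNat 5, .ofNat 0, .ofNat 2, .ofNat 3, .ofNat 3, .negSucc 0, .ofNat 3, .ofNat 0, .ofNat 4, .ofNat 0, .ofNat 6, .ofNat 8, .ofNat 7, .ofNat 3, .ofNat 10, .ofNat 15, .ofNat 6, .ofNat 5, .ofNat 11, .ofNat 24, .ofNat 7, .ofNat 20, .negSucc 8, .ofNat 28, .negSucc 6, .ofNat 32, .negSucc 36, .ofNat 26, .negSucc 14, .ofNat 40, .negSucc 60, .ofNat 60, .negSucc 42, .ofNat 31, .negSucc 56, .ofNat 25],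
  [.ofNat 0, .ofNat 0, .ofNat 0, .ofNat 0, .ofNat 0, .negSucc 0, .ofNat 0, .ofNat 0, .ofNat 1, .ofNat 1, .ofNat 0, .ofNat 1, .ofNat 2, .ofNat 1, .ofNat 0, .ofNat 2, .negSucc 0, .ofNat 0, .negSucc 0, .ofNat 0, .negSucc 0, .ofNat 1, .negSucc 0, .ofNat 0, .negSucc 0, .ofNat 1, .negSucc 1, .ofNat 2, .negSucc 1, .ofNat 3, .negSucc 5, .ofNat 1, .negSucc 0, .ofNat 2, .negSucc 9, .negSucc 0, .negSucc 1, .ofNat 2, .negSucc 10, .negSucc 3, .negSucc 12, .negSucc 1, .negSucc 10, .negSucc 13, .negSucc 12, .negSucc 12, .ofNat 1, .negSucc 27, .negSucc 12, .negSucc 19, .negSucc 8, .negSucc 46, .ofNat 1, .negSucc 28, .ofNat 6, .negSucc 33]]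

/-- Some images of the first vector. -/
def ruWalkRightPart6 : List (List ℤ) := [
  [.ofNat 2, .negSucc 0, .ofNat 1, .ofNat 0, .negSucc 0, .ofNat 1, .ofNat 1, .ofNat 2, .ofNat 1, .ofNat 0, .ofNat 2, .ofNat 3, .ofNat 0, .ofNat 3, .negSucc 2, .ofNat 7, .ofNat 0, .ofNat 0, .ofNat 0, .ofNat 0, .negSucc 5, .ofNat 6, .negSucc 6, .ofNat 0, .negSucc 2, .ofNat 5, .negSucc 5, .ofNat 4, .negSucc 2, .ofNat 4, .negSucc 14, .negSucc 0, .negSucc 5, .ofNat 7, .negSucc 28, .negSucc 3, .negSucc 7, .ofNat 3, .negSucc 37, .negSucc 15, .negSucc 30, .negSucc 9, .negSucc 26, .negSucc 38, .negSucc 32, .negSucc 34, .ofNat 4, .negSucc 69, .negSucc 34, .negSucc 55, .negSucc 13, .negSucc 131, .ofNat 2, .negSucc 82, .ofNat 19, .negSucc 91],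
  [.negSucc 0, .negSucc 0, .ofNat 1, .ofNat 0, .ofNat 1, .ofNat 1, .ofNat 1, .ofNat 0, .ofNat 0, .ofNat 0, .ofNat 1, .ofNat 1, .ofNat 2, .ofNat 3, .ofNat 1, .ofNat 4, .ofNat 0, .negSucc 0, .ofNat 1, .ofNat 1, .negSucc 0, .ofNat 5, .negSucc 5, .ofNat 4, .ofNat 0, .ofNat 4, .negSucc 2, .ofNat 3, .negSucc 2, .ofNat 3, .negSucc 7, .ofNat 3, .negSucc 1, .ofNat 7, .negSucc 15, .ofNat 6, .negSucc 3, .ofNat 6, .negSucc 24, .ofNat 3, .negSucc 23, .ofNat 2, .negSucc 25, .negSucc 16, .negSucc 30, .negSucc 11, .negSucc 15, .negSucc 43, .negSucc 35, .negSucc 24, .negSucc 45, .negSucc 77, .negSucc 19, .negSucc 50, .negSucc 15, .negSucc 60],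
  [.ofNat 0, .ofNat 0, .ofNat 1, .negSucc 0, .ofNat 1, .ofNat 1, .ofNat 1, .ofNat 1, .ofNat 0, .ofNat 2, .ofNat 0, .ofNat 1, .ofNat 0, .ofNat 2, .negSucc 2, .ofNat 3, .ofNat 0, .ofNat 0, .ofNat 0, .ofNat 1, .negSucc 4, .ofNat 3, .negSucc 4, .ofNat 0, .negSucc 0, .ofNat 3, .negSucc 3, .ofNat 2, .negSucc 2, .ofNat 4, .negSucc 12, .ofNat 0, .negSucc 4, .ofNat 4, .negSucc 19, .negSucc 5, .negSucc 5, .ofNat 3, .negSucc 24, .negSucc 11, .negSucc 23, .negSucc 8, .negSucc 16, .negSucc 31, .negSucc 22, .negSucc 29, .ofNat 10, .negSucc 52, .negSucc 20, .negSucc 45, .negSucc 0, .negSucc 97, .ofNat 10, .negSucc 61, .ofNat 24, .negSucc 69],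
  [.ofNat 0, .negSucc 0, .negSucc 0, .ofNat 0, .negSucc 0, .ofNat 0, .negSucc 0, .negSucc 1, .ofNat 1, .ofNat 1, .ofNat 0, .negSucc 2, .ofNat 0, .negSucc 1, .ofNat 3, .negSucc 3, .ofNat 0, .negSucc 0, .ofNat 0, .negSucc 1, .ofNat 5, .negSucc 1, .ofNat 6, .ofNat 1, .ofNat 2, .negSucc 3, .ofNat 5, .ofNat 0, .ofNat 3, .negSucc 2, .ofNat 12, .ofNat 3, .ofNat 8, .negSucc 6, .ofNat 20, .ofNat 7, .ofNat 9, .negSucc 2, .ofNat 26, .ofNat 15, .ofNat 27, .ofNat 13, .ofNat 14, .ofNat 36, .ofNat 25, .ofNat 38, .negSucc 13, .ofNat 58, .ofNat 19, .ofNat 54, .negSucc 6, .ofNat 110, .negSucc 19, .ofNat 66, .negSucc 30, .ofNat 76],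
  [.negSucc 0, .ofNat 0, .ofNat 1, .ofNat 0, .ofNat 1, .ofNat 0, .ofNat 1, .ofNat 0, .negSucc 0, .ofNat 0, .negSucc 0, .ofNat 0, .ofNat 1, .ofNat 2, .ofNat 0, .ofNat 1, .ofNat 0, .ofNat 0, .ofNat 0, .ofNat 1, .negSucc 0, .ofNat 1, .negSucc 2, .ofNat 0, .ofNat 0, .ofNat 2, .negSucc 1, .ofNat 0, .negSucc 2, .ofNat 1, .negSucc 3, .negSucc 0, .negSucc 0, .ofNat 2, .negSucc 5, .negSucc 1, .negSucc 1, .ofNat 3, .negSucc 7, .negSucc 2, .negSucc 10, .negSucc 3, .negSucc 4, .negSucc 11, .negSucc 9, .negSucc 11, .ofNat 5, .negSucc 19, .negSucc 6, .negSucc 17, .ofNat 0, .negSucc 38, .ofNat 7, .negSucc 21, .ofNat 9, .negSucc 25],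
  [.ofNat 0, .negSucc 0, .ofNat 0, .ofNat 0, .negSucc 0, .ofNat 0, .ofNat 1, .negSucc 0, .negSucc 0, .negSucc 0, .ofNat 2, .negSucc 1, .ofNat 0, .negSucc 0, .ofNat 4, .negSucc 0, .ofNat 0, .negSucc 0, .ofNat 1, .negSucc 1, .ofNat 5, .ofNat 1, .ofNat 3, .ofNat 3, .ofNat 3, .negSucc 0, .ofNat 4, .ofNat 1, .ofNat 3, .negSucc 1, .ofNat 8, .ofNat 4, .ofNat 8, .ofNat 0, .ofNat 13, .ofNat 14, .ofNat 7, .ofNat 1, .ofNat 12, .ofNat 21, .ofNat 16, .ofNat 17, .ofNat 1, .ofNat 32, .ofNat 6, .ofNat 37, .negSucc 28, .ofNat 42, .negSucc 4, .ofNat 48, .negSucc 42, .ofNat 79, .negSucc 36, .ofNat 46, .negSucc 50, .ofNat 47]]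

/-- Some images of the first vector. -/
def ruWalkRightPart7 : List (List ℤ) := [
  [.ofNat 0, .ofNat 0, .ofNat 0, .negSucc 0, .negSucc 0, .ofNat 0, .ofNat 0, .negSucc 1, .negSucc 0, .ofNat 0, .ofNat 0, .negSucc 1, .ofNat 0, .negSucc 1, .ofNat 3, .negSucc 3, .negSucc 0, .ofNat 0, .ofNat 0, .negSucc 0, .ofNat 6, .negSucc 2, .ofNat 6, .ofNat 2, .ofNat 2, .negSucc 2, .ofNat 4, .negSucc 0, .ofNat 4, .negSucc 2, .ofNat 10, .ofNat 1, .ofNat 7, .negSucc 3, .ofNat 19, .ofNat 6, .ofNat 7, .negSucc 0, .ofNat 24, .ofNat 15, .ofNat 23, .ofNat 13, .ofNat 12, .ofNat 33, .ofNat 21, .ofNat 35, .negSucc 14, .ofNat 53, .ofNat 15, .ofNat 49, .negSucc 12, .ofNat 100, .negSucc 18, .ofNat 59, .negSucc 29, .ofNat 69],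
  [.negSucc 0, .ofNat 0, .ofNat 1, .negSucc 0, .ofNat 0, .negSucc 0, .ofNat 2, .negSucc 0, .ofNat 0, .negSucc 0, .ofNat 3, .ofNat 0, .ofNat 4, .ofNat 0, .ofNat 6, .ofNat 3, .negSucc 0, .negSucc 0, .ofNat 1, .negSucc 1, .ofNat 6, .ofNat 6, .ofNat 1, .ofNat 9, .ofNat 4, .ofNat 2, .ofNat 3, .ofNat 5, .ofNat 4, .ofNat 4, .ofNat 2, .ofNat 11, .ofNat 8, .ofNat 7, .negSucc 0, .ofNat 26, .ofNat 6, .ofNat 8, .negSucc 9, .ofNat 35, .negSucc 5, .ofNat 31, .negSucc 33, .ofNat 28, .negSucc 30, .ofNat 39, .negSucc 65, .ofNat 3, .negSucc 52, .ofNat 40, .negSucc 126, .ofNat 24, .negSucc 81, .ofNat 4, .negSucc 93, .negSucc 6],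
  [.ofNat 1, .negSucc 1, .ofNat 0, .ofNat 0, .ofNat 0, .ofNat 1, .ofNat 0, .ofNat 0, .ofNat 1, .negSucc 0, .ofNat 2, .ofNat 0, .ofNat 2, .ofNat 0, .ofNat 3, .ofNat 3, .ofNat 0, .ofNat 1, .negSucc 0, .ofNat 1, .ofNat 2, .ofNat 4, .negSucc 0, .ofNat 3, .ofNat 2, .ofNat 2, .ofNat 2, .ofNat 5, .ofNat 3, .ofNat 2, .negSucc 2, .ofNat 9, .ofNat 2, .ofNat 5, .negSucc 7, .ofNat 16, .negSucc 1, .ofNat 6, .negSucc 16, .ofNat 20, .negSucc 13, .ofNat 17, .negSucc 30, .ofNat 7, .negSucc 28, .ofNat 10, .negSucc 41, .negSucc 20, .negSucc 39, .ofNat 7, .negSucc 81, .negSucc 21, .negSucc 46, .negSucc 22, .negSucc 47, .negSucc 31],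
  [.ofNat 0, .ofNat 0, .ofNat 0, .ofNat 0, .ofNat 0, .negSucc 0, .ofNat 0, .ofNat 0, .ofNat 0, .ofNat 0, .ofNat 1, .ofNat 1, .ofNat 0, .ofNat 0, .ofNat 0, .ofNat 1, .ofNat 1, .ofNat 1, .ofNat 0, .ofNat 0, .ofNat 0, .ofNat 1, .ofNat 0, .ofNat 0, .ofNat 0, .ofNat 1, .negSucc 0, .ofNat 0, .ofNat 0, .ofNat 1, .negSucc 1, .ofNat 1, .negSucc 0, .ofNat 1, .negSucc 3, .ofNat 1, .ofNat 0, .ofNat 2, .negSucc 3, .ofNat 1, .negSucc 4, .ofNat 2, .negSucc 5, .negSucc 0, .negSucc 7, .negSucc 1, .negSucc 6, .negSucc 9, .negSucc 8, .negSucc 3, .negSucc 12, .negSucc 13, .negSucc 5, .negSucc 9, .negSucc 4, .negSucc 13],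
  [.ofNat 1, .negSucc 0, .ofNat 1, .ofNat 1, .negSucc 0, .ofNat 0, .negSucc 0, .ofNat 0, .ofNat 0, .ofNat 0, .ofNat 0, .ofNat 0, .negSucc 0, .ofNat 0, .ofNat 0, .negSucc 0, .ofNat 0, .ofNat 1, .ofNat 0, .ofNat 2, .ofNat 0, .negSucc 0, .negSucc 0, .negSucc 0, .negSucc 0, .ofNat 0, .ofNat 1, .ofNat 0, .negSucc 0, .negSucc 0, .ofNat 0, .ofNat 0, .negSucc 0, .negSucc 0, .ofNat 0, .negSucc 2, .negSucc 1, .ofNat 0, .ofNat 0, .negSucc 1, .negSucc 2, .negSucc 0, .negSucc 0, .negSucc 2, .negSucc 0, .negSucc 4, .ofNat 2, .negSucc 5, .ofNat 3, .negSucc 5, .ofNat 7, .negSucc 7, .ofNat 8, .negSucc 7, .ofNat 8, .negSucc 2],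
  [.ofNat 1, .ofNat 1, .ofNat 0, .ofNat 1, .negSucc 0, .ofNat 0, .negSucc 0, .ofNat 1, .negSucc 0, .negSucc 1, .negSucc 0, .negSucc 0, .negSucc 0, .negSucc 0, .negSucc 0, .negSucc 2, .ofNat 0, .negSucc 0, .negSucc 0, .ofNat 0, .ofNat 0, .negSucc 4, .ofNat 3, .negSucc 3, .negSucc 0, .negSucc 2, .ofNat 2, .negSucc 2, .ofNat 1, .negSucc 3, .ofNat 8, .negSucc 6, .negSucc 0, .negSucc 3, .ofNat 15, .negSucc 7, .ofNat 2, .negSucc 5, .ofNat 21, .negSucc 7, .ofNat 21, .negSucc 8, .ofNat 30, .ofNat 9, .ofNat 30, .ofNat 5, .ofNat 25, .ofNat 40, .ofNat 36, .ofNat 14, .ofNat 57, .ofNat 57, .ofNat 28, .ofNat 41, .ofNat 26, .ofNat 52]]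

/-- Some images of the first vector. -/
def ruWalkRightPart8 : List (List ℤ) := [
  [.negSucc 0, .ofNat 0, .ofNat 0, .negSucc 0, .ofNat 0, .negSucc 0, .ofNat 1, .negSucc 0, .ofNat 0, .ofNat 0, .ofNat 2, .negSucc 0, .ofNat 3, .ofNat 0, .ofNat 4, .ofNat 2, .ofNat 0, .ofNat 0, .ofNat 1, .negSucc 1, .ofNat 4, .ofNat 3, .ofNat 1, .ofNat 5, .ofNat 5, .ofNat 2, .ofNat 2, .ofNat 5, .ofNat 3, .ofNat 4, .negSucc 0, .ofNat 12, .ofNat 6, .ofNat 3, .negSucc 3, .ofNat 20, .ofNat 5, .ofNat 5, .negSucc 10, .ofNat 25, .negSucc 5, .ofNat 26, .negSucc 26, .ofNat 20, .negSucc 25, .ofNat 26, .negSucc 50, .negSucc 1, .negSucc 41, .ofNat 25, .negSucc 95, .ofNat 13, .negSucc 58, .negSucc 1, .negSucc 67, .negSucc 13],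
  [.ofNat 0, .ofNat 0, .ofNat 0, .ofNat 1, .negSucc 0, .ofNat 1, .negSucc 0, .ofNat 1, .ofNat 1, .ofNat 0, .negSucc 0, .ofNat 1, .negSucc 0, .ofNat 1, .negSucc 3, .negSucc 0, .ofNat 0, .negSucc 0, .negSucc 0, .ofNat 0, .negSucc 3, .negSucc 1, .negSucc 1, .negSucc 3, .negSucc 3, .ofNat 1, .negSucc 2, .negSucc 0, .negSucc 3, .ofNat 0, .negSucc 2, .negSucc 8, .negSucc 5, .negSucc 3, .negSucc 4, .negSucc 15, .negSucc 1, .negSucc 5, .negSucc 0, .negSucc 26, .negSucc 0, .negSucc 19, .ofNat 16, .negSucc 20, .ofNat 14, .negSucc 26, .ofNat 39, .negSucc 12, .ofNat 25, .negSucc 31, .ofNat 69, .negSucc 37, .ofNat 45, .negSucc 15, .ofNat 57, .negSucc 7],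
  [.negSucc 0, .ofNat 0, .ofNat 0, .ofNat 0, .ofNat 0, .ofNat 0, .negSucc 0, .ofNat 0, .negSucc 0, .negSucc 0, .negSucc 1, .negSucc 1, .negSucc 0, .negSucc 1, .ofNat 0, .negSucc 4, .negSucc 0, .negSucc 0, .ofNat 1, .negSucc 0, .ofNat 2, .negSucc 5, .ofNat 5, .negSucc 1, .ofNat 1, .negSucc 2, .ofNat 4, .negSucc 2, .ofNat 1, .negSucc 2, .ofNat 10, .negSucc 3, .ofNat 3, .negSucc 7, .ofNat 20, .negSucc 5, .ofNat 7, .negSucc 6, .ofNat 28, .negSucc 1, .ofNat 28, .ofNat 0, .ofNat 30, .ofNat 23, .ofNat 36, .ofNat 19, .ofNat 15, .ofNat 56, .ofNat 39, .ofNat 32, .ofNat 44, .ofNat 93, .ofNat 15, .ofNat 61, .ofNat 12, .ofNat 74],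
  [.negSucc 0, .ofNat 1, .negSucc 0, .negSucc 0, .negSucc 0, .ofNat 0, .negSucc 1, .negSucc 0, .ofNat 1, .ofNat 0, .ofNat 0, .negSucc 2, .negSucc 0, .negSucc 2, .ofNat 2, .negSucc 5, .ofNat 0, .ofNat 0, .negSucc 0, .negSucc 1, .ofNat 6, .negSucc 4, .ofNat 9, .ofNat 0, .ofNat 2, .negSucc 4, .ofNat 6, .negSucc 1, .ofNat 5, .negSucc 2, .ofNat 14, .ofNat 1, .ofNat 4, .negSucc 9, .ofNat 24, .ofNat 4, .ofNat 9, .negSucc 6, .ofNat 33, .ofNat 12, .ofNat 35, .ofNat 11, .ofNat 26, .ofNat 41, .ofNat 36, .ofNat 36, .negSucc 6, .ofNat 71, .ofNat 33, .ofNat 56, .ofNat 13, .ofNat 131, .negSucc 7, .ofNat 81, .negSucc 16, .ofNat 92],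
  [.ofNat 1, .ofNat 1, .ofNat 0, .ofNat 0, .ofNat 0, .ofNat 0, .ofNat 0, .ofNat 0, .ofNat 0, .negSucc 0, .ofNat 1, .ofNat 0, .ofNat 1, .negSucc 0, .ofNat 2, .ofNat 1, .negSucc 0, .negSucc 1, .ofNat 0, .negSucc 0, .ofNat 3, .ofNat 1, .ofNat 2, .ofNat 4, .ofNat 1, .negSucc 0, .ofNat 2, .ofNat 1, .ofNat 3, .ofNat 0, .ofNat 4, .ofNat 2, .ofNat 2, .ofNat 2, .ofNat 6, .ofNat 9, .ofNat 2, .ofNat 0, .ofNat 2, .ofNat 13, .ofNat 5, .ofNat 10, .negSucc 4, .ofNat 14, .negSucc 1, .ofNat 19, .negSucc 20, .ofNat 15, .negSucc 8, .ofNat 24, .negSucc 34, .ofNat 31, .negSucc 26, .ofNat 17, .negSucc 32, .ofNat 19],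
  [.ofNat 0, .ofNat 1, .ofNat 1, .ofNat 0, .ofNat 0, .negSucc 0, .ofNat 0, .ofNat 0, .negSucc 0, .ofNat 0, .ofNat 0, .ofNat 0, .ofNat 0, .ofNat 0, .ofNat 0, .ofNat 0, .negSucc 0, .ofNat 0, .ofNat 2, .negSucc 0, .ofNat 1, .negSucc 0, .ofNat 2, .ofNat 2, .ofNat 1, .ofNat 1, .ofNat 0, .ofNat 0, .ofNat 0, .ofNat 1, .ofNat 0, .ofNat 0, .ofNat 1, .ofNat 0, .ofNat 1, .ofNat 0, .ofNat 1, .ofNat 0, .ofNat 0, .ofNat 2, .ofNat 1, .ofNat 5, .ofNat 0, .ofNat 4, .ofNat 0, .ofNat 6, .negSucc 5, .ofNat 6, .negSucc 3, .ofNat 5, .negSucc 8, .ofNat 9, .negSucc 6, .ofNat 4, .negSucc 7, .ofNat 6]]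

/-- Some images of the first vector. -/
def ruWalkRightPart9 : List (List ℤ) := [
  [.ofNat 1, .ofNat 0, .ofNat 0, .ofNat 0, .negSucc 0, .ofNat 2, .negSucc 0, .ofNat 1, .ofNat 0, .ofNat 0, .ofNat 0, .ofNat 1, .negSucc 3, .negSucc 0, .negSucc 3, .negSucc 1, .negSucc 0, .ofNat 0, .negSucc 1, .negSucc 0, .negSucc 3, .negSucc 2, .ofNat 1, .negSucc 4, .negSucc 2, .negSucc 0, .negSucc 0, .negSucc 2, .ofNat 0, .negSucc 2, .ofNat 0, .negSucc 10, .negSucc 4, .negSucc 3, .ofNat 3, .negSucc 15, .negSucc 4, .negSucc 7, .ofNat 6, .negSucc 22, .ofNat 11, .negSucc 21, .ofNat 26, .negSucc 13, .ofNat 29, .negSucc 19, .ofNat 45, .ofNat 10, .ofNat 40, .negSucc 16, .ofNat 85, .ofNat 1, .ofNat 50, .ofNat 11, .ofNat 61, .ofNat 22],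
  [.ofNat 0, .ofNat 0, .ofNat 1, .ofNat 1, .ofNat 0, .negSucc 0, .ofNat 2, .ofNat 0, .ofNat 0, .ofNat 0, .ofNat 2, .ofNat 3, .ofNat 1, .ofNat 2, .ofNat 1, .ofNat 5, .ofNat 0, .negSucc 0, .ofNat 1, .ofNat 1, .negSucc 0, .ofNat 7, .negSucc 5, .ofNat 5, .ofNat 0, .ofNat 5, .negSucc 4, .ofNat 4, .negSucc 1, .ofNat 5, .negSucc 9, .ofNat 4, .negSucc 1, .ofNat 8, .negSucc 20, .ofNat 7, .negSucc 3, .ofNat 7, .negSucc 30, .ofNat 2, .negSucc 30, .ofNat 6, .negSucc 35, .negSucc 18, .negSucc 41, .negSucc 12, .negSucc 26, .negSucc 57, .negSucc 48, .negSucc 30, .negSucc 64, .negSucc 97, .negSucc 26, .negSucc 65, .negSucc 24, .negSucc 76],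
  [.negSucc 0, .ofNat 0, .ofNat 1, .ofNat 0, .ofNat 1, .ofNat 1, .ofNat 0, .ofNat 1, .ofNat 0, .ofNat 0, .ofNat 0, .ofNat 0, .ofNat 1, .ofNat 2, .negSucc 1, .ofNat 3, .ofNat 1, .ofNat 0, .ofNat 1, .ofNat 2, .negSucc 1, .ofNat 3, .negSucc 5, .ofNat 1, .ofNat 0, .ofNat 2, .negSucc 0, .ofNat 1, .negSucc 2, .ofNat 2, .negSucc 6, .ofNat 2, .negSucc 3, .ofNat 5, .negSucc 11, .ofNat 2, .negSucc 4, .ofNat 4, .negSucc 18, .negSucc 0, .negSucc 18, .negSucc 2, .negSucc 13, .negSucc 18, .negSucc 22, .negSucc 17, .negSucc 1, .negSucc 36, .negSucc 21, .negSucc 26, .negSucc 15, .negSucc 65, .negSucc 1, .negSucc 43, .ofNat 1, .negSucc 52],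
  [.ofNat 0, .negSucc 0, .ofNat 0, .ofNat 0, .ofNat 0, .negSucc 0, .ofNat 1, .negSucc 0, .ofNat 0, .ofNat 1, .ofNat 1, .ofNat 0, .ofNat 1, .ofNat 0, .ofNat 3, .ofNat 1, .ofNat 1, .ofNat 0, .ofNat 0, .ofNat 0, .ofNat 2, .ofNat 4, .negSucc 0, .ofNat 4, .ofNat 2, .ofNat 1, .ofNat 0, .ofNat 3, .ofNat 0, .ofNat 2, .negSucc 1, .ofNat 7, .ofNat 4, .ofNat 1, .negSucc 3, .ofNat 10, .ofNat 3, .ofNat 4, .negSucc 6, .ofNat 14, .negSucc 7, .ofNat 13, .negSucc 19, .ofNat 7, .negSucc 17, .ofNat 12, .negSucc 27, .negSucc 10, .negSucc 26, .ofNat 10, .negSucc 55, .negSucc 6, .negSucc 32, .negSucc 10, .negSucc 37, .negSucc 15],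
  [.ofNat 0, .ofNat 0, .ofNat 1, .ofNat 1, .ofNat 1, .negSucc 0, .ofNat 1, .ofNat 0, .negSucc 0, .negSucc 0, .ofNat 1, .ofNat 1, .ofNat 2, .ofNat 0, .ofNat 3, .ofNat 2, .negSucc 0, .ofNat 1, .negSucc 0, .ofNat 1, .ofNat 1, .ofNat 3, .negSucc 1, .ofNat 2, .ofNat 2, .ofNat 3, .negSucc 0, .ofNat 4, .ofNat 0, .ofNat 4, .negSucc 5, .ofNat 6, .ofNat 2, .ofNat 5, .negSucc 8, .ofNat 9, .negSucc 1, .ofNat 6, .negSucc 16, .ofNat 11, .negSucc 19, .ofNat 10, .negSucc 26, .negSucc 4, .negSucc 28, .negSucc 1, .negSucc 25, .negSucc 30, .negSucc 33, .negSucc 8, .negSucc 60, .negSucc 44, .negSucc 24, .negSucc 31, .negSucc 27, .negSucc 41],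
  [.ofNat 1, .negSucc 0, .ofNat 0, .negSucc 0, .ofNat 0, .negSucc 0, .ofNat 2, .negSucc 0, .ofNat 1, .negSucc 0, .ofNat 3, .ofNat 0, .ofNat 3, .negSucc 0, .ofNat 6, .ofNat 4, .ofNat 1, .ofNat 0, .ofNat 2, .negSucc 0, .ofNat 5, .ofNat 7, .ofNat 0, .ofNat 8, .ofNat 5, .ofNat 2, .ofNat 4, .ofNat 7, .ofNat 6, .ofNat 4, .ofNat 2, .ofNat 18, .ofNat 9, .ofNat 8, .negSucc 3, .ofNat 33, .ofNat 6, .ofNat 10, .negSucc 14, .ofNat 42, .negSucc 8, .ofNat 41, .negSucc 46, .ofNat 33, .negSucc 44, .ofNat 45, .negSucc 86, .negSucc 2, .negSucc 69, .ofNat 44, .negSucc 157, .ofNat 22, .negSucc 100, .negSucc 5, .negSucc 116, .negSucc 20]]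

/-- Some images of the first vector. -/
def ruWalkRightPart10 : List (List ℤ) := [
  [.ofNat 1, .ofNat 0, .ofNat 1, .ofNat 1, .ofNat 1, .negSucc 0, .ofNat 2, .ofNat 1, .ofNat 0, .ofNat 0, .ofNat 1, .ofNat 3, .ofNat 2, .ofNat 4, .negSucc 0, .ofNat 7, .negSucc 1, .negSucc 0, .ofNat 1, .ofNat 0, .negSucc 3, .ofNat 6, .negSucc 6, .ofNat 3, .negSucc 0, .ofNat 6, .negSucc 6, .ofNat 5, .negSucc 3, .ofNat 6, .negSucc 15, .ofNat 2, .negSucc 3, .ofNat 10, .negSucc 27, .ofNat 0, .negSucc 8, .ofNat 6, .negSucc 40, .negSucc 7, .negSucc 38, .negSucc 5, .negSucc 33, .negSucc 39, .negSucc 42, .negSucc 33, .negSucc 2, .negSucc 76, .negSucc 45, .negSucc 55, .negSucc 36, .negSucc 140, .negSucc 4, .negSucc 86, .ofNat 5, .negSucc 100],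
  [.ofNat 1, .ofNat 1, .ofNat 0, .ofNat 1, .ofNat 2, .ofNat 0, .ofNat 1, .ofNat 3, .ofNat 1, .ofNat 0, .ofNat 0, .ofNat 4, .ofNat 0, .ofNat 4, .negSucc 4, .ofNat 8, .ofNat 1, .ofNat 1, .ofNat 0, .ofNat 2, .negSucc 8, .ofNat 7, .negSucc 10, .negSucc 0, .negSucc 3, .ofNat 6, .negSucc 8, .ofNat 3, .negSucc 5, .ofNat 5, .negSucc 20, .negSucc 0, .negSucc 10, .ofNat 11, .negSucc 37, .negSucc 7, .negSucc 13, .ofNat 7, .negSucc 48, .negSucc 22, .negSucc 48, .negSucc 19, .negSucc 33, .negSucc 61, .negSucc 49, .negSucc 60, .ofNat 16, .negSucc 105, .negSucc 43, .negSucc 90, .negSucc 2, .negSucc 198, .ofNat 21, .negSucc 121, .ofNat 39, .negSucc 140],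
  [.ofNat 0, .ofNat 1, .negSucc 0, .ofNat 2, .negSucc 0, .ofNat 0, .negSucc 1, .negSucc 0, .negSucc 1, .negSucc 0, .negSucc 2, .negSucc 1, .negSucc 2, .negSucc 1, .negSucc 0, .negSucc 7, .ofNat 0, .ofNat 2, .negSucc 2, .ofNat 1, .ofNat 0, .negSucc 8, .ofNat 5, .negSucc 8, .negSucc 1, .negSucc 4, .ofNat 2, .negSucc 6, .negSucc 1, .negSucc 7, .ofNat 10, .negSucc 12, .negSucc 0, .negSucc 11, .ofNat 25, .negSucc 20, .ofNat 1, .negSucc 10, .ofNat 39, .negSucc 19, .ofNat 31, .negSucc 24, .ofNat 56, .ofNat 5, .ofNat 60, .negSucc 7, .ofNat 63, .ofNat 56, .ofNat 80, .ofNat 10, .ofNat 133, .ofNat 84, .ofNat 79, .ofNat 68, .ofNat 75, .ofNat 87],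
  [.ofNat 0, .ofNat 0, .negSucc 1, .ofNat 0, .ofNat 2, .ofNat 0, .ofNat 0, .ofNat 0, .ofNat 0, .ofNat 0, .negSucc 1, .negSucc 0, .ofNat 0, .ofNat 0, .negSucc 0, .negSucc 0, .ofNat 1, .ofNat 1, .ofNat 0, .ofNat 1, .negSucc 0, .negSucc 1, .ofNat 1, .negSucc 2, .ofNat 0, .negSucc 1, .ofNat 1, .negSucc 1, .ofNat 0, .negSucc 2, .ofNat 3, .ofNat 0, .ofNat 0, .negSucc 0, .ofNat 6, .negSucc 1, .ofNat 0, .ofNat 0, .ofNat 10, .ofNat 0, .ofNat 7, .negSucc 4, .ofNat 11, .ofNat 2, .ofNat 10, .negSucc 1, .ofNat 13, .ofNat 12, .ofNat 15, .ofNat 4, .ofNat 26, .ofNat 21, .ofNat 14, .ofNat 17, .ofNat 12, .ofNat 15],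
  [.negSucc 0, .ofNat 0, .negSucc 0, .negSucc 0, .ofNat 1, .ofNat 1, .negSucc 0, .negSucc 0, .negSucc 0, .ofNat 1, .negSucc 1, .negSucc 2, .negSucc 0, .negSucc 0, .negSucc 0, .negSucc 4, .negSucc 1, .ofNat 1, .negSucc 0, .ofNat 0, .ofNat 2, .negSucc 6, .ofNat 5, .negSucc 3, .ofNat 1, .negSucc 2, .ofNat 2, .negSucc 3, .ofNat 0, .negSucc 3, .ofNat 4, .negSucc 4, .ofNat 1, .negSucc 7, .ofNat 16, .negSucc 10, .ofNat 2, .negSucc 6, .ofNat 24, .negSucc 7, .ofNat 22, .negSucc 11, .ofNat 35, .ofNat 8, .ofNat 41, .ofNat 0, .ofNat 37, .ofNat 43, .ofNat 50, .ofNat 15, .ofNat 74, .ofNat 69, .ofNat 40, .ofNat 54, .ofNat 42, .ofNat 61],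
  [.negSucc 0, .ofNat 1, .ofNat 1, .ofNat 0, .ofNat 0, .ofNat 0, .ofNat 0, .ofNat 1, .ofNat 0, .ofNat 0, .negSucc 0, .ofNat 1, .negSucc 0, .ofNat 1, .negSucc 2, .negSucc 0, .negSucc 0, .negSucc 0, .ofNat 0, .negSucc 0, .negSucc 1, .negSucc 1, .ofNat 0, .negSucc 1, .negSucc 0, .ofNat 0, .negSucc 0, .negSucc 1, .negSucc 1, .ofNat 1, .negSucc 0, .negSucc 5, .negSucc 4, .negSucc 2, .negSucc 0, .negSucc 10, .negSucc 0, .negSucc 4, .ofNat 2, .negSucc 15, .ofNat 5, .negSucc 11, .ofNat 16, .negSucc 9, .ofNat 14, .negSucc 13, .ofNat 27, .ofNat 3, .ofNat 19, .negSucc 14, .ofNat 48, .negSucc 8, .ofNat 29, .ofNat 0, .ofNat 38, .ofNat 5]]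

/-- Some images of the first vector. -/
def ruWalkRightPart11 : List (List ℤ) := [
  [.ofNat 1, .negSucc 0, .negSucc 0, .ofNat 0, .ofNat 0, .ofNat 0, .ofNat 0, .ofNat 0, .negSucc 0, .negSucc 0, .ofNat 1, .negSucc 1, .negSucc 0, .negSucc 1, .ofNat 3, .negSucc 1, .negSucc 0, .negSucc 0, .ofNat 0, .negSucc 1, .ofNat 4, .negSucc 0, .ofNat 5, .ofNat 1, .ofNat 1, .negSucc 2, .ofNat 4, .negSucc 0, .ofNat 4, .negSucc 3, .ofNat 10, .ofNat 0, .ofNat 6, .negSucc 1, .ofNat 18, .ofNat 6, .ofNat 6, .negSucc 1, .ofNat 21, .ofNat 14, .ofNat 24, .ofNat 10, .ofNat 12, .ofNat 31, .ofNat 20, .ofNat 33, .negSucc 12, .ofNat 53, .ofNat 14, .ofNat 46, .negSucc 8, .ofNat 94, .negSucc 19, .ofNat 57, .negSucc 26, .ofNat 64],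
  [.negSucc 0, .ofNat 0, .negSucc 0, .ofNat 1, .ofNat 0, .ofNat 0, .negSucc 1, .negSucc 0, .negSucc 0, .negSucc 0, .negSucc 1, .negSucc 3, .negSucc 1, .negSucc 1, .ofNat 1, .negSucc 7, .ofNat 0, .ofNat 0, .ofNat 0, .ofNat 0, .ofNat 5, .negSucc 7, .ofNat 7, .negSucc 3, .ofNat 0, .negSucc 4, .ofNat 5, .negSucc 5, .ofNat 0, .negSucc 7, .ofNat 16, .negSucc 6, .ofNat 4, .negSucc 9, .ofNat 32, .negSucc 7, .ofNat 8, .negSucc 7, .ofNat 46, .negSucc 0, .ofNat 40, .negSucc 4, .ofNat 49, .ofNat 33, .ofNat 55, .ofNat 25, .ofNat 27, .ofNat 84, .ofNat 64, .ofNat 47, .ofNat 77, .ofNat 140, .ofNat 32, .ofNat 95, .ofNat 22, .ofNat 111],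
  [.ofNat 1, .ofNat 1, .negSucc 0, .ofNat 1, .ofNat 2, .ofNat 1, .negSucc 0, .ofNat 3, .negSucc 0, .ofNat 1, .negSucc 4, .ofNat 2, .negSucc 3, .ofNat 3, .negSucc 10, .ofNat 0, .ofNat 0, .ofNat 0, .negSucc 0, .ofNat 2, .negSucc 11, .negSucc 5, .negSucc 5, .negSucc 11, .negSucc 6, .ofNat 0, .negSucc 7, .negSucc 6, .negSucc 8, .negSucc 2, .negSucc 10, .negSucc 19, .negSucc 14, .negSucc 2, .negSucc 10, .negSucc 41, .negSucc 12, .negSucc 8, .negSucc 2, .negSucc 59, .negSucc 7, .negSucc 56, .ofNat 43, .negSucc 66, .ofNat 30, .negSucc 78, .ofNat 113, .negSucc 38, .ofNat 63, .negSucc 90, .ofNat 190, .negSucc 107, .ofNat 129, .negSucc 44, .ofNat 155, .negSucc 37],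
  [.ofNat 0, .ofNat 1, .negSucc 0, .ofNat 1, .ofNat 0, .ofNat 0, .negSucc 0, .ofNat 0, .negSucc 0, .ofNat 1, .negSucc 1, .ofNat 0, .negSucc 2, .ofNat 0, .negSucc 3, .negSucc 3, .ofNat 0, .ofNat 1, .negSucc 1, .negSucc 0, .negSucc 3, .negSucc 4, .ofNat 1, .negSucc 6, .negSucc 2, .negSucc 2, .negSucc 1, .negSucc 4, .negSucc 3, .negSucc 4, .ofNat 2, .negSucc 12, .negSucc 3, .negSucc 7, .ofNat 8, .negSucc 22, .negSucc 1, .negSucc 8, .ofNat 18, .negSucc 28, .ofNat 15, .negSucc 29, .ofNat 41, .negSucc 16, .ofNat 41, .negSucc 25, .ofNat 67, .ofNat 17, .ofNat 59, .negSucc 19, .ofNat 124, .ofNat 12, .ofNat 77, .ofNat 22, .ofNat 83, .ofNat 34],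
  [.ofNat 1, .ofNat 1, .negSucc 0, .ofNat 1, .ofNat 2, .ofNat 0, .negSucc 0, .ofNat 2, .ofNat 1, .ofNat 1, .negSucc 2, .ofNat 2, .negSucc 1, .ofNat 3, .negSucc 6, .ofNat 3, .negSucc 0, .ofNat 1, .negSucc 0, .ofNat 1, .negSucc 8, .negSucc 1, .negSucc 4, .negSucc 6, .negSucc 4, .ofNat 2, .negSucc 6, .negSucc 1, .negSucc 6, .ofNat 0, .negSucc 12, .negSucc 9, .negSucc 10, .ofNat 1, .negSucc 17, .negSucc 25, .negSucc 11, .negSucc 2, .negSucc 17, .negSucc 38, .negSucc 20, .negSucc 36, .ofNat 11, .negSucc 56, .ofNat 2, .negSucc 63, .ofNat 67, .negSucc 56, .ofNat 22, .negSucc 78, .ofNat 104, .negSucc 122, .ofNat 79, .negSucc 61, .ofNat 99, .negSucc 63],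
  [.ofNat 1, .ofNat 0, .ofNat 0, .ofNat 0, .ofNat 0, .ofNat 0, .ofNat 0, .ofNat 0, .ofNat 0, .ofNat 0, .ofNat 0, .ofNat 0, .ofNat 0, .ofNat 0, .ofNat 0, .ofNat 0, .ofNat 0, .ofNat 0, .ofNat 0, .ofNat 0, .ofNat 0, .ofNat 0, .ofNat 0, .ofNat 0, .ofNat 0, .ofNat 0, .ofNat 0, .ofNat 0, .ofNat 0, .ofNat 0, .ofNat 0, .ofNat 0, .ofNat 0, .ofNat 0, .ofNat 0, .ofNat 0, .ofNat 0, .ofNat 0, .ofNat 0, .ofNat 0, .ofNat 0, .ofNat 0, .ofNat 0, .ofNat 0, .ofNat 0, .ofNat 0, .ofNat 0, .ofNat 0, .ofNat 0, .ofNat 0, .ofNat 0, .ofNat 0, .ofNat 0, .ofNat 0, .ofNat 0, .ofNat 0]]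

/-- The images of the first vector along the word before the involution, from the last one. -/
def ruWalkRight : List (List ℤ) :=
  ruWalkRightPart0 ++ ruWalkRightPart1 ++ ruWalkRightPart2 ++ ruWalkRightPart3 ++ ruWalkRightPart4 ++ ruWalkRightPart5 ++ ruWalkRightPart6 ++ ruWalkRightPart7 ++ ruWalkRightPart8 ++ ruWalkRightPart9 ++ ruWalkRightPart10 ++ ruWalkRightPart11

end CfsgLib.TailsData
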