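import Cfsg.Agent.Lib.Ru.Group
import Cfsg.Agent.Lib.Tails.RuWitnessData
import Cfsg.Agent.Lib.Tails.RigidCert

/-!
# Two elements of the fourfold cover of Ru that commute only modulo the centre
-/

set_option autoImplicit false
set_option maxRecDepth 20000
set_option maxHeartbeats 0

namespace CfsgLib.Schur.Tails.RuWit

open Cfsg Cfsg.Spor CfsgLib.Schur.Tails.RigidCert CfsgLib.Rigid CfsgLib.RuLattice CfsgLib.TailsData

/-- The matrices of the three letters. -/
def letterM : ℕ → List (List ℤ)
  | 0 => matU
  | 1 => matW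
  | _ => matUinv

/-- The codes of the three letters. -/
def letterC : ℕ → List ℕ
  | 0 => cU
  | 1 => cW
  | _ => ruWitInv

/-- The code of a word. -/
noncomputable def codeW : List ℕ → List ℕ
  | [] => oneC
  | i :: w => forceL (codeW w) fun B => mulF (letterC i) B

/-- A stretch of a walk. -/
noncomputable def stepsB (T : List (List ℤ)) (w : List ℕ) (lo n : ℕ) : Bool :=
  (List.range n).all fun k => combL (T.getD (lo + k + 1) []) (letterM (w.getD (lo + k) 0)) == T.getD (lo + k) []

/-- The first basis vector. -/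
def startR : List ℤ := 1 :: List.replicate 55 0

theorem word_ok : ∀ i ∈ 1 :: ruWitWord, i < 3 := by decide +kernel

theorem inv_code : mulF ruWitInv cU = oneC ∧ mulF ruWitInv oneC = ruWitInv := by
  constructor <;> decide +kernel

theorem codes_eq : codeW (1 :: ruWitWord) = codeW (ruWitWord ++ [1]) := by decide +kernel

theorem walk_facts : ruWitWord.length = 70 ∧ ruWalkLeft.getD 71 [] = startR ∧ ruWalkRight.getD 71 [] = startR ∧
    (ruWalkLeft.getD 0 [] == ruWalkRight.getD 0 []) = false := by
  refine ⟨?_, ?_, ?_, ?_⟩ <;> decide +kernel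

theorem left_0 : stepsB ruWalkLeft (1 :: ruWitWord) 0 12 = true := by decide +kernel

theorem right_0 : stepsB ruWalkRight (ruWitWord ++ [1]) 0 12 = true := by decide +kernel

theorem left_1 : stepsB ruWalkLeft (1 :: ruWitWord) 12 12 = true := by decide +kernel

theorem right_1 : stepsB ruWalkRight (ruWitWord ++ [1]) 12 12 = true := by decide +kernel

theorem left_2 : stepsB ruWalkLeft (1 :: ruWitWord) 24 12 = true := by decide +kernel

theorem right_2 : stepsB ruWalkRight (ruWitWord ++ [1]) 24 12 = true := by decide +kernel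

theorem left_3 : stepsB ruWalkLeft (1 :: ruWitWord) 36 12 = true := by decide +kernel

theorem right_3 : stepsB ruWalkRight (ruWitWord ++ [1]) 36 12 = true := by decide +kernel

theorem left_4 : stepsB ruWalkLeft (1 :: ruWitWord) 48 12 = true := by decide +kernel

theorem right_4 : stepsB ruWalkRight (ruWitWord ++ [1]) 48 12 = true := by decide +kernel

theorem left_5 : stepsB ruWalkLeft (1 :: ruWitWord) 60 11 = true := by decide +kernel

theorem right_5 : stepsB ruWalkRight (ruWitWord ++ [1]) 60 11 = true := by decide +kernel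

theorem steps_at {T : List (List ℤ)} {w : List ℕ} {lo n : ℕ} (h : stepsB T w lo n = true) (j : ℕ)
    (h1 : lo ≤ j) (h2 : j < lo + n) : combL (T.getD (j + 1) []) (letterM (w.getD j 0)) = T.getD j [] := by
  simp only [stepsB, List.all_eq_true, List.mem_range, beq_iff_eq] at h
  have e := h (j - lo) (by omega)
  rwa [Nat.add_sub_cancel' h1] at e

theorem left_at (j : ℕ) (hj : j < 71) :
    combL (ruWalkLeft.getD (j + 1) []) (letterM ((1 :: ruWitWord).getD j 0)) = ruWalkLeft.getD j [] := by
  by_cases h0 : j < 12
  · exact steps_at left_0 j (by omega) (by omega)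
  by_cases h1 : j < 24
  · exact steps_at left_1 j (by omega) (by omega)
  by_cases h2 : j < 36
  · exact steps_at left_2 j (by omega) (by omega)
  by_cases h3 : j < 48
  · exact steps_at left_3 j (by omega) (by omega)
  by_cases h4 : j < 60
  · exact steps_at left_4 j (by omega) (by omega)
  by_cases h5 : j < 71
  · exact steps_at left_5 j (by omega) (by omega)
  omega

theorem right_at (j : ℕ) (hj : j < 71) :
    combL (ruWalkRight.getD (j + 1) []) (letterM ((ruWitWord ++ [1]).getD j 0)) = ruWalkRight.getD j [] := by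
  by_cases h0 : j < 12
  · exact steps_at right_0 j (by omega) (by omega)
  by_cases h1 : j < 24
  · exact steps_at right_1 j (by omega) (by omega)
  by_cases h2 : j < 36
  · exact steps_at right_2 j (by omega) (by omega)
  by_cases h3 : j < 48
  · exact steps_at right_3 j (by omega) (by omega)
  by_cases h4 : j < 60
  · exact steps_at right_4 j (by omega) (by omega)
  by_cases h5 : j < 71
  · exact steps_at right_5 j (by omega) (by omega)
  omega

theorem combL_getD (r : List ℤ) (N : List (List ℤ)) (hN : ∀ x ∈ N, x.length = 56) (hl : r.length = N.length)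
    (k : Fin 56) : (combL r N).getD k.val 0 = ∑ i : Fin N.length, r.getD i.val 0 * (N.getD i.val []).getD k.val 0 := by
  let co' : RuVec →+ ℤ := AddMonoidHom.mk' (fun v => co v k) fun v w => co_add v w k
  rw [← co_ofL, (combL_spec r N hN).2]
  show co' (List.zipWith (fun c r => c • ofL r) r N).sum = _
  have e : List.zipWith (fun c x => c • ofL x) r N =
      List.ofFn fun i : Fin N.length => r.getD i.val 0 • ofL (N.getD i.val []) := by
    refine List.ext_getElem (by simp [hl]) fun n h1 h2 => ?_
    have hn : n < N.length := by simpa using h2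
    simp only [List.getElem_zipWith, List.getElem_ofFn]
    rw [List.getD_eq_getElem _ _ (hl.symm ▸ hn), List.getD_eq_getElem _ _ hn]
  rw [e, List.sum_ofFn, map_sum]
  refine Finset.sum_congr rfl fun i _ => ?_
  show co (r.getD i.val 0 • ofL (N.getD i.val [])) k = _
  rw [co_smul, co_ofL]

theorem linM_step {N : List (List ℤ)} (hN : N.length = 56) (hr : ∀ x ∈ N, x.length = 56) {r : List ℤ}
    (hl : r.length = 56) : linM N (rowVec r) = rowVec (combL r N) := by
  have hlen := (combL_spec r N hr).1
  rw [rowVec_eq hlen]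
  conv_lhs => rw [lat_expand (linM N (rowVec r))]
  refine Finset.sum_congr rfl fun k _ => ?_
  congr 1
  show crd k (∑ i : Fin 56, crd i (rowVec r) • rowVec (N.getD i.val [])) = _
  rw [map_sum, combL_getD r N hr (by omega) k]
  refine Fintype.sum_equiv (finCongr hN.symm) _ _ fun i => ?_
  have hi : (N.getD i.val []).length = 56 := by
    rw [List.getD_eq_getElem _ _ (by omega)]
    exact hr _ (List.getElem_mem _)
  rw [map_zsmul, crd_rowVec hl, crd_rowVec hi, smul_eq_mul]
  rfl

theorem step_of {N N' : List (List ℤ)} (h : autOK N N' = true) :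
    ∀ r : List ℤ, r.length = 56 → linM N (rowVec r) = rowVec (combL r N) ∧ (combL r N).length = 56 := by
  simp only [autOK, Bool.and_eq_true, decide_eq_true_eq, List.all_eq_true] at h
  obtain ⟨⟨⟨⟨⟨⟨⟨hN, -⟩, hr⟩, -⟩, -⟩, -⟩, -⟩, -⟩ := h
  exact fun r hl => ⟨linM_step hN hr hl, (combL_spec r _ hr).1⟩

theorem inv_step {N N' : List (List ℤ)} (h : autOK N N' = true) :
    (∀ r : List ℤ, r.length = 56 → linM N' (rowVec r) = rowVec (combL r N') ∧ (combL r N').length = 56) ∧
      ∀ v, linM N' (linM N v) = v := by
  simp only [autOK, Bool.and_eq_true, decide_eq_true_eq, List.all_eq_true, List.mem_range, beq_iff_eq] at h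
  obtain ⟨⟨⟨⟨⟨⟨⟨hN, hN'⟩, hr⟩, hr'⟩, -⟩, -⟩, h1⟩, -⟩ := h
  exact ⟨fun r hl => ⟨linM_step hN' hr' hl, (combL_spec r _ hr').1⟩, linM_inv hN hr hN' h1⟩

theorem exists_letter {i : ℕ} (hi : i < 3) : ∃ g : fourRu, cols g = letterC i ∧
    ∀ r : List ℤ, r.length = 56 → g.1 (rowVec r) = rowVec (combL r (letterM i)) ∧
      (combL r (letterM i)).length = 56 := by
  have mk : ∀ {N N' : List (List ℤ)}, autOK N N' = true →
      ∃ g : fourRu, cols g = (List.range 28).map (fun j => pack (pairSum (N.getD (2 * j) []))) ∧
        ∀ v, g.1 v = linM N v := by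
    intro N N' h
    obtain ⟨g, hg⟩ := exists_aut h
    simp only [autOK, Bool.and_eq_true, decide_eq_true_eq, List.all_eq_true] at h
    obtain ⟨⟨⟨⟨⟨⟨⟨hN, -⟩, hr⟩, -⟩, -⟩, -⟩, -⟩, -⟩ := h
    refine ⟨g, List.ext_getElem (by simp [cols]) fun n h1 h2 => ?_, hg⟩
    have hn : n < 28 := by simpa [cols] using h1
    simp only [cols, List.getElem_ofFn, List.getElem_map, List.getElem_range]
    rw [hg]
    show code (linM N (bLat ⟨2 * n, _⟩)) = _
    rw [linM_bLat]
    refine code_rowVec ?_
    show (N.getD (2 * n) []).length = 56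
    rw [List.getD_eq_getElem _ _ (by omega)]
    exact hr _ (List.getElem_mem _)
  obtain ⟨gU, hUc, hU⟩ := mk matU_ok
  obtain ⟨gW, hWc, hW⟩ := mk matW_ok
  interval_cases i
  · exact ⟨gU, hUc.trans mat_code_ok.1, fun r hl => ⟨(hU _).trans (step_of matU_ok r hl).1, (step_of matU_ok r hl).2⟩⟩
  · exact ⟨gW, hWc.trans mat_code_ok.2.1,
      fun r hl => ⟨(hW _).trans (step_of matW_ok r hl).1, (step_of matW_ok r hl).2⟩⟩
  · obtain ⟨hstep, hinv⟩ := inv_step matU_ok
    refine ⟨gU⁻¹, ?_, fun r hl => ⟨?_, (hstep r hl).2⟩⟩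
    · show cols gU⁻¹ = ruWitInv
      have e := congrArg (fun A => mulF A (cols gU⁻¹)) inv_code.1
      have assoc : ∀ A B C : List ℕ, mulF (mulF A B) C = mulF A (mulF B C) := fun A B C => by
        simp only [mulF, List.map_map]
        exact List.map_congr_left fun x _ => img_mulF _ _ _
      rw [show cU = cols gU from (hUc.trans mat_code_ok.1).symm, assoc, ← cols_mul, mul_inv_cancel,
        cols_one, ← oneC_eq, inv_code.2] at e
      rw [e, oneC_eq, ← cols_one, ← cols_mul, one_mul]
    · show gU⁻¹.1 (rowVec r) = rowVec (combL r matUinv)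
      rw [← (hstep r hl).1]
      have hg : ∀ v, linM matUinv (gU.1 v) = v := fun v => by rw [hU]; exact hinv v
      conv_rhs => rw [← Equiv.apply_symm_apply gU.1 (rowVec r), hg]
      rfl

theorem exists_noncomm : ∃ X Y : fourRu, ((X * Y : fourRu) : Act) = ((Y * X : fourRu) : Act) ∧ X * Y ≠ Y * X := by
  classical
  let f : ℕ → fourRu := fun i => if h : i < 3 then (exists_letter h).choose else 1
  have hf : ∀ i < 3, cols (f i) = letterC i ∧ ∀ r : List ℤ, r.length = 56 →
      (f i).1 (rowVec r) = rowVec (combL r (letterM i)) ∧ (combL r (letterM i)).length = 56 := fun i hi => by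
    simp only [f, dif_pos hi]
    exact (exists_letter hi).choose_spec
  have hcode : ∀ w : List ℕ, (∀ i ∈ w, i < 3) → cols ((w.map f).prod) = codeW w := by
    intro w hw
    induction w with
    | nil => exact cols_one
    | cons i w ih =>
      rw [List.map_cons, List.prod_cons, cols_mul, (hf i (hw i List.mem_cons_self)).1,
        ih fun j hj => hw j (List.mem_cons_of_mem _ hj), codeW, forceL_eq]
  have hw2 : ∀ i ∈ ruWitWord ++ [1], i < 3 := fun i hi => word_ok i (by
    rcases List.mem_append.1 hi with h | h
    · exact List.mem_cons_of_mem _ h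
    · rw [List.mem_singleton.1 h]; exact List.mem_cons_self)
  have hwalk : ∀ (w : List ℕ) (T : List (List ℤ)), w.length = 71 → (∀ i ∈ w, i < 3) → T.getD 71 [] = startR →
      (∀ j < 71, combL (T.getD (j + 1) []) (letterM (w.getD j 0)) = T.getD j []) →
      ((w.map f).prod).1 (rowVec startR) = rowVec (T.getD 0 []) ∧ (T.getD 0 []).length = 56 := by
    intro w T hl hw hT hstep
    have key : ∀ d, d ≤ 71 → (((w.drop (71 - d)).map f).prod).1 (rowVec startR) = rowVec (T.getD (71 - d) []) ∧
        (T.getD (71 - d) []).length = 56 := by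
      intro d
      induction d with
      | zero =>
        intro _
        rw [Nat.sub_zero, List.drop_eq_nil_of_le hl.le, hT]
        exact ⟨rfl, by simp [startR]⟩
      | succ d ih =>
        intro hd
        obtain ⟨e1, e2⟩ := ih (by omega)
        have hj : 71 - (d + 1) < w.length := by omega
        have hs := hstep (71 - (d + 1)) (by omega)
        rw [show 71 - (d + 1) + 1 = 71 - d by omega, List.getD_eq_getElem _ _ hj] at hs
        obtain ⟨-, hstep'⟩ := hf _ (hw _ (List.getElem_mem hj))
        obtain ⟨a1, a2⟩ := hstep' _ e2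
        rw [hs] at a1 a2
        refine ⟨?_, a2⟩
        rw [List.drop_eq_getElem_cons hj, List.map_cons, List.prod_cons,
          show 71 - (d + 1) + 1 = 71 - d by omega]
        show (f _).1 ((((w.drop (71 - d)).map f).prod).1 (rowVec startR)) = _
        rw [e1, a1]
    simpa using key 71 le_rfl
  obtain ⟨hlen, hL, hR, hdiff⟩ := walk_facts
  obtain ⟨a, la⟩ := hwalk (1 :: ruWitWord) ruWalkLeft (by simp [hlen]) word_ok hL left_at
  obtain ⟨b, lb⟩ := hwalk (ruWitWord ++ [1]) ruWalkRight (by simp [hlen]) hw2 hR right_at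
  rw [List.map_cons, List.prod_cons] at a
  rw [List.map_append, List.prod_append, List.map_cons, List.map_nil, List.prod_singleton] at b
  refine ⟨f 1, (ruWitWord.map f).prod, ?_, fun e => ?_⟩
  · refine QuotientGroup.eq.2 ?_
    show cols ((f 1 * (ruWitWord.map f).prod)⁻¹ * ((ruWitWord.map f).prod * f 1)) = oneCode
    have h1 : cols (f 1 * (ruWitWord.map f).prod) = cols ((ruWitWord.map f).prod * f 1) := by
      have a := hcode (1 :: ruWitWord) word_ok
      have b := hcode (ruWitWord ++ [1]) hw2
      rw [List.map_cons, List.prod_cons] at a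
      rw [List.map_append, List.prod_append, List.map_cons, List.map_nil, List.prod_singleton] at b
      rw [a, b, codes_eq]
    rw [cols_mul, ← h1, ← cols_mul, inv_mul_cancel, cols_one]
  · rw [e, b] at a
    have hlist : ruWalkLeft.getD 0 [] = ruWalkRight.getD 0 [] := by
      refine List.ext_getElem (la.trans lb.symm) fun n h1 h2 => ?_
      have := congrArg (crd ⟨n, la ▸ h1⟩) a.symm
      rw [crd_rowVec la, crd_rowVec lb] at this
      rwa [List.getD_eq_getElem _ _ h1, List.getD_eq_getElem _ _ h2] at this
    rw [hlist, beq_self_eq_true] at hdiff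
    exact Bool.noConfusion hdiff

end CfsgLib.Schur.Tails.RuWit
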