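import Cfsg.Agent.Lib.He.Sp
import Cfsg.Agent.Lib.Golay.Bsgs
import Cfsg.Prelude.Def_Classical
import Cfsg.Prelude.Def_LieClassical

/-!
# Matrices of degree six over four elements packed into numbers

A code consists of two planes of 36 bits; the bit `6 * j + i` of a plane belongs to row `i` and column `j`.
The codes passing `okS` are those of isometries of the Hermitian form, and the codes of the first column
are the points.
-/

set_option autoImplicit false
set_option maxRecDepth 100000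

namespace CfsgLib.Schur.Tails.SixFour

open CfsgLib.J3 CfsgLib.Golay Matrix

/-- One bit at the start of each of the first blocks. -/
def gridU : ℕ → ℕ
  | 0 => 0
  | n + 1 => 1 + 2 ^ 6 * gridU n

/-- The column of a packed plane. -/
def colK (A k : ℕ) : ℕ := (A >>> (6 * k)) % 2 ^ 6

/-- The partial products. -/
def mulK (A B : ℕ) : ℕ → ℕ
  | 0 => 0
  | n + 1 => mulK A B n ^^^ (((B >>> n) &&& gridU 6) * colK A n)

theorem and_gridU_succ (X N : ℕ) :
    X &&& gridU (N + 1) = 2 ^ 6 * ((X >>> 6) &&& gridU N) + X % 2 := by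
  refine Nat.eq_of_testBit_eq fun m => ?_
  rw [Nat.testBit_and, gridU, add_comm 1,
    Nat.testBit_two_pow_mul_add _ (by norm_num : (1 : ℕ) < 2 ^ 6),
    Nat.testBit_two_pow_mul_add _ ((Nat.mod_lt X two_pos).trans (by norm_num))]
  by_cases hm : m < 6
  · rw [if_pos hm, if_pos hm]
    rcases m with _ | m
    · simp [Nat.testBit_zero]
    · rcases Nat.mod_two_eq_zero_or_one X with h | h <;>
        simp [h, Nat.testBit_succ]
  · rw [if_neg hm, if_neg hm, Nat.testBit_and, Nat.testBit_shiftRight,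
      show 6 + (m - 6) = m by omega]

theorem spread_bit {c : ℕ} (hc : c < 2 ^ 6) : ∀ (N X j i : ℕ), j < N → i < 6 →
    ((X &&& gridU N) * c).testBit (6 * j + i) = (X.testBit (6 * j) && c.testBit i)
  | 0, _, j, _, h, _ => absurd h (Nat.not_lt_zero j)
  | N + 1, X, j, i, hj, hi => by
    have hlow : X % 2 * c < 2 ^ 6 := by
      rcases Nat.mod_two_eq_zero_or_one X with h | h <;> rw [h]
      · rw [Nat.zero_mul]; exact Nat.two_pow_pos _
      · rw [Nat.one_mul]; exact hc
    rw [and_gridU_succ, add_mul, mul_assoc, Nat.testBit_two_pow_mul_add _ hlow]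
    rcases j with _ | j
    · rw [if_pos (by omega), Nat.mul_zero, Nat.zero_add, Nat.testBit_zero]
      rcases Nat.mod_two_eq_zero_or_one X with h | h <;> simp [h]
    · rw [if_neg (by omega), show 6 * (j + 1) + i - 6 = 6 * j + i by omega,
        spread_bit hc N _ j i (by omega) hi, Nat.testBit_shiftRight,
        show 6 + 6 * j = 6 * (j + 1) by omega]

theorem colK_lt (A k : ℕ) : colK A k < 2 ^ 6 := Nat.mod_lt _ (by norm_num)

theorem mulK_lt (A B : ℕ) : ∀ n, mulK A B n < 2 ^ 36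
  | 0 => Nat.two_pow_pos _
  | n + 1 => by
    refine Nat.xor_lt_two_pow (mulK_lt A B n) ?_
    have h1 : (B >>> n) &&& gridU 6 ≤ gridU 6 := Nat.and_le_right
    have h2 : colK A n ≤ 63 := Nat.le_of_lt_succ (colK_lt A n)
    calc _ ≤ gridU 6 * 63 := Nat.mul_le_mul h1 h2
      _ < 2 ^ 36 := by simp [gridU]

theorem mulK_col (A : ℕ) {B : ℕ} (hB : B < 2 ^ 6) : ∀ n, mulK A B n < 2 ^ 6
  | 0 => Nat.two_pow_pos _
  | n + 1 => by
    refine Nat.xor_lt_two_pow (mulK_col A hB n) ?_
    have hlt : B >>> n < 2 ^ 6 := (Nat.shiftRight_le B n).trans_lt hB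
    have h0 : B >>> n >>> 6 = 0 := by rw [Nat.shiftRight_eq_div_pow, Nat.div_eq_of_lt hlt]
    have h1 : (B >>> n) &&& gridU 6 ≤ 1 := by
      rw [and_gridU_succ, h0, Nat.zero_and, Nat.mul_zero, Nat.zero_add]
      exact Nat.le_of_lt_succ (Nat.mod_lt _ two_pos)
    calc _ ≤ 1 * colK A n := Nat.mul_le_mul_right _ h1
      _ < 2 ^ 6 := by rw [Nat.one_mul]; exact colK_lt A n

/-- The plane of the first coordinates. -/
def pl0 (A : ℕ) : ℕ := A % 2 ^ 36

/-- The plane of the second coordinates. -/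
def pl1 (A : ℕ) : ℕ := A / 2 ^ 36

/-- Join two planes. -/
def joinP (a b : ℕ) : ℕ := a + 2 ^ 36 * b

theorem pl0_join {a : ℕ} (b : ℕ) (ha : a < 2 ^ 36) : pl0 (joinP a b) = a := by
  rw [pl0, joinP, Nat.add_mul_mod_self_left, Nat.mod_eq_of_lt ha]

theorem pl1_join {a : ℕ} (b : ℕ) (ha : a < 2 ^ 36) : pl1 (joinP a b) = b := by
  rw [pl1, joinP, Nat.add_mul_div_left _ _ (Nat.two_pow_pos _), Nat.div_eq_of_lt ha, Nat.zero_add]

theorem pl_eq {A B : ℕ} (h0 : pl0 A = pl0 B) (h1 : pl1 A = pl1 B) : A = B := by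
  rw [← Nat.mod_add_div A (2 ^ 36), ← Nat.mod_add_div B (2 ^ 36)]
  exact congrArg₂ (fun x y => x + 2 ^ 36 * y) h0 h1

/-- Evaluate a number before use. -/
noncomputable def forceS {α : Type} (x : ℕ) (k : ℕ → α) : α :=
  Nat.rec (k 0) (fun n _ => k (Nat.succ n)) x

theorem forceS_eq {α : Type} (x : ℕ) (k : ℕ → α) : forceS x k = k x := by
  cases x <;> rfl

/-- The product of packed matrices. -/
noncomputable def mulC (A B : ℕ) : ℕ :=
  forceS A fun A => forceS B fun B => forceS (pl0 A) fun a0 => forceS (pl1 A) fun a1 =>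
    forceS (pl0 B) fun b0 => forceS (pl1 B) fun b1 => forceS (mulK a1 b1 6) fun m =>
      forceS (mulK a0 b0 6 ^^^ m) fun c0 => forceS (mulK a0 b1 6 ^^^ mulK a1 b0 6 ^^^ m) fun c1 =>
        joinP c0 c1

theorem mulC_eq (A B : ℕ) :
    mulC A B = joinP (mulK (pl0 A) (pl0 B) 6 ^^^ mulK (pl1 A) (pl1 B) 6)
      (mulK (pl0 A) (pl1 B) 6 ^^^ mulK (pl1 A) (pl0 B) 6 ^^^ mulK (pl1 A) (pl1 B) 6) := by
  simp only [mulC, forceS_eq]

/-- A transposed plane. -/
def trP (A : ℕ) : ℕ → ℕ
  | 0 => 0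
  | n + 1 => trP A n + (if A.testBit (6 * (n % 6) + n / 6) then 2 ^ n else 0)

/-- The conjugate transpose. -/
def adjC (A : ℕ) : ℕ := joinP (trP (pl0 A ^^^ pl1 A) 36) (trP (pl1 A) 36)

/-- The code of the identity. -/
def oneC : ℕ := 1 + 2 ^ 7 + 2 ^ 14 + 2 ^ 21 + 2 ^ 28 + 2 ^ 35

theorem trP_lt (A : ℕ) : ∀ n, trP A n < 2 ^ n
  | 0 => Nat.one_pos
  | n + 1 => by
    rw [trP, pow_succ']
    have := trP_lt A n
    split_ifs <;> omega

theorem trP_bit (A : ℕ) : ∀ n m, m < n → (trP A n).testBit m = A.testBit (6 * (m % 6) + m / 6)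
  | 0, m, h => absurd h (Nat.not_lt_zero m)
  | n + 1, m, h => by
    rw [trP]
    rcases Nat.lt_succ_iff_lt_or_eq.1 h with h | rfl
    · split_ifs
      · rw [add_comm, Nat.testBit_two_pow_add_gt h, trP_bit A n m h]
      · rw [Nat.add_zero, trP_bit A n m h]
    · split_ifs with hb
      · rw [add_comm, Nat.testBit_two_pow_add_eq, Nat.testBit_lt_two_pow (trP_lt A m), hb]
        rfl
      · rw [Nat.add_zero, Nat.testBit_lt_two_pow (trP_lt A m)]
        simpa using hb

theorem mulC_planes (A B : ℕ) :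
    pl0 (mulC A B) = mulK (pl0 A) (pl0 B) 6 ^^^ mulK (pl1 A) (pl1 B) 6 ∧
    pl1 (mulC A B) =
      mulK (pl0 A) (pl1 B) 6 ^^^ mulK (pl1 A) (pl0 B) 6 ^^^ mulK (pl1 A) (pl1 B) 6 := by
  have h := Nat.xor_lt_two_pow (mulK_lt (pl0 A) (pl0 B) 6) (mulK_lt (pl1 A) (pl1 B) 6)
  rw [mulC_eq]
  exact ⟨pl0_join _ h, pl1_join _ h⟩

theorem mulC_lt (A B : ℕ) : mulC A B < 2 ^ 72 := by
  have h0 := Nat.xor_lt_two_pow (mulK_lt (pl0 A) (pl0 B) 6) (mulK_lt (pl1 A) (pl1 B) 6)
  have h1 := Nat.xor_lt_two_pow (Nat.xor_lt_two_pow (mulK_lt (pl0 A) (pl1 B) 6)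
    (mulK_lt (pl1 A) (pl0 B) 6)) (mulK_lt (pl1 A) (pl1 B) 6)
  rw [mulC_eq, joinP]
  omega

variable {F : Type*} [Field F] (K : Fld F)

/-- The value of a bit. -/
def bv (b : Bool) : F := if b then 1 else 0

include K in
theorem bv_xor (a b : Bool) : bv (F := F) (xor a b) = bv a + bv b := by
  have := K.two
  cases a <;> cases b <;> simp [bv] <;> grind

theorem val2_bv (a b : Bool) : val2 K a b = bv a + bv b * K.ω := by
  cases a <;> cases b <;> simp [val2, bv]

/-- The plane as a matrix. -/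
def plMat (A : ℕ) : Matrix (Fin 6) (Fin 6) F := fun i j => bv (A.testBit (6 * j.val + i.val))

/-- The matrix of a code. -/
def mat (A : ℕ) : Matrix (Fin 6) (Fin 6) F := fun i j =>
  val2 K ((pl0 A).testBit (6 * j.val + i.val)) ((pl1 A).testBit (6 * j.val + i.val))

theorem mat_planes (A : ℕ) : mat K A = plMat (pl0 A) + K.ω • plMat (pl1 A) := by
  funext i j
  rw [mat, val2_bv, Matrix.add_apply, Matrix.smul_apply, smul_eq_mul, plMat, plMat]
  ring

include K in
theorem plMat_xor (A B : ℕ) : (plMat (A ^^^ B) : Matrix (Fin 6) (Fin 6) F) = plMat A + plMat B := by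
  funext i j
  rw [Matrix.add_apply, plMat, plMat, plMat, Nat.testBit_xor, bv_xor K]

include K in
theorem mulK_bit (A B : ℕ) {i j : ℕ} (hi : i < 6) (hj : j < 6) : ∀ n,
    bv (F := F) ((mulK A B n).testBit (6 * j + i)) =
      ∑ k ∈ Finset.range n, bv (A.testBit (6 * k + i)) * bv (B.testBit (6 * j + k))
  | 0 => by simp [mulK, bv]
  | n + 1 => by
    rw [mulK, Nat.testBit_xor, bv_xor K, mulK_bit A B hi hj n, Finset.sum_range_succ,
      spread_bit (colK_lt A n) 6 _ j i hj hi, Nat.testBit_shiftRight, colK, Nat.testBit_mod_two_pow,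
      Nat.testBit_shiftRight, Nat.add_comm n]
    congr 1
    cases B.testBit (6 * j + n) <;> simp [bv, hi]

include K in
theorem plMat_mulK (A B : ℕ) :
    (plMat (mulK A B 6) : Matrix (Fin 6) (Fin 6) F) = plMat A * plMat B := by
  funext i j
  rw [Matrix.mul_apply, plMat, mulK_bit K A B i.isLt j.isLt 6, Finset.sum_range]
  rfl

theorem mat_mulC (A B : ℕ) : mat K (mulC A B) = mat K A * mat K B := by
  simp only [mat_planes, (mulC_planes A B).1, (mulC_planes A B).2, plMat_xor K, plMat_mulK K,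
    add_mul, mul_add, smul_mul_assoc, mul_smul_comm, smul_add, smul_smul, root' K, add_smul, one_smul]
  abel

theorem mat_oneC : mat K oneC = 1 := by
  funext i j
  have h : ∀ i j : Fin 6, ((pl0 oneC).testBit (6 * j.val + i.val) = decide (i = j)) ∧
      (pl1 oneC).testBit (6 * j.val + i.val) = false := by decide +kernel
  rw [mat, (h i j).1, (h i j).2, Matrix.one_apply]
  by_cases e : i = j <;> simp [e, val2]

theorem plane_ext {a b : ℕ} (ha : a < 2 ^ 36) (hb : b < 2 ^ 36)
    (h : ∀ i j : Fin 6, a.testBit (6 * j.val + i.val) = b.testBit (6 * j.val + i.val)) : a = b := by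
  refine Nat.eq_of_testBit_eq fun m => ?_
  by_cases hm : m < 36
  · have := h ⟨m % 6, Nat.mod_lt _ (by norm_num)⟩ ⟨m / 6, by omega⟩
    rwa [Nat.div_add_mod] at this
  · have hp : 2 ^ 36 ≤ 2 ^ m := Nat.pow_le_pow_right two_pos (by omega)
    rw [Nat.testBit_lt_two_pow (ha.trans_le hp), Nat.testBit_lt_two_pow (hb.trans_le hp)]

theorem mat_inj {A B : ℕ} (hA : A < 2 ^ 72) (hB : B < 2 ^ 72) (h : mat K A = mat K B) : A = B := by
  have e : ∀ i j : Fin 6, (pl0 A).testBit (6 * j.val + i.val) = (pl0 B).testBit (6 * j.val + i.val) ∧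
      (pl1 A).testBit (6 * j.val + i.val) = (pl1 B).testBit (6 * j.val + i.val) :=
    fun i j => val2_inj K (congrFun (congrFun h i) j)
  refine pl_eq (plane_ext (Nat.mod_lt _ (Nat.two_pow_pos _)) (Nat.mod_lt _ (Nat.two_pow_pos _))
    fun i j => (e i j).1) (plane_ext ?_ ?_ fun i j => (e i j).2)
  all_goals
    rw [pl1, Nat.div_lt_iff_lt_mul (Nat.two_pow_pos _), ← pow_add]
    assumption

theorem mat_adjC (A : ℕ) (i j : Fin 6) : mat K (adjC A) i j = mat K A j i ^ 2 := by
  have hi := i.isLt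
  have hj := j.isLt
  have h : 6 * j.val + i.val < 36 := by omega
  have e : 6 * ((6 * j.val + i.val) % 6) + (6 * j.val + i.val) / 6 = 6 * i.val + j.val := by omega
  rw [mat, adjC, pl0_join _ (trP_lt _ _), pl1_join _ (trP_lt _ _), trP_bit _ _ _ h, trP_bit _ _ _ h, e,
    Nat.testBit_xor, ← sq_val2, pow_two]
  rfl

/-- The check that a code is that of an isometry. -/
noncomputable def okS (a : ℕ) : Bool := mulC (adjC a) a == oneC

theorem isometry_of_ok {a : ℕ} (h : okS a = true) (u v : Fin 6 → F) :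
    Cfsg.hermForm 6 F 2 (mat K a *ᵥ u) (mat K a *ᵥ v) = Cfsg.hermForm 6 F 2 u v := by
  haveI : CharP F 2 := CharTwo.of_one_ne_zero_of_two_eq_zero one_ne_zero K.two
  have hm : mat K (adjC a) * mat K a = 1 := by
    rw [← mat_mulC, beq_iff_eq.1 h, mat_oneC]
  have key : ∀ i j, ∑ r, mat K a r i * mat K a r j ^ 2 = if i = j then (1 : F) else 0 := by
    intro i j
    have e := congrFun (congrFun hm j) i
    rw [Matrix.mul_apply, Matrix.one_apply] at e
    simp only [mat_adjC] at e
    rw [Finset.sum_congr rfl fun r _ => mul_comm (mat K a r i) (mat K a r j ^ 2), e]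
    exact if_congr eq_comm rfl rfl
  calc Cfsg.hermForm 6 F 2 (mat K a *ᵥ u) (mat K a *ᵥ v)
      = ∑ r, ∑ i, ∑ j, (u i * v j ^ 2) * (mat K a r i * mat K a r j ^ 2) := by
        simp only [Cfsg.hermForm, Matrix.mulVec, dotProduct, CharTwo.sum_sq, Finset.sum_mul_sum,
          mul_pow]
        refine Finset.sum_congr rfl fun r _ => Finset.sum_congr rfl fun i _ =>
          Finset.sum_congr rfl fun j _ => ?_
        ring
    _ = ∑ i, ∑ j, (u i * v j ^ 2) * ∑ r, mat K a r i * mat K a r j ^ 2 := by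
        rw [Finset.sum_comm]
        refine Finset.sum_congr rfl fun i _ => ?_
        rw [Finset.sum_comm]
        simp only [Finset.mul_sum]
    _ = Cfsg.hermForm 6 F 2 u v := by
        simp only [key, mul_ite, mul_one, mul_zero, Finset.sum_ite_eq, Finset.mem_univ, if_true,
          Cfsg.hermForm]

include K in
theorem ok_mul {a b : ℕ} (ha : okS a = true) (hb : okS b = true) : okS (mulC a b) = true := by
  refine beq_iff_eq.2 (mat_inj K (mulC_lt _ _) (by decide) ?_)
  have e : mat K (adjC (mulC a b)) = mat K (adjC b) * mat K (adjC a) := by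
    funext i j
    rw [mat_adjC, mat_mulC, Matrix.mul_apply, Matrix.mul_apply]
    haveI : CharP F 2 := CharTwo.of_one_ne_zero_of_two_eq_zero one_ne_zero K.two
    rw [CharTwo.sum_sq]
    exact Finset.sum_congr rfl fun k _ => by rw [mat_adjC, mat_adjC, mul_pow, mul_comm]
  rw [mat_mulC, e, mat_mulC, mat_oneC, mul_assoc, ← mul_assoc (mat K (adjC a)), ← mat_mulC K (adjC a),
    beq_iff_eq.1 ha, mat_oneC, one_mul, ← mat_mulC, beq_iff_eq.1 hb, mat_oneC]

theorem ok_one : okS oneC = true := by decide +kernel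

/-- The isometry of a code. -/
noncomputable def val (a : ℕ) : Cfsg.GU 6 F 2 :=
  if h : okS a = true then
    ⟨⟨mat K a, mat K (adjC a),
      mul_eq_one_comm.1 (by rw [← mat_mulC, beq_iff_eq.1 h, mat_oneC]),
      by rw [← mat_mulC, beq_iff_eq.1 h, mat_oneC]⟩, isometry_of_ok K h⟩
  else 1

theorem val_mat {a : ℕ} (h : okS a = true) :
    ((val K a).1 : Matrix (Fin 6) (Fin 6) F) = mat K a := by
  rw [val, dif_pos h]

/-- The action on vectors. -/
instance actGU : MulAction (Cfsg.GU 6 F 2) (Fin 6 → F) where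
  smul g v := (g.1 : Matrix (Fin 6) (Fin 6) F) *ᵥ v
  one_smul v := Matrix.one_mulVec v
  mul_smul g h v := (Matrix.mulVec_mulVec v (g.1 : Matrix (Fin 6) (Fin 6) F) h.1).symm

/-- The check of a code of a vector. -/
def ptOk (v : ℕ) : Bool := Nat.blt (pl0 v) (2 ^ 6) && Nat.blt (pl1 v) (2 ^ 6)

/-- The coded isometries acting on coded vectors. -/
noncomputable def ops : Bsgs.Ops (Cfsg.GU 6 F 2) (Fin 6 → F) where
  val := val K
  ok := okS
  one := oneC
  mul := mulC
  pt v := fun i => mat K v i 0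
  ptOk := ptOk
  img := mulC
  ok_one := ok_one
  val_one := Subtype.ext (Units.ext (by rw [val_mat K ok_one, mat_oneC]; rfl))
  ok_mul _ _ := ok_mul K
  val_mul a b ha hb := Subtype.ext (Units.ext (by
    rw [Subgroup.coe_mul, Units.val_mul, val_mat K (ok_mul K ha hb), val_mat K ha, val_mat K hb,
      mat_mulC]))
  pt_img a p ha hp := by
    simp only [ptOk, Bool.and_eq_true, Nat.blt_eq] at hp
    refine ⟨?_, ?_⟩
    · show ((val K a).1 : Matrix (Fin 6) (Fin 6) F) *ᵥ _ = _
      funext i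
      rw [val_mat K ha, mat_mulC, Matrix.mul_apply]
      rfl
    · simp only [ptOk, Bool.and_eq_true, Nat.blt_eq, (mulC_planes a p).1, (mulC_planes a p).2]
      exact ⟨Nat.xor_lt_two_pow (mulK_col _ hp.1 6) (mulK_col _ hp.2 6),
        Nat.xor_lt_two_pow (Nat.xor_lt_two_pow (mulK_col _ hp.2 6) (mulK_col _ hp.1 6))
          (mulK_col _ hp.2 6)⟩
  pt_inj p q hp hq h := by
    simp only [ptOk, Bool.and_eq_true, Nat.blt_eq] at hp hq
    have e : ∀ i : Fin 6, (pl0 p).testBit i.val = (pl0 q).testBit i.val ∧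
        (pl1 p).testBit i.val = (pl1 q).testBit i.val := fun i => by
      simpa [mat] using val2_inj K (congrFun h i)
    have key : ∀ a b : ℕ, a < 2 ^ 6 → b < 2 ^ 6 → (∀ i : Fin 6, a.testBit i.val = b.testBit i.val) →
        a = b := fun a b ha hb hab => Nat.eq_of_testBit_eq fun m => by
      by_cases hm : m < 6
      · exact hab ⟨m, hm⟩
      · have hp' : 2 ^ 6 ≤ 2 ^ m := Nat.pow_le_pow_right two_pos (by omega)
        rw [Nat.testBit_lt_two_pow (ha.trans_le hp'), Nat.testBit_lt_two_pow (hb.trans_le hp')]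
    exact pl_eq (key _ _ hp.1 hq.1 fun i => (e i).1) (key _ _ hp.2 hq.2 fun i => (e i).2)

/-- An involution has determinant one. -/
theorem det_of_invol {a : ℕ} (h : mulC a a = oneC) : (mat K a).det = 1 := by
  have e := congrArg Matrix.det (congrArg (mat K) h)
  rw [mat_mulC, Matrix.det_mul, mat_oneC, Matrix.det_one] at e
  have h2 : ((mat K a).det - 1) * ((mat K a).det - 1) = 0 := by
    linear_combination e + (1 - (mat K a).det) * K.two
  exact sub_eq_zero.1 (mul_self_eq_zero.1 h2)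

end CfsgLib.Schur.Tails.SixFour
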