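import Cfsg.Agent.Lib.Tails.SpSixData
import Cfsg.Agent.Lib.Tails.SpSixModel
import Cfsg.Agent.Lib.Tails.AltBasic

/-!
# The certificates for the symplectic group of dimension six over two elements
-/

set_option autoImplicit false
set_option maxRecDepth 100000

namespace CfsgLib.Schur.Tails.SpSix

open CfsgLib.Golay CfsgLib.TailsData

/-- The coded permutations of the nonzero vectors. -/
noncomputable abbrev ops63 : Bsgs.Ops (Equiv.Perm (Fin 63)) (Fin 63) := PermCover.ops 63 (by norm_num)

/-- The data at one prime; the program starts from symplectic matrices. -/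
noncomputable def primeB (c : Cert) (gens hs base idx : List ℕ) (stp : List (ℕ × Bool × ℕ × ℕ)) : Bool :=
  Coded.relsB ops63 [ops63.one] gens c hs && Coded.manyB ops63 c.p gens idx (c.p ^ c.n) &&
    Bsgs.slpCheck ops63 base stp && base.all matB &&
    ((gens ++ hs).all fun g => (base ++ stp.map (·.1)).contains g)

theorem realised {c : Cert} {gens hs base idx : List ℕ} {stp : List (ℕ × Bool × ℕ × ℕ)}
    (hc : c.checkB = true) (h : primeB c gens hs base idx stp = true)
    (hdiv : ¬ c.p ^ (c.n + 1) ∣ Nat.card phi.range) : c.Realised ↥phi.range := by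
  simp only [primeB, Bool.and_eq_true, List.all_eq_true, List.contains_iff_mem] at h
  obtain ⟨⟨⟨⟨hr, hm⟩, hslp⟩, hmat⟩, hall⟩ := h
  have hb : ∀ b ∈ base, ops63.ok b = true ∧ ops63.val b ∈ phi.range := fun b hb => by
    have h1 := hmat b hb
    refine ⟨?_, mem_range_of_matB h1⟩
    simp only [matB, Bool.and_eq_true] at h1
    exact h1.1.1
  have hmem : ∀ g ∈ gens ++ hs, ops63.ok g = true ∧ ops63.val g ∈ phi.range :=
    fun g hg => Bsgs.slp_sound ops63 _ hslp hb g (hall g hg)
  refine Coded.realised (O := ops63) (MonoidHom.id _) hc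
    (fun g hg => (hmem g (List.mem_append_left _ hg)).2)
    (fun g hg => (hmem g (List.mem_append_right _ hg)).2) (fun z hz => ?_) hr (fun g hg => ?_) hdiv
  · rw [List.mem_singleton.1 hz]
    exact ⟨by rw [ops63.val_one]; exact one_mem _, Subtype.ext ops63.val_one⟩
  · show c.p ^ c.n ≤ Nat.card (Subgroup.closure (g '' {k | k < c.n}))
    rw [← Subgroup.card_map_of_injective phi.range.subtype_injective]
    refine Coded.le_card_of_manyB (Alt.mul_one_inj (by norm_num)) hm fun x hx => ?_
    obtain ⟨i, hi, rfl⟩ := List.getElem_of_mem hx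
    refine ⟨(hmem _ (List.mem_append_left _ (List.getElem_mem hi))).1, ⟨g i, ?_, ?_⟩⟩
    · have hlen : gens.length = c.n := by
        simp only [Coded.relsB, Bool.and_eq_true, decide_eq_true_eq] at hr
        exact hr.1.1.1.2
      exact Subgroup.subset_closure ⟨i, show i < c.n by omega, rfl⟩
    · show (g i : Equiv.Perm (Fin 63)) = _
      rw [hg i hi, List.getD_eq_getElem _ _ hi]

theorem two_cert : twoSpSixCert.checkB = true := by decide +kernel

theorem three_cert : threeSpSixCert.checkB = true := by decide +kernel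

theorem prime_data : primeB twoSpSixCert twoSpSixGens twoSpSixHs spSixBase twoSpSixIdx twoSpSixSlp = true ∧
    primeB threeSpSixCert threeSpSixGens threeSpSixHs spSixBase threeSpSixIdx threeSpSixSlp = true := by
  constructor <;> decide +kernel

theorem sizes : (twoSpSixCert.p = 2 ∧ twoSpSixCert.q = 4 ∧ twoSpSixCert.n = 9) ∧
    (threeSpSixCert.p = 3 ∧ threeSpSixCert.q = 3 ∧ threeSpSixCert.tau = [] ∧ threeSpSixCert.n = 4) := by
  refine ⟨⟨?_, ?_, ?_⟩, ?_, ?_, ?_, ?_⟩ <;> decide +kernel

end CfsgLib.Schur.Tails.SpSix
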