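import Cfsg.Agent.Lib.Tails.SpSixChainCheck

/-!
# The paired chain of the double cover of the symplectic group of dimension six over two elements
-/

set_option autoImplicit false
set_option maxRecDepth 100000

namespace CfsgLib.Schur.Tails.SpSix

open CfsgLib.Golay CfsgLib.TailsData Subgroup
open scoped commutatorElement

theorem pair_chain : chainB (63 + 120) (by norm_num) spPairBase spPairLevels spPairSlp 1451520 = true := by
  decide +kernel

end CfsgLib.Schur.Tails.SpSix
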