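import Cfsg.Agent.Lib.Tails.TableCover

/-!
# Stem extensions from a split subgroup

The subgroup is an abelian group given by an addition table times a complement given by generators; the
cocycle is a one-cocycle of the complement with values in the dual of the abelian group.
-/

set_option autoImplicit false

namespace CfsgLib.Schur.Tails.CocycleCover

universe u

variable {G : Type u} [Group G]

/-- A split subgroup with a one-cocycle, representatives and two commuting elements gives a stem extension. -/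
theorem exists_stem_of_split [Finite G] {q mv mk N : ℕ} [NeZero q] {eV eK t : ℕ → G}
    {add act : ℕ → ℕ → ℕ} {psi : ℕ → ℕ → ZMod q} {K : Type*} (key : G → K) (hmv : 0 < mv) (hmk : 0 < mk)
    (gens : List ℕ) (par gen : ℕ → ℕ) (mtg : ℕ → ℕ → ℕ)
    (hV1 : eV 0 = 1) (hK1 : eK 0 = 1)
    (hadd : ∀ a < mv, ∀ b < mv, add a b < mv ∧ eV a * eV b = eV (add a b))
    (hinj : ∀ v < mv, ∀ v' < mv, ∀ k < mk, ∀ k' < mk, eV v * eK k = eV v' * eK k' → v = v' ∧ k = k')
    (hconj : ∀ s ∈ gens, s < mk ∧ ∀ v < mv, act s v < mv ∧ eK s * eV v = eV (act s v) * eK s)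
    (hpar : ∀ c, 0 < c → c < mk → par c < c ∧ gen c ∈ gens ∧ mtg (par c) (gen c) = c)
    (hmtg : ∀ k < mk, ∀ s ∈ gens, mtg k s < mk ∧ eK k * eK s = eK (mtg k s) ∧
      ∀ v < mv, psi (mtg k s) v = psi k (act s v) + psi s v)
    (hpsiadd : ∀ s ∈ gens, ∀ a < mv, ∀ b < mv, psi s (add a b) = psi s a + psi s b)
    (hpsi0 : ∀ v < mv, psi 0 v = 0)
    (hkey : ∀ g, ∀ v < mv, ∀ k < mk, key (g * (eV v * eK k)) = key g)
    (hsep : ∀ i < N, ∀ j < N, key (t i) = key (t j) → i = j)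
    (hcard : Nat.card G = N * (mv * mk))
    {x y : G} (hxy : x * y = y * x) (jx kx jy ky : ℕ → ℕ)
    (hx : ∀ i < N, jx i < N ∧ kx i < mv * mk ∧ x * t i = t (jx i) * (eV (kx i / mk) * eK (kx i % mk)))
    (hy : ∀ i < N, jy i < N ∧ ky i < mv * mk ∧ y * t i = t (jy i) * (eV (ky i / mk) * eK (ky i % mk)))
    (hgen : IsUnit ((∑ i ∈ Finset.range N, psi (kx (jy i) % mk) (ky i / mk)) -
      ∑ i ∈ Finset.range N, psi (ky (jx i) % mk) (kx i / mk))) :
    ∃ (Γ : Type u) (_ : Group Γ) (_ : Finite Γ) (σ : Γ →* G),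
      Cfsg.IsStemExtension σ ∧ Nonempty (σ.ker ≃* Multiplicative (ZMod q)) := by
  classical
  have hVinj : ∀ a < mv, ∀ b < mv, eV a = eV b → a = b := fun a ha b hb e =>
    (hinj a ha b hb 0 hmk 0 hmk (by rw [e])).1
  have hKinj : ∀ a < mk, ∀ b < mk, eK a = eK b → a = b := fun a ha b hb e =>
    (hinj 0 hmv 0 hmv a ha b hb (by rw [e])).2
  have hcgen : ∀ c, 0 < c → c < mk → eK c = eK (par c) * eK (gen c) := by
    intro c h0 hc
    obtain ⟨hp, hs, e⟩ := hpar c h0 hc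
    rw [(hmtg _ (hp.trans hc) _ hs).2.1, e]
  have hAex : ∀ c < mk, ∀ v, ∃ w, v < mv → w < mv ∧ eK c * eV v = eV w * eK c := by
    intro c
    induction c using Nat.strong_induction_on with
    | _ c ih =>
      intro hc v
      rcases Nat.eq_zero_or_pos c with rfl | h0
      · exact ⟨v, fun hv => ⟨hv, by rw [hK1, one_mul, mul_one]⟩⟩
      · obtain ⟨hp, hs, e⟩ := hpar c h0 hc
        obtain ⟨w, hw⟩ := ih _ hp (hp.trans hc) (act (gen c) v)
        refine ⟨w, fun hv => ?_⟩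
        obtain ⟨ha, hb⟩ := (hconj _ hs).2 v hv
        obtain ⟨hw1, hw2⟩ := hw ha
        exact ⟨hw1, by rw [hcgen c h0 hc, mul_assoc, hb, ← mul_assoc, hw2, mul_assoc]⟩
  choose! A hA using hAex
  have hAeq : ∀ c < mk, ∀ v < mv, ∀ w < mv, eK c * eV v = eV w * eK c → A c v = w := fun c hc v hv w hw e =>
    (hinj _ (hA c hc v hv).1 w hw c hc c hc ((hA c hc v hv).2.symm.trans e)).1
  have hA0 : ∀ v < mv, A 0 v = v := fun v hv => hAeq 0 hmk v hv v hv (by rw [hK1, one_mul, mul_one])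
  have hAstep : ∀ c, 0 < c → c < mk → ∀ v < mv, A c v = A (par c) (act (gen c) v) := by
    intro c h0 hc v hv
    obtain ⟨hp, hs, e⟩ := hpar c h0 hc
    obtain ⟨ha, hb⟩ := (hconj _ hs).2 v hv
    obtain ⟨hw1, hw2⟩ := hA _ (hp.trans hc) _ ha
    exact hAeq c hc v hv _ hw1 (by rw [hcgen c h0 hc, mul_assoc, hb, ← mul_assoc, hw2, mul_assoc])
  have hactadd : ∀ s ∈ gens, ∀ a < mv, ∀ b < mv, act s (add a b) = add (act s a) (act s b) := by
    intro s hs a ha b hb
    obtain ⟨hsm, hsc⟩ := hconj s hs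
    obtain ⟨hab, eab⟩ := hadd a ha b hb
    obtain ⟨h1, e1⟩ := hsc a ha
    obtain ⟨h2, e2⟩ := hsc b hb
    obtain ⟨h3, e3⟩ := hsc _ hab
    obtain ⟨h4, e4⟩ := hadd _ h1 _ h2
    refine (hinj _ h3 _ h4 s hsm s hsm ?_).1
    rw [← e3, ← eab, ← mul_assoc, e1, mul_assoc, e2, ← mul_assoc, e4]
  have hpadd : ∀ c < mk, ∀ a < mv, ∀ b < mv, psi c (add a b) = psi c a + psi c b := by
    intro c
    induction c using Nat.strong_induction_on with
    | _ c ih =>
      intro hc a ha b hb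
      rcases Nat.eq_zero_or_pos c with rfl | h0
      · rw [hpsi0 _ (hadd a ha b hb).1, hpsi0 a ha, hpsi0 b hb, add_zero]
      · obtain ⟨hp, hs, e⟩ := hpar c h0 hc
        have h := (hmtg _ (hp.trans hc) _ hs).2.2
        rw [e] at h
        rw [h _ (hadd a ha b hb).1, h a ha, h b hb, hactadd _ hs a ha b hb,
          ih _ hp (hp.trans hc) _ ((hconj _ hs).2 a ha).1 _ ((hconj _ hs).2 b hb).1, hpsiadd _ hs a ha b hb]
        abel
  have hQ : ∀ c < mk, ∀ k, ∃ e, k < mk → e < mk ∧ eK k * eK c = eK e ∧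
      ∀ v < mv, psi e v = psi k (A c v) + psi c v := by
    intro c
    induction c using Nat.strong_induction_on with
    | _ c ih =>
      intro hc k
      rcases Nat.eq_zero_or_pos c with rfl | h0
      · exact ⟨k, fun hk => ⟨hk, by rw [hK1, mul_one],
          fun v hv => by rw [hA0 v hv, hpsi0 v hv, add_zero]⟩⟩
      · obtain ⟨hp, hs, e⟩ := hpar c h0 hc
        obtain ⟨e0, h⟩ := ih _ hp (hp.trans hc) k
        refine ⟨mtg e0 (gen c), fun hk => ?_⟩
        obtain ⟨he0, hmul, hps⟩ := h hk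
        obtain ⟨h1, h2, h3⟩ := hmtg e0 he0 _ hs
        refine ⟨h1, by rw [hcgen c h0 hc, ← mul_assoc, hmul, h2], fun v hv => ?_⟩
        have h4 := (hmtg _ (hp.trans hc) _ hs).2.2 v hv
        rw [e] at h4
        rw [h3 v hv, hps _ ((hconj _ hs).2 v hv).1, h4, hAstep c h0 hc v hv, add_assoc]
  choose! M hM using hQ
  let mt : ℕ → ℕ → ℕ := fun i j => add (i / mk) (A (i % mk) (j / mk)) * mk + M (j % mk) (i % mk)
  have hdiv : ∀ i, i < mv * mk → i / mk < mv := fun i hi => (Nat.div_lt_iff_lt_mul hmk).2 hi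
  have hmod : ∀ i, i % mk < mk := fun i => Nat.mod_lt i hmk
  have hcode : ∀ a b : ℕ, b < mk → (a * mk + b) / mk = a ∧ (a * mk + b) % mk = b := fun a b hb =>
    ⟨by rw [Nat.mul_comm, Nat.mul_add_div hmk, Nat.div_eq_of_lt hb, add_zero],
      by rw [Nat.mul_comm, Nat.mul_add_mod, Nat.mod_eq_of_lt hb]⟩
  have hmt : ∀ i < mv * mk, ∀ j < mv * mk, mt i j < mv * mk ∧
      mt i j / mk = add (i / mk) (A (i % mk) (j / mk)) ∧ mt i j % mk = M (j % mk) (i % mk) := by
    intro i hi j hj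
    have hw := (hA _ (hmod i) _ (hdiv j hj)).1
    have hs := (hadd _ (hdiv i hi) _ hw).1
    have hm := (hM _ (hmod j) _ (hmod i)).1
    refine ⟨?_, hcode _ _ hm⟩
    calc mt i j < (add (i / mk) (A (i % mk) (j / mk)) + 1) * mk := by
          simp only [mt]; rw [add_one_mul]; omega
      _ ≤ mv * mk := Nat.mul_le_mul_right mk hs
  have hm : 0 < mv * mk := Nat.mul_pos hmv hmk
  let el : ℕ → G := fun i => eV (i / mk) * eK (i % mk)
  have helinj : ∀ a < mv * mk, ∀ b < mv * mk, el a = el b → a = b := fun a ha b hb e => by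
    obtain ⟨h1, h2⟩ := hinj _ (hdiv a ha) _ (hdiv b hb) _ (hmod a) _ (hmod b) e
    rw [← Nat.div_add_mod a mk, ← Nat.div_add_mod b mk, h1, h2]
  have hmul : ∀ a < mv * mk, ∀ b < mv * mk, mt a b < mv * mk ∧ el a * el b = el (mt a b) := by
    intro a ha b hb
    obtain ⟨h1, h2, h3⟩ := hmt a ha b hb
    obtain ⟨hw, ew⟩ := hA _ (hmod a) _ (hdiv b hb)
    refine ⟨h1, ?_⟩
    simp only [el]
    rw [h2, h3, ← (hadd _ (hdiv a ha) _ hw).2, ← (hM _ (hmod b) _ (hmod a)).2.1, mul_assoc (eV (a / mk)),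
      ← mul_assoc (eK (a % mk)), ew]
    group
  have hel0 : el 0 = 1 := by simp only [el, Nat.zero_div, Nat.zero_mod, hV1, hK1, mul_one]
  have hcoc : ∀ c < mv * mk, ∀ a < mv * mk, ∀ b < mv * mk,
      psi (a % mk) (b / mk) + psi (mt a b % mk) (c / mk) =
        psi (a % mk) (mt b c / mk) + psi (b % mk) (c / mk) := by
    intro c hc a ha b hb
    rw [(hmt a ha b hb).2.2, (hmt b hb c hc).2.1, (hM _ (hmod b) _ (hmod a)).2.2 _ (hdiv c hc),
      hpadd _ (hmod a) _ (hdiv b hb) _ (hA _ (hmod b) _ (hdiv c hc)).1]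
    abel
  refine exists_stem_of_table (el := el) (t := t) (mt := mt) (T := fun i j => psi (i % mk) (j / mk)) key hm
    hmul hel0 helinj (fun g a ha => hkey g _ (hdiv a ha) _ (hmod a)) hsep hcard (fun _ => 0) (fun c => c)
    (fun a ha b hb => hcoc 0 hm a ha b hb) (fun c h0 hc => ⟨h0, hc, ?_, fun a ha b hb => hcoc c hc a ha b hb⟩)
    hxy jx kx jy ky hx hy hgen
  refine helinj _ (hmt 0 hm c hc).1 _ hc ?_
  rw [← (hmul 0 hm c hc).2, hel0, one_mul]

end CfsgLib.Schur.Tails.CocycleCover
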