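import Cfsg.Agent.Lib.Tails.Words
import Cfsg.Agent.Lib.Suz.PermData

/-!
# The base for the checks of Suz
-/

set_option autoImplicit false
set_option maxRecDepth 100000

namespace CfsgLib.Schur.Tails.SuzM


/-- The base. -/
def base : List ℕ := [0] ++ CfsgLib.Suz.levelsS.map PresCert.Level.base


end CfsgLib.Schur.Tails.SuzM
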