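import Cfsg.Agent.Lib.Tails.ThreeSuzData
import Cfsg.Agent.Lib.Tails.FiveSuzData

/-!
# The algebraic checks at odd primes
-/

set_option autoImplicit false
set_option maxRecDepth 100000

namespace CfsgLib.Schur.Tails.SuzM

open CfsgLib.TailsData

theorem three_cert : threeSuzCert.checkB = true := by
  decide +kernel

theorem five_cert : fiveSuzCert.checkB = true := by
  decide +kernel

end CfsgLib.Schur.Tails.SuzM
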