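import Cfsg.Agent.Lib.Tails.SuzTwoEqs0
import Cfsg.Agent.Lib.Tails.SuzTwoEqs1
import Cfsg.Agent.Lib.Tails.SuzTwoEqs2
import Cfsg.Agent.Lib.Tails.SuzTwoEqs3
import Cfsg.Agent.Lib.Tails.SuzTwoEqs4
import Cfsg.Agent.Lib.Tails.SuzTwoEqs5
import Cfsg.Agent.Lib.Tails.SuzTwoEqs6
import Cfsg.Agent.Lib.Tails.SuzTwoEqs7
import Cfsg.Agent.Lib.Tails.SuzTwoEqs8
import Cfsg.Agent.Lib.Tails.SuzTwoEqs9
import Cfsg.Agent.Lib.Tails.SuzTwoEqs10
import Cfsg.Agent.Lib.Tails.SuzTwoEqs11
import Cfsg.Agent.Lib.Tails.SuzTwoEqs12
import Cfsg.Agent.Lib.Tails.SuzTwoEqs13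
import Cfsg.Agent.Lib.Tails.SuzTwoEqs14

/-!
# The algebraic check at two
-/

set_option autoImplicit false
set_option maxRecDepth 100000

namespace CfsgLib.Schur.Tails.SuzM

open CfsgLib.TailsData

theorem twoEqs_length : twoSuzCert.eqs.length = 116 := by
  simp only [Cert.eqs, List.length_append, List.length_map]
  decide +kernel

theorem take_split {α : Type*} (l : List α) (a m : ℕ) :
    l.drop a = (l.drop a).take m ++ l.drop (a + m) := by
  conv_lhs => rw [← List.take_append_drop m (l.drop a)]
  rw [List.drop_drop]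

theorem twoEqs_eq : twoSuzCert.eqs = twoSuzEqs.map some := by
  have hl : (twoSuzEqs.map some).length = 116 := by decide +kernel
  have key : ∀ l : List (Option (List ℕ)), l.length = 116 → l = (l.drop 0).take 8 ++ (l.drop 8).take 8 ++ (l.drop 16).take 8 ++ (l.drop 24).take 8 ++ (l.drop 32).take 8 ++ (l.drop 40).take 8 ++ (l.drop 48).take 8 ++ (l.drop 56).take 8 ++ (l.drop 64).take 8 ++ (l.drop 72).take 8 ++ (l.drop 80).take 8 ++ (l.drop 88).take 8 ++ (l.drop 96).take 8 ++ (l.drop 104).take 8 ++ (l.drop 112).take 4 := by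
    intro l hl
    conv_lhs => rw [← List.drop_zero (l := l), take_split l 0 8, take_split l 8 8, take_split l 16 8, take_split l 24 8, take_split l 32 8, take_split l 40 8, take_split l 48 8, take_split l 56 8, take_split l 64 8, take_split l 72 8, take_split l 80 8, take_split l 88 8, take_split l 96 8, take_split l 104 8, take_split l 112 4, List.drop_of_length_le (i := 112 + 4) (by omega)]
    simp only [List.append_assoc, List.append_nil]
  rw [key _ twoEqs_length, key _ hl, twoEqs_part0, twoEqs_part1, twoEqs_part2, twoEqs_part3, twoEqs_part4, twoEqs_part5, twoEqs_part6, twoEqs_part7, twoEqs_part8, twoEqs_part9, twoEqs_part10, twoEqs_part11, twoEqs_part12, twoEqs_part13, twoEqs_part14]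

/-- The check with the equations given. -/
def combosB (c : Cert) (vs : List (List ℕ)) : Bool :=
  (c.q == c.p || c.q == c.p * c.p) && c.shapeB &&
    sameB c.q (smulV c.q c.p c.tau) (combV c.q vs c.tauCombo) &&
    (c.combos.length == c.rels.length) &&
    (List.range c.rels.length).all fun r =>
      let e := c.combos.getD r ([], 0)
      sameB c.q (subV c.q (addV c.q (unitV r) (c.muV (c.rels.getD r ([], [])).1))
        (c.muV (c.rels.getD r ([], [])).2)) (addV c.q (combV c.q vs e.1) (smulV c.q e.2 c.tau))

theorem checkB_of_eqs {c : Cert} {L : List (List ℕ)} (he : c.eqs = L.map some)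
    (h : combosB c L = true) : c.checkB = true := by
  have hsome : (L.map some).all Option.isSome = true := by simp
  have hget : ((L.map some).map fun e => e.getD []) = L := by simp [List.map_map, Function.comp_def]
  simp only [combosB, Bool.and_eq_true] at h
  simp only [Cert.checkB, Bool.and_eq_true, he, hget, hsome]
  simp only [h, and_self]

theorem two_combos : combosB twoSuzCert twoSuzEqs = true := by
  decide +kernel

theorem two_cert : twoSuzCert.checkB = true := checkB_of_eqs twoEqs_eq two_combos

end CfsgLib.Schur.Tails.SuzM
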