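import Cfsg.Agent.Lib.Tails.Cert

/-!
Generated data: a certificate for the Schur multiplier of Suz.
-/

set_option autoImplicit false
set_option maxRecDepth 20000

namespace CfsgLib.TailsData

open CfsgLib

/-- The overlaps. -/
def threeSuzOverlaps : List (List ℕ × List Schur.Tails.Step × List Schur.Tails.Step) := [
  ([0, 1, 2], [(0, 7, true), (5, 8, true), (4, 16, true), (3, 25, true), (2, 25, true), (5, 15, true), (4, 26, true), (3, 26, true), (2, 27, true), (1, 27, true), (5, 26, true), (4, 26, true), (3, 27, true), (2, 27, true), (0, 6, true), (3, 25, true), (2, 25, true), (0, 5, true), (1, 25, true), (0, 25, true), (1, 4, true), (1, 14, true), (3, 14, true), (2, 23, true), (0, 5, true), (2, 13, true), (0, 3, true)], [(1, 13, true), (0, 9, true), (4, 9, true), (3, 24, true), (2, 27, true), (0, 6, true), (1, 24, true), (0, 27, true), (2, 23, true), (5, 8, true), (4, 23, true), (3, 23, true), (1, 5, true), (2, 22, true), (1, 22, true), (2, 3, true), (4, 7, true), (3, 21, true), (2, 24, true), (1, 26, true), (4, 20, true), (3, 23, true), (2, 25, true), (5, 19, true), (4, 24, true), (3, 26,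 true), (2, 27, true), (0, 6, true), (2, 24, true), (1, 26, true), (0, 27, true), (3, 23, true), (2, 25, true), (4, 22, true), (6, 19, true), (5, 24, true), (4, 26, true), (3, 26, true), (2, 27, true), (1, 27, true), (6, 24, true), (5, 26, true), (4, 26, true), (3, 27, true), (2, 27, true), (0, 6, true), (4, 23, true), (3, 25, true), (2, 25, true), (0, 5, true), (2, 22, true), (0, 4, true)]),
  ([0, 1, 3], [(0, 7, true), (5, 9, true), (4, 17, true), (3, 26, true), (2, 26, true), (1, 27, true), (5, 17, true), (4, 26, true), (3, 26, true), (2, 27, true), (0, 6, true), (3, 16, true), (2, 25, true), (1, 25, true), (4, 14, true), (3, 25, true), (2, 25, true), (0, 5, true)], [(1, 14, true), (0, 11, true), (1, 9, true), (0, 27, true), (1, 27, true), (5, 7, true), (4, 24, true), (3, 27, true), (2, 27, true), (0, 6, true), (2, 23, true), (0, 5, true), (0, 22, true), (1, 22, true)]),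
  ([0, 1, 4], [(0, 7, true), (5, 10, true), (4, 17, true), (3, 26, true), (2, 26, true), (1, 27, true), (5, 15, true), (4, 26, true), (3, 26, true), (2, 27, true), (0, 6, true), (2, 26, true), (1, 26, true), (0, 27, true), (3, 25, true), (2, 25, true), (4, 25, true), (3, 25, true), (1, 5, true), (1, 4, true)], [(1, 15, true), (0, 12, true), (1, 12, true), (2, 11, true), (3, 11, true), (4, 10, true), (3, 27, true), (2, 27, true), (0, 6, true), (3, 7, true), (2, 26, true), (1, 27, true), (0, 27, true), (3, 25, true), (1, 5, true), (1, 4, true)]),
  ([0, 1, 5], [(0, 7, true), (5, 11, true), (4, 16, true), (3, 25, true), (2, 25, true)], [(1, 16, true), (0, 11, true), (1, 7, true), (0, 27, true)]),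
  ([0, 1, 6], [(0, 7, true), (5, 12, true), (4, 17, true), (3, 26, true), (2, 26, true), (1, 27, true)], [(1, 17, true), (0, 12, true), (1, 7, true)]),
  ([0, 2, 3], [(0, 8, true), (5, 9, true), (4, 21, true), (3, 24, true), (2, 24, true), (1, 26, true), (0, 27, true), (5, 21, true), (4, 24, true), (3, 24, true), (2, 26, true), (1, 27, true), (6, 20, true), (5, 23, true), (4, 23, true), (3, 25, true), (7, 18, true), (6, 24, true), (5, 24, true), (4, 26, true), (3, 27, true), (2, 27, true), (0, 6, true), (4, 24, true), (3, 24, true), (2, 26, true), (1, 27, true), (0, 27, true), (4, 3, true)], [(1, 18, true), (0, 12, true), (1, 12, true), (2, 9, true), (0, 6, true), (3, 8, true), (2, 23, true), (3, 22, true), (4, 3, true)]),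
  ([0, 2, 4], [(0, 8, true), (5, 10, true), (4, 21, true), (3, 24, true), (2, 24, true), (1, 26, true), (0, 27, true), (5, 19, true), (4, 24, true), (3, 24, true), (2, 26, true), (1, 27, true), (5, 24, true), (4, 24, true), (3, 26, true), (2, 27, true), (0, 6, true), (3, 23, true), (2, 23, true), (1, 25, true), (4, 22, true), (3, 22, true)], [(1, 19, true), (0, 12, true), (1, 12, true), (2, 11, true), (3, 10, true), (2, 27, true), (0, 6, true), (2, 8, true), (1, 25, true)]),
  ([0, 2, 5], [(0, 8, true), (5, 11, true), (4, 20, true), (3, 23, true), (2, 23, true), (1, 25, true)], [(1, 20, true), (0, 11, true), (1, 8, true)]),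
  ([0, 2, 6], [(0, 8, true), (5, 12, true), (4, 21, true), (3, 24, true), (2, 24, true), (1, 26, true), (0, 27, true)], [(1, 21, true), (0, 12, true), (1, 8, true)]),
  ([0, 3, 4], [(0, 9, true), (4, 10, true), (3, 24, true), (2, 27, true), (0, 6, true), (1, 22, true)], [(1, 22, true), (0, 10, true), (2, 9, true), (1, 26, true), (2, 26, true), (0, 6, true), (0, 25, true)]),
  ([1, 2, 3], [(0, 13, true), (3, 14, true), (2, 20, true), (1, 23, true), (0, 23, true), (3, 18, true), (2, 24, true), (1, 24, true), (0, 27, true), (3, 24, true), (2, 24, true), (1, 27, true), (3, 3, true)], [(1, 18, true), (0, 17, true), (1, 17, true), (2, 14, true), (4, 13, true), (3, 3, true)]),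
  ([1, 2, 4], [(0, 13, true), (3, 15, true), (2, 21, true), (1, 24, true), (0, 24, true), (3, 21, true), (2, 24, true), (1, 24, true), (4, 20, true), (3, 23, true), (2, 23, true), (5, 20, true), (4, 23, true), (3, 23, true), (6, 19, true), (5, 24, true), (4, 24, true), (3, 27, true), (2, 27, true), (0, 6, true), (3, 24, true), (2, 24, true), (1, 27, true), (0, 27, true), (4, 23, true), (3, 23, true), (1, 5, true), (2, 22, true), (1, 22, true)], [(1, 19, true), (0, 17, true), (1, 17, true), (2, 16, true), (3, 15, true), (2, 27, true), (0, 6, true), (0, 27, true), (1, 5, true), (2, 13, true)]),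
  ([0, 0, 0, 0], [(0, 0, true)], [(1, 0, true), (0, 12, true), (1, 12, true), (2, 11, true)]),
  ([0, 0, 0, 1], [(0, 0, true)], [(2, 7, true), (1, 12, true), (0, 12, true), (2, 11, true), (1, 11, true), (3, 10, true), (2, 12, true), (1, 27, true), (3, 10, true), (2, 27, true), (0, 6, true), (3, 10, true), (2, 12, true), (1, 26, true), (0, 27, true), (3, 10, true), (2, 26, true), (1, 27, true), (6, 7, true), (5, 12, true), (4, 26, true), (3, 26, true), (2, 27, true), (0, 6, true), (3, 11, true), (2, 25, true), (1, 25, true), (4, 10, true), (3, 26, true), (2, 26, true), (1, 27, true), (0, 27, true), (3, 4, true), (3, 10, true), (2, 27, true), (1, 27, true), (5, 7, true), (4, 26, true), (3, 27, true), (2, 27, true), (0, 6, true), (2, 25, true), (0, 5, true), (0, 4, true), (1, 0, true), (0, 17, true), (1, 17, true), (2, 16, true)]),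
  ([0, 1, 1, 1], [(0, 7, true), (5, 7, true), (4, 17, true), (3, 26, true), (2, 26, true), (1, 27, true), (5, 16, true), (4, 25, true), (3, 25, true), (6, 15, true), (5, 26, true), (4, 26, true), (3, 27, true), (2, 27, true), (0, 6, true), (3, 26, true), (2, 26, true), (1, 27, true), (0, 27, true), (4, 25, true), (3, 25, true), (1, 5, true), (2, 25, true), (1, 25, true), (2, 4, true), (2, 15, true), (1, 27, true), (2, 27, true), (0, 6, true), (0, 5, true), (3, 7, true), (2, 17, true), (1, 17, true), (0, 26, true), (3, 16, true), (2, 16, true), (1, 25, true), (4, 15, true), (3, 17, true), (2, 26, true), (1, 27, true), (4, 17, true), (3, 26, true), (2, 27, true), (0, 6, true), (2, 16, true), (1, 25, true), (3, 16, true), (2, 25, true), (0, 5, true), (1, 15, true), (0, 26, true), (1, 26, true), (2, 25, true), (3, 25, true), (7, 15, true), (6, 17, true), (5, 26, true), (4, 26, true), (3, 27, true), (2, 27, true), (0, 6, true), (4, 17, true), (3, 26, true), (2, 26, true), (1, 27, true), (0, 27, true), (5, 16, true), (4, 25, true), (3, 25, true), (1, 5, true), (3, 16, true), (2, 25, true), (1, 25,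 true), (4, 15, true), (3, 26, true), (2, 26, true), (1, 27, true), (4, 26, true), (3, 26, true), (2, 27, true), (0, 6, true), (2, 25, true), (1, 25, true), (3, 25, true), (2, 25, true), (0, 5, true), (0, 4, true), (0, 1, true)], [(1, 1, true), (0, 12, true), (1, 12, true)]),
  ([0, 0, 0, 2], [(0, 0, true)], [(2, 8, true), (1, 11, true), (0, 11, true), (2, 10, true), (1, 12, true), (0, 27, true), (2, 10, true), (1, 27, true), (5, 9, true), (4, 12, true), (3, 26, true), (2, 27, true), (0, 6, true), (2, 12, true), (1, 26, true), (0, 27, true), (3, 11, true), (2, 25, true), (4, 9, true), (3, 26, true), (2, 27, true), (1, 27, true), (4, 26, true), (3, 27, true), (2, 27, true), (0, 6, true), (2, 25, true), (0, 5, true), (3, 9, true), (2, 12, true), (1, 24, true), (0, 26, true), (3, 12, true), (2, 24, true), (1, 26, true), (4, 11, true), (3, 23, true), (2, 25, true), (5, 9, true), (4, 24, true), (3, 26, true), (2, 27, true), (0, 6, true), (2, 24, true), (1, 26, true), (0, 27, true), (3, 23, true), (2, 25, true), (7, 8, true), (6, 11, true), (5, 23, true), (4, 23, true), (3, 25, true), (1, 5, true),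 (4, 10, true), (3, 24, true), (2, 24, true), (1, 26, true), (4, 22, true), (3, 22, true), (6, 9, true), (5, 24, true), (4, 24, true), (3, 26, true), (2, 26, true), (0, 6, true), (3, 24, true), (2, 24, true), (1, 26, true), (0, 26, true), (4, 23, true), (3, 23, true), (2, 25, true), (1, 25, true), (4, 3, true), (4, 9, true), (3, 26, true), (2, 26, true), (1, 27, true), (4, 26, true), (3, 26, true), (2, 27, true), (0, 6, true), (2, 25, true), (1, 25, true), (5, 8, true), (4, 23, true), (3, 25, true), (2, 25, true), (0, 5, true), (2, 22, true), (0, 4, true), (0, 3, true), (1, 0, true), (0, 21, true), (1, 21, true), (2, 20, true)]),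
  ([0, 2, 2, 2], [(0, 8, true), (5, 8, true), (4, 20, true), (3, 23, true), (2, 23, true), (1, 25, true), (5, 19, true), (4, 24, true), (3, 24, true), (2, 26, true), (1, 27, true), (0, 27, true), (5, 24, true), (4, 24, true), (3, 26, true), (2, 27, true), (1, 27, true), (6, 23, true), (5, 23, true), (4, 25, true), (2, 5, true), (4, 22, true), (3, 22, true), (6, 18, true), (5, 24, true), (4, 24, true), (3, 26, true), (2, 26, true), (0, 6, true), (3, 24, true), (2, 24, true), (1, 26, true), (0, 26, true), (3, 3, true), (3, 18, true), (2, 26, true), (1, 26, true), (3, 26, true), (2, 26, true), (0, 6, true), (5, 8, true), (4, 20, true), (3, 20, true), (2, 23, true), (1, 25, true), (0, 25, true), (5, 19, true), (4, 21, true), (3, 24, true), (2, 26, true), (1, 26, true), (0, 27, true), (5, 21, true), (4, 24, true), (3, 26, true), (2, 26, true), (1, 27, true), (6, 20, true), (5, 23, true), (4, 25, true), (3, 25, true), (7, 19, true), (6, 24, true), (5, 26, true), (4, 26, true), (3, 27, true), (2, 27, true), (0, 6, true), (4, 24, true), (3, 26, true), (2, 26, true), (1, 27, true), (0, 27, true), (5,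 23, true), (4, 25, true), (3, 25, true), (1, 5, true), (3, 22, true), (1, 4, true), (3, 18, true), (2, 21, true), (1, 24, true), (3, 21, true), (2, 24, true), (0, 6, true), (1, 18, true), (0, 24, true), (1, 24, true), (5, 18, true), (4, 21, true), (3, 24, true), (2, 24, true), (0, 6, true), (2, 21, true), (1, 24, true), (0, 24, true), (3, 18, true), (2, 24, true), (1, 24, true), (3, 24, true), (2, 24, true), (0, 6, true), (0, 3, true), (0, 2, true)], [(1, 2, true), (0, 12, true), (1, 12, true), (2, 11, true)]),
  ([0, 0, 0, 3], [(0, 0, true)], [(2, 9, true), (1, 12, true), (0, 12, true), (2, 12, true), (1, 12, true), (3, 11, true), (2, 11, true), (4, 9, true), (3, 12, true), (2, 27, true), (0, 6, true), (1, 12, true), (0, 27, true), (2, 11, true), (3, 9, true), (2, 27, true), (1, 27, true), (3, 27, true), (2, 27, true), (0, 6, true), (0, 5, true), (1, 0, true), (0, 24, true), (1, 24, true), (2, 23, true)]),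
  ([0, 0, 0, 4], [(0, 0, true)], [(2, 10, true), (1, 12, true), (0, 12, true), (2, 10, true), (1, 12, true), (2, 10, true), (0, 6, true), (1, 0, true), (0, 26, true), (1, 26, true), (2, 25, true)]),
  ([1, 1, 1, 1], [(0, 1, true)], [(1, 1, true), (0, 17, true), (1, 17, true)]),
  ([1, 1, 1, 2], [(0, 1, true)], [(2, 13, true), (1, 14, true), (0, 16, true), (1, 14, true), (4, 14, true), (3, 16, true), (2, 23, true), (0, 5, true), (1, 14, true), (0, 23, true), (4, 13, true), (3, 14, true), (2, 23, true), (1, 23, true), (2, 3, true), (2, 14, true), (0, 5, true), (1, 13, true), (0, 3, true), (1, 1, true), (0, 21, true), (1, 21, true)])]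

/-- A conjugation. -/
def threeSuzFus0 : Schur.Tails.Fus where
  xs := [[6, 5], [5, 4, 4, 3, 3, 2, 1, 0, 0]]
  ys := [[6, 4, 4, 3, 2, 1, 0, 0], [6, 5, 5, 4, 4, 3, 2, 1, 0, 0]]
  rels := [
    ([0, 0, 0], [], [(1, 27, true), (3, 27, true), (2, 27, true), (0, 6, true), (0, 5, true)], [(7, 12, true), (6, 12, true), (5, 17, true), (4, 21, true), (3, 24, true), (2, 26, true), (1, 26, true), (8, 10, true), (7, 12, true), (6, 17, true), (5, 21, true), (4, 24, true), (3, 26, true), (2, 26, true), (0, 6, true), (5, 10, true), (4, 17, true), (3, 21, true), (2, 24, true), (1, 26, true), (0, 26, true), (5, 15, true), (4, 21, true), (3, 24, true), (2, 26, true), (1, 26, true), (5, 21, true), (4, 24, true), (3, 26, true), (2, 26, true), (0, 6, true), (3, 20, true), (2, 23, true), (1, 25, true), (0, 25, true), (4, 20, true), (3, 23, true), (2, 25, true), (1, 25, true), (5, 19, true), (4, 24, true), (3, 26, true), (2, 26, true), (1, 27, true), (0, 27, true), (5, 24, true), (4, 26, true), (3, 26, true), (2, 27, true), (1, 27, true), (6, 23, true), (5, 25, true), (4, 25, true), (2, 5, true), (4, 22, true), (2,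 4, true), (6, 10, true), (5, 12, true), (4, 17, true), (3, 21, true), (2, 24, true), (0, 6, true), (3, 10, true), (2, 17, true), (1, 21, true), (0, 24, true), (3, 15, true), (2, 21, true), (1, 24, true), (3, 21, true), (2, 24, true), (0, 6, true), (1, 20, true), (0, 23, true), (2, 20, true), (1, 23, true), (3, 19, true), (2, 24, true), (1, 27, true), (0, 27, true), (3, 24, true), (2, 27, true), (1, 27, true), (4, 23, true), (2, 5, true), (2, 22, true), (7, 9, true), (6, 12, true), (5, 17, true), (4, 21, true), (3, 24, true), (2, 26, true), (0, 6, true), (4, 12, true), (3, 17, true), (2, 21, true), (1, 24, true), (0, 26, true), (5, 11, true), (4, 16, true), (3, 20, true), (2, 23, true), (1, 25, true), (6, 9, true), (5, 17, true), (4, 21, true), (3, 24, true), (2, 26, true), (1, 27, true), (6, 17, true), (5, 21, true), (4, 24, true), (3, 26, true), (2, 27, true), (0, 6, true), (4, 16, true), (3, 20, true), (2, 23, true), (1, 25, true), (5, 14, true), (4, 20, true), (3, 23, true), (2, 25, true), (0, 5, true), (2, 18, true), (1, 24, true), (0, 26, true), (2, 24, true), (1, 26, true), (8, 8, true),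 (7, 11, true), (6, 16, true), (5, 20, true), (4, 23, true), (3, 23, true), (2, 25, true), (8, 10, true), (7, 17, true), (6, 21, true), (5, 24, true), (4, 24, true), (3, 26, true), (2, 27, true), (0, 6, true), (5, 15, true), (4, 21, true), (3, 24, true), (2, 24, true), (1, 26, true), (0, 27, true), (5, 21, true), (4, 24, true), (3, 24, true), (2, 26, true), (1, 27, true), (6, 20, true), (5, 23, true), (4, 23, true), (3, 25, true), (7, 20, true), (6, 23, true), (5, 23, true), (4, 25, true), (2, 5, true), (5, 19, true), (4, 24, true), (3, 24, true), (2, 26, true), (0, 6, true), (2, 24, true), (1, 24, true), (0, 26, true), (3, 23, true), (2, 23, true), (1, 25, true), (4, 22, true), (3, 22, true), (8, 9, true), (7, 17, true), (6, 21, true), (5, 24, true), (4, 24, true), (3, 26, true), (2, 26, true), (1, 27, true), (8, 17, true), (7, 21, true), (6, 24, true), (5, 24, true), (4, 26, true), (3, 26, true), (2, 27, true), (0, 6, true), (6, 16, true), (5, 20, true), (4, 23, true), (3, 23, true), (2, 25, true), (1, 25, true), (7, 14, true), (6, 20, true), (5, 23, true), (4, 23, true), (3, 25, true), (2,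 25, true), (0, 5, true), (4, 18, true), (3, 24, true), (2, 24, true), (1, 26, true), (0, 26, true), (4, 24, true), (3, 24, true), (2, 26, true), (1, 26, true), (4, 3, true), (6, 9, true), (5, 17, true), (4, 21, true), (3, 26, true), (2, 26, true), (0, 6, true), (3, 17, true), (2, 21, true), (1, 26, true), (0, 26, true), (4, 16, true), (3, 20, true), (2, 25, true), (1, 25, true), (5, 14, true), (4, 20, true), (3, 25, true), (2, 25, true), (5, 18, true), (4, 26, true), (3, 26, true), (2, 27, true), (1, 27, true), (5, 26, true), (4, 26, true), (3, 27, true), (2, 27, true), (0, 6, true), (7, 8, true), (6, 16, true), (5, 20, true), (4, 23, true), (3, 25, true), (2, 25, true), (0, 5, true), (4, 15, true), (3, 21, true), (2, 24, true), (1, 26, true), (0, 26, true), (4, 21, true), (3, 24, true), (2, 26, true), (1, 26, true), (5, 20, true), (4, 23, true), (3, 25, true), (2, 25, true), (6, 20, true), (5, 23, true), (4, 25, true), (3, 25, true), (7, 19, true), (6, 24, true), (5, 26, true), (4, 26, true), (3, 27, true), (2, 27, true), (0, 6, true), (4, 24, true), (3, 26, true), (2, 26, true), (1, 27, true),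 (0, 27, true), (5, 23, true), (4, 25, true), (3, 25, true), (1, 5, true), (3, 22, true), (1, 4, true), (3, 14, true), (2, 20, true), (1, 23, true), (3, 18, true), (2, 24, true), (1, 27, true), (3, 24, true), (2, 27, true), (0, 6, true), (4, 14, true), (3, 20, true), (2, 23, true), (1, 23, true), (4, 18, true), (3, 24, true), (2, 24, true), (1, 27, true), (0, 27, true), (4, 24, true), (3, 24, true), (2, 27, true), (1, 27, true), (4, 3, true), (5, 13, true), (4, 18, true), (3, 27, true), (2, 27, true), (0, 6, true), (1, 27, true), (0, 27, true), (4, 18, true), (3, 24, true), (2, 27, true), (1, 27, true), (4, 24, true), (3, 27, true), (2, 27, true), (0, 6, true), (8, 7, true), (7, 12, true), (6, 17, true), (5, 21, true), (4, 21, true), (3, 24, true), (2, 24, true), (1, 27, true), (0, 27, true), (8, 11, true), (7, 16, true), (6, 20, true), (5, 20, true), (4, 23, true), (3, 23, true), (1, 5, true), (6, 10, true), (5, 17, true), (4, 21, true), (3, 21, true), (2, 24, true), (1, 24, true), (6, 15, true), (5, 21, true), (4, 21, true), (3, 24, true), (2, 24, true), (0, 6, true), (3, 21, true), (2, 21,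 true), (1, 24, true), (0, 24, true), (4, 20, true), (3, 20, true), (2, 23, true), (1, 23, true), (5, 20, true), (4, 20, true), (3, 23, true), (2, 23, true), (6, 19, true), (5, 21, true), (4, 24, true), (3, 24, true), (2, 27, true), (1, 27, true), (6, 21, true), (5, 24, true), (4, 24, true), (3, 27, true), (2, 27, true), (0, 6, true), (4, 20, true), (3, 23, true), (2, 23, true), (0, 5, true), (2, 19, true), (1, 24, true), (0, 24, true), (2, 24, true), (1, 24, true), (3, 23, true), (2, 23, true), (4, 22, true), (3, 22, true), (9, 10, true), (8, 17, true), (7, 21, true), (6, 21, true), (5, 24, true), (4, 24, true), (3, 26, true), (2, 27, true), (0, 6, true), (6, 15, true), (5, 21, true), (4, 21, true), (3, 24, true), (2, 24, true), (1, 26, true), (0, 27, true), (6, 21, true), (5, 21, true), (4, 24, true), (3, 24, true), (2, 26, true), (1, 27, true), (7, 20, true), (6, 20, true), (5, 23, true), (4, 23, true), (3, 25, true), (8, 20, true), (7, 20, true), (6, 23, true), (5, 23, true), (4, 25, true), (2, 5, true), (6, 19, true), (5, 21, true), (4, 24, true), (3, 24, true), (2, 26, true), (0, 6, true),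 (3, 21, true), (2, 24, true), (1, 24, true), (0, 26, true), (4, 20, true), (3, 23, true), (2, 23, true), (1, 25, true), (5, 19, true), (4, 24, true), (3, 24, true), (2, 26, true), (1, 27, true), (5, 24, true), (4, 24, true), (3, 26, true), (2, 27, true), (0, 6, true), (3, 23, true), (2, 23, true), (1, 25, true), (4, 22, true), (3, 22, true), (9, 7, true), (8, 17, true), (7, 21, true), (6, 21, true), (5, 24, true), (4, 24, true), (3, 26, true), (2, 26, true), (1, 27, true), (0, 27, true), (9, 16, true), (8, 20, true), (7, 20, true), (6, 23, true), (5, 23, true), (4, 25, true), (3, 25, true), (1, 5, true), (7, 15, true), (6, 21, true), (5, 21, true), (4, 24, true), (3, 24, true), (2, 26, true), (1, 26, true), (7, 21, true), (6, 21, true), (5, 24, true), (4, 24, true), (3, 26, true), (2, 26, true), (0, 6, true), (5, 20, true), (4, 20, true), (3, 23, true), (2, 23, true), (1, 25, true), (0, 25, true), (6, 20, true), (5, 20, true), (4, 23, true), (3, 23, true), (2, 25, true), (1, 25, true), (7, 19, true), (6, 21, true), (5, 24, true), (4, 24, true), (3, 26, true), (2, 26, true), (1, 27, true), (0,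 27, true), (7, 21, true), (6, 24, true), (5, 24, true), (4, 26, true), (3, 26, true), (2, 27, true), (1, 27, true), (8, 20, true), (7, 23, true), (6, 23, true), (5, 25, true), (4, 25, true), (2, 5, true), (6, 19, true), (5, 24, true), (4, 24, true), (3, 26, true), (2, 26, true), (0, 6, true), (3, 24, true), (2, 24, true), (1, 26, true), (0, 26, true), (4, 23, true), (3, 23, true), (2, 25, true), (1, 25, true), (5, 22, true), (4, 22, true), (2, 4, true), (6, 15, true), (5, 21, true), (4, 21, true), (3, 24, true), (2, 24, true), (1, 27, true), (6, 21, true), (5, 21, true), (4, 24, true), (3, 24, true), (2, 27, true), (0, 6, true), (4, 20, true), (3, 20, true), (2, 23, true), (1, 23, true), (5, 20, true), (4, 20, true), (3, 23, true), (2, 23, true), (0, 5, true), (3, 19, true), (2, 21, true), (1, 24, true), (0, 24, true), (3, 21, true), (2, 24, true), (1, 24, true), (4, 20, true), (3, 23, true), (2, 23, true), (5, 19, true), (4, 24, true), (3, 24, true), (2, 27, true), (0, 6, true), (2, 24, true), (1, 24, true), (0, 27, true), (3, 23, true), (2, 23, true), (4, 22, true), (3, 22, true), (10, 0,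 true), (9, 17, true), (8, 17, true), (7, 21, true), (6, 21, true), (5, 24, true), (4, 24, true), (3, 26, true), (2, 27, true), (1, 27, true), (10, 17, true), (9, 17, true), (8, 21, true), (7, 21, true), (6, 24, true), (5, 24, true), (4, 26, true), (3, 27, true), (2, 27, true), (0, 6, true), (8, 16, true), (7, 16, true), (6, 20, true), (5, 20, true), (4, 23, true), (3, 23, true), (2, 25, true), (0, 5, true), (7, 12, true), (6, 17, true), (5, 17, true), (4, 21, true), (3, 21, true), (2, 24, true), (1, 24, true), (0, 26, true), (8, 10, true), (7, 17, true), (6, 17, true), (5, 21, true), (4, 21, true), (3, 24, true), (2, 24, true), (1, 26, true), (8, 15, true), (7, 17, true), (6, 21, true), (5, 21, true), (4, 24, true), (3, 24, true), (2, 26, true), (0, 6, true), (5, 17, true), (4, 21, true), (3, 21, true), (2, 24, true), (1, 24, true), (0, 26, true), (6, 16, true), (5, 20, true), (4, 20, true), (3, 23, true), (2, 23, true), (1, 25, true), (7, 16, true), (6, 20, true), (5, 20, true), (4, 23, true), (3, 23, true), (2, 25, true), (8, 15, true), (7, 21, true), (6, 21, true), (5, 24, true), (4, 24,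 true), (3, 26, true), (2, 27, true), (1, 27, true), (8, 21, true), (7, 21, true), (6, 24, true), (5, 24, true), (4, 26, true), (3, 27, true), (2, 27, true), (0, 6, true), (6, 20, true), (5, 20, true), (4, 23, true), (3, 23, true), (2, 25, true), (0, 5, true), (4, 20, true), (3, 20, true), (2, 23, true), (1, 23, true), (0, 25, true), (5, 19, true), (4, 21, true), (3, 24, true), (2, 24, true), (1, 26, true), (0, 27, true), (5, 21, true), (4, 24, true), (3, 24, true), (2, 26, true), (1, 27, true), (6, 20, true), (5, 23, true), (4, 23, true), (3, 25, true), (7, 19, true), (6, 24, true), (5, 24, true), (4, 26, true), (3, 27, true), (2, 27, true), (0, 6, true), (4, 24, true), (3, 24, true), (2, 26, true), (1, 27, true), (0, 27, true), (5, 23, true), (4, 23, true), (3, 25, true), (1, 5, true), (3, 22, true), (2, 22, true), (9, 10, true), (8, 17, true), (7, 17, true), (6, 21, true), (5, 21, true), (4, 24, true), (3, 24, true), (2, 26, true), (1, 26, true), (9, 15, true), (8, 17, true), (7, 21, true), (6, 21, true), (5, 24, true), (4, 24, true), (3, 26, true), (2, 26, true), (0, 6, true), (6, 17, true),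 (5, 21, true), (4, 21, true), (3, 24, true), (2, 24, true), (1, 26, true), (0, 26, true), (7, 16, true), (6, 20, true), (5, 20, true), (4, 23, true), (3, 23, true), (2, 25, true), (1, 25, true), (8, 16, true), (7, 20, true), (6, 20, true), (5, 23, true), (4, 23, true), (3, 25, true), (2, 25, true), (9, 15, true), (8, 21, true), (7, 21, true), (6, 24, true), (5, 24, true), (4, 26, true), (3, 26, true), (2, 27, true), (1, 27, true), (9, 21, true), (8, 21, true), (7, 24, true), (6, 24, true), (5, 26, true), (4, 26, true), (3, 27, true), (2, 27, true), (0, 6, true), (7, 20, true), (6, 20, true), (5, 23, true), (4, 23, true), (3, 25, true), (2, 25, true), (0, 5, true), (5, 20, true), (4, 20, true), (3, 23, true), (2, 23, true), (1, 25, true), (0, 25, true), (6, 19, true), (5, 21, true), (4, 24, true), (3, 24, true), (2, 26, true), (1, 26, true), (0, 27, true), (6, 21, true), (5, 24, true), (4, 24, true), (3, 26, true), (2, 26, true), (1, 27, true), (7, 20, true), (6, 23, true), (5, 23, true), (4, 25, true), (3, 25, true), (8, 19, true), (7, 24, true), (6, 24, true), (5, 26, true), (4, 26, true),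 (3, 27, true), (2, 27, true), (0, 6, true), (5, 24, true), (4, 24, true), (3, 26, true), (2, 26, true), (1, 27, true), (0, 27, true), (6, 23, true), (5, 23, true), (4, 25, true), (3, 25, true), (1, 5, true), (4, 22, true), (3, 22, true), (1, 4, true), (7, 9, true), (6, 17, true), (5, 17, true), (4, 21, true), (3, 21, true), (2, 24, true), (1, 24, true), (7, 17, true), (6, 17, true), (5, 21, true), (4, 21, true), (3, 24, true), (2, 24, true), (0, 6, true), (5, 16, true), (4, 16, true), (3, 20, true), (2, 20, true), (1, 23, true), (0, 23, true), (6, 14, true), (5, 16, true), (4, 20, true), (3, 20, true), (2, 23, true), (1, 23, true), (6, 14, true), (5, 20, true), (4, 20, true), (3, 23, true), (2, 23, true), (0, 5, true), (3, 18, true), (2, 21, true), (1, 24, true), (0, 24, true), (3, 21, true), (2, 24, true), (1, 24, true), (4, 18, true), (3, 24, true), (2, 24, true), (0, 6, true), (1, 24, true), (0, 24, true), (1, 3, true), (5, 8, true), (4, 16, true), (3, 16, true), (2, 20, true), (1, 20, true), (5, 15, true), (4, 17, true), (3, 21, true), (2, 21, true), (1, 27, true), (5, 17, true), (4, 21,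 true), (3, 21, true), (2, 27, true), (0, 6, true), (3, 16, true), (2, 20, true), (1, 20, true), (4, 16, true), (3, 20, true), (2, 20, true), (0, 5, true), (2, 15, true), (1, 21, true), (0, 21, true), (2, 21, true), (1, 21, true), (3, 20, true), (2, 20, true), (4, 20, true), (3, 20, true), (5, 19, true), (4, 21, true), (3, 27, true), (2, 27, true), (0, 6, true), (2, 21, true), (1, 27, true), (0, 27, true), (3, 20, true), (1, 5, true), (1, 19, true), (0, 6, true), (5, 14, true), (4, 16, true), (3, 20, true), (2, 20, true), (1, 25, true), (5, 14, true), (4, 20, true), (3, 20, true), (2, 25, true), (0, 5, true), (2, 18, true), (1, 21, true), (0, 26, true), (2, 21, true), (1, 26, true), (3, 18, true), (2, 26, true), (0, 6, true), (0, 26, true), (6, 14, true), (5, 16, true), (4, 20, true), (3, 20, true), (2, 23, true), (1, 25, true), (6, 14, true), (5, 20, true), (4, 20, true), (3, 23, true), (2, 25, true), (6, 18, true), (5, 21, true), (4, 24, true), (3, 26, true), (2, 27, true), (1, 27, true), (6, 21, true), (5, 24, true), (4, 26, true), (3, 27, true), (2, 27, true), (0, 6, true), (4, 18, true),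 (3, 24, true), (2, 26, true), (1, 27, true), (0, 27, true), (4, 24, true), (3, 26, true), (2, 27, true), (1, 27, true), (10, 13, true), (9, 14, true), (8, 20, true), (7, 20, true), (6, 23, true), (5, 23, true), (4, 25, true), (2, 5, true), (6, 18, true), (5, 21, true), (4, 24, true), (3, 24, true), (2, 26, true), (0, 6, true), (3, 21, true), (2, 24, true), (1, 24, true), (0, 26, true), (4, 18, true), (3, 24, true), (2, 24, true), (1, 26, true), (4, 24, true), (3, 24, true), (2, 26, true), (0, 6, true), (1, 3, true), (3, 14, true), (2, 20, true), (1, 20, true), (0, 25, true), (3, 18, true), (2, 21, true), (1, 26, true), (0, 27, true), (3, 21, true), (2, 26, true), (1, 27, true), (4, 18, true), (3, 26, true), (2, 27, true), (0, 6, true), (1, 26, true), (0, 27, true), (6, 13, true), (5, 18, true), (4, 21, true), (3, 24, true), (2, 26, true), (1, 27, true), (5, 21, true), (4, 24, true), (3, 26, true), (2, 27, true), (0, 6, true), (3, 18, true), (2, 24, true), (1, 26, true), (0, 27, true), (3, 24, true), (2, 26, true), (1, 27, true), (7, 18, true), (6, 21, true), (5, 24, true), (4, 24, true), (3,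 26, true), (2, 27, true), (0, 6, true), (4, 21, true), (3, 24, true), (2, 24, true), (1, 26, true), (0, 27, true), (5, 18, true), (4, 24, true), (3, 24, true), (2, 26, true), (1, 27, true), (5, 24, true), (4, 24, true), (3, 26, true), (2, 27, true), (0, 6, true), (2, 3, true), (2, 2, true), (1, 26, true), (0, 27, true), (2, 26, true), (1, 27, true), (3, 25, true), (7, 7, true), (6, 17, true), (5, 17, true), (4, 26, true), (3, 27, true), (2, 27, true), (0, 6, true), (4, 16, true), (3, 16, true), (2, 25, true), (0, 5, true), (2, 15, true), (1, 17, true), (0, 26, true), (2, 17, true), (1, 26, true), (3, 16, true), (2, 25, true), (4, 16, true), (3, 25, true), (5, 15, true), (4, 26, true), (3, 27, true), (2, 27, true), (0, 6, true), (2, 26, true), (1, 27, true), (0, 27, true), (3, 25, true), (1, 5, true), (1, 25, true), (5, 15, true), (4, 17, true), (3, 26, true), (2, 26, true), (1, 27, true), (5, 17, true), (4, 26, true), (3, 26, true), (2, 27, true), (0, 6, true), (3, 16, true), (2, 25, true), (1, 25, true), (4, 16, true), (3, 25, true), (2, 25, true), (0, 5, true), (2, 15, true), (1, 26, true),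 (0, 26, true), (2, 26, true), (1, 26, true), (3, 25, true), (2, 25, true), (4, 25, true), (3, 25, true), (4, 4, true), (4, 1, true), (3, 27, true), (2, 27, true), (0, 6, true), (1, 27, true), (0, 27, true), (3, 0, true), (2, 27, true), (1, 27, true), (3, 27, true), (2, 27, true), (0, 6, true), (0, 5, true)]),
    ([1, 1, 1], [], [(8, 11, true), (7, 11, true), (6, 16, true), (5, 20, true), (4, 23, true), (3, 23, true), (2, 25, true), (1, 25, true), (9, 10, true), (8, 12, true), (7, 17, true), (6, 21, true), (5, 24, true), (4, 24, true), (3, 26, true), (2, 26, true), (1, 27, true), (0, 27, true), (9, 10, true), (8, 17, true), (7, 21, true), (6, 24, true), (5, 24, true), (4, 26, true), (3, 26, true), (2, 27, true), (1, 27, true), (9, 15, true), (8, 21, true), (7, 24, true), (6, 24, true), (5, 26, true), (4, 26, true), (3, 27, true), (2, 27, true), (0, 6, true), (6, 21, true), (5, 24, true), (4, 24, true), (3, 26, true), (2, 26, true), (1, 27, true), (0, 27, true), (7, 20, true), (6, 23, true), (5, 23, true), (4, 25, true), (3, 25, true), (1, 5, true), (5, 20, true), (4, 23, true), (3, 23, true),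 (2, 25, true), (1, 25, true), (6, 19, true), (5, 24, true), (4, 24, true), (3, 26, true), (2, 26, true), (1, 27, true), (6, 24, true), (5, 24, true), (4, 26, true), (3, 26, true), (2, 27, true), (0, 6, true), (4, 23, true), (3, 23, true), (2, 25, true), (1, 25, true), (5, 22, true), (4, 22, true), (2, 4, true), (7, 10, true), (6, 12, true), (5, 17, true), (4, 21, true), (3, 24, true), (2, 24, true), (1, 27, true), (0, 27, true), (7, 10, true), (6, 17, true), (5, 21, true), (4, 24, true), (3, 24, true), (2, 27, true), (1, 27, true), (7, 15, true), (6, 21, true), (5, 24, true), (4, 24, true), (3, 27, true), (2, 27, true), (0, 6, true), (4, 21, true), (3, 24, true), (2, 24, true), (1, 27, true), (0, 27, true), (5, 20, true), (4, 23, true), (3, 23, true), (1, 5, true), (3, 20, true), (2, 23, true), (1, 23, true), (4, 19, true), (3, 24, true), (2, 24, true), (1, 27, true), (4, 24, true), (3, 24, true), (2, 27, true), (0, 6, true), (2, 23, true), (1, 23, true), (3, 22, true), (2, 22, true), (8, 9, true), (7, 12, true), (6, 17, true), (5, 21, true), (4, 24, true), (3, 24, true), (2, 26, true), (1,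 27, true), (0, 27, true), (8, 12, true), (7, 17, true), (6, 21, true), (5, 24, true), (4, 24, true), (3, 26, true), (2, 27, true), (1, 27, true), (9, 11, true), (8, 16, true), (7, 20, true), (6, 23, true), (5, 23, true), (4, 25, true), (2, 5, true), (7, 9, true), (6, 17, true), (5, 21, true), (4, 24, true), (3, 24, true), (2, 26, true), (0, 6, true), (4, 17, true), (3, 21, true), (2, 24, true), (1, 24, true), (0, 26, true), (5, 16, true), (4, 20, true), (3, 23, true), (2, 23, true), (1, 25, true), (6, 14, true), (5, 20, true), (4, 23, true), (3, 23, true), (2, 25, true), (6, 18, true), (5, 24, true), (4, 24, true), (3, 26, true), (2, 27, true), (1, 27, true), (6, 24, true), (5, 24, true), (4, 26, true), (3, 27, true), (2, 27, true), (0, 6, true), (3, 3, true), (6, 9, true), (5, 12, true), (4, 17, true), (3, 21, true), (2, 26, true), (1, 27, true), (0, 27, true), (6, 12, true), (5, 17, true), (4, 21, true), (3, 26, true), (2, 27, true), (1, 27, true), (7, 11, true), (6, 16, true), (5, 20, true), (4, 25, true), (2, 5, true), (5, 9, true), (4, 17, true), (3, 21, true), (2, 26, true), (0, 6, true),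 (2, 17, true), (1, 21, true), (0, 26, true), (3, 16, true), (2, 20, true), (1, 25, true), (4, 14, true), (3, 20, true), (2, 25, true), (4, 18, true), (3, 26, true), (2, 27, true), (1, 27, true), (4, 26, true), (3, 27, true), (2, 27, true), (0, 6, true), (7, 8, true), (6, 11, true), (5, 16, true), (4, 20, true), (3, 23, true), (2, 25, true), (0, 5, true), (4, 10, true), (3, 17, true), (2, 21, true), (1, 24, true), (0, 26, true), (4, 15, true), (3, 21, true), (2, 24, true), (1, 26, true), (4, 21, true), (3, 24, true), (2, 26, true), (0, 6, true), (2, 20, true), (1, 23, true), (0, 25, true), (3, 20, true), (2, 23, true), (1, 25, true), (4, 19, true), (3, 24, true), (2, 26, true), (1, 27, true), (0, 27, true), (4, 24, true), (3, 26, true), (2, 27, true), (1, 27, true), (5, 23, true), (4, 25, true), (2, 5, true), (3, 22, true), (7, 9, true), (6, 17, true), (5, 21, true), (4, 24, true), (3, 26, true), (2, 26, true), (0, 6, true), (4, 17, true), (3, 21, true), (2, 24, true), (1, 26, true), (0, 26, true), (5, 16, true), (4, 20, true), (3, 23, true), (2, 25, true), (1, 25, true), (6, 14, true), (5, 20,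 true), (4, 23, true), (3, 25, true), (2, 25, true), (6, 18, true), (5, 24, true), (4, 26, true), (3, 26, true), (2, 27, true), (1, 27, true), (6, 24, true), (5, 26, true), (4, 26, true), (3, 27, true), (2, 27, true), (0, 6, true), (8, 9, true), (7, 17, true), (6, 21, true), (5, 24, true), (4, 24, true), (3, 26, true), (2, 26, true), (1, 27, true), (0, 27, true), (8, 17, true), (7, 21, true), (6, 24, true), (5, 24, true), (4, 26, true), (3, 26, true), (2, 27, true), (1, 27, true), (9, 16, true), (8, 20, true), (7, 23, true), (6, 23, true), (5, 25, true), (4, 25, true), (2, 5, true), (7, 14, true), (6, 20, true), (5, 23, true), (4, 23, true), (3, 25, true), (2, 25, true), (7, 18, true), (6, 24, true), (5, 24, true), (4, 26, true), (3, 26, true), (2, 27, true), (0, 6, true), (4, 24, true), (3, 24, true), (2, 26, true), (1, 26, true), (0, 27, true), (4, 3, true), (6, 8, true), (5, 16, true), (4, 20, true), (3, 25, true), (2, 25, true), (6, 15, true), (5, 21, true), (4, 26, true), (3, 26, true), (2, 27, true), (1, 27, true), (6, 21, true), (5, 26, true), (4, 26, true), (3, 27, true), (2, 27, true),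 (0, 6, true), (4, 20, true), (3, 25, true), (2, 25, true), (0, 5, true), (2, 20, true), (1, 25, true), (0, 25, true), (3, 19, true), (2, 26, true), (1, 26, true), (0, 27, true), (3, 26, true), (2, 26, true), (1, 27, true), (4, 25, true), (3, 25, true), (4, 4, true), (5, 14, true), (4, 20, true), (2, 5, true), (2, 18, true), (0, 6, true), (3, 14, true), (2, 20, true), (1, 23, true), (3, 18, true), (2, 24, true), (1, 27, true), (3, 24, true), (2, 27, true), (0, 6, true), (4, 13, true), (3, 18, true), (2, 24, true), (1, 24, true), (0, 27, true), (3, 24, true), (2, 24, true), (1, 27, true), (3, 3, true), (3, 18, true), (2, 27, true), (0, 6, true), (0, 27, true), (7, 7, true), (6, 12, true), (5, 17, true), (4, 21, true), (3, 21, true), (2, 24, true), (1, 27, true), (7, 11, true), (6, 16, true), (5, 20, true), (4, 20, true), (3, 23, true), (8, 10, true), (7, 17, true), (6, 21, true), (5, 21, true), (4, 24, true), (3, 27, true), (2, 27, true), (0, 6, true), (5, 15, true), (4, 21, true), (3, 21, true), (2, 24, true), (1, 27, true), (0, 27, true), (5, 21, true), (4, 21, true), (3, 24, true), (2, 27,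 true), (1, 27, true), (6, 20, true), (5, 20, true), (4, 23, true), (2, 5, true), (4, 20, true), (3, 20, true), (2, 23, true), (5, 19, true), (4, 21, true), (3, 24, true), (2, 27, true), (0, 6, true), (2, 21, true), (1, 24, true), (0, 27, true), (3, 20, true), (2, 23, true), (4, 19, true), (3, 24, true), (2, 27, true), (1, 27, true), (4, 24, true), (3, 27, true), (2, 27, true), (0, 6, true), (2, 23, true), (0, 5, true), (0, 22, true), (5, 10, true), (4, 17, true), (3, 21, true), (2, 21, true), (1, 24, true), (0, 26, true), (5, 15, true), (4, 21, true), (3, 21, true), (2, 24, true), (1, 26, true), (5, 21, true), (4, 21, true), (3, 24, true), (2, 26, true), (0, 6, true), (3, 20, true), (2, 20, true), (1, 23, true), (0, 25, true), (4, 20, true), (3, 20, true), (2, 23, true), (1, 25, true), (5, 19, true), (4, 21, true), (3, 24, true), (2, 26, true), (1, 27, true), (0, 27, true), (5, 21, true), (4, 24, true), (3, 26, true), (2, 27, true), (1, 27, true), (6, 20, true), (5, 23, true), (4, 25, true), (2, 5, true), (4, 19, true), (3, 24, true), (2, 26, true), (0, 6, true), (1, 24, true), (0, 26, true),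 (2, 23, true), (1, 25, true), (3, 22, true), (8, 7, true), (7, 17, true), (6, 21, true), (5, 21, true), (4, 24, true), (3, 26, true), (2, 26, true), (1, 27, true), (8, 16, true), (7, 20, true), (6, 20, true), (5, 23, true), (4, 25, true), (3, 25, true), (9, 15, true), (8, 21, true), (7, 21, true), (6, 24, true), (5, 26, true), (4, 26, true), (3, 27, true), (2, 27, true), (0, 6, true), (6, 21, true), (5, 21, true), (4, 24, true), (3, 26, true), (2, 26, true), (1, 27, true), (0, 27, true), (7, 20, true), (6, 20, true), (5, 23, true), (4, 25, true), (3, 25, true), (1, 5, true), (5, 20, true), (4, 20, true), (3, 23, true), (2, 25, true), (1, 25, true), (6, 19, true), (5, 21, true), (4, 24, true), (3, 26, true), (2, 26, true), (1, 27, true), (6, 21, true), (5, 24, true), (4, 26, true), (3, 26, true), (2, 27, true), (0, 6, true), (4, 20, true), (3, 23, true), (2, 25, true), (1, 25, true), (5, 19, true), (4, 24, true), (3, 26, true), (2, 26, true), (1, 27, true), (0, 27, true), (5, 24, true), (4, 26, true), (3, 26, true), (2, 27, true), (1, 27, true), (6, 23, true), (5, 25, true), (4, 25, true), (2,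 5, true), (4, 22, true), (2, 4, true), (5, 15, true), (4, 21, true), (3, 21, true), (2, 24, true), (0, 6, true), (2, 21, true), (1, 21, true), (0, 24, true), (3, 20, true), (2, 20, true), (1, 23, true), (4, 20, true), (3, 20, true), (2, 23, true), (5, 19, true), (4, 21, true), (3, 24, true), (2, 27, true), (1, 27, true), (5, 21, true), (4, 24, true), (3, 27, true), (2, 27, true), (0, 6, true), (3, 20, true), (2, 23, true), (0, 5, true), (1, 19, true), (0, 24, true), (1, 24, true), (2, 23, true), (3, 22, true), (9, 0, true), (8, 17, true), (7, 17, true), (6, 21, true), (5, 21, true), (4, 24, true), (3, 26, true), (2, 27, true), (0, 6, true), (6, 17, true), (5, 17, true), (4, 21, true), (3, 21, true), (2, 24, true), (1, 26, true), (0, 27, true), (7, 16, true), (6, 16, true), (5, 20, true), (4, 20, true), (3, 23, true), (2, 25, true), (9, 11, true), (8, 16, true), (7, 16, true), (6, 20, true), (5, 20, true), (4, 23, true), (3, 25, true), (1, 5, true), (7, 10, true), (6, 17, true), (5, 17, true), (4, 21, true), (3, 21, true), (2, 24, true), (1, 26, true), (7, 15, true), (6, 17, true), (5, 21, true),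 (4, 21, true), (3, 24, true), (2, 26, true), (0, 6, true), (4, 17, true), (3, 21, true), (2, 21, true), (1, 24, true), (0, 26, true), (5, 16, true), (4, 20, true), (3, 20, true), (2, 23, true), (1, 25, true), (6, 16, true), (5, 20, true), (4, 20, true), (3, 23, true), (2, 25, true), (7, 15, true), (6, 21, true), (5, 21, true), (4, 24, true), (3, 26, true), (2, 27, true), (1, 27, true), (7, 21, true), (6, 21, true), (5, 24, true), (4, 26, true), (3, 27, true), (2, 27, true), (0, 6, true), (5, 20, true), (4, 20, true), (3, 23, true), (2, 25, true), (0, 5, true), (3, 20, true), (2, 20, true), (1, 23, true), (0, 25, true), (4, 19, true), (3, 21, true), (2, 24, true), (1, 26, true), (0, 27, true), (4, 21, true), (3, 24, true), (2, 26, true), (1, 27, true), (5, 20, true), (4, 23, true), (3, 25, true), (6, 19, true), (5, 24, true), (4, 26, true), (3, 27, true), (2, 27, true), (0, 6, true), (3, 24, true), (2, 26, true), (1, 27, true), (0, 27, true), (4, 23, true), (3, 25, true), (1, 5, true), (2, 22, true), (8, 10, true), (7, 17, true), (6, 17, true), (5, 21, true), (4, 21, true), (3, 24, true), (2,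 26, true), (1, 26, true), (8, 15, true), (7, 17, true), (6, 21, true), (5, 21, true), (4, 24, true), (3, 26, true), (2, 26, true), (0, 6, true), (5, 17, true), (4, 21, true), (3, 21, true), (2, 24, true), (1, 26, true), (0, 26, true), (6, 16, true), (5, 20, true), (4, 20, true), (3, 23, true), (2, 25, true), (1, 25, true), (7, 16, true), (6, 20, true), (5, 20, true), (4, 23, true), (3, 25, true), (2, 25, true), (8, 15, true), (7, 21, true), (6, 21, true), (5, 24, true), (4, 26, true), (3, 26, true), (2, 27, true), (1, 27, true), (8, 21, true), (7, 21, true), (6, 24, true), (5, 26, true), (4, 26, true), (3, 27, true), (2, 27, true), (0, 6, true), (6, 20, true), (5, 20, true), (4, 23, true), (3, 25, true), (2, 25, true), (0, 5, true), (4, 20, true), (3, 20, true), (2, 23, true), (1, 25, true), (0, 25, true), (5, 19, true), (4, 21, true), (3, 24, true), (2, 26, true), (1, 26, true), (0, 27, true), (5, 21, true), (4, 24, true), (3, 26, true), (2, 26, true), (1, 27, true), (6, 20, true), (5, 23, true), (4, 25, true), (3, 25, true), (7, 19, true), (6, 24, true), (5, 26, true), (4, 26, true), (3, 27,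 true), (2, 27, true), (0, 6, true), (4, 24, true), (3, 26, true), (2, 26, true), (1, 27, true), (0, 27, true), (5, 23, true), (4, 25, true), (3, 25, true), (1, 5, true), (3, 22, true), (1, 4, true), (6, 9, true), (5, 17, true), (4, 17, true), (3, 21, true), (2, 21, true), (1, 24, true), (6, 17, true), (5, 17, true), (4, 21, true), (3, 21, true), (2, 24, true), (0, 6, true), (4, 16, true), (3, 16, true), (2, 20, true), (1, 20, true), (0, 23, true), (5, 14, true), (4, 16, true), (3, 20, true), (2, 20, true), (1, 23, true), (5, 14, true), (4, 20, true), (3, 20, true), (2, 23, true), (0, 5, true), (2, 18, true), (1, 21, true), (0, 24, true), (2, 21, true), (1, 24, true), (3, 18, true), (2, 24, true), (0, 6, true), (0, 24, true), (7, 9, true), (6, 17, true), (5, 17, true), (4, 21, true), (3, 21, true), (2, 24, true), (1, 24, true), (7, 17, true), (6, 17, true), (5, 21, true), (4, 21, true), (3, 24, true), (2, 24, true), (0, 6, true), (5, 16, true), (4, 16, true), (3, 20, true), (2, 20, true), (1, 23, true), (0, 23, true), (6, 14, true), (5, 16, true), (4, 20, true), (3, 20, true), (2, 23, true),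 (1, 23, true), (6, 14, true), (5, 20, true), (4, 20, true), (3, 23, true), (2, 23, true), (0, 5, true), (3, 18, true), (2, 21, true), (1, 24, true), (0, 24, true), (3, 21, true), (2, 24, true), (1, 24, true), (4, 18, true), (3, 24, true), (2, 24, true), (0, 6, true), (1, 24, true), (0, 24, true), (1, 3, true), (5, 8, true), (4, 16, true), (3, 16, true), (2, 20, true), (1, 20, true), (5, 15, true), (4, 17, true), (3, 21, true), (2, 21, true), (1, 27, true), (5, 17, true), (4, 21, true), (3, 21, true), (2, 27, true), (0, 6, true), (3, 16, true), (2, 20, true), (1, 20, true), (4, 16, true), (3, 20, true), (2, 20, true), (0, 5, true), (2, 15, true), (1, 21, true), (0, 21, true), (2, 21, true), (1, 21, true), (3, 20, true), (2, 20, true), (4, 20, true), (3, 20, true), (5, 19, true), (4, 21, true), (3, 27, true), (2, 27, true), (0, 6, true), (2, 21, true), (1, 27, true), (0, 27, true), (3, 20, true), (1, 5, true), (1, 19, true), (0, 6, true), (5, 14, true), (4, 16, true), (3, 20, true), (2, 20, true), (1, 25, true), (5, 14, true), (4, 20, true), (3, 20, true), (2, 25, true), (0, 5, true), (2, 18,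 true), (1, 21, true), (0, 26, true), (2, 21, true), (1, 26, true), (3, 18, true), (2, 26, true), (0, 6, true), (0, 26, true), (6, 14, true), (5, 16, true), (4, 20, true), (3, 20, true), (2, 23, true), (1, 25, true), (6, 14, true), (5, 20, true), (4, 20, true), (3, 23, true), (2, 25, true), (6, 18, true), (5, 21, true), (4, 24, true), (3, 26, true), (2, 27, true), (1, 27, true), (6, 21, true), (5, 24, true), (4, 26, true), (3, 27, true), (2, 27, true), (0, 6, true), (4, 18, true), (3, 24, true), (2, 26, true), (1, 27, true), (0, 27, true), (4, 24, true), (3, 26, true), (2, 27, true), (1, 27, true), (10, 13, true), (9, 14, true), (8, 20, true), (7, 20, true), (6, 23, true), (5, 23, true), (4, 25, true), (2, 5, true), (6, 18, true), (5, 21, true), (4, 24, true), (3, 24, true), (2, 26, true), (0, 6, true), (3, 21, true), (2, 24, true), (1, 24, true), (0, 26, true), (4, 18, true), (3, 24, true), (2, 24, true), (1, 26, true), (4, 24, true), (3, 24, true), (2, 26, true), (0, 6, true), (1, 3, true), (3, 14, true), (2, 20, true), (1, 20, true), (0, 25, true), (3, 18, true), (2, 21, true), (1, 26, true),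 (0, 27, true), (3, 21, true), (2, 26, true), (1, 27, true), (4, 18, true), (3, 26, true), (2, 27, true), (0, 6, true), (1, 26, true), (0, 27, true), (6, 13, true), (5, 18, true), (4, 21, true), (3, 24, true), (2, 26, true), (1, 27, true), (5, 21, true), (4, 24, true), (3, 26, true), (2, 27, true), (0, 6, true), (3, 18, true), (2, 24, true), (1, 26, true), (0, 27, true), (3, 24, true), (2, 26, true), (1, 27, true), (7, 18, true), (6, 21, true), (5, 24, true), (4, 24, true), (3, 26, true), (2, 27, true), (0, 6, true), (4, 21, true), (3, 24, true), (2, 24, true), (1, 26, true), (0, 27, true), (5, 18, true), (4, 24, true), (3, 24, true), (2, 26, true), (1, 27, true), (5, 24, true), (4, 24, true), (3, 26, true), (2, 27, true), (0, 6, true), (2, 3, true), (2, 2, true), (1, 26, true), (0, 27, true), (2, 26, true), (1, 27, true), (3, 25, true), (7, 7, true), (6, 17, true), (5, 17, true), (4, 26, true), (3, 27, true), (2, 27, true), (0, 6, true), (4, 16, true), (3, 16, true), (2, 25, true), (0, 5, true), (2, 15, true), (1, 17, true), (0, 26, true), (2, 17, true), (1, 26, true), (3, 16, true), (2, 25,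 true), (4, 16, true), (3, 25, true), (5, 15, true), (4, 26, true), (3, 27, true), (2, 27, true), (0, 6, true), (2, 26, true), (1, 27, true), (0, 27, true), (3, 25, true), (1, 5, true), (1, 25, true), (5, 15, true), (4, 17, true), (3, 26, true), (2, 26, true), (1, 27, true), (5, 17, true), (4, 26, true), (3, 26, true), (2, 27, true), (0, 6, true), (3, 16, true), (2, 25, true), (1, 25, true), (4, 16, true), (3, 25, true), (2, 25, true), (0, 5, true), (2, 15, true), (1, 26, true), (0, 26, true), (2, 26, true), (1, 26, true), (3, 25, true), (2, 25, true), (4, 25, true), (3, 25, true), (4, 4, true), (4, 1, true), (3, 27, true), (2, 27, true), (0, 6, true), (1, 27, true), (0, 27, true), (3, 0, true), (2, 27, true), (1, 27, true), (3, 27, true), (2, 27, true), (0, 6, true), (0, 5, true)], [(9, 12, true), (8, 12, true), (7, 17, true), (6, 21, true), (5, 24, true), (4, 26, true), (3, 26, true), (2, 27, true), (1, 27, true), (10, 11, true), (9, 11, true), (8, 16, true), (7, 20, true), (6, 23, true), (5, 25, true), (4, 25, true), (2, 5, true), (8, 11, true), (7, 11, true), (6, 16, true), (5, 20, true),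 (4, 23, true), (3, 25, true), (2, 25, true), (9, 10, true), (8, 12, true), (7, 17, true), (6, 21, true), (5, 24, true), (4, 26, true), (3, 26, true), (2, 27, true), (0, 6, true), (6, 10, true), (5, 17, true), (4, 21, true), (3, 24, true), (2, 26, true), (1, 26, true), (0, 27, true), (6, 15, true), (5, 21, true), (4, 24, true), (3, 26, true), (2, 26, true), (1, 27, true), (6, 21, true), (5, 24, true), (4, 26, true), (3, 26, true), (2, 27, true), (0, 6, true), (4, 20, true), (3, 23, true), (2, 25, true), (1, 25, true), (5, 20, true), (4, 23, true), (3, 25, true), (2, 25, true), (0, 5, true), (3, 19, true), (2, 24, true), (1, 26, true), (0, 26, true), (3, 24, true), (2, 26, true), (1, 26, true), (4, 23, true), (3, 25, true), (2, 25, true), (5, 22, true), (3, 4, true), (7, 10, true), (6, 12, true), (5, 17, true), (4, 21, true), (3, 24, true), (2, 27, true), (0, 6, true), (4, 10, true), (3, 17, true), (2, 21, true), (1, 24, true), (0, 27, true), (4, 15, true), (3, 21, true), (2, 24, true), (1, 27, true), (4, 21, true), (3, 24, true), (2, 27, true), (0, 6, true), (2, 20, true), (1, 23, true), (3,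 20, true), (2, 23, true), (0, 5, true), (1, 19, true), (0, 24, true), (1, 24, true), (2, 23, true), (3, 22, true), (8, 9, true), (7, 12, true), (6, 17, true), (5, 21, true), (4, 24, true), (3, 26, true), (2, 27, true), (0, 6, true), (5, 12, true), (4, 17, true), (3, 21, true), (2, 24, true), (1, 26, true), (0, 27, true), (6, 11, true), (5, 16, true), (4, 20, true), (3, 23, true), (2, 25, true), (7, 9, true), (6, 17, true), (5, 21, true), (4, 24, true), (3, 26, true), (2, 27, true), (1, 27, true), (7, 17, true), (6, 21, true), (5, 24, true), (4, 26, true), (3, 27, true), (2, 27, true), (0, 6, true), (5, 16, true), (4, 20, true), (3, 23, true), (2, 25, true), (0, 5, true), (3, 14, true), (2, 20, true), (1, 23, true), (0, 25, true), (3, 18, true), (2, 24, true), (1, 26, true), (0, 27, true), (3, 24, true), (2, 26, true), (1, 27, true), (9, 8, true), (8, 11, true), (7, 16, true), (6, 20, true), (5, 23, true), (4, 23, true), (3, 25, true), (9, 10, true), (8, 17, true), (7, 21, true), (6, 24, true), (5, 24, true), (4, 26, true), (3, 27, true), (2, 27, true), (0, 6, true), (6, 15, true), (5, 21, true),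 (4, 24, true), (3, 24, true), (2, 26, true), (1, 27, true), (0, 27, true), (6, 21, true), (5, 24, true), (4, 24, true), (3, 26, true), (2, 27, true), (1, 27, true), (7, 20, true), (6, 23, true), (5, 23, true), (4, 25, true), (2, 5, true), (5, 20, true), (4, 23, true), (3, 23, true), (2, 25, true), (6, 19, true), (5, 24, true), (4, 24, true), (3, 26, true), (2, 27, true), (0, 6, true), (3, 24, true), (2, 24, true), (1, 26, true), (0, 27, true), (4, 23, true), (3, 23, true), (2, 25, true), (5, 22, true), (4, 22, true), (9, 9, true), (8, 17, true), (7, 21, true), (6, 24, true), (5, 24, true), (4, 26, true), (3, 26, true), (2, 27, true), (1, 27, true), (9, 17, true), (8, 21, true), (7, 24, true), (6, 24, true), (5, 26, true), (4, 26, true), (3, 27, true), (2, 27, true), (0, 6, true), (7, 16, true), (6, 20, true), (5, 23, true), (4, 23, true), (3, 25, true), (2, 25, true), (0, 5, true), (5, 14, true), (4, 20, true), (3, 23, true), (2, 23, true), (1, 25, true), (0, 25, true), (5, 18, true), (4, 24, true), (3, 24, true), (2, 26, true), (1, 26, true), (0, 27, true), (5, 24, true), (4, 24, true), (3,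 26, true), (2, 26, true), (1, 27, true), (5, 3, true), (7, 9, true), (6, 17, true), (5, 21, true), (4, 26, true), (3, 26, true), (2, 27, true), (0, 6, true), (4, 17, true), (3, 21, true), (2, 26, true), (1, 26, true), (0, 27, true), (5, 16, true), (4, 20, true), (3, 25, true), (2, 25, true), (6, 14, true), (5, 20, true), (4, 25, true), (3, 25, true), (1, 5, true), (3, 18, true), (2, 26, true), (1, 26, true), (3, 26, true), (2, 26, true), (0, 6, true), (5, 8, true), (4, 16, true), (3, 20, true), (2, 23, true), (1, 25, true), (0, 25, true), (5, 15, true), (4, 21, true), (3, 24, true), (2, 26, true), (1, 26, true), (0, 27, true), (5, 21, true), (4, 24, true), (3, 26, true), (2, 26, true), (1, 27, true), (6, 20, true), (5, 23, true), (4, 25, true), (3, 25, true), (7, 20, true), (6, 23, true), (5, 25, true), (4, 25, true), (2, 5, true), (5, 19, true), (4, 24, true), (3, 26, true), (2, 26, true), (0, 6, true), (2, 24, true), (1, 26, true), (0, 26, true), (3, 23, true), (2, 25, true), (1, 25, true), (4, 22, true), (2, 4, true), (4, 14, true), (3, 20, true), (2, 23, true), (4, 18, true), (3, 24, true),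 (2, 27, true), (1, 27, true), (4, 24, true), (3, 27, true), (2, 27, true), (0, 6, true), (5, 14, true), (4, 20, true), (3, 23, true), (2, 23, true), (0, 5, true), (2, 18, true), (1, 24, true), (0, 24, true), (2, 24, true), (1, 24, true), (2, 3, true), (3, 13, true), (2, 18, true), (0, 6, true), (2, 18, true), (1, 24, true), (2, 24, true), (0, 6, true), (6, 7, true), (5, 12, true), (4, 17, true), (3, 21, true), (2, 21, true), (1, 24, true), (0, 24, true), (6, 11, true), (5, 16, true), (4, 20, true), (3, 20, true), (2, 23, true), (1, 23, true), (7, 10, true), (6, 17, true), (5, 21, true), (4, 21, true), (3, 24, true), (2, 24, true), (1, 27, true), (7, 15, true), (6, 21, true), (5, 21, true), (4, 24, true), (3, 24, true), (2, 27, true), (0, 6, true), (4, 21, true), (3, 21, true), (2, 24, true), (1, 24, true), (0, 27, true), (5, 20, true), (4, 20, true), (3, 23, true), (2, 23, true), (6, 20, true), (5, 20, true), (4, 23, true), (3, 23, true), (1, 5, true), (4, 19, true), (3, 21, true), (2, 24, true), (1, 24, true), (4, 21, true), (3, 24, true), (2, 24, true), (0, 6, true), (2, 20, true), (1, 23,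 true), (0, 23, true), (3, 19, true), (2, 24, true), (1, 24, true), (0, 27, true), (3, 24, true), (2, 24, true), (1, 27, true), (4, 23, true), (3, 23, true), (5, 22, true), (4, 22, true), (10, 10, true), (9, 17, true), (8, 21, true), (7, 21, true), (6, 24, true), (5, 24, true), (4, 26, true), (3, 27, true), (2, 27, true), (0, 6, true), (7, 15, true), (6, 21, true), (5, 21, true), (4, 24, true), (3, 24, true), (2, 26, true), (1, 27, true), (0, 27, true), (7, 21, true), (6, 21, true), (5, 24, true), (4, 24, true), (3, 26, true), (2, 27, true), (1, 27, true), (8, 20, true), (7, 20, true), (6, 23, true), (5, 23, true), (4, 25, true), (2, 5, true), (6, 20, true), (5, 20, true), (4, 23, true), (3, 23, true), (2, 25, true), (7, 19, true), (6, 21, true), (5, 24, true), (4, 24, true), (3, 26, true), (2, 27, true), (0, 6, true), (4, 21, true), (3, 24, true), (2, 24, true), (1, 26, true), (0, 27, true), (5, 20, true), (4, 23, true), (3, 23, true), (2, 25, true), (6, 19, true), (5, 24, true), (4, 24, true), (3, 26, true), (2, 27, true), (1, 27, true), (6, 24, true), (5, 24, true), (4, 26, true), (3, 27,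 true), (2, 27, true), (0, 6, true), (4, 23, true), (3, 23, true), (2, 25, true), (0, 5, true), (2, 22, true), (1, 22, true), (7, 7, true), (6, 17, true), (5, 21, true), (4, 21, true), (3, 24, true), (2, 24, true), (1, 26, true), (0, 26, true), (7, 16, true), (6, 20, true), (5, 20, true), (4, 23, true), (3, 23, true), (2, 25, true), (1, 25, true), (8, 15, true), (7, 21, true), (6, 21, true), (5, 24, true), (4, 24, true), (3, 26, true), (2, 26, true), (1, 27, true), (8, 21, true), (7, 21, true), (6, 24, true), (5, 24, true), (4, 26, true), (3, 26, true), (2, 27, true), (0, 6, true), (6, 20, true), (5, 20, true), (4, 23, true), (3, 23, true), (2, 25, true), (1, 25, true), (7, 20, true), (6, 20, true), (5, 23, true), (4, 23, true), (3, 25, true), (2, 25, true), (0, 5, true), (5, 19, true), (4, 21, true), (3, 24, true), (2, 24, true), (1, 26, true), (0, 26, true), (5, 21, true), (4, 24, true), (3, 24, true), (2, 26, true), (1, 26, true), (6, 20, true), (5, 23, true), (4, 23, true), (3, 25, true), (2, 25, true), (7, 19, true), (6, 24, true), (5, 24, true), (4, 26, true), (3, 26, true), (2, 27, true),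 (0, 6, true), (4, 24, true), (3, 24, true), (2, 26, true), (1, 26, true), (0, 27, true), (5, 23, true), (4, 23, true), (3, 25, true), (2, 25, true), (6, 22, true), (5, 22, true), (3, 4, true), (7, 15, true), (6, 21, true), (5, 21, true), (4, 24, true), (3, 24, true), (2, 27, true), (1, 27, true), (7, 21, true), (6, 21, true), (5, 24, true), (4, 24, true), (3, 27, true), (2, 27, true), (0, 6, true), (5, 20, true), (4, 20, true), (3, 23, true), (2, 23, true), (0, 5, true), (3, 20, true), (2, 20, true), (1, 23, true), (0, 23, true), (4, 19, true), (3, 21, true), (2, 24, true), (1, 24, true), (0, 27, true), (4, 21, true), (3, 24, true), (2, 24, true), (1, 27, true), (5, 20, true), (4, 23, true), (3, 23, true), (6, 19, true), (5, 24, true), (4, 24, true), (3, 27, true), (2, 27, true), (0, 6, true), (3, 24, true), (2, 24, true), (1, 27, true), (0, 27, true), (4, 23, true), (3, 23, true), (1, 5, true), (2, 22, true), (1, 22, true), (8, 0, true), (7, 17, true), (6, 17, true), (5, 21, true), (4, 21, true), (3, 24, true), (2, 24, true), (1, 26, true), (8, 17, true), (7, 17, true), (6, 21, true), (5, 21,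 true), (4, 24, true), (3, 24, true), (2, 26, true), (0, 6, true), (6, 16, true), (5, 16, true), (4, 20, true), (3, 20, true), (2, 23, true), (1, 23, true), (0, 25, true), (8, 12, true), (7, 17, true), (6, 17, true), (5, 21, true), (4, 21, true), (3, 24, true), (2, 24, true), (1, 26, true), (0, 27, true), (9, 11, true), (8, 16, true), (7, 16, true), (6, 20, true), (5, 20, true), (4, 23, true), (3, 23, true), (2, 25, true), (10, 11, true), (9, 16, true), (8, 16, true), (7, 20, true), (6, 20, true), (5, 23, true), (4, 23, true), (3, 25, true), (1, 5, true), (8, 10, true), (7, 17, true), (6, 17, true), (5, 21, true), (4, 21, true), (3, 24, true), (2, 24, true), (1, 26, true), (8, 15, true), (7, 17, true), (6, 21, true), (5, 21, true), (4, 24, true), (3, 24, true), (2, 26, true), (0, 6, true), (5, 17, true), (4, 21, true), (3, 21, true), (2, 24, true), (1, 24, true), (0, 26, true), (6, 16, true), (5, 20, true), (4, 20, true), (3, 23, true), (2, 23, true), (1, 25, true), (7, 16, true), (6, 20, true), (5, 20, true), (4, 23, true), (3, 23, true), (2, 25, true), (8, 15, true), (7, 21, true), (6, 21,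 true), (5, 24, true), (4, 24, true), (3, 26, true), (2, 27, true), (1, 27, true), (8, 21, true), (7, 21, true), (6, 24, true), (5, 24, true), (4, 26, true), (3, 27, true), (2, 27, true), (0, 6, true), (6, 20, true), (5, 20, true), (4, 23, true), (3, 23, true), (2, 25, true), (0, 5, true), (4, 20, true), (3, 20, true), (2, 23, true), (1, 23, true), (0, 25, true), (5, 19, true), (4, 21, true), (3, 24, true), (2, 24, true), (1, 26, true), (0, 27, true), (5, 21, true), (4, 24, true), (3, 24, true), (2, 26, true), (1, 27, true), (6, 20, true), (5, 23, true), (4, 23, true), (3, 25, true), (7, 19, true), (6, 24, true), (5, 24, true), (4, 26, true), (3, 27, true), (2, 27, true), (0, 6, true), (4, 24, true), (3, 24, true), (2, 26, true), (1, 27, true), (0, 27, true), (5, 23, true), (4, 23, true), (3, 25, true), (1, 5, true), (3, 22, true), (2, 22, true), (9, 10, true), (8, 17, true), (7, 17, true), (6, 21, true), (5, 21, true), (4, 24, true), (3, 24, true), (2, 26, true), (1, 26, true), (9, 15, true), (8, 17, true), (7, 21, true), (6, 21, true), (5, 24, true), (4, 24, true), (3, 26, true), (2, 26, true),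 (0, 6, true), (6, 17, true), (5, 21, true), (4, 21, true), (3, 24, true), (2, 24, true), (1, 26, true), (0, 26, true), (7, 16, true), (6, 20, true), (5, 20, true), (4, 23, true), (3, 23, true), (2, 25, true), (1, 25, true), (8, 16, true), (7, 20, true), (6, 20, true), (5, 23, true), (4, 23, true), (3, 25, true), (2, 25, true), (9, 15, true), (8, 21, true), (7, 21, true), (6, 24, true), (5, 24, true), (4, 26, true), (3, 26, true), (2, 27, true), (1, 27, true), (9, 21, true), (8, 21, true), (7, 24, true), (6, 24, true), (5, 26, true), (4, 26, true), (3, 27, true), (2, 27, true), (0, 6, true), (7, 20, true), (6, 20, true), (5, 23, true), (4, 23, true), (3, 25, true), (2, 25, true), (0, 5, true), (5, 20, true), (4, 20, true), (3, 23, true), (2, 23, true), (1, 25, true), (0, 25, true), (6, 19, true), (5, 21, true), (4, 24, true), (3, 24, true), (2, 26, true), (1, 26, true), (0, 27, true), (6, 21, true), (5, 24, true), (4, 24, true), (3, 26, true), (2, 26, true), (1, 27, true), (7, 20, true), (6, 23, true), (5, 23, true), (4, 25, true), (3, 25, true), (8, 19, true), (7, 24, true), (6, 24, true), (5,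 26, true), (4, 26, true), (3, 27, true), (2, 27, true), (0, 6, true), (5, 24, true), (4, 24, true), (3, 26, true), (2, 26, true), (1, 27, true), (0, 27, true), (6, 23, true), (5, 23, true), (4, 25, true), (3, 25, true), (1, 5, true), (4, 22, true), (3, 22, true), (1, 4, true), (7, 9, true), (6, 17, true), (5, 17, true), (4, 21, true), (3, 21, true), (2, 24, true), (1, 24, true), (7, 17, true), (6, 17, true), (5, 21, true), (4, 21, true), (3, 24, true), (2, 24, true), (0, 6, true), (5, 16, true), (4, 16, true), (3, 20, true), (2, 20, true), (1, 23, true), (0, 23, true), (6, 14, true), (5, 16, true), (4, 20, true), (3, 20, true), (2, 23, true), (1, 23, true), (6, 14, true), (5, 20, true), (4, 20, true), (3, 23, true), (2, 23, true), (0, 5, true), (3, 18, true), (2, 21, true), (1, 24, true), (0, 24, true), (3, 21, true), (2, 24, true), (1, 24, true), (4, 18, true), (3, 24, true), (2, 24, true), (0, 6, true), (1, 24, true), (0, 24, true), (1, 3, true), (5, 8, true), (4, 16, true), (3, 16, true), (2, 20, true), (1, 20, true), (5, 15, true), (4, 17, true), (3, 21, true), (2, 21, true), (1, 27, true),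 (5, 17, true), (4, 21, true), (3, 21, true), (2, 27, true), (0, 6, true), (3, 16, true), (2, 20, true), (1, 20, true), (4, 16, true), (3, 20, true), (2, 20, true), (0, 5, true), (2, 15, true), (1, 21, true), (0, 21, true), (2, 21, true), (1, 21, true), (3, 20, true), (2, 20, true), (4, 20, true), (3, 20, true), (5, 19, true), (4, 21, true), (3, 27, true), (2, 27, true), (0, 6, true), (2, 21, true), (1, 27, true), (0, 27, true), (3, 20, true), (1, 5, true), (1, 19, true), (0, 6, true), (5, 14, true), (4, 16, true), (3, 20, true), (2, 20, true), (1, 25, true), (5, 14, true), (4, 20, true), (3, 20, true), (2, 25, true), (0, 5, true), (2, 18, true), (1, 21, true), (0, 26, true), (2, 21, true), (1, 26, true), (3, 18, true), (2, 26, true), (0, 6, true), (0, 26, true), (6, 14, true), (5, 16, true), (4, 20, true), (3, 20, true), (2, 23, true), (1, 25, true), (6, 14, true), (5, 20, true), (4, 20, true), (3, 23, true), (2, 25, true), (6, 18, true), (5, 21, true), (4, 24, true), (3, 26, true), (2, 27, true), (1, 27, true), (6, 21, true), (5, 24, true), (4, 26, true), (3, 27, true), (2, 27, true), (0, 6,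 true), (4, 18, true), (3, 24, true), (2, 26, true), (1, 27, true), (0, 27, true), (4, 24, true), (3, 26, true), (2, 27, true), (1, 27, true), (10, 13, true), (9, 14, true), (8, 20, true), (7, 20, true), (6, 23, true), (5, 23, true), (4, 25, true), (2, 5, true), (6, 18, true), (5, 21, true), (4, 24, true), (3, 24, true), (2, 26, true), (0, 6, true), (3, 21, true), (2, 24, true), (1, 24, true), (0, 26, true), (4, 18, true), (3, 24, true), (2, 24, true), (1, 26, true), (4, 24, true), (3, 24, true), (2, 26, true), (0, 6, true), (1, 3, true), (3, 14, true), (2, 20, true), (1, 20, true), (0, 25, true), (3, 18, true), (2, 21, true), (1, 26, true), (0, 27, true), (3, 21, true), (2, 26, true), (1, 27, true), (4, 18, true), (3, 26, true), (2, 27, true), (0, 6, true), (1, 26, true), (0, 27, true), (6, 13, true), (5, 18, true), (4, 21, true), (3, 24, true), (2, 26, true), (1, 27, true), (5, 21, true), (4, 24, true), (3, 26, true), (2, 27, true), (0, 6, true), (3, 18, true), (2, 24, true), (1, 26, true), (0, 27, true), (3, 24, true), (2, 26, true), (1, 27, true), (7, 18, true), (6, 21, true), (5, 24, true),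 (4, 24, true), (3, 26, true), (2, 27, true), (0, 6, true), (4, 21, true), (3, 24, true), (2, 24, true), (1, 26, true), (0, 27, true), (5, 18, true), (4, 24, true), (3, 24, true), (2, 26, true), (1, 27, true), (5, 24, true), (4, 24, true), (3, 26, true), (2, 27, true), (0, 6, true), (2, 3, true), (2, 2, true), (1, 26, true), (0, 27, true), (2, 26, true), (1, 27, true), (3, 25, true), (7, 7, true), (6, 17, true), (5, 17, true), (4, 26, true), (3, 27, true), (2, 27, true), (0, 6, true), (4, 16, true), (3, 16, true), (2, 25, true), (0, 5, true), (2, 15, true), (1, 17, true), (0, 26, true), (2, 17, true), (1, 26, true), (3, 16, true), (2, 25, true), (4, 16, true), (3, 25, true), (5, 15, true), (4, 26, true), (3, 27, true), (2, 27, true), (0, 6, true), (2, 26, true), (1, 27, true), (0, 27, true), (3, 25, true), (1, 5, true), (1, 25, true), (5, 15, true), (4, 17, true), (3, 26, true), (2, 26, true), (1, 27, true), (5, 17, true), (4, 26, true), (3, 26, true), (2, 27, true), (0, 6, true), (3, 16, true), (2, 25, true), (1, 25, true), (4, 16, true), (3, 25, true), (2, 25, true), (0, 5, true), (2, 15, true),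 (1, 26, true), (0, 26, true), (2, 26, true), (1, 26, true), (3, 25, true), (2, 25, true), (4, 25, true), (3, 25, true), (4, 4, true), (4, 1, true), (3, 27, true), (2, 27, true), (0, 6, true), (1, 27, true), (0, 27, true), (3, 0, true), (2, 27, true), (1, 27, true), (3, 27, true), (2, 27, true), (0, 6, true), (0, 5, true)])]

/-- A conjugation. -/
def threeSuzFus1 : Schur.Tails.Fus where
  xs := [[6, 6, 5, 5, 4, 2, 1, 0, 0]]
  ys := [[6, 5, 5, 4, 3, 3, 2, 2, 1, 1]]
  rels := [
    ([0, 0, 0], [], [(8, 12, true), (7, 12, true), (6, 17, true), (5, 21, true), (4, 26, true), (3, 27, true), (2, 27, true), (0, 6, true), (6, 12, true), (5, 12, true), (4, 17, true), (3, 21, true), (2, 26, true), (1, 27, true), (0, 27, true), (7, 11, true), (6, 11, true), (5, 16, true), (4, 20, true), (3, 25, true), (1, 5, true), (5, 11, true), (4, 11, true), (3, 16, true), (2, 20, true), (1, 25, true), (6, 10, true), (5, 12, true), (4, 17, true), (3, 21, true), (2, 26, true), (1, 27, true), (6, 10, true), (5, 17, true), (4, 21, true), (3, 26, true), (2, 27, true), (0, 6, true), (3, 15, true), (2, 21, true), (1, 26, true),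 (0, 27, true), (3, 21, true), (2, 26, true), (1, 27, true), (4, 20, true), (3, 25, true), (5, 20, true), (4, 25, true), (2, 5, true), (3, 19, true), (2, 26, true), (0, 6, true), (0, 26, true), (1, 25, true), (7, 8, true), (6, 11, true), (5, 16, true), (4, 20, true), (3, 25, true), (2, 25, true), (7, 10, true), (6, 17, true), (5, 21, true), (4, 26, true), (3, 26, true), (2, 27, true), (1, 27, true), (7, 15, true), (6, 21, true), (5, 26, true), (4, 26, true), (3, 27, true), (2, 27, true), (0, 6, true), (4, 21, true), (3, 26, true), (2, 26, true), (1, 27, true), (0, 27, true), (5, 20, true), (4, 25, true), (3, 25, true), (1, 5, true), (3, 20, true), (2, 25, true), (1, 25, true), (4, 19, true), (3, 26, true), (2, 26, true), (1, 27, true), (4, 26, true), (3, 26, true), (2, 27, true), (0, 6, true), (2, 25, true), (1, 25, true), (2, 4, true), (4, 9, true), (3, 17, true), (2, 21, true), (1, 27, true), (0, 27, true), (4, 17, true), (3, 21, true), (2, 27, true), (1, 27, true), (5, 16, true), (4, 20, true), (2, 5, true), (3, 14, true), (2, 20, true), (3, 18, true), (2, 27, true), (0, 6, true), (0, 27,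 true), (5, 9, true), (4, 17, true), (3, 21, true), (2, 24, true), (1, 27, true), (5, 17, true), (4, 21, true), (3, 24, true), (2, 27, true), (0, 6, true), (3, 16, true), (2, 20, true), (1, 23, true), (4, 14, true), (3, 20, true), (2, 23, true), (0, 5, true), (1, 18, true), (0, 24, true), (1, 24, true), (6, 8, true), (5, 16, true), (4, 20, true), (3, 23, true), (2, 23, true), (6, 15, true), (5, 21, true), (4, 24, true), (3, 24, true), (2, 27, true), (0, 6, true), (3, 21, true), (2, 24, true), (1, 24, true), (0, 27, true), (4, 20, true), (3, 23, true), (2, 23, true), (5, 20, true), (4, 23, true), (3, 23, true), (1, 5, true), (3, 19, true), (2, 24, true), (1, 24, true), (3, 24, true), (2, 24, true), (0, 6, true), (1, 23, true), (0, 23, true), (2, 22, true), (1, 22, true), (5, 14, true), (4, 20, true), (3, 23, true), (2, 23, true), (1, 25, true), (5, 18, true), (4, 24, true), (3, 24, true), (2, 26, true), (1, 27, true), (0, 27, true), (5, 24, true), (4, 24, true), (3, 26, true), (2, 27, true), (1, 27, true), (5, 3, true), (6, 14, true), (5, 20, true), (4, 25, true), (2, 5, true), (3, 18, true),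 (2, 26, true), (0, 6, true), (0, 26, true), (4, 13, true), (3, 18, true), (2, 24, true), (1, 26, true), (3, 24, true), (2, 26, true), (0, 6, true), (3, 18, true), (2, 24, true), (1, 24, true), (0, 26, true), (3, 24, true), (2, 24, true), (1, 26, true), (3, 3, true), (7, 7, true), (6, 12, true), (5, 17, true), (4, 21, true), (3, 21, true), (2, 26, true), (0, 6, true), (4, 11, true), (3, 16, true), (2, 20, true), (1, 20, true), (0, 25, true), (5, 10, true), (4, 17, true), (3, 21, true), (2, 21, true), (1, 26, true), (0, 27, true), (5, 15, true), (4, 21, true), (3, 21, true), (2, 26, true), (1, 27, true), (5, 21, true), (4, 21, true), (3, 26, true), (2, 27, true), (0, 6, true), (3, 20, true), (2, 20, true), (1, 25, true), (4, 20, true), (3, 20, true), (2, 25, true), (0, 5, true), (2, 19, true), (1, 21, true), (0, 26, true), (2, 21, true), (1, 26, true), (3, 20, true), (2, 25, true), (4, 19, true), (3, 26, true), (2, 27, true), (0, 6, true), (1, 26, true), (0, 27, true), (2, 25, true), (8, 10, true), (7, 17, true), (6, 21, true), (5, 21, true), (4, 26, true), (3, 26, true), (2, 27, true), (1, 27,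 true), (8, 15, true), (7, 21, true), (6, 21, true), (5, 26, true), (4, 26, true), (3, 27, true), (2, 27, true), (0, 6, true), (5, 21, true), (4, 21, true), (3, 26, true), (2, 26, true), (1, 27, true), (0, 27, true), (6, 20, true), (5, 20, true), (4, 25, true), (3, 25, true), (1, 5, true), (4, 20, true), (3, 20, true), (2, 25, true), (1, 25, true), (5, 19, true), (4, 21, true), (3, 26, true), (2, 26, true), (1, 27, true), (5, 21, true), (4, 26, true), (3, 26, true), (2, 27, true), (0, 6, true), (3, 20, true), (2, 25, true), (1, 25, true), (4, 19, true), (3, 26, true), (2, 26, true), (1, 27, true), (0, 27, true), (4, 26, true), (3, 26, true), (2, 27, true), (1, 27, true), (5, 25, true), (4, 25, true), (2, 5, true), (2, 4, true), (5, 7, true), (4, 17, true), (3, 21, true), (2, 21, true), (0, 6, true), (2, 16, true), (1, 20, true), (0, 20, true), (3, 15, true), (2, 21, true), (1, 21, true), (0, 27, true), (3, 21, true), (2, 21, true), (1, 27, true), (4, 20, true), (3, 20, true), (5, 20, true), (4, 20, true), (2, 5, true), (3, 19, true), (2, 21, true), (0, 6, true), (0, 21, true), (1, 20, true),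 (2, 19, true), (1, 27, true), (2, 27, true), (0, 6, true), (5, 15, true), (4, 21, true), (3, 21, true), (2, 26, true), (1, 27, true), (0, 27, true), (5, 21, true), (4, 21, true), (3, 26, true), (2, 27, true), (1, 27, true), (6, 20, true), (5, 20, true), (4, 25, true), (2, 5, true), (4, 20, true), (3, 20, true), (2, 25, true), (5, 19, true), (4, 21, true), (3, 26, true), (2, 27, true), (0, 6, true), (2, 21, true), (1, 26, true), (0, 27, true), (3, 20, true), (2, 25, true), (4, 19, true), (3, 26, true), (2, 27, true), (1, 27, true), (4, 26, true), (3, 27, true), (2, 27, true), (0, 6, true), (2, 25, true), (0, 5, true), (6, 0, true), (5, 17, true), (4, 17, true), (3, 21, true), (2, 21, true), (1, 26, true), (0, 26, true), (6, 17, true), (5, 17, true), (4, 21, true), (3, 21, true), (2, 26, true), (1, 26, true), (7, 16, true), (6, 16, true), (5, 20, true), (4, 20, true), (3, 25, true), (2, 25, true), (9, 12, true), (8, 17, true), (7, 17, true), (6, 21, true), (5, 21, true), (4, 26, true), (3, 26, true), (2, 27, true), (0, 6, true), (7, 12, true), (6, 17, true), (5, 17, true), (4, 21, true), (3, 21,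 true), (2, 26, true), (1, 26, true), (0, 27, true), (8, 11, true), (7, 16, true), (6, 16, true), (5, 20, true), (4, 20, true), (3, 25, true), (2, 25, true), (9, 11, true), (8, 16, true), (7, 16, true), (6, 20, true), (5, 20, true), (4, 25, true), (3, 25, true), (1, 5, true), (7, 10, true), (6, 17, true), (5, 17, true), (4, 21, true), (3, 21, true), (2, 26, true), (1, 26, true), (7, 15, true), (6, 17, true), (5, 21, true), (4, 21, true), (3, 26, true), (2, 26, true), (0, 6, true), (4, 17, true), (3, 21, true), (2, 21, true), (1, 26, true), (0, 26, true), (5, 16, true), (4, 20, true), (3, 20, true), (2, 25, true), (1, 25, true), (6, 16, true), (5, 20, true), (4, 20, true), (3, 25, true), (2, 25, true), (7, 15, true), (6, 21, true), (5, 21, true), (4, 26, true), (3, 26, true), (2, 27, true), (1, 27, true), (7, 21, true), (6, 21, true), (5, 26, true), (4, 26, true), (3, 27, true), (2, 27, true), (0, 6, true), (5, 20, true), (4, 20, true), (3, 25, true), (2, 25, true), (0, 5, true), (3, 20, true), (2, 20, true), (1, 25, true), (0, 25, true), (4, 19, true), (3, 21, true), (2, 26, true), (1, 26, true),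 (0, 27, true), (4, 21, true), (3, 26, true), (2, 26, true), (1, 27, true), (5, 20, true), (4, 25, true), (3, 25, true), (6, 19, true), (5, 26, true), (4, 26, true), (3, 27, true), (2, 27, true), (0, 6, true), (3, 26, true), (2, 26, true), (1, 27, true), (0, 27, true), (4, 25, true), (3, 25, true), (1, 5, true), (1, 4, true), (5, 8, true), (4, 16, true), (3, 16, true), (2, 20, true), (1, 20, true), (5, 15, true), (4, 17, true), (3, 21, true), (2, 21, true), (1, 27, true), (5, 17, true), (4, 21, true), (3, 21, true), (2, 27, true), (0, 6, true), (3, 16, true), (2, 20, true), (1, 20, true), (4, 16, true), (3, 20, true), (2, 20, true), (0, 5, true), (2, 15, true), (1, 21, true), (0, 21, true), (2, 21, true), (1, 21, true), (3, 20, true), (2, 20, true), (4, 20, true), (3, 20, true), (5, 19, true), (4, 21, true), (3, 27, true), (2, 27, true), (0, 6, true), (2, 21, true), (1, 27, true), (0, 27, true), (3, 20, true), (1, 5, true), (1, 19, true), (0, 6, true), (5, 14, true), (4, 16, true), (3, 20, true), (2, 20, true), (1, 25, true), (5, 14, true), (4, 20, true), (3, 20, true), (2, 25, true), (0, 5,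 true), (2, 18, true), (1, 21, true), (0, 26, true), (2, 21, true), (1, 26, true), (3, 18, true), (2, 26, true), (0, 6, true), (0, 26, true), (6, 14, true), (5, 16, true), (4, 20, true), (3, 20, true), (2, 23, true), (1, 25, true), (6, 14, true), (5, 20, true), (4, 20, true), (3, 23, true), (2, 25, true), (6, 18, true), (5, 21, true), (4, 24, true), (3, 26, true), (2, 27, true), (1, 27, true), (6, 21, true), (5, 24, true), (4, 26, true), (3, 27, true), (2, 27, true), (0, 6, true), (4, 18, true), (3, 24, true), (2, 26, true), (1, 27, true), (0, 27, true), (4, 24, true), (3, 26, true), (2, 27, true), (1, 27, true), (10, 13, true), (9, 14, true), (8, 20, true), (7, 20, true), (6, 23, true), (5, 23, true), (4, 25, true), (2, 5, true), (6, 18, true), (5, 21, true), (4, 24, true), (3, 24, true), (2, 26, true), (0, 6, true), (3, 21, true), (2, 24, true), (1, 24, true), (0, 26, true), (4, 18, true), (3, 24, true), (2, 24, true), (1, 26, true), (4, 24, true), (3, 24, true), (2, 26, true), (0, 6, true), (1, 3, true), (3, 14, true), (2, 20, true), (1, 20, true), (0, 25, true), (3, 18, true), (2, 21, true),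 (1, 26, true), (0, 27, true), (3, 21, true), (2, 26, true), (1, 27, true), (4, 18, true), (3, 26, true), (2, 27, true), (0, 6, true), (1, 26, true), (0, 27, true), (6, 13, true), (5, 18, true), (4, 21, true), (3, 24, true), (2, 26, true), (1, 27, true), (5, 21, true), (4, 24, true), (3, 26, true), (2, 27, true), (0, 6, true), (3, 18, true), (2, 24, true), (1, 26, true), (0, 27, true), (3, 24, true), (2, 26, true), (1, 27, true), (7, 18, true), (6, 21, true), (5, 24, true), (4, 24, true), (3, 26, true), (2, 27, true), (0, 6, true), (4, 21, true), (3, 24, true), (2, 24, true), (1, 26, true), (0, 27, true), (5, 18, true), (4, 24, true), (3, 24, true), (2, 26, true), (1, 27, true), (5, 24, true), (4, 24, true), (3, 26, true), (2, 27, true), (0, 6, true), (2, 3, true), (2, 2, true), (1, 26, true), (0, 27, true), (2, 26, true), (1, 27, true), (3, 25, true), (7, 7, true), (6, 17, true), (5, 17, true), (4, 26, true), (3, 27, true), (2, 27, true), (0, 6, true), (4, 16, true), (3, 16, true), (2, 25, true), (0, 5, true), (2, 15, true), (1, 17, true), (0, 26, true), (2, 17, true), (1, 26, true), (3, 16,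 true), (2, 25, true), (4, 16, true), (3, 25, true), (5, 15, true), (4, 26, true), (3, 27, true), (2, 27, true), (0, 6, true), (2, 26, true), (1, 27, true), (0, 27, true), (3, 25, true), (1, 5, true), (1, 25, true), (5, 15, true), (4, 17, true), (3, 26, true), (2, 26, true), (1, 27, true), (5, 17, true), (4, 26, true), (3, 26, true), (2, 27, true), (0, 6, true), (3, 16, true), (2, 25, true), (1, 25, true), (4, 16, true), (3, 25, true), (2, 25, true), (0, 5, true), (2, 15, true), (1, 26, true), (0, 26, true), (2, 26, true), (1, 26, true), (3, 25, true), (2, 25, true), (4, 25, true), (3, 25, true), (4, 4, true), (4, 1, true), (3, 27, true), (2, 27, true), (0, 6, true), (1, 27, true), (0, 27, true), (3, 0, true), (2, 27, true), (1, 27, true), (3, 27, true), (2, 27, true), (0, 6, true), (0, 5, true)], [(9, 17, true), (8, 17, true), (7, 21, true), (6, 21, true), (5, 24, true), (4, 24, true), (3, 26, true), (2, 27, true), (1, 27, true), (10, 16, true), (9, 16, true), (8, 20, true), (7, 20, true), (6, 23, true), (5, 23, true), (4, 25, true), (2, 5, true), (8, 16, true), (7, 16, true), (6, 20, true),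 (5, 20, true), (4, 23, true), (3, 23, true), (2, 25, true), (9, 15, true), (8, 17, true), (7, 21, true), (6, 21, true), (5, 24, true), (4, 24, true), (3, 26, true), (2, 27, true), (0, 6, true), (6, 17, true), (5, 21, true), (4, 21, true), (3, 24, true), (2, 24, true), (1, 26, true), (0, 27, true), (7, 16, true), (6, 20, true), (5, 20, true), (4, 23, true), (3, 23, true), (2, 25, true), (8, 16, true), (7, 20, true), (6, 20, true), (5, 23, true), (4, 23, true), (3, 25, true), (1, 5, true), (6, 15, true), (5, 21, true), (4, 21, true), (3, 24, true), (2, 24, true), (1, 26, true), (6, 21, true), (5, 21, true), (4, 24, true), (3, 24, true), (2, 26, true), (0, 6, true), (4, 20, true), (3, 20, true), (2, 23, true), (1, 23, true), (0, 25, true), (5, 20, true), (4, 20, true), (3, 23, true), (2, 23, true), (1, 25, true), (6, 19, true), (5, 21, true), (4, 24, true), (3, 24, true), (2, 26, true), (1, 27, true), (0, 27, true), (6, 21, true), (5, 24, true), (4, 24, true), (3, 26, true), (2, 27, true), (1, 27, true), (7, 20, true), (6, 23, true), (5, 23, true), (4, 25, true), (2, 5, true), (5, 19, true), (4,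 24, true), (3, 24, true), (2, 26, true), (0, 6, true), (2, 24, true), (1, 24, true), (0, 26, true), (3, 23, true), (2, 23, true), (1, 25, true), (4, 22, true), (3, 22, true), (9, 14, true), (8, 16, true), (7, 20, true), (6, 20, true), (5, 23, true), (4, 23, true), (3, 25, true), (2, 25, true), (9, 14, true), (8, 20, true), (7, 20, true), (6, 23, true), (5, 23, true), (4, 25, true), (3, 25, true), (1, 5, true), (6, 18, true), (5, 21, true), (4, 24, true), (3, 24, true), (2, 26, true), (1, 26, true), (6, 21, true), (5, 24, true), (4, 24, true), (3, 26, true), (2, 26, true), (0, 6, true), (4, 18, true), (3, 24, true), (2, 24, true), (1, 26, true), (0, 26, true), (4, 24, true), (3, 24, true), (2, 26, true), (1, 26, true), (4, 3, true), (7, 14, true), (6, 16, true), (5, 20, true), (4, 20, true), (3, 25, true), (2, 25, true), (7, 14, true), (6, 20, true), (5, 20, true), (4, 25, true), (3, 25, true), (7, 18, true), (6, 21, true), (5, 26, true), (4, 26, true), (3, 27, true), (2, 27, true), (0, 6, true), (4, 21, true), (3, 26, true), (2, 26, true), (1, 27, true), (0, 27, true), (5, 18, true), (4, 26,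 true), (3, 26, true), (2, 27, true), (1, 27, true), (5, 26, true), (4, 26, true), (3, 27, true), (2, 27, true), (0, 6, true), (8, 13, true), (7, 14, true), (6, 20, true), (5, 20, true), (4, 23, true), (3, 25, true), (2, 25, true), (0, 5, true), (4, 18, true), (3, 21, true), (2, 24, true), (1, 26, true), (0, 26, true), (4, 21, true), (3, 24, true), (2, 26, true), (1, 26, true), (5, 18, true), (4, 24, true), (3, 26, true), (2, 26, true), (0, 6, true), (2, 24, true), (1, 26, true), (0, 26, true), (7, 14, true), (6, 20, true), (5, 20, true), (4, 23, true), (3, 23, true), (2, 25, true), (1, 25, true), (7, 18, true), (6, 21, true), (5, 24, true), (4, 24, true), (3, 26, true), (2, 26, true), (1, 27, true), (7, 21, true), (6, 24, true), (5, 24, true), (4, 26, true), (3, 26, true), (2, 27, true), (0, 6, true), (5, 18, true), (4, 24, true), (3, 24, true), (2, 26, true), (1, 26, true), (0, 27, true), (5, 24, true), (4, 24, true), (3, 26, true), (2, 26, true), (1, 27, true), (5, 3, true), (7, 13, true), (6, 18, true), (5, 21, true), (4, 26, true), (3, 26, true), (2, 27, true), (0, 6, true), (3, 21, true),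 (2, 26, true), (1, 26, true), (0, 27, true), (4, 18, true), (3, 26, true), (2, 26, true), (1, 27, true), (4, 26, true), (3, 26, true), (2, 27, true), (0, 6, true), (5, 18, true), (4, 21, true), (3, 24, true), (2, 26, true), (1, 26, true), (0, 27, true), (5, 21, true), (4, 24, true), (3, 26, true), (2, 26, true), (1, 27, true), (6, 18, true), (5, 24, true), (4, 26, true), (3, 26, true), (2, 27, true), (0, 6, true), (3, 24, true), (2, 26, true), (1, 26, true), (0, 27, true), (6, 2, true), (5, 24, true), (4, 24, true), (3, 26, true), (2, 26, true), (1, 27, true), (6, 24, true), (5, 24, true), (4, 26, true), (3, 26, true), (2, 27, true), (0, 6, true), (4, 23, true), (3, 23, true), (2, 25, true), (1, 25, true), (7, 13, true), (6, 14, true), (5, 23, true), (4, 23, true), (3, 25, true), (2, 25, true), (0, 5, true), (2, 3, true), (2, 14, true), (1, 25, true), (0, 25, true), (4, 13, true), (3, 3, true), (4, 1, true), (3, 21, true), (2, 26, true), (1, 26, true), (0, 27, true), (4, 21, true), (3, 26, true), (2, 26, true), (1, 27, true), (6, 17, true), (5, 21, true), (4, 26, true), (3, 26, true), (2, 27,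 true), (0, 6, true), (4, 16, true), (3, 20, true), (2, 25, true), (1, 25, true), (5, 16, true), (4, 20, true), (3, 25, true), (2, 25, true), (0, 5, true), (3, 15, true), (2, 21, true), (1, 26, true), (0, 26, true), (3, 21, true), (2, 26, true), (1, 26, true), (4, 20, true), (3, 25, true), (2, 25, true), (5, 20, true), (4, 25, true), (3, 25, true), (6, 19, true), (5, 26, true), (4, 26, true), (3, 27, true), (2, 27, true), (0, 6, true), (3, 26, true), (2, 26, true), (1, 27, true), (0, 27, true), (4, 25, true), (3, 25, true), (1, 5, true), (1, 4, true), (2, 14, true), (1, 20, true), (2, 18, true), (1, 27, true), (2, 27, true), (0, 6, true), (3, 14, true), (2, 20, true), (1, 23, true), (3, 18, true), (2, 24, true), (1, 27, true), (0, 27, true), (3, 24, true), (2, 27, true), (1, 27, true), (7, 13, true), (6, 18, true), (5, 24, true), (4, 24, true), (3, 27, true), (2, 27, true), (0, 6, true), (3, 24, true), (2, 24, true), (1, 27, true), (0, 27, true), (3, 3, true), (3, 18, true), (2, 27, true), (1, 27, true), (3, 27, true), (2, 27, true), (0, 6, true), (5, 13, true), (4, 18, true), (3, 21, true),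 (2, 24, true), (1, 27, true), (0, 27, true), (4, 21, true), (3, 24, true), (2, 27, true), (1, 27, true), (5, 18, true), (4, 24, true), (3, 27, true), (2, 27, true), (0, 6, true), (2, 24, true), (1, 27, true), (0, 27, true), (6, 18, true), (5, 21, true), (4, 24, true), (3, 24, true), (2, 27, true), (1, 27, true), (6, 21, true), (5, 24, true), (4, 24, true), (3, 27, true), (2, 27, true), (0, 6, true), (4, 18, true), (3, 24, true), (2, 24, true), (1, 27, true), (0, 27, true), (4, 24, true), (3, 24, true), (2, 27, true), (1, 27, true), (4, 3, true), (4, 2, true), (3, 27, true), (2, 27, true), (0, 6, true), (1, 27, true), (0, 27, true), (1, 5, true), (1, 1, true), (0, 6, true)])]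

/-- A conjugation. -/
def threeSuzFus2 : Schur.Tails.Fus where
  xs := [[4, 4, 3, 2, 1, 0, 0], [5, 5, 4, 2, 1, 1, 0], [6, 2, 1, 0], [5, 5, 4, 4, 3], [6, 5, 5, 4, 4], [6, 6, 5], [6, 5]]
  ys := [[4, 4, 3, 2, 2, 1, 1, 0], [6, 6, 5, 5, 4, 3, 3, 2, 0, 0], [6, 6, 5, 5, 3, 1, 0], [5, 3], [4, 4, 3, 3], [6, 6], [6, 5]]
  rels := [
    ([0, 0, 0], [], [(6, 10, true), (5, 12, true), (4, 17, true), (3, 21, true), (2, 24, true), (1, 26, true), (0, 26, true), (6, 10, true), (5, 17, true), (4, 21, true), (3, 24, true), (2, 26, true), (1, 26, true), (6, 15, true), (5, 21, true), (4, 24, true), (3, 26, true), (2, 26, true), (0, 6, true), (3, 21, true), (2, 24, true), (1, 26, true), (0, 26, true), (4, 20, true), (3, 23, true), (2, 25, true), (1, 25, true), (5, 20, true), (4, 23, true), (3, 25, true), (2, 25, true), (6, 19, true), (5, 24, true), (4, 26, true), (3, 26, true), (2, 27, true), (1, 27, true), (6, 24, true), (5, 26, true), (4, 26, true), (3, 27, true), (2, 27, true), (0, 6, true), (4, 23, true), (3, 25, true), (2, 25, true), (0, 5, true), (2, 22, true), (0, 4, true), (4, 10, true), (3, 12, true),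 (2, 17, true), (1, 21, true), (0, 24, true), (4, 10, true), (3, 17, true), (2, 21, true), (1, 24, true), (4, 15, true), (3, 21, true), (2, 24, true), (0, 6, true), (1, 21, true), (0, 24, true), (2, 20, true), (1, 23, true), (3, 20, true), (2, 23, true), (4, 19, true), (3, 24, true), (2, 27, true), (1, 27, true), (4, 24, true), (3, 27, true), (2, 27, true), (0, 6, true), (2, 23, true), (0, 5, true), (0, 22, true), (5, 9, true), (4, 12, true), (3, 17, true), (2, 21, true), (1, 24, true), (0, 26, true), (5, 12, true), (4, 17, true), (3, 21, true), (2, 24, true), (1, 26, true), (6, 11, true), (5, 16, true), (4, 20, true), (3, 23, true), (2, 25, true), (7, 9, true), (6, 17, true), (5, 21, true), (4, 24, true), (3, 26, true), (2, 27, true), (0, 6, true), (4, 17, true), (3, 21, true), (2, 24, true), (1, 26, true), (0, 27, true), (5, 16, true), (4, 20, true), (3, 23, true), (2, 25, true), (6, 14, true), (5, 20, true), (4, 23, true), (3, 25, true), (1, 5, true), (3, 18, true), (2, 24, true), (1, 26, true), (3, 24, true), (2, 26, true), (0, 6, true), (6, 8, true), (5, 11, true), (4, 16, true), (3, 20,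 true), (2, 23, true), (1, 23, true), (0, 25, true), (6, 10, true), (5, 17, true), (4, 21, true), (3, 24, true), (2, 24, true), (1, 26, true), (0, 27, true), (6, 15, true), (5, 21, true), (4, 24, true), (3, 24, true), (2, 26, true), (1, 27, true), (6, 21, true), (5, 24, true), (4, 24, true), (3, 26, true), (2, 27, true), (0, 6, true), (4, 20, true), (3, 23, true), (2, 23, true), (1, 25, true), (5, 20, true), (4, 23, true), (3, 23, true), (2, 25, true), (0, 5, true), (3, 19, true), (2, 24, true), (1, 24, true), (0, 26, true), (3, 24, true), (2, 24, true), (1, 26, true), (4, 23, true), (3, 23, true), (2, 25, true), (5, 22, true), (4, 22, true), (9, 9, true), (8, 17, true), (7, 21, true), (6, 24, true), (5, 24, true), (4, 26, true), (3, 26, true), (2, 27, true), (0, 6, true), (6, 17, true), (5, 21, true), (4, 24, true), (3, 24, true), (2, 26, true), (1, 26, true), (0, 27, true), (7, 16, true), (6, 20, true), (5, 23, true), (4, 23, true), (3, 25, true), (2, 25, true), (8, 14, true), (7, 20, true), (6, 23, true), (5, 23, true), (4, 25, true), (3, 25, true), (1, 5, true), (5, 18, true), (4, 24, true),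 (3, 24, true), (2, 26, true), (1, 26, true), (5, 24, true), (4, 24, true), (3, 26, true), (2, 26, true), (0, 6, true), (2, 3, true), (4, 9, true), (3, 17, true), (2, 21, true), (1, 26, true), (0, 26, true), (4, 17, true), (3, 21, true), (2, 26, true), (1, 26, true), (5, 16, true), (4, 20, true), (3, 25, true), (2, 25, true), (6, 14, true), (5, 20, true), (4, 25, true), (3, 25, true), (6, 18, true), (5, 26, true), (4, 26, true), (3, 27, true), (2, 27, true), (0, 6, true), (3, 26, true), (2, 26, true), (1, 27, true), (0, 27, true), (8, 8, true), (7, 16, true), (6, 20, true), (5, 23, true), (4, 25, true), (3, 25, true), (1, 5, true), (5, 15, true), (4, 21, true), (3, 24, true), (2, 26, true), (1, 26, true), (5, 21, true), (4, 24, true), (3, 26, true), (2, 26, true), (0, 6, true), (3, 20, true), (2, 23, true), (1, 25, true), (0, 25, true), (4, 20, true), (3, 23, true), (2, 25, true), (1, 25, true), (5, 19, true), (4, 24, true), (3, 26, true), (2, 26, true), (1, 27, true), (0, 27, true), (5, 24, true), (4, 26, true), (3, 26, true), (2, 27, true), (1, 27, true), (6, 23, true), (5, 25, true), (4, 25,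 true), (2, 5, true), (4, 22, true), (2, 4, true), (4, 14, true), (3, 20, true), (2, 23, true), (4, 18, true), (3, 24, true), (2, 27, true), (0, 6, true), (1, 24, true), (0, 27, true), (5, 14, true), (4, 20, true), (3, 23, true), (2, 23, true), (5, 18, true), (4, 24, true), (3, 24, true), (2, 27, true), (1, 27, true), (5, 24, true), (4, 24, true), (3, 27, true), (2, 27, true), (0, 6, true), (2, 3, true), (3, 13, true), (2, 18, true), (1, 27, true), (0, 27, true), (2, 27, true), (1, 27, true), (5, 18, true), (4, 24, true), (3, 27, true), (2, 27, true), (0, 6, true), (2, 24, true), (1, 27, true), (0, 27, true), (9, 7, true), (8, 12, true), (7, 17, true), (6, 21, true), (5, 21, true), (4, 24, true), (3, 24, true), (2, 27, true), (1, 27, true), (9, 11, true), (8, 16, true), (7, 20, true), (6, 20, true), (5, 23, true), (4, 23, true), (2, 5, true), (7, 10, true), (6, 17, true), (5, 21, true), (4, 21, true), (3, 24, true), (2, 24, true), (0, 6, true), (4, 15, true), (3, 21, true), (2, 21, true), (1, 24, true), (0, 24, true), (4, 21, true), (3, 21, true), (2, 24, true), (1, 24, true), (5, 20, true),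 (4, 20, true), (3, 23, true), (2, 23, true), (6, 20, true), (5, 20, true), (4, 23, true), (3, 23, true), (7, 19, true), (6, 21, true), (5, 24, true), (4, 24, true), (3, 27, true), (2, 27, true), (0, 6, true), (4, 21, true), (3, 24, true), (2, 24, true), (1, 27, true), (0, 27, true), (5, 20, true), (4, 23, true), (3, 23, true), (1, 5, true), (3, 19, true), (2, 24, true), (1, 24, true), (3, 24, true), (2, 24, true), (0, 6, true), (1, 23, true), (0, 23, true), (2, 22, true), (1, 22, true), (7, 10, true), (6, 17, true), (5, 21, true), (4, 21, true), (3, 24, true), (2, 24, true), (1, 26, true), (0, 27, true), (7, 15, true), (6, 21, true), (5, 21, true), (4, 24, true), (3, 24, true), (2, 26, true), (1, 27, true), (7, 21, true), (6, 21, true), (5, 24, true), (4, 24, true), (3, 26, true), (2, 27, true), (0, 6, true), (5, 20, true), (4, 20, true), (3, 23, true), (2, 23, true), (1, 25, true), (6, 20, true), (5, 20, true), (4, 23, true), (3, 23, true), (2, 25, true), (0, 5, true), (4, 19, true), (3, 21, true), (2, 24, true), (1, 24, true), (0, 26, true), (4, 21, true), (3, 24, true), (2, 24, true), (1,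 26, true), (5, 20, true), (4, 23, true), (3, 23, true), (2, 25, true), (6, 19, true), (5, 24, true), (4, 24, true), (3, 26, true), (2, 27, true), (0, 6, true), (3, 24, true), (2, 24, true), (1, 26, true), (0, 27, true), (4, 23, true), (3, 23, true), (2, 25, true), (5, 22, true), (4, 22, true), (10, 7, true), (9, 17, true), (8, 21, true), (7, 21, true), (6, 24, true), (5, 24, true), (4, 26, true), (3, 26, true), (2, 27, true), (1, 27, true), (10, 16, true), (9, 20, true), (8, 20, true), (7, 23, true), (6, 23, true), (5, 25, true), (4, 25, true), (2, 5, true), (8, 15, true), (7, 21, true), (6, 21, true), (5, 24, true), (4, 24, true), (3, 26, true), (2, 26, true), (0, 6, true), (5, 21, true), (4, 21, true), (3, 24, true), (2, 24, true), (1, 26, true), (0, 26, true), (6, 20, true), (5, 20, true), (4, 23, true), (3, 23, true), (2, 25, true), (1, 25, true), (7, 20, true), (6, 20, true), (5, 23, true), (4, 23, true), (3, 25, true), (2, 25, true), (8, 19, true), (7, 21, true), (6, 24, true), (5, 24, true), (4, 26, true), (3, 26, true), (2, 27, true), (1, 27, true), (8, 21, true), (7, 24, true), (6,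 24, true), (5, 26, true), (4, 26, true), (3, 27, true), (2, 27, true), (0, 6, true), (6, 20, true), (5, 23, true), (4, 23, true), (3, 25, true), (2, 25, true), (0, 5, true), (4, 19, true), (3, 24, true), (2, 24, true), (1, 26, true), (0, 26, true), (4, 24, true), (3, 24, true), (2, 26, true), (1, 26, true), (5, 23, true), (4, 23, true), (3, 25, true), (2, 25, true), (6, 22, true), (5, 22, true), (3, 4, true), (7, 15, true), (6, 21, true), (5, 21, true), (4, 24, true), (3, 24, true), (2, 27, true), (0, 6, true), (4, 21, true), (3, 21, true), (2, 24, true), (1, 24, true), (0, 27, true), (5, 20, true), (4, 20, true), (3, 23, true), (2, 23, true), (6, 20, true), (5, 20, true), (4, 23, true), (3, 23, true), (1, 5, true), (4, 19, true), (3, 21, true), (2, 24, true), (1, 24, true), (4, 21, true), (3, 24, true), (2, 24, true), (0, 6, true), (2, 20, true), (1, 23, true), (0, 23, true), (3, 19, true), (2, 24, true), (1, 24, true), (0, 27, true), (3, 24, true), (2, 24, true), (1, 27, true), (4, 23, true), (3, 23, true), (5, 22, true), (4, 22, true), (11, 0, true), (10, 17, true), (9, 17, true), (8, 21,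 true), (7, 21, true), (6, 24, true), (5, 24, true), (4, 26, true), (3, 27, true), (2, 27, true), (0, 6, true), (8, 17, true), (7, 17, true), (6, 21, true), (5, 21, true), (4, 24, true), (3, 24, true), (2, 26, true), (1, 27, true), (0, 27, true), (9, 16, true), (8, 16, true), (7, 20, true), (6, 20, true), (5, 23, true), (4, 23, true), (3, 25, true), (1, 5, true), (8, 10, true), (7, 17, true), (6, 17, true), (5, 21, true), (4, 21, true), (3, 24, true), (2, 24, true), (1, 26, true), (8, 15, true), (7, 17, true), (6, 21, true), (5, 21, true), (4, 24, true), (3, 24, true), (2, 26, true), (0, 6, true), (5, 17, true), (4, 21, true), (3, 21, true), (2, 24, true), (1, 24, true), (0, 26, true), (6, 16, true), (5, 20, true), (4, 20, true), (3, 23, true), (2, 23, true), (1, 25, true), (7, 16, true), (6, 20, true), (5, 20, true), (4, 23, true), (3, 23, true), (2, 25, true), (8, 15, true), (7, 21, true), (6, 21, true), (5, 24, true), (4, 24, true), (3, 26, true), (2, 27, true), (1, 27, true), (8, 21, true), (7, 21, true), (6, 24, true), (5, 24, true), (4, 26, true), (3, 27, true), (2, 27, true), (0, 6, true),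 (6, 20, true), (5, 20, true), (4, 23, true), (3, 23, true), (2, 25, true), (0, 5, true), (4, 20, true), (3, 20, true), (2, 23, true), (1, 23, true), (0, 25, true), (5, 19, true), (4, 21, true), (3, 24, true), (2, 24, true), (1, 26, true), (0, 27, true), (5, 21, true), (4, 24, true), (3, 24, true), (2, 26, true), (1, 27, true), (6, 20, true), (5, 23, true), (4, 23, true), (3, 25, true), (7, 19, true), (6, 24, true), (5, 24, true), (4, 26, true), (3, 27, true), (2, 27, true), (0, 6, true), (4, 24, true), (3, 24, true), (2, 26, true), (1, 27, true), (0, 27, true), (5, 23, true), (4, 23, true), (3, 25, true), (1, 5, true), (3, 22, true), (2, 22, true), (9, 10, true), (8, 17, true), (7, 17, true), (6, 21, true), (5, 21, true), (4, 24, true), (3, 24, true), (2, 26, true), (1, 26, true), (9, 15, true), (8, 17, true), (7, 21, true), (6, 21, true), (5, 24, true), (4, 24, true), (3, 26, true), (2, 26, true), (0, 6, true), (6, 17, true), (5, 21, true), (4, 21, true), (3, 24, true), (2, 24, true), (1, 26, true), (0, 26, true), (7, 16, true), (6, 20, true), (5, 20, true), (4, 23, true), (3, 23, true), (2,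 25, true), (1, 25, true), (8, 16, true), (7, 20, true), (6, 20, true), (5, 23, true), (4, 23, true), (3, 25, true), (2, 25, true), (9, 15, true), (8, 21, true), (7, 21, true), (6, 24, true), (5, 24, true), (4, 26, true), (3, 26, true), (2, 27, true), (1, 27, true), (9, 21, true), (8, 21, true), (7, 24, true), (6, 24, true), (5, 26, true), (4, 26, true), (3, 27, true), (2, 27, true), (0, 6, true), (7, 20, true), (6, 20, true), (5, 23, true), (4, 23, true), (3, 25, true), (2, 25, true), (0, 5, true), (5, 20, true), (4, 20, true), (3, 23, true), (2, 23, true), (1, 25, true), (0, 25, true), (6, 19, true), (5, 21, true), (4, 24, true), (3, 24, true), (2, 26, true), (1, 26, true), (0, 27, true), (6, 21, true), (5, 24, true), (4, 24, true), (3, 26, true), (2, 26, true), (1, 27, true), (7, 20, true), (6, 23, true), (5, 23, true), (4, 25, true), (3, 25, true), (8, 19, true), (7, 24, true), (6, 24, true), (5, 26, true), (4, 26, true), (3, 27, true), (2, 27, true), (0, 6, true), (5, 24, true), (4, 24, true), (3, 26, true), (2, 26, true), (1, 27, true), (0, 27, true), (6, 23, true), (5, 23, true), (4, 25,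 true), (3, 25, true), (1, 5, true), (4, 22, true), (3, 22, true), (1, 4, true), (7, 9, true), (6, 17, true), (5, 17, true), (4, 21, true), (3, 21, true), (2, 24, true), (1, 24, true), (7, 17, true), (6, 17, true), (5, 21, true), (4, 21, true), (3, 24, true), (2, 24, true), (0, 6, true), (5, 16, true), (4, 16, true), (3, 20, true), (2, 20, true), (1, 23, true), (0, 23, true), (6, 14, true), (5, 16, true), (4, 20, true), (3, 20, true), (2, 23, true), (1, 23, true), (6, 14, true), (5, 20, true), (4, 20, true), (3, 23, true), (2, 23, true), (0, 5, true), (3, 18, true), (2, 21, true), (1, 24, true), (0, 24, true), (3, 21, true), (2, 24, true), (1, 24, true), (4, 18, true), (3, 24, true), (2, 24, true), (0, 6, true), (1, 24, true), (0, 24, true), (1, 3, true), (5, 8, true), (4, 16, true), (3, 16, true), (2, 20, true), (1, 20, true), (5, 15, true), (4, 17, true), (3, 21, true), (2, 21, true), (1, 27, true), (5, 17, true), (4, 21, true), (3, 21, true), (2, 27, true), (0, 6, true), (3, 16, true), (2, 20, true), (1, 20, true), (4, 16, true), (3, 20, true), (2, 20, true), (0, 5, true), (2, 15, true), (1,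 21, true), (0, 21, true), (2, 21, true), (1, 21, true), (3, 20, true), (2, 20, true), (4, 20, true), (3, 20, true), (5, 19, true), (4, 21, true), (3, 27, true), (2, 27, true), (0, 6, true), (2, 21, true), (1, 27, true), (0, 27, true), (3, 20, true), (1, 5, true), (1, 19, true), (0, 6, true), (5, 14, true), (4, 16, true), (3, 20, true), (2, 20, true), (1, 25, true), (5, 14, true), (4, 20, true), (3, 20, true), (2, 25, true), (0, 5, true), (2, 18, true), (1, 21, true), (0, 26, true), (2, 21, true), (1, 26, true), (3, 18, true), (2, 26, true), (0, 6, true), (0, 26, true), (6, 14, true), (5, 16, true), (4, 20, true), (3, 20, true), (2, 23, true), (1, 25, true), (6, 14, true), (5, 20, true), (4, 20, true), (3, 23, true), (2, 25, true), (6, 18, true), (5, 21, true), (4, 24, true), (3, 26, true), (2, 27, true), (1, 27, true), (6, 21, true), (5, 24, true), (4, 26, true), (3, 27, true), (2, 27, true), (0, 6, true), (4, 18, true), (3, 24, true), (2, 26, true), (1, 27, true), (0, 27, true), (4, 24, true), (3, 26, true), (2, 27, true), (1, 27, true), (10, 13, true), (9, 14, true), (8, 20, true), (7, 20,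 true), (6, 23, true), (5, 23, true), (4, 25, true), (2, 5, true), (6, 18, true), (5, 21, true), (4, 24, true), (3, 24, true), (2, 26, true), (0, 6, true), (3, 21, true), (2, 24, true), (1, 24, true), (0, 26, true), (4, 18, true), (3, 24, true), (2, 24, true), (1, 26, true), (4, 24, true), (3, 24, true), (2, 26, true), (0, 6, true), (1, 3, true), (3, 14, true), (2, 20, true), (1, 20, true), (0, 25, true), (3, 18, true), (2, 21, true), (1, 26, true), (0, 27, true), (3, 21, true), (2, 26, true), (1, 27, true), (4, 18, true), (3, 26, true), (2, 27, true), (0, 6, true), (1, 26, true), (0, 27, true), (6, 13, true), (5, 18, true), (4, 21, true), (3, 24, true), (2, 26, true), (1, 27, true), (5, 21, true), (4, 24, true), (3, 26, true), (2, 27, true), (0, 6, true), (3, 18, true), (2, 24, true), (1, 26, true), (0, 27, true), (3, 24, true), (2, 26, true), (1, 27, true), (7, 18, true), (6, 21, true), (5, 24, true), (4, 24, true), (3, 26, true), (2, 27, true), (0, 6, true), (4, 21, true), (3, 24, true), (2, 24, true), (1, 26, true), (0, 27, true), (5, 18, true), (4, 24, true), (3, 24, true), (2, 26, true),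 (1, 27, true), (5, 24, true), (4, 24, true), (3, 26, true), (2, 27, true), (0, 6, true), (2, 3, true), (2, 2, true), (1, 26, true), (0, 27, true), (2, 26, true), (1, 27, true), (3, 25, true), (7, 7, true), (6, 17, true), (5, 17, true), (4, 26, true), (3, 27, true), (2, 27, true), (0, 6, true), (4, 16, true), (3, 16, true), (2, 25, true), (0, 5, true), (2, 15, true), (1, 17, true), (0, 26, true), (2, 17, true), (1, 26, true), (3, 16, true), (2, 25, true), (4, 16, true), (3, 25, true), (5, 15, true), (4, 26, true), (3, 27, true), (2, 27, true), (0, 6, true), (2, 26, true), (1, 27, true), (0, 27, true), (3, 25, true), (1, 5, true), (1, 25, true), (5, 15, true), (4, 17, true), (3, 26, true), (2, 26, true), (1, 27, true), (5, 17, true), (4, 26, true), (3, 26, true), (2, 27, true), (0, 6, true), (3, 16, true), (2, 25, true), (1, 25, true), (4, 16, true), (3, 25, true), (2, 25, true), (0, 5, true), (2, 15, true), (1, 26, true), (0, 26, true), (2, 26, true), (1, 26, true), (3, 25, true), (2, 25, true), (4, 25, true), (3, 25, true), (4, 4, true), (4, 1, true), (3, 27, true), (2, 27, true), (0, 6, true),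 (1, 27, true), (0, 27, true), (3, 0, true), (2, 27, true), (1, 27, true), (3, 27, true), (2, 27, true), (0, 6, true), (0, 5, true)], [(7, 10, true), (6, 17, true), (5, 17, true), (4, 21, true), (3, 21, true), (2, 24, true), (1, 26, true), (0, 26, true), (7, 15, true), (6, 17, true), (5, 21, true), (4, 21, true), (3, 24, true), (2, 26, true), (1, 26, true), (7, 17, true), (6, 21, true), (5, 21, true), (4, 24, true), (3, 26, true), (2, 26, true), (0, 6, true), (5, 16, true), (4, 20, true), (3, 20, true), (2, 23, true), (1, 25, true), (0, 25, true), (6, 16, true), (5, 20, true), (4, 20, true), (3, 23, true), (2, 25, true), (1, 25, true), (7, 15, true), (6, 21, true), (5, 21, true), (4, 24, true), (3, 26, true), (2, 26, true), (1, 27, true), (0, 27, true), (7, 21, true), (6, 21, true), (5, 24, true), (4, 26, true), (3, 26, true), (2, 27, true), (1, 27, true), (8, 20, true), (7, 20, true), (6, 23, true), (5, 25, true), (4, 25, true), (2, 5, true), (6, 20, true), (5, 20, true), (4, 23, true), (3, 25, true), (2, 25, true), (7, 19, true), (6, 21, true), (5, 24, true), (4, 26, true), (3, 26, true), (2,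 27, true), (0, 6, true), (4, 21, true), (3, 24, true), (2, 26, true), (1, 26, true), (0, 27, true), (5, 20, true), (4, 23, true), (3, 25, true), (2, 25, true), (6, 19, true), (5, 24, true), (4, 26, true), (3, 26, true), (2, 27, true), (1, 27, true), (6, 24, true), (5, 26, true), (4, 26, true), (3, 27, true), (2, 27, true), (0, 6, true), (4, 23, true), (3, 25, true), (2, 25, true), (0, 5, true), (2, 22, true), (0, 4, true), (5, 10, true), (4, 17, true), (3, 17, true), (2, 21, true), (1, 21, true), (0, 24, true), (5, 15, true), (4, 17, true), (3, 21, true), (2, 21, true), (1, 24, true), (5, 17, true), (4, 21, true), (3, 21, true), (2, 24, true), (0, 6, true), (3, 16, true), (2, 20, true), (1, 20, true), (0, 23, true), (4, 16, true), (3, 20, true), (2, 20, true), (1, 23, true), (5, 15, true), (4, 21, true), (3, 21, true), (2, 24, true), (1, 27, true), (0, 27, true), (5, 21, true), (4, 21, true), (3, 24, true), (2, 27, true), (1, 27, true), (6, 20, true), (5, 20, true), (4, 23, true), (2, 5, true), (4, 20, true), (3, 20, true), (2, 23, true), (5, 19, true), (4, 21, true), (3, 24, true), (2, 27,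 true), (0, 6, true), (2, 21, true), (1, 24, true), (0, 27, true), (3, 20, true), (2, 23, true), (4, 19, true), (3, 24, true), (2, 27, true), (1, 27, true), (4, 24, true), (3, 27, true), (2, 27, true), (0, 6, true), (2, 23, true), (0, 5, true), (0, 22, true), (6, 9, true), (5, 17, true), (4, 17, true), (3, 21, true), (2, 21, true), (1, 24, true), (0, 26, true), (6, 17, true), (5, 17, true), (4, 21, true), (3, 21, true), (2, 24, true), (1, 26, true), (7, 16, true), (6, 16, true), (5, 20, true), (4, 20, true), (3, 23, true), (2, 25, true), (8, 14, true), (7, 16, true), (6, 20, true), (5, 20, true), (4, 23, true), (3, 25, true), (8, 14, true), (7, 20, true), (6, 20, true), (5, 23, true), (4, 25, true), (2, 5, true), (5, 18, true), (4, 21, true), (3, 24, true), (2, 26, true), (0, 6, true), (2, 21, true), (1, 24, true), (0, 26, true), (3, 18, true), (2, 24, true), (1, 26, true), (3, 24, true), (2, 26, true), (0, 6, true), (7, 8, true), (6, 16, true), (5, 16, true), (4, 20, true), (3, 20, true), (2, 23, true), (1, 23, true), (0, 25, true), (7, 15, true), (6, 17, true), (5, 21, true), (4, 21, true),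 (3, 24, true), (2, 24, true), (1, 26, true), (0, 27, true), (7, 17, true), (6, 21, true), (5, 21, true), (4, 24, true), (3, 24, true), (2, 26, true), (1, 27, true), (8, 16, true), (7, 20, true), (6, 20, true), (5, 23, true), (4, 23, true), (3, 25, true), (9, 16, true), (8, 20, true), (7, 20, true), (6, 23, true), (5, 23, true), (4, 25, true), (2, 5, true), (7, 15, true), (6, 21, true), (5, 21, true), (4, 24, true), (3, 24, true), (2, 26, true), (0, 6, true), (4, 21, true), (3, 21, true), (2, 24, true), (1, 24, true), (0, 26, true), (5, 20, true), (4, 20, true), (3, 23, true), (2, 23, true), (1, 25, true), (6, 20, true), (5, 20, true), (4, 23, true), (3, 23, true), (2, 25, true), (7, 19, true), (6, 21, true), (5, 24, true), (4, 24, true), (3, 26, true), (2, 27, true), (1, 27, true), (7, 21, true), (6, 24, true), (5, 24, true), (4, 26, true), (3, 27, true), (2, 27, true), (0, 6, true), (5, 20, true), (4, 23, true), (3, 23, true), (2, 25, true), (0, 5, true), (3, 19, true), (2, 24, true), (1, 24, true), (0, 26, true), (3, 24, true), (2, 24, true), (1, 26, true), (4, 23, true), (3, 23, true), (2,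 25, true), (5, 22, true), (4, 22, true), (10, 14, true), (9, 16, true), (8, 20, true), (7, 20, true), (6, 23, true), (5, 23, true), (4, 25, true), (3, 25, true), (10, 14, true), (9, 20, true), (8, 20, true), (7, 23, true), (6, 23, true), (5, 25, true), (4, 25, true), (2, 5, true), (7, 18, true), (6, 21, true), (5, 24, true), (4, 24, true), (3, 26, true), (2, 26, true), (0, 6, true), (4, 21, true), (3, 24, true), (2, 24, true), (1, 26, true), (0, 26, true), (5, 18, true), (4, 24, true), (3, 24, true), (2, 26, true), (1, 26, true), (5, 24, true), (4, 24, true), (3, 26, true), (2, 26, true), (0, 6, true), (2, 3, true), (5, 14, true), (4, 16, true), (3, 20, true), (2, 20, true), (1, 25, true), (0, 25, true), (5, 14, true), (4, 20, true), (3, 20, true), (2, 25, true), (1, 25, true), (5, 18, true), (4, 21, true), (3, 26, true), (2, 26, true), (1, 27, true), (0, 27, true), (5, 21, true), (4, 26, true), (3, 26, true), (2, 27, true), (1, 27, true), (6, 18, true), (5, 26, true), (4, 26, true), (3, 27, true), (2, 27, true), (0, 6, true), (3, 26, true), (2, 26, true), (1, 27, true), (0, 27, true), (9, 13,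 true), (8, 14, true), (7, 20, true), (6, 20, true), (5, 23, true), (4, 25, true), (3, 25, true), (1, 5, true), (5, 18, true), (4, 21, true), (3, 24, true), (2, 26, true), (1, 26, true), (5, 21, true), (4, 24, true), (3, 26, true), (2, 26, true), (0, 6, true), (3, 18, true), (2, 24, true), (1, 26, true), (0, 26, true), (3, 24, true), (2, 26, true), (1, 26, true), (8, 14, true), (7, 20, true), (6, 20, true), (5, 23, true), (4, 23, true), (3, 25, true), (2, 25, true), (8, 18, true), (7, 21, true), (6, 24, true), (5, 24, true), (4, 26, true), (3, 26, true), (2, 27, true), (0, 6, true), (5, 21, true), (4, 24, true), (3, 24, true), (2, 26, true), (1, 26, true), (0, 27, true), (6, 18, true), (5, 24, true), (4, 24, true), (3, 26, true), (2, 26, true), (1, 27, true), (6, 24, true), (5, 24, true), (4, 26, true), (3, 26, true), (2, 27, true), (0, 6, true), (3, 3, true), (5, 13, true), (4, 18, true), (3, 21, true), (2, 26, true), (1, 26, true), (0, 27, true), (4, 21, true), (3, 26, true), (2, 26, true), (1, 27, true), (5, 18, true), (4, 26, true), (3, 26, true), (2, 27, true), (0, 6, true), (2, 26, true),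 (1, 26, true), (0, 27, true), (6, 18, true), (5, 21, true), (4, 24, true), (3, 26, true), (2, 26, true), (1, 27, true), (6, 21, true), (5, 24, true), (4, 26, true), (3, 26, true), (2, 27, true), (0, 6, true), (4, 18, true), (3, 24, true), (2, 26, true), (1, 26, true), (0, 27, true), (4, 24, true), (3, 26, true), (2, 26, true), (1, 27, true), (7, 2, true), (6, 24, true), (5, 24, true), (4, 26, true), (3, 26, true), (2, 27, true), (0, 6, true), (4, 24, true), (3, 24, true), (2, 26, true), (1, 26, true), (0, 27, true), (5, 23, true), (4, 23, true), (3, 25, true), (2, 25, true), (9, 8, true), (8, 16, true), (7, 16, true), (6, 23, true), (5, 23, true), (4, 25, true), (3, 25, true), (1, 5, true), (6, 15, true), (5, 17, true), (4, 24, true), (3, 24, true), (2, 26, true), (1, 26, true), (6, 17, true), (5, 24, true), (4, 24, true), (3, 26, true), (2, 26, true), (0, 6, true), (4, 16, true), (3, 23, true), (2, 23, true), (1, 25, true), (0, 25, true), (5, 16, true), (4, 23, true), (3, 23, true), (2, 25, true), (1, 25, true), (6, 15, true), (5, 24, true), (4, 24, true), (3, 26, true), (2, 26, true), (1,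 27, true), (0, 27, true), (6, 24, true), (5, 24, true), (4, 26, true), (3, 26, true), (2, 27, true), (1, 27, true), (7, 23, true), (6, 23, true), (5, 25, true), (4, 25, true), (2, 5, true), (5, 23, true), (4, 23, true), (3, 25, true), (2, 25, true), (6, 22, true), (5, 22, true), (3, 4, true), (6, 14, true), (5, 16, true), (4, 23, true), (3, 23, true), (6, 14, true), (5, 23, true), (4, 23, true), (2, 5, true), (2, 3, true), (3, 14, true), (2, 16, true), (3, 14, true), (6, 13, true), (5, 14, true), (4, 23, true), (2, 5, true), (4, 14, true), (3, 23, true), (2, 23, true), (3, 3, true), (3, 13, true), (8, 7, true), (7, 17, true), (6, 17, true), (5, 21, true), (4, 24, true), (3, 24, true), (2, 27, true), (0, 6, true), (5, 16, true), (4, 16, true), (3, 20, true), (2, 23, true), (1, 23, true), (6, 15, true), (5, 17, true), (4, 21, true), (3, 24, true), (2, 24, true), (1, 27, true), (0, 27, true), (6, 17, true), (5, 21, true), (4, 24, true), (3, 24, true), (2, 27, true), (1, 27, true), (7, 16, true), (6, 20, true), (5, 23, true), (4, 23, true), (2, 5, true), (5, 16, true), (4, 20, true), (3, 23, true),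 (2, 23, true), (6, 15, true), (5, 21, true), (4, 24, true), (3, 24, true), (2, 27, true), (0, 6, true), (3, 21, true), (2, 24, true), (1, 24, true), (0, 27, true), (4, 20, true), (3, 23, true), (2, 23, true), (5, 20, true), (4, 23, true), (3, 23, true), (1, 5, true), (3, 19, true), (2, 24, true), (1, 24, true), (3, 24, true), (2, 24, true), (0, 6, true), (1, 23, true), (0, 23, true), (2, 22, true), (1, 22, true), (6, 15, true), (5, 17, true), (4, 21, true), (3, 24, true), (2, 24, true), (1, 26, true), (0, 27, true), (6, 17, true), (5, 21, true), (4, 24, true), (3, 24, true), (2, 26, true), (1, 27, true), (7, 16, true), (6, 20, true), (5, 23, true), (4, 23, true), (3, 25, true), (8, 16, true), (7, 20, true), (6, 23, true), (5, 23, true), (4, 25, true), (2, 5, true), (6, 15, true), (5, 21, true), (4, 24, true), (3, 24, true), (2, 26, true), (0, 6, true), (3, 21, true), (2, 24, true), (1, 24, true), (0, 26, true), (4, 20, true), (3, 23, true), (2, 23, true), (1, 25, true), (5, 20, true), (4, 23, true), (3, 23, true), (2, 25, true), (6, 19, true), (5, 24, true), (4, 24, true), (3, 26, true), (2,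 27, true), (1, 27, true), (6, 24, true), (5, 24, true), (4, 26, true), (3, 27, true), (2, 27, true), (0, 6, true), (4, 23, true), (3, 23, true), (2, 25, true), (0, 5, true), (2, 22, true), (1, 22, true), (5, 1, true), (4, 21, true), (3, 24, true), (2, 24, true), (1, 26, true), (0, 26, true), (5, 21, true), (4, 24, true), (3, 24, true), (2, 26, true), (1, 26, true), (7, 7, true), (6, 21, true), (5, 24, true), (4, 24, true), (3, 26, true), (2, 26, true), (0, 6, true), (4, 20, true), (3, 23, true), (2, 23, true), (1, 25, true), (0, 25, true), (5, 19, true), (4, 24, true), (3, 24, true), (2, 26, true), (1, 26, true), (0, 27, true), (5, 24, true), (4, 24, true), (3, 26, true), (2, 26, true), (1, 27, true), (6, 23, true), (5, 23, true), (4, 25, true), (3, 25, true), (7, 22, true), (6, 22, true), (4, 4, true), (6, 19, true), (5, 24, true), (4, 24, true), (3, 27, true), (2, 27, true), (0, 6, true), (3, 24, true), (2, 24, true), (1, 27, true), (0, 27, true), (4, 23, true), (3, 23, true), (1, 5, true), (2, 22, true), (1, 22, true), (7, 10, true), (6, 12, true), (5, 17, true), (4, 21, true), (3, 24, true),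 (2, 24, true), (1, 26, true), (7, 10, true), (6, 17, true), (5, 21, true), (4, 24, true), (3, 24, true), (2, 26, true), (0, 6, true), (4, 15, true), (3, 21, true), (2, 24, true), (1, 24, true), (0, 26, true), (4, 21, true), (3, 24, true), (2, 24, true), (1, 26, true), (5, 20, true), (4, 23, true), (3, 23, true), (2, 25, true), (6, 20, true), (5, 23, true), (4, 23, true), (3, 25, true), (7, 19, true), (6, 24, true), (5, 24, true), (4, 26, true), (3, 27, true), (2, 27, true), (0, 6, true), (4, 24, true), (3, 24, true), (2, 26, true), (1, 27, true), (0, 27, true), (5, 23, true), (4, 23, true), (3, 25, true), (1, 5, true), (3, 22, true), (2, 22, true), (8, 10, true), (7, 12, true), (6, 17, true), (5, 21, true), (4, 24, true), (3, 24, true), (2, 26, true), (1, 26, true), (8, 10, true), (7, 17, true), (6, 21, true), (5, 24, true), (4, 24, true), (3, 26, true), (2, 26, true), (0, 6, true), (5, 15, true), (4, 21, true), (3, 24, true), (2, 24, true), (1, 26, true), (0, 26, true), (5, 21, true), (4, 24, true), (3, 24, true), (2, 26, true), (1, 26, true), (6, 20, true), (5, 23, true), (4, 23, true), (3,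 25, true), (2, 25, true), (7, 20, true), (6, 23, true), (5, 23, true), (4, 25, true), (3, 25, true), (8, 19, true), (7, 24, true), (6, 24, true), (5, 26, true), (4, 26, true), (3, 27, true), (2, 27, true), (0, 6, true), (5, 24, true), (4, 24, true), (3, 26, true), (2, 26, true), (1, 27, true), (0, 27, true), (6, 23, true), (5, 23, true), (4, 25, true), (3, 25, true), (1, 5, true), (4, 22, true), (3, 22, true), (1, 4, true), (6, 9, true), (5, 12, true), (4, 17, true), (3, 21, true), (2, 24, true), (1, 24, true), (6, 12, true), (5, 17, true), (4, 21, true), (3, 24, true), (2, 24, true), (0, 6, true), (4, 11, true), (3, 16, true), (2, 20, true), (1, 23, true), (0, 23, true), (5, 9, true), (4, 17, true), (3, 21, true), (2, 24, true), (1, 24, true), (0, 27, true), (5, 17, true), (4, 21, true), (3, 24, true), (2, 24, true), (1, 27, true), (6, 16, true), (5, 20, true), (4, 23, true), (3, 23, true), (7, 14, true), (6, 20, true), (5, 23, true), (4, 23, true), (2, 5, true), (4, 18, true), (3, 24, true), (2, 24, true), (0, 6, true), (1, 24, true), (0, 24, true), (1, 3, true), (4, 8, true), (3, 11, true),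 (2, 16, true), (1, 20, true), (4, 10, true), (3, 17, true), (2, 21, true), (1, 27, true), (4, 15, true), (3, 21, true), (2, 27, true), (0, 6, true), (1, 21, true), (0, 27, true), (2, 20, true), (3, 20, true), (1, 5, true), (1, 19, true), (0, 6, true), (4, 9, true), (3, 17, true), (2, 21, true), (1, 26, true), (0, 27, true), (4, 17, true), (3, 21, true), (2, 26, true), (1, 27, true), (5, 16, true), (4, 20, true), (3, 25, true), (6, 14, true), (5, 20, true), (4, 25, true), (2, 5, true), (3, 18, true), (2, 26, true), (0, 6, true), (0, 26, true), (5, 9, true), (4, 17, true), (3, 21, true), (2, 24, true), (1, 26, true), (5, 17, true), (4, 21, true), (3, 24, true), (2, 26, true), (0, 6, true), (3, 16, true), (2, 20, true), (1, 23, true), (0, 25, true), (4, 14, true), (3, 20, true), (2, 23, true), (1, 25, true), (4, 18, true), (3, 24, true), (2, 26, true), (1, 27, true), (0, 27, true), (4, 24, true), (3, 26, true), (2, 27, true), (1, 27, true), (9, 8, true), (8, 16, true), (7, 20, true), (6, 23, true), (5, 23, true), (4, 25, true), (2, 5, true), (6, 15, true), (5, 21, true), (4, 24, true), (3, 24,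 true), (2, 26, true), (0, 6, true), (3, 21, true), (2, 24, true), (1, 24, true), (0, 26, true), (4, 20, true), (3, 23, true), (2, 23, true), (1, 25, true), (5, 20, true), (4, 23, true), (3, 23, true), (2, 25, true), (6, 19, true), (5, 24, true), (4, 24, true), (3, 26, true), (2, 27, true), (1, 27, true), (6, 24, true), (5, 24, true), (4, 26, true), (3, 27, true), (2, 27, true), (0, 6, true), (4, 23, true), (3, 23, true), (2, 25, true), (0, 5, true), (2, 22, true), (1, 22, true), (5, 14, true), (4, 20, true), (3, 23, true), (2, 23, true), (1, 25, true), (0, 25, true), (5, 18, true), (4, 24, true), (3, 24, true), (2, 26, true), (1, 26, true), (0, 27, true), (5, 24, true), (4, 24, true), (3, 26, true), (2, 26, true), (1, 27, true), (5, 3, true), (6, 14, true), (5, 20, true), (4, 25, true), (3, 25, true), (6, 18, true), (5, 26, true), (4, 26, true), (3, 27, true), (2, 27, true), (0, 6, true), (3, 26, true), (2, 26, true), (1, 27, true), (0, 27, true), (7, 13, true), (6, 18, true), (5, 24, true), (4, 26, true), (3, 26, true), (2, 27, true), (1, 27, true), (6, 24, true), (5, 26, true), (4, 26, true),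 (3, 27, true), (2, 27, true), (0, 6, true), (6, 18, true), (5, 24, true), (4, 24, true), (3, 26, true), (2, 26, true), (1, 27, true), (0, 27, true), (6, 24, true), (5, 24, true), (4, 26, true), (3, 26, true), (2, 27, true), (1, 27, true), (6, 3, true), (10, 8, true), (9, 11, true), (8, 16, true), (7, 20, true), (6, 20, true), (5, 25, true), (4, 25, true), (2, 5, true), (7, 10, true), (6, 17, true), (5, 21, true), (4, 21, true), (3, 26, true), (2, 26, true), (0, 6, true), (4, 15, true), (3, 21, true), (2, 21, true), (1, 26, true), (0, 26, true), (4, 21, true), (3, 21, true), (2, 26, true), (1, 26, true), (5, 20, true), (4, 20, true), (3, 25, true), (2, 25, true), (6, 20, true), (5, 20, true), (4, 25, true), (3, 25, true), (7, 19, true), (6, 21, true), (5, 26, true), (4, 26, true), (3, 27, true), (2, 27, true), (0, 6, true), (4, 21, true), (3, 26, true), (2, 26, true), (1, 27, true), (0, 27, true), (5, 20, true), (4, 25, true), (3, 25, true), (1, 5, true), (3, 19, true), (2, 26, true), (1, 26, true), (3, 26, true), (2, 26, true), (0, 6, true), (1, 25, true), (0, 25, true), (1, 4, true), (4, 9,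 true), (3, 17, true), (2, 21, true), (1, 21, true), (0, 27, true), (4, 17, true), (3, 21, true), (2, 21, true), (1, 27, true), (5, 16, true), (4, 20, true), (3, 20, true), (6, 14, true), (5, 20, true), (4, 20, true), (2, 5, true), (3, 18, true), (2, 21, true), (0, 6, true), (0, 21, true), (1, 18, true), (0, 6, true), (4, 9, true), (3, 17, true), (2, 21, true), (1, 21, true), (0, 24, true), (4, 17, true), (3, 21, true), (2, 21, true), (1, 24, true), (5, 16, true), (4, 20, true), (3, 20, true), (2, 23, true), (6, 14, true), (5, 20, true), (4, 20, true), (3, 23, true), (6, 18, true), (5, 21, true), (4, 24, true), (3, 27, true), (2, 27, true), (0, 6, true), (3, 21, true), (2, 24, true), (1, 27, true), (0, 27, true), (4, 18, true), (3, 24, true), (2, 27, true), (1, 27, true), (4, 24, true), (3, 27, true), (2, 27, true), (0, 6, true), (7, 8, true), (6, 16, true), (5, 20, true), (4, 20, true), (3, 23, true), (2, 23, true), (0, 5, true), (4, 15, true), (3, 21, true), (2, 21, true), (1, 24, true), (0, 24, true), (4, 21, true), (3, 21, true), (2, 24, true), (1, 24, true), (5, 20, true), (4, 20, true),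 (3, 23, true), (2, 23, true), (6, 20, true), (5, 20, true), (4, 23, true), (3, 23, true), (7, 19, true), (6, 21, true), (5, 24, true), (4, 24, true), (3, 27, true), (2, 27, true), (0, 6, true), (4, 21, true), (3, 24, true), (2, 24, true), (1, 27, true), (0, 27, true), (5, 20, true), (4, 23, true), (3, 23, true), (1, 5, true), (3, 19, true), (2, 24, true), (1, 24, true), (3, 24, true), (2, 24, true), (0, 6, true), (1, 23, true), (0, 23, true), (2, 22, true), (1, 22, true), (6, 14, true), (5, 20, true), (4, 20, true), (3, 23, true), (2, 23, true), (1, 25, true), (6, 18, true), (5, 21, true), (4, 24, true), (3, 24, true), (2, 26, true), (1, 27, true), (0, 27, true), (6, 21, true), (5, 24, true), (4, 24, true), (3, 26, true), (2, 27, true), (1, 27, true), (7, 18, true), (6, 24, true), (5, 24, true), (4, 26, true), (3, 27, true), (2, 27, true), (0, 6, true), (4, 24, true), (3, 24, true), (2, 26, true), (1, 27, true), (0, 27, true), (4, 3, true), (6, 14, true), (5, 20, true), (4, 20, true), (3, 25, true), (1, 5, true), (3, 18, true), (2, 21, true), (1, 26, true), (3, 21, true), (2, 26, true), (0,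 6, true), (1, 18, true), (0, 26, true), (1, 26, true), (6, 13, true), (5, 18, true), (4, 21, true), (3, 24, true), (2, 26, true), (0, 6, true), (2, 21, true), (1, 24, true), (0, 26, true), (3, 18, true), (2, 24, true), (1, 26, true), (3, 24, true), (2, 26, true), (0, 6, true), (4, 18, true), (3, 21, true), (2, 24, true), (1, 24, true), (0, 26, true), (4, 21, true), (3, 24, true), (2, 24, true), (1, 26, true), (5, 18, true), (4, 24, true), (3, 24, true), (2, 26, true), (0, 6, true), (2, 24, true), (1, 24, true), (0, 26, true), (2, 3, true), (2, 2, true), (1, 26, true), (2, 26, true), (0, 6, true), (0, 25, true), (4, 7, true), (3, 12, true), (2, 17, true), (1, 26, true), (0, 27, true), (4, 11, true), (3, 16, true), (2, 25, true), (5, 10, true), (4, 17, true), (3, 26, true), (2, 27, true), (1, 27, true), (5, 15, true), (4, 26, true), (3, 27, true), (2, 27, true), (0, 6, true), (2, 26, true), (1, 27, true), (0, 27, true), (3, 25, true), (1, 5, true), (1, 25, true), (5, 10, true), (4, 17, true), (3, 26, true), (2, 26, true), (1, 27, true), (5, 15, true), (4, 26, true), (3, 26, true), (2, 27, true),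 (0, 6, true), (2, 26, true), (1, 26, true), (0, 27, true), (3, 25, true), (2, 25, true), (4, 25, true), (3, 25, true), (1, 5, true), (1, 4, true), (2, 7, true), (1, 17, true), (2, 16, true), (3, 15, true), (2, 27, true), (0, 6, true), (0, 27, true), (1, 5, true), (2, 15, true), (1, 26, true), (2, 26, true), (0, 6, true), (0, 25, true), (1, 25, true), (7, 7, true), (6, 12, true), (5, 17, true), (4, 17, true), (3, 26, true), (2, 26, true), (1, 27, true), (0, 27, true), (7, 11, true), (6, 16, true), (5, 16, true), (4, 25, true), (3, 25, true), (1, 5, true), (5, 10, true), (4, 17, true), (3, 17, true), (2, 26, true), (1, 26, true), (5, 15, true), (4, 17, true), (3, 26, true), (2, 26, true), (0, 6, true), (2, 17, true), (1, 26, true), (0, 26, true), (3, 16, true), (2, 25, true), (1, 25, true), (4, 16, true), (3, 25, true), (2, 25, true), (5, 15, true), (4, 26, true), (3, 26, true), (2, 27, true), (1, 27, true), (5, 26, true), (4, 26, true), (3, 27, true), (2, 27, true), (0, 6, true), (3, 25, true), (2, 25, true), (0, 5, true), (1, 25, true), (0, 25, true), (1, 4, true), (3, 10, true), (2, 17, true),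 (1, 17, true), (0, 27, true), (3, 15, true), (2, 17, true), (1, 27, true), (3, 17, true), (2, 27, true), (0, 6, true), (1, 16, true), (2, 16, true), (0, 5, true), (0, 15, true), (7, 7, true), (6, 17, true), (5, 17, true), (4, 26, true), (3, 27, true), (2, 27, true), (0, 6, true), (4, 16, true), (3, 16, true), (2, 25, true), (0, 5, true), (2, 15, true), (1, 17, true), (0, 26, true), (2, 17, true), (1, 26, true), (3, 16, true), (2, 25, true), (4, 16, true), (3, 25, true), (5, 15, true), (4, 26, true), (3, 27, true), (2, 27, true), (0, 6, true), (2, 26, true), (1, 27, true), (0, 27, true), (3, 25, true), (1, 5, true), (1, 25, true), (5, 15, true), (4, 17, true), (3, 26, true), (2, 26, true), (1, 27, true), (5, 17, true), (4, 26, true), (3, 26, true), (2, 27, true), (0, 6, true), (3, 16, true), (2, 25, true), (1, 25, true), (4, 16, true), (3, 25, true), (2, 25, true), (0, 5, true), (2, 15, true), (1, 26, true), (0, 26, true), (2, 26, true), (1, 26, true), (3, 25, true), (2, 25, true), (4, 25, true), (3, 25, true), (4, 4, true), (4, 1, true), (3, 27, true), (2, 27, true), (0, 6, true), (1, 27, true),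 (0, 27, true), (3, 0, true), (2, 27, true), (1, 27, true), (3, 27, true), (2, 27, true), (0, 6, true), (0, 5, true)]),
    ([1, 1, 1], [5], [(6, 11, true), (5, 16, true), (4, 16, true), (3, 20, true), (2, 25, true), (0, 5, true), (4, 11, true), (3, 16, true), (2, 16, true), (1, 20, true), (0, 25, true), (5, 10, true), (4, 17, true), (3, 17, true), (2, 21, true), (1, 26, true), (0, 27, true), (5, 15, true), (4, 17, true), (3, 21, true), (2, 26, true), (1, 27, true), (5, 17, true), (4, 21, true), (3, 26, true), (2, 27, true), (0, 6, true), (3, 16, true), (2, 20, true), (1, 25, true), (4, 16, true), (3, 20, true), (2, 25, true), (0, 5, true), (2, 15, true), (1, 21, true), (0, 26, true), (2, 21, true), (1, 26, true), (3, 20, true), (2, 25, true), (4, 20, true), (3, 25, true), (5, 19, true), (4, 26, true), (3, 27, true), (2, 27, true), (0, 6, true), (2, 26, true), (1, 27, true), (0, 27, true), (3, 25, true), (1, 5, true), (6, 8, true), (5, 16, true), (4, 16, true), (3, 20, true), (2, 25, true), (1, 25, true), (6, 15, true), (5, 17, true), (4, 21, true), (3, 26, true), (2, 26, true), (1, 27, true),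 (6, 17, true), (5, 21, true), (4, 26, true), (3, 26, true), (2, 27, true), (0, 6, true), (4, 16, true), (3, 20, true), (2, 25, true), (1, 25, true), (5, 16, true), (4, 20, true), (3, 25, true), (2, 25, true), (0, 5, true), (3, 15, true), (2, 21, true), (1, 26, true), (0, 26, true), (3, 21, true), (2, 26, true), (1, 26, true), (4, 20, true), (3, 25, true), (2, 25, true), (5, 20, true), (4, 25, true), (3, 25, true), (6, 19, true), (5, 26, true), (4, 26, true), (3, 27, true), (2, 27, true), (0, 6, true), (3, 26, true), (2, 26, true), (1, 27, true), (0, 27, true), (4, 25, true), (3, 25, true), (1, 5, true), (1, 4, true), (3, 14, true), (2, 16, true), (1, 20, true), (3, 14, true), (2, 20, true), (3, 18, true), (2, 27, true), (1, 27, true), (3, 27, true), (2, 27, true), (0, 6, true), (5, 14, true), (4, 16, true), (3, 20, true), (2, 23, true), (0, 5, true), (2, 14, true), (1, 20, true), (0, 23, true), (2, 18, true), (1, 24, true), (0, 27, true), (2, 24, true), (1, 27, true), (7, 13, true), (6, 14, true), (5, 20, true), (4, 23, true), (3, 23, true), (6, 18, true), (5, 24, true), (4, 24, true), (3, 27,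 true), (2, 27, true), (0, 6, true), (3, 24, true), (2, 24, true), (1, 27, true), (0, 27, true), (3, 3, true), (4, 14, true), (3, 20, true), (1, 5, true), (1, 18, true), (0, 6, true), (2, 13, true), (1, 18, true), (0, 24, true), (1, 24, true), (4, 18, true), (3, 24, true), (2, 24, true), (0, 6, true), (1, 24, true), (0, 24, true), (1, 3, true), (5, 7, true), (4, 17, true), (3, 17, true), (2, 21, true), (1, 21, true), (5, 16, true), (4, 16, true), (3, 20, true), (2, 20, true), (6, 15, true), (5, 17, true), (4, 21, true), (3, 21, true), (2, 27, true), (0, 6, true), (3, 17, true), (2, 21, true), (1, 21, true), (0, 27, true), (4, 16, true), (3, 20, true), (2, 20, true), (5, 16, true), (4, 20, true), (3, 20, true), (1, 5, true), (3, 15, true), (2, 21, true), (1, 21, true), (3, 21, true), (2, 21, true), (0, 6, true), (1, 20, true), (0, 20, true), (2, 20, true), (1, 20, true), (3, 19, true), (2, 21, true), (1, 27, true), (0, 27, true), (3, 21, true), (2, 27, true), (1, 27, true), (4, 20, true), (2, 5, true), (2, 19, true), (0, 6, true), (6, 15, true), (5, 17, true), (4, 21, true), (3, 21, true), (2,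 26, true), (1, 27, true), (6, 17, true), (5, 21, true), (4, 21, true), (3, 26, true), (2, 27, true), (0, 6, true), (4, 16, true), (3, 20, true), (2, 20, true), (1, 25, true), (5, 16, true), (4, 20, true), (3, 20, true), (2, 25, true), (0, 5, true), (3, 15, true), (2, 21, true), (1, 21, true), (0, 26, true), (3, 21, true), (2, 21, true), (1, 26, true), (4, 20, true), (3, 20, true), (2, 25, true), (5, 20, true), (4, 20, true), (3, 25, true), (6, 19, true), (5, 21, true), (4, 26, true), (3, 27, true), (2, 27, true), (0, 6, true), (3, 21, true), (2, 26, true), (1, 27, true), (0, 27, true), (4, 20, true), (3, 25, true), (1, 5, true), (2, 19, true), (1, 26, true), (2, 26, true), (0, 6, true), (0, 25, true), (5, 1, true), (4, 21, true), (3, 21, true), (2, 26, true), (1, 26, true), (0, 27, true), (5, 21, true), (4, 21, true), (3, 26, true), (2, 26, true), (1, 27, true), (7, 7, true), (6, 21, true), (5, 21, true), (4, 26, true), (3, 26, true), (2, 27, true), (0, 6, true), (4, 20, true), (3, 20, true), (2, 25, true), (1, 25, true), (5, 19, true), (4, 21, true), (3, 26, true), (2, 26, true), (1, 27, true),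 (0, 27, true), (5, 21, true), (4, 26, true), (3, 26, true), (2, 27, true), (1, 27, true), (6, 20, true), (5, 25, true), (4, 25, true), (2, 5, true), (4, 19, true), (3, 26, true), (2, 26, true), (0, 6, true), (1, 26, true), (0, 26, true), (2, 25, true), (1, 25, true), (2, 4, true), (3, 19, true), (2, 21, true), (1, 27, true), (3, 21, true), (2, 27, true), (0, 6, true), (1, 20, true), (2, 19, true), (1, 27, true), (0, 27, true), (2, 27, true), (1, 27, true), (2, 5, true), (7, 11, true), (6, 11, true), (5, 16, true), (4, 20, true), (3, 20, true), (2, 25, true), (8, 11, true), (7, 11, true), (6, 16, true), (5, 20, true), (4, 20, true), (3, 25, true), (9, 10, true), (8, 12, true), (7, 17, true), (6, 21, true), (5, 21, true), (4, 26, true), (3, 27, true), (2, 27, true), (0, 6, true), (6, 10, true), (5, 17, true), (4, 21, true), (3, 21, true), (2, 26, true), (1, 27, true), (0, 27, true), (6, 15, true), (5, 21, true), (4, 21, true), (3, 26, true), (2, 27, true), (1, 27, true), (6, 21, true), (5, 21, true), (4, 26, true), (3, 27, true), (2, 27, true), (0, 6, true), (4, 20, true), (3, 20, true), (2, 25,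 true), (0, 5, true), (2, 20, true), (1, 20, true), (0, 25, true), (3, 19, true), (2, 21, true), (1, 26, true), (0, 27, true), (3, 21, true), (2, 26, true), (1, 27, true), (4, 20, true), (3, 25, true), (5, 19, true), (4, 26, true), (3, 27, true), (2, 27, true), (0, 6, true), (2, 26, true), (1, 27, true), (0, 27, true), (3, 25, true), (1, 5, true), (7, 8, true), (6, 11, true), (5, 16, true), (4, 20, true), (3, 20, true), (2, 25, true), (1, 25, true), (7, 10, true), (6, 17, true), (5, 21, true), (4, 21, true), (3, 26, true), (2, 26, true), (1, 27, true), (7, 15, true), (6, 21, true), (5, 21, true), (4, 26, true), (3, 26, true), (2, 27, true), (0, 6, true), (4, 21, true), (3, 21, true), (2, 26, true), (1, 26, true), (0, 27, true), (5, 20, true), (4, 20, true), (3, 25, true), (2, 25, true), (6, 20, true), (5, 20, true), (4, 25, true), (3, 25, true), (1, 5, true), (4, 19, true), (3, 21, true), (2, 26, true), (1, 26, true), (4, 21, true), (3, 26, true), (2, 26, true), (0, 6, true), (2, 20, true), (1, 25, true), (0, 25, true), (3, 19, true), (2, 26, true), (1, 26, true), (0, 27, true), (3, 26, true),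 (2, 26, true), (1, 27, true), (4, 25, true), (3, 25, true), (4, 4, true), (7, 9, true), (6, 17, true), (5, 21, true), (4, 21, true), (3, 27, true), (2, 27, true), (0, 6, true), (4, 17, true), (3, 21, true), (2, 21, true), (1, 27, true), (0, 27, true), (5, 16, true), (4, 20, true), (3, 20, true), (1, 5, true), (3, 14, true), (2, 20, true), (1, 20, true), (3, 18, true), (2, 21, true), (1, 27, true), (3, 21, true), (2, 27, true), (0, 6, true), (1, 18, true), (0, 27, true), (1, 27, true), (7, 9, true), (6, 17, true), (5, 21, true), (4, 21, true), (3, 24, true), (2, 27, true), (0, 6, true), (4, 17, true), (3, 21, true), (2, 21, true), (1, 24, true), (0, 27, true), (5, 16, true), (4, 20, true), (3, 20, true), (2, 23, true), (6, 14, true), (5, 20, true), (4, 20, true), (3, 23, true), (1, 5, true), (3, 18, true), (2, 21, true), (1, 24, true), (3, 21, true), (2, 24, true), (0, 6, true), (1, 18, true), (0, 24, true), (1, 24, true), (7, 8, true), (6, 16, true), (5, 20, true), (4, 20, true), (3, 23, true), (2, 23, true), (7, 15, true), (6, 21, true), (5, 21, true), (4, 24, true), (3, 24, true), (2, 27,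 true), (0, 6, true), (4, 21, true), (3, 21, true), (2, 24, true), (1, 24, true), (0, 27, true), (5, 20, true), (4, 20, true), (3, 23, true), (2, 23, true), (6, 20, true), (5, 20, true), (4, 23, true), (3, 23, true), (1, 5, true), (4, 19, true), (3, 21, true), (2, 24, true), (1, 24, true), (4, 21, true), (3, 24, true), (2, 24, true), (0, 6, true), (2, 20, true), (1, 23, true), (0, 23, true), (3, 19, true), (2, 24, true), (1, 24, true), (0, 27, true), (3, 24, true), (2, 24, true), (1, 27, true), (4, 23, true), (3, 23, true), (5, 22, true), (4, 22, true), (9, 14, true), (8, 20, true), (7, 20, true), (6, 23, true), (5, 23, true), (4, 25, true), (2, 5, true), (6, 18, true), (5, 21, true), (4, 24, true), (3, 24, true), (2, 26, true), (0, 6, true), (3, 21, true), (2, 24, true), (1, 24, true), (0, 26, true), (4, 18, true), (3, 24, true), (2, 24, true), (1, 26, true), (4, 24, true), (3, 24, true), (2, 26, true), (0, 6, true), (1, 3, true), (3, 14, true), (2, 20, true), (1, 20, true), (0, 25, true), (3, 18, true), (2, 21, true), (1, 26, true), (0, 27, true), (3, 21, true), (2, 26, true), (1, 27, true),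 (4, 18, true), (3, 26, true), (2, 27, true), (0, 6, true), (1, 26, true), (0, 27, true), (6, 13, true), (5, 18, true), (4, 21, true), (3, 24, true), (2, 26, true), (1, 27, true), (5, 21, true), (4, 24, true), (3, 26, true), (2, 27, true), (0, 6, true), (3, 18, true), (2, 24, true), (1, 26, true), (0, 27, true), (3, 24, true), (2, 26, true), (1, 27, true), (7, 18, true), (6, 21, true), (5, 24, true), (4, 24, true), (3, 26, true), (2, 27, true), (0, 6, true), (4, 21, true), (3, 24, true), (2, 24, true), (1, 26, true), (0, 27, true), (5, 18, true), (4, 24, true), (3, 24, true), (2, 26, true), (1, 27, true), (5, 24, true), (4, 24, true), (3, 26, true), (2, 27, true), (0, 6, true), (2, 3, true), (2, 2, true), (1, 26, true), (0, 27, true), (2, 26, true), (1, 27, true), (3, 25, true), (7, 7, true), (6, 12, true), (5, 17, true), (4, 26, true), (3, 27, true), (2, 27, true), (0, 6, true), (4, 11, true), (3, 16, true), (2, 25, true), (0, 5, true), (2, 10, true), (1, 17, true), (0, 26, true), (2, 15, true), (1, 26, true), (2, 26, true), (0, 6, true), (0, 25, true), (1, 25, true), (5, 10, true), (4, 17,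 true), (3, 26, true), (2, 26, true), (1, 27, true), (0, 27, true), (5, 15, true), (4, 26, true), (3, 26, true), (2, 27, true), (1, 27, true), (5, 26, true), (4, 26, true), (3, 27, true), (2, 27, true), (0, 6, true), (3, 25, true), (2, 25, true), (0, 5, true), (1, 25, true), (0, 25, true), (1, 4, true), (2, 7, true), (1, 17, true), (0, 27, true), (2, 16, true), (3, 15, true), (2, 27, true), (1, 27, true), (3, 27, true), (2, 27, true), (0, 6, true), (0, 5, true), (2, 15, true), (1, 26, true), (0, 27, true), (2, 26, true), (1, 27, true), (3, 25, true), (4, 25, true), (2, 5, true), (7, 7, true), (6, 12, true), (5, 17, true), (4, 17, true), (3, 26, true), (2, 26, true), (0, 6, true), (4, 11, true), (3, 16, true), (2, 16, true), (1, 25, true), (0, 25, true), (5, 10, true), (4, 17, true), (3, 17, true), (2, 26, true), (1, 26, true), (0, 27, true), (5, 15, true), (4, 17, true), (3, 26, true), (2, 26, true), (1, 27, true), (5, 17, true), (4, 26, true), (3, 26, true), (2, 27, true), (0, 6, true), (3, 16, true), (2, 25, true), (1, 25, true), (4, 16, true), (3, 25, true), (2, 25, true), (0, 5, true), (2,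 15, true), (1, 26, true), (0, 26, true), (2, 26, true), (1, 26, true), (3, 25, true), (2, 25, true), (4, 25, true), (3, 25, true), (4, 4, true), (6, 10, true), (5, 17, true), (4, 17, true), (3, 27, true), (2, 27, true), (0, 6, true), (3, 15, true), (2, 17, true), (1, 27, true), (0, 27, true), (3, 17, true), (2, 27, true), (1, 27, true), (4, 16, true), (2, 5, true), (2, 16, true), (3, 15, true), (2, 27, true), (0, 6, true), (0, 27, true), (1, 5, true), (4, 7, true), (3, 17, true), (2, 17, true), (1, 26, true), (4, 16, true), (3, 16, true), (2, 25, true), (5, 15, true), (4, 17, true), (3, 26, true), (2, 27, true), (0, 6, true), (2, 17, true), (1, 26, true), (0, 27, true), (3, 16, true), (2, 25, true), (4, 16, true), (3, 25, true), (1, 5, true), (2, 15, true), (1, 26, true), (2, 26, true), (0, 6, true), (0, 25, true), (1, 25, true), (5, 15, true), (4, 17, true), (3, 26, true), (2, 26, true), (1, 27, true), (0, 27, true), (5, 17, true), (4, 26, true), (3, 26, true), (2, 27, true), (1, 27, true), (6, 16, true), (5, 25, true), (4, 25, true), (2, 5, true), (4, 16, true), (3, 25, true), (2, 25, true),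 (5, 15, true), (4, 26, true), (3, 26, true), (2, 27, true), (0, 6, true), (2, 26, true), (1, 26, true), (0, 27, true), (3, 25, true), (2, 25, true), (4, 25, true), (3, 25, true), (1, 5, true), (1, 4, true), (1, 1, true), (0, 6, true), (0, 0, true)], [(9, 12, true), (8, 12, true), (7, 21, true), (6, 24, true), (5, 24, true), (4, 26, true), (3, 27, true), (2, 27, true), (0, 6, true), (7, 12, true), (6, 12, true), (5, 21, true), (4, 24, true), (3, 24, true), (2, 26, true), (1, 27, true), (0, 27, true), (8, 11, true), (7, 11, true), (6, 20, true), (5, 23, true), (4, 23, true), (3, 25, true), (1, 5, true), (6, 11, true), (5, 11, true), (4, 20, true), (3, 23, true), (2, 23, true), (1, 25, true), (7, 10, true), (6, 12, true), (5, 21, true), (4, 24, true), (3, 24, true), (2, 26, true), (1, 27, true), (7, 10, true), (6, 21, true), (5, 24, true), (4, 24, true), (3, 26, true), (2, 27, true), (0, 6, true), (4, 19, true), (3, 24, true), (2, 24, true), (1, 26, true), (0, 27, true), (4, 24, true), (3, 24, true), (2, 26, true), (1, 27, true), (5, 23, true), (4, 23, true), (3, 25, true), (6, 22, true), (5, 22,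 true), (10, 9, true), (9, 12, true), (8, 21, true), (7, 24, true), (6, 24, true), (5, 26, true), (4, 26, true), (3, 27, true), (2, 27, true), (0, 6, true), (7, 12, true), (6, 21, true), (5, 24, true), (4, 24, true), (3, 26, true), (2, 26, true), (1, 27, true), (0, 27, true), (8, 11, true), (7, 20, true), (6, 23, true), (5, 23, true), (4, 25, true), (3, 25, true), (1, 5, true), (6, 9, true), (5, 21, true), (4, 24, true), (3, 24, true), (2, 26, true), (1, 26, true), (6, 21, true), (5, 24, true), (4, 24, true), (3, 26, true), (2, 26, true), (0, 6, true), (4, 20, true), (3, 23, true), (2, 23, true), (1, 25, true), (0, 25, true), (5, 18, true), (4, 24, true), (3, 24, true), (2, 26, true), (1, 26, true), (0, 27, true), (5, 24, true), (4, 24, true), (3, 26, true), (2, 26, true), (1, 27, true), (5, 3, true), (7, 9, true), (6, 12, true), (5, 21, true), (4, 26, true), (3, 26, true), (2, 27, true), (0, 6, true), (4, 12, true), (3, 21, true), (2, 26, true), (1, 26, true), (0, 27, true), (5, 11, true), (4, 20, true), (3, 25, true), (2, 25, true), (6, 9, true), (5, 21, true), (4, 26, true), (3, 26, true),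 (2, 27, true), (1, 27, true), (6, 21, true), (5, 26, true), (4, 26, true), (3, 27, true), (2, 27, true), (0, 6, true), (4, 20, true), (3, 25, true), (2, 25, true), (0, 5, true), (2, 18, true), (1, 26, true), (0, 26, true), (2, 26, true), (1, 26, true), (7, 8, true), (6, 11, true), (5, 20, true), (4, 23, true), (3, 25, true), (2, 25, true), (7, 10, true), (6, 21, true), (5, 24, true), (4, 26, true), (3, 26, true), (2, 27, true), (0, 6, true), (4, 19, true), (3, 24, true), (2, 26, true), (1, 26, true), (0, 27, true), (4, 24, true), (3, 26, true), (2, 26, true), (1, 27, true), (5, 23, true), (4, 25, true), (3, 25, true), (6, 22, true), (4, 4, true), (6, 9, true), (5, 21, true), (4, 24, true), (3, 27, true), (2, 27, true), (0, 6, true), (3, 21, true), (2, 24, true), (1, 27, true), (0, 27, true), (4, 20, true), (3, 23, true), (1, 5, true), (2, 18, true), (1, 24, true), (2, 24, true), (0, 6, true), (3, 9, true), (2, 21, true), (1, 24, true), (0, 24, true), (3, 21, true), (2, 24, true), (1, 24, true), (4, 20, true), (3, 23, true), (2, 23, true), (5, 18, true), (4, 24, true), (3, 24, true), (2, 27,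 true), (0, 6, true), (2, 24, true), (1, 24, true), (0, 27, true), (2, 3, true), (3, 8, true), (2, 20, true), (3, 19, true), (2, 27, true), (1, 27, true), (3, 27, true), (2, 27, true), (0, 6, true), (0, 5, true), (1, 18, true), (0, 26, true), (1, 26, true), (4, 18, true), (3, 24, true), (2, 26, true), (0, 6, true), (1, 24, true), (0, 26, true), (6, 0, true), (5, 21, true), (4, 21, true), (3, 24, true), (2, 24, true), (1, 26, true), (6, 21, true), (5, 21, true), (4, 24, true), (3, 24, true), (2, 26, true), (0, 6, true), (4, 20, true), (3, 20, true), (2, 23, true), (1, 23, true), (0, 25, true), (6, 12, true), (5, 21, true), (4, 21, true), (3, 24, true), (2, 24, true), (1, 26, true), (0, 27, true), (7, 12, true), (6, 21, true), (5, 21, true), (4, 24, true), (3, 24, true), (2, 26, true), (1, 27, true), (8, 11, true), (7, 20, true), (6, 20, true), (5, 23, true), (4, 23, true), (3, 25, true), (9, 11, true), (8, 20, true), (7, 20, true), (6, 23, true), (5, 23, true), (4, 25, true), (2, 5, true), (7, 10, true), (6, 21, true), (5, 21, true), (4, 24, true), (3, 24, true), (2, 26, true), (0, 6, true), (4,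 19, true), (3, 21, true), (2, 24, true), (1, 24, true), (0, 26, true), (4, 21, true), (3, 24, true), (2, 24, true), (1, 26, true), (5, 20, true), (4, 23, true), (3, 23, true), (2, 25, true), (6, 19, true), (5, 24, true), (4, 24, true), (3, 26, true), (2, 27, true), (0, 6, true), (3, 24, true), (2, 24, true), (1, 26, true), (0, 27, true), (4, 23, true), (3, 23, true), (2, 25, true), (5, 22, true), (4, 22, true), (9, 9, true), (8, 21, true), (7, 21, true), (6, 24, true), (5, 24, true), (4, 26, true), (3, 26, true), (2, 27, true), (1, 27, true), (9, 21, true), (8, 21, true), (7, 24, true), (6, 24, true), (5, 26, true), (4, 26, true), (3, 27, true), (2, 27, true), (0, 6, true), (7, 20, true), (6, 20, true), (5, 23, true), (4, 23, true), (3, 25, true), (2, 25, true), (0, 5, true), (5, 18, true), (4, 21, true), (3, 24, true), (2, 24, true), (1, 26, true), (0, 26, true), (5, 21, true), (4, 24, true), (3, 24, true), (2, 26, true), (1, 26, true), (6, 18, true), (5, 24, true), (4, 24, true), (3, 26, true), (2, 26, true), (0, 6, true), (3, 24, true), (2, 24, true), (1, 26, true), (0, 26, true), (3, 3,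 true), (5, 9, true), (4, 21, true), (3, 21, true), (2, 26, true), (1, 26, true), (5, 21, true), (4, 21, true), (3, 26, true), (2, 26, true), (0, 6, true), (3, 20, true), (2, 20, true), (1, 25, true), (0, 25, true), (4, 18, true), (3, 21, true), (2, 26, true), (1, 26, true), (0, 27, true), (4, 21, true), (3, 26, true), (2, 26, true), (1, 27, true), (5, 18, true), (4, 26, true), (3, 26, true), (2, 27, true), (0, 6, true), (2, 26, true), (1, 26, true), (0, 27, true), (7, 8, true), (6, 20, true), (5, 20, true), (4, 23, true), (3, 25, true), (2, 25, true), (7, 19, true), (6, 21, true), (5, 24, true), (4, 26, true), (3, 26, true), (2, 27, true), (1, 27, true), (7, 21, true), (6, 24, true), (5, 26, true), (4, 26, true), (3, 27, true), (2, 27, true), (0, 6, true), (5, 20, true), (4, 23, true), (3, 25, true), (2, 25, true), (0, 5, true), (3, 19, true), (2, 24, true), (1, 26, true), (0, 26, true), (3, 24, true), (2, 26, true), (1, 26, true), (4, 23, true), (3, 25, true), (2, 25, true), (5, 22, true), (3, 4, true), (5, 18, true), (4, 21, true), (3, 24, true), (2, 27, true), (0, 6, true), (2, 21, true),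 (1, 24, true), (0, 27, true), (3, 18, true), (2, 24, true), (1, 27, true), (3, 24, true), (2, 27, true), (0, 6, true), (4, 18, true), (3, 21, true), (2, 24, true), (1, 24, true), (0, 27, true), (4, 21, true), (3, 24, true), (2, 24, true), (1, 27, true), (5, 18, true), (4, 24, true), (3, 24, true), (2, 27, true), (0, 6, true), (2, 24, true), (1, 24, true), (0, 27, true), (2, 3, true), (2, 2, true), (1, 27, true), (2, 27, true), (0, 6, true), (2, 0, true), (1, 27, true), (0, 27, true), (2, 27, true), (1, 27, true), (2, 5, true)]),
    ([2, 2, 2], [5], [(3, 12, true), (2, 17, true), (1, 21, true), (4, 8, true), (3, 16, true), (2, 20, true), (4, 15, true), (3, 21, true), (2, 27, true), (0, 6, true), (1, 21, true), (0, 27, true), (2, 20, true), (3, 20, true), (1, 5, true), (1, 19, true), (0, 6, true), (3, 14, true), (2, 20, true), (1, 25, true), (3, 18, true), (2, 26, true), (1, 27, true), (0, 27, true), (3, 26, true), (2, 27, true), (1, 27, true), (7, 14, true), (6, 20, true), (5, 23, true), (4, 25, true), (2, 5, true), (4, 18, true), (3, 24, true), (2, 26, true), (0, 6, true), (1, 24, true), (0,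 26, true), (5, 13, true), (4, 18, true), (3, 24, true), (2, 24, true), (1, 26, true), (4, 24, true), (3, 24, true), (2, 26, true), (0, 6, true), (1, 3, true), (1, 18, true), (0, 26, true), (1, 26, true), (7, 7, true), (6, 17, true), (5, 21, true), (4, 21, true), (3, 24, true), (2, 26, true), (0, 6, true), (4, 16, true), (3, 20, true), (2, 20, true), (1, 23, true), (0, 25, true), (5, 15, true), (4, 21, true), (3, 21, true), (2, 24, true), (1, 26, true), (0, 27, true), (5, 21, true), (4, 21, true), (3, 24, true), (2, 26, true), (1, 27, true), (6, 20, true), (5, 20, true), (4, 23, true), (3, 25, true), (7, 20, true), (6, 20, true), (5, 23, true), (4, 25, true), (2, 5, true), (5, 19, true), (4, 21, true), (3, 24, true), (2, 26, true), (0, 6, true), (2, 21, true), (1, 24, true), (0, 26, true), (3, 20, true), (2, 23, true), (1, 25, true), (4, 19, true), (3, 24, true), (2, 26, true), (1, 27, true), (4, 24, true), (3, 26, true), (2, 27, true), (0, 6, true), (2, 23, true), (1, 25, true), (3, 22, true), (7, 15, true), (6, 21, true), (5, 21, true), (4, 24, true), (3, 26, true), (2, 26, true), (1, 27, true),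 (0, 27, true), (7, 21, true), (6, 21, true), (5, 24, true), (4, 26, true), (3, 26, true), (2, 27, true), (1, 27, true), (8, 20, true), (7, 20, true), (6, 23, true), (5, 25, true), (4, 25, true), (2, 5, true), (6, 20, true), (5, 20, true), (4, 23, true), (3, 25, true), (2, 25, true), (7, 19, true), (6, 21, true), (5, 24, true), (4, 26, true), (3, 26, true), (2, 27, true), (0, 6, true), (4, 21, true), (3, 24, true), (2, 26, true), (1, 26, true), (0, 27, true), (5, 20, true), (4, 23, true), (3, 25, true), (2, 25, true), (6, 19, true), (5, 24, true), (4, 26, true), (3, 26, true), (2, 27, true), (1, 27, true), (6, 24, true), (5, 26, true), (4, 26, true), (3, 27, true), (2, 27, true), (0, 6, true), (4, 23, true), (3, 25, true), (2, 25, true), (0, 5, true), (2, 22, true), (0, 4, true), (6, 12, true), (5, 12, true), (4, 17, true), (3, 17, true), (2, 21, true), (1, 21, true), (0, 24, true), (7, 8, true), (6, 11, true), (5, 16, true), (4, 16, true), (3, 20, true), (2, 20, true), (1, 23, true), (7, 10, true), (6, 17, true), (5, 17, true), (4, 21, true), (3, 21, true), (2, 24, true), (1, 27, true), (7,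 15, true), (6, 17, true), (5, 21, true), (4, 21, true), (3, 24, true), (2, 27, true), (0, 6, true), (4, 17, true), (3, 21, true), (2, 21, true), (1, 24, true), (0, 27, true), (5, 16, true), (4, 20, true), (3, 20, true), (2, 23, true), (6, 16, true), (5, 20, true), (4, 20, true), (3, 23, true), (1, 5, true), (4, 15, true), (3, 21, true), (2, 21, true), (1, 24, true), (4, 21, true), (3, 21, true), (2, 24, true), (0, 6, true), (2, 20, true), (1, 20, true), (0, 23, true), (3, 20, true), (2, 20, true), (1, 23, true), (4, 19, true), (3, 21, true), (2, 24, true), (1, 27, true), (0, 27, true), (4, 21, true), (3, 24, true), (2, 27, true), (1, 27, true), (5, 20, true), (4, 23, true), (2, 5, true), (3, 19, true), (2, 24, true), (0, 6, true), (0, 24, true), (1, 23, true), (2, 22, true), (8, 9, true), (7, 17, true), (6, 17, true), (5, 21, true), (4, 21, true), (3, 24, true), (2, 26, true), (1, 27, true), (8, 17, true), (7, 17, true), (6, 21, true), (5, 21, true), (4, 24, true), (3, 26, true), (2, 27, true), (0, 6, true), (6, 16, true), (5, 16, true), (4, 20, true), (3, 20, true), (2, 23, true), (1, 25, true),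 (7, 14, true), (6, 16, true), (5, 20, true), (4, 20, true), (3, 23, true), (2, 25, true), (0, 5, true), (4, 14, true), (3, 20, true), (2, 20, true), (1, 23, true), (0, 25, true), (4, 18, true), (3, 21, true), (2, 24, true), (1, 26, true), (0, 27, true), (4, 21, true), (3, 24, true), (2, 26, true), (1, 27, true), (5, 18, true), (4, 24, true), (3, 26, true), (2, 27, true), (0, 6, true), (2, 24, true), (1, 26, true), (0, 27, true), (9, 9, true), (8, 17, true), (7, 17, true), (6, 21, true), (5, 21, true), (4, 24, true), (3, 24, true), (2, 26, true), (1, 27, true), (9, 17, true), (8, 17, true), (7, 21, true), (6, 21, true), (5, 24, true), (4, 24, true), (3, 26, true), (2, 27, true), (0, 6, true), (7, 16, true), (6, 16, true), (5, 20, true), (4, 20, true), (3, 23, true), (2, 23, true), (1, 25, true), (8, 14, true), (7, 16, true), (6, 20, true), (5, 20, true), (4, 23, true), (3, 23, true), (2, 25, true), (0, 5, true), (5, 14, true), (4, 20, true), (3, 20, true), (2, 23, true), (1, 23, true), (0, 25, true), (5, 18, true), (4, 21, true), (3, 24, true), (2, 24, true), (1, 26, true), (0, 27, true), (5,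 21, true), (4, 24, true), (3, 24, true), (2, 26, true), (1, 27, true), (6, 18, true), (5, 24, true), (4, 24, true), (3, 26, true), (2, 27, true), (0, 6, true), (3, 24, true), (2, 24, true), (1, 26, true), (0, 27, true), (3, 3, true), (7, 8, true), (6, 16, true), (5, 16, true), (4, 20, true), (3, 20, true), (2, 25, true), (7, 15, true), (6, 17, true), (5, 21, true), (4, 21, true), (3, 26, true), (2, 27, true), (1, 27, true), (7, 17, true), (6, 21, true), (5, 21, true), (4, 26, true), (3, 27, true), (2, 27, true), (0, 6, true), (5, 16, true), (4, 20, true), (3, 20, true), (2, 25, true), (0, 5, true), (3, 16, true), (2, 20, true), (1, 20, true), (0, 25, true), (4, 15, true), (3, 21, true), (2, 21, true), (1, 26, true), (0, 27, true), (4, 21, true), (3, 21, true), (2, 26, true), (1, 27, true), (5, 20, true), (4, 20, true), (3, 25, true), (6, 20, true), (5, 20, true), (4, 25, true), (2, 5, true), (4, 19, true), (3, 21, true), (2, 26, true), (0, 6, true), (1, 21, true), (0, 26, true), (2, 20, true), (1, 25, true), (3, 19, true), (2, 26, true), (1, 27, true), (3, 26, true), (2, 27, true), (0, 6, true),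 (1, 25, true), (7, 14, true), (6, 16, true), (5, 20, true), (4, 20, true), (3, 25, true), (2, 25, true), (0, 5, true), (4, 14, true), (3, 20, true), (2, 20, true), (1, 25, true), (0, 25, true), (4, 18, true), (3, 21, true), (2, 26, true), (1, 26, true), (0, 27, true), (4, 21, true), (3, 26, true), (2, 26, true), (1, 27, true), (5, 18, true), (4, 26, true), (3, 26, true), (2, 27, true), (0, 6, true), (2, 26, true), (1, 26, true), (0, 27, true), (8, 14, true), (7, 16, true), (6, 20, true), (5, 20, true), (4, 23, true), (3, 25, true), (2, 25, true), (8, 14, true), (7, 20, true), (6, 20, true), (5, 23, true), (4, 25, true), (3, 25, true), (1, 5, true), (5, 18, true), (4, 21, true), (3, 24, true), (2, 26, true), (1, 26, true), (5, 21, true), (4, 24, true), (3, 26, true), (2, 26, true), (0, 6, true), (3, 18, true), (2, 24, true), (1, 26, true), (0, 26, true), (3, 24, true), (2, 26, true), (1, 26, true), (9, 13, true), (8, 14, true), (7, 20, true), (6, 20, true), (5, 23, true), (4, 23, true), (3, 25, true), (2, 25, true), (8, 18, true), (7, 21, true), (6, 24, true), (5, 24, true), (4, 26, true), (3,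 26, true), (2, 27, true), (0, 6, true), (5, 21, true), (4, 24, true), (3, 24, true), (2, 26, true), (1, 26, true), (0, 27, true), (6, 18, true), (5, 24, true), (4, 24, true), (3, 26, true), (2, 26, true), (1, 27, true), (6, 24, true), (5, 24, true), (4, 26, true), (3, 26, true), (2, 27, true), (0, 6, true), (3, 3, true), (5, 14, true), (4, 20, true), (3, 20, true), (2, 25, true), (1, 25, true), (5, 18, true), (4, 21, true), (3, 26, true), (2, 26, true), (1, 27, true), (0, 27, true), (5, 21, true), (4, 26, true), (3, 26, true), (2, 27, true), (1, 27, true), (6, 18, true), (5, 26, true), (4, 26, true), (3, 27, true), (2, 27, true), (0, 6, true), (3, 26, true), (2, 26, true), (1, 27, true), (0, 27, true), (8, 13, true), (7, 18, true), (6, 21, true), (5, 24, true), (4, 26, true), (3, 26, true), (2, 27, true), (1, 27, true), (7, 21, true), (6, 24, true), (5, 26, true), (4, 26, true), (3, 27, true), (2, 27, true), (0, 6, true), (5, 18, true), (4, 24, true), (3, 26, true), (2, 26, true), (1, 27, true), (0, 27, true), (5, 24, true), (4, 26, true), (3, 26, true), (2, 27, true), (1, 27, true), (9, 18,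 true), (8, 21, true), (7, 24, true), (6, 24, true), (5, 26, true), (4, 26, true), (3, 27, true), (2, 27, true), (0, 6, true), (6, 21, true), (5, 24, true), (4, 24, true), (3, 26, true), (2, 26, true), (1, 27, true), (0, 27, true), (7, 18, true), (6, 24, true), (5, 24, true), (4, 26, true), (3, 26, true), (2, 27, true), (1, 27, true), (7, 24, true), (6, 24, true), (5, 26, true), (4, 26, true), (3, 27, true), (2, 27, true), (0, 6, true), (4, 3, true), (4, 2, true), (3, 26, true), (2, 26, true), (1, 27, true), (0, 27, true), (4, 26, true), (3, 26, true), (2, 27, true), (1, 27, true), (5, 25, true), (4, 25, true), (2, 5, true), (7, 7, true), (6, 12, true), (5, 17, true), (4, 17, true), (3, 26, true), (2, 26, true), (0, 6, true), (4, 11, true), (3, 16, true), (2, 16, true), (1, 25, true), (0, 25, true), (5, 10, true), (4, 17, true), (3, 17, true), (2, 26, true), (1, 26, true), (0, 27, true), (5, 15, true), (4, 17, true), (3, 26, true), (2, 26, true), (1, 27, true), (5, 17, true), (4, 26, true), (3, 26, true), (2, 27, true), (0, 6, true), (3, 16, true), (2, 25, true), (1, 25, true), (4, 16, true),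 (3, 25, true), (2, 25, true), (0, 5, true), (2, 15, true), (1, 26, true), (0, 26, true), (2, 26, true), (1, 26, true), (3, 25, true), (2, 25, true), (4, 25, true), (3, 25, true), (4, 4, true), (6, 10, true), (5, 17, true), (4, 17, true), (3, 27, true), (2, 27, true), (0, 6, true), (3, 15, true), (2, 17, true), (1, 27, true), (0, 27, true), (3, 17, true), (2, 27, true), (1, 27, true), (4, 16, true), (2, 5, true), (2, 16, true), (3, 15, true), (2, 27, true), (0, 6, true), (0, 27, true), (1, 5, true), (4, 7, true), (3, 17, true), (2, 17, true), (1, 26, true), (4, 16, true), (3, 16, true), (2, 25, true), (5, 15, true), (4, 17, true), (3, 26, true), (2, 27, true), (0, 6, true), (2, 17, true), (1, 26, true), (0, 27, true), (3, 16, true), (2, 25, true), (4, 16, true), (3, 25, true), (1, 5, true), (2, 15, true), (1, 26, true), (2, 26, true), (0, 6, true), (0, 25, true), (1, 25, true), (5, 15, true), (4, 17, true), (3, 26, true), (2, 26, true), (1, 27, true), (0, 27, true), (5, 17, true), (4, 26, true), (3, 26, true), (2, 27, true), (1, 27, true), (6, 16, true), (5, 25, true), (4, 25, true), (2, 5, true),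 (4, 16, true), (3, 25, true), (2, 25, true), (5, 15, true), (4, 26, true), (3, 26, true), (2, 27, true), (0, 6, true), (2, 26, true), (1, 26, true), (0, 27, true), (3, 25, true), (2, 25, true), (4, 25, true), (3, 25, true), (1, 5, true), (1, 4, true), (1, 1, true), (0, 6, true), (0, 0, true)], [(6, 12, true), (5, 17, true), (4, 24, true), (3, 27, true), (2, 27, true), (0, 6, true), (4, 12, true), (3, 17, true), (2, 24, true), (1, 27, true), (0, 27, true), (5, 11, true), (4, 16, true), (3, 23, true), (1, 5, true), (3, 11, true), (2, 16, true), (1, 23, true), (4, 9, true), (3, 17, true), (2, 24, true), (1, 27, true), (4, 17, true), (3, 24, true), (2, 27, true), (0, 6, true), (2, 16, true), (1, 23, true), (3, 14, true), (2, 23, true), (0, 5, true), (3, 7, true), (2, 17, true), (1, 24, true), (0, 24, true), (3, 16, true), (2, 23, true), (1, 23, true), (4, 15, true), (3, 24, true), (2, 24, true), (1, 27, true), (4, 24, true), (3, 24, true), (2, 27, true), (0, 6, true), (2, 23, true), (1, 23, true), (3, 23, true), (2, 23, true), (0, 5, true), (1, 22, true), (0, 22, true), (3, 15, true), (2, 24, true),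 (1, 24, true), (0, 26, true), (3, 24, true), (2, 24, true), (1, 26, true), (4, 23, true), (3, 23, true), (2, 25, true), (5, 23, true), (4, 23, true), (3, 25, true), (6, 22, true), (5, 22, true), (11, 12, true), (10, 12, true), (9, 17, true), (8, 17, true), (7, 24, true), (6, 24, true), (5, 26, true), (4, 26, true), (3, 27, true), (2, 27, true), (0, 6, true), (9, 12, true), (8, 12, true), (7, 17, true), (6, 17, true), (5, 24, true), (4, 24, true), (3, 26, true), (2, 26, true), (1, 27, true), (0, 27, true), (10, 11, true), (9, 11, true), (8, 16, true), (7, 16, true), (6, 23, true), (5, 23, true), (4, 25, true), (3, 25, true), (1, 5, true), (8, 11, true), (7, 11, true), (6, 16, true), (5, 16, true), (4, 23, true), (3, 23, true), (2, 25, true), (1, 25, true), (9, 9, true), (8, 12, true), (7, 17, true), (6, 17, true), (5, 24, true), (4, 24, true), (3, 26, true), (2, 26, true), (1, 27, true), (9, 12, true), (8, 17, true), (7, 17, true), (6, 24, true), (5, 24, true), (4, 26, true), (3, 26, true), (2, 27, true), (0, 6, true), (7, 11, true), (6, 16, true), (5, 16, true), (4, 23, true), (3, 23, true),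 (2, 25, true), (1, 25, true), (8, 9, true), (7, 17, true), (6, 17, true), (5, 24, true), (4, 24, true), (3, 26, true), (2, 26, true), (1, 27, true), (0, 27, true), (8, 17, true), (7, 17, true), (6, 24, true), (5, 24, true), (4, 26, true), (3, 26, true), (2, 27, true), (1, 27, true), (9, 16, true), (8, 16, true), (7, 23, true), (6, 23, true), (5, 25, true), (4, 25, true), (2, 5, true), (7, 14, true), (6, 16, true), (5, 23, true), (4, 23, true), (3, 25, true), (2, 25, true), (7, 14, true), (6, 23, true), (5, 23, true), (4, 25, true), (3, 25, true), (6, 3, true), (9, 7, true), (8, 12, true), (7, 17, true), (6, 17, true), (5, 26, true), (4, 26, true), (3, 27, true), (2, 27, true), (0, 6, true), (6, 11, true), (5, 16, true), (4, 16, true), (3, 25, true), (2, 25, true), (0, 5, true), (4, 10, true), (3, 17, true), (2, 17, true), (1, 26, true), (0, 26, true), (4, 15, true), (3, 17, true), (2, 26, true), (1, 26, true), (4, 17, true), (3, 26, true), (2, 26, true), (0, 6, true), (2, 16, true), (1, 25, true), (0, 25, true), (3, 16, true), (2, 25, true), (1, 25, true), (4, 15, true), (3, 26, true), (2, 26,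 true), (1, 27, true), (0, 27, true), (4, 26, true), (3, 26, true), (2, 27, true), (1, 27, true), (5, 25, true), (4, 25, true), (2, 5, true), (3, 25, true), (2, 25, true), (3, 4, true), (5, 10, true), (4, 17, true), (3, 17, true), (2, 27, true), (0, 6, true), (2, 15, true), (1, 17, true), (0, 27, true), (2, 17, true), (1, 27, true), (3, 16, true), (4, 16, true), (2, 5, true), (2, 15, true), (0, 6, true), (6, 7, true), (5, 17, true), (4, 17, true), (3, 26, true), (2, 27, true), (1, 27, true), (6, 16, true), (5, 16, true), (4, 25, true), (2, 5, true), (4, 15, true), (3, 17, true), (2, 26, true), (0, 6, true), (1, 17, true), (0, 26, true), (2, 16, true), (1, 25, true), (3, 16, true), (2, 25, true), (4, 15, true), (3, 26, true), (2, 27, true), (1, 27, true), (4, 26, true), (3, 27, true), (2, 27, true), (0, 6, true), (2, 25, true), (0, 5, true), (0, 25, true), (4, 15, true), (3, 17, true), (2, 26, true), (1, 26, true), (0, 27, true), (4, 17, true), (3, 26, true), (2, 26, true), (1, 27, true), (5, 16, true), (4, 25, true), (3, 25, true), (6, 16, true), (5, 25, true), (4, 25, true), (2, 5, true), (4,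 15, true), (3, 26, true), (2, 26, true), (0, 6, true), (1, 26, true), (0, 26, true), (2, 25, true), (1, 25, true), (3, 25, true), (2, 25, true), (3, 4, true), (3, 1, true), (2, 27, true), (1, 27, true), (3, 27, true), (2, 27, true), (0, 6, true), (2, 0, true), (1, 27, true), (0, 27, true), (2, 27, true), (1, 27, true), (2, 5, true)]),
    ([3, 3, 3], [], [(4, 23, true), (3, 25, true), (2, 25, true), (0, 5, true), (2, 23, true), (1, 25, true), (0, 25, true), (3, 22, true), (1, 4, true), (1, 22, true), (3, 23, true), (2, 23, true), (1, 25, true), (4, 23, true), (3, 23, true), (2, 25, true), (0, 5, true), (2, 22, true), (1, 22, true), (3, 22, true), (2, 22, true), (0, 4, true), (0, 3, true)], [(1, 23, true), (3, 23, true), (2, 23, true), (0, 5, true), (0, 3, true)]),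
    ([4, 4, 4], [], [(4, 26, true), (3, 26, true), (2, 27, true), (1, 27, true), (5, 25, true), (4, 25, true), (2, 5, true), (3, 25, true), (2, 25, true), (3, 4, true), (3, 26, true), (2, 27, true), (0, 6, true), (1, 25, true), (2, 25, true), (0, 5, true), (0, 4, true)], [(3, 22, true), (2, 22, true), (0, 4, true), (1, 22, true), (0, 22, true), (1, 3, true), (1, 22, true), (2, 22, true), (0, 4, true), (0, 3, true)]),
    ([5, 5, 5], [], [(2, 27, true), (0, 6, true), (0, 27, true), (2, 27, true), (1, 27, true), (3, 27, true), (2, 27, true), (0, 6, true), (0, 5, true)], [(0, 6, true), (0, 6, true)]),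
    ([0, 1], [6, 4, 4, 1, 0], [(6, 11, true), (5, 11, true), (4, 16, true), (3, 20, true), (2, 23, true), (1, 25, true), (0, 25, true), (7, 11, true), (6, 11, true), (5, 16, true), (4, 20, true), (3, 23, true), (2, 25, true), (1, 25, true), (8, 10, true), (7, 12, true), (6, 17, true), (5, 21, true), (4, 24, true), (3, 26, true), (2, 26, true), (1, 27, true), (0, 27, true), (8, 10, true), (7, 17, true), (6, 21, true), (5, 24, true), (4, 26, true), (3, 26, true), (2, 27, true), (1, 27, true), (8, 15, true), (7, 21, true), (6, 24, true), (5, 26, true), (4, 26, true), (3, 27, true), (2, 27, true), (0, 6, true), (5, 21, true), (4, 24, true), (3, 26, true), (2, 26, true), (1, 27, true), (0, 27, true), (6, 20, true), (5, 23, true), (4, 25, true), (3, 25, true), (1, 5, true), (4, 20, true), (3, 23, true), (2, 25, true), (1, 25, true), (5, 19, true), (4, 24, true), (3, 26, true), (2, 26, true), (1, 27, true), (5, 24, true), (4, 26, true), (3, 26, true), (2, 27, true), (0, 6, true), (3, 23, true), (2, 25, true), (1, 25, true), (4, 22, true), (2, 4, true), (6, 8, true), (5, 11, true), (4, 16, true), (3,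 20, true), (2, 23, true), (0, 5, true), (3, 10, true), (2, 17, true), (1, 21, true), (0, 24, true), (3, 15, true), (2, 21, true), (1, 24, true), (3, 21, true), (2, 24, true), (0, 6, true), (1, 20, true), (0, 23, true), (2, 20, true), (1, 23, true), (3, 19, true), (2, 24, true), (1, 27, true), (0, 27, true), (3, 24, true), (2, 27, true), (1, 27, true), (4, 23, true), (2, 5, true), (2, 22, true), (6, 9, true), (5, 17, true), (4, 21, true), (3, 24, true), (2, 26, true), (0, 6, true), (3, 17, true), (2, 21, true), (1, 24, true), (0, 26, true), (4, 16, true), (3, 20, true), (2, 23, true), (1, 25, true), (5, 14, true), (4, 20, true), (3, 23, true), (2, 25, true), (5, 18, true), (4, 24, true), (3, 26, true), (2, 27, true), (1, 27, true), (5, 24, true), (4, 26, true), (3, 27, true), (2, 27, true), (0, 6, true), (7, 9, true), (6, 17, true), (5, 21, true), (4, 24, true), (3, 24, true), (2, 26, true), (1, 27, true), (0, 27, true), (7, 17, true), (6, 21, true), (5, 24, true), (4, 24, true), (3, 26, true), (2, 27, true), (1, 27, true), (8, 16, true), (7, 20, true), (6, 23, true), (5, 23, true), (4, 25, true),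 (2, 5, true), (6, 14, true), (5, 20, true), (4, 23, true), (3, 23, true), (2, 25, true), (6, 18, true), (5, 24, true), (4, 24, true), (3, 26, true), (2, 27, true), (0, 6, true), (3, 24, true), (2, 24, true), (1, 26, true), (0, 27, true), (3, 3, true), (5, 8, true), (4, 16, true), (3, 20, true), (2, 25, true), (5, 15, true), (4, 21, true), (3, 26, true), (2, 27, true), (1, 27, true), (5, 21, true), (4, 26, true), (3, 27, true), (2, 27, true), (0, 6, true), (3, 20, true), (2, 25, true), (0, 5, true), (1, 20, true), (0, 25, true), (2, 19, true), (1, 26, true), (0, 27, true), (2, 26, true), (1, 27, true), (3, 25, true), (7, 14, true), (6, 20, true), (5, 25, true), (4, 25, true), (2, 5, true), (4, 18, true), (3, 26, true), (2, 26, true), (0, 6, true), (1, 26, true), (0, 26, true), (5, 14, true), (4, 20, true), (3, 23, true), (2, 25, true), (1, 25, true), (5, 18, true), (4, 24, true), (3, 26, true), (2, 26, true), (1, 27, true), (5, 24, true), (4, 26, true), (3, 26, true), (2, 27, true), (0, 6, true), (6, 13, true), (5, 18, true), (4, 24, true), (3, 24, true), (2, 26, true), (1, 26, true), (0, 27,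 true), (5, 24, true), (4, 24, true), (3, 26, true), (2, 26, true), (1, 27, true), (5, 3, true), (5, 18, true), (4, 26, true), (3, 26, true), (2, 27, true), (0, 6, true), (2, 26, true), (1, 26, true), (0, 27, true), (9, 7, true), (8, 12, true), (7, 17, true), (6, 21, true), (5, 21, true), (4, 24, true), (3, 26, true), (2, 26, true), (1, 27, true), (9, 11, true), (8, 16, true), (7, 20, true), (6, 20, true), (5, 23, true), (4, 25, true), (3, 25, true), (10, 10, true), (9, 17, true), (8, 21, true), (7, 21, true), (6, 24, true), (5, 26, true), (4, 26, true), (3, 27, true), (2, 27, true), (0, 6, true), (7, 15, true), (6, 21, true), (5, 21, true), (4, 24, true), (3, 26, true), (2, 26, true), (1, 27, true), (0, 27, true), (7, 21, true), (6, 21, true), (5, 24, true), (4, 26, true), (3, 26, true), (2, 27, true), (1, 27, true), (8, 20, true), (7, 20, true), (6, 23, true), (5, 25, true), (4, 25, true), (2, 5, true), (6, 20, true), (5, 20, true), (4, 23, true), (3, 25, true), (2, 25, true), (7, 19, true), (6, 21, true), (5, 24, true), (4, 26, true), (3, 26, true), (2, 27, true), (0, 6, true), (4, 21, true),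 (3, 24, true), (2, 26, true), (1, 26, true), (0, 27, true), (5, 20, true), (4, 23, true), (3, 25, true), (2, 25, true), (6, 19, true), (5, 24, true), (4, 26, true), (3, 26, true), (2, 27, true), (1, 27, true), (6, 24, true), (5, 26, true), (4, 26, true), (3, 27, true), (2, 27, true), (0, 6, true), (4, 23, true), (3, 25, true), (2, 25, true), (0, 5, true), (2, 22, true), (0, 4, true), (4, 10, true), (3, 17, true), (2, 21, true), (1, 21, true), (0, 24, true), (4, 15, true), (3, 21, true), (2, 21, true), (1, 24, true), (4, 21, true), (3, 21, true), (2, 24, true), (0, 6, true), (2, 20, true), (1, 20, true), (0, 23, true), (3, 20, true), (2, 20, true), (1, 23, true), (4, 19, true), (3, 21, true), (2, 24, true), (1, 27, true), (0, 27, true), (4, 21, true), (3, 24, true), (2, 27, true), (1, 27, true), (5, 20, true), (4, 23, true), (2, 5, true), (3, 19, true), (2, 24, true), (0, 6, true), (0, 24, true), (1, 23, true), (2, 22, true), (7, 7, true), (6, 17, true), (5, 21, true), (4, 21, true), (3, 24, true), (2, 26, true), (1, 27, true), (7, 16, true), (6, 20, true), (5, 20, true), (4, 23, true), (3, 25,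 true), (8, 15, true), (7, 21, true), (6, 21, true), (5, 24, true), (4, 26, true), (3, 27, true), (2, 27, true), (0, 6, true), (5, 21, true), (4, 21, true), (3, 24, true), (2, 26, true), (1, 27, true), (0, 27, true), (6, 20, true), (5, 20, true), (4, 23, true), (3, 25, true), (1, 5, true), (4, 20, true), (3, 20, true), (2, 23, true), (1, 25, true), (5, 19, true), (4, 21, true), (3, 24, true), (2, 26, true), (1, 27, true), (5, 21, true), (4, 24, true), (3, 26, true), (2, 27, true), (0, 6, true), (3, 20, true), (2, 23, true), (1, 25, true), (4, 19, true), (3, 24, true), (2, 26, true), (1, 27, true), (0, 27, true), (4, 24, true), (3, 26, true), (2, 27, true), (1, 27, true), (5, 23, true), (4, 25, true), (2, 5, true), (3, 22, true), (7, 15, true), (6, 21, true), (5, 21, true), (4, 24, true), (3, 26, true), (2, 26, true), (0, 6, true), (4, 21, true), (3, 21, true), (2, 24, true), (1, 26, true), (0, 26, true), (5, 20, true), (4, 20, true), (3, 23, true), (2, 25, true), (1, 25, true), (6, 20, true), (5, 20, true), (4, 23, true), (3, 25, true), (2, 25, true), (7, 19, true), (6, 21, true), (5, 24, true),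 (4, 26, true), (3, 26, true), (2, 27, true), (1, 27, true), (7, 21, true), (6, 24, true), (5, 26, true), (4, 26, true), (3, 27, true), (2, 27, true), (0, 6, true), (5, 20, true), (4, 23, true), (3, 25, true), (2, 25, true), (0, 5, true), (3, 19, true), (2, 24, true), (1, 26, true), (0, 26, true), (3, 24, true), (2, 26, true), (1, 26, true), (4, 23, true), (3, 25, true), (2, 25, true), (5, 22, true), (3, 4, true), (9, 7, true), (8, 12, true), (7, 17, true), (6, 17, true), (5, 21, true), (4, 21, true), (3, 24, true), (2, 27, true), (0, 6, true), (6, 11, true), (5, 16, true), (4, 16, true), (3, 20, true), (2, 20, true), (1, 23, true), (7, 10, true), (6, 17, true), (5, 17, true), (4, 21, true), (3, 21, true), (2, 24, true), (1, 27, true), (0, 27, true), (7, 15, true), (6, 17, true), (5, 21, true), (4, 21, true), (3, 24, true), (2, 27, true), (1, 27, true), (7, 17, true), (6, 21, true), (5, 21, true), (4, 24, true), (3, 27, true), (2, 27, true), (0, 6, true), (5, 16, true), (4, 20, true), (3, 20, true), (2, 23, true), (0, 5, true), (3, 16, true), (2, 20, true), (1, 20, true), (0, 23, true), (4, 15,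 true), (3, 21, true), (2, 21, true), (1, 24, true), (0, 27, true), (4, 21, true), (3, 21, true), (2, 24, true), (1, 27, true), (5, 20, true), (4, 20, true), (3, 23, true), (6, 20, true), (5, 20, true), (4, 23, true), (2, 5, true), (4, 19, true), (3, 21, true), (2, 24, true), (0, 6, true), (1, 21, true), (0, 24, true), (2, 20, true), (1, 23, true), (3, 19, true), (2, 24, true), (1, 27, true), (3, 24, true), (2, 27, true), (0, 6, true), (1, 23, true), (2, 22, true), (8, 10, true), (7, 17, true), (6, 17, true), (5, 21, true), (4, 21, true), (3, 24, true), (2, 26, true), (1, 27, true), (0, 27, true), (8, 15, true), (7, 17, true), (6, 21, true), (5, 21, true), (4, 24, true), (3, 26, true), (2, 27, true), (1, 27, true), (8, 17, true), (7, 21, true), (6, 21, true), (5, 24, true), (4, 26, true), (3, 27, true), (2, 27, true), (0, 6, true), (6, 16, true), (5, 20, true), (4, 20, true), (3, 23, true), (2, 25, true), (0, 5, true), (4, 16, true), (3, 20, true), (2, 20, true), (1, 23, true), (0, 25, true), (5, 15, true), (4, 21, true), (3, 21, true), (2, 24, true), (1, 26, true), (0, 27, true), (5, 21, true),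 (4, 21, true), (3, 24, true), (2, 26, true), (1, 27, true), (6, 20, true), (5, 20, true), (4, 23, true), (3, 25, true), (7, 20, true), (6, 20, true), (5, 23, true), (4, 25, true), (2, 5, true), (5, 19, true), (4, 21, true), (3, 24, true), (2, 26, true), (0, 6, true), (2, 21, true), (1, 24, true), (0, 26, true), (3, 20, true), (2, 23, true), (1, 25, true), (4, 19, true), (3, 24, true), (2, 26, true), (1, 27, true), (4, 24, true), (3, 26, true), (2, 27, true), (0, 6, true), (2, 23, true), (1, 25, true), (3, 22, true), (9, 7, true), (8, 17, true), (7, 17, true), (6, 21, true), (5, 21, true), (4, 24, true), (3, 26, true), (2, 26, true), (1, 27, true), (0, 27, true), (9, 16, true), (8, 16, true), (7, 20, true), (6, 20, true), (5, 23, true), (4, 25, true), (3, 25, true), (1, 5, true), (7, 15, true), (6, 17, true), (5, 21, true), (4, 21, true), (3, 24, true), (2, 26, true), (1, 26, true), (7, 17, true), (6, 21, true), (5, 21, true), (4, 24, true), (3, 26, true), (2, 26, true), (0, 6, true), (5, 16, true), (4, 20, true), (3, 20, true), (2, 23, true), (1, 25, true), (0, 25, true), (6, 16, true), (5,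 20, true), (4, 20, true), (3, 23, true), (2, 25, true), (1, 25, true), (7, 15, true), (6, 21, true), (5, 21, true), (4, 24, true), (3, 26, true), (2, 26, true), (1, 27, true), (0, 27, true), (7, 21, true), (6, 21, true), (5, 24, true), (4, 26, true), (3, 26, true), (2, 27, true), (1, 27, true), (8, 20, true), (7, 20, true), (6, 23, true), (5, 25, true), (4, 25, true), (2, 5, true), (6, 20, true), (5, 20, true), (4, 23, true), (3, 25, true), (2, 25, true), (7, 19, true), (6, 21, true), (5, 24, true), (4, 26, true), (3, 26, true), (2, 27, true), (0, 6, true), (4, 21, true), (3, 24, true), (2, 26, true), (1, 26, true), (0, 27, true), (5, 20, true), (4, 23, true), (3, 25, true), (2, 25, true), (6, 19, true), (5, 24, true), (4, 26, true), (3, 26, true), (2, 27, true), (1, 27, true), (6, 24, true), (5, 26, true), (4, 26, true), (3, 27, true), (2, 27, true), (0, 6, true), (4, 23, true), (3, 25, true), (2, 25, true), (0, 5, true), (2, 22, true), (0, 4, true), (4, 15, true), (3, 17, true), (2, 21, true), (1, 21, true), (0, 24, true), (4, 17, true), (3, 21, true), (2, 21, true), (1, 24, true), (5, 16,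 true), (4, 20, true), (3, 20, true), (2, 23, true), (6, 16, true), (5, 20, true), (4, 20, true), (3, 23, true), (7, 15, true), (6, 21, true), (5, 21, true), (4, 24, true), (3, 27, true), (2, 27, true), (0, 6, true), (4, 21, true), (3, 21, true), (2, 24, true), (1, 27, true), (0, 27, true), (5, 20, true), (4, 20, true), (3, 23, true), (1, 5, true), (3, 20, true), (2, 20, true), (1, 23, true), (4, 19, true), (3, 21, true), (2, 24, true), (1, 27, true), (4, 21, true), (3, 24, true), (2, 27, true), (0, 6, true), (2, 20, true), (1, 23, true), (3, 19, true), (2, 24, true), (1, 27, true), (0, 27, true), (3, 24, true), (2, 27, true), (1, 27, true), (4, 23, true), (2, 5, true), (2, 22, true), (6, 1, true), (5, 21, true), (4, 21, true), (3, 24, true), (2, 26, true), (0, 6, true), (3, 21, true), (2, 21, true), (1, 24, true), (0, 26, true), (5, 0, true), (4, 21, true), (3, 21, true), (2, 24, true), (1, 26, true), (5, 21, true), (4, 21, true), (3, 24, true), (2, 26, true), (0, 6, true), (3, 20, true), (2, 20, true), (1, 23, true), (0, 25, true), (0, 25, false), (1, 23, false), (2, 20, false), (3, 20, false),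 (0, 6, false), (2, 26, false), (3, 24, false), (4, 21, false), (5, 21, false), (1, 26, false), (2, 24, false), (3, 21, false), (4, 21, false), (5, 0, false), (0, 26, false), (1, 24, false), (2, 21, false), (3, 21, false), (0, 6, false), (2, 26, false), (3, 24, false), (4, 21, false), (5, 21, false), (6, 1, false), (2, 22, false), (2, 5, false), (4, 23, false), (1, 27, false), (2, 27, false), (3, 24, false), (0, 27, false), (1, 27, false), (2, 24, false), (3, 19, false), (1, 23, false), (2, 20, false), (0, 6, false), (2, 27, false), (3, 24, false), (4, 21, false), (1, 27, false), (2, 24, false), (3, 21, false), (4, 19, false), (1, 23, false), (2, 20, false), (3, 20, false), (1, 5, false), (3, 23, false), (4, 20, false), (5, 20, false), (0, 27, false), (1, 27, false), (2, 24, false), (3, 21, false), (4, 21, false), (0, 6, false), (2, 27, false), (3, 27, false), (4, 24, false), (5, 21, false), (6, 21, false), (7, 15, false), (3, 23, false), (4, 20, false), (5, 20, false), (6, 16, false), (2, 23, false), (3, 20, false), (4, 20, false), (5, 16, false), (1, 24, false), (2, 21, false), (3, 21, false),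 (4, 17, false), (0, 24, false), (1, 21, false), (2, 21, false), (3, 17, false), (4, 15, false), (0, 4, false), (2, 22, false), (0, 5, false), (2, 25, false), (3, 25, false), (4, 23, false), (0, 6, false), (2, 27, false), (3, 27, false), (4, 26, false), (5, 26, false), (6, 24, false), (1, 27, false), (2, 27, false), (3, 26, false), (4, 26, false), (5, 24, false), (6, 19, false), (2, 25, false), (3, 25, false), (4, 23, false), (5, 20, false), (0, 27, false), (1, 26, false), (2, 26, false), (3, 24, false), (4, 21, false), (0, 6, false), (2, 27, false), (3, 26, false), (4, 26, false), (5, 24, false), (6, 21, false), (7, 19, false), (2, 25, false), (3, 25, false), (4, 23, false), (5, 20, false), (6, 20, false), (2, 5, false), (4, 25, false), (5, 25, false), (6, 23, false), (7, 20, false), (8, 20, false), (1, 27, false), (2, 27, false), (3, 26, false), (4, 26, false), (5, 24, false), (6, 21, false), (7, 21, false), (0, 27, false), (1, 27, false), (2, 26, false), (3, 26, false), (4, 24, false), (5, 21, false), (6, 21, false), (7, 15, false), (1, 25, false), (2, 25, false), (3, 23, false), (4, 20, false),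 (5, 20, false), (6, 16, false), (0, 25, false), (1, 25, false), (2, 23, false), (3, 20, false), (4, 20, false), (5, 16, false), (0, 6, false), (2, 26, false), (3, 26, false), (4, 24, false), (5, 21, false), (6, 21, false), (7, 17, false), (1, 26, false), (2, 26, false), (3, 24, false), (4, 21, false), (5, 21, false), (6, 17, false), (7, 15, false), (1, 5, false), (3, 25, false), (4, 25, false), (5, 23, false), (6, 20, false), (7, 20, false), (8, 16, false), (9, 16, false), (0, 27, false), (1, 27, false), (2, 26, false), (3, 26, false), (4, 24, false), (5, 21, false), (6, 21, false), (7, 17, false), (8, 17, false), (9, 7, false), (0, 6, false), (2, 27, false), (3, 27, false), (4, 26, false), (5, 26, false), (1, 27, false), (2, 27, false), (3, 26, false), (4, 26, false), (5, 18, false), (5, 3, false), (0, 27, false), (1, 27, false), (2, 26, false), (3, 26, false), (4, 24, false), (5, 24, false), (0, 6, false), (2, 27, false), (3, 27, false), (4, 26, false), (5, 26, false), (6, 24, false), (7, 24, false), (8, 18, false), (9, 13, false), (1, 27, false), (2, 27, false), (3, 26, false), (4, 26, false),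 (5, 24, false), (0, 27, false), (1, 27, false), (2, 26, false), (3, 26, false), (4, 24, false), (5, 18, false), (1, 25, false), (2, 25, false), (3, 23, false), (4, 20, false), (5, 14, false), (0, 6, false), (2, 27, false), (3, 26, false), (4, 26, false), (1, 27, false), (2, 26, false), (3, 26, false), (4, 18, false), (1, 25, false), (2, 25, false), (3, 20, false), (4, 14, false), (5, 13, false), (3, 3, false), (0, 26, false), (1, 26, false), (2, 24, false), (3, 24, false), (0, 6, false), (2, 26, false), (3, 26, false), (4, 24, false), (5, 24, false), (6, 18, false), (2, 5, false), (4, 25, false), (5, 25, false), (6, 23, false), (7, 23, false), (8, 20, false), (9, 14, false), (3, 25, false), (4, 25, false), (5, 23, false), (6, 23, false), (7, 20, false), (8, 16, false), (9, 14, false), (1, 27, false), (2, 26, false), (3, 26, false), (4, 24, false), (0, 27, false), (1, 26, false), (2, 26, false), (3, 24, false), (4, 18, false), (0, 25, false), (1, 25, false), (2, 23, false), (3, 20, false), (4, 14, false), (0, 5, false), (2, 25, false), (3, 25, false), (4, 23, false), (5, 20, false), (6, 16, false),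 (7, 14, false), (3, 22, false), (1, 25, false), (2, 23, false), (0, 6, false), (2, 27, false), (3, 26, false), (4, 24, false), (1, 27, false), (2, 26, false), (3, 24, false), (4, 19, false), (1, 25, false), (2, 23, false), (3, 20, false), (1, 5, false), (3, 25, false), (4, 23, false), (5, 20, false), (0, 27, false), (1, 27, false), (2, 26, false), (3, 24, false), (4, 21, false), (0, 6, false), (2, 27, false), (3, 27, false), (4, 26, false), (5, 24, false), (6, 21, false), (7, 15, false), (3, 25, false), (4, 23, false), (5, 20, false), (6, 16, false), (2, 25, false), (3, 23, false), (4, 20, false), (5, 16, false), (1, 26, false), (2, 24, false), (3, 21, false), (4, 17, false), (0, 26, false), (1, 24, false), (2, 21, false), (3, 17, false), (4, 15, false), (0, 5, false), (2, 25, false), (3, 23, false), (4, 20, false), (5, 16, false), (6, 16, false), (7, 8, false), (0, 6, false), (2, 27, false), (3, 27, false), (4, 26, false), (1, 27, false), (2, 27, false), (3, 26, false), (4, 18, false), (2, 25, false), (3, 20, false), (4, 14, false), (1, 25, false), (2, 20, false), (3, 16, false), (4, 14, false),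 (1, 5, false), (3, 25, false), (4, 20, false), (5, 16, false), (6, 16, false), (0, 27, false), (1, 27, false), (2, 26, false), (3, 21, false), (4, 17, false), (5, 17, false), (0, 6, false), (2, 27, false), (3, 27, false), (4, 26, false), (5, 21, false), (6, 17, false), (7, 17, false), (8, 9, false), (1, 27, false), (0, 27, false), (1, 19, false), (0, 20, false), (0, 5, false), (2, 20, false), (0, 6, false), (2, 27, false), (3, 27, false), (4, 21, false), (1, 27, false), (2, 27, false), (3, 21, false), (4, 15, false), (2, 20, false), (3, 16, false), (1, 20, false), (2, 16, false), (0, 21, false), (1, 17, false), (0, 6, false), (2, 21, false), (3, 17, false), (4, 15, false), (1, 21, false), (2, 17, false), (3, 17, false), (4, 10, false), (1, 4, false), (1, 5, false), (3, 25, false), (4, 25, false), (0, 27, false), (1, 27, false), (2, 26, false), (3, 26, false), (0, 6, false), (2, 27, false), (3, 27, false), (4, 26, false), (5, 26, false), (6, 19, false), (3, 25, false), (4, 25, false), (5, 20, false), (2, 25, false), (3, 25, false), (4, 20, false), (1, 26, false), (2, 26, false), (3, 21, false),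 (0, 26, false), (1, 26, false), (2, 21, false), (3, 15, false), (0, 5, false), (2, 25, false), (3, 25, false), (4, 20, false), (5, 16, false), (1, 25, false), (2, 25, false), (3, 20, false), (4, 16, false), (0, 6, false), (2, 27, false), (3, 26, false), (4, 26, false), (5, 21, false), (6, 17, false), (1, 27, false), (2, 26, false), (3, 26, false), (4, 21, false), (5, 17, false), (6, 15, false), (0, 27, false), (1, 26, false), (2, 26, false), (3, 21, false), (4, 17, false), (5, 17, false), (6, 10, false), (0, 25, false), (0, 5, false), (2, 25, false), (2, 4, false), (1, 25, false), (2, 25, false), (0, 25, false), (1, 25, false), (0, 6, false), (2, 26, false), (3, 26, false), (2, 5, false), (1, 27, false)], [(7, 12, true), (6, 17, true), (5, 17, true), (4, 21, true), (3, 21, true), (2, 24, true), (1, 26, true), (0, 26, true), (8, 12, true), (7, 17, true), (6, 17, true), (5, 21, true), (4, 21, true), (3, 24, true), (2, 26, true), (1, 26, true), (9, 11, true), (8, 16, true), (7, 16, true), (6, 20, true), (5, 20, true), (4, 23, true), (3, 25, true), (2, 25, true), (10, 11, true), (9, 16, true), (8,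 16, true), (7, 20, true), (6, 20, true), (5, 23, true), (4, 25, true), (3, 25, true), (11, 10, true), (10, 17, true), (9, 17, true), (8, 21, true), (7, 21, true), (6, 24, true), (5, 26, true), (4, 26, true), (3, 27, true), (2, 27, true), (0, 6, true), (8, 15, true), (7, 17, true), (6, 21, true), (5, 21, true), (4, 24, true), (3, 26, true), (2, 26, true), (1, 27, true), (0, 27, true), (8, 17, true), (7, 21, true), (6, 21, true), (5, 24, true), (4, 26, true), (3, 26, true), (2, 27, true), (1, 27, true), (9, 16, true), (8, 20, true), (7, 20, true), (6, 23, true), (5, 25, true), (4, 25, true), (2, 5, true), (7, 16, true), (6, 20, true), (5, 20, true), (4, 23, true), (3, 25, true), (2, 25, true), (8, 15, true), (7, 21, true), (6, 21, true), (5, 24, true), (4, 26, true), (3, 26, true), (2, 27, true), (0, 6, true), (5, 21, true), (4, 21, true), (3, 24, true), (2, 26, true), (1, 26, true), (0, 27, true), (6, 20, true), (5, 20, true), (4, 23, true), (3, 25, true), (2, 25, true), (7, 20, true), (6, 20, true), (5, 23, true), (4, 25, true), (3, 25, true), (1, 5, true), (5, 19, true), (4, 21, true), (3,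 24, true), (2, 26, true), (1, 26, true), (5, 21, true), (4, 24, true), (3, 26, true), (2, 26, true), (0, 6, true), (3, 20, true), (2, 23, true), (1, 25, true), (0, 25, true), (4, 19, true), (3, 24, true), (2, 26, true), (1, 26, true), (0, 27, true), (4, 24, true), (3, 26, true), (2, 26, true), (1, 27, true), (5, 23, true), (4, 25, true), (3, 25, true), (6, 22, true), (4, 4, true), (9, 9, true), (8, 17, true), (7, 17, true), (6, 21, true), (5, 21, true), (4, 24, true), (3, 27, true), (2, 27, true), (0, 6, true), (6, 17, true), (5, 17, true), (4, 21, true), (3, 21, true), (2, 24, true), (1, 27, true), (0, 27, true), (7, 16, true), (6, 16, true), (5, 20, true), (4, 20, true), (3, 23, true), (1, 5, true), (5, 14, true), (4, 16, true), (3, 20, true), (2, 20, true), (1, 23, true), (5, 14, true), (4, 20, true), (3, 20, true), (2, 23, true), (5, 18, true), (4, 21, true), (3, 24, true), (2, 27, true), (1, 27, true), (5, 21, true), (4, 24, true), (3, 27, true), (2, 27, true), (0, 6, true), (3, 18, true), (2, 24, true), (1, 27, true), (0, 27, true), (3, 24, true), (2, 27, true), (1, 27, true), (10, 9,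 true), (9, 17, true), (8, 17, true), (7, 21, true), (6, 21, true), (5, 24, true), (4, 24, true), (3, 27, true), (2, 27, true), (0, 6, true), (7, 17, true), (6, 17, true), (5, 21, true), (4, 21, true), (3, 24, true), (2, 24, true), (1, 27, true), (0, 27, true), (8, 16, true), (7, 16, true), (6, 20, true), (5, 20, true), (4, 23, true), (3, 23, true), (1, 5, true), (6, 14, true), (5, 16, true), (4, 20, true), (3, 20, true), (2, 23, true), (1, 23, true), (6, 14, true), (5, 20, true), (4, 20, true), (3, 23, true), (2, 23, true), (6, 18, true), (5, 21, true), (4, 24, true), (3, 24, true), (2, 27, true), (1, 27, true), (6, 21, true), (5, 24, true), (4, 24, true), (3, 27, true), (2, 27, true), (0, 6, true), (4, 18, true), (3, 24, true), (2, 24, true), (1, 27, true), (0, 27, true), (4, 24, true), (3, 24, true), (2, 27, true), (1, 27, true), (4, 3, true), (8, 8, true), (7, 16, true), (6, 16, true), (5, 20, true), (4, 20, true), (2, 5, true), (5, 15, true), (4, 17, true), (3, 21, true), (2, 21, true), (0, 6, true), (2, 17, true), (1, 21, true), (0, 21, true), (3, 16, true), (2, 20, true), (1, 20, true),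 (4, 16, true), (3, 20, true), (2, 20, true), (5, 15, true), (4, 21, true), (3, 21, true), (2, 27, true), (1, 27, true), (5, 21, true), (4, 21, true), (3, 27, true), (2, 27, true), (0, 6, true), (3, 20, true), (2, 20, true), (0, 5, true), (1, 20, true), (0, 20, true), (2, 19, true), (1, 21, true), (0, 27, true), (2, 21, true), (1, 27, true), (3, 20, true), (4, 19, true), (3, 27, true), (2, 27, true), (0, 6, true), (1, 27, true), (0, 27, true), (1, 5, true), (5, 14, true), (4, 16, true), (3, 20, true), (2, 20, true), (1, 25, true), (5, 14, true), (4, 20, true), (3, 20, true), (2, 25, true), (5, 18, true), (4, 21, true), (3, 26, true), (2, 27, true), (1, 27, true), (5, 21, true), (4, 26, true), (3, 27, true), (2, 27, true), (0, 6, true), (3, 18, true), (2, 26, true), (1, 27, true), (0, 27, true), (3, 26, true), (2, 27, true), (1, 27, true), (9, 14, true), (8, 16, true), (7, 20, true), (6, 20, true), (5, 23, true), (4, 25, true), (2, 5, true), (6, 14, true), (5, 20, true), (4, 20, true), (3, 23, true), (2, 25, true), (6, 18, true), (5, 21, true), (4, 24, true), (3, 26, true), (2, 27, true), (0,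 6, true), (3, 21, true), (2, 24, true), (1, 26, true), (0, 27, true), (4, 18, true), (3, 24, true), (2, 26, true), (1, 27, true), (4, 24, true), (3, 26, true), (2, 27, true), (0, 6, true), (7, 13, true), (6, 14, true), (5, 20, true), (4, 20, true), (3, 23, true), (2, 23, true), (1, 25, true), (6, 18, true), (5, 21, true), (4, 24, true), (3, 24, true), (2, 26, true), (1, 27, true), (0, 27, true), (6, 21, true), (5, 24, true), (4, 24, true), (3, 26, true), (2, 27, true), (1, 27, true), (7, 18, true), (6, 24, true), (5, 24, true), (4, 26, true), (3, 27, true), (2, 27, true), (0, 6, true), (4, 24, true), (3, 24, true), (2, 26, true), (1, 27, true), (0, 27, true), (4, 3, true), (6, 14, true), (5, 20, true), (4, 20, true), (3, 25, true), (1, 5, true), (3, 18, true), (2, 21, true), (1, 26, true), (3, 21, true), (2, 26, true), (0, 6, true), (1, 18, true), (0, 26, true), (1, 26, true), (6, 13, true), (5, 18, true), (4, 21, true), (3, 24, true), (2, 26, true), (0, 6, true), (2, 21, true), (1, 24, true), (0, 26, true), (3, 18, true), (2, 24, true), (1, 26, true), (3, 24, true), (2, 26, true), (0, 6, true),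 (4, 18, true), (3, 21, true), (2, 24, true), (1, 24, true), (0, 26, true), (4, 21, true), (3, 24, true), (2, 24, true), (1, 26, true), (5, 18, true), (4, 24, true), (3, 24, true), (2, 26, true), (0, 6, true), (2, 24, true), (1, 24, true), (0, 26, true), (2, 3, true), (2, 2, true), (1, 26, true), (2, 26, true), (0, 6, true), (0, 25, true), (4, 0, true), (3, 17, true), (2, 17, true), (1, 26, true), (0, 27, true), (4, 17, true), (3, 17, true), (2, 26, true), (1, 27, true), (5, 16, true), (4, 16, true), (3, 25, true), (3, 25, false), (4, 16, false), (5, 16, false), (1, 27, false), (2, 26, false), (3, 17, false), (4, 17, false), (0, 27, false), (1, 26, false), (2, 17, false), (3, 17, false), (4, 0, false), (0, 5, false), (0, 6, false), (2, 27, false), (3, 27, false), (1, 27, false), (2, 27, false), (3, 15, false), (3, 4, false), (2, 25, false), (3, 25, false), (1, 25, false), (2, 25, false), (0, 26, false), (1, 26, false), (0, 6, false), (2, 26, false), (3, 26, false), (4, 15, false), (2, 5, false), (4, 25, false), (5, 25, false), (6, 16, false), (1, 27, false), (2, 27, false), (3, 26, false), (4,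 26, false), (5, 17, false), (6, 7, false), (2, 25, false), (1, 25, false), (0, 26, false), (0, 6, false), (2, 26, false), (3, 15, false), (1, 26, false), (2, 17, false), (3, 10, false), (1, 5, false), (0, 27, false), (0, 6, false), (2, 27, false), (3, 15, false), (1, 27, false), (2, 17, false), (3, 10, false), (1, 16, false), (2, 11, false), (0, 17, false), (1, 12, false), (2, 7, false), (0, 4, false), (0, 5, false), (2, 25, false), (0, 6, false), (2, 27, false), (3, 27, false), (4, 26, false), (5, 7, false), (1, 27, false), (2, 27, false), (3, 10, false), (3, 4, false), (0, 27, false), (1, 27, false), (2, 26, false), (3, 26, false), (4, 10, false), (1, 25, false), (2, 25, false), (3, 11, false), (0, 6, false), (2, 27, false), (3, 26, false), (4, 26, false), (5, 12, false), (6, 7, false), (2, 25, false), (3, 25, false), (1, 26, false), (2, 26, false), (0, 26, false), (1, 26, false), (2, 2, false), (2, 3, false), (0, 6, false), (2, 26, false), (3, 26, false), (4, 24, false), (5, 24, false), (1, 26, false), (2, 26, false), (3, 24, false), (4, 24, false), (5, 18, false), (0, 26, false), (1, 26,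 false), (2, 24, false), (3, 24, false), (4, 21, false), (0, 6, false), (2, 26, false), (3, 26, false), (4, 24, false), (5, 24, false), (6, 21, false), (7, 18, false), (1, 26, false), (2, 26, false), (3, 24, false), (0, 26, false), (1, 26, false), (2, 24, false), (3, 18, false), (0, 6, false), (2, 26, false), (3, 26, false), (4, 24, false), (5, 21, false), (1, 26, false), (2, 26, false), (3, 24, false), (4, 21, false), (5, 18, false), (2, 22, false), (1, 5, false), (3, 25, false), (4, 23, false), (0, 27, false), (1, 27, false), (2, 26, false), (3, 24, false), (0, 6, false), (2, 27, false), (3, 27, false), (4, 26, false), (5, 24, false), (6, 19, false), (3, 25, false), (4, 23, false), (5, 20, false), (1, 27, false), (2, 26, false), (3, 24, false), (4, 21, false), (0, 27, false), (1, 26, false), (2, 24, false), (3, 21, false), (4, 19, false), (0, 25, false), (1, 23, false), (2, 20, false), (3, 20, false), (4, 8, false), (0, 6, false), (2, 26, false), (1, 26, false), (2, 18, false), (0, 26, false), (1, 21, false), (0, 6, false), (2, 26, false), (3, 21, false), (4, 18, false), (2, 5, false), (4,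 25, false), (5, 20, false), (6, 20, false), (1, 27, false), (2, 27, false), (3, 26, false), (4, 21, false), (5, 21, false), (0, 27, false), (1, 27, false), (2, 26, false), (3, 21, false), (4, 21, false), (5, 9, false), (3, 3, false), (0, 6, false), (2, 27, false), (3, 27, false), (4, 26, false), (5, 24, false), (6, 24, false), (1, 27, false), (2, 27, false), (3, 26, false), (4, 24, false), (5, 24, false), (6, 18, false), (0, 27, false), (1, 27, false), (2, 26, false), (3, 24, false), (4, 24, false), (5, 21, false), (0, 6, false), (2, 27, false), (3, 27, false), (4, 26, false), (5, 24, false), (6, 24, false), (7, 21, false), (8, 18, false), (3, 25, false), (4, 23, false), (5, 23, false), (6, 20, false), (7, 20, false), (1, 27, false), (2, 26, false), (3, 24, false), (4, 24, false), (5, 21, false), (6, 21, false), (0, 27, false), (1, 26, false), (2, 24, false), (3, 24, false), (4, 21, false), (5, 21, false), (6, 9, false), (1, 22, false), (2, 22, false), (0, 23, false), (1, 23, false), (0, 6, false), (2, 24, false), (3, 24, false), (1, 24, false), (2, 24, false), (3, 19, false), (1, 5, false),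 (3, 23, false), (4, 23, false), (5, 20, false), (0, 27, false), (1, 27, false), (2, 24, false), (3, 24, false), (4, 21, false), (0, 6, false), (2, 27, false), (3, 27, false), (4, 24, false), (5, 24, false), (6, 21, false), (7, 19, false), (1, 27, false), (2, 27, false), (3, 24, false), (4, 24, false), (5, 21, false), (6, 21, false), (7, 10, false), (2, 23, false), (3, 23, false), (4, 20, false), (5, 20, false), (6, 11, false), (7, 8, false), (0, 27, false), (1, 24, false), (0, 6, false), (2, 27, false), (3, 24, false), (4, 18, false), (1, 27, false), (0, 27, false), (1, 18, false), (1, 4, false), (0, 25, false), (1, 25, false), (0, 6, false), (2, 26, false), (3, 26, false), (1, 26, false), (2, 26, false), (3, 19, false), (1, 5, false), (3, 25, false), (4, 25, false), (5, 20, false), (6, 8, false), (5, 3, false), (0, 27, false), (1, 27, false), (2, 26, false), (3, 26, false), (4, 24, false), (5, 24, false), (0, 6, false), (2, 27, false), (3, 27, false), (4, 26, false), (5, 26, false), (6, 24, false), (7, 24, false), (8, 18, false), (3, 25, false), (4, 25, false), (5, 23, false), (6, 23, false),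 (7, 20, false), (1, 27, false), (2, 26, false), (3, 26, false), (4, 24, false), (5, 24, false), (6, 21, false), (0, 27, false), (1, 26, false), (2, 26, false), (3, 24, false), (4, 24, false), (5, 21, false), (6, 9, false), (0, 6, false), (2, 27, false), (3, 26, false), (4, 26, false), (5, 24, false), (1, 27, false), (2, 26, false), (3, 26, false), (4, 24, false), (5, 18, false), (1, 25, false), (2, 25, false), (3, 23, false), (4, 20, false), (0, 26, false), (1, 26, false), (2, 24, false), (3, 21, false), (0, 6, false), (2, 26, false), (3, 26, false), (4, 24, false), (5, 21, false), (6, 9, false), (3, 22, false), (2, 5, false), (4, 25, false), (5, 23, false), (1, 27, false), (2, 27, false), (3, 26, false), (4, 24, false), (0, 27, false), (1, 27, false), (2, 26, false), (3, 24, false), (4, 19, false), (0, 6, false), (2, 27, false), (3, 27, false), (4, 26, false), (5, 24, false), (6, 21, false), (7, 10, false), (3, 25, false), (4, 23, false), (5, 20, false), (6, 11, false), (7, 8, false), (1, 27, false), (2, 26, false), (0, 27, false), (1, 26, false), (2, 18, false), (0, 25, false), (1, 20, false),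 (0, 6, false), (2, 26, false), (3, 21, false), (1, 26, false), (2, 21, false), (3, 9, false), (1, 5, false), (3, 25, false), (4, 20, false), (5, 11, false), (0, 27, false), (1, 27, false), (2, 26, false), (3, 21, false), (4, 12, false), (0, 6, false), (2, 27, false), (3, 27, false), (4, 26, false), (5, 21, false), (6, 12, false), (7, 9, false), (1, 27, false), (0, 27, false), (1, 19, false), (0, 6, false), (2, 27, false), (3, 21, false), (4, 10, false), (1, 27, false), (2, 21, false), (3, 12, false), (4, 10, false), (2, 4, false), (1, 25, false), (2, 25, false), (0, 26, false), (1, 26, false), (0, 6, false), (2, 26, false), (3, 26, false), (4, 19, false), (1, 26, false), (2, 26, false), (3, 21, false), (4, 10, false), (0, 26, false), (1, 26, false), (2, 21, false), (3, 12, false), (4, 10, false), (2, 3, false), (1, 22, false), (0, 5, false), (2, 25, false), (3, 23, false), (1, 25, false), (2, 23, false), (0, 6, false), (2, 27, false), (3, 26, false), (4, 24, false), (1, 27, false), (2, 26, false), (3, 24, false), (3, 3, false), (2, 22, false), (3, 22, false), (2, 4, false), (4, 22, false), (5,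 22, false)]),
    ([0, 2], [6, 6, 5, 4, 3, 3, 2, 0], [(6, 12, true), (5, 12, true), (4, 17, true), (3, 21, true), (2, 24, true), (1, 26, true), (0, 26, true), (7, 8, true), (6, 11, true), (5, 16, true), (4, 20, true), (3, 23, true), (2, 25, true), (1, 25, true), (7, 10, true), (6, 17, true), (5, 21, true), (4, 24, true), (3, 26, true), (2, 26, true), (1, 27, true), (7, 15, true), (6, 21, true), (5, 24, true), (4, 26, true), (3, 26, true), (2, 27, true), (0, 6, true), (4, 21, true), (3, 24, true), (2, 26, true), (1, 26, true), (0, 27, true), (5, 20, true), (4, 23, true), (3, 25, true), (2, 25, true), (6, 20, true), (5, 23, true), (4, 25, true), (3, 25, true), (1, 5, true), (4, 19, true), (3, 24, true), (2, 26, true), (1, 26, true), (4, 24, true), (3, 26, true), (2, 26, true), (0, 6, true), (2, 23, true), (1, 25, true), (0, 25, true), (3, 22, true), (1, 4, true), (4, 9, true), (3, 17, true), (2, 21, true), (1, 24, true), (0, 27, true), (4, 17, true), (3, 21, true), (2, 24, true), (1, 27, true), (5, 16, true), (4, 20, true), (3, 23, true), (6, 14, true), (5, 20, true), (4, 23, true), (2, 5, true),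 (3, 18, true), (2, 24, true), (0, 6, true), (0, 24, true), (5, 9, true), (4, 17, true), (3, 21, true), (2, 24, true), (1, 24, true), (5, 17, true), (4, 21, true), (3, 24, true), (2, 24, true), (0, 6, true), (3, 16, true), (2, 20, true), (1, 23, true), (0, 23, true), (4, 14, true), (3, 20, true), (2, 23, true), (1, 23, true), (4, 18, true), (3, 24, true), (2, 24, true), (1, 27, true), (0, 27, true), (4, 24, true), (3, 24, true), (2, 27, true), (1, 27, true), (4, 3, true), (6, 8, true), (5, 16, true), (4, 20, true), (2, 5, true), (3, 15, true), (2, 21, true), (0, 6, true), (0, 21, true), (1, 20, true), (2, 20, true), (3, 19, true), (2, 27, true), (1, 27, true), (3, 27, true), (2, 27, true), (0, 6, true), (0, 5, true), (2, 14, true), (1, 20, true), (0, 25, true), (2, 18, true), (1, 26, true), (0, 27, true), (2, 26, true), (1, 27, true), (6, 14, true), (5, 20, true), (4, 23, true), (3, 25, true), (6, 18, true), (5, 24, true), (4, 26, true), (3, 27, true), (2, 27, true), (0, 6, true), (3, 24, true), (2, 26, true), (1, 27, true), (0, 27, true), (7, 13, true), (6, 18, true), (5, 24, true), (4, 24,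 true), (3, 26, true), (2, 27, true), (1, 27, true), (6, 24, true), (5, 24, true), (4, 26, true), (3, 27, true), (2, 27, true), (0, 6, true), (3, 3, true), (3, 18, true), (2, 26, true), (1, 27, true), (0, 27, true), (3, 26, true), (2, 27, true), (1, 27, true), (10, 7, true), (9, 12, true), (8, 17, true), (7, 21, true), (6, 21, true), (5, 24, true), (4, 26, true), (3, 27, true), (2, 27, true), (0, 6, true), (7, 11, true), (6, 16, true), (5, 20, true), (4, 20, true), (3, 23, true), (2, 25, true), (0, 5, true), (5, 10, true), (4, 17, true), (3, 21, true), (2, 21, true), (1, 24, true), (0, 26, true), (5, 15, true), (4, 21, true), (3, 21, true), (2, 24, true), (1, 26, true), (5, 21, true), (4, 21, true), (3, 24, true), (2, 26, true), (0, 6, true), (3, 20, true), (2, 20, true), (1, 23, true), (0, 25, true), (4, 20, true), (3, 20, true), (2, 23, true), (1, 25, true), (5, 19, true), (4, 21, true), (3, 24, true), (2, 26, true), (1, 27, true), (0, 27, true), (5, 21, true), (4, 24, true), (3, 26, true), (2, 27, true), (1, 27, true), (6, 20, true), (5, 23, true), (4, 25, true), (2, 5, true), (4, 19, true),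 (3, 24, true), (2, 26, true), (0, 6, true), (1, 24, true), (0, 26, true), (2, 23, true), (1, 25, true), (3, 22, true), (8, 10, true), (7, 17, true), (6, 21, true), (5, 21, true), (4, 24, true), (3, 26, true), (2, 26, true), (1, 27, true), (8, 15, true), (7, 21, true), (6, 21, true), (5, 24, true), (4, 26, true), (3, 26, true), (2, 27, true), (0, 6, true), (5, 21, true), (4, 21, true), (3, 24, true), (2, 26, true), (1, 26, true), (0, 27, true), (6, 20, true), (5, 20, true), (4, 23, true), (3, 25, true), (2, 25, true), (7, 20, true), (6, 20, true), (5, 23, true), (4, 25, true), (3, 25, true), (1, 5, true), (5, 19, true), (4, 21, true), (3, 24, true), (2, 26, true), (1, 26, true), (5, 21, true), (4, 24, true), (3, 26, true), (2, 26, true), (0, 6, true), (3, 20, true), (2, 23, true), (1, 25, true), (0, 25, true), (4, 19, true), (3, 24, true), (2, 26, true), (1, 26, true), (0, 27, true), (4, 24, true), (3, 26, true), (2, 26, true), (1, 27, true), (5, 23, true), (4, 25, true), (3, 25, true), (6, 22, true), (4, 4, true), (8, 7, true), (7, 17, true), (6, 21, true), (5, 21, true), (4, 24, true), (3,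 27, true), (2, 27, true), (0, 6, true), (5, 16, true), (4, 20, true), (3, 20, true), (2, 23, true), (0, 5, true), (3, 15, true), (2, 21, true), (1, 21, true), (0, 24, true), (3, 21, true), (2, 21, true), (1, 24, true), (4, 20, true), (3, 20, true), (2, 23, true), (5, 20, true), (4, 20, true), (3, 23, true), (6, 19, true), (5, 21, true), (4, 24, true), (3, 27, true), (2, 27, true), (0, 6, true), (3, 21, true), (2, 24, true), (1, 27, true), (0, 27, true), (4, 20, true), (3, 23, true), (1, 5, true), (2, 19, true), (1, 24, true), (2, 24, true), (0, 6, true), (0, 23, true), (1, 22, true), (5, 15, true), (4, 21, true), (3, 21, true), (2, 24, true), (1, 26, true), (0, 27, true), (5, 21, true), (4, 21, true), (3, 24, true), (2, 26, true), (1, 27, true), (6, 20, true), (5, 20, true), (4, 23, true), (3, 25, true), (7, 20, true), (6, 20, true), (5, 23, true), (4, 25, true), (2, 5, true), (5, 19, true), (4, 21, true), (3, 24, true), (2, 26, true), (0, 6, true), (2, 21, true), (1, 24, true), (0, 26, true), (3, 20, true), (2, 23, true), (1, 25, true), (4, 19, true), (3, 24, true), (2, 26, true), (1, 27, true),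 (4, 24, true), (3, 26, true), (2, 27, true), (0, 6, true), (2, 23, true), (1, 25, true), (3, 22, true), (9, 0, true), (8, 17, true), (7, 17, true), (6, 21, true), (5, 21, true), (4, 24, true), (3, 26, true), (2, 26, true), (1, 27, true), (0, 27, true), (9, 17, true), (8, 17, true), (7, 21, true), (6, 21, true), (5, 24, true), (4, 26, true), (3, 26, true), (2, 27, true), (1, 27, true), (10, 16, true), (9, 16, true), (8, 20, true), (7, 20, true), (6, 23, true), (5, 25, true), (4, 25, true), (2, 5, true), (2, 5, false), (4, 25, false), (5, 25, false), (6, 23, false), (7, 20, false), (8, 20, false), (9, 16, false), (10, 16, false), (1, 27, false), (2, 27, false), (3, 26, false), (4, 26, false), (5, 24, false), (6, 21, false), (7, 21, false), (8, 17, false), (9, 17, false), (0, 27, false), (1, 27, false), (2, 26, false), (3, 26, false), (4, 24, false), (5, 21, false), (6, 21, false), (7, 17, false), (8, 17, false), (9, 0, false), (3, 22, false), (1, 25, false), (2, 23, false), (0, 6, false), (2, 27, false), (3, 26, false), (4, 24, false), (1, 27, false), (2, 26, false), (3, 24, false), (4, 19, false),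 (1, 25, false), (2, 23, false), (3, 20, false), (0, 26, false), (1, 24, false), (2, 21, false), (0, 6, false), (2, 26, false), (3, 24, false), (4, 21, false), (5, 19, false), (2, 5, false), (4, 25, false), (5, 23, false), (6, 20, false), (7, 20, false), (3, 25, false), (4, 23, false), (5, 20, false), (6, 20, false), (1, 27, false), (2, 26, false), (3, 24, false), (4, 21, false), (5, 21, false), (0, 27, false), (1, 26, false), (2, 24, false), (3, 21, false), (4, 21, false), (5, 15, false), (1, 22, false), (0, 23, false), (0, 6, false), (2, 24, false), (1, 24, false), (2, 19, false), (1, 5, false), (3, 23, false), (4, 20, false), (0, 27, false), (1, 27, false), (2, 24, false), (3, 21, false), (0, 6, false), (2, 27, false), (3, 27, false), (4, 24, false), (5, 21, false), (6, 19, false), (3, 23, false), (4, 20, false), (5, 20, false), (2, 23, false), (3, 20, false), (4, 20, false), (1, 24, false), (2, 21, false), (3, 21, false), (0, 24, false), (1, 21, false), (2, 21, false), (3, 15, false), (0, 5, false), (2, 23, false), (3, 20, false), (4, 20, false), (5, 16, false), (0, 6, false), (2, 27, false),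 (3, 27, false), (4, 24, false), (5, 21, false), (6, 21, false), (7, 17, false), (8, 7, false), (1, 27, false), (2, 27, false), (0, 27, false), (1, 27, false), (2, 18, false), (2, 3, false), (0, 6, false), (2, 27, false), (3, 27, false), (4, 24, false), (5, 24, false), (1, 27, false), (2, 27, false), (3, 24, false), (4, 24, false), (5, 18, false), (6, 13, false), (0, 27, false), (1, 27, false), (2, 24, false), (0, 6, false), (2, 27, false), (3, 27, false), (4, 24, false), (5, 18, false), (3, 23, false), (4, 20, false), (5, 14, false), (1, 27, false), (0, 27, false), (1, 18, false), (0, 20, false), (1, 14, false), (0, 4, false), (0, 5, false), (2, 25, false), (3, 25, false), (0, 6, false), (2, 27, false), (3, 27, false), (4, 26, false), (5, 26, false), (1, 27, false), (2, 27, false), (3, 26, false), (4, 26, false), (5, 19, false), (2, 25, false), (3, 25, false), (4, 20, false), (1, 25, false), (2, 25, false), (3, 20, false), (0, 26, false), (1, 26, false), (2, 21, false), (0, 6, false), (2, 26, false), (3, 26, false), (4, 21, false), (5, 15, false), (2, 5, false), (4, 25, false), (5, 25, false),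 (6, 20, false), (7, 16, false), (8, 8, false), (6, 3, false), (1, 27, false), (2, 27, false), (3, 26, false), (4, 26, false), (5, 24, false), (6, 24, false), (0, 27, false), (1, 27, false), (2, 26, false), (3, 26, false), (4, 24, false), (5, 24, false), (6, 18, false), (1, 25, false), (2, 25, false), (3, 23, false), (4, 23, false), (5, 20, false), (6, 14, false), (0, 25, false), (1, 25, false), (2, 23, false), (3, 23, false), (4, 20, false), (5, 16, false), (0, 6, false), (2, 26, false), (3, 26, false), (4, 24, false), (5, 24, false), (6, 21, false), (7, 17, false), (1, 26, false), (2, 26, false), (3, 24, false), (4, 24, false), (5, 21, false), (6, 17, false), (7, 9, false), (2, 22, false), (3, 22, false), (1, 5, false), (3, 25, false), (4, 23, false), (5, 23, false), (0, 27, false), (1, 27, false), (2, 26, false), (3, 24, false), (4, 24, false), (0, 6, false), (2, 27, false), (3, 27, false), (4, 26, false), (5, 24, false), (6, 24, false), (7, 19, false), (3, 25, false), (4, 23, false), (5, 23, false), (6, 20, false), (2, 25, false), (3, 23, false), (4, 23, false), (5, 20, false), (1, 26, false),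 (2, 24, false), (3, 24, false), (4, 21, false), (0, 26, false), (1, 24, false), (2, 24, false), (3, 21, false), (4, 15, false), (0, 6, false), (2, 26, false), (3, 24, false), (4, 24, false), (5, 21, false), (6, 17, false), (7, 10, false), (2, 22, false), (3, 22, false), (2, 5, false), (4, 23, false), (5, 23, false), (1, 27, false), (2, 27, false), (3, 24, false), (4, 24, false), (0, 27, false), (1, 27, false), (2, 24, false), (3, 24, false), (4, 19, false), (1, 23, false), (2, 23, false), (3, 20, false), (0, 23, false), (1, 23, false), (2, 20, false), (0, 6, false), (2, 24, false), (3, 24, false), (4, 21, false), (1, 24, false), (2, 24, false), (3, 21, false), (4, 15, false), (0, 24, false), (1, 24, false), (2, 21, false), (3, 17, false), (4, 10, false), (0, 6, false), (2, 24, false), (3, 24, false), (2, 4, false), (4, 22, false), (3, 22, false), (2, 5, false), (4, 25, false), (5, 23, false), (3, 25, false), (4, 23, false), (3, 4, false), (2, 25, false), (3, 25, false), (2, 5, false), (4, 25, false), (5, 25, false), (1, 5, false), (0, 27, false), (1, 27, false), (0, 6, false), (2, 27, false),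 (3, 27, false), (1, 27, false)], [(7, 12, true), (6, 17, true), (5, 17, true), (4, 21, true), (3, 21, true), (2, 24, true), (1, 26, true), (0, 26, true), (8, 12, true), (7, 17, true), (6, 17, true), (5, 21, true), (4, 21, true), (3, 24, true), (2, 26, true), (1, 26, true), (9, 11, true), (8, 16, true), (7, 16, true), (6, 20, true), (5, 20, true), (4, 23, true), (3, 25, true), (2, 25, true), (10, 11, true), (9, 16, true), (8, 16, true), (7, 20, true), (6, 20, true), (5, 23, true), (4, 25, true), (3, 25, true), (11, 9, true), (10, 17, true), (9, 17, true), (8, 21, true), (7, 21, true), (6, 24, true), (5, 26, true), (4, 26, true), (3, 27, true), (2, 27, true), (0, 6, true), (8, 17, true), (7, 17, true), (6, 21, true), (5, 21, true), (4, 24, true), (3, 26, true), (2, 26, true), (1, 27, true), (0, 27, true), (9, 16, true), (8, 16, true), (7, 20, true), (6, 20, true), (5, 23, true), (4, 25, true), (3, 25, true), (1, 5, true), (7, 14, true), (6, 16, true), (5, 20, true), (4, 20, true), (3, 23, true), (2, 25, true), (1, 25, true), (7, 14, true), (6, 20, true), (5, 20, true), (4, 23, true), (3, 25, true),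 (2, 25, true), (7, 18, true), (6, 21, true), (5, 24, true), (4, 26, true), (3, 26, true), (2, 27, true), (1, 27, true), (7, 21, true), (6, 24, true), (5, 26, true), (4, 26, true), (3, 27, true), (2, 27, true), (0, 6, true), (5, 18, true), (4, 24, true), (3, 26, true), (2, 26, true), (1, 27, true), (0, 27, true), (5, 24, true), (4, 26, true), (3, 26, true), (2, 27, true), (1, 27, true), (12, 7, true), (11, 17, true), (10, 17, true), (9, 21, true), (8, 21, true), (7, 24, true), (6, 24, true), (5, 26, true), (4, 26, true), (3, 27, true), (2, 27, true), (0, 6, true), (9, 16, true), (8, 16, true), (7, 20, true), (6, 20, true), (5, 23, true), (4, 23, true), (3, 25, true), (2, 25, true), (0, 5, true), (7, 15, true), (6, 17, true), (5, 21, true), (4, 21, true), (3, 24, true), (2, 24, true), (1, 26, true), (0, 26, true), (7, 17, true), (6, 21, true), (5, 21, true), (4, 24, true), (3, 24, true), (2, 26, true), (1, 26, true), (8, 16, true), (7, 20, true), (6, 20, true), (5, 23, true), (4, 23, true), (3, 25, true), (2, 25, true), (9, 16, true), (8, 20, true), (7, 20, true), (6, 23, true), (5, 23, true),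 (4, 25, true), (3, 25, true), (10, 15, true), (9, 21, true), (8, 21, true), (7, 24, true), (6, 24, true), (5, 26, true), (4, 26, true), (3, 27, true), (2, 27, true), (0, 6, true), (7, 21, true), (6, 21, true), (5, 24, true), (4, 24, true), (3, 26, true), (2, 26, true), (1, 27, true), (0, 27, true), (8, 20, true), (7, 20, true), (6, 23, true), (5, 23, true), (4, 25, true), (3, 25, true), (1, 5, true), (6, 20, true), (5, 20, true), (4, 23, true), (3, 23, true), (2, 25, true), (1, 25, true), (7, 19, true), (6, 21, true), (5, 24, true), (4, 24, true), (3, 26, true), (2, 26, true), (1, 27, true), (7, 21, true), (6, 24, true), (5, 24, true), (4, 26, true), (3, 26, true), (2, 27, true), (0, 6, true), (5, 20, true), (4, 23, true), (3, 23, true), (2, 25, true), (1, 25, true), (6, 19, true), (5, 24, true), (4, 24, true), (3, 26, true), (2, 26, true), (1, 27, true), (0, 27, true), (6, 24, true), (5, 24, true), (4, 26, true), (3, 26, true), (2, 27, true), (1, 27, true), (7, 23, true), (6, 23, true), (5, 25, true), (4, 25, true), (2, 5, true), (5, 22, true), (4, 22, true), (2, 4, true), (7, 15, true), (6,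 17, true), (5, 21, true), (4, 21, true), (3, 24, true), (2, 24, true), (0, 6, true), (4, 17, true), (3, 21, true), (2, 21, true), (1, 24, true), (0, 24, true), (5, 16, true), (4, 20, true), (3, 20, true), (2, 23, true), (1, 23, true), (6, 16, true), (5, 20, true), (4, 20, true), (3, 23, true), (2, 23, true), (7, 15, true), (6, 21, true), (5, 21, true), (4, 24, true), (3, 24, true), (2, 27, true), (1, 27, true), (7, 21, true), (6, 21, true), (5, 24, true), (4, 24, true), (3, 27, true), (2, 27, true), (0, 6, true), (5, 20, true), (4, 20, true), (3, 23, true), (2, 23, true), (0, 5, true), (3, 20, true), (2, 20, true), (1, 23, true), (0, 23, true), (4, 19, true), (3, 21, true), (2, 24, true), (1, 24, true), (0, 27, true), (4, 21, true), (3, 24, true), (2, 24, true), (1, 27, true), (5, 20, true), (4, 23, true), (3, 23, true), (6, 19, true), (5, 24, true), (4, 24, true), (3, 27, true), (2, 27, true), (0, 6, true), (3, 24, true), (2, 24, true), (1, 27, true), (0, 27, true), (4, 23, true), (3, 23, true), (1, 5, true), (2, 22, true), (1, 22, true), (6, 1, true), (5, 21, true), (4, 21, true), (3, 24,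 true), (2, 24, true), (1, 26, true), (6, 21, true), (5, 21, true), (4, 24, true), (3, 24, true), (2, 26, true), (0, 6, true), (0, 6, false), (2, 26, false), (3, 24, false), (4, 24, false), (5, 21, false), (6, 21, false), (1, 26, false), (2, 24, false), (3, 24, false), (4, 21, false), (5, 21, false), (6, 1, false), (1, 22, false), (2, 22, false), (1, 5, false), (3, 23, false), (4, 23, false), (0, 27, false), (1, 27, false), (2, 24, false), (3, 24, false), (0, 6, false), (2, 27, false), (3, 27, false), (4, 24, false), (5, 24, false), (6, 19, false), (3, 23, false), (4, 23, false), (5, 20, false), (1, 27, false), (2, 24, false), (3, 24, false), (4, 21, false), (0, 27, false), (1, 24, false), (2, 24, false), (3, 21, false), (4, 19, false), (0, 23, false), (1, 23, false), (2, 20, false), (3, 20, false), (0, 5, false), (2, 23, false), (3, 23, false), (4, 20, false), (5, 20, false), (0, 6, false), (2, 27, false), (3, 27, false), (4, 24, false), (5, 24, false), (6, 21, false), (7, 21, false), (1, 27, false), (2, 27, false), (3, 24, false), (4, 24, false), (5, 21, false), (6, 21, false), (7, 15, false),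 (2, 23, false), (3, 23, false), (4, 20, false), (5, 20, false), (6, 16, false), (1, 23, false), (2, 23, false), (3, 20, false), (4, 20, false), (5, 16, false), (0, 24, false), (1, 24, false), (2, 21, false), (3, 21, false), (4, 17, false), (0, 6, false), (2, 24, false), (3, 24, false), (4, 21, false), (5, 21, false), (6, 17, false), (7, 15, false), (2, 4, false), (4, 22, false), (5, 22, false), (2, 5, false), (4, 25, false), (5, 25, false), (6, 23, false), (7, 23, false), (1, 27, false), (2, 27, false), (3, 26, false), (4, 26, false), (5, 24, false), (6, 24, false), (0, 27, false), (1, 27, false), (2, 26, false), (3, 26, false), (4, 24, false), (5, 24, false), (6, 19, false), (1, 25, false), (2, 25, false), (3, 23, false), (4, 23, false), (5, 20, false), (0, 6, false), (2, 27, false), (3, 26, false), (4, 26, false), (5, 24, false), (6, 24, false), (7, 21, false), (1, 27, false), (2, 26, false), (3, 26, false), (4, 24, false), (5, 24, false), (6, 21, false), (7, 19, false), (1, 25, false), (2, 25, false), (3, 23, false), (4, 23, false), (5, 20, false), (6, 20, false), (1, 5, false), (3, 25, false),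 (4, 25, false), (5, 23, false), (6, 23, false), (7, 20, false), (8, 20, false), (0, 27, false), (1, 27, false), (2, 26, false), (3, 26, false), (4, 24, false), (5, 24, false), (6, 21, false), (7, 21, false), (0, 6, false), (2, 27, false), (3, 27, false), (4, 26, false), (5, 26, false), (6, 24, false), (7, 24, false), (8, 21, false), (9, 21, false), (10, 15, false), (3, 25, false), (4, 25, false), (5, 23, false), (6, 23, false), (7, 20, false), (8, 20, false), (9, 16, false), (2, 25, false), (3, 25, false), (4, 23, false), (5, 23, false), (6, 20, false), (7, 20, false), (8, 16, false), (1, 26, false), (2, 26, false), (3, 24, false), (4, 24, false), (5, 21, false), (6, 21, false), (7, 17, false), (0, 26, false), (1, 26, false), (2, 24, false), (3, 24, false), (4, 21, false), (5, 21, false), (6, 17, false), (7, 15, false), (0, 5, false), (2, 25, false), (3, 25, false), (4, 23, false), (5, 23, false), (6, 20, false), (7, 20, false), (8, 16, false), (9, 16, false), (0, 6, false), (2, 27, false), (3, 27, false), (4, 26, false), (5, 26, false), (6, 24, false), (7, 24, false), (8, 21, false), (9, 21,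 false), (10, 17, false), (11, 17, false), (12, 7, false), (5, 22, false), (6, 22, false), (3, 25, false), (4, 23, false), (5, 23, false), (1, 27, false), (2, 26, false), (3, 24, false), (4, 24, false), (0, 27, false), (1, 26, false), (2, 24, false), (3, 24, false), (4, 19, false), (0, 25, false), (1, 23, false), (2, 23, false), (3, 20, false), (0, 6, false), (2, 26, false), (3, 24, false), (4, 24, false), (5, 21, false), (1, 26, false), (2, 24, false), (3, 24, false), (4, 21, false), (5, 19, false), (1, 5, false), (3, 25, false), (4, 23, false), (5, 23, false), (6, 20, false), (7, 20, false), (2, 25, false), (3, 23, false), (4, 23, false), (5, 20, false), (6, 20, false), (0, 27, false), (1, 26, false), (2, 24, false), (3, 24, false), (4, 21, false), (5, 21, false), (0, 6, false), (2, 27, false), (3, 26, false), (4, 24, false), (5, 24, false), (6, 21, false), (7, 21, false), (8, 15, false), (3, 22, false), (4, 22, false), (2, 23, false), (3, 23, false), (1, 24, false), (2, 24, false), (0, 24, false), (1, 24, false), (2, 19, false), (0, 5, false), (2, 23, false), (3, 23, false), (4, 20, false),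 (0, 6, false), (2, 27, false), (3, 27, false), (4, 24, false), (5, 24, false), (6, 21, false), (1, 27, false), (2, 27, false), (3, 24, false), (4, 24, false), (5, 21, false), (6, 19, false), (2, 23, false), (3, 23, false), (4, 20, false), (5, 20, false), (1, 23, false), (2, 23, false), (3, 20, false), (4, 20, false), (0, 24, false), (1, 24, false), (2, 21, false), (3, 21, false), (0, 6, false), (2, 24, false), (3, 24, false), (4, 21, false), (5, 21, false), (6, 15, false), (2, 5, false), (4, 23, false), (5, 23, false), (6, 20, false), (7, 20, false), (8, 16, false), (1, 27, false), (2, 27, false), (3, 24, false), (4, 24, false), (5, 21, false), (6, 21, false), (7, 17, false), (8, 7, false), (0, 27, false), (1, 27, false), (2, 24, false), (0, 6, false), (2, 27, false), (3, 27, false), (4, 24, false), (5, 18, false), (1, 27, false), (2, 27, false), (0, 27, false), (1, 27, false), (2, 18, false), (3, 13, false), (2, 3, false), (0, 6, false), (2, 27, false), (3, 27, false), (4, 24, false), (5, 24, false), (1, 27, false), (2, 27, false), (3, 24, false), (4, 24, false), (5, 18, false), (2, 23, false),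 (3, 23, false), (4, 20, false), (5, 14, false), (0, 27, false), (1, 24, false), (0, 6, false), (2, 27, false), (3, 24, false), (4, 18, false), (2, 23, false), (3, 20, false), (4, 14, false), (2, 4, false), (4, 22, false), (2, 5, false), (4, 25, false), (5, 25, false), (6, 23, false), (1, 27, false), (2, 27, false), (3, 26, false), (4, 26, false), (5, 24, false), (0, 27, false), (1, 27, false), (2, 26, false), (3, 26, false), (4, 24, false), (5, 19, false), (1, 25, false), (2, 25, false), (3, 23, false), (4, 20, false), (0, 25, false), (1, 25, false), (2, 23, false), (3, 20, false), (0, 6, false), (2, 26, false), (3, 26, false), (4, 24, false), (5, 21, false), (1, 26, false), (2, 26, false), (3, 24, false), (4, 21, false), (5, 15, false), (1, 5, false), (3, 25, false), (4, 25, false), (5, 23, false), (6, 20, false), (7, 16, false), (8, 8, false), (5, 3, false), (7, 13, false), (2, 25, false), (3, 25, false), (4, 23, false), (5, 14, false), (1, 25, false), (2, 25, false), (3, 14, false), (1, 5, false), (3, 25, false), (2, 25, false), (0, 27, false), (1, 26, false), (0, 6, false), (2, 27, false),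 (3, 26, false), (4, 15, false), (2, 25, false), (3, 16, false), (4, 8, false), (3, 3, false), (2, 5, false), (4, 25, false), (5, 23, false), (6, 23, false), (7, 14, false), (3, 25, false), (4, 23, false), (5, 23, false), (6, 16, false), (1, 27, false), (2, 26, false), (3, 24, false), (4, 24, false), (5, 17, false), (0, 27, false), (1, 26, false), (2, 24, false), (3, 24, false), (4, 17, false), (5, 9, false), (1, 22, false), (2, 22, false), (0, 23, false), (1, 23, false), (0, 5, false), (2, 23, false), (3, 23, false), (0, 6, false), (2, 27, false), (3, 27, false), (4, 24, false), (5, 24, false), (1, 27, false), (2, 27, false), (3, 24, false), (4, 24, false), (5, 15, false), (0, 27, false), (1, 27, false), (2, 24, false), (3, 24, false), (4, 17, false), (5, 10, false), (2, 4, false), (4, 22, false), (5, 22, false), (1, 25, false), (2, 25, false), (3, 23, false), (4, 23, false), (0, 25, false), (1, 25, false), (2, 23, false), (3, 23, false), (0, 6, false), (2, 26, false), (3, 26, false), (4, 24, false), (5, 24, false), (1, 26, false), (2, 26, false), (3, 24, false), (4, 24, false), (5, 15, false),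 (0, 26, false), (1, 26, false), (2, 24, false), (3, 24, false), (4, 17, false), (5, 10, false), (0, 5, false), (2, 25, false), (3, 25, false), (4, 23, false), (1, 25, false), (2, 25, false), (3, 23, false), (0, 6, false), (2, 27, false), (3, 26, false), (4, 26, false), (5, 24, false), (1, 27, false), (2, 26, false), (3, 26, false), (4, 24, false), (1, 25, false), (2, 25, false), (3, 3, false), (1, 5, false), (3, 25, false), (4, 25, false), (5, 23, false), (6, 23, false), (0, 27, false), (1, 27, false), (0, 6, false), (2, 27, false), (3, 27, false), (1, 27, false)]),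
    ([0, 3], [3, 0], [(6, 11, true), (5, 11, true), (4, 16, true), (3, 20, true), (2, 23, true), (1, 25, true), (0, 25, true), (7, 11, true), (6, 11, true), (5, 16, true), (4, 20, true), (3, 23, true), (2, 25, true), (1, 25, true), (8, 10, true), (7, 12, true), (6, 17, true), (5, 21, true), (4, 24, true), (3, 26, true), (2, 26, true), (1, 27, true), (0, 27, true), (8, 10, true), (7, 17, true), (6, 21, true), (5, 24, true), (4, 26, true), (3, 26, true), (2, 27, true), (1, 27, true), (8, 15, true), (7, 21, true), (6, 24, true), (5, 26, true), (4, 26, true), (3, 27, true), (2, 27, true), (0, 6, true), (5, 21, true), (4, 24, true), (3, 26, true), (2, 26, true), (1, 27, true), (0, 27, true), (6, 20, true), (5, 23, true), (4, 25, true), (3, 25, true), (1, 5, true), (4, 20, true), (3, 23, true), (2, 25, true), (1, 25, true), (5, 19, true), (4, 24, true), (3, 26, true), (2, 26, true), (1, 27, true), (5, 24, true), (4, 26, true), (3, 26, true), (2, 27, true), (0, 6, true), (3, 23, true), (2, 25, true), (1, 25, true), (4, 22, true), (2, 4, true), (6, 10, true), (5, 12, true), (4, 17, true), (3, 21, true),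 (2, 24, true), (1, 27, true), (0, 27, true), (6, 10, true), (5, 17, true), (4, 21, true), (3, 24, true), (2, 27, true), (1, 27, true), (6, 15, true), (5, 21, true), (4, 24, true), (3, 27, true), (2, 27, true), (0, 6, true), (3, 21, true), (2, 24, true), (1, 27, true), (0, 27, true), (4, 20, true), (3, 23, true), (1, 5, true), (2, 20, true), (1, 23, true), (3, 19, true), (2, 24, true), (1, 27, true), (3, 24, true), (2, 27, true), (0, 6, true), (1, 23, true), (2, 22, true), (7, 9, true), (6, 12, true), (5, 17, true), (4, 21, true), (3, 24, true), (2, 26, true), (1, 27, true), (0, 27, true), (7, 12, true), (6, 17, true), (5, 21, true), (4, 24, true), (3, 26, true), (2, 27, true), (1, 27, true), (8, 11, true), (7, 16, true), (6, 20, true), (5, 23, true), (4, 25, true), (2, 5, true), (6, 9, true), (5, 17, true), (4, 21, true), (3, 24, true), (2, 26, true), (0, 6, true), (3, 17, true), (2, 21, true), (1, 24, true), (0, 26, true), (4, 16, true), (3, 20, true), (2, 23, true), (1, 25, true), (5, 14, true), (4, 20, true), (3, 23, true), (2, 25, true), (5, 18, true), (4, 24, true), (3, 26, true), (2, 27,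 true), (1, 27, true), (5, 24, true), (4, 26, true), (3, 27, true), (2, 27, true), (0, 6, true), (2, 22, false), (2, 4, false), (4, 22, false)], [(7, 11, true), (6, 16, true), (5, 16, true), (4, 20, true), (3, 20, true), (2, 23, true), (1, 25, true), (0, 25, true), (8, 9, true), (7, 17, true), (6, 17, true), (5, 21, true), (4, 21, true), (3, 24, true), (2, 26, true), (1, 26, true), (0, 27, true), (8, 17, true), (7, 17, true), (6, 21, true), (5, 21, true), (4, 24, true), (3, 26, true), (2, 26, true), (1, 27, true), (9, 16, true), (8, 16, true), (7, 20, true), (6, 20, true), (5, 23, true), (4, 25, true), (3, 25, true), (10, 14, true), (9, 16, true), (8, 20, true), (7, 20, true), (6, 23, true), (5, 25, true), (4, 25, true), (2, 5, true), (7, 14, true), (6, 20, true), (5, 20, true), (4, 23, true), (3, 25, true), (2, 25, true), (7, 18, true), (6, 21, true), (5, 24, true), (4, 26, true), (3, 26, true), (2, 27, true), (0, 6, true), (4, 21, true), (3, 24, true), (2, 26, true), (1, 26, true), (0, 27, true), (5, 18, true), (4, 24, true), (3, 26, true), (2, 26, true), (1, 27, true), (5, 24, true), (4, 26,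 true), (3, 26, true), (2, 27, true), (0, 6, true), (2, 22, false), (1, 22, false)]),
    ([0, 4], [4, 0], [(6, 12, true), (5, 12, true), (4, 17, true), (3, 21, true), (2, 24, true), (1, 26, true), (0, 26, true), (7, 11, true), (6, 11, true), (5, 16, true), (4, 20, true), (3, 23, true), (2, 25, true), (1, 25, true), (8, 11, true), (7, 11, true), (6, 16, true), (5, 20, true), (4, 23, true), (3, 25, true), (2, 25, true), (9, 10, true), (8, 12, true), (7, 17, true), (6, 21, true), (5, 24, true), (4, 26, true), (3, 26, true), (2, 27, true), (1, 27, true), (9, 10, true), (8, 17, true), (7, 21, true), (6, 24, true), (5, 26, true), (4, 26, true), (3, 27, true), (2, 27, true), (0, 6, true), (6, 15, true), (5, 21, true), (4, 24, true), (3, 26, true), (2, 26, true), (1, 27, true), (0, 27, true), (6, 21, true), (5, 24, true), (4, 26, true), (3, 26, true), (2, 27, true), (1, 27, true), (7, 20, true), (6, 23, true), (5, 25, true), (4, 25, true), (2, 5, true), (5, 20, true), (4, 23, true), (3, 25, true), (2, 25, true), (6, 19, true), (5, 24, true), (4, 26, true), (3, 26, true), (2, 27, true), (0, 6, true),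 (3, 24, true), (2, 26, true), (1, 26, true), (0, 27, true), (4, 23, true), (3, 25, true), (2, 25, true), (5, 22, true), (3, 4, true), (7, 10, true), (6, 12, true), (5, 17, true), (4, 21, true), (3, 24, true), (2, 27, true), (1, 27, true), (7, 10, true), (6, 17, true), (5, 21, true), (4, 24, true), (3, 27, true), (2, 27, true), (0, 6, true), (4, 15, true), (3, 21, true), (2, 24, true), (1, 27, true), (0, 27, true), (4, 21, true), (3, 24, true), (2, 27, true), (1, 27, true), (5, 20, true), (4, 23, true), (2, 5, true), (3, 20, true), (2, 23, true), (4, 19, true), (3, 24, true), (2, 27, true), (0, 6, true), (1, 24, true), (0, 27, true), (2, 23, true), (3, 22, true), (3, 4, false)], [(7, 10, true), (6, 17, true), (5, 17, true), (4, 21, true), (3, 21, true), (2, 24, true), (1, 26, true), (0, 26, true), (7, 15, true), (6, 17, true), (5, 21, true), (4, 21, true), (3, 24, true), (2, 26, true), (1, 26, true), (7, 17, true), (6, 21, true), (5, 21, true), (4, 24, true), (3, 26, true), (2, 26, true), (0, 6, true), (5, 16, true), (4, 20, true), (3, 20, true), (2, 23, true), (1, 25, true), (0, 25, true), (6,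 16, true), (5, 20, true), (4, 20, true), (3, 23, true), (2, 25, true), (1, 25, true), (7, 15, true), (6, 21, true), (5, 21, true), (4, 24, true), (3, 26, true), (2, 26, true), (1, 27, true), (0, 27, true), (7, 21, true), (6, 21, true), (5, 24, true), (4, 26, true), (3, 26, true), (2, 27, true), (1, 27, true), (8, 20, true), (7, 20, true), (6, 23, true), (5, 25, true), (4, 25, true), (2, 5, true), (6, 20, true), (5, 20, true), (4, 23, true), (3, 25, true), (2, 25, true), (7, 19, true), (6, 21, true), (5, 24, true), (4, 26, true), (3, 26, true), (2, 27, true), (0, 6, true), (4, 21, true), (3, 24, true), (2, 26, true), (1, 26, true), (0, 27, true), (5, 20, true), (4, 23, true), (3, 25, true), (2, 25, true), (6, 19, true), (5, 24, true), (4, 26, true), (3, 26, true), (2, 27, true), (1, 27, true), (6, 24, true), (5, 26, true), (4, 26, true), (3, 27, true), (2, 27, true), (0, 6, true), (4, 23, true), (3, 25, true), (2, 25, true), (0, 5, true), (2, 22, true), (0, 4, true), (5, 10, true), (4, 17, true), (3, 17, true), (2, 21, true), (1, 21, true), (0, 24, true), (5, 15, true), (4, 17, true), (3, 21,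 true), (2, 21, true), (1, 24, true), (5, 17, true), (4, 21, true), (3, 21, true), (2, 24, true), (0, 6, true), (3, 16, true), (2, 20, true), (1, 20, true), (0, 23, true), (4, 16, true), (3, 20, true), (2, 20, true), (1, 23, true), (5, 15, true), (4, 21, true), (3, 21, true), (2, 24, true), (1, 27, true), (0, 27, true), (5, 21, true), (4, 21, true), (3, 24, true), (2, 27, true), (1, 27, true), (6, 20, true), (5, 20, true), (4, 23, true), (2, 5, true), (4, 20, true), (3, 20, true), (2, 23, true), (5, 19, true), (4, 21, true), (3, 24, true), (2, 27, true), (0, 6, true), (2, 21, true), (1, 24, true), (0, 27, true), (3, 20, true), (2, 23, true), (4, 19, true), (3, 24, true), (2, 27, true), (1, 27, true), (4, 24, true), (3, 27, true), (2, 27, true), (0, 6, true), (2, 23, true), (0, 5, true), (0, 22, true), (6, 9, true), (5, 17, true), (4, 17, true), (3, 21, true), (2, 21, true), (1, 24, true), (0, 26, true), (6, 17, true), (5, 17, true), (4, 21, true), (3, 21, true), (2, 24, true), (1, 26, true), (7, 16, true), (6, 16, true), (5, 20, true), (4, 20, true), (3, 23, true), (2, 25, true), (8, 14, true),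 (7, 16, true), (6, 20, true), (5, 20, true), (4, 23, true), (3, 25, true), (8, 14, true), (7, 20, true), (6, 20, true), (5, 23, true), (4, 25, true), (2, 5, true), (5, 18, true), (4, 21, true), (3, 24, true), (2, 26, true), (0, 6, true), (2, 21, true), (1, 24, true), (0, 26, true), (3, 18, true), (2, 24, true), (1, 26, true), (3, 24, true), (2, 26, true), (0, 6, true), (7, 9, true), (6, 17, true), (5, 17, true), (4, 21, true), (3, 21, true), (2, 24, true), (1, 24, true), (0, 26, true), (7, 17, true), (6, 17, true), (5, 21, true), (4, 21, true), (3, 24, true), (2, 24, true), (1, 26, true), (8, 16, true), (7, 16, true), (6, 20, true), (5, 20, true), (4, 23, true), (3, 23, true), (2, 25, true), (9, 14, true), (8, 16, true), (7, 20, true), (6, 20, true), (5, 23, true), (4, 23, true), (3, 25, true), (9, 14, true), (8, 20, true), (7, 20, true), (6, 23, true), (5, 23, true), (4, 25, true), (2, 5, true), (6, 18, true), (5, 21, true), (4, 24, true), (3, 24, true), (2, 26, true), (0, 6, true), (3, 21, true), (2, 24, true), (1, 24, true), (0, 26, true), (4, 18, true), (3, 24, true), (2, 24, true), (1,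 26, true), (4, 24, true), (3, 24, true), (2, 26, true), (0, 6, true), (1, 3, true), (1, 3, false), (0, 22, false), (1, 22, false), (0, 4, false), (2, 22, false), (3, 22, false)]),
    ([1, 2], [6, 5, 3, 3, 2, 1], [(6, 12, true), (5, 17, true), (4, 17, true), (3, 21, true), (2, 26, true), (1, 27, true), (0, 27, true), (7, 8, true), (6, 16, true), (5, 16, true), (4, 20, true), (3, 25, true), (1, 5, true), (4, 15, true), (3, 17, true), (2, 21, true), (1, 26, true), (4, 17, true), (3, 21, true), (2, 26, true), (0, 6, true), (2, 16, true), (1, 20, true), (0, 25, true), (3, 16, true), (2, 20, true), (1, 25, true), (4, 15, true), (3, 21, true), (2, 26, true), (1, 27, true), (0, 27, true), (4, 21, true), (3, 26, true), (2, 27, true), (1, 27, true), (5, 20, true), (4, 25, true), (2, 5, true), (3, 20, true), (2, 25, true), (4, 19, true), (3, 26, true), (2, 27, true), (0, 6, true), (1, 26, true), (0, 27, true), (2, 25, true), (7, 14, true), (6, 16, true), (5, 20, true), (4, 25, true), (3, 25, true), (1, 5, true), (4, 14, true), (3, 20, true), (2, 25, true), (1, 25, true), (4, 18, true), (3, 26, true),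 (2, 26, true), (1, 27, true), (4, 26, true), (3, 26, true), (2, 27, true), (0, 6, true), (6, 14, true), (5, 16, true), (4, 20, true), (3, 23, true), (2, 25, true), (1, 25, true), (6, 14, true), (5, 20, true), (4, 23, true), (3, 25, true), (2, 25, true), (0, 5, true), (3, 18, true), (2, 24, true), (1, 26, true), (0, 26, true), (3, 24, true), (2, 26, true), (1, 26, true), (8, 13, true), (7, 14, true), (6, 20, true), (5, 23, true), (4, 23, true), (3, 25, true), (2, 25, true), (7, 18, true), (6, 24, true), (5, 24, true), (4, 26, true), (3, 26, true), (2, 27, true), (0, 6, true), (4, 24, true), (3, 24, true), (2, 26, true), (1, 26, true), (0, 27, true), (4, 3, true), (5, 14, true), (4, 20, true), (3, 25, true), (2, 25, true), (5, 18, true), (4, 26, true), (3, 26, true), (2, 27, true), (1, 27, true), (5, 26, true), (4, 26, true), (3, 27, true), (2, 27, true), (0, 6, true), (6, 13, true), (5, 18, true), (4, 24, true), (3, 26, true), (2, 26, true), (1, 27, true), (0, 27, true), (5, 24, true), (4, 26, true), (3, 26, true), (2, 27, true), (1, 27, true), (8, 18, true), (7, 24, true), (6, 24, true), (5,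 26, true), (4, 26, true), (3, 27, true), (2, 27, true), (0, 6, true), (5, 24, true), (4, 24, true), (3, 26, true), (2, 26, true), (1, 27, true), (0, 27, true), (5, 3, true), (9, 7, true), (8, 17, true), (7, 17, true), (6, 21, true), (5, 21, true), (4, 26, true), (3, 26, true), (2, 27, true), (1, 27, true), (9, 16, true), (8, 16, true), (7, 20, true), (6, 20, true), (5, 25, true), (4, 25, true), (2, 5, true), (7, 15, true), (6, 17, true), (5, 21, true), (4, 21, true), (3, 26, true), (2, 26, true), (0, 6, true), (4, 17, true), (3, 21, true), (2, 21, true), (1, 26, true), (0, 26, true), (5, 16, true), (4, 20, true), (3, 20, true), (2, 25, true), (1, 25, true), (6, 16, true), (5, 20, true), (4, 20, true), (3, 25, true), (2, 25, true), (7, 15, true), (6, 21, true), (5, 21, true), (4, 26, true), (3, 26, true), (2, 27, true), (1, 27, true), (7, 21, true), (6, 21, true), (5, 26, true), (4, 26, true), (3, 27, true), (2, 27, true), (0, 6, true), (5, 20, true), (4, 20, true), (3, 25, true), (2, 25, true), (0, 5, true), (3, 20, true), (2, 20, true), (1, 25, true), (0, 25, true), (4, 19, true), (3, 21, true),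 (2, 26, true), (1, 26, true), (0, 27, true), (4, 21, true), (3, 26, true), (2, 26, true), (1, 27, true), (5, 20, true), (4, 25, true), (3, 25, true), (6, 19, true), (5, 26, true), (4, 26, true), (3, 27, true), (2, 27, true), (0, 6, true), (3, 26, true), (2, 26, true), (1, 27, true), (0, 27, true), (4, 25, true), (3, 25, true), (1, 5, true), (1, 4, true), (4, 15, true), (3, 17, true), (2, 21, true), (1, 21, true), (4, 17, true), (3, 21, true), (2, 21, true), (0, 6, true), (2, 16, true), (1, 20, true), (0, 20, true), (3, 16, true), (2, 20, true), (1, 20, true), (4, 15, true), (3, 21, true), (2, 21, true), (1, 27, true), (0, 27, true), (4, 21, true), (3, 21, true), (2, 27, true), (1, 27, true), (5, 20, true), (4, 20, true), (2, 5, true), (3, 20, true), (2, 20, true), (4, 19, true), (3, 21, true), (2, 27, true), (0, 6, true), (1, 21, true), (0, 27, true), (2, 20, true), (3, 19, true), (2, 27, true), (1, 27, true), (3, 27, true), (2, 27, true), (0, 6, true), (0, 5, true), (3, 1, true), (2, 21, true), (1, 21, true), (0, 26, true), (3, 21, true), (2, 21, true), (1, 26, true), (1, 26, false), (2, 21,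 false), (3, 21, false), (0, 26, false), (1, 21, false), (2, 21, false), (3, 1, false), (0, 5, false), (0, 6, false), (2, 27, false), (3, 27, false), (1, 27, false), (2, 27, false), (3, 19, false), (2, 20, false), (0, 27, false), (1, 21, false), (0, 6, false), (2, 27, false), (3, 21, false), (4, 19, false), (2, 20, false), (3, 20, false), (2, 5, false), (4, 20, false), (5, 20, false), (1, 27, false), (2, 27, false), (3, 21, false), (4, 21, false), (0, 27, false), (1, 27, false), (2, 21, false), (3, 21, false), (4, 15, false), (1, 20, false), (2, 20, false), (3, 16, false), (0, 20, false), (1, 20, false), (2, 16, false), (0, 6, false), (2, 21, false), (3, 21, false), (4, 17, false), (1, 21, false), (2, 21, false), (3, 17, false), (4, 15, false), (1, 4, false), (1, 5, false), (3, 25, false), (4, 25, false), (0, 27, false), (1, 27, false), (2, 26, false), (3, 26, false), (0, 6, false), (2, 27, false), (3, 27, false), (4, 26, false), (5, 26, false), (6, 19, false), (3, 25, false), (4, 25, false), (5, 20, false), (1, 27, false), (2, 26, false), (3, 26, false), (4, 21, false), (0, 27, false), (1, 26,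 false), (2, 26, false), (3, 21, false), (4, 19, false), (0, 25, false), (1, 25, false), (2, 20, false), (3, 20, false), (0, 5, false), (2, 25, false), (3, 25, false), (4, 20, false), (5, 20, false), (0, 6, false), (2, 27, false), (3, 27, false), (4, 26, false), (5, 26, false), (6, 21, false), (7, 21, false), (1, 27, false), (2, 27, false), (3, 26, false), (4, 26, false), (5, 21, false), (6, 21, false), (7, 15, false), (2, 25, false), (3, 25, false), (4, 20, false), (5, 20, false), (6, 16, false), (1, 25, false), (2, 25, false), (3, 20, false), (4, 20, false), (5, 16, false), (0, 26, false), (1, 26, false), (2, 21, false), (3, 21, false), (4, 17, false), (0, 6, false), (2, 26, false), (3, 26, false), (4, 21, false), (5, 21, false), (6, 17, false), (7, 15, false), (2, 5, false), (4, 25, false), (5, 25, false), (6, 20, false), (7, 20, false), (8, 16, false), (9, 16, false), (1, 27, false), (2, 27, false), (3, 26, false), (4, 26, false), (5, 21, false), (6, 21, false), (7, 17, false), (8, 17, false), (9, 7, false), (2, 25, false), (0, 27, false), (1, 26, false), (0, 6, false), (2, 27, false), (3,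 26, false), (4, 19, false), (2, 25, false), (3, 20, false), (1, 26, false), (2, 21, false), (0, 26, false), (1, 21, false), (2, 19, false), (0, 5, false), (2, 25, false), (3, 20, false), (4, 20, false), (1, 25, false), (2, 20, false), (3, 20, false), (0, 6, false), (2, 27, false), (3, 26, false), (4, 21, false), (5, 21, false), (1, 27, false), (2, 26, false), (3, 21, false), (4, 21, false), (5, 15, false), (0, 6, false), (2, 19, false), (2, 5, false), (4, 20, false), (1, 27, false), (2, 27, false), (3, 21, false), (0, 27, false), (1, 27, false), (2, 21, false), (3, 19, false), (1, 20, false), (2, 20, false), (0, 20, false), (1, 20, false), (0, 6, false), (2, 21, false), (3, 21, false), (1, 21, false), (2, 21, false), (3, 15, false), (1, 5, false), (3, 20, false), (4, 20, false), (5, 16, false), (0, 27, false), (1, 27, false), (2, 21, false), (3, 21, false), (4, 17, false), (5, 7, false), (2, 3, false), (0, 6, false), (2, 27, false), (3, 27, false), (4, 24, false), (5, 24, false), (1, 27, false), (2, 27, false), (3, 24, false), (4, 24, false), (5, 18, false), (0, 27, false), (1, 27, false), (2,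 24, false), (0, 6, false), (2, 27, false), (3, 27, false), (4, 24, false), (5, 18, false), (6, 13, false), (1, 27, false), (2, 27, false), (0, 27, false), (1, 27, false), (2, 18, false), (1, 20, false), (2, 14, false), (1, 3, false), (0, 6, false), (2, 27, false), (3, 24, false), (4, 24, false), (1, 27, false), (2, 24, false), (3, 24, false), (4, 18, false), (1, 23, false), (2, 23, false), (3, 20, false), (4, 14, false), (1, 4, false), (3, 22, false), (4, 22, false), (1, 5, false), (3, 25, false), (4, 25, false), (5, 23, false), (6, 23, false), (0, 27, false), (1, 27, false), (2, 26, false), (3, 26, false), (4, 24, false), (5, 24, false), (0, 6, false), (2, 27, false), (3, 27, false), (4, 26, false), (5, 26, false), (6, 24, false), (7, 24, false), (8, 19, false), (3, 25, false), (4, 25, false), (5, 23, false), (6, 23, false), (7, 20, false), (2, 25, false), (3, 25, false), (4, 23, false), (5, 23, false), (6, 20, false), (1, 26, false), (2, 26, false), (3, 24, false), (4, 24, false), (5, 21, false), (0, 26, false), (1, 26, false), (2, 24, false), (3, 24, false), (4, 21, false), (5, 15, false),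 (0, 5, false), (2, 25, false), (3, 25, false), (4, 23, false), (5, 23, false), (6, 20, false), (7, 16, false), (8, 8, false), (3, 22, false), (4, 22, false), (1, 25, false), (2, 23, false), (3, 23, false), (0, 6, false), (2, 27, false), (3, 26, false), (4, 24, false), (5, 24, false), (1, 27, false), (2, 26, false), (3, 24, false), (4, 24, false), (5, 19, false), (1, 25, false), (2, 23, false), (3, 23, false), (4, 20, false), (1, 5, false), (3, 25, false), (4, 23, false), (5, 23, false), (6, 20, false), (0, 27, false), (1, 27, false), (2, 26, false), (3, 24, false), (4, 24, false), (5, 21, false), (0, 6, false), (2, 27, false), (3, 27, false), (4, 26, false), (5, 24, false), (6, 24, false), (7, 21, false), (8, 15, false), (1, 27, false), (2, 27, false), (3, 26, false), (4, 24, false), (5, 24, false), (6, 21, false), (7, 17, false), (8, 10, false), (2, 25, false), (3, 23, false), (4, 23, false), (5, 20, false), (6, 16, false), (7, 11, false), (1, 25, false), (2, 23, false), (3, 23, false), (4, 20, false), (5, 16, false), (6, 11, false), (0, 26, false), (1, 24, false), (2, 24, false), (0, 22, false),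 (0, 4, false), (2, 22, false), (0, 5, false), (2, 25, false), (3, 25, false), (4, 23, false), (1, 25, false), (2, 25, false), (3, 23, false), (0, 5, false), (0, 6, false), (2, 27, false), (1, 27, false)], [(9, 12, true), (8, 12, true), (7, 21, true), (6, 24, true), (5, 24, true), (4, 26, true), (3, 27, true), (2, 27, true), (0, 6, true), (7, 12, true), (6, 12, true), (5, 21, true), (4, 24, true), (3, 24, true), (2, 26, true), (1, 27, true), (0, 27, true), (8, 11, true), (7, 11, true), (6, 20, true), (5, 23, true), (4, 23, true), (3, 25, true), (1, 5, true), (6, 11, true), (5, 11, true), (4, 20, true), (3, 23, true), (2, 23, true), (1, 25, true), (7, 9, true), (6, 12, true), (5, 21, true), (4, 24, true), (3, 24, true), (2, 26, true), (1, 27, true), (7, 12, true), (6, 21, true), (5, 24, true), (4, 24, true), (3, 26, true), (2, 27, true), (0, 6, true), (5, 11, true), (4, 20, true), (3, 23, true), (2, 23, true), (1, 25, true), (6, 9, true), (5, 21, true), (4, 24, true), (3, 24, true), (2, 26, true), (1, 27, true), (0, 27, true), (6, 21, true), (5, 24, true), (4, 24, true), (3, 26, true), (2, 27,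 true), (1, 27, true), (7, 20, true), (6, 23, true), (5, 23, true), (4, 25, true), (2, 5, true), (5, 18, true), (4, 24, true), (3, 24, true), (2, 26, true), (0, 6, true), (2, 24, true), (1, 24, true), (0, 26, true), (2, 3, true), (4, 7, true), (3, 12, true), (2, 21, true), (1, 26, true), (4, 11, true), (3, 20, true), (2, 25, true), (5, 10, true), (4, 21, true), (3, 26, true), (2, 27, true), (0, 6, true), (2, 19, true), (1, 26, true), (0, 27, true), (2, 26, true), (1, 27, true), (3, 25, true), (7, 10, true), (6, 21, true), (5, 26, true), (4, 26, true), (3, 27, true), (2, 27, true), (0, 6, true), (4, 19, true), (3, 26, true), (2, 26, true), (1, 27, true), (0, 27, true), (4, 26, true), (3, 26, true), (2, 27, true), (1, 27, true), (5, 25, true), (4, 25, true), (2, 5, true), (2, 4, true), (3, 7, true), (2, 21, true), (0, 6, true), (0, 20, true), (1, 19, true), (0, 27, true), (1, 27, true), (5, 19, true), (4, 26, true), (3, 27, true), (2, 27, true), (0, 6, true), (2, 26, true), (1, 27, true), (0, 27, true), (3, 25, true), (1, 5, true), (5, 0, true), (4, 17, true), (3, 21, true), (2, 26, true), (1,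 26, true), (5, 17, true), (4, 21, true), (3, 26, true), (2, 26, true), (0, 6, true), (3, 16, true), (2, 20, true), (1, 25, true), (0, 25, true), (0, 25, false), (1, 25, false), (2, 20, false), (3, 16, false), (0, 6, false), (2, 26, false), (3, 26, false), (4, 21, false), (5, 17, false), (1, 26, false), (2, 26, false), (3, 21, false), (4, 17, false), (5, 0, false), (3, 3, false), (4, 13, false), (1, 5, false), (3, 25, false), (4, 25, false), (5, 14, false), (5, 3, false), (2, 25, false), (3, 25, false), (4, 23, false), (5, 23, false), (6, 14, false), (3, 22, false), (4, 22, false), (1, 25, false), (2, 23, false), (3, 23, false), (1, 5, false), (3, 25, false), (4, 23, false), (5, 23, false), (0, 27, false), (1, 27, false), (2, 26, false), (3, 24, false), (4, 24, false), (0, 6, false), (2, 27, false), (3, 27, false), (4, 26, false), (5, 24, false), (6, 24, false), (7, 15, false), (3, 25, false), (4, 23, false), (5, 23, false), (6, 16, false), (7, 8, false), (2, 25, false), (3, 23, false), (4, 14, false), (2, 5, false), (4, 25, false), (5, 23, false), (6, 16, false), (1, 27, false), (2, 27, false),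 (3, 26, false), (4, 24, false), (5, 17, false), (0, 27, false), (1, 27, false), (2, 26, false), (3, 24, false), (4, 17, false), (5, 9, false), (1, 25, false), (2, 14, false), (0, 25, false), (1, 16, false), (0, 6, false), (2, 26, false), (3, 17, false), (1, 26, false), (2, 17, false), (3, 9, false), (1, 5, false), (0, 27, false), (0, 6, false), (2, 27, false), (3, 15, false), (1, 27, false), (2, 17, false), (3, 10, false), (1, 16, false), (2, 11, false), (1, 5, false), (3, 16, false), (4, 11, false), (0, 27, false), (1, 27, false), (2, 17, false), (3, 12, false), (0, 6, false), (2, 27, false), (3, 27, false), (4, 17, false), (5, 12, false), (4, 3, false), (3, 23, false), (4, 23, false), (2, 23, false), (3, 23, false), (1, 24, false), (2, 24, false), (0, 24, false), (1, 24, false), (0, 5, false), (2, 23, false), (0, 6, false), (2, 27, false), (1, 27, false)]),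
    ([1, 3], [6, 6, 5, 5, 3, 1], [(6, 11, true), (5, 16, true), (4, 16, true), (3, 20, true), (2, 25, true), (0, 5, true), (4, 11, true), (3, 16, true), (2, 16, true), (1, 20, true), (0, 25, true), (5, 10, true), (4, 17, true), (3, 17, true), (2, 21, true), (1, 26, true), (0, 27, true), (5, 15, true), (4, 17, true), (3, 21, true), (2, 26, true), (1, 27, true), (5, 17, true), (4, 21, true), (3, 26, true), (2, 27, true), (0, 6, true), (3, 16, true), (2, 20, true), (1, 25, true), (4, 16, true), (3, 20, true), (2, 25, true), (0, 5, true), (2, 15, true), (1, 21, true), (0, 26, true), (2, 21, true), (1, 26, true), (3, 20, true), (2, 25, true), (4, 20, true), (3, 25, true), (5, 19, true), (4, 26, true), (3, 27, true), (2, 27, true), (0, 6, true), (2, 26, true), (1, 27, true), (0, 27, true), (3, 25, true), (1, 5, true), (6, 10, true), (5, 17, true), (4, 17, true), (3, 21, true), (2, 26, true), (1, 26, true), (6, 15, true), (5, 17, true), (4, 21, true), (3, 26, true), (2, 26, true), (0, 6, true), (3, 17, true), (2, 21, true), (1, 26, true), (0, 26, true), (4, 16, true), (3, 20, true), (2, 25, true),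 (1, 25, true), (5, 16, true), (4, 20, true), (3, 25, true), (2, 25, true), (6, 15, true), (5, 21, true), (4, 26, true), (3, 26, true), (2, 27, true), (1, 27, true), (6, 21, true), (5, 26, true), (4, 26, true), (3, 27, true), (2, 27, true), (0, 6, true), (4, 20, true), (3, 25, true), (2, 25, true), (0, 5, true), (2, 20, true), (1, 25, true), (0, 25, true), (3, 19, true), (2, 26, true), (1, 26, true), (0, 27, true), (3, 26, true), (2, 26, true), (1, 27, true), (4, 25, true), (3, 25, true), (4, 4, true), (7, 9, true), (6, 17, true), (5, 17, true), (4, 21, true), (3, 27, true), (2, 27, true), (0, 6, true), (4, 17, true), (3, 17, true), (2, 21, true), (1, 27, true), (0, 27, true), (5, 16, true), (4, 16, true), (3, 20, true), (1, 5, true), (3, 14, true), (2, 16, true), (1, 20, true), (3, 14, true), (2, 20, true), (3, 18, true), (2, 27, true), (1, 27, true), (3, 27, true), (2, 27, true), (0, 6, true), (2, 4, false), (4, 22, false), (1, 25, false), (2, 25, false), (3, 23, false), (0, 25, false), (1, 25, false), (2, 23, false), (0, 5, false), (0, 6, false), (1, 5, false), (0, 27, false), (1, 27, false),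 (0, 6, false), (2, 27, false), (3, 27, false), (1, 27, false)], [(9, 11, true), (8, 11, true), (7, 20, true), (6, 23, true), (5, 23, true), (4, 25, true), (2, 5, true), (7, 9, true), (6, 12, true), (5, 21, true), (4, 24, true), (3, 24, true), (2, 26, true), (0, 6, true), (4, 12, true), (3, 21, true), (2, 24, true), (1, 24, true), (0, 26, true), (5, 11, true), (4, 20, true), (3, 23, true), (2, 23, true), (1, 25, true), (6, 9, true), (5, 21, true), (4, 24, true), (3, 24, true), (2, 26, true), (1, 27, true), (6, 21, true), (5, 24, true), (4, 24, true), (3, 26, true), (2, 27, true), (0, 6, true), (4, 20, true), (3, 23, true), (2, 23, true), (1, 25, true), (5, 18, true), (4, 24, true), (3, 24, true), (2, 26, true), (1, 27, true), (0, 27, true), (5, 24, true), (4, 24, true), (3, 26, true), (2, 27, true), (1, 27, true), (5, 3, true), (5, 3, false), (4, 22, false), (3, 23, false), (2, 23, false), (1, 24, false), (0, 24, false), (0, 5, false), (0, 6, false), (2, 27, false), (3, 27, false), (1, 27, false), (2, 27, false), (0, 27, false), (1, 27, false), (0, 6, false), (2, 27, false), (3, 27, false), (1,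 27, false)])]

/-- A conjugation. -/
def threeSuzFus3 : Schur.Tails.Fus where
  xs := [[6, 3, 3, 2, 1, 1, 0], [5, 4, 4, 3, 0], [4, 4, 3, 1, 1, 0], [6, 6, 3], [5, 5, 4], [6, 5, 5], [6, 6]]
  ys := [[6, 4, 4, 3, 3, 2, 1, 1, 0], [5, 4, 3, 2, 1, 0], [5, 5, 3, 3, 1, 1, 0], [5, 3, 3], [6, 5, 5, 4], [6, 5, 5], [6]]
  rels := [
    ([0, 0, 0], [5, 5], [(6, 12, true), (5, 17, true), (4, 17, true), (3, 21, true), (2, 24, true), (1, 24, true), (7, 9, true), (6, 17, true), (5, 17, true), (4, 21, true), (3, 24, true), (2, 24, true), (0, 6, true), (4, 17, true), (3, 17, true), (2, 21, true), (1, 24, true), (0, 24, true), (5, 16, true), (4, 16, true), (3, 20, true), (2, 23, true), (1, 23, true), (6, 14, true), (5, 16, true), (4, 20, true), (3, 23, true), (2, 23, true), (6, 14, true), (5, 20, true), (4, 23, true), (3, 23, true), (1, 5, true), (3, 18, true), (2, 24, true), (1, 24, true), (3, 24, true), (2, 24, true), (0, 6, true), (0, 3, true), (3, 9, true), (2, 17, true), (1, 17, true), (0, 21, true), (3, 17, true), (2, 17, true), (1, 21, true), (4, 16, true), (3, 16, true), (2, 20, true), (5, 14, true), (4,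 16, true), (3, 20, true), (5, 14, true), (4, 20, true), (2, 5, true), (2, 18, true), (0, 6, true), (5, 8, true), (4, 16, true), (3, 16, true), (2, 20, true), (1, 23, true), (5, 15, true), (4, 17, true), (3, 21, true), (2, 24, true), (1, 27, true), (5, 17, true), (4, 21, true), (3, 24, true), (2, 27, true), (0, 6, true), (3, 16, true), (2, 20, true), (1, 23, true), (4, 16, true), (3, 20, true), (2, 23, true), (0, 5, true), (2, 15, true), (1, 21, true), (0, 24, true), (2, 21, true), (1, 24, true), (3, 20, true), (2, 23, true), (4, 20, true), (3, 23, true), (5, 19, true), (4, 24, true), (3, 27, true), (2, 27, true), (0, 6, true), (2, 24, true), (1, 27, true), (0, 27, true), (3, 23, true), (1, 5, true), (1, 22, true), (5, 14, true), (4, 16, true), (3, 20, true), (2, 23, true), (1, 25, true), (5, 14, true), (4, 20, true), (3, 23, true), (2, 25, true), (5, 18, true), (4, 24, true), (3, 26, true), (2, 27, true), (1, 27, true), (5, 24, true), (4, 26, true), (3, 27, true), (2, 27, true), (0, 6, true), (7, 14, true), (6, 16, true), (5, 20, true), (4, 23, true), (3, 23, true), (2, 25, true), (0, 5, true),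 (4, 14, true), (3, 20, true), (2, 23, true), (1, 23, true), (0, 25, true), (4, 18, true), (3, 24, true), (2, 24, true), (1, 26, true), (0, 27, true), (4, 24, true), (3, 24, true), (2, 26, true), (1, 27, true), (4, 3, true), (6, 13, true), (5, 14, true), (4, 20, true), (3, 25, true), (5, 18, true), (4, 26, true), (3, 27, true), (2, 27, true), (0, 6, true), (2, 26, true), (1, 27, true), (0, 27, true), (6, 14, true), (5, 20, true), (4, 23, true), (3, 25, true), (1, 5, true), (3, 18, true), (2, 24, true), (1, 26, true), (3, 24, true), (2, 26, true), (0, 6, true), (4, 13, true), (3, 18, true), (2, 24, true), (1, 24, true), (0, 26, true), (3, 24, true), (2, 24, true), (1, 26, true), (3, 3, true), (3, 18, true), (2, 26, true), (0, 6, true), (0, 26, true), (7, 7, true), (6, 17, true), (5, 17, true), (4, 21, true), (3, 21, true), (2, 24, true), (1, 26, true), (7, 16, true), (6, 16, true), (5, 20, true), (4, 20, true), (3, 23, true), (2, 25, true), (8, 15, true), (7, 17, true), (6, 21, true), (5, 21, true), (4, 24, true), (3, 26, true), (2, 27, true), (0, 6, true), (5, 17, true), (4, 21, true), (3, 21,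 true), (2, 24, true), (1, 26, true), (0, 27, true), (6, 16, true), (5, 20, true), (4, 20, true), (3, 23, true), (2, 25, true), (7, 16, true), (6, 20, true), (5, 20, true), (4, 23, true), (3, 25, true), (1, 5, true), (5, 15, true), (4, 21, true), (3, 21, true), (2, 24, true), (1, 26, true), (5, 21, true), (4, 21, true), (3, 24, true), (2, 26, true), (0, 6, true), (3, 20, true), (2, 20, true), (1, 23, true), (0, 25, true), (4, 20, true), (3, 20, true), (2, 23, true), (1, 25, true), (5, 19, true), (4, 21, true), (3, 24, true), (2, 26, true), (1, 27, true), (0, 27, true), (5, 21, true), (4, 24, true), (3, 26, true), (2, 27, true), (1, 27, true), (6, 20, true), (5, 23, true), (4, 25, true), (2, 5, true), (4, 19, true), (3, 24, true), (2, 26, true), (0, 6, true), (1, 24, true), (0, 26, true), (2, 23, true), (1, 25, true), (3, 22, true), (8, 15, true), (7, 17, true), (6, 21, true), (5, 21, true), (4, 24, true), (3, 26, true), (2, 26, true), (1, 27, true), (8, 17, true), (7, 21, true), (6, 21, true), (5, 24, true), (4, 26, true), (3, 26, true), (2, 27, true), (0, 6, true), (6, 16, true), (5, 20, true),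 (4, 20, true), (3, 23, true), (2, 25, true), (1, 25, true), (7, 16, true), (6, 20, true), (5, 20, true), (4, 23, true), (3, 25, true), (2, 25, true), (0, 5, true), (5, 15, true), (4, 21, true), (3, 21, true), (2, 24, true), (1, 26, true), (0, 26, true), (5, 21, true), (4, 21, true), (3, 24, true), (2, 26, true), (1, 26, true), (6, 20, true), (5, 20, true), (4, 23, true), (3, 25, true), (2, 25, true), (7, 20, true), (6, 20, true), (5, 23, true), (4, 25, true), (3, 25, true), (8, 19, true), (7, 21, true), (6, 24, true), (5, 26, true), (4, 26, true), (3, 27, true), (2, 27, true), (0, 6, true), (5, 21, true), (4, 24, true), (3, 26, true), (2, 26, true), (1, 27, true), (0, 27, true), (6, 20, true), (5, 23, true), (4, 25, true), (3, 25, true), (1, 5, true), (4, 19, true), (3, 24, true), (2, 26, true), (1, 26, true), (4, 24, true), (3, 26, true), (2, 26, true), (0, 6, true), (2, 23, true), (1, 25, true), (0, 25, true), (3, 22, true), (1, 4, true), (4, 1, true), (3, 21, true), (2, 21, true), (1, 24, true), (0, 27, true), (4, 21, true), (3, 21, true), (2, 24, true), (1, 27, true), (6, 7, true), (5, 21,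 true), (4, 21, true), (3, 24, true), (2, 27, true), (0, 6, true), (3, 20, true), (2, 20, true), (1, 23, true), (4, 19, true), (3, 21, true), (2, 24, true), (1, 27, true), (0, 27, true), (4, 21, true), (3, 24, true), (2, 27, true), (1, 27, true), (5, 20, true), (4, 23, true), (2, 5, true), (3, 19, true), (2, 24, true), (0, 6, true), (0, 24, true), (1, 23, true), (2, 22, true), (5, 19, true), (4, 21, true), (3, 24, true), (2, 26, true), (1, 27, true), (5, 21, true), (4, 24, true), (3, 26, true), (2, 27, true), (0, 6, true), (3, 20, true), (2, 23, true), (1, 25, true), (4, 19, true), (3, 24, true), (2, 26, true), (1, 27, true), (0, 27, true), (4, 24, true), (3, 26, true), (2, 27, true), (1, 27, true), (5, 23, true), (4, 25, true), (2, 5, true), (3, 22, true), (9, 12, true), (8, 12, true), (7, 17, true), (6, 21, true), (5, 21, true), (4, 24, true), (3, 26, true), (2, 26, true), (0, 6, true), (7, 9, true), (6, 12, true), (5, 17, true), (4, 21, true), (3, 21, true), (2, 24, true), (1, 26, true), (0, 26, true), (7, 12, true), (6, 17, true), (5, 21, true), (4, 21, true), (3, 24, true), (2, 26, true),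 (1, 26, true), (8, 11, true), (7, 16, true), (6, 20, true), (5, 20, true), (4, 23, true), (3, 25, true), (2, 25, true), (9, 9, true), (8, 17, true), (7, 21, true), (6, 21, true), (5, 24, true), (4, 26, true), (3, 26, true), (2, 27, true), (0, 6, true), (6, 17, true), (5, 21, true), (4, 21, true), (3, 24, true), (2, 26, true), (1, 26, true), (0, 27, true), (7, 16, true), (6, 20, true), (5, 20, true), (4, 23, true), (3, 25, true), (2, 25, true), (8, 14, true), (7, 20, true), (6, 20, true), (5, 23, true), (4, 25, true), (3, 25, true), (1, 5, true), (5, 18, true), (4, 21, true), (3, 24, true), (2, 26, true), (1, 26, true), (5, 21, true), (4, 24, true), (3, 26, true), (2, 26, true), (0, 6, true), (3, 18, true), (2, 24, true), (1, 26, true), (0, 26, true), (3, 24, true), (2, 26, true), (1, 26, true), (10, 9, true), (9, 12, true), (8, 17, true), (7, 21, true), (6, 21, true), (5, 24, true), (4, 24, true), (3, 26, true), (2, 26, true), (0, 6, true), (7, 12, true), (6, 17, true), (5, 21, true), (4, 21, true), (3, 24, true), (2, 24, true), (1, 26, true), (0, 26, true), (8, 11, true), (7, 16, true), (6,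 20, true), (5, 20, true), (4, 23, true), (3, 23, true), (2, 25, true), (1, 25, true), (9, 9, true), (8, 17, true), (7, 21, true), (6, 21, true), (5, 24, true), (4, 24, true), (3, 26, true), (2, 26, true), (1, 27, true), (9, 17, true), (8, 21, true), (7, 21, true), (6, 24, true), (5, 24, true), (4, 26, true), (3, 26, true), (2, 27, true), (0, 6, true), (7, 16, true), (6, 20, true), (5, 20, true), (4, 23, true), (3, 23, true), (2, 25, true), (1, 25, true), (8, 14, true), (7, 20, true), (6, 20, true), (5, 23, true), (4, 23, true), (3, 25, true), (2, 25, true), (0, 5, true), (5, 18, true), (4, 21, true), (3, 24, true), (2, 24, true), (1, 26, true), (0, 26, true), (5, 21, true), (4, 24, true), (3, 24, true), (2, 26, true), (1, 26, true), (6, 18, true), (5, 24, true), (4, 24, true), (3, 26, true), (2, 26, true), (0, 6, true), (3, 24, true), (2, 24, true), (1, 26, true), (0, 26, true), (3, 3, true), (7, 8, true), (6, 11, true), (5, 16, true), (4, 20, true), (3, 20, true), (2, 25, true), (1, 25, true), (7, 10, true), (6, 17, true), (5, 21, true), (4, 21, true), (3, 26, true), (2, 26, true), (1, 27,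 true), (7, 15, true), (6, 21, true), (5, 21, true), (4, 26, true), (3, 26, true), (2, 27, true), (0, 6, true), (4, 21, true), (3, 21, true), (2, 26, true), (1, 26, true), (0, 27, true), (5, 20, true), (4, 20, true), (3, 25, true), (2, 25, true), (6, 20, true), (5, 20, true), (4, 25, true), (3, 25, true), (1, 5, true), (4, 19, true), (3, 21, true), (2, 26, true), (1, 26, true), (4, 21, true), (3, 26, true), (2, 26, true), (0, 6, true), (2, 20, true), (1, 25, true), (0, 25, true), (3, 19, true), (2, 26, true), (1, 26, true), (0, 27, true), (3, 26, true), (2, 26, true), (1, 27, true), (4, 25, true), (3, 25, true), (4, 4, true), (7, 9, true), (6, 17, true), (5, 21, true), (4, 21, true), (3, 27, true), (2, 27, true), (0, 6, true), (4, 17, true), (3, 21, true), (2, 21, true), (1, 27, true), (0, 27, true), (5, 16, true), (4, 20, true), (3, 20, true), (1, 5, true), (3, 14, true), (2, 20, true), (1, 20, true), (3, 18, true), (2, 21, true), (1, 27, true), (3, 21, true), (2, 27, true), (0, 6, true), (1, 18, true), (0, 27, true), (1, 27, true), (7, 9, true), (6, 17, true), (5, 21, true), (4, 21, true),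 (3, 24, true), (2, 27, true), (0, 6, true), (4, 17, true), (3, 21, true), (2, 21, true), (1, 24, true), (0, 27, true), (5, 16, true), (4, 20, true), (3, 20, true), (2, 23, true), (6, 14, true), (5, 20, true), (4, 20, true), (3, 23, true), (1, 5, true), (3, 18, true), (2, 21, true), (1, 24, true), (3, 21, true), (2, 24, true), (0, 6, true), (1, 18, true), (0, 24, true), (1, 24, true), (7, 8, true), (6, 16, true), (5, 20, true), (4, 20, true), (3, 23, true), (2, 23, true), (7, 15, true), (6, 21, true), (5, 21, true), (4, 24, true), (3, 24, true), (2, 27, true), (0, 6, true), (4, 21, true), (3, 21, true), (2, 24, true), (1, 24, true), (0, 27, true), (5, 20, true), (4, 20, true), (3, 23, true), (2, 23, true), (6, 20, true), (5, 20, true), (4, 23, true), (3, 23, true), (1, 5, true), (4, 19, true), (3, 21, true), (2, 24, true), (1, 24, true), (4, 21, true), (3, 24, true), (2, 24, true), (0, 6, true), (2, 20, true), (1, 23, true), (0, 23, true), (3, 19, true), (2, 24, true), (1, 24, true), (0, 27, true), (3, 24, true), (2, 24, true), (1, 27, true), (4, 23, true), (3, 23, true), (5, 22, true), (4, 22,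 true), (9, 14, true), (8, 20, true), (7, 20, true), (6, 23, true), (5, 23, true), (4, 25, true), (2, 5, true), (6, 18, true), (5, 21, true), (4, 24, true), (3, 24, true), (2, 26, true), (0, 6, true), (3, 21, true), (2, 24, true), (1, 24, true), (0, 26, true), (4, 18, true), (3, 24, true), (2, 24, true), (1, 26, true), (4, 24, true), (3, 24, true), (2, 26, true), (0, 6, true), (1, 3, true), (3, 14, true), (2, 20, true), (1, 20, true), (0, 25, true), (3, 18, true), (2, 21, true), (1, 26, true), (0, 27, true), (3, 21, true), (2, 26, true), (1, 27, true), (4, 18, true), (3, 26, true), (2, 27, true), (0, 6, true), (1, 26, true), (0, 27, true), (6, 13, true), (5, 18, true), (4, 21, true), (3, 24, true), (2, 26, true), (1, 27, true), (5, 21, true), (4, 24, true), (3, 26, true), (2, 27, true), (0, 6, true), (3, 18, true), (2, 24, true), (1, 26, true), (0, 27, true), (3, 24, true), (2, 26, true), (1, 27, true), (7, 18, true), (6, 21, true), (5, 24, true), (4, 24, true), (3, 26, true), (2, 27, true), (0, 6, true), (4, 21, true), (3, 24, true), (2, 24, true), (1, 26, true), (0, 27, true), (5, 18, true),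 (4, 24, true), (3, 24, true), (2, 26, true), (1, 27, true), (5, 24, true), (4, 24, true), (3, 26, true), (2, 27, true), (0, 6, true), (2, 3, true), (2, 2, true), (1, 26, true), (0, 27, true), (2, 26, true), (1, 27, true), (3, 25, true), (7, 7, true), (6, 12, true), (5, 17, true), (4, 26, true), (3, 27, true), (2, 27, true), (0, 6, true), (4, 11, true), (3, 16, true), (2, 25, true), (0, 5, true), (2, 10, true), (1, 17, true), (0, 26, true), (2, 15, true), (1, 26, true), (2, 26, true), (0, 6, true), (0, 25, true), (1, 25, true), (5, 10, true), (4, 17, true), (3, 26, true), (2, 26, true), (1, 27, true), (0, 27, true), (5, 15, true), (4, 26, true), (3, 26, true), (2, 27, true), (1, 27, true), (5, 26, true), (4, 26, true), (3, 27, true), (2, 27, true), (0, 6, true), (3, 25, true), (2, 25, true), (0, 5, true), (1, 25, true), (0, 25, true), (1, 4, true), (2, 7, true), (1, 17, true), (0, 27, true), (2, 16, true), (3, 15, true), (2, 27, true), (1, 27, true), (3, 27, true), (2, 27, true), (0, 6, true), (0, 5, true), (2, 15, true), (1, 26, true), (0, 27, true), (2, 26, true), (1, 27, true), (3, 25, true),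 (4, 25, true), (2, 5, true), (7, 7, true), (6, 12, true), (5, 17, true), (4, 17, true), (3, 26, true), (2, 26, true), (0, 6, true), (4, 11, true), (3, 16, true), (2, 16, true), (1, 25, true), (0, 25, true), (5, 10, true), (4, 17, true), (3, 17, true), (2, 26, true), (1, 26, true), (0, 27, true), (5, 15, true), (4, 17, true), (3, 26, true), (2, 26, true), (1, 27, true), (5, 17, true), (4, 26, true), (3, 26, true), (2, 27, true), (0, 6, true), (3, 16, true), (2, 25, true), (1, 25, true), (4, 16, true), (3, 25, true), (2, 25, true), (0, 5, true), (2, 15, true), (1, 26, true), (0, 26, true), (2, 26, true), (1, 26, true), (3, 25, true), (2, 25, true), (4, 25, true), (3, 25, true), (4, 4, true), (6, 10, true), (5, 17, true), (4, 17, true), (3, 27, true), (2, 27, true), (0, 6, true), (3, 15, true), (2, 17, true), (1, 27, true), (0, 27, true), (3, 17, true), (2, 27, true), (1, 27, true), (4, 16, true), (2, 5, true), (2, 16, true), (3, 15, true), (2, 27, true), (0, 6, true), (0, 27, true), (1, 5, true), (4, 7, true), (3, 17, true), (2, 17, true), (1, 26, true), (4, 16, true), (3, 16, true), (2, 25, true),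 (5, 15, true), (4, 17, true), (3, 26, true), (2, 27, true), (0, 6, true), (2, 17, true), (1, 26, true), (0, 27, true), (3, 16, true), (2, 25, true), (4, 16, true), (3, 25, true), (1, 5, true), (2, 15, true), (1, 26, true), (2, 26, true), (0, 6, true), (0, 25, true), (1, 25, true), (5, 15, true), (4, 17, true), (3, 26, true), (2, 26, true), (1, 27, true), (0, 27, true), (5, 17, true), (4, 26, true), (3, 26, true), (2, 27, true), (1, 27, true), (6, 16, true), (5, 25, true), (4, 25, true), (2, 5, true), (4, 16, true), (3, 25, true), (2, 25, true), (5, 15, true), (4, 26, true), (3, 26, true), (2, 27, true), (0, 6, true), (2, 26, true), (1, 26, true), (0, 27, true), (3, 25, true), (2, 25, true), (4, 25, true), (3, 25, true), (1, 5, true), (1, 4, true), (1, 1, true), (0, 6, true), (0, 0, true), (2, 5, false), (1, 27, false), (2, 27, false)], [(8, 12, true), (7, 17, true), (6, 17, true), (5, 21, true), (4, 24, true), (3, 24, true), (2, 26, true), (1, 26, true), (9, 10, true), (8, 17, true), (7, 17, true), (6, 21, true), (5, 24, true), (4, 24, true), (3, 26, true), (2, 26, true), (0, 6, true), (6, 15,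 true), (5, 17, true), (4, 21, true), (3, 24, true), (2, 24, true), (1, 26, true), (0, 26, true), (6, 17, true), (5, 21, true), (4, 24, true), (3, 24, true), (2, 26, true), (1, 26, true), (7, 16, true), (6, 20, true), (5, 23, true), (4, 23, true), (3, 25, true), (2, 25, true), (8, 16, true), (7, 20, true), (6, 23, true), (5, 23, true), (4, 25, true), (3, 25, true), (9, 15, true), (8, 21, true), (7, 24, true), (6, 24, true), (5, 26, true), (4, 26, true), (3, 27, true), (2, 27, true), (0, 6, true), (6, 21, true), (5, 24, true), (4, 24, true), (3, 26, true), (2, 26, true), (1, 27, true), (0, 27, true), (7, 20, true), (6, 23, true), (5, 23, true), (4, 25, true), (3, 25, true), (1, 5, true), (5, 20, true), (4, 23, true), (3, 23, true), (2, 25, true), (1, 25, true), (6, 19, true), (5, 24, true), (4, 24, true), (3, 26, true), (2, 26, true), (1, 27, true), (6, 24, true), (5, 24, true), (4, 26, true), (3, 26, true), (2, 27, true), (0, 6, true), (4, 23, true), (3, 23, true), (2, 25, true), (1, 25, true), (5, 22, true), (4, 22, true), (2, 4, true), (7, 10, true), (6, 17, true), (5, 17, true), (4, 21, true),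 (3, 24, true), (2, 24, true), (1, 27, true), (0, 27, true), (7, 15, true), (6, 17, true), (5, 21, true), (4, 24, true), (3, 24, true), (2, 27, true), (1, 27, true), (7, 17, true), (6, 21, true), (5, 24, true), (4, 24, true), (3, 27, true), (2, 27, true), (0, 6, true), (5, 16, true), (4, 20, true), (3, 23, true), (2, 23, true), (0, 5, true), (3, 16, true), (2, 20, true), (1, 23, true), (0, 23, true), (4, 15, true), (3, 21, true), (2, 24, true), (1, 24, true), (0, 27, true), (4, 21, true), (3, 24, true), (2, 24, true), (1, 27, true), (5, 20, true), (4, 23, true), (3, 23, true), (6, 20, true), (5, 23, true), (4, 23, true), (2, 5, true), (4, 19, true), (3, 24, true), (2, 24, true), (0, 6, true), (1, 24, true), (0, 24, true), (2, 23, true), (1, 23, true), (3, 22, true), (2, 22, true), (8, 9, true), (7, 17, true), (6, 17, true), (5, 21, true), (4, 24, true), (3, 24, true), (2, 26, true), (1, 27, true), (8, 17, true), (7, 17, true), (6, 21, true), (5, 24, true), (4, 24, true), (3, 26, true), (2, 27, true), (0, 6, true), (6, 16, true), (5, 16, true), (4, 20, true), (3, 23, true), (2, 23, true), (1,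 25, true), (7, 14, true), (6, 16, true), (5, 20, true), (4, 23, true), (3, 23, true), (2, 25, true), (0, 5, true), (4, 14, true), (3, 20, true), (2, 23, true), (1, 23, true), (0, 25, true), (4, 18, true), (3, 24, true), (2, 24, true), (1, 26, true), (0, 27, true), (4, 24, true), (3, 24, true), (2, 26, true), (1, 27, true), (4, 3, true), (7, 9, true), (6, 17, true), (5, 17, true), (4, 21, true), (3, 26, true), (2, 27, true), (0, 6, true), (4, 17, true), (3, 17, true), (2, 21, true), (1, 26, true), (0, 27, true), (5, 16, true), (4, 16, true), (3, 20, true), (2, 25, true), (6, 14, true), (5, 16, true), (4, 20, true), (3, 25, true), (1, 5, true), (3, 14, true), (2, 20, true), (1, 25, true), (3, 18, true), (2, 26, true), (1, 27, true), (3, 26, true), (2, 27, true), (0, 6, true), (6, 8, true), (5, 16, true), (4, 16, true), (3, 20, true), (2, 23, true), (1, 25, true), (6, 15, true), (5, 17, true), (4, 21, true), (3, 24, true), (2, 26, true), (1, 27, true), (0, 27, true), (6, 17, true), (5, 21, true), (4, 24, true), (3, 26, true), (2, 27, true), (1, 27, true), (7, 16, true), (6, 20, true), (5, 23, true),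 (4, 25, true), (2, 5, true), (5, 16, true), (4, 20, true), (3, 23, true), (2, 25, true), (6, 15, true), (5, 21, true), (4, 24, true), (3, 26, true), (2, 27, true), (0, 6, true), (3, 21, true), (2, 24, true), (1, 26, true), (0, 27, true), (4, 20, true), (3, 23, true), (2, 25, true), (5, 20, true), (4, 23, true), (3, 25, true), (1, 5, true), (3, 19, true), (2, 24, true), (1, 26, true), (3, 24, true), (2, 26, true), (0, 6, true), (1, 23, true), (0, 25, true), (2, 22, true), (6, 14, true), (5, 16, true), (4, 20, true), (3, 23, true), (2, 25, true), (1, 25, true), (6, 14, true), (5, 20, true), (4, 23, true), (3, 25, true), (2, 25, true), (0, 5, true), (3, 18, true), (2, 24, true), (1, 26, true), (0, 26, true), (3, 24, true), (2, 26, true), (1, 26, true), (8, 14, true), (7, 16, true), (6, 20, true), (5, 23, true), (4, 23, true), (3, 25, true), (2, 25, true), (8, 14, true), (7, 20, true), (6, 23, true), (5, 23, true), (4, 25, true), (3, 25, true), (8, 18, true), (7, 24, true), (6, 24, true), (5, 26, true), (4, 26, true), (3, 27, true), (2, 27, true), (0, 6, true), (5, 24, true), (4, 24, true), (3,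 26, true), (2, 26, true), (1, 27, true), (0, 27, true), (5, 3, true), (7, 13, true), (6, 14, true), (5, 20, true), (4, 25, true), (3, 25, true), (1, 5, true), (3, 18, true), (2, 26, true), (1, 26, true), (3, 26, true), (2, 26, true), (0, 6, true), (4, 14, true), (3, 20, true), (2, 23, true), (1, 25, true), (0, 25, true), (4, 18, true), (3, 24, true), (2, 26, true), (1, 26, true), (0, 27, true), (4, 24, true), (3, 26, true), (2, 26, true), (1, 27, true), (8, 13, true), (7, 18, true), (6, 24, true), (5, 24, true), (4, 26, true), (3, 26, true), (2, 27, true), (0, 6, true), (4, 24, true), (3, 24, true), (2, 26, true), (1, 26, true), (0, 27, true), (4, 3, true), (4, 18, true), (3, 26, true), (2, 26, true), (1, 27, true), (4, 26, true), (3, 26, true), (2, 27, true), (0, 6, true), (8, 7, true), (7, 17, true), (6, 17, true), (5, 21, true), (4, 21, true), (3, 24, true), (2, 26, true), (1, 26, true), (0, 27, true), (8, 16, true), (7, 16, true), (6, 20, true), (5, 20, true), (4, 23, true), (3, 25, true), (2, 25, true), (9, 15, true), (8, 17, true), (7, 21, true), (6, 21, true), (5, 24, true), (4, 26, true),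 (3, 26, true), (2, 27, true), (1, 27, true), (9, 17, true), (8, 21, true), (7, 21, true), (6, 24, true), (5, 26, true), (4, 26, true), (3, 27, true), (2, 27, true), (0, 6, true), (7, 16, true), (6, 20, true), (5, 20, true), (4, 23, true), (3, 25, true), (2, 25, true), (0, 5, true), (5, 16, true), (4, 20, true), (3, 20, true), (2, 23, true), (1, 25, true), (0, 25, true), (6, 15, true), (5, 21, true), (4, 21, true), (3, 24, true), (2, 26, true), (1, 26, true), (0, 27, true), (6, 21, true), (5, 21, true), (4, 24, true), (3, 26, true), (2, 26, true), (1, 27, true), (7, 20, true), (6, 20, true), (5, 23, true), (4, 25, true), (3, 25, true), (8, 20, true), (7, 20, true), (6, 23, true), (5, 25, true), (4, 25, true), (2, 5, true), (6, 19, true), (5, 21, true), (4, 24, true), (3, 26, true), (2, 26, true), (0, 6, true), (3, 21, true), (2, 24, true), (1, 26, true), (0, 26, true), (4, 20, true), (3, 23, true), (2, 25, true), (1, 25, true), (5, 19, true), (4, 24, true), (3, 26, true), (2, 26, true), (1, 27, true), (5, 24, true), (4, 26, true), (3, 26, true), (2, 27, true), (0, 6, true), (3, 23, true), (2,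 25, true), (1, 25, true), (4, 22, true), (2, 4, true), (6, 15, true), (5, 17, true), (4, 21, true), (3, 21, true), (2, 24, true), (1, 27, true), (0, 27, true), (6, 17, true), (5, 21, true), (4, 21, true), (3, 24, true), (2, 27, true), (1, 27, true), (7, 16, true), (6, 20, true), (5, 20, true), (4, 23, true), (2, 5, true), (5, 16, true), (4, 20, true), (3, 20, true), (2, 23, true), (6, 15, true), (5, 21, true), (4, 21, true), (3, 24, true), (2, 27, true), (0, 6, true), (3, 21, true), (2, 21, true), (1, 24, true), (0, 27, true), (4, 20, true), (3, 20, true), (2, 23, true), (5, 20, true), (4, 20, true), (3, 23, true), (1, 5, true), (3, 19, true), (2, 21, true), (1, 24, true), (3, 21, true), (2, 24, true), (0, 6, true), (1, 20, true), (0, 23, true), (2, 19, true), (1, 24, true), (0, 27, true), (2, 24, true), (1, 27, true), (3, 23, true), (4, 22, true), (8, 1, true), (7, 21, true), (6, 21, true), (5, 24, true), (4, 26, true), (3, 27, true), (2, 27, true), (0, 6, true), (5, 21, true), (4, 21, true), (3, 24, true), (2, 26, true), (1, 27, true), (0, 27, true), (7, 7, true), (6, 21, true), (5, 21, true),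 (4, 24, true), (3, 26, true), (2, 27, true), (1, 27, true), (7, 20, true), (6, 20, true), (5, 23, true), (4, 25, true), (2, 5, true), (5, 19, true), (4, 21, true), (3, 24, true), (2, 26, true), (0, 6, true), (2, 21, true), (1, 24, true), (0, 26, true), (3, 20, true), (2, 23, true), (1, 25, true), (4, 19, true), (3, 24, true), (2, 26, true), (1, 27, true), (4, 24, true), (3, 26, true), (2, 27, true), (0, 6, true), (2, 23, true), (1, 25, true), (3, 22, true), (6, 19, true), (5, 21, true), (4, 24, true), (3, 26, true), (2, 26, true), (1, 27, true), (0, 27, true), (6, 21, true), (5, 24, true), (4, 26, true), (3, 26, true), (2, 27, true), (1, 27, true), (7, 20, true), (6, 23, true), (5, 25, true), (4, 25, true), (2, 5, true), (5, 19, true), (4, 24, true), (3, 26, true), (2, 26, true), (0, 6, true), (2, 24, true), (1, 26, true), (0, 26, true), (3, 23, true), (2, 25, true), (1, 25, true), (4, 22, true), (2, 4, true), (7, 12, true), (6, 12, true), (5, 17, true), (4, 21, true), (3, 21, true), (2, 24, true), (1, 27, true), (8, 10, true), (7, 12, true), (6, 17, true), (5, 21, true), (4, 21, true), (3,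 24, true), (2, 27, true), (0, 6, true), (5, 10, true), (4, 17, true), (3, 21, true), (2, 21, true), (1, 24, true), (0, 27, true), (5, 15, true), (4, 21, true), (3, 21, true), (2, 24, true), (1, 27, true), (5, 21, true), (4, 21, true), (3, 24, true), (2, 27, true), (0, 6, true), (3, 20, true), (2, 20, true), (1, 23, true), (4, 20, true), (3, 20, true), (2, 23, true), (0, 5, true), (2, 19, true), (1, 21, true), (0, 24, true), (2, 21, true), (1, 24, true), (3, 20, true), (2, 23, true), (4, 19, true), (3, 24, true), (2, 27, true), (0, 6, true), (1, 24, true), (0, 27, true), (2, 23, true), (3, 22, true), (9, 10, true), (8, 12, true), (7, 17, true), (6, 21, true), (5, 21, true), (4, 24, true), (3, 26, true), (2, 27, true), (1, 27, true), (9, 10, true), (8, 17, true), (7, 21, true), (6, 21, true), (5, 24, true), (4, 26, true), (3, 27, true), (2, 27, true), (0, 6, true), (6, 15, true), (5, 21, true), (4, 21, true), (3, 24, true), (2, 26, true), (1, 27, true), (0, 27, true), (6, 21, true), (5, 21, true), (4, 24, true), (3, 26, true), (2, 27, true), (1, 27, true), (7, 20, true), (6, 20, true), (5, 23,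 true), (4, 25, true), (2, 5, true), (5, 20, true), (4, 20, true), (3, 23, true), (2, 25, true), (6, 19, true), (5, 21, true), (4, 24, true), (3, 26, true), (2, 27, true), (0, 6, true), (3, 21, true), (2, 24, true), (1, 26, true), (0, 27, true), (4, 20, true), (3, 23, true), (2, 25, true), (5, 19, true), (4, 24, true), (3, 26, true), (2, 27, true), (1, 27, true), (5, 24, true), (4, 26, true), (3, 27, true), (2, 27, true), (0, 6, true), (3, 23, true), (2, 25, true), (0, 5, true), (1, 22, true), (7, 9, true), (6, 12, true), (5, 17, true), (4, 21, true), (3, 21, true), (2, 24, true), (1, 26, true), (0, 26, true), (7, 12, true), (6, 17, true), (5, 21, true), (4, 21, true), (3, 24, true), (2, 26, true), (1, 26, true), (8, 11, true), (7, 16, true), (6, 20, true), (5, 20, true), (4, 23, true), (3, 25, true), (2, 25, true), (9, 9, true), (8, 17, true), (7, 21, true), (6, 21, true), (5, 24, true), (4, 26, true), (3, 26, true), (2, 27, true), (0, 6, true), (6, 17, true), (5, 21, true), (4, 21, true), (3, 24, true), (2, 26, true), (1, 26, true), (0, 27, true), (7, 16, true), (6, 20, true), (5, 20, true),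 (4, 23, true), (3, 25, true), (2, 25, true), (8, 14, true), (7, 20, true), (6, 20, true), (5, 23, true), (4, 25, true), (3, 25, true), (1, 5, true), (5, 18, true), (4, 21, true), (3, 24, true), (2, 26, true), (1, 26, true), (5, 21, true), (4, 24, true), (3, 26, true), (2, 26, true), (0, 6, true), (3, 18, true), (2, 24, true), (1, 26, true), (0, 26, true), (3, 24, true), (2, 26, true), (1, 26, true), (10, 9, true), (9, 12, true), (8, 17, true), (7, 21, true), (6, 21, true), (5, 24, true), (4, 24, true), (3, 26, true), (2, 26, true), (0, 6, true), (7, 12, true), (6, 17, true), (5, 21, true), (4, 21, true), (3, 24, true), (2, 24, true), (1, 26, true), (0, 26, true), (8, 11, true), (7, 16, true), (6, 20, true), (5, 20, true), (4, 23, true), (3, 23, true), (2, 25, true), (1, 25, true), (9, 9, true), (8, 17, true), (7, 21, true), (6, 21, true), (5, 24, true), (4, 24, true), (3, 26, true), (2, 26, true), (1, 27, true), (9, 17, true), (8, 21, true), (7, 21, true), (6, 24, true), (5, 24, true), (4, 26, true), (3, 26, true), (2, 27, true), (0, 6, true), (7, 16, true), (6, 20, true), (5, 20, true), (4,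 23, true), (3, 23, true), (2, 25, true), (1, 25, true), (8, 14, true), (7, 20, true), (6, 20, true), (5, 23, true), (4, 23, true), (3, 25, true), (2, 25, true), (0, 5, true), (5, 18, true), (4, 21, true), (3, 24, true), (2, 24, true), (1, 26, true), (0, 26, true), (5, 21, true), (4, 24, true), (3, 24, true), (2, 26, true), (1, 26, true), (6, 18, true), (5, 24, true), (4, 24, true), (3, 26, true), (2, 26, true), (0, 6, true), (3, 24, true), (2, 24, true), (1, 26, true), (0, 26, true), (3, 3, true), (7, 8, true), (6, 11, true), (5, 16, true), (4, 20, true), (3, 20, true), (2, 25, true), (1, 25, true), (7, 10, true), (6, 17, true), (5, 21, true), (4, 21, true), (3, 26, true), (2, 26, true), (1, 27, true), (7, 15, true), (6, 21, true), (5, 21, true), (4, 26, true), (3, 26, true), (2, 27, true), (0, 6, true), (4, 21, true), (3, 21, true), (2, 26, true), (1, 26, true), (0, 27, true), (5, 20, true), (4, 20, true), (3, 25, true), (2, 25, true), (6, 20, true), (5, 20, true), (4, 25, true), (3, 25, true), (1, 5, true), (4, 19, true), (3, 21, true), (2, 26, true), (1, 26, true), (4, 21, true), (3, 26,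 true), (2, 26, true), (0, 6, true), (2, 20, true), (1, 25, true), (0, 25, true), (3, 19, true), (2, 26, true), (1, 26, true), (0, 27, true), (3, 26, true), (2, 26, true), (1, 27, true), (4, 25, true), (3, 25, true), (4, 4, true), (7, 9, true), (6, 17, true), (5, 21, true), (4, 21, true), (3, 27, true), (2, 27, true), (0, 6, true), (4, 17, true), (3, 21, true), (2, 21, true), (1, 27, true), (0, 27, true), (5, 16, true), (4, 20, true), (3, 20, true), (1, 5, true), (3, 14, true), (2, 20, true), (1, 20, true), (3, 18, true), (2, 21, true), (1, 27, true), (3, 21, true), (2, 27, true), (0, 6, true), (1, 18, true), (0, 27, true), (1, 27, true), (7, 9, true), (6, 17, true), (5, 21, true), (4, 21, true), (3, 24, true), (2, 27, true), (0, 6, true), (4, 17, true), (3, 21, true), (2, 21, true), (1, 24, true), (0, 27, true), (5, 16, true), (4, 20, true), (3, 20, true), (2, 23, true), (6, 14, true), (5, 20, true), (4, 20, true), (3, 23, true), (1, 5, true), (3, 18, true), (2, 21, true), (1, 24, true), (3, 21, true), (2, 24, true), (0, 6, true), (1, 18, true), (0, 24, true), (1, 24, true), (7, 8, true), (6,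 16, true), (5, 20, true), (4, 20, true), (3, 23, true), (2, 23, true), (7, 15, true), (6, 21, true), (5, 21, true), (4, 24, true), (3, 24, true), (2, 27, true), (0, 6, true), (4, 21, true), (3, 21, true), (2, 24, true), (1, 24, true), (0, 27, true), (5, 20, true), (4, 20, true), (3, 23, true), (2, 23, true), (6, 20, true), (5, 20, true), (4, 23, true), (3, 23, true), (1, 5, true), (4, 19, true), (3, 21, true), (2, 24, true), (1, 24, true), (4, 21, true), (3, 24, true), (2, 24, true), (0, 6, true), (2, 20, true), (1, 23, true), (0, 23, true), (3, 19, true), (2, 24, true), (1, 24, true), (0, 27, true), (3, 24, true), (2, 24, true), (1, 27, true), (4, 23, true), (3, 23, true), (5, 22, true), (4, 22, true), (9, 14, true), (8, 20, true), (7, 20, true), (6, 23, true), (5, 23, true), (4, 25, true), (2, 5, true), (6, 18, true), (5, 21, true), (4, 24, true), (3, 24, true), (2, 26, true), (0, 6, true), (3, 21, true), (2, 24, true), (1, 24, true), (0, 26, true), (4, 18, true), (3, 24, true), (2, 24, true), (1, 26, true), (4, 24, true), (3, 24, true), (2, 26, true), (0, 6, true), (1, 3, true), (3, 14, true),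 (2, 20, true), (1, 20, true), (0, 25, true), (3, 18, true), (2, 21, true), (1, 26, true), (0, 27, true), (3, 21, true), (2, 26, true), (1, 27, true), (4, 18, true), (3, 26, true), (2, 27, true), (0, 6, true), (1, 26, true), (0, 27, true), (6, 13, true), (5, 18, true), (4, 21, true), (3, 24, true), (2, 26, true), (1, 27, true), (5, 21, true), (4, 24, true), (3, 26, true), (2, 27, true), (0, 6, true), (3, 18, true), (2, 24, true), (1, 26, true), (0, 27, true), (3, 24, true), (2, 26, true), (1, 27, true), (7, 18, true), (6, 21, true), (5, 24, true), (4, 24, true), (3, 26, true), (2, 27, true), (0, 6, true), (4, 21, true), (3, 24, true), (2, 24, true), (1, 26, true), (0, 27, true), (5, 18, true), (4, 24, true), (3, 24, true), (2, 26, true), (1, 27, true), (5, 24, true), (4, 24, true), (3, 26, true), (2, 27, true), (0, 6, true), (2, 3, true), (2, 2, true), (1, 26, true), (0, 27, true), (2, 26, true), (1, 27, true), (3, 25, true), (7, 7, true), (6, 12, true), (5, 17, true), (4, 26, true), (3, 27, true), (2, 27, true), (0, 6, true), (4, 11, true), (3, 16, true), (2, 25, true), (0, 5, true), (2, 10,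 true), (1, 17, true), (0, 26, true), (2, 15, true), (1, 26, true), (2, 26, true), (0, 6, true), (0, 25, true), (1, 25, true), (5, 10, true), (4, 17, true), (3, 26, true), (2, 26, true), (1, 27, true), (0, 27, true), (5, 15, true), (4, 26, true), (3, 26, true), (2, 27, true), (1, 27, true), (5, 26, true), (4, 26, true), (3, 27, true), (2, 27, true), (0, 6, true), (3, 25, true), (2, 25, true), (0, 5, true), (1, 25, true), (0, 25, true), (1, 4, true), (2, 7, true), (1, 17, true), (0, 27, true), (2, 16, true), (3, 15, true), (2, 27, true), (1, 27, true), (3, 27, true), (2, 27, true), (0, 6, true), (0, 5, true), (2, 15, true), (1, 26, true), (0, 27, true), (2, 26, true), (1, 27, true), (3, 25, true), (4, 25, true), (2, 5, true), (7, 7, true), (6, 12, true), (5, 17, true), (4, 17, true), (3, 26, true), (2, 26, true), (0, 6, true), (4, 11, true), (3, 16, true), (2, 16, true), (1, 25, true), (0, 25, true), (5, 10, true), (4, 17, true), (3, 17, true), (2, 26, true), (1, 26, true), (0, 27, true), (5, 15, true), (4, 17, true), (3, 26, true), (2, 26, true), (1, 27, true), (5, 17, true), (4, 26, true), (3,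 26, true), (2, 27, true), (0, 6, true), (3, 16, true), (2, 25, true), (1, 25, true), (4, 16, true), (3, 25, true), (2, 25, true), (0, 5, true), (2, 15, true), (1, 26, true), (0, 26, true), (2, 26, true), (1, 26, true), (3, 25, true), (2, 25, true), (4, 25, true), (3, 25, true), (4, 4, true), (6, 10, true), (5, 17, true), (4, 17, true), (3, 27, true), (2, 27, true), (0, 6, true), (3, 15, true), (2, 17, true), (1, 27, true), (0, 27, true), (3, 17, true), (2, 27, true), (1, 27, true), (4, 16, true), (2, 5, true), (2, 16, true), (3, 15, true), (2, 27, true), (0, 6, true), (0, 27, true), (1, 5, true), (4, 7, true), (3, 17, true), (2, 17, true), (1, 26, true), (4, 16, true), (3, 16, true), (2, 25, true), (5, 15, true), (4, 17, true), (3, 26, true), (2, 27, true), (0, 6, true), (2, 17, true), (1, 26, true), (0, 27, true), (3, 16, true), (2, 25, true), (4, 16, true), (3, 25, true), (1, 5, true), (2, 15, true), (1, 26, true), (2, 26, true), (0, 6, true), (0, 25, true), (1, 25, true), (5, 15, true), (4, 17, true), (3, 26, true), (2, 26, true), (1, 27, true), (0, 27, true), (5, 17, true), (4, 26, true),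 (3, 26, true), (2, 27, true), (1, 27, true), (6, 16, true), (5, 25, true), (4, 25, true), (2, 5, true), (4, 16, true), (3, 25, true), (2, 25, true), (5, 15, true), (4, 26, true), (3, 26, true), (2, 27, true), (0, 6, true), (2, 26, true), (1, 26, true), (0, 27, true), (3, 25, true), (2, 25, true), (4, 25, true), (3, 25, true), (1, 5, true), (1, 4, true), (1, 1, true), (0, 6, true), (0, 0, true), (2, 5, false), (1, 27, false), (2, 27, false)]),
    ([3, 3, 3], [], [(2, 24, true), (0, 6, true), (0, 24, true), (2, 24, true), (1, 24, true), (3, 24, true), (2, 24, true), (0, 6, true), (0, 3, true)], [(2, 23, true), (1, 23, true), (2, 3, true), (2, 23, true), (0, 5, true), (0, 3, true)]),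
    ([4, 4, 4], [], [(2, 25, true), (0, 5, true), (0, 25, true), (2, 25, true), (1, 25, true), (3, 25, true), (2, 25, true), (0, 5, true), (0, 4, true)], [(3, 26, true), (2, 27, true), (1, 27, true), (4, 25, true), (2, 5, true), (2, 25, true), (4, 26, true), (3, 26, true), (2, 27, true), (0, 6, true), (2, 25, true), (1, 25, true), (3, 25, true), (2, 25, true), (0, 5, true), (0, 4, true)]),
    ([0, 1], [6, 5, 5, 4, 3, 1, 0], [(6, 11, true), (5, 16, true), (4, 16, true), (3, 20, true), (2, 23, true), (1, 23, true), (7, 10, true), (6, 17, true), (5, 17, true), (4, 21, true), (3, 24, true), (2, 24, true), (1, 27, true), (7, 15, true), (6, 17, true), (5, 21, true), (4, 24, true), (3, 24, true), (2, 27, true), (0, 6, true), (4, 17, true), (3, 21, true), (2, 24, true), (1, 24, true), (0, 27, true), (5, 16, true), (4, 20, true), (3, 23, true), (2, 23, true), (6, 16, true), (5, 20, true), (4, 23, true), (3, 23, true), (1, 5, true), (4, 15, true), (3, 21, true), (2, 24, true), (1, 24, true), (4, 21, true), (3, 24, true), (2, 24, true), (0, 6, true), (2, 20, true), (1, 23, true), (0, 23, true), (3, 20,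 true), (2, 23, true), (1, 23, true), (4, 19, true), (3, 24, true), (2, 24, true), (1, 27, true), (0, 27, true), (4, 24, true), (3, 24, true), (2, 27, true), (1, 27, true), (5, 23, true), (4, 23, true), (2, 5, true), (3, 22, true), (2, 22, true), (8, 10, true), (7, 17, true), (6, 17, true), (5, 21, true), (4, 24, true), (3, 24, true), (2, 26, true), (0, 6, true), (5, 15, true), (4, 17, true), (3, 21, true), (2, 24, true), (1, 24, true), (0, 26, true), (5, 17, true), (4, 21, true), (3, 24, true), (2, 24, true), (1, 26, true), (6, 16, true), (5, 20, true), (4, 23, true), (3, 23, true), (2, 25, true), (7, 16, true), (6, 20, true), (5, 23, true), (4, 23, true), (3, 25, true), (8, 15, true), (7, 21, true), (6, 24, true), (5, 24, true), (4, 26, true), (3, 27, true), (2, 27, true), (0, 6, true), (5, 21, true), (4, 24, true), (3, 24, true), (2, 26, true), (1, 27, true), (0, 27, true), (6, 20, true), (5, 23, true), (4, 23, true), (3, 25, true), (1, 5, true), (4, 20, true), (3, 23, true), (2, 23, true), (1, 25, true), (5, 19, true), (4, 24, true), (3, 24, true), (2, 26, true), (1, 27, true), (5, 24, true),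 (4, 24, true), (3, 26, true), (2, 27, true), (0, 6, true), (3, 23, true), (2, 23, true), (1, 25, true), (4, 22, true), (3, 22, true), (9, 9, true), (8, 17, true), (7, 17, true), (6, 21, true), (5, 24, true), (4, 24, true), (3, 26, true), (2, 26, true), (1, 27, true), (0, 27, true), (9, 17, true), (8, 17, true), (7, 21, true), (6, 24, true), (5, 24, true), (4, 26, true), (3, 26, true), (2, 27, true), (1, 27, true), (10, 16, true), (9, 16, true), (8, 20, true), (7, 23, true), (6, 23, true), (5, 25, true), (4, 25, true), (2, 5, true), (8, 14, true), (7, 16, true), (6, 20, true), (5, 23, true), (4, 23, true), (3, 25, true), (2, 25, true), (8, 14, true), (7, 20, true), (6, 23, true), (5, 23, true), (4, 25, true), (3, 25, true), (8, 18, true), (7, 24, true), (6, 24, true), (5, 26, true), (4, 26, true), (3, 27, true), (2, 27, true), (0, 6, true), (5, 24, true), (4, 24, true), (3, 26, true), (2, 26, true), (1, 27, true), (0, 27, true), (5, 3, true), (2, 25, false), (0, 27, false), (1, 26, false), (0, 6, false), (2, 27, false), (3, 26, false), (4, 19, false), (2, 25, false), (3, 20, false), (2, 5, false),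 (4, 25, false), (5, 20, false), (1, 27, false), (2, 27, false), (3, 26, false), (4, 21, false), (0, 27, false), (1, 27, false), (2, 26, false), (3, 21, false), (4, 15, false), (0, 6, false), (2, 27, false), (1, 27, false), (2, 19, false), (1, 20, false), (1, 5, false), (3, 20, false), (0, 27, false), (1, 27, false), (2, 21, false), (0, 6, false), (2, 27, false), (3, 27, false), (4, 21, false), (5, 15, false), (3, 20, false), (4, 16, false), (1, 27, false), (2, 21, false), (3, 17, false), (4, 7, false), (2, 4, false), (1, 25, false), (2, 25, false), (0, 26, false), (1, 26, false), (0, 6, false), (2, 26, false), (3, 26, false), (4, 19, false), (2, 5, false), (4, 25, false), (1, 27, false), (2, 27, false), (3, 26, false), (0, 27, false), (1, 27, false), (2, 26, false), (3, 19, false), (1, 25, false), (2, 20, false), (0, 6, false), (2, 27, false), (3, 26, false), (4, 21, false), (5, 7, false), (4, 3, false), (3, 22, false), (2, 23, false), (3, 8, false), (2, 5, false), (1, 27, false), (2, 27, false), (0, 27, false), (1, 27, false), (2, 9, false), (2, 3, false), (1, 23, false), (2, 23, false), (0,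 6, false), (2, 27, false), (3, 24, false), (4, 24, false), (1, 27, false), (2, 24, false), (3, 24, false), (4, 9, false), (0, 27, false), (1, 24, false), (2, 24, false), (3, 12, false), (1, 4, false), (3, 22, false), (2, 22, false), (0, 25, false), (1, 23, false), (0, 6, false), (2, 26, false), (1, 26, false), (1, 5, false), (1, 5, false), (0, 27, false), (1, 27, false), (0, 6, false)], [(8, 11, true), (7, 16, true), (6, 16, true), (5, 20, true), (4, 23, true), (3, 23, true), (2, 25, true), (1, 25, true), (9, 10, true), (8, 17, true), (7, 17, true), (6, 21, true), (5, 24, true), (4, 24, true), (3, 26, true), (2, 26, true), (1, 27, true), (9, 15, true), (8, 17, true), (7, 21, true), (6, 24, true), (5, 24, true), (4, 26, true), (3, 26, true), (2, 27, true), (0, 6, true), (6, 17, true), (5, 21, true), (4, 24, true), (3, 24, true), (2, 26, true), (1, 26, true), (0, 27, true), (7, 16, true), (6, 20, true), (5, 23, true), (4, 23, true), (3, 25, true), (2, 25, true), (8, 16, true), (7, 20, true), (6, 23, true), (5, 23, true), (4, 25, true), (3, 25, true), (1, 5, true), (6, 15, true), (5, 21, true),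 (4, 24, true), (3, 24, true), (2, 26, true), (1, 26, true), (6, 21, true), (5, 24, true), (4, 24, true), (3, 26, true), (2, 26, true), (0, 6, true), (4, 20, true), (3, 23, true), (2, 23, true), (1, 25, true), (0, 25, true), (5, 20, true), (4, 23, true), (3, 23, true), (2, 25, true), (1, 25, true), (6, 19, true), (5, 24, true), (4, 24, true), (3, 26, true), (2, 26, true), (1, 27, true), (0, 27, true), (6, 24, true), (5, 24, true), (4, 26, true), (3, 26, true), (2, 27, true), (1, 27, true), (7, 23, true), (6, 23, true), (5, 25, true), (4, 25, true), (2, 5, true), (5, 22, true), (4, 22, true), (2, 4, true), (7, 9, true), (6, 17, true), (5, 17, true), (4, 21, true), (3, 24, true), (2, 24, true), (0, 6, true), (4, 17, true), (3, 17, true), (2, 21, true), (1, 24, true), (0, 24, true), (5, 16, true), (4, 16, true), (3, 20, true), (2, 23, true), (1, 23, true), (6, 14, true), (5, 16, true), (4, 20, true), (3, 23, true), (2, 23, true), (6, 14, true), (5, 20, true), (4, 23, true), (3, 23, true), (1, 5, true), (3, 18, true), (2, 24, true), (1, 24, true), (3, 24, true), (2, 24, true), (0, 6, true), (0, 3,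 true), (3, 8, true), (2, 16, true), (1, 16, true), (0, 20, true), (3, 15, true), (2, 17, true), (1, 21, true), (0, 27, true), (3, 17, true), (2, 21, true), (1, 27, true), (4, 16, true), (3, 20, true), (5, 16, true), (4, 20, true), (2, 5, true), (3, 15, true), (2, 21, true), (0, 6, true), (0, 21, true), (1, 20, true), (2, 20, true), (3, 19, true), (2, 27, true), (1, 27, true), (3, 27, true), (2, 27, true), (0, 6, true), (0, 5, true), (3, 14, true), (2, 16, true), (1, 20, true), (0, 25, true), (3, 14, true), (2, 20, true), (1, 25, true), (3, 18, true), (2, 26, true), (1, 27, true), (0, 27, true), (3, 26, true), (2, 27, true), (1, 27, true), (8, 14, true), (7, 16, true), (6, 20, true), (5, 23, true), (4, 25, true), (2, 5, true), (5, 14, true), (4, 20, true), (3, 23, true), (2, 25, true), (5, 18, true), (4, 24, true), (3, 26, true), (2, 27, true), (0, 6, true), (2, 24, true), (1, 26, true), (0, 27, true), (7, 13, true), (6, 14, true), (5, 20, true), (4, 23, true), (3, 23, true), (2, 25, true), (6, 18, true), (5, 24, true), (4, 24, true), (3, 26, true), (2, 27, true), (1, 27, true), (6, 24, true),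 (5, 24, true), (4, 26, true), (3, 27, true), (2, 27, true), (0, 6, true), (3, 3, true), (4, 14, true), (3, 20, true), (2, 25, true), (0, 5, true), (1, 18, true), (0, 26, true), (1, 26, true), (5, 13, true), (4, 18, true), (3, 24, true), (2, 26, true), (0, 6, true), (1, 24, true), (0, 26, true), (4, 18, true), (3, 24, true), (2, 24, true), (1, 26, true), (4, 24, true), (3, 24, true), (2, 26, true), (0, 6, true), (1, 3, true), (5, 7, true), (4, 17, true), (3, 17, true), (2, 21, true), (1, 21, true), (0, 26, true), (5, 16, true), (4, 16, true), (3, 20, true), (2, 20, true), (1, 25, true), (6, 15, true), (5, 17, true), (4, 21, true), (3, 21, true), (2, 26, true), (1, 27, true), (6, 17, true), (5, 21, true), (4, 21, true), (3, 26, true), (2, 27, true), (0, 6, true), (4, 16, true), (3, 20, true), (2, 20, true), (1, 25, true), (5, 16, true), (4, 20, true), (3, 20, true), (2, 25, true), (0, 5, true), (3, 15, true), (2, 21, true), (1, 21, true), (0, 26, true), (3, 21, true), (2, 21, true), (1, 26, true), (4, 20, true), (3, 20, true), (2, 25, true), (5, 20, true), (4, 20, true), (3, 25, true), (6, 19,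 true), (5, 21, true), (4, 26, true), (3, 27, true), (2, 27, true), (0, 6, true), (3, 21, true), (2, 26, true), (1, 27, true), (0, 27, true), (4, 20, true), (3, 25, true), (1, 5, true), (2, 19, true), (1, 26, true), (2, 26, true), (0, 6, true), (0, 25, true), (6, 15, true), (5, 17, true), (4, 21, true), (3, 21, true), (2, 26, true), (1, 26, true), (0, 27, true), (6, 17, true), (5, 21, true), (4, 21, true), (3, 26, true), (2, 26, true), (1, 27, true), (7, 16, true), (6, 20, true), (5, 20, true), (4, 25, true), (3, 25, true), (8, 16, true), (7, 20, true), (6, 20, true), (5, 25, true), (4, 25, true), (2, 5, true), (6, 15, true), (5, 21, true), (4, 21, true), (3, 26, true), (2, 26, true), (0, 6, true), (3, 21, true), (2, 21, true), (1, 26, true), (0, 26, true), (4, 20, true), (3, 20, true), (2, 25, true), (1, 25, true), (5, 20, true), (4, 20, true), (3, 25, true), (2, 25, true), (6, 19, true), (5, 21, true), (4, 26, true), (3, 26, true), (2, 27, true), (1, 27, true), (6, 21, true), (5, 26, true), (4, 26, true), (3, 27, true), (2, 27, true), (0, 6, true), (4, 20, true), (3, 25, true), (2, 25, true),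 (0, 5, true), (2, 19, true), (1, 26, true), (0, 26, true), (2, 26, true), (1, 26, true), (3, 25, true), (2, 25, true), (3, 4, true), (5, 1, true), (4, 21, true), (3, 21, true), (2, 27, true), (0, 6, true), (2, 21, true), (1, 21, true), (0, 27, true), (0, 27, false), (1, 21, false), (2, 21, false), (0, 6, false), (2, 27, false), (3, 21, false), (4, 21, false), (5, 1, false), (3, 4, false), (2, 25, false), (3, 25, false), (1, 26, false), (2, 26, false), (0, 26, false), (1, 26, false), (2, 19, false), (0, 5, false), (2, 25, false), (3, 25, false), (4, 20, false), (0, 6, false), (2, 27, false), (3, 27, false), (4, 26, false), (5, 26, false), (6, 21, false), (1, 27, false), (2, 27, false), (3, 26, false), (4, 26, false), (5, 21, false), (6, 19, false), (2, 25, false), (3, 25, false), (4, 20, false), (5, 20, false), (1, 25, false), (2, 25, false), (3, 20, false), (4, 20, false), (0, 26, false), (1, 26, false), (2, 21, false), (3, 21, false), (0, 6, false), (2, 26, false), (3, 26, false), (4, 21, false), (5, 21, false), (6, 15, false), (2, 5, false), (4, 25, false), (5, 25, false), (6, 20, false),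 (7, 20, false), (8, 16, false), (3, 25, false), (4, 25, false), (5, 20, false), (6, 20, false), (7, 16, false), (1, 27, false), (2, 26, false), (3, 26, false), (4, 21, false), (5, 21, false), (6, 17, false), (0, 27, false), (1, 26, false), (2, 26, false), (3, 21, false), (4, 21, false), (5, 17, false), (6, 15, false), (0, 25, false), (0, 6, false), (2, 26, false), (1, 26, false), (2, 19, false), (1, 5, false), (3, 25, false), (4, 20, false), (0, 27, false), (1, 27, false), (2, 26, false), (3, 21, false), (0, 6, false), (2, 27, false), (3, 27, false), (4, 26, false), (5, 21, false), (6, 19, false), (3, 25, false), (4, 20, false), (5, 20, false), (2, 25, false), (3, 20, false), (4, 20, false), (1, 26, false), (2, 21, false), (3, 21, false), (0, 26, false), (1, 21, false), (2, 21, false), (3, 15, false), (0, 5, false), (2, 25, false), (3, 20, false), (4, 20, false), (5, 16, false), (1, 25, false), (2, 20, false), (3, 20, false), (4, 16, false), (0, 6, false), (2, 27, false), (3, 26, false), (4, 21, false), (5, 21, false), (6, 17, false), (1, 27, false), (2, 26, false), (3, 21, false), (4, 21, false),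 (5, 17, false), (6, 15, false), (1, 25, false), (2, 20, false), (3, 20, false), (4, 16, false), (5, 16, false), (0, 26, false), (1, 21, false), (2, 21, false), (3, 17, false), (4, 17, false), (5, 7, false), (0, 5, false), (0, 6, false), (2, 27, false), (3, 27, false), (1, 27, false), (2, 27, false), (3, 19, false), (2, 20, false), (0, 27, false), (1, 21, false), (0, 6, false), (2, 27, false), (3, 21, false), (4, 19, false), (2, 20, false), (3, 20, false), (2, 5, false), (4, 20, false), (5, 20, false), (1, 27, false), (2, 27, false), (3, 21, false), (4, 21, false), (0, 27, false), (1, 27, false), (2, 21, false), (3, 21, false), (4, 15, false), (2, 4, false), (1, 25, false), (2, 25, false), (0, 6, false), (2, 27, false), (3, 26, false), (4, 26, false), (1, 27, false), (2, 26, false), (3, 26, false), (4, 19, false), (1, 25, false), (2, 25, false), (3, 20, false), (0, 26, false), (1, 26, false), (2, 21, false), (0, 6, false), (2, 26, false), (3, 26, false), (4, 21, false), (5, 19, false), (2, 5, false), (4, 25, false), (5, 25, false), (6, 20, false), (7, 20, false), (3, 25, false), (4, 25, false),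 (5, 20, false), (6, 20, false), (1, 27, false), (2, 26, false), (3, 26, false), (4, 21, false), (5, 21, false), (0, 27, false), (1, 26, false), (2, 26, false), (3, 21, false), (4, 21, false), (5, 15, false), (0, 25, false), (1, 25, false), (2, 20, false), (3, 20, false), (4, 16, false), (0, 6, false), (2, 26, false), (3, 26, false), (4, 21, false), (5, 21, false), (6, 17, false), (7, 7, false), (4, 3, false), (1, 26, false), (2, 26, false), (3, 24, false), (4, 24, false), (0, 26, false), (1, 26, false), (2, 24, false), (3, 24, false), (4, 18, false), (0, 6, false), (2, 26, false), (3, 26, false), (4, 24, false), (1, 26, false), (2, 26, false), (3, 24, false), (4, 18, false), (5, 13, false), (0, 26, false), (1, 26, false), (0, 6, false), (2, 26, false), (3, 26, false), (4, 18, false), (2, 5, false), (4, 25, false), (5, 25, false), (6, 20, false), (7, 14, false), (6, 3, false), (1, 27, false), (2, 27, false), (3, 26, false), (4, 26, false), (5, 24, false), (6, 24, false), (0, 27, false), (1, 27, false), (2, 26, false), (3, 26, false), (4, 24, false), (5, 24, false), (6, 18, false), (1, 25, false),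 (2, 25, false), (3, 23, false), (4, 23, false), (5, 20, false), (6, 14, false), (2, 22, false), (3, 22, false), (0, 25, false), (1, 23, false), (2, 23, false), (0, 6, false), (2, 26, false), (3, 24, false), (4, 24, false), (1, 26, false), (2, 24, false), (3, 24, false), (4, 19, false), (1, 5, false), (3, 25, false), (4, 23, false), (5, 23, false), (6, 20, false), (2, 25, false), (3, 23, false), (4, 23, false), (5, 20, false), (0, 27, false), (1, 26, false), (2, 24, false), (3, 24, false), (4, 21, false), (0, 6, false), (2, 27, false), (3, 26, false), (4, 24, false), (5, 24, false), (6, 21, false), (7, 15, false), (2, 25, false), (3, 23, false), (4, 23, false), (5, 20, false), (6, 16, false), (7, 8, false), (1, 26, false), (2, 24, false), (0, 26, false), (1, 24, false), (2, 18, false), (0, 5, false), (2, 25, false), (3, 23, false), (4, 20, false), (5, 14, false), (1, 25, false), (2, 23, false), (3, 20, false), (4, 16, false), (0, 6, false), (2, 27, false), (3, 26, false), (4, 24, false), (5, 21, false), (6, 17, false), (1, 27, false), (2, 26, false), (3, 24, false), (4, 21, false), (5, 17, false),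 (6, 9, false), (0, 27, false), (1, 26, false), (0, 6, false), (2, 27, false), (3, 26, false), (4, 18, false), (2, 25, false), (3, 20, false), (4, 14, false), (2, 5, false), (4, 25, false), (5, 20, false), (6, 16, false), (1, 27, false), (2, 27, false), (3, 26, false), (4, 21, false), (5, 17, false), (0, 27, false), (1, 27, false), (2, 26, false), (3, 21, false), (4, 17, false), (5, 9, false), (0, 6, false), (2, 27, false), (1, 27, false), (2, 19, false), (1, 20, false), (1, 5, false), (3, 20, false), (0, 27, false), (1, 27, false), (2, 21, false), (0, 6, false), (2, 27, false), (3, 27, false), (4, 21, false), (5, 15, false), (1, 27, false), (2, 27, false), (3, 21, false), (4, 17, false), (5, 10, false), (3, 4, false), (2, 25, false), (3, 25, false), (0, 27, false), (1, 26, false), (2, 26, false), (0, 6, false), (2, 27, false), (3, 26, false), (4, 26, false), (5, 19, false), (2, 25, false), (3, 25, false), (4, 20, false), (2, 5, false), (4, 25, false), (5, 25, false), (6, 20, false), (1, 27, false), (2, 27, false), (3, 26, false), (4, 26, false), (5, 21, false), (0, 27, false), (1, 27, false),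 (2, 26, false), (3, 26, false), (4, 21, false), (5, 15, false), (0, 6, false), (2, 27, false), (3, 27, false), (4, 26, false), (5, 26, false), (6, 21, false), (7, 17, false), (8, 10, false), (1, 27, false), (2, 27, false), (3, 26, false), (4, 26, false), (5, 21, false), (6, 17, false), (7, 12, false), (5, 3, false), (4, 22, false), (5, 22, false), (2, 25, false), (3, 23, false), (4, 23, false), (1, 25, false), (1, 5, false), (0, 27, false), (0, 5, false), (0, 6, false), (2, 27, false), (3, 27, false)]),
    ([0, 2], [6, 5, 5, 4, 4, 2, 0], [(6, 10, true), (5, 17, true), (4, 17, true), (3, 21, true), (2, 24, true), (1, 24, true), (6, 15, true), (5, 17, true), (4, 21, true), (3, 24, true), (2, 24, true), (0, 6, true), (3, 17, true), (2, 21, true), (1, 24, true), (0, 24, true), (4, 16, true), (3, 20, true), (2, 23, true), (1, 23, true), (5, 16, true), (4, 20, true), (3, 23, true), (2, 23, true), (6, 15, true), (5, 21, true), (4, 24, true), (3, 24, true), (2, 27, true), (1, 27, true), (6, 21, true), (5, 24, true), (4, 24, true), (3, 27, true), (2, 27, true), (0, 6, true), (4, 20, true), (3, 23, true),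 (2, 23, true), (0, 5, true), (2, 20, true), (1, 23, true), (0, 23, true), (3, 19, true), (2, 24, true), (1, 24, true), (0, 27, true), (3, 24, true), (2, 24, true), (1, 27, true), (4, 23, true), (3, 23, true), (5, 22, true), (4, 22, true), (10, 10, true), (9, 17, true), (8, 17, true), (7, 21, true), (6, 24, true), (5, 24, true), (4, 26, true), (3, 27, true), (2, 27, true), (0, 6, true), (7, 15, true), (6, 17, true), (5, 21, true), (4, 24, true), (3, 24, true), (2, 26, true), (1, 27, true), (0, 27, true), (7, 17, true), (6, 21, true), (5, 24, true), (4, 24, true), (3, 26, true), (2, 27, true), (1, 27, true), (8, 16, true), (7, 20, true), (6, 23, true), (5, 23, true), (4, 25, true), (2, 5, true), (6, 16, true), (5, 20, true), (4, 23, true), (3, 23, true), (2, 25, true), (7, 15, true), (6, 21, true), (5, 24, true), (4, 24, true), (3, 26, true), (2, 27, true), (0, 6, true), (4, 21, true), (3, 24, true), (2, 24, true), (1, 26, true), (0, 27, true), (5, 20, true), (4, 23, true), (3, 23, true), (2, 25, true), (6, 20, true), (5, 23, true), (4, 23, true), (3, 25, true), (1, 5, true), (4, 19, true), (3,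 24, true), (2, 24, true), (1, 26, true), (4, 24, true), (3, 24, true), (2, 26, true), (0, 6, true), (2, 23, true), (1, 23, true), (0, 25, true), (3, 22, true), (2, 22, true), (8, 9, true), (7, 17, true), (6, 17, true), (5, 21, true), (4, 24, true), (3, 24, true), (2, 26, true), (1, 26, true), (0, 27, true), (8, 17, true), (7, 17, true), (6, 21, true), (5, 24, true), (4, 24, true), (3, 26, true), (2, 26, true), (1, 27, true), (9, 16, true), (8, 16, true), (7, 20, true), (6, 23, true), (5, 23, true), (4, 25, true), (3, 25, true), (10, 14, true), (9, 16, true), (8, 20, true), (7, 23, true), (6, 23, true), (5, 25, true), (4, 25, true), (2, 5, true), (7, 14, true), (6, 20, true), (5, 23, true), (4, 23, true), (3, 25, true), (2, 25, true), (7, 18, true), (6, 24, true), (5, 24, true), (4, 26, true), (3, 26, true), (2, 27, true), (0, 6, true), (4, 24, true), (3, 24, true), (2, 26, true), (1, 26, true), (0, 27, true), (4, 3, true), (7, 7, true), (6, 17, true), (5, 17, true), (4, 21, true), (3, 26, true), (2, 26, true), (1, 27, true), (7, 16, true), (6, 16, true), (5, 20, true), (4, 25, true), (3, 25,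 true), (8, 15, true), (7, 17, true), (6, 21, true), (5, 26, true), (4, 26, true), (3, 27, true), (2, 27, true), (0, 6, true), (5, 17, true), (4, 21, true), (3, 26, true), (2, 26, true), (1, 27, true), (0, 27, true), (6, 16, true), (5, 20, true), (4, 25, true), (3, 25, true), (1, 5, true), (4, 16, true), (3, 20, true), (2, 25, true), (1, 25, true), (5, 15, true), (4, 21, true), (3, 26, true), (2, 26, true), (1, 27, true), (5, 21, true), (4, 26, true), (3, 26, true), (2, 27, true), (0, 6, true), (3, 20, true), (2, 25, true), (1, 25, true), (4, 20, true), (3, 25, true), (2, 25, true), (0, 5, true), (2, 19, true), (1, 26, true), (0, 26, true), (2, 26, true), (1, 26, true), (3, 25, true), (2, 25, true), (3, 4, true), (5, 15, true), (4, 17, true), (3, 21, true), (2, 27, true), (0, 6, true), (2, 17, true), (1, 21, true), (0, 27, true), (3, 16, true), (2, 20, true), (4, 16, true), (3, 20, true), (1, 5, true), (2, 15, true), (1, 21, true), (2, 21, true), (0, 6, true), (0, 20, true), (1, 20, true), (2, 19, true), (1, 27, true), (0, 27, true), (2, 27, true), (1, 27, true), (2, 5, true), (4, 1, true), (3,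 21, true), (2, 26, true), (0, 6, true), (1, 21, true), (0, 26, true), (3, 7, true), (2, 21, true), (1, 26, true), (3, 20, true), (2, 25, true), (4, 19, true), (3, 26, true), (2, 27, true), (0, 6, true), (1, 26, true), (0, 27, true), (2, 25, true), (5, 19, true), (4, 26, true), (3, 26, true), (2, 27, true), (1, 27, true), (5, 26, true), (4, 26, true), (3, 27, true), (2, 27, true), (0, 6, true), (3, 25, true), (2, 25, true), (0, 5, true), (0, 4, true), (0, 4, false), (0, 5, false), (2, 25, false), (3, 25, false), (0, 6, false), (2, 27, false), (3, 27, false), (4, 26, false), (5, 26, false), (1, 27, false), (2, 27, false), (3, 26, false), (4, 26, false), (5, 19, false), (2, 25, false), (0, 27, false), (1, 26, false), (0, 6, false), (2, 27, false), (3, 26, false), (4, 19, false), (2, 25, false), (3, 20, false), (1, 26, false), (2, 21, false), (3, 7, false), (0, 26, false), (1, 21, false), (0, 6, false), (2, 26, false), (3, 21, false), (4, 1, false), (2, 5, false), (1, 27, false), (2, 27, false), (0, 27, false), (1, 27, false), (2, 19, false), (1, 20, false), (0, 20, false), (0, 6, false), (2, 21,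 false), (1, 21, false), (2, 15, false), (1, 5, false), (3, 20, false), (4, 16, false), (2, 20, false), (3, 16, false), (0, 27, false), (1, 21, false), (2, 17, false), (0, 6, false), (2, 27, false), (3, 21, false), (4, 17, false), (5, 15, false), (3, 4, false), (2, 25, false), (3, 25, false), (1, 26, false), (2, 26, false), (0, 26, false), (1, 26, false), (2, 19, false), (0, 5, false), (2, 25, false), (3, 25, false), (4, 20, false), (1, 25, false), (2, 25, false), (3, 20, false), (0, 6, false), (2, 27, false), (3, 26, false), (4, 26, false), (5, 21, false), (1, 27, false), (2, 26, false), (3, 26, false), (4, 21, false), (5, 15, false), (1, 25, false), (2, 25, false), (3, 20, false), (4, 16, false), (1, 5, false), (3, 25, false), (4, 25, false), (5, 20, false), (6, 16, false), (0, 27, false), (1, 27, false), (2, 26, false), (3, 26, false), (4, 21, false), (5, 17, false), (0, 6, false), (2, 27, false), (3, 27, false), (4, 26, false), (5, 26, false), (6, 21, false), (7, 17, false), (8, 15, false), (3, 25, false), (4, 25, false), (5, 20, false), (6, 16, false), (7, 16, false), (1, 27, false), (2,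 26, false), (3, 26, false), (4, 21, false), (5, 17, false), (6, 17, false), (7, 7, false), (4, 3, false), (5, 13, false), (1, 25, false), (2, 25, false), (3, 14, false), (3, 3, false), (1, 5, false), (3, 25, false), (4, 25, false), (5, 23, false), (6, 23, false), (7, 14, false), (8, 13, false), (2, 25, false), (3, 25, false), (4, 23, false), (5, 14, false), (1, 25, false), (2, 25, false), (3, 23, false), (4, 16, false), (5, 14, false), (1, 5, false), (3, 25, false), (4, 25, false), (5, 14, false), (2, 25, false), (3, 25, false), (4, 16, false), (5, 14, false), (1, 25, false), (1, 5, false), (3, 25, false), (0, 27, false), (1, 27, false), (2, 26, false), (0, 6, false), (2, 27, false), (3, 27, false), (4, 26, false), (5, 15, false), (3, 25, false), (4, 16, false), (2, 25, false), (3, 16, false), (1, 26, false), (2, 17, false), (0, 26, false), (1, 17, false), (2, 15, false), (0, 5, false), (2, 25, false), (3, 16, false), (4, 16, false), (5, 8, false), (3, 3, false), (1, 25, false), (2, 23, false), (3, 23, false), (4, 14, false), (0, 25, false), (1, 23, false), (2, 23, false), (3, 16, false), (4,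 14, false), (0, 5, false), (2, 25, false), (3, 23, false), (4, 23, false), (5, 16, false), (6, 16, false), (0, 6, false), (2, 27, false), (3, 27, false), (4, 26, false), (5, 24, false), (6, 24, false), (7, 17, false), (8, 17, false), (1, 27, false), (2, 27, false), (3, 26, false), (4, 24, false), (5, 24, false), (6, 17, false), (7, 17, false), (8, 9, false), (2, 25, false), (3, 23, false), (4, 14, false), (1, 25, false), (2, 23, false), (3, 16, false), (4, 14, false), (1, 5, false), (3, 25, false), (4, 23, false), (5, 16, false), (6, 16, false), (0, 27, false), (1, 27, false), (2, 26, false), (3, 24, false), (4, 17, false), (5, 17, false), (0, 6, false), (2, 27, false), (3, 27, false), (4, 26, false), (5, 24, false), (6, 17, false), (7, 17, false), (8, 9, false), (1, 27, false), (2, 27, false), (3, 26, false), (4, 24, false), (5, 17, false), (6, 17, false), (7, 12, false), (3, 4, false), (2, 25, false), (1, 25, false), (1, 5, false), (1, 5, false), (0, 27, false), (1, 27, false), (0, 6, false)], [(8, 11, true), (7, 16, true), (6, 16, true), (5, 20, true), (4, 23, true), (3, 23, true), (2, 25,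 true), (1, 25, true), (9, 11, true), (8, 16, true), (7, 16, true), (6, 20, true), (5, 23, true), (4, 23, true), (3, 25, true), (2, 25, true), (10, 9, true), (9, 17, true), (8, 17, true), (7, 21, true), (6, 24, true), (5, 24, true), (4, 26, true), (3, 26, true), (2, 27, true), (1, 27, true), (10, 17, true), (9, 17, true), (8, 21, true), (7, 24, true), (6, 24, true), (5, 26, true), (4, 26, true), (3, 27, true), (2, 27, true), (0, 6, true), (8, 16, true), (7, 16, true), (6, 20, true), (5, 23, true), (4, 23, true), (3, 25, true), (2, 25, true), (0, 5, true), (6, 14, true), (5, 16, true), (4, 20, true), (3, 23, true), (2, 23, true), (1, 25, true), (0, 25, true), (6, 14, true), (5, 20, true), (4, 23, true), (3, 23, true), (2, 25, true), (1, 25, true), (6, 18, true), (5, 24, true), (4, 24, true), (3, 26, true), (2, 26, true), (1, 27, true), (0, 27, true), (6, 24, true), (5, 24, true), (4, 26, true), (3, 26, true), (2, 27, true), (1, 27, true), (6, 3, true), (9, 9, true), (8, 17, true), (7, 17, true), (6, 21, true), (5, 26, true), (4, 26, true), (3, 27, true), (2, 27, true), (0, 6, true), (6, 17, true),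 (5, 17, true), (4, 21, true), (3, 26, true), (2, 26, true), (1, 27, true), (0, 27, true), (7, 16, true), (6, 16, true), (5, 20, true), (4, 25, true), (3, 25, true), (1, 5, true), (5, 14, true), (4, 16, true), (3, 20, true), (2, 25, true), (1, 25, true), (5, 14, true), (4, 20, true), (3, 25, true), (2, 25, true), (5, 18, true), (4, 26, true), (3, 26, true), (2, 27, true), (1, 27, true), (5, 26, true), (4, 26, true), (3, 27, true), (2, 27, true), (0, 6, true), (8, 7, true), (7, 17, true), (6, 17, true), (5, 21, true), (4, 24, true), (3, 26, true), (2, 26, true), (1, 27, true), (0, 27, true), (8, 16, true), (7, 16, true), (6, 20, true), (5, 23, true), (4, 25, true), (3, 25, true), (1, 5, true), (6, 15, true), (5, 17, true), (4, 21, true), (3, 24, true), (2, 26, true), (1, 26, true), (6, 17, true), (5, 21, true), (4, 24, true), (3, 26, true), (2, 26, true), (0, 6, true), (4, 16, true), (3, 20, true), (2, 23, true), (1, 25, true), (0, 25, true), (5, 16, true), (4, 20, true), (3, 23, true), (2, 25, true), (1, 25, true), (6, 15, true), (5, 21, true), (4, 24, true), (3, 26, true), (2, 26, true), (1,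 27, true), (0, 27, true), (6, 21, true), (5, 24, true), (4, 26, true), (3, 26, true), (2, 27, true), (1, 27, true), (7, 20, true), (6, 23, true), (5, 25, true), (4, 25, true), (2, 5, true), (5, 20, true), (4, 23, true), (3, 25, true), (2, 25, true), (6, 19, true), (5, 24, true), (4, 26, true), (3, 26, true), (2, 27, true), (0, 6, true), (3, 24, true), (2, 26, true), (1, 26, true), (0, 27, true), (4, 23, true), (3, 25, true), (2, 25, true), (5, 22, true), (3, 4, true), (6, 15, true), (5, 17, true), (4, 21, true), (3, 24, true), (2, 27, true), (1, 27, true), (6, 17, true), (5, 21, true), (4, 24, true), (3, 27, true), (2, 27, true), (0, 6, true), (4, 16, true), (3, 20, true), (2, 23, true), (0, 5, true), (2, 16, true), (1, 20, true), (0, 23, true), (3, 15, true), (2, 21, true), (1, 24, true), (0, 27, true), (3, 21, true), (2, 24, true), (1, 27, true), (4, 20, true), (3, 23, true), (5, 20, true), (4, 23, true), (2, 5, true), (3, 19, true), (2, 24, true), (0, 6, true), (0, 24, true), (1, 23, true), (2, 22, true), (5, 1, true), (4, 21, true), (3, 24, true), (2, 26, true), (1, 27, true), (5, 21, true),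 (4, 24, true), (3, 26, true), (2, 27, true), (0, 6, true), (4, 7, true), (3, 21, true), (2, 24, true), (1, 26, true), (0, 27, true), (4, 20, true), (3, 23, true), (2, 25, true), (5, 19, true), (4, 24, true), (3, 26, true), (2, 27, true), (1, 27, true), (5, 24, true), (4, 26, true), (3, 27, true), (2, 27, true), (0, 6, true), (3, 23, true), (2, 25, true), (0, 5, true), (1, 22, true), (3, 19, true), (2, 24, true), (1, 26, true), (0, 26, true), (3, 24, true), (2, 26, true), (1, 26, true), (4, 23, true), (3, 25, true), (2, 25, true), (5, 22, true), (3, 4, true), (3, 4, false), (5, 22, false), (2, 25, false), (3, 25, false), (4, 23, false), (1, 26, false), (2, 26, false), (3, 24, false), (0, 26, false), (1, 26, false), (2, 24, false), (3, 19, false), (1, 22, false), (0, 5, false), (2, 25, false), (3, 23, false), (0, 6, false), (2, 27, false), (3, 27, false), (4, 26, false), (5, 24, false), (1, 27, false), (2, 27, false), (3, 26, false), (4, 24, false), (5, 19, false), (2, 25, false), (3, 23, false), (4, 20, false), (0, 27, false), (1, 26, false), (2, 24, false), (3, 21, false), (4, 7, false), (0,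 6, false), (2, 27, false), (3, 26, false), (4, 24, false), (5, 21, false), (1, 27, false), (2, 26, false), (3, 24, false), (4, 21, false), (5, 1, false), (2, 22, false), (1, 23, false), (0, 24, false), (0, 6, false), (2, 24, false), (3, 19, false), (2, 5, false), (4, 23, false), (5, 20, false), (3, 23, false), (4, 20, false), (1, 27, false), (2, 24, false), (3, 21, false), (0, 27, false), (1, 24, false), (2, 21, false), (3, 15, false), (0, 23, false), (1, 20, false), (2, 16, false), (0, 5, false), (2, 23, false), (3, 20, false), (4, 16, false), (0, 6, false), (2, 27, false), (3, 27, false), (4, 24, false), (5, 21, false), (6, 17, false), (1, 27, false), (2, 27, false), (3, 24, false), (4, 21, false), (5, 17, false), (6, 15, false), (3, 4, false), (5, 22, false), (2, 25, false), (3, 25, false), (4, 23, false), (0, 27, false), (1, 26, false), (2, 26, false), (3, 24, false), (0, 6, false), (2, 27, false), (3, 26, false), (4, 26, false), (5, 24, false), (6, 19, false), (2, 25, false), (3, 25, false), (4, 23, false), (5, 20, false), (2, 5, false), (4, 25, false), (5, 25, false), (6, 23, false), (7,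 20, false), (1, 27, false), (2, 27, false), (3, 26, false), (4, 26, false), (5, 24, false), (6, 21, false), (0, 27, false), (1, 27, false), (2, 26, false), (3, 26, false), (4, 24, false), (5, 21, false), (6, 15, false), (1, 25, false), (2, 25, false), (3, 23, false), (4, 20, false), (5, 16, false), (0, 25, false), (1, 25, false), (2, 23, false), (3, 20, false), (4, 16, false), (0, 6, false), (2, 26, false), (3, 26, false), (4, 24, false), (5, 21, false), (6, 17, false), (1, 26, false), (2, 26, false), (3, 24, false), (4, 21, false), (5, 17, false), (6, 15, false), (1, 5, false), (3, 25, false), (4, 25, false), (5, 23, false), (6, 20, false), (7, 16, false), (8, 16, false), (0, 27, false), (1, 27, false), (2, 26, false), (3, 26, false), (4, 24, false), (5, 21, false), (6, 17, false), (7, 17, false), (8, 7, false), (4, 3, false), (6, 13, false), (1, 25, false), (2, 25, false), (3, 23, false), (4, 14, false), (0, 25, false), (1, 25, false), (2, 14, false), (3, 13, false), (2, 3, false), (0, 5, false), (2, 25, false), (3, 25, false), (4, 23, false), (5, 23, false), (6, 14, false), (1, 25, false),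 (2, 25, false), (3, 23, false), (4, 23, false), (5, 16, false), (6, 14, false), (0, 25, false), (1, 25, false), (2, 23, false), (3, 14, false), (0, 5, false), (2, 25, false), (3, 25, false), (4, 23, false), (5, 16, false), (6, 14, false), (3, 22, false), (1, 25, false), (2, 23, false), (0, 25, false), (1, 23, false), (0, 6, false), (2, 26, false), (3, 24, false), (1, 26, false), (2, 24, false), (3, 15, false), (1, 5, false), (3, 25, false), (4, 23, false), (5, 16, false), (2, 25, false), (3, 23, false), (4, 16, false), (0, 27, false), (1, 26, false), (2, 24, false), (3, 17, false), (0, 6, false), (2, 27, false), (3, 26, false), (4, 24, false), (5, 17, false), (6, 15, false), (2, 25, false), (3, 23, false), (4, 16, false), (5, 16, false), (6, 8, false), (2, 5, false), (4, 25, false), (5, 14, false), (3, 25, false), (4, 16, false), (5, 14, false), (2, 25, false), (3, 16, false), (4, 16, false), (1, 26, false), (2, 17, false), (3, 17, false), (0, 26, false), (1, 17, false), (2, 17, false), (3, 9, false), (1, 3, false), (0, 5, false), (2, 25, false), (3, 23, false), (4, 23, false), (5, 14, false),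 (1, 25, false), (2, 23, false), (3, 23, false), (4, 16, false), (5, 14, false), (0, 25, false), (1, 23, false), (2, 23, false), (3, 16, false), (4, 16, false), (0, 6, false), (2, 26, false), (3, 24, false), (4, 24, false), (5, 17, false), (6, 17, false), (1, 26, false), (2, 24, false), (3, 24, false), (4, 17, false), (5, 17, false), (6, 9, false), (1, 22, false), (2, 22, false), (1, 5, false), (3, 23, false), (4, 23, false), (2, 23, false), (3, 23, false), (0, 27, false), (1, 24, false), (2, 24, false), (0, 6, false), (2, 27, false), (3, 24, false), (4, 24, false), (5, 15, false), (2, 23, false), (3, 23, false), (4, 16, false), (2, 5, false), (4, 23, false), (5, 23, false), (6, 16, false), (1, 27, false), (2, 27, false), (3, 24, false), (4, 24, false), (5, 17, false), (0, 27, false), (1, 27, false), (2, 24, false), (3, 24, false), (4, 17, false), (5, 15, false), (0, 6, false), (2, 27, false), (3, 27, false), (4, 24, false), (5, 24, false), (6, 17, false), (7, 17, false), (8, 10, false), (4, 4, false), (6, 22, false), (7, 22, false), (3, 25, false), (4, 25, false), (5, 23, false), (6, 23, false),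 (2, 25, false), (3, 25, false), (4, 23, false), (5, 23, false), (1, 26, false), (2, 26, false), (3, 24, false), (4, 24, false), (0, 26, false), (1, 26, false), (2, 24, false), (3, 24, false), (4, 15, false), (0, 5, false), (2, 25, false), (3, 25, false), (4, 23, false), (5, 23, false), (6, 16, false), (1, 25, false), (2, 25, false), (3, 23, false), (4, 23, false), (5, 16, false), (0, 6, false), (2, 27, false), (3, 26, false), (4, 26, false), (5, 24, false), (6, 24, false), (7, 17, false), (1, 27, false), (2, 26, false), (3, 26, false), (4, 24, false), (5, 24, false), (6, 17, false), (7, 15, false), (0, 27, false), (1, 26, false), (2, 26, false), (3, 24, false), (4, 24, false), (5, 17, false), (6, 17, false), (7, 10, false), (0, 6, false), (2, 27, false), (3, 26, false), (4, 26, false), (5, 24, false), (6, 24, false), (7, 17, false), (8, 17, false), (9, 12, false), (2, 25, false), (3, 25, false), (2, 5, false), (4, 25, false), (5, 25, false), (3, 25, false), (2, 25, false), (1, 26, false), (1, 5, false), (0, 27, false), (0, 5, false), (0, 6, false), (2, 27, false), (3, 27, false)]),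
    ([0, 3], [6, 6, 3, 0], [(6, 12, true), (5, 17, true), (4, 17, true), (3, 21, true), (2, 24, true), (1, 24, true), (7, 12, true), (6, 17, true), (5, 17, true), (4, 21, true), (3, 24, true), (2, 24, true), (0, 6, true), (5, 9, true), (4, 17, true), (3, 17, true), (2, 21, true), (1, 24, true), (0, 24, true), (5, 17, true), (4, 17, true), (3, 21, true), (2, 24, true), (1, 24, true), (6, 16, true), (5, 16, true), (4, 20, true), (3, 23, true), (2, 23, true), (7, 14, true), (6, 16, true), (5, 20, true), (4, 23, true), (3, 23, true), (7, 14, true), (6, 20, true), (5, 23, true), (4, 23, true), (2, 5, true), (4, 18, true), (3, 24, true), (2, 24, true), (0, 6, true), (1, 24, true), (0, 24, true), (1, 3, true), (1, 3, false), (0, 24, false), (0, 6, false), (0, 6, false)], [(8, 11, true), (7, 16, true), (6, 16, true), (5, 20, true), (4, 23, true), (3, 23, true), (2, 25, true), (1, 25, true), (9, 9, true), (8, 17, true), (7, 17, true), (6, 21, true), (5, 24, true), (4, 24, true), (3, 26, true), (2, 26, true), (1, 27, true), (9, 17, true), (8, 17, true), (7, 21, true), (6, 24, true), (5, 24, true), (4,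 26, true), (3, 26, true), (2, 27, true), (0, 6, true), (7, 16, true), (6, 16, true), (5, 20, true), (4, 23, true), (3, 23, true), (2, 25, true), (1, 25, true), (8, 14, true), (7, 16, true), (6, 20, true), (5, 23, true), (4, 23, true), (3, 25, true), (2, 25, true), (0, 5, true), (5, 14, true), (4, 20, true), (3, 23, true), (2, 23, true), (1, 25, true), (0, 25, true), (5, 18, true), (4, 24, true), (3, 24, true), (2, 26, true), (1, 26, true), (0, 27, true), (5, 24, true), (4, 24, true), (3, 26, true), (2, 26, true), (1, 27, true), (5, 3, true), (8, 9, true), (7, 17, true), (6, 17, true), (5, 21, true), (4, 26, true), (3, 26, true), (2, 27, true), (0, 6, true), (5, 17, true), (4, 17, true), (3, 21, true), (2, 26, true), (1, 26, true), (0, 27, true), (6, 16, true), (5, 16, true), (4, 20, true), (3, 25, true), (2, 25, true), (7, 14, true), (6, 16, true), (5, 20, true), (4, 25, true), (3, 25, true), (1, 5, true), (4, 14, true), (3, 20, true), (2, 25, true), (1, 25, true), (4, 18, true), (3, 26, true), (2, 26, true), (1, 27, true), (4, 26, true), (3, 26, true), (2, 27, true), (0, 6, true), (3, 3, false),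 (2, 22, false), (3, 22, false), (1, 22, false), (2, 22, false), (0, 6, false), (2, 27, false), (3, 24, false), (4, 24, false)]),
    ([0, 4], [5, 4, 0], [(6, 11, true), (5, 16, true), (4, 16, true), (3, 20, true), (2, 23, true), (1, 23, true), (7, 11, true), (6, 16, true), (5, 16, true), (4, 20, true), (3, 23, true), (2, 23, true), (8, 10, true), (7, 17, true), (6, 17, true), (5, 21, true), (4, 24, true), (3, 24, true), (2, 27, true), (1, 27, true), (8, 15, true), (7, 17, true), (6, 21, true), (5, 24, true), (4, 24, true), (3, 27, true), (2, 27, true), (0, 6, true), (5, 17, true), (4, 21, true), (3, 24, true), (2, 24, true), (1, 27, true), (0, 27, true), (6, 16, true), (5, 20, true), (4, 23, true), (3, 23, true), (1, 5, true), (4, 16, true), (3, 20, true), (2, 23, true), (1, 23, true), (5, 15, true), (4, 21, true), (3, 24, true), (2, 24, true), (1, 27, true), (5, 21, true), (4, 24, true), (3, 24, true), (2, 27, true), (0, 6, true), (3, 20, true), (2, 23, true), (1, 23, true), (4, 20, true), (3, 23, true), (2, 23, true), (0, 5, true), (2, 19, true), (1, 24, true), (0, 24, true), (2, 24, true),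 (1, 24, true), (3, 23, true), (2, 23, true), (4, 22, true), (3, 22, true), (1, 27, false), (2, 26, false), (1, 5, false)], [(8, 12, true), (7, 17, true), (6, 17, true), (5, 21, true), (4, 24, true), (3, 24, true), (2, 26, true), (1, 26, true), (9, 11, true), (8, 16, true), (7, 16, true), (6, 20, true), (5, 23, true), (4, 23, true), (3, 25, true), (2, 25, true), (10, 11, true), (9, 16, true), (8, 16, true), (7, 20, true), (6, 23, true), (5, 23, true), (4, 25, true), (3, 25, true), (11, 10, true), (10, 17, true), (9, 17, true), (8, 21, true), (7, 24, true), (6, 24, true), (5, 26, true), (4, 26, true), (3, 27, true), (2, 27, true), (0, 6, true), (8, 15, true), (7, 17, true), (6, 21, true), (5, 24, true), (4, 24, true), (3, 26, true), (2, 26, true), (1, 27, true), (0, 27, true), (8, 17, true), (7, 21, true), (6, 24, true), (5, 24, true), (4, 26, true), (3, 26, true), (2, 27, true), (1, 27, true), (9, 16, true), (8, 20, true), (7, 23, true), (6, 23, true), (5, 25, true), (4, 25, true), (2, 5, true), (7, 16, true), (6, 20, true), (5, 23, true), (4, 23, true), (3, 25, true), (2, 25, true), (8, 15,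 true), (7, 21, true), (6, 24, true), (5, 24, true), (4, 26, true), (3, 26, true), (2, 27, true), (0, 6, true), (5, 21, true), (4, 24, true), (3, 24, true), (2, 26, true), (1, 26, true), (0, 27, true), (6, 20, true), (5, 23, true), (4, 23, true), (3, 25, true), (2, 25, true), (7, 20, true), (6, 23, true), (5, 23, true), (4, 25, true), (3, 25, true), (1, 5, true), (5, 19, true), (4, 24, true), (3, 24, true), (2, 26, true), (1, 26, true), (5, 24, true), (4, 24, true), (3, 26, true), (2, 26, true), (0, 6, true), (3, 23, true), (2, 23, true), (1, 25, true), (0, 25, true), (4, 22, true), (3, 22, true), (1, 4, true), (1, 4, false), (0, 6, false), (2, 27, false), (3, 26, false), (2, 5, false), (1, 27, false), (2, 27, false)]),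
    ([1, 2], [6, 6, 4, 2, 1], [(4, 10, true), (3, 24, true), (2, 26, true), (1, 26, true), (0, 27, true), (4, 22, true), (2, 4, true), (3, 10, true), (2, 24, true), (1, 27, true), (3, 22, true), (5, 9, true), (4, 24, true), (3, 26, true), (2, 27, true), (0, 6, true), (2, 24, true), (1, 26, true), (0, 27, true), (3, 23, true), (2, 25, true), (6, 7, true), (5, 24, true), (4, 24, true), (3, 26, true), (2, 27, true), (1, 27, true), (6, 23, true), (5, 23, true), (4, 25, true), (2, 5, true), (4, 22, true), (3, 22, true), (5, 22, true), (4, 22, true), (2, 4, true), (5, 7, true), (4, 17, true), (3, 24, true), (2, 24, true), (0, 6, true), (2, 16, true), (1, 23, true), (0, 23, true), (3, 15, true), (2, 24, true), (1, 24, true), (0, 27, true), (3, 24, true), (2, 24, true), (1, 27, true), (4, 23, true), (3, 23, true), (5, 23, true), (4, 23, true), (2, 5, true), (3, 22, true), (2, 22, true), (5, 15, true), (4, 24, true), (3, 24, true), (2, 26, true), (0, 6, true), (2, 24, true), (1, 24, true), (0, 26, true), (3, 23, true), (2, 23, true), (1, 25, true), (4, 23, true), (3, 23, true), (2, 25, true), (5, 22,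 true), (4, 22, true), (2, 25, false), (3, 25, false), (4, 23, false), (5, 14, false), (1, 25, false), (2, 25, false), (3, 23, false), (4, 16, false), (5, 14, false), (1, 5, false), (3, 25, false), (4, 25, false), (5, 23, false), (6, 16, false), (7, 16, false), (0, 27, false), (1, 27, false), (2, 26, false), (3, 26, false), (4, 24, false), (5, 17, false), (6, 17, false), (0, 6, false), (2, 27, false), (3, 27, false), (4, 26, false), (5, 26, false), (6, 24, false), (7, 17, false), (8, 17, false), (9, 9, false), (5, 22, false), (3, 25, false), (4, 23, false), (2, 25, false), (3, 23, false), (1, 26, false), (2, 24, false), (0, 26, false), (1, 24, false), (2, 15, false), (0, 5, false), (2, 25, false), (3, 23, false), (4, 16, false), (1, 25, false), (2, 23, false), (3, 16, false), (0, 6, false), (2, 27, false), (3, 26, false), (4, 24, false), (5, 17, false), (1, 27, false), (2, 26, false), (3, 24, false), (4, 17, false), (5, 15, false), (0, 27, false), (1, 26, false), (2, 24, false), (3, 17, false), (4, 17, false), (5, 10, false), (1, 22, false), (0, 23, false), (0, 5, false), (2, 23, false), (0,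 6, false), (2, 27, false), (3, 27, false), (4, 24, false), (1, 27, false), (2, 27, false), (3, 24, false), (4, 15, false), (2, 23, false), (3, 16, false), (1, 23, false), (2, 16, false), (0, 24, false), (1, 17, false), (0, 6, false), (2, 24, false), (3, 17, false), (4, 15, false), (1, 24, false), (2, 17, false), (3, 17, false), (4, 10, false), (1, 5, false), (3, 23, false), (4, 16, false), (5, 16, false), (6, 11, false), (3, 4, false), (0, 6, false)], [(5, 11, true), (4, 16, true), (3, 20, true), (2, 23, true), (1, 25, true), (6, 11, true), (5, 16, true), (4, 20, true), (3, 23, true), (2, 25, true), (0, 5, true), (4, 9, true), (3, 17, true), (2, 21, true), (1, 24, true), (0, 26, true), (4, 17, true), (3, 21, true), (2, 24, true), (1, 26, true), (5, 16, true), (4, 20, true), (3, 23, true), (2, 25, true), (6, 14, true), (5, 20, true), (4, 23, true), (3, 25, true), (6, 18, true), (5, 24, true), (4, 26, true), (3, 27, true), (2, 27, true), (0, 6, true), (3, 24, true), (2, 26, true), (1, 27, true), (0, 27, true), (8, 9, true), (7, 17, true), (6, 21, true), (5, 24, true), (4, 24, true), (3, 26, true),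 (2, 27, true), (1, 27, true), (8, 17, true), (7, 21, true), (6, 24, true), (5, 24, true), (4, 26, true), (3, 27, true), (2, 27, true), (0, 6, true), (6, 16, true), (5, 20, true), (4, 23, true), (3, 23, true), (2, 25, true), (0, 5, true), (4, 14, true), (3, 20, true), (2, 23, true), (1, 23, true), (0, 25, true), (4, 18, true), (3, 24, true), (2, 24, true), (1, 26, true), (0, 27, true), (4, 24, true), (3, 24, true), (2, 26, true), (1, 27, true), (4, 3, true), (6, 7, true), (5, 17, true), (4, 21, true), (3, 26, true), (2, 27, true), (0, 6, true), (3, 16, true), (2, 20, true), (1, 25, true), (4, 15, true), (3, 21, true), (2, 26, true), (1, 27, true), (0, 27, true), (4, 21, true), (3, 26, true), (2, 27, true), (1, 27, true), (5, 20, true), (4, 25, true), (2, 5, true), (3, 20, true), (2, 25, true), (4, 19, true), (3, 26, true), (2, 27, true), (0, 6, true), (1, 26, true), (0, 27, true), (2, 25, true), (6, 15, true), (5, 21, true), (4, 26, true), (3, 26, true), (2, 27, true), (1, 27, true), (6, 21, true), (5, 26, true), (4, 26, true), (3, 27, true), (2, 27, true), (0, 6, true), (4, 20, true), (3, 25,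 true), (2, 25, true), (0, 5, true), (2, 20, true), (1, 25, true), (0, 25, true), (3, 19, true), (2, 26, true), (1, 26, true), (0, 27, true), (3, 26, true), (2, 26, true), (1, 27, true), (4, 25, true), (3, 25, true), (4, 4, true), (7, 7, true), (6, 17, true), (5, 17, true), (4, 21, true), (3, 27, true), (2, 27, true), (0, 6, true), (4, 16, true), (3, 16, true), (2, 20, true), (0, 5, true), (2, 15, true), (1, 17, true), (0, 21, true), (2, 17, true), (1, 21, true), (3, 16, true), (2, 20, true), (4, 16, true), (3, 20, true), (5, 15, true), (4, 21, true), (3, 27, true), (2, 27, true), (0, 6, true), (2, 21, true), (1, 27, true), (0, 27, true), (3, 20, true), (1, 5, true), (1, 20, true), (2, 19, true), (1, 27, true), (2, 27, true), (0, 6, true), (5, 15, true), (4, 17, true), (3, 21, true), (2, 26, true), (1, 27, true), (0, 27, true), (5, 17, true), (4, 21, true), (3, 26, true), (2, 27, true), (1, 27, true), (6, 16, true), (5, 20, true), (4, 25, true), (2, 5, true), (4, 16, true), (3, 20, true), (2, 25, true), (5, 15, true), (4, 21, true), (3, 26, true), (2, 27, true), (0, 6, true), (2, 21, true), (1,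 26, true), (0, 27, true), (3, 20, true), (2, 25, true), (4, 20, true), (3, 25, true), (1, 5, true), (2, 19, true), (1, 26, true), (2, 26, true), (0, 6, true), (0, 25, true), (4, 1, true), (3, 21, true), (2, 26, true), (1, 26, true), (0, 27, true), (4, 21, true), (3, 26, true), (2, 26, true), (1, 27, true), (1, 27, false), (2, 26, false), (3, 26, false), (4, 21, false), (0, 27, false), (1, 26, false), (2, 26, false), (3, 21, false), (4, 1, false), (0, 25, false), (0, 6, false), (2, 26, false), (1, 26, false), (2, 19, false), (1, 5, false), (3, 25, false), (4, 20, false), (2, 25, false), (3, 20, false), (0, 27, false), (1, 26, false), (2, 21, false), (0, 6, false), (2, 27, false), (3, 26, false), (4, 21, false), (5, 15, false), (2, 25, false), (3, 20, false), (4, 16, false), (2, 5, false), (4, 25, false), (5, 20, false), (6, 16, false), (1, 27, false), (2, 27, false), (3, 26, false), (4, 21, false), (5, 17, false), (0, 27, false), (1, 27, false), (2, 26, false), (3, 21, false), (4, 17, false), (5, 15, false), (0, 6, false), (2, 27, false), (1, 27, false), (2, 19, false), (1, 20, false), (1, 5,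 false), (3, 20, false), (0, 27, false), (1, 27, false), (2, 21, false), (0, 6, false), (2, 27, false), (3, 27, false), (4, 21, false), (5, 15, false), (3, 20, false), (4, 16, false), (2, 20, false), (3, 16, false), (1, 21, false), (2, 17, false), (0, 21, false), (1, 17, false), (2, 15, false), (0, 5, false), (2, 20, false), (3, 16, false), (4, 16, false), (0, 6, false), (2, 27, false), (3, 27, false), (4, 21, false), (5, 17, false), (6, 17, false), (7, 7, false), (4, 3, false), (5, 13, false), (3, 14, false), (3, 3, false), (2, 23, false), (3, 23, false), (4, 14, false), (5, 13, false), (2, 5, false), (4, 23, false), (5, 14, false), (3, 23, false), (4, 16, false), (5, 14, false), (2, 14, false), (2, 5, false), (4, 16, false), (5, 14, false), (4, 4, false), (3, 25, false), (4, 25, false), (2, 25, false), (3, 25, false), (1, 26, false), (2, 26, false), (0, 26, false), (1, 26, false), (2, 15, false), (0, 5, false), (2, 25, false), (3, 25, false), (4, 16, false), (1, 25, false), (2, 25, false), (3, 16, false), (0, 6, false), (2, 27, false), (3, 26, false), (4, 26, false), (5, 17, false), (1, 27,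 false), (2, 26, false), (3, 26, false), (4, 17, false), (5, 15, false), (1, 25, false), (2, 25, false), (3, 16, false), (4, 16, false), (5, 8, false), (3, 3, false), (1, 5, false), (3, 25, false), (4, 25, false), (5, 23, false), (6, 23, false), (7, 14, false), (2, 25, false), (3, 25, false), (4, 23, false), (5, 23, false), (6, 16, false), (7, 14, false), (1, 25, false), (2, 25, false), (3, 23, false), (4, 23, false), (5, 16, false), (6, 16, false), (0, 26, false), (1, 26, false), (2, 24, false), (3, 24, false), (4, 17, false), (5, 17, false), (0, 6, false), (2, 26, false), (3, 26, false), (4, 24, false), (5, 24, false), (6, 17, false), (7, 17, false), (8, 9, false), (3, 22, false), (4, 22, false), (2, 5, false), (4, 25, false), (5, 23, false), (6, 23, false), (3, 25, false), (4, 23, false), (5, 23, false), (1, 27, false), (2, 26, false), (3, 24, false), (4, 24, false), (0, 27, false), (1, 26, false), (2, 24, false), (3, 24, false), (4, 15, false), (0, 25, false), (1, 23, false), (2, 23, false), (3, 16, false), (0, 5, false), (2, 25, false), (3, 23, false), (4, 23, false), (5, 16, false), (0,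 6, false), (2, 27, false), (3, 27, false), (4, 26, false), (5, 24, false), (6, 24, false), (7, 17, false), (1, 27, false), (2, 27, false), (3, 26, false), (4, 24, false), (5, 24, false), (6, 17, false), (7, 15, false), (0, 27, false), (1, 27, false), (2, 26, false), (3, 24, false), (4, 24, false), (5, 17, false), (6, 17, false), (7, 10, false), (1, 25, false), (2, 23, false), (3, 23, false), (4, 16, false), (5, 16, false), (6, 11, false), (0, 25, false), (0, 5, false), (2, 25, false), (0, 6, false)])]

/-- The certificate. -/
def threeSuzCert : Schur.Tails.Cert where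
  p := 3
  q := 9
  n := 7
  rels := [
    ([0, 0, 0], [6, 6, 5]),
    ([1, 1, 1], [6, 6]),
    ([2, 2, 2], [6, 6, 5]),
    ([3, 3, 3], []),
    ([4, 4, 4], []),
    ([5, 5, 5], []),
    ([6, 6, 6], []),
    ([0, 1], [6, 5, 4, 4, 1, 0]),
    ([0, 2], [5, 4, 3, 3, 2, 0]),
    ([0, 3], [6, 6, 5, 3, 0]),
    ([0, 4], [6, 4, 0]),
    ([0, 5], [5, 0]),
    ([0, 6], [6, 0]),
    ([1, 2], [3, 3, 2, 1]),
    ([1, 3], [5, 3, 1]),
    ([1, 4], [6, 6, 5, 5, 4, 1]),
    ([1, 5], [5, 1]),
    ([1, 6], [6, 1]),
    ([2, 3], [6, 6, 3, 2]),
    ([2, 4], [6, 6, 5, 4, 2]),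
    ([2, 5], [5, 2]),
    ([2, 6], [6, 2]),
    ([3, 4], [4, 3]),
    ([3, 5], [5, 3]),
    ([3, 6], [6, 3]),
    ([4, 5], [5, 4]),
    ([4, 6], [6, 4]),
    ([5, 6], [6, 5])]
  overlaps := threeSuzOverlaps
  fus := [threeSuzFus0, threeSuzFus1, threeSuzFus2, threeSuzFus3]
  mu := [[4, 1, 0, 0, 0, 0, 0, 7, 5, 0, 0, 0, 0, 0, 0, 0, 0, 0, 0, 0, 0, 0, 0, 0, 0, 0, 0, 0, 7, 0, 5], [7, 1, 0, 0, 0, 0, 0, 1, 0, 0, 0, 0, 0, 0, 0, 0, 0, 0, 0, 0, 0, 0, 0, 0, 0, 0, 0, 0, 8, 0, 1, 0, 1], [3, 0, 0, 0, 0, 0, 0, 0, 0, 0, 0, 0, 0, 0, 0, 0, 0, 0, 0, 0, 0, 0, 0, 0, 0, 0, 0, 0, 6, 0, 4, 0, 2], [8, 3, 0, 0, 0, 0, 0, 8, 8, 0, 0, 0, 0, 0, 0, 0, 0, 0, 0, 0, 0, 0, 0, 0, 0, 0, 0, 0, 6, 0, 3], [1, 4, 0, 0, 0, 0, 0, 2, 6, 0, 0, 0, 0, 0, 0, 0, 0, 0, 0, 0, 0, 0, 0, 0, 0, 0, 0, 0, 0, 0, 0, 0, 3], [1, 8, 0, 0, 0, 0, 0, 0, 6, 0, 0, 0, 0, 0, 0, 0, 0, 0, 0, 0, 0, 0, 0, 0, 0, 0, 0, 0, 6, 0, 3, 0, 6], [6, 2, 0, 0, 0, 0, 0, 6, 0, 0, 0, 0, 0, 0, 0, 0, 0, 0, 0, 0, 0, 0, 0, 0, 0, 0, 0, 0, 3, 0, 6, 0, 6]]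
  combos := [
    ([], 0),
    ([], 0),
    ([(0, 5), (1, 1), (2, 3), (3, 5), (5, 7), (6, 7), (7, 8), (8, 7), (9, 4), (12, 1), (13, 1), (14, 6), (15, 8), (16, 4), (17, 5), (18, 6), (19, 8), (20, 6), (21, 4), (22, 6), (23, 7), (24, 6), (25, 7), (27, 3), (29, 1), (30, 2), (32, 5), (33, 1), (35, 8), (36, 3), (37, 4), (38, 6), (39, 4), (40, 6), (41, 8), (42, 1), (43, 2)], 8),
    ([(0, 6), (1, 1), (2, 5), (3, 5), (4, 8), (5, 4), (6, 6), (7, 8), (8, 1), (9, 4), (10, 3), (11, 6), (12, 8), (13, 2), (14, 7), (15, 7), (18, 3), (19, 8), (21, 3), (22, 3), (25, 6), (26, 3), (28, 6), (31, 6), (32, 6), (34, 3), (35, 6), (38, 6), (39, 6), (41, 3), (42, 6), (43, 3)], 3),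
    ([(0, 3), (1, 3), (2, 7), (3, 2), (4, 4), (5, 1), (6, 3), (7, 3), (8, 8), (9, 7), (10, 1), (11, 8), (12, 4), (13, 5), (14, 1), (15, 3), (16, 6), (18, 2), (19, 5), (22, 3), (23, 3), (25, 3), (26, 3), (28, 6), (30, 3), (31, 6), (33, 3), (34, 3), (38, 3), (39, 3), (41, 6), (42, 3), (43, 6)], 6),
    ([(2, 2), (3, 5), (5, 6), (6, 6), (7, 6), (9, 6), (10, 3), (11, 6), (12, 8), (13, 7), (14, 4), (16, 3), (18, 2), (19, 5), (20, 6), (21, 3), (22, 6), (23, 3), (25, 6), (26, 6), (28, 6), (30, 6), (31, 6), (32, 3), (33, 6), (34, 3), (35, 3)], 0),
    ([(0, 3), (2, 6), (3, 3), (4, 4), (5, 3), (6, 6), (7, 3), (8, 7), (9, 4), (10, 6), (11, 3), (14, 3), (15, 3), (16, 3), (18, 5), (19, 3), (20, 3), (21, 6), (22, 6), (25, 6), (26, 6), (30, 6), (32, 6), (33, 6), (35, 6), (38, 3), (39, 3), (41, 6), (42, 3), (43, 6)], 6),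
    ([], 0),
    ([], 0),
    ([(0, 3), (1, 7), (3, 8), (4, 8), (5, 4), (6, 3), (8, 3), (9, 7), (10, 8), (11, 1), (12, 1), (13, 4), (15, 2), (16, 6), (17, 1), (18, 5), (19, 1), (20, 3), (21, 7), (22, 3), (23, 8), (25, 6), (26, 6), (28, 3), (29, 8), (30, 3), (32, 4), (33, 4), (35, 3), (37, 8), (38, 7), (39, 3), (40, 6), (41, 3), (43, 6)], 3),
    ([(0, 5), (1, 8), (2, 8), (3, 5), (4, 8), (5, 7), (6, 5), (7, 6), (8, 3), (9, 6), (10, 2), (11, 7), (12, 7), (13, 6), (14, 3), (15, 4), (16, 8), (17, 5), (18, 4), (19, 2), (21, 1), (22, 6), (23, 2), (24, 3), (25, 2), (26, 6), (27, 6), (29, 7), (30, 7), (32, 3), (35, 1), (36, 3), (37, 4), (38, 4), (39, 2), (40, 3), (41, 1), (42, 2), (43, 4)], 1),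
    ([(2, 8), (3, 7), (4, 5), (8, 8), (9, 2), (12, 1), (19, 4)], 0),
    ([(2, 5), (3, 1), (4, 2), (8, 5), (9, 8), (12, 8), (19, 7)], 0),
    ([(0, 5), (1, 6), (3, 2), (5, 1), (6, 5), (7, 2), (8, 7), (10, 5), (11, 4), (12, 8), (13, 2), (14, 8), (15, 5), (16, 3), (17, 1), (18, 7), (19, 5), (20, 5), (21, 1), (22, 6), (23, 2), (24, 6), (25, 6), (27, 3), (28, 1), (29, 5), (31, 4), (32, 3), (33, 7), (34, 5), (35, 7), (37, 8), (38, 5), (39, 4), (40, 5), (41, 5), (43, 1)], 2),
    ([(0, 1), (1, 3), (2, 2), (3, 6), (4, 4), (5, 8), (6, 2), (7, 6), (8, 1), (9, 2), (10, 2), (11, 7), (13, 5), (14, 3), (15, 4), (16, 5), (17, 5), (19, 5), (20, 3), (21, 5), (22, 6), (23, 7), (24, 3), (25, 8), (26, 6), (27, 6), (28, 6), (29, 7), (30, 1), (31, 6), (32, 2), (33, 3), (34, 3), (35, 1), (36, 3), (37, 4), (38, 7), (39, 5), (40, 3), (41, 7), (42, 5), (43, 1)], 7),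
    ([(0, 7), (1, 5), (3, 2), (4, 4), (5, 7), (6, 5), (7, 1), (9, 3), (10, 6), (11, 3), (12, 6), (13, 3), (14, 1), (15, 3), (16, 2), (17, 5), (18, 7), (19, 4), (20, 7), (22, 6), (24, 6), (25, 2), (26, 6), (27, 3), (28, 8), (29, 1), (30, 7), (31, 2), (32, 2), (33, 6), (34, 7), (36, 3), (37, 4), (38, 3), (39, 1), (40, 6), (41, 2), (42, 7), (43, 5)], 2),
    ([(1, 3), (2, 4), (3, 4), (4, 4), (5, 7), (7, 3), (8, 7), (9, 6), (10, 7), (11, 2), (12, 7), (19, 5)], 0),
    ([(19, 4)], 0),
    ([(0, 8), (1, 1), (2, 3), (3, 2), (4, 3), (5, 2), (6, 3), (7, 8), (8, 4), (10, 2), (11, 7), (12, 5), (14, 8), (16, 1), (18, 7), (19, 1), (20, 3), (21, 2), (22, 3), (23, 1), (24, 6), (25, 7), (27, 3), (28, 6), (29, 6), (30, 8), (31, 6), (32, 3), (33, 2), (34, 3), (35, 2), (38, 1), (39, 1), (41, 8), (42, 7), (43, 2)], 8),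
    ([(0, 7), (1, 4), (2, 3), (3, 3), (4, 6), (5, 8), (6, 2), (7, 4), (8, 7), (9, 6), (10, 7), (11, 2), (12, 3), (13, 4), (14, 2), (15, 5), (16, 3), (17, 5), (18, 4), (19, 6), (20, 8), (21, 1), (22, 3), (23, 2), (24, 6), (25, 3), (27, 3), (28, 1), (29, 1), (31, 7), (32, 5), (33, 8), (34, 2), (35, 1), (36, 3), (37, 4), (38, 6), (39, 4), (41, 8), (42, 4), (43, 5)], 8),
    ([(1, 5), (4, 6), (5, 5), (6, 7), (7, 1), (8, 6), (9, 8), (10, 4), (11, 5), (12, 6), (19, 5)], 0),
    ([(1, 7), (2, 4), (3, 2), (4, 4), (5, 2), (6, 1), (7, 1), (9, 2), (10, 2), (11, 7), (12, 2)], 0),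
    ([(1, 1), (2, 7), (4, 1), (5, 8), (7, 8), (9, 5), (10, 8), (11, 1), (12, 3)], 0),
    ([(3, 1), (4, 2), (7, 5), (8, 1), (9, 7)], 0),
    ([(3, 8), (4, 4), (8, 6), (9, 7)], 0),
    ([(3, 7), (4, 5), (8, 7), (9, 4)], 0),
    ([(3, 7), (8, 2), (9, 5)], 0),
    ([(3, 4), (4, 1), (8, 5), (9, 8)], 0)]
  tau := [0, 0, 0, 0, 0, 0, 0, 0, 0, 0, 0, 0, 0, 0, 0, 0, 0, 0, 0, 0, 0, 0, 0, 0, 0, 0, 0, 0, 0, 0, 0, 0, 0, 0, 0, 4, 2, 0, 0, 0, 0, 1, 0, 0, 3]
  tauCombo := [(0, 6), (1, 8), (2, 2), (3, 5), (4, 3), (5, 2), (6, 6), (7, 1), (8, 7), (9, 7), (10, 6), (11, 3), (12, 5), (14, 1), (15, 2), (16, 6), (18, 2), (19, 5), (20, 6), (28, 3), (31, 3), (32, 3), (33, 3), (34, 6), (35, 3), (37, 5)]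

/-- The words of the generators. -/
def threeSuzGens : List (List ℕ) := [
  [1, 3, 4, 3, 2, 3, 2, 4, 5, 1, 0, 2, 3, 2, 1, 5, 2, 3, 4, 3, 2, 3, 0, 1, 2, 3, 2, 3, 4, 5, 1, 0, 1, 2, 3, 1, 2, 1, 0, 1, 5, 4, 3, 2, 4, 5, 1, 2, 3, 2, 1, 0, 5, 4, 1, 2, 3, 2, 1, 0, 1, 0, 1, 2, 1, 3, 2, 1, 0, 4, 3, 2, 3, 5, 1, 0, 1, 6, 1, 0, 2, 3, 2, 1, 4, 3, 2, 5, 6, 1, 2, 5],
  [1, 3, 4, 3, 2, 3, 2, 4, 5, 1, 0, 2, 3, 2, 1, 5, 2, 3, 4, 3, 2, 3, 0, 1, 2, 3, 2, 3, 4, 5, 1, 0, 1, 2, 3, 1, 2, 1, 0, 1, 5, 4, 3, 0, 2, 1, 4, 3, 2, 1, 0, 1, 2, 3, 4, 2, 3, 1, 2, 1, 0, 1, 0, 1, 0, 3, 2, 1, 0, 1, 3, 2, 1, 0, 5, 6, 1, 2, 3, 2, 4, 3, 2, 1, 0, 1, 5, 1, 2],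
  [1, 3, 4, 3, 2, 3, 2, 4, 5, 1, 0, 2, 3, 2, 1, 5, 2, 3, 4, 3, 2, 3, 0, 1, 0, 1, 0, 1, 3, 2, 3, 4, 5, 1, 2, 3, 2, 1, 0, 1, 2, 3, 4, 2, 3, 1, 2, 3, 4, 1, 2, 3, 1, 0, 2, 1, 0, 1, 0, 2, 3, 2, 1, 4, 5, 1, 0, 1, 2, 3, 2, 1, 5, 4, 2, 3, 2, 0, 3, 4, 3, 2, 1, 3, 6, 1, 0, 2, 1, 3, 2, 1, 4, 3, 2, 3, 4, 5],
  [1, 3, 4, 3, 2, 3, 2, 4, 5, 1, 0, 2, 3, 2, 1, 5, 2, 3, 4, 3, 2, 3, 0, 1, 4, 5, 1, 2, 3, 2, 1, 0, 3, 4, 3, 2, 5, 3, 1, 2, 3, 4, 2, 3, 1, 2, 3, 0, 1, 0, 3, 2, 1, 5, 1, 0, 1, 2, 3, 2, 3, 1, 2, 0, 2, 1, 0, 3, 2, 5, 1, 2, 3, 2, 5, 4, 3, 6, 1, 2, 3, 2, 1, 4, 3, 2, 1, 0, 1, 0, 3, 4],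
  [1, 0, 3, 2, 3, 4, 3, 2, 3, 5, 1, 2, 3, 2, 1, 5, 3, 4, 2, 3, 2, 3, 4, 3, 1, 3, 2, 4, 3, 5, 1, 0, 1, 2, 3, 2, 1, 0, 1, 5, 3, 4, 3, 2, 3, 0, 2, 4, 5, 1, 2, 3, 2, 1, 0, 5, 4, 1, 2, 3, 2, 0, 3, 2, 1, 0, 3, 2, 0, 1, 3, 4, 3, 2, 5, 1, 0, 1, 2, 6, 1, 0, 2, 3, 2, 4, 3, 2, 1, 0, 6],
  [1, 3, 4, 3, 2, 3, 2, 4, 5, 1, 0, 2, 3, 2, 1, 5, 2, 3, 4, 3, 2, 3, 0, 1, 0, 3, 4, 3, 2, 1, 3, 2, 4, 3, 2, 3, 1, 2, 3, 4, 3, 2, 1, 0, 1, 0, 2, 3, 2, 1, 4, 5, 1, 0, 1, 2, 3, 2, 1, 5, 4, 1, 0, 2, 3, 2, 1, 0, 1, 2, 3, 2, 1, 0, 3, 4, 3, 2, 5, 1, 0, 1, 2, 6, 1, 0, 2, 1, 3, 6, 1, 2, 3, 2, 1, 4, 3, 2, 3, 5, 6, 1, 0, 2],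
  [1, 0, 3, 2, 3, 4, 3, 2, 3, 5, 1, 2, 3, 2, 1, 5, 3, 4, 2, 3, 2, 3, 4, 3, 2, 3, 2, 1, 5, 1, 0, 1, 2, 1, 3, 2, 5, 4, 3, 2, 1, 0, 1, 5, 4, 3, 1, 2, 0, 2, 1, 4, 3, 2, 1, 0, 1, 2, 3, 4, 2, 3, 1, 2, 1, 0, 1, 0, 1, 2, 1, 5, 1, 0, 1, 2, 5, 0, 1, 4, 3, 2, 3, 4, 6, 1, 0, 2, 3, 2, 1, 4, 3, 2, 1, 0, 3]]

/-- The words of the conjugating elements. -/
def threeSuzHs : List (List ℕ) := [
  [1, 0, 3, 2, 3, 4, 3, 2, 3, 5, 1, 2, 3, 2, 1, 5, 3, 4, 2, 3, 2, 3, 4, 3, 2, 1, 5, 1, 2, 3, 2, 1, 0, 1, 4, 2, 3, 2, 1, 5, 0, 1, 2, 3, 1, 3, 2, 5, 1, 0, 1, 0, 2, 1, 3, 4, 2, 3, 2, 1, 5, 2, 3, 2, 1, 2, 3, 2, 3, 5, 1, 0, 2, 1, 0, 1, 5, 1, 2, 3, 0, 1, 4, 3, 2, 1, 5, 1, 0, 6, 1, 0, 2, 1, 3, 2, 4, 3, 2, 1, 6, 5, 1, 2],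
  [1, 0, 3, 2, 3, 4, 3, 2, 3, 5, 1, 2, 3, 2, 1, 5, 3, 4, 2, 3, 2, 3, 4, 3, 1, 2, 1, 5, 1, 2, 3, 2, 1, 4, 3, 2, 1, 0, 1, 3, 4, 2, 3, 2, 1, 0, 1, 5, 3, 2, 3, 1, 2, 1, 3, 2, 5, 1, 0, 1, 0, 2, 1, 3, 4, 2, 3, 2, 1, 5, 2, 3, 0, 1, 0, 3, 4, 3, 2, 5, 1, 6, 1, 0, 2, 3, 2, 1, 4, 3, 2, 1, 0, 5],
  [1, 0, 3, 2, 3, 4, 3, 2, 3, 5, 1, 2, 3, 2, 1, 5, 3, 4, 2, 3, 2, 3, 4, 3, 1, 2, 3, 2, 3, 4, 5, 1, 0, 1, 2, 3, 1, 2, 1, 0, 1, 5, 4, 3, 0, 5, 1, 2, 3, 2, 1, 3, 2, 4, 3, 2, 3, 4, 2, 3, 1, 2, 3, 2, 1, 5, 3, 2, 1, 0, 3, 5, 1, 0, 1, 2, 5, 3, 4, 3, 2, 1, 3, 4, 5, 6, 1, 0, 2, 3, 2, 1, 4, 6, 5, 1, 6],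
  [1, 0, 3, 2, 3, 4, 3, 2, 3, 5, 1, 2, 3, 2, 1, 5, 3, 4, 2, 3, 2, 3, 4, 3, 2, 1, 5, 1, 2, 3, 2, 1, 0, 1, 4, 2, 3, 2, 1, 5, 0, 1, 2, 3, 0, 2, 5, 1, 0, 1, 0, 2, 3, 2, 1, 2, 0, 1, 5, 3, 1, 2, 1, 0, 3, 2, 3, 2, 5, 1, 0, 2, 1, 0, 1, 5, 4, 3, 2, 5, 1, 0, 1, 2, 1, 6, 1, 0, 6, 1, 2, 3, 2, 1, 4, 3, 2, 5, 1, 6, 1, 2]]

/-- Orbits giving the order. -/
def threeSuzOrb : List (ℕ × List (List ℕ)) := [
  (21, [[3, 3, 4, 4, 6], [2, 2, 4, 5], [], [2, 2, 3, 5], [2, 4, 4, 6], [2, 2, 4, 6], [1, 4, 4], [4, 4, 5], [1, 1, 4, 4, 5], [3, 3], [3, 4, 5], [3, 3, 4, 5], [0, 3, 4], [0, 2, 2, 4], [2, 3, 4, 4], [0, 0, 2], [4, 6], [3, 4, 4, 5], [2, 5], [3, 5], [2, 4, 4, 5], [2, 3, 3, 4, 4], [4, 5], [0, 3], [0, 6], [1, 1, 4, 6], [2, 2, 3, 4], [3], [0, 0], [0, 2, 2], [1, 3, 3, 4], [3, 3, 4, 4, 5], [3, 4, 4, 6], [0, 3, 3], [5], [3, 3, 4, 4], [3, 6], [3, 3, 6], [1, 6], [2, 3, 4, 4, 5], [1, 1, 4, 4], [2, 4, 4], [1, 1, 4], [1, 4, 6], [2, 2, 4], [4], [4, 4], [1, 4, 5], [0, 4], [2, 4, 5], [0, 3, 5], [2, 4, 6], [0, 2], [2, 2, 3], [0, 1, 3], [0, 5], [1, 3], [1, 4], [3, 4, 4], [2], [3, 3, 4], [4, 4, 6], [0], [2, 3, 3], [2, 3, 4], [1,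 5], [2, 3, 6], [6], [0, 3, 6], [1], [1, 1, 4, 5], [3, 4], [2, 2], [2, 3], [1, 1, 6], [0, 2, 4], [2, 6], [1, 1], [3, 4, 6], [2, 4], [2, 2, 3, 4, 5]]),
  (129, [[], [0, 1, 1, 3, 3, 5], [1, 2, 3, 3, 5]]),
  (30, [[], [0, 0, 2, 2, 4, 4, 6], [0, 2, 3, 6]]),
  (0, [[], [5, 5, 6, 6], [5, 6]])]

end CfsgLib.TailsData
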