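import Cfsg.Agent.Lib.Tails.SuzBase
import Cfsg.Agent.Lib.Tails.ThreeSuzData
import Cfsg.Agent.Lib.Tails.FiveSuzData

/-!
# The relations at odd primes
-/

set_option autoImplicit false
set_option maxRecDepth 100000

namespace CfsgLib.Schur.Tails.SuzM

open CfsgLib.TailsData

theorem three_rels : Words.relsT CfsgLib.Suz.tab base threeSuzGens threeSuzCert threeSuzHs = true := by
  decide +kernel

theorem five_rels : Words.relsT CfsgLib.Suz.tab base fiveSuzGens fiveSuzCert fiveSuzHs = true := by
  decide +kernel

theorem odd_orbs : Words.orbB CfsgLib.Suz.tab threeSuzGens [] threeSuzOrb = true ∧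
    Words.orbB CfsgLib.Suz.tab fiveSuzGens [] fiveSuzOrb = true := by
  refine ⟨?_, ?_⟩ <;> decide +kernel


end CfsgLib.Schur.Tails.SuzM
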