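import Cfsg.Agent.Lib.Tails.Cert

/-!
Generated data: a certificate for the Schur multiplier of Suz.
-/

set_option autoImplicit false
set_option maxRecDepth 20000

namespace CfsgLib.TailsData

open CfsgLib

/-- The overlaps. -/
def twoSuzOverlaps : List (List ℕ × List Schur.Tails.Step × List Schur.Tails.Step) := [
  ([0, 1, 2], [(0, 13, true), (8, 14, true), (7, 33, true), (6, 61, true), (5, 68, true), (4, 79, true), (3, 83, true), (2, 88, true), (1, 11, true), (5, 60, true), (4, 69, true), (3, 80, true), (2, 84, true), (1, 89, true), (0, 12, true), (3, 67, true), (2, 78, true), (1, 82, true), (0, 10, true), (4, 30, true), (3, 62, true), (2, 69, true), (1, 80, true), (0, 84, true), (4, 60, true), (3, 69, true), (2, 80, true), (1, 84, true), (0, 12, true), (2, 67, true), (1, 78, true), (0, 82, true), (4, 57, true), (3, 68, true), (2, 79, true), (1, 83, true), (0, 88, true), (4, 64, true), (3, 7, true), (5, 29, true), (4, 61, true), (3, 68, true), (2, 83, true), (1, 88, true), (0, 11, true), (3, 60, true), (2, 69, true), (1, 84, true), (0, 89, true), (3, 67, true), (2, 82, true), (1, 10, true),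 (3, 56, true), (2, 68, true), (1, 83, true), (3, 63, true), (2, 83, true), (1, 11, true), (5, 28, true), (4, 62, true), (3, 69, true), (2, 75, true), (1, 84, true), (0, 12, true), (3, 61, true), (2, 68, true), (1, 74, true), (0, 83, true), (4, 60, true), (3, 69, true), (2, 75, true), (1, 84, true), (0, 90, true), (4, 67, true), (3, 73, true), (2, 84, true), (1, 90, true), (0, 12, true), (1, 82, true), (5, 59, true), (4, 68, true), (3, 74, true), (2, 83, true), (1, 88, true), (0, 11, true), (3, 66, true), (2, 75, true), (1, 84, true), (0, 89, true), (3, 74, true), (2, 83, true), (1, 88, true), (4, 72, true), (3, 84, true), (2, 89, true), (1, 90, true), (0, 12, true), (2, 83, true), (1, 88, true), (0, 11, true), (1, 81, true), (0, 89, true), (6, 58, true), (5, 65, true), (4, 75, true), (3, 84, true), (2, 87, true), (1, 89, true), (0, 12, true), (3, 74, true), (2, 83, true), (1, 86, true), (0, 88, true), (4, 71, true), (3, 84, true), (2, 87, true), (1, 89, true), (0, 90, true), (4, 83, true), (3, 86, true), (2, 88, true), (1, 11, true), (3, 8, true), (2, 87, true), (1, 89, true), (0, 12, true),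 (4, 55, true), (3, 69, true), (2, 75, true), (1, 87, true), (0, 89, true), (4, 68, true), (3, 74, true), (2, 86, true), (1, 88, true), (5, 5, true), (4, 74, true), (3, 86, true), (2, 88, true), (1, 11, true), (5, 27, true), (4, 61, true), (3, 74, true), (2, 86, true), (1, 88, true), (5, 60, true), (4, 75, true), (3, 87, true), (2, 89, true), (1, 90, true), (0, 12, true), (3, 73, true), (2, 87, true), (1, 89, true), (0, 90, true), (3, 85, true), (2, 10, true), (4, 59, true), (3, 74, true), (2, 86, true), (1, 11, true), (2, 72, true), (1, 87, true), (0, 12, true), (0, 86, true), (1, 9, true), (0, 90, true), (3, 57, true), (2, 74, true), (1, 11, true), (1, 70, true), (4, 4, true), (4, 25, true), (3, 75, true), (2, 80, true), (1, 90, true), (0, 12, true), (2, 74, true), (1, 79, true), (0, 11, true), (1, 71, true), (0, 80, true), (1, 79, true), (2, 76, true), (4, 6, true), (3, 79, true), (2, 83, true), (1, 11, true)], [(1, 25, true), (0, 24, true), (1, 23, true), (2, 20, true), (1, 90, true), (0, 12, true), (0, 11, true), (1, 18, true), (0, 84, true), (1, 8, true), (0, 12, true), (2, 17, true),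 (1, 75, true), (0, 80, true), (2, 73, true), (1, 80, true), (0, 12, true), (0, 78, true), (2, 70, true), (1, 79, true), (0, 88, true), (2, 7, true), (4, 16, true), (3, 67, true), (2, 73, true), (1, 89, true), (0, 90, true), (2, 10, true), (3, 65, true), (2, 75, true), (1, 90, true), (0, 12, true), (1, 74, true), (0, 11, true), (0, 71, true), (6, 14, true), (5, 60, true), (4, 69, true), (3, 75, true), (2, 84, true), (1, 90, true), (0, 12, true), (3, 67, true), (2, 73, true), (1, 84, true), (0, 90, true), (2, 82, true), (6, 57, true), (5, 68, true), (4, 74, true), (3, 83, true), (2, 88, true), (1, 11, true), (4, 64, true), (3, 70, true), (2, 83, true), (1, 88, true), (7, 56, true), (6, 68, true), (5, 74, true), (4, 79, true), (3, 83, true), (2, 88, true), (1, 11, true), (5, 63, true), (4, 74, true), (3, 79, true), (2, 83, true), (1, 88, true), (5, 6, true), (4, 79, true), (3, 83, true), (2, 88, true), (1, 11, true), (5, 55, true), (4, 69, true), (3, 80, true), (2, 84, true), (1, 89, true), (0, 12, true), (3, 68, true), (2, 79, true), (1, 83, true), (0, 88, true), (4, 5, true), (3, 79, true),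 (2, 83, true), (1, 88, true), (0, 11, true), (3, 4, true), (4, 13, true), (3, 45, true), (2, 80, true), (1, 84, true), (0, 89, true), (4, 44, true), (3, 79, true), (2, 83, true), (1, 88, true), (5, 43, true), (4, 80, true), (3, 84, true), (2, 89, true), (1, 90, true), (0, 12, true), (3, 78, true), (2, 82, true), (1, 10, true), (3, 41, true), (2, 80, true), (1, 84, true), (0, 90, true), (3, 79, true), (2, 83, true), (1, 11, true), (2, 76, true), (1, 8, true), (0, 12, true), (1, 40, true), (0, 79, true), (1, 7, true), (1, 38, true), (0, 90, true), (1, 11, true), (4, 37, true), (3, 69, true), (2, 80, true), (1, 89, true), (0, 12, true), (2, 68, true), (1, 79, true), (0, 88, true), (3, 67, true), (2, 78, true), (1, 10, true), (2, 65, true), (1, 80, true), (0, 90, true), (2, 79, true), (1, 11, true), (1, 76, true)]),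
  ([0, 1, 3], [(0, 13, true), (8, 15, true), (7, 35, true), (6, 62, true), (5, 69, true), (4, 80, true), (3, 84, true), (2, 89, true), (1, 90, true), (0, 12, true), (6, 33, true), (5, 61, true), (4, 68, true), (3, 79, true), (2, 83, true), (1, 88, true), (0, 11, true), (4, 60, true), (3, 69, true), (2, 80, true), (1, 84, true), (0, 89, true), (4, 67, true), (3, 78, true), (2, 82, true), (1, 10, true), (5, 29, true), (4, 61, true), (3, 68, true), (2, 79, true), (1, 83, true), (5, 60, true), (4, 69, true), (3, 80, true), (2, 84, true), (1, 90, true), (0, 12, true), (3, 67, true), (2, 78, true), (1, 82, true), (5, 56, true), (4, 68, true), (3, 79, true), (2, 83, true), (1, 88, true), (0, 11, true), (3, 63, true), (2, 79, true), (1, 83, true), (0, 88, true), (7, 27, true), (6, 61, true), (5, 68, true), (4, 74, true), (3, 79, true), (2, 83, true), (1, 88, true), (0, 11, true), (5, 60, true), (4, 69, true), (3, 75, true), (2, 80, true), (1, 84, true), (0, 89, true), (5, 67, true), (4, 73, true), (3, 80, true), (2, 84, true), (1, 89, true), (0, 12, true), (2, 78, true), (1, 82, true), (0, 10, true),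 (4, 59, true), (3, 68, true), (2, 74, true), (1, 79, true), (0, 83, true), (4, 66, true), (3, 75, true), (2, 80, true), (1, 84, true), (0, 90, true), (4, 74, true), (3, 79, true), (2, 83, true), (1, 11, true), (3, 72, true), (2, 80, true), (1, 84, true), (0, 12, true), (1, 79, true), (0, 83, true), (2, 77, true), (1, 81, true), (0, 90, true), (7, 57, true), (6, 68, true), (5, 74, true), (4, 79, true), (3, 83, true), (2, 86, true), (1, 11, true), (5, 64, true), (4, 70, true), (3, 79, true), (2, 83, true), (1, 86, true), (4, 7, true), (6, 4, true), (6, 26, true), (5, 69, true), (4, 75, true), (3, 84, true), (2, 87, true), (1, 90, true), (0, 12, true), (4, 68, true), (3, 74, true), (2, 83, true), (1, 86, true), (0, 11, true), (3, 67, true), (2, 73, true), (1, 84, true), (0, 87, true), (2, 82, true), (1, 85, true), (5, 66, true), (4, 75, true), (3, 84, true), (2, 87, true), (1, 89, true), (0, 12, true), (3, 74, true), (2, 83, true), (1, 86, true), (0, 88, true), (4, 72, true), (3, 84, true), (2, 87, true), (1, 89, true), (0, 90, true), (4, 83, true), (3, 86, true), (2, 88, true), (1, 11, true),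 (3, 81, true), (2, 87, true), (1, 89, true), (0, 12, true), (1, 9, true), (0, 89, true), (4, 65, true), (3, 75, true), (2, 84, true), (1, 89, true), (0, 12, true), (2, 74, true), (1, 83, true), (0, 88, true), (3, 71, true), (2, 84, true), (1, 89, true), (0, 90, true), (3, 83, true), (2, 88, true), (1, 11, true), (2, 8, true), (1, 89, true), (0, 12, true), (2, 64, true), (1, 70, true), (0, 88, true), (4, 63, true), (3, 74, true), (2, 79, true), (1, 88, true), (0, 11, true), (2, 6, true), (1, 79, true), (0, 88, true), (3, 5, true), (2, 79, true), (1, 88, true), (0, 11, true)], [(1, 26, true), (0, 24, true), (1, 23, true), (2, 22, true), (1, 90, true), (0, 12, true), (0, 11, true), (1, 21, true), (0, 89, true), (1, 88, true), (2, 10, true), (3, 20, true), (2, 87, true), (1, 90, true), (0, 12, true), (1, 86, true), (0, 11, true), (2, 19, true), (1, 84, true), (0, 87, true), (4, 18, true), (3, 80, true), (2, 84, true), (1, 87, true), (0, 12, true), (2, 76, true), (1, 8, true), (0, 87, true), (2, 7, true), (3, 17, true), (2, 75, true), (1, 87, true), (0, 12, true), (1, 73, true), (0, 87, true),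 (1, 85, true), (3, 70, true), (2, 86, true), (1, 88, true), (7, 15, true), (6, 69, true), (5, 75, true), (4, 80, true), (3, 87, true), (2, 89, true), (1, 90, true), (0, 12, true), (5, 67, true), (4, 73, true), (3, 80, true), (2, 87, true), (1, 89, true), (0, 90, true), (4, 78, true), (3, 85, true), (2, 10, true), (5, 63, true), (4, 74, true), (3, 79, true), (2, 86, true), (1, 11, true), (3, 6, true), (2, 79, true), (1, 86, true), (7, 13, true), (6, 54, true), (5, 62, true), (4, 69, true), (3, 80, true), (2, 87, true), (1, 90, true), (0, 12, true), (5, 53, true), (4, 61, true), (3, 68, true), (2, 79, true), (1, 86, true), (0, 11, true), (4, 52, true), (3, 61, true), (2, 68, true), (1, 79, true), (0, 86, true), (4, 60, true), (3, 69, true), (2, 80, true), (1, 87, true), (0, 90, true), (4, 67, true), (3, 78, true), (2, 85, true), (7, 50, true), (6, 62, true), (5, 69, true), (4, 80, true), (3, 87, true), (2, 89, true), (1, 90, true), (0, 12, true), (5, 61, true), (4, 68, true), (3, 79, true), (2, 86, true), (1, 88, true), (0, 11, true), (4, 60, true), (3, 69, true), (2, 80, true), (1, 87, true),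 (0, 89, true), (4, 67, true), (3, 78, true), (2, 85, true), (1, 10, true), (4, 58, true), (3, 65, true), (2, 80, true), (1, 87, true), (0, 12, true), (1, 79, true), (0, 86, true), (2, 76, true), (6, 49, true), (5, 62, true), (4, 69, true), (3, 80, true), (2, 84, true), (1, 87, true), (0, 90, true), (6, 61, true), (5, 68, true), (4, 79, true), (3, 83, true), (2, 86, true), (1, 11, true), (5, 57, true), (4, 68, true), (3, 79, true), (2, 83, true), (1, 86, true), (5, 64, true), (4, 7, true), (6, 47, true), (5, 61, true), (4, 68, true), (3, 83, true), (2, 86, true), (1, 11, true), (4, 55, true), (3, 69, true), (2, 84, true), (1, 87, true), (0, 12, true), (2, 68, true), (1, 83, true), (0, 86, true), (3, 5, true), (2, 83, true), (1, 86, true), (0, 11, true), (3, 46, true), (2, 60, true), (1, 84, true), (0, 87, true), (2, 82, true), (1, 85, true), (4, 59, true), (3, 83, true), (2, 86, true), (1, 88, true), (4, 81, true), (3, 87, true), (2, 89, true), (1, 90, true), (0, 12, true), (2, 9, true), (1, 89, true), (0, 90, true), (4, 58, true), (3, 8, true), (2, 89, true), (1, 90, true), (0, 12, true),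 (2, 57, true), (1, 88, true), (0, 11, true), (2, 4, true)]),
  ([0, 1, 4], [(0, 13, true), (8, 16, true), (7, 33, true), (6, 61, true), (5, 68, true), (4, 79, true), (3, 83, true), (2, 88, true), (1, 11, true), (5, 60, true), (4, 69, true), (3, 80, true), (2, 84, true), (1, 89, true), (0, 12, true), (3, 67, true), (2, 78, true), (1, 82, true), (0, 10, true), (4, 31, true), (3, 61, true), (2, 68, true), (1, 79, true), (0, 83, true), (4, 60, true), (3, 69, true), (2, 80, true), (1, 84, true), (0, 90, true), (4, 67, true), (3, 78, true), (2, 82, true), (6, 58, true), (5, 65, true), (4, 80, true), (3, 84, true), (2, 89, true), (1, 90, true), (0, 12, true), (3, 79, true), (2, 83, true), (1, 88, true), (0, 11, true), (2, 76, true), (1, 8, true), (0, 89, true), (5, 27, true), (4, 61, true), (3, 68, true), (2, 79, true), (1, 88, true), (5, 60, true), (4, 69, true), (3, 80, true), (2, 89, true), (1, 90, true), (0, 12, true), (3, 67, true), (2, 78, true), (1, 10, true), (3, 59, true), (2, 68, true), (1, 79, true), (0, 11, true), (1, 66, true), (0, 80, true), (1, 79, true), (2, 77, true), (5, 57, true),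 (4, 68, true), (3, 79, true), (2, 86, true), (1, 11, true), (3, 64, true), (2, 7, true), (3, 4, true)], [(1, 27, true), (0, 23, true), (1, 22, true), (0, 90, true), (1, 11, true), (2, 21, true), (1, 89, true), (0, 12, true), (0, 88, true), (1, 10, true), (2, 19, true), (1, 87, true), (0, 90, true), (4, 16, true), (3, 78, true), (2, 85, true), (4, 76, true), (7, 13, true), (6, 62, true), (5, 80, true), (4, 84, true), (3, 87, true), (2, 89, true), (1, 90, true), (0, 12, true), (5, 61, true), (4, 79, true), (3, 83, true), (2, 86, true), (1, 88, true), (0, 11, true), (4, 60, true), (3, 80, true), (2, 84, true), (1, 87, true), (0, 89, true), (4, 78, true), (3, 82, true), (2, 85, true), (1, 10, true), (4, 58, true), (3, 76, true), (2, 8, true), (1, 87, true), (0, 12, true), (2, 57, true), (1, 79, true), (0, 86, true), (2, 7, true), (2, 55, true), (1, 87, true), (0, 90, true), (2, 86, true), (1, 11, true), (3, 4, true)]),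
  ([0, 1, 5], [(0, 13, true), (8, 17, true), (7, 35, true), (6, 62, true), (5, 69, true), (4, 80, true), (3, 84, true), (2, 89, true), (1, 90, true), (0, 12, true), (6, 33, true), (5, 61, true), (4, 68, true), (3, 79, true), (2, 83, true), (1, 88, true), (0, 11, true), (4, 60, true), (3, 69, true), (2, 80, true), (1, 84, true), (0, 89, true), (4, 67, true), (3, 78, true), (2, 82, true), (1, 10, true), (5, 30, true), (4, 62, true), (3, 69, true), (2, 80, true), (1, 84, true), (0, 12, true), (3, 60, true), (2, 69, true), (1, 80, true), (0, 84, true), (3, 67, true), (2, 78, true), (1, 82, true), (5, 57, true), (4, 68, true), (3, 79, true), (2, 83, true), (1, 88, true), (5, 64, true), (4, 7, true), (6, 28, true), (5, 62, true), (4, 69, true), (3, 84, true), (2, 89, true), (1, 90, true), (0, 12, true), (4, 61, true), (3, 68, true), (2, 83, true), (1, 88, true), (0, 11, true), (3, 60, true), (2, 69, true), (1, 84, true), (0, 89, true), (3, 67, true), (2, 82, true), (1, 10, true), (3, 59, true), (2, 68, true), (1, 83, true), (3, 66, true), (2, 84, true), (1, 90, true), (0, 12, true), (1, 83, true),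 (0, 11, true), (0, 81, true), (4, 58, true), (3, 65, true), (2, 84, true), (1, 87, true), (0, 12, true), (1, 83, true), (0, 86, true), (2, 8, true), (1, 87, true), (0, 90, true), (4, 55, true), (3, 69, true), (2, 87, true), (1, 90, true), (0, 12, true), (2, 68, true), (1, 86, true), (0, 11, true), (1, 5, true), (0, 86, true)], [(1, 28, true), (0, 24, true), (1, 23, true), (2, 22, true), (1, 90, true), (0, 12, true), (0, 11, true), (1, 21, true), (0, 89, true), (1, 88, true), (2, 10, true), (3, 20, true), (2, 87, true), (1, 90, true), (0, 12, true), (1, 86, true), (0, 11, true), (2, 17, true), (1, 84, true), (0, 87, true), (2, 82, true), (1, 85, true), (6, 13, true), (5, 69, true), (4, 80, true), (3, 84, true), (2, 87, true), (1, 89, true), (0, 12, true), (4, 68, true), (3, 79, true), (2, 83, true), (1, 86, true), (0, 88, true), (5, 67, true), (4, 78, true), (3, 82, true), (2, 85, true), (1, 10, true), (4, 65, true), (3, 80, true), (2, 84, true), (1, 87, true), (0, 90, true), (4, 79, true), (3, 83, true), (2, 86, true), (1, 11, true), (3, 76, true), (2, 8, true), (1, 87, true), (0, 12, true),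 (2, 64, true), (1, 7, true), (1, 5, true), (0, 86, true)]),
  ([0, 1, 6], [(0, 13, true), (8, 18, true), (7, 35, true), (6, 62, true), (5, 69, true), (4, 80, true), (3, 84, true), (2, 89, true), (1, 90, true), (0, 12, true), (6, 31, true), (5, 61, true), (4, 68, true), (3, 79, true), (2, 83, true), (1, 88, true), (0, 11, true), (4, 60, true), (3, 69, true), (2, 80, true), (1, 84, true), (0, 89, true), (4, 67, true), (3, 78, true), (2, 82, true), (1, 10, true), (4, 58, true), (3, 65, true), (2, 80, true), (1, 84, true), (0, 12, true), (1, 79, true), (0, 83, true), (2, 76, true), (1, 8, true), (0, 90, true), (5, 30, true), (4, 62, true), (3, 69, true), (2, 80, true), (1, 90, true), (0, 12, true), (3, 60, true), (2, 69, true), (1, 80, true), (0, 90, true), (3, 67, true), (2, 78, true), (5, 57, true), (4, 68, true), (3, 79, true), (2, 88, true), (1, 11, true), (3, 64, true), (2, 7, true), (4, 29, true), (3, 61, true), (2, 68, true), (1, 88, true), (4, 60, true), (3, 69, true), (2, 89, true), (1, 90, true), (0, 12, true), (2, 67, true), (1, 10, true), (2, 56, true), (1, 68, true), (0, 11, true),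 (0, 63, true)], [(1, 29, true), (0, 23, true), (1, 22, true), (0, 90, true), (1, 11, true), (2, 18, true), (1, 89, true), (0, 12, true), (4, 13, true), (3, 75, true), (2, 80, true), (1, 84, true), (0, 89, true), (4, 74, true), (3, 79, true), (2, 83, true), (1, 88, true), (5, 73, true), (4, 80, true), (3, 84, true), (2, 89, true), (1, 90, true), (0, 12, true), (3, 78, true), (2, 82, true), (1, 10, true), (3, 71, true), (2, 80, true), (1, 84, true), (0, 90, true), (3, 79, true), (2, 83, true), (1, 11, true), (2, 76, true), (1, 8, true), (0, 12, true), (1, 70, true), (0, 79, true), (1, 7, true)]),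
  ([0, 1, 7], [(0, 13, true), (8, 19, true), (7, 35, true), (6, 62, true), (5, 69, true), (4, 80, true), (3, 84, true), (2, 89, true), (1, 90, true), (0, 12, true), (6, 30, true), (5, 62, true), (4, 69, true), (3, 80, true), (2, 84, true), (1, 89, true), (0, 90, true), (6, 60, true), (5, 69, true), (4, 80, true), (3, 84, true), (2, 89, true), (1, 90, true), (0, 12, true), (4, 67, true), (3, 78, true), (2, 82, true), (1, 10, true), (4, 57, true), (3, 68, true), (2, 79, true), (1, 83, true), (0, 11, true), (2, 64, true), (1, 7, true)], [(1, 30, true), (0, 24, true), (1, 22, true), (0, 12, true), (2, 19, true), (1, 89, true), (0, 90, true), (4, 13, true), (3, 80, true), (2, 89, true), (1, 90, true), (0, 12, true), (2, 79, true), (1, 88, true), (0, 11, true), (1, 78, true), (0, 10, true), (0, 76, true), (1, 7, true)]),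
  ([0, 1, 8], [(0, 13, true), (8, 20, true), (7, 35, true), (6, 62, true), (5, 69, true), (4, 80, true), (3, 84, true), (2, 89, true), (1, 90, true), (0, 12, true), (6, 34, true), (5, 62, true), (4, 69, true), (3, 80, true), (2, 84, true), (1, 89, true), (0, 90, true), (6, 61, true), (5, 68, true), (4, 79, true), (3, 83, true), (2, 88, true), (1, 11, true), (6, 31, true), (5, 61, true), (4, 68, true), (3, 79, true), (2, 83, true), (1, 88, true), (6, 60, true), (5, 69, true), (4, 80, true), (3, 84, true), (2, 89, true), (1, 90, true), (0, 12, true), (4, 67, true), (3, 78, true), (2, 82, true), (1, 10, true), (4, 58, true), (3, 65, true), (2, 80, true), (1, 84, true), (0, 90, true), (3, 79, true), (2, 83, true), (1, 11, true), (2, 76, true), (1, 8, true), (0, 12, true)], [(1, 31, true), (0, 23, true), (1, 22, true), (0, 90, true), (1, 11, true), (2, 20, true), (1, 89, true), (0, 12, true), (0, 88, true), (3, 13, true), (2, 84, true), (1, 89, true), (0, 90, true), (3, 83, true), (2, 88, true), (1, 11, true), (2, 82, true), (1, 10, true), (1, 8, true), (0, 12, true)]),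
  ([0, 1, 9], [(0, 13, true), (8, 21, true), (7, 35, true), (6, 62, true), (5, 69, true), (4, 80, true), (3, 84, true), (2, 89, true), (1, 90, true), (0, 12, true), (6, 34, true), (5, 62, true), (4, 69, true), (3, 80, true), (2, 84, true), (1, 89, true), (0, 90, true), (6, 61, true), (5, 68, true), (4, 79, true), (3, 83, true), (2, 88, true), (1, 11, true), (6, 33, true), (5, 61, true), (4, 68, true), (3, 79, true), (2, 83, true), (1, 88, true), (6, 60, true), (5, 69, true), (4, 80, true), (3, 84, true), (2, 89, true), (1, 90, true), (0, 12, true), (4, 67, true), (3, 78, true), (2, 82, true), (1, 10, true), (5, 32, true), (4, 61, true), (3, 68, true), (2, 79, true), (1, 83, true), (0, 11, true), (3, 60, true), (2, 69, true), (1, 80, true), (0, 84, true), (3, 67, true), (2, 78, true), (1, 82, true), (5, 59, true), (4, 68, true), (3, 79, true), (2, 83, true), (1, 88, true), (5, 66, true), (4, 80, true), (3, 84, true), (2, 89, true), (1, 90, true), (0, 12, true), (3, 79, true), (2, 83, true), (1, 88, true), (0, 11, true), (2, 77, true), (1, 81, true), (0, 89, true)], [(1, 32, true), (0, 23,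 true), (1, 22, true), (0, 90, true), (1, 11, true), (2, 21, true), (1, 89, true), (0, 12, true), (0, 88, true), (1, 10, true), (2, 13, true), (1, 87, true), (0, 90, true), (2, 86, true), (1, 11, true), (1, 85, true)]),
  ([0, 1, 10], [(0, 13, true), (8, 22, true), (7, 35, true), (6, 62, true), (5, 69, true), (4, 80, true), (3, 84, true), (2, 89, true), (1, 90, true), (0, 12, true), (6, 34, true), (5, 62, true), (4, 69, true), (3, 80, true), (2, 84, true), (1, 89, true), (0, 90, true), (6, 61, true), (5, 68, true), (4, 79, true), (3, 83, true), (2, 88, true), (1, 11, true), (6, 33, true), (5, 61, true), (4, 68, true), (3, 79, true), (2, 83, true), (1, 88, true), (6, 60, true), (5, 69, true), (4, 80, true), (3, 84, true), (2, 89, true), (1, 90, true), (0, 12, true), (4, 67, true), (3, 78, true), (2, 82, true), (1, 10, true)], [(1, 33, true), (0, 23, true), (1, 22, true), (0, 90, true), (1, 11, true), (2, 13, true), (1, 89, true), (0, 12, true), (0, 88, true), (1, 10, true)]),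
  ([0, 1, 11], [(0, 13, true), (8, 23, true), (7, 34, true), (6, 62, true), (5, 69, true), (4, 80, true), (3, 84, true), (2, 89, true), (1, 90, true), (0, 12, true), (5, 61, true), (4, 68, true), (3, 79, true), (2, 83, true), (1, 88, true), (0, 11, true)], [(1, 34, true), (0, 24, true), (1, 23, true), (2, 13, true), (1, 90, true), (0, 12, true), (0, 11, true)]),
  ([0, 1, 12], [(0, 13, true), (8, 24, true), (7, 35, true), (6, 62, true), (5, 69, true), (4, 80, true), (3, 84, true), (2, 89, true), (1, 90, true), (0, 12, true)], [(1, 35, true), (0, 24, true), (1, 13, true), (0, 12, true)]),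
  ([0, 2, 3], [(0, 14, true), (6, 15, true), (5, 45, true), (4, 62, true), (3, 69, true), (2, 75, true), (1, 80, true), (0, 89, true), (6, 43, true), (5, 62, true), (4, 69, true), (3, 75, true), (2, 80, true), (1, 89, true), (0, 12, true), (4, 60, true), (3, 69, true), (2, 75, true), (1, 80, true), (0, 89, true), (4, 67, true), (3, 73, true), (2, 80, true), (1, 89, true), (0, 12, true), (1, 78, true), (0, 10, true), (4, 39, true), (3, 61, true), (2, 68, true), (1, 74, true), (0, 79, true), (4, 58, true), (3, 65, true), (2, 75, true), (1, 80, true), (0, 90, true), (3, 74, true), (2, 79, true), (1, 11, true), (2, 71, true), (1, 80, true), (0, 12, true), (0, 79, true), (1, 76, true), (5, 57, true), (4, 68, true), (3, 74, true), (2, 79, true), (1, 83, true), (0, 11, true), (3, 64, true), (2, 70, true), (1, 79, true), (0, 83, true), (2, 7, true), (4, 56, true), (3, 68, true), (2, 74, true), (1, 83, true), (0, 11, true), (2, 63, true), (1, 74, true), (0, 83, true), (2, 6, true), (1, 83, true), (0, 11, true), (3, 37, true), (2, 62, true), (1, 69, true), (0, 84, true), (3, 61, true), (2, 68, true),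 (1, 83, true), (4, 60, true), (3, 69, true), (2, 84, true), (1, 90, true), (0, 12, true), (2, 67, true), (1, 82, true), (4, 58, true), (3, 65, true), (2, 84, true), (1, 89, true), (0, 90, true), (3, 83, true), (2, 88, true), (1, 11, true), (2, 8, true), (1, 89, true), (0, 12, true), (2, 4, true), (2, 36, true), (1, 69, true), (0, 89, true), (2, 68, true), (1, 88, true), (3, 67, true), (2, 10, true), (2, 66, true), (1, 90, true), (0, 12, true), (0, 11, true), (1, 65, true), (0, 87, true), (1, 86, true), (4, 63, true), (3, 83, true), (2, 86, true), (1, 11, true), (4, 5, true), (3, 74, true), (2, 83, true), (1, 86, true)], [(1, 36, true), (0, 24, true), (1, 23, true), (2, 22, true), (1, 90, true), (0, 12, true), (0, 11, true), (1, 21, true), (0, 89, true), (1, 88, true), (2, 10, true), (3, 20, true), (2, 87, true), (1, 90, true), (0, 12, true), (1, 86, true), (0, 11, true), (2, 18, true), (1, 84, true), (0, 87, true), (2, 8, true), (1, 87, true), (0, 12, true), (3, 17, true), (2, 75, true), (1, 80, true), (0, 87, true), (3, 73, true), (2, 80, true), (1, 87, true), (0, 12, true), (1, 78, true),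 (0, 85, true), (3, 70, true), (2, 79, true), (1, 86, true), (0, 88, true), (3, 7, true), (5, 16, true), (4, 67, true), (3, 73, true), (2, 87, true), (1, 89, true), (0, 90, true), (3, 85, true), (2, 10, true), (4, 65, true), (3, 75, true), (2, 87, true), (1, 90, true), (0, 12, true), (2, 74, true), (1, 86, true), (0, 11, true), (1, 71, true), (0, 87, true), (1, 86, true), (7, 15, true), (6, 62, true), (5, 69, true), (4, 75, true), (3, 84, true), (2, 87, true), (1, 90, true), (0, 12, true), (5, 60, true), (4, 69, true), (3, 75, true), (2, 84, true), (1, 87, true), (0, 90, true), (5, 67, true), (4, 73, true), (3, 84, true), (2, 87, true), (1, 90, true), (0, 12, true), (2, 82, true), (1, 85, true), (6, 56, true), (5, 68, true), (4, 74, true), (3, 83, true), (2, 86, true), (1, 88, true), (0, 11, true), (4, 63, true), (3, 74, true), (2, 83, true), (1, 86, true), (0, 88, true), (4, 6, true), (3, 83, true), (2, 86, true), (1, 88, true), (0, 11, true), (4, 4, true), (5, 14, true), (4, 52, true), (3, 68, true), (2, 83, true), (1, 86, true), (0, 88, true), (4, 67, true), (3, 82, true), (2, 85, true),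 (1, 10, true), (4, 49, true), (3, 69, true), (2, 84, true), (1, 87, true), (0, 90, true), (4, 68, true), (3, 83, true), (2, 86, true), (1, 11, true), (3, 64, true), (5, 48, true), (4, 68, true), (3, 79, true), (2, 83, true), (1, 86, true), (5, 67, true), (4, 78, true), (3, 82, true), (2, 85, true), (6, 66, true), (5, 80, true), (4, 84, true), (3, 87, true), (2, 89, true), (1, 90, true), (0, 12, true), (4, 79, true), (3, 83, true), (2, 86, true), (1, 88, true), (0, 11, true), (3, 77, true), (2, 81, true), (1, 87, true), (0, 89, true), (2, 9, true), (1, 89, true), (0, 12, true), (3, 65, true), (2, 80, true), (1, 84, true), (0, 89, true), (3, 79, true), (2, 83, true), (1, 88, true), (4, 76, true), (3, 8, true), (2, 89, true), (1, 90, true), (0, 12, true), (3, 63, true), (2, 79, true), (1, 88, true), (0, 11, true), (4, 47, true), (3, 68, true), (2, 74, true), (1, 79, true), (0, 88, true), (4, 5, true), (3, 74, true), (2, 79, true), (1, 88, true), (0, 11, true), (3, 46, true), (2, 73, true), (1, 80, true), (0, 89, true), (2, 78, true), (1, 10, true), (2, 72, true), (1, 80, true), (0, 12, true),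 (0, 79, true), (1, 77, true), (3, 71, true), (2, 80, true), (1, 87, true), (0, 90, true), (3, 79, true), (2, 86, true), (1, 11, true), (2, 76, true), (4, 70, true), (3, 79, true), (2, 83, true), (1, 86, true), (4, 7, true)]),
  ([0, 2, 4], [(0, 14, true), (6, 16, true), (5, 43, true), (4, 62, true), (3, 69, true), (2, 75, true), (1, 80, true), (0, 89, true), (5, 60, true), (4, 69, true), (3, 75, true), (2, 80, true), (1, 89, true), (0, 12, true), (3, 67, true), (2, 73, true), (1, 80, true), (0, 89, true), (2, 78, true), (1, 10, true), (5, 41, true), (4, 62, true), (3, 69, true), (2, 75, true), (1, 80, true), (0, 12, true), (3, 61, true), (2, 68, true), (1, 74, true), (0, 79, true), (4, 58, true), (3, 65, true), (2, 75, true), (1, 80, true), (0, 90, true), (3, 74, true), (2, 79, true), (1, 11, true), (2, 71, true), (1, 80, true), (0, 12, true), (0, 79, true), (1, 76, true), (6, 37, true), (5, 62, true), (4, 69, true), (3, 75, true), (2, 80, true), (1, 84, true), (0, 90, true), (6, 61, true), (5, 68, true), (4, 74, true), (3, 79, true), (2, 83, true), (1, 11, true), (5, 60, true), (4, 69,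 true), (3, 75, true), (2, 80, true), (1, 84, true), (0, 12, true), (3, 67, true), (2, 73, true), (1, 80, true), (0, 84, true), (2, 78, true), (1, 82, true), (6, 58, true), (5, 65, true), (4, 75, true), (3, 80, true), (2, 84, true), (1, 89, true), (0, 12, true), (3, 74, true), (2, 79, true), (1, 83, true), (0, 88, true), (4, 71, true), (3, 80, true), (2, 84, true), (1, 89, true), (0, 90, true), (4, 79, true), (3, 83, true), (2, 88, true), (1, 11, true), (3, 76, true), (2, 8, true), (1, 89, true), (0, 12, true), (4, 4, true)], [(1, 37, true), (0, 24, true), (1, 23, true), (2, 22, true), (1, 90, true), (0, 12, true), (0, 11, true), (1, 20, true), (0, 89, true), (1, 88, true), (4, 16, true), (3, 82, true), (2, 10, true), (2, 8, true), (1, 90, true), (0, 12, true), (2, 14, true), (1, 60, true), (0, 90, true), (3, 57, true), (2, 88, true), (1, 11, true), (3, 56, true), (2, 79, true), (1, 88, true), (5, 55, true), (4, 75, true), (3, 80, true), (2, 89, true), (1, 90, true), (0, 12, true), (3, 74, true), (2, 79, true), (1, 88, true), (0, 11, true), (4, 4, true)]),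
  ([0, 2, 5], [(0, 14, true), (6, 17, true), (5, 45, true), (4, 62, true), (3, 69, true), (2, 75, true), (1, 80, true), (0, 89, true), (6, 43, true), (5, 62, true), (4, 69, true), (3, 75, true), (2, 80, true), (1, 89, true), (0, 12, true), (4, 60, true), (3, 69, true), (2, 75, true), (1, 80, true), (0, 89, true), (4, 67, true), (3, 73, true), (2, 80, true), (1, 89, true), (0, 12, true), (1, 78, true), (0, 10, true), (4, 40, true), (3, 61, true), (2, 68, true), (1, 74, true), (0, 79, true), (4, 57, true), (3, 68, true), (2, 74, true), (1, 79, true), (0, 11, true), (2, 64, true), (1, 70, true), (0, 79, true), (1, 7, true), (4, 38, true), (3, 62, true), (2, 69, true), (1, 75, true), (0, 90, true), (4, 61, true), (3, 68, true), (2, 74, true), (1, 11, true), (3, 60, true), (2, 69, true), (1, 75, true), (0, 12, true), (1, 67, true), (0, 73, true), (4, 57, true), (3, 68, true), (2, 74, true), (1, 88, true), (4, 64, true), (3, 70, true), (2, 88, true), (1, 11, true), (5, 55, true), (4, 69, true), (3, 75, true), (2, 80, true), (1, 89, true), (0, 12, true), (3, 68, true), (2, 74, true), (1, 79, true),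 (0, 88, true), (4, 5, true), (3, 74, true), (2, 79, true), (1, 88, true), (0, 11, true)], [(1, 38, true), (0, 24, true), (1, 23, true), (2, 22, true), (1, 90, true), (0, 12, true), (0, 11, true), (1, 19, true), (0, 89, true), (3, 17, true), (2, 80, true), (1, 89, true), (0, 12, true), (1, 78, true), (0, 10, true), (0, 7, true), (1, 14, true), (0, 67, true), (1, 64, true), (2, 63, true), (1, 79, true), (0, 88, true), (4, 5, true), (3, 74, true), (2, 79, true), (1, 88, true), (0, 11, true)]),
  ([0, 2, 6], [(0, 14, true), (6, 18, true), (5, 45, true), (4, 62, true), (3, 69, true), (2, 75, true), (1, 80, true), (0, 89, true), (6, 41, true), (5, 62, true), (4, 69, true), (3, 75, true), (2, 80, true), (1, 89, true), (0, 12, true), (4, 61, true), (3, 68, true), (2, 74, true), (1, 79, true), (0, 88, true), (5, 58, true), (4, 65, true), (3, 75, true), (2, 80, true), (1, 89, true), (0, 90, true), (4, 74, true), (3, 79, true), (2, 88, true), (1, 11, true), (3, 71, true), (2, 80, true), (1, 89, true), (0, 12, true), (1, 79, true), (0, 88, true), (2, 76, true), (7, 40, true), (6, 61, true), (5, 68,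 true), (4, 74, true), (3, 79, true), (2, 83, true), (1, 88, true), (0, 11, true), (5, 57, true), (4, 68, true), (3, 74, true), (2, 79, true), (1, 83, true), (0, 88, true), (5, 64, true), (4, 70, true), (3, 79, true), (2, 83, true), (1, 88, true), (0, 11, true), (2, 7, true), (5, 39, true), (4, 61, true), (3, 68, true), (2, 74, true), (1, 83, true), (0, 88, true), (5, 58, true), (4, 65, true), (3, 75, true), (2, 84, true), (1, 89, true), (0, 90, true), (4, 74, true), (3, 83, true), (2, 88, true), (1, 11, true), (3, 71, true), (2, 84, true), (1, 89, true), (0, 12, true), (1, 83, true), (0, 88, true), (2, 8, true), (1, 89, true), (0, 90, true), (5, 57, true), (4, 68, true), (3, 74, true), (2, 88, true), (1, 11, true), (3, 64, true), (2, 70, true), (1, 88, true), (6, 56, true), (5, 68, true), (4, 74, true), (3, 79, true), (2, 88, true), (1, 11, true), (4, 63, true), (3, 74, true), (2, 79, true), (1, 88, true), (4, 6, true), (3, 79, true), (2, 88, true), (1, 11, true)], [(1, 39, true), (0, 23, true), (1, 20, true), (0, 90, true), (1, 11, true), (2, 19, true), (1, 84, true), (0, 12, true), (2,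 18, true), (1, 80, true), (0, 84, true), (2, 76, true), (1, 8, true), (0, 12, true), (0, 7, true), (1, 14, true), (0, 73, true), (2, 70, true), (1, 88, true), (4, 6, true), (3, 79, true), (2, 88, true), (1, 11, true)]),
  ([0, 2, 7], [(0, 14, true), (6, 19, true), (5, 45, true), (4, 62, true), (3, 69, true), (2, 75, true), (1, 80, true), (0, 89, true), (6, 40, true), (5, 61, true), (4, 68, true), (3, 74, true), (2, 79, true), (1, 88, true), (6, 57, true), (5, 68, true), (4, 74, true), (3, 79, true), (2, 88, true), (1, 11, true), (4, 64, true), (3, 70, true), (2, 79, true), (1, 88, true), (3, 7, true)], [(1, 40, true), (0, 23, true), (1, 19, true), (0, 90, true), (3, 14, true), (2, 78, true), (3, 7, true)]),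
  ([0, 2, 8], [(0, 14, true), (6, 20, true), (5, 45, true), (4, 62, true), (3, 69, true), (2, 75, true), (1, 80, true), (0, 89, true), (6, 44, true), (5, 61, true), (4, 68, true), (3, 74, true), (2, 79, true), (1, 88, true), (7, 41, true), (6, 62, true), (5, 69, true), (4, 75, true), (3, 80, true), (2, 89, true), (1, 90, true), (0, 12, true), (5, 61, true), (4, 68, true), (3, 74, true), (2, 79, true), (1, 88, true), (0, 11, true), (4, 58, true), (3, 65, true), (2, 75, true), (1, 80, true), (0, 89, true), (3, 74, true), (2, 79, true), (1, 88, true), (4, 71, true), (3, 80, true), (2, 89, true), (1, 90, true), (0, 12, true), (2, 79, true), (1, 88, true), (0, 11, true), (1, 76, true)], [(1, 41, true), (0, 24, true), (1, 23, true), (2, 20, true), (1, 90, true), (0, 12, true), (0, 11, true), (1, 14, true), (0, 82, true)]),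
  ([0, 2, 9], [(0, 14, true), (6, 21, true), (5, 45, true), (4, 62, true), (3, 69, true), (2, 75, true), (1, 80, true), (0, 89, true), (6, 44, true), (5, 61, true), (4, 68, true), (3, 74, true), (2, 79, true), (1, 88, true), (7, 43, true), (6, 62, true), (5, 69, true), (4, 75, true), (3, 80, true), (2, 89, true), (1, 90, true), (0, 12, true), (5, 60, true), (4, 69, true), (3, 75, true), (2, 80, true), (1, 89, true), (0, 90, true), (5, 67, true), (4, 73, true), (3, 80, true), (2, 89, true), (1, 90, true), (0, 12, true), (2, 78, true), (1, 10, true), (5, 42, true), (4, 62, true), (3, 69, true), (2, 75, true), (1, 80, true), (0, 90, true), (5, 60, true), (4, 69, true), (3, 75, true), (2, 80, true), (1, 90, true), (0, 12, true), (3, 67, true), (2, 73, true), (1, 80, true), (0, 90, true), (2, 78, true), (6, 59, true), (5, 68, true), (4, 74, true), (3, 79, true), (2, 88, true), (1, 11, true), (4, 66, true), (3, 75, true), (2, 80, true), (1, 89, true), (0, 12, true), (2, 74, true), (1, 79, true), (0, 88, true), (3, 72, true), (2, 80, true), (1, 89, true), (0, 90, true), (3, 79, true), (2, 88, true),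 (1, 11, true), (2, 77, true)], [(1, 42, true), (0, 24, true), (1, 22, true), (0, 12, true), (2, 21, true), (1, 89, true), (0, 90, true), (2, 88, true), (1, 11, true), (1, 10, true), (2, 14, true), (1, 85, true)]),
  ([0, 2, 10], [(0, 14, true), (6, 22, true), (5, 45, true), (4, 62, true), (3, 69, true), (2, 75, true), (1, 80, true), (0, 89, true), (6, 44, true), (5, 61, true), (4, 68, true), (3, 74, true), (2, 79, true), (1, 88, true), (7, 43, true), (6, 62, true), (5, 69, true), (4, 75, true), (3, 80, true), (2, 89, true), (1, 90, true), (0, 12, true), (5, 60, true), (4, 69, true), (3, 75, true), (2, 80, true), (1, 89, true), (0, 90, true), (5, 67, true), (4, 73, true), (3, 80, true), (2, 89, true), (1, 90, true), (0, 12, true), (2, 78, true), (1, 10, true)], [(1, 43, true), (0, 24, true), (1, 22, true), (0, 12, true), (2, 14, true), (1, 10, true)]),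
  ([0, 2, 11], [(0, 14, true), (6, 23, true), (5, 44, true), (4, 61, true), (3, 68, true), (2, 74, true), (1, 79, true), (0, 88, true)], [(1, 44, true), (0, 23, true), (1, 14, true)]),
  ([0, 2, 12], [(0, 14, true), (6, 24, true), (5, 45, true), (4, 62, true), (3, 69, true), (2, 75, true), (1, 80, true), (0, 89, true)], [(1, 45, true), (0, 24, true), (1, 14, true)]),
  ([0, 3, 4], [(0, 15, true), (5, 16, true), (4, 52, true), (3, 61, true), (2, 74, true), (1, 88, true), (4, 60, true), (3, 75, true), (2, 89, true), (1, 90, true), (0, 12, true), (2, 73, true), (1, 89, true), (0, 90, true), (2, 10, true), (4, 50, true), (3, 62, true), (2, 75, true), (1, 90, true), (0, 12, true), (2, 61, true), (1, 74, true), (0, 11, true), (1, 60, true), (0, 75, true), (1, 73, true), (0, 12, true), (2, 58, true), (1, 71, true), (0, 89, true), (1, 88, true), (6, 46, true), (5, 60, true), (4, 75, true), (3, 84, true), (2, 89, true), (1, 90, true), (0, 12, true), (3, 73, true), (2, 84, true), (1, 89, true), (0, 90, true), (3, 82, true), (2, 10, true), (4, 59, true), (3, 74, true), (2, 83, true), (1, 11, true),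 (2, 72, true), (1, 84, true), (0, 12, true), (0, 83, true), (1, 81, true), (0, 90, true), (5, 58, true), (4, 71, true), (3, 84, true), (2, 87, true), (1, 90, true), (0, 12, true), (2, 83, true), (1, 86, true), (0, 11, true), (1, 8, true), (0, 87, true), (3, 57, true), (2, 74, true), (1, 86, true), (3, 70, true), (2, 86, true), (1, 11, true), (4, 4, true)], [(1, 46, true), (0, 22, true), (3, 21, true), (2, 89, true), (1, 90, true), (0, 12, true), (1, 88, true), (0, 11, true), (0, 10, true), (1, 20, true), (0, 87, true), (1, 86, true), (4, 19, true), (3, 84, true), (2, 87, true), (1, 90, true), (0, 12, true), (4, 16, true), (3, 78, true), (2, 82, true), (1, 85, true), (4, 76, true), (3, 8, true), (2, 87, true), (1, 89, true), (0, 90, true), (6, 15, true), (5, 62, true), (4, 80, true), (3, 87, true), (2, 89, true), (1, 90, true), (0, 12, true), (4, 60, true), (3, 80, true), (2, 87, true), (1, 89, true), (0, 90, true), (4, 78, true), (3, 85, true), (2, 10, true), (4, 56, true), (3, 79, true), (2, 86, true), (1, 11, true), (4, 4, true)]),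
  ([0, 3, 5], [(0, 15, true), (5, 17, true), (4, 54, true), (3, 62, true), (2, 75, true), (1, 89, true), (0, 12, true), (3, 52, true), (2, 61, true), (1, 74, true), (0, 88, true), (3, 60, true), (2, 75, true), (1, 89, true), (0, 90, true), (3, 73, true), (2, 89, true), (1, 90, true), (0, 12, true), (1, 10, true), (3, 49, true), (2, 62, true), (1, 75, true), (0, 90, true), (3, 61, true), (2, 74, true), (1, 11, true), (2, 57, true), (1, 74, true), (2, 70, true), (1, 11, true), (4, 47, true), (3, 61, true), (2, 74, true), (1, 79, true), (4, 55, true), (3, 75, true), (2, 80, true), (1, 90, true), (0, 12, true), (2, 74, true), (1, 79, true), (0, 11, true)], [(1, 47, true), (0, 23, true), (1, 17, true), (0, 90, true), (5, 15, true), (4, 69, true), (3, 80, true), (2, 89, true), (1, 90, true), (0, 12, true), (3, 67, true), (2, 78, true), (1, 10, true), (2, 63, true), (1, 79, true), (0, 11, true)]),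
  ([0, 3, 6], [(0, 15, true), (5, 18, true), (4, 54, true), (3, 62, true), (2, 75, true), (1, 89, true), (0, 12, true), (3, 50, true), (2, 62, true), (1, 75, true), (0, 89, true), (3, 61, true), (2, 74, true), (1, 88, true), (4, 60, true), (3, 75, true), (2, 89, true), (1, 90, true), (0, 12, true), (2, 73, true), (1, 89, true), (0, 90, true), (2, 10, true), (3, 58, true), (2, 71, true), (1, 90, true), (0, 12, true), (0, 11, true), (3, 49, true), (2, 62, true), (1, 75, true), (0, 84, true), (3, 61, true), (2, 74, true), (1, 83, true), (4, 57, true), (3, 74, true), (2, 83, true), (1, 11, true), (2, 70, true), (1, 83, true), (6, 48, true), (5, 61, true), (4, 74, true), (3, 79, true), (2, 83, true), (1, 11, true), (4, 60, true), (3, 75, true), (2, 80, true), (1, 84, true), (0, 12, true), (2, 73, true), (1, 80, true), (0, 84, true), (2, 78, true), (1, 82, true), (5, 59, true), (4, 74, true), (3, 79, true), (2, 83, true), (1, 88, true), (5, 72, true), (4, 80, true), (3, 84, true), (2, 89, true), (1, 90, true), (0, 12, true), (3, 79, true), (2, 83, true), (1, 88, true), (0, 11, true), (2, 77, true),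 (1, 81, true), (0, 89, true), (6, 58, true), (5, 71, true), (4, 80, true), (3, 84, true), (2, 87, true), (1, 89, true), (0, 12, true), (3, 79, true), (2, 83, true), (1, 86, true), (0, 88, true), (4, 76, true), (3, 8, true), (2, 87, true), (1, 89, true), (0, 90, true), (6, 56, true), (5, 74, true), (4, 79, true), (3, 86, true), (2, 88, true), (1, 11, true), (4, 6, true), (3, 79, true), (2, 86, true), (1, 88, true)], [(1, 48, true), (0, 23, true), (1, 22, true), (0, 90, true), (1, 11, true), (2, 21, true), (1, 89, true), (0, 12, true), (0, 88, true), (1, 10, true), (2, 20, true), (1, 87, true), (0, 90, true), (2, 86, true), (1, 11, true), (3, 18, true), (2, 84, true), (1, 87, true), (0, 12, true), (1, 8, true), (0, 87, true), (4, 15, true), (3, 75, true), (2, 80, true), (1, 87, true), (0, 12, true), (2, 73, true), (1, 80, true), (0, 87, true), (2, 78, true), (1, 85, true), (4, 6, true), (3, 79, true), (2, 86, true), (1, 88, true)]),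
  ([0, 3, 7], [(0, 15, true), (5, 19, true), (4, 54, true), (3, 62, true), (2, 75, true), (1, 89, true), (0, 12, true), (3, 49, true), (2, 62, true), (1, 75, true), (0, 89, true), (3, 61, true), (2, 74, true), (1, 88, true), (4, 57, true), (3, 74, true), (2, 88, true), (1, 11, true), (2, 70, true), (1, 88, true)], [(1, 49, true), (0, 24, true), (1, 23, true), (2, 19, true), (1, 90, true), (0, 12, true), (2, 15, true), (1, 80, true), (0, 90, true), (2, 78, true)]),
  ([0, 3, 8], [(0, 15, true), (5, 20, true), (4, 54, true), (3, 62, true), (2, 75, true), (1, 89, true), (0, 12, true), (3, 53, true), (2, 61, true), (1, 74, true), (0, 88, true), (4, 50, true), (3, 62, true), (2, 75, true), (1, 89, true), (0, 90, true), (4, 61, true), (3, 74, true), (2, 88, true), (1, 11, true), (3, 60, true), (2, 75, true), (1, 89, true), (0, 12, true), (1, 73, true), (0, 89, true), (1, 10, true), (2, 58, true), (1, 71, true), (0, 12, true)], [(1, 50, true), (0, 24, true), (1, 23, true), (2, 22, true), (1, 90, true), (0, 12, true), (0, 11, true), (1, 20, true), (0, 89, true), (1, 88, true), (4, 15, true), (3,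 84, true), (2, 89, true), (1, 90, true), (0, 12, true), (2, 82, true), (1, 10, true)]),
  ([0, 3, 9], [(0, 15, true), (5, 21, true), (4, 54, true), (3, 62, true), (2, 75, true), (1, 89, true), (0, 12, true), (3, 53, true), (2, 61, true), (1, 74, true), (0, 88, true), (4, 52, true), (3, 61, true), (2, 74, true), (1, 88, true), (0, 11, true), (2, 60, true), (1, 75, true), (0, 89, true), (2, 73, true), (1, 89, true), (0, 12, true), (0, 10, true), (2, 51, true), (1, 62, true), (0, 75, true), (2, 61, true), (1, 74, true), (3, 60, true), (2, 75, true), (1, 90, true), (0, 12, true), (1, 73, true), (0, 90, true), (4, 59, true), (3, 74, true), (2, 88, true), (1, 11, true), (2, 72, true), (1, 89, true), (0, 12, true), (0, 88, true)], [(1, 51, true), (0, 24, true), (1, 23, true), (2, 22, true), (1, 90, true), (0, 12, true), (0, 11, true), (1, 21, true), (0, 89, true), (1, 88, true), (2, 10, true), (3, 15, true), (2, 87, true), (1, 90, true), (0, 12, true), (1, 85, true)]),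
  ([0, 3, 10], [(0, 15, true), (5, 22, true), (4, 54, true), (3, 62, true), (2, 75, true), (1, 89, true), (0, 12, true), (3, 53, true), (2, 61, true), (1, 74, true), (0, 88, true), (4, 52, true), (3, 61, true), (2, 74, true), (1, 88, true), (0, 11, true), (2, 60, true), (1, 75, true), (0, 89, true), (2, 73, true), (1, 89, true), (0, 12, true), (0, 10, true)], [(1, 52, true), (0, 23, true), (1, 22, true), (0, 90, true), (1, 11, true), (2, 15, true), (1, 89, true), (0, 12, true), (0, 10, true)]),
  ([0, 3, 11], [(0, 15, true), (5, 23, true), (4, 53, true), (3, 61, true), (2, 74, true), (1, 88, true)], [(1, 53, true), (0, 23, true), (1, 15, true), (0, 90, true)]),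
  ([0, 3, 12], [(0, 15, true), (5, 24, true), (4, 54, true), (3, 62, true), (2, 75, true), (1, 89, true), (0, 12, true)], [(1, 54, true), (0, 24, true), (1, 15, true), (0, 12, true)]),
  ([0, 4, 5], [(0, 16, true), (3, 17, true), (2, 62, true), (1, 84, true), (0, 89, true), (3, 60, true), (2, 84, true), (1, 89, true), (0, 12, true), (1, 82, true), (0, 10, true), (1, 57, true), (0, 83, true), (3, 55, true), (2, 80, true), (1, 84, true), (0, 90, true), (3, 79, true), (2, 83, true), (1, 11, true)], [(1, 55, true), (0, 24, true), (1, 23, true), (2, 17, true), (1, 90, true), (0, 12, true), (4, 16, true), (3, 67, true), (2, 78, true), (1, 10, true), (2, 65, true), (1, 80, true), (0, 90, true), (2, 79, true), (1, 11, true), (1, 76, true)]),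
  ([0, 4, 6], [(0, 16, true), (3, 18, true), (2, 62, true), (1, 84, true), (0, 89, true), (3, 58, true), (2, 8, true), (1, 89, true), (0, 12, true), (1, 57, true), (0, 88, true), (3, 56, true), (2, 79, true), (1, 88, true), (0, 11, true)], [(1, 56, true), (0, 23, true), (1, 18, true), (0, 90, true), (5, 16, true), (4, 73, true), (3, 80, true), (2, 84, true), (1, 90, true), (0, 12, true), (2, 78, true), (1, 82, true), (4, 71, true), (3, 80, true), (2, 84, true), (1, 89, true), (0, 90, true), (4, 79, true), (3, 83, true), (2, 88, true), (1, 11, true), (3, 76, true), (2, 8, true), (1, 89, true), (0, 12, true)]),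
  ([0, 4, 7], [(0, 16, true), (3, 19, true), (2, 62, true), (1, 84, true), (0, 89, true), (3, 57, true), (2, 83, true), (1, 88, true)], [(1, 57, true), (0, 23, true), (1, 19, true), (0, 90, true), (3, 16, true), (2, 78, true), (3, 76, true)]),
  ([0, 4, 8], [(0, 16, true), (3, 20, true), (2, 62, true), (1, 84, true), (0, 89, true), (3, 61, true), (2, 83, true), (1, 88, true), (4, 58, true), (3, 8, true), (2, 89, true), (1, 90, true), (0, 12, true)], [(1, 58, true), (0, 20, true), (3, 16, true), (2, 82, true), (3, 8, true), (2, 89, true), (1, 90, true), (0, 12, true)]),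
  ([0, 4, 9], [(0, 16, true), (3, 21, true), (2, 62, true), (1, 84, true), (0, 89, true), (3, 61, true), (2, 83, true), (1, 88, true), (4, 60, true), (3, 84, true), (2, 89, true), (1, 90, true), (0, 12, true), (2, 82, true), (1, 10, true), (2, 59, true), (1, 83, true), (0, 11, true), (0, 81, true)], [(1, 59, true), (0, 23, true), (1, 21, true), (0, 90, true), (1, 11, true), (3, 16, true), (2, 85, true), (1, 10, true)]),
  ([0, 4, 10], [(0, 16, true), (3, 22, true), (2, 62, true), (1, 84, true), (0, 89, true), (3, 61, true), (2, 83, true), (1, 88, true), (4, 60, true), (3, 84, true), (2, 89, true), (1, 90, true), (0, 12, true), (2, 82, true), (1, 10, true)], [(1, 60, true), (0, 24, true), (1, 22, true), (0, 12, true), (2, 16, true), (1, 10, true)]),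
  ([0, 4, 11], [(0, 16, true), (3, 23, true), (2, 61, true), (1, 83, true), (0, 88, true)], [(1, 61, true), (0, 23, true), (1, 16, true)]),
  ([0, 4, 12], [(0, 16, true), (3, 24, true), (2, 62, true), (1, 84, true), (0, 89, true)], [(1, 62, true), (0, 24, true), (1, 16, true)]),
  ([0, 5, 6], [(0, 17, true), (4, 18, true), (3, 69, true), (2, 80, true), (1, 89, true), (0, 12, true), (2, 65, true), (1, 80, true), (0, 89, true), (2, 79, true), (1, 88, true), (3, 76, true), (5, 64, true), (4, 7, true), (4, 63, true), (3, 83, true), (2, 88, true), (1, 11, true)], [(1, 63, true), (0, 23, true), (1, 18, true), (0, 90, true), (5, 17, true), (4, 75, true), (3, 80, true), (2, 84, true), (1, 90, true), (0, 12, true), (3, 73, true), (2, 80, true), (1, 84, true), (0, 90, true), (3, 78, true), (2, 82, true), (5, 70, true), (4, 79, true), (3, 83, true), (2, 88, true), (1, 11, true), (3, 7, true)]),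
  ([0, 5, 7], [(0, 17, true), (4, 19, true), (3, 69, true), (2, 80, true), (1, 89, true), (0, 12, true), (2, 64, true), (1, 7, true)], [(1, 64, true), (0, 19, true), (2, 17, true), (1, 80, true), (0, 12, true), (0, 78, true), (1, 7, true)]),
  ([0, 5, 8], [(0, 17, true), (4, 20, true), (3, 69, true), (2, 80, true), (1, 89, true), (0, 12, true), (2, 68, true), (1, 79, true), (0, 88, true), (3, 65, true), (2, 80, true), (1, 89, true), (0, 90, true), (3, 79, true), (2, 88, true), (1, 11, true), (2, 76, true)], [(1, 65, true), (0, 24, true), (1, 23, true), (2, 20, true), (1, 90, true), (0, 12, true), (0, 11, true), (1, 17, true), (0, 84, true), (1, 82, true)]),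
  ([0, 5, 9], [(0, 17, true), (4, 21, true), (3, 69, true), (2, 80, true), (1, 89, true), (0, 12, true), (2, 68, true), (1, 79, true), (0, 88, true), (3, 67, true), (2, 78, true), (1, 10, true), (2, 66, true), (1, 80, true), (0, 90, true), (2, 79, true), (1, 11, true), (1, 77, true)], [(1, 66, true), (0, 24, true), (1, 23, true), (2, 21, true), (1, 90, true), (0, 12, true), (0, 11, true), (2, 17, true), (1, 87, true), (0, 89, true), (2, 85, true), (1, 10, true)]),
  ([0, 5, 10], [(0, 17, true), (4, 22, true), (3, 69, true), (2, 80, true), (1, 89, true), (0, 12, true), (2, 68, true), (1, 79, true), (0, 88, true), (3, 67, true), (2, 78, true), (1, 10, true)], [(1, 67, true), (0, 22, true), (3, 17, true), (2, 89, true), (1, 90, true), (0, 12, true), (1, 10, true)]),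
  ([0, 5, 11], [(0, 17, true), (4, 23, true), (3, 68, true), (2, 79, true), (1, 88, true)], [(1, 68, true), (0, 23, true), (1, 17, true), (0, 90, true)]),
  ([0, 5, 12], [(0, 17, true), (4, 24, true), (3, 69, true), (2, 80, true), (1, 89, true), (0, 12, true)], [(1, 69, true), (0, 24, true), (1, 17, true), (0, 12, true)]),
  ([0, 6, 8], [(0, 18, true), (4, 20, true), (3, 75, true), (2, 80, true), (1, 84, true), (0, 12, true), (2, 74, true), (1, 79, true), (0, 83, true), (3, 71, true), (2, 80, true), (1, 84, true), (0, 90, true), (3, 79, true), (2, 83, true), (1, 11, true), (2, 76, true), (1, 8, true), (0, 12, true)], [(1, 71, true), (0, 24, true), (1, 23, true), (2, 20, true), (1, 90, true), (0, 12, true), (0, 11, true), (1, 18, true), (0, 84, true), (1, 8, true), (0, 12, true)]),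
  ([0, 6, 9], [(0, 18, true), (4, 21, true), (3, 75, true), (2, 80, true), (1, 84, true), (0, 12, true), (2, 74, true), (1, 79, true), (0, 83, true), (3, 73, true), (2, 80, true), (1, 84, true), (0, 90, true), (3, 78, true), (2, 82, true), (5, 72, true), (4, 80, true), (3, 84, true), (2, 89, true), (1, 90, true), (0, 12, true), (3, 79, true), (2, 83, true), (1, 88, true), (0, 11, true), (2, 77, true), (1, 81, true), (0, 89, true)], [(1, 72, true), (0, 24, true), (1, 23, true), (2, 21, true), (1, 90, true), (0, 12, true), (0, 11, true), (2, 18, true), (1, 87, true), (0, 89, true)]),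
  ([0, 6, 12], [(0, 18, true), (4, 24, true), (3, 75, true), (2, 80, true), (1, 84, true), (0, 12, true)], [(1, 75, true), (0, 24, true), (1, 18, true), (0, 12, true)]),
  ([0, 7, 9], [(0, 19, true), (2, 21, true), (1, 80, true), (0, 12, true), (0, 79, true), (1, 78, true), (2, 77, true)], [(1, 77, true), (0, 21, true), (4, 19, true), (3, 87, true), (2, 89, true), (1, 90, true), (0, 12, true)]),
  ([0, 8, 9], [(0, 20, true), (3, 21, true), (2, 84, true), (1, 90, true), (0, 12, true), (1, 83, true), (0, 11, true), (0, 82, true), (1, 81, true), (0, 89, true)], [(1, 81, true), (0, 24, true), (1, 21, true), (0, 12, true), (3, 20, true), (2, 87, true), (1, 89, true), (0, 90, true), (3, 86, true), (2, 88, true), (1, 11, true)]),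
  ([0, 9, 10], [(0, 21, true), (4, 22, true), (3, 87, true), (2, 89, true), (1, 90, true), (0, 12, true), (2, 86, true), (1, 88, true), (0, 11, true), (1, 85, true), (0, 10, true)], [(1, 85, true), (0, 22, true), (3, 21, true), (2, 89, true), (1, 90, true), (0, 12, true), (1, 88, true), (0, 11, true), (0, 10, true)]),
  ([1, 2, 3], [(0, 25, true), (7, 26, true), (6, 45, true), (5, 62, true), (4, 69, true), (3, 75, true), (2, 84, true), (1, 90, true), (0, 12, true), (5, 44, true), (4, 61, true), (3, 68, true), (2, 74, true), (1, 83, true), (0, 11, true), (4, 43, true), (3, 62, true), (2, 69, true), (1, 75, true), (0, 84, true), (4, 60, true), (3, 69, true), (2, 75, true), (1, 84, true), (0, 12, true), (2, 67, true), (1, 73, true), (0, 84, true), (1, 82, true), (6, 42, true), (5, 62, true), (4, 69, true), (3, 75, true), (2, 84, true), (1, 89, true), (0, 12, true), (4, 60, true), (3, 69, true), (2, 75, true), (1, 84, true), (0, 89, true), (4, 67, true), (3, 73, true), (2, 84, true), (1, 89, true), (0, 12, true), (1, 82, true), (0, 10, true), (3, 59, true), (2, 68, true), (1, 74, true), (0,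 83, true), (3, 66, true), (2, 75, true), (1, 84, true), (0, 90, true), (3, 74, true), (2, 83, true), (1, 11, true), (2, 72, true), (1, 84, true), (0, 12, true), (0, 83, true), (1, 81, true), (0, 90, true), (7, 41, true), (6, 62, true), (5, 69, true), (4, 75, true), (3, 84, true), (2, 87, true), (1, 90, true), (0, 12, true), (5, 61, true), (4, 68, true), (3, 74, true), (2, 83, true), (1, 86, true), (0, 11, true), (4, 58, true), (3, 65, true), (2, 75, true), (1, 84, true), (0, 87, true), (3, 74, true), (2, 83, true), (1, 86, true), (4, 71, true), (3, 84, true), (2, 87, true), (1, 90, true), (0, 12, true), (2, 83, true), (1, 86, true), (0, 11, true), (1, 8, true), (0, 87, true), (5, 40, true), (4, 61, true), (3, 68, true), (2, 74, true), (1, 86, true), (5, 57, true), (4, 68, true), (3, 74, true), (2, 86, true), (1, 11, true), (3, 64, true), (2, 70, true), (1, 86, true), (7, 39, true), (6, 61, true), (5, 68, true), (4, 74, true), (3, 79, true), (2, 86, true), (1, 11, true), (5, 58, true), (4, 65, true), (3, 75, true), (2, 80, true), (1, 87, true), (0, 12, true), (2, 74, true), (1, 79, true),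 (0, 86, true), (3, 71, true), (2, 80, true), (1, 87, true), (0, 90, true), (3, 79, true), (2, 86, true), (1, 11, true), (2, 76, true), (6, 57, true), (5, 68, true), (4, 74, true), (3, 79, true), (2, 83, true), (1, 86, true), (6, 64, true), (5, 70, true), (4, 79, true), (3, 83, true), (2, 86, true), (1, 11, true), (3, 7, true), (5, 56, true), (4, 68, true), (3, 74, true), (2, 83, true), (1, 86, true), (5, 63, true), (4, 74, true), (3, 83, true), (2, 86, true), (1, 11, true), (3, 6, true), (2, 83, true), (1, 86, true), (6, 38, true), (5, 62, true), (4, 69, true), (3, 84, true), (2, 87, true), (1, 90, true), (0, 12, true), (4, 61, true), (3, 68, true), (2, 83, true), (1, 86, true), (0, 11, true), (3, 60, true), (2, 69, true), (1, 84, true), (0, 87, true), (3, 67, true), (2, 82, true), (1, 85, true), (5, 57, true), (4, 68, true), (3, 83, true), (2, 86, true), (1, 88, true), (5, 64, true), (7, 55, true), (6, 69, true), (5, 80, true), (4, 84, true), (3, 87, true), (2, 89, true), (1, 90, true), (0, 12, true), (5, 68, true), (4, 79, true), (3, 83, true), (2, 86, true), (1, 88, true), (0, 11, true),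 (4, 5, true), (3, 79, true), (2, 83, true), (1, 86, true), (0, 88, true), (6, 36, true), (5, 62, true), (4, 80, true), (3, 84, true), (2, 87, true), (1, 89, true), (0, 90, true), (6, 61, true), (5, 79, true), (4, 83, true), (3, 86, true), (2, 88, true), (1, 11, true), (5, 60, true), (4, 80, true), (3, 84, true), (2, 87, true), (1, 89, true), (0, 12, true), (3, 78, true), (2, 82, true), (1, 85, true), (0, 10, true), (3, 59, true), (2, 79, true), (1, 83, true), (0, 86, true), (3, 77, true), (2, 81, true), (1, 87, true), (0, 90, true), (2, 9, true), (1, 90, true), (0, 12, true), (3, 58, true), (2, 76, true), (1, 8, true), (0, 90, true), (3, 56, true), (2, 79, true), (1, 11, true), (3, 55, true), (2, 75, true), (1, 80, true), (0, 12, true), (1, 74, true), (0, 79, true), (4, 4, true)], [(1, 36, true), (0, 35, true), (1, 34, true), (0, 12, true), (1, 33, true), (0, 11, true), (1, 32, true), (0, 88, true), (1, 10, true), (2, 31, true), (1, 86, true), (0, 11, true), (0, 85, true), (3, 29, true), (2, 83, true), (1, 86, true), (0, 88, true), (3, 82, true), (2, 85, true), (1, 10, true), (4, 28, true),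 (3, 75, true), (2, 84, true), (1, 87, true), (0, 90, true), (4, 74, true), (3, 83, true), (2, 86, true), (1, 11, true), (3, 73, true), (2, 84, true), (1, 87, true), (0, 12, true), (1, 82, true), (0, 85, true), (3, 72, true), (2, 84, true), (1, 87, true), (0, 89, true), (3, 83, true), (2, 86, true), (1, 88, true), (4, 81, true), (3, 87, true), (2, 89, true), (1, 90, true), (0, 12, true), (2, 9, true), (1, 89, true), (0, 90, true), (4, 71, true), (3, 84, true), (2, 89, true), (1, 90, true), (0, 12, true), (2, 83, true), (1, 88, true), (0, 11, true), (1, 8, true), (0, 89, true), (4, 27, true), (3, 68, true), (2, 74, true), (1, 88, true), (4, 67, true), (3, 73, true), (2, 89, true), (1, 90, true), (0, 12, true), (1, 10, true), (2, 66, true), (1, 75, true), (0, 90, true), (2, 74, true), (1, 11, true), (1, 72, true), (0, 12, true), (3, 64, true), (2, 70, true), (1, 86, true), (0, 11, true), (5, 26, true), (4, 62, true), (3, 69, true), (2, 75, true), (1, 80, true), (0, 87, true), (5, 61, true), (4, 68, true), (3, 74, true), (2, 79, true), (1, 86, true), (6, 60, true), (5, 69, true), (4, 75, true),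 (3, 80, true), (2, 87, true), (1, 90, true), (0, 12, true), (4, 67, true), (3, 73, true), (2, 80, true), (1, 87, true), (0, 90, true), (3, 78, true), (2, 85, true), (7, 59, true), (6, 68, true), (5, 74, true), (4, 79, true), (3, 86, true), (2, 88, true), (1, 11, true), (5, 66, true), (4, 75, true), (3, 80, true), (2, 87, true), (1, 89, true), (0, 12, true), (3, 74, true), (2, 79, true), (1, 86, true), (0, 88, true), (4, 72, true), (3, 80, true), (2, 87, true), (1, 89, true), (0, 90, true), (4, 79, true), (3, 86, true), (2, 88, true), (1, 11, true), (3, 77, true), (2, 9, true), (1, 89, true), (0, 12, true), (4, 58, true), (3, 65, true), (2, 75, true), (1, 80, true), (0, 89, true), (3, 74, true), (2, 79, true), (1, 88, true), (4, 71, true), (3, 80, true), (2, 89, true), (1, 90, true), (0, 12, true), (2, 79, true), (1, 88, true), (0, 11, true), (1, 76, true), (5, 57, true), (4, 68, true), (3, 74, true), (2, 79, true), (1, 83, true), (0, 88, true), (5, 64, true), (4, 70, true), (3, 79, true), (2, 83, true), (1, 88, true), (0, 11, true), (2, 7, true), (4, 56, true), (3, 68, true), (2, 74, true),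 (1, 83, true), (0, 88, true), (4, 63, true), (3, 74, true), (2, 83, true), (1, 88, true), (0, 11, true), (2, 6, true), (1, 83, true), (0, 88, true), (4, 55, true), (3, 69, true), (2, 84, true), (1, 89, true), (0, 90, true), (4, 68, true), (3, 83, true), (2, 88, true), (1, 11, true), (3, 5, true), (2, 83, true), (1, 88, true), (6, 25, true), (5, 54, true), (4, 62, true), (3, 84, true), (2, 89, true), (1, 90, true), (0, 12, true), (4, 53, true), (3, 61, true), (2, 83, true), (1, 88, true), (0, 11, true), (3, 50, true), (2, 62, true), (1, 84, true), (0, 89, true), (3, 61, true), (2, 83, true), (1, 88, true), (4, 60, true), (3, 84, true), (2, 89, true), (1, 90, true), (0, 12, true), (2, 82, true), (1, 10, true), (2, 58, true), (1, 8, true), (0, 90, true), (3, 48, true), (2, 61, true), (1, 11, true), (1, 60, true), (0, 12, true), (1, 59, true), (0, 88, true), (3, 58, true), (4, 56, true), (3, 83, true), (2, 86, true), (1, 88, true), (0, 11, true), (5, 47, true), (4, 61, true), (3, 74, true), (2, 83, true), (1, 86, true), (0, 88, true), (5, 55, true), (4, 75, true), (3, 84, true), (2, 87, true),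 (1, 89, true), (0, 90, true), (5, 74, true), (4, 83, true), (3, 86, true), (2, 88, true), (1, 11, true), (7, 46, true), (6, 60, true), (5, 69, true), (4, 75, true), (3, 84, true), (2, 87, true), (1, 89, true), (0, 12, true), (4, 67, true), (3, 73, true), (2, 84, true), (1, 87, true), (0, 89, true), (3, 82, true), (2, 85, true), (1, 10, true), (5, 59, true), (4, 68, true), (3, 74, true), (2, 83, true), (1, 86, true), (5, 66, true), (4, 75, true), (3, 84, true), (2, 87, true), (1, 90, true), (0, 12, true), (3, 74, true), (2, 83, true), (1, 86, true), (0, 11, true), (2, 72, true), (1, 84, true), (0, 87, true), (2, 83, true), (1, 86, true), (3, 81, true), (2, 87, true), (1, 90, true), (0, 12, true), (1, 9, true), (0, 90, true), (5, 58, true), (4, 65, true), (3, 75, true), (2, 84, true), (1, 90, true), (0, 12, true), (2, 74, true), (1, 83, true), (0, 11, true), (1, 71, true), (0, 84, true), (1, 83, true), (2, 8, true), (1, 90, true), (0, 12, true), (3, 57, true), (2, 68, true), (1, 74, true), (0, 11, true), (1, 64, true), (0, 70, true), (4, 4, true)]),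
  ([1, 2, 4], [(0, 25, true), (7, 27, true), (6, 44, true), (5, 61, true), (4, 68, true), (3, 74, true), (2, 83, true), (1, 11, true), (5, 43, true), (4, 62, true), (3, 69, true), (2, 75, true), (1, 84, true), (0, 12, true), (3, 60, true), (2, 69, true), (1, 75, true), (0, 84, true), (3, 67, true), (2, 73, true), (1, 84, true), (0, 12, true), (0, 82, true), (5, 42, true), (4, 62, true), (3, 69, true), (2, 75, true), (1, 84, true), (0, 89, true), (5, 60, true), (4, 69, true), (3, 75, true), (2, 84, true), (1, 89, true), (0, 12, true), (3, 67, true), (2, 73, true), (1, 84, true), (0, 89, true), (2, 82, true), (1, 10, true), (4, 59, true), (3, 68, true), (2, 74, true), (1, 83, true), (4, 66, true), (3, 75, true), (2, 84, true), (1, 90, true), (0, 12, true), (2, 74, true), (1, 83, true), (0, 11, true), (1, 72, true), (0, 84, true), (1, 83, true), (2, 81, true), (1, 90, true), (0, 12, true), (6, 40, true), (5, 61, true), (4, 68, true), (3, 74, true), (2, 83, true), (1, 86, true), (0, 11, true), (4, 57, true), (3, 68, true), (2, 74, true), (1, 83, true), (0, 86, true), (4, 64, true), (3, 70, true),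 (2, 83, true), (1, 86, true), (0, 11, true), (6, 37, true), (5, 62, true), (4, 69, true), (3, 75, true), (2, 80, true), (1, 84, true), (0, 87, true), (6, 61, true), (5, 68, true), (4, 74, true), (3, 79, true), (2, 83, true), (1, 86, true), (7, 60, true), (6, 69, true), (5, 75, true), (4, 80, true), (3, 84, true), (2, 87, true), (1, 90, true), (0, 12, true), (5, 67, true), (4, 73, true), (3, 80, true), (2, 84, true), (1, 87, true), (0, 90, true), (4, 78, true), (3, 82, true), (2, 85, true), (8, 58, true), (7, 65, true), (6, 75, true), (5, 80, true), (4, 84, true), (3, 87, true), (2, 89, true), (1, 90, true), (0, 12, true), (5, 74, true), (4, 79, true), (3, 83, true), (2, 86, true), (1, 88, true), (0, 11, true), (4, 71, true), (3, 80, true), (2, 84, true), (1, 87, true), (0, 89, true), (4, 79, true), (3, 83, true), (2, 86, true), (1, 88, true), (5, 76, true), (4, 8, true), (3, 87, true), (2, 89, true), (1, 90, true), (0, 12, true), (6, 4, true)], [(1, 37, true), (0, 35, true), (1, 34, true), (0, 12, true), (1, 33, true), (0, 11, true), (1, 31, true), (0, 88, true), (1, 10, true), (2, 27, true),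 (1, 83, true), (0, 11, true), (0, 82, true), (1, 81, true), (0, 89, true), (6, 25, true), (5, 62, true), (4, 80, true), (3, 84, true), (2, 87, true), (1, 89, true), (0, 12, true), (4, 61, true), (3, 79, true), (2, 83, true), (1, 86, true), (0, 88, true), (5, 58, true), (4, 76, true), (3, 8, true), (2, 87, true), (1, 89, true), (0, 90, true), (5, 56, true), (4, 79, true), (3, 86, true), (2, 88, true), (1, 11, true), (5, 55, true), (4, 75, true), (3, 80, true), (2, 87, true), (1, 89, true), (0, 12, true), (3, 74, true), (2, 79, true), (1, 86, true), (0, 88, true), (6, 4, true)]),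
  ([1, 2, 5], [(0, 25, true), (7, 28, true), (6, 45, true), (5, 62, true), (4, 69, true), (3, 75, true), (2, 84, true), (1, 90, true), (0, 12, true), (5, 44, true), (4, 61, true), (3, 68, true), (2, 74, true), (1, 83, true), (0, 11, true), (4, 43, true), (3, 62, true), (2, 69, true), (1, 75, true), (0, 84, true), (4, 60, true), (3, 69, true), (2, 75, true), (1, 84, true), (0, 12, true), (2, 67, true), (1, 73, true), (0, 84, true), (1, 82, true), (6, 42, true), (5, 62, true), (4, 69, true), (3, 75, true), (2, 84, true), (1, 89, true), (0, 12, true), (4, 60, true), (3, 69, true), (2, 75, true), (1, 84, true), (0, 89, true), (4, 67, true), (3, 73, true), (2, 84, true), (1, 89, true), (0, 12, true), (1, 82, true), (0, 10, true), (3, 59, true), (2, 68, true), (1, 74, true), (0, 83, true), (3, 66, true), (2, 75, true), (1, 84, true), (0, 90, true), (3, 74, true), (2, 83, true), (1, 11, true), (2, 72, true), (1, 84, true), (0, 12, true), (0, 83, true), (1, 81, true), (0, 90, true), (7, 41, true), (6, 62, true), (5, 69, true), (4, 75, true), (3, 84, true), (2, 87, true), (1, 90, true), (0, 12, true),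 (5, 61, true), (4, 68, true), (3, 74, true), (2, 83, true), (1, 86, true), (0, 11, true), (4, 58, true), (3, 65, true), (2, 75, true), (1, 84, true), (0, 87, true), (3, 74, true), (2, 83, true), (1, 86, true), (4, 71, true), (3, 84, true), (2, 87, true), (1, 90, true), (0, 12, true), (2, 83, true), (1, 86, true), (0, 11, true), (1, 8, true), (0, 87, true), (5, 38, true), (4, 62, true), (3, 69, true), (2, 75, true), (1, 87, true), (0, 12, true), (3, 61, true), (2, 68, true), (1, 74, true), (0, 86, true), (4, 60, true), (3, 69, true), (2, 75, true), (1, 87, true), (0, 90, true), (4, 67, true), (3, 73, true), (2, 87, true), (1, 90, true), (0, 12, true), (1, 85, true), (5, 57, true), (4, 68, true), (3, 74, true), (2, 86, true), (1, 88, true), (0, 11, true), (3, 64, true), (2, 70, true), (1, 86, true), (0, 88, true), (6, 55, true), (5, 69, true), (4, 75, true), (3, 80, true), (2, 87, true), (1, 89, true), (0, 90, true), (6, 68, true), (5, 74, true), (4, 79, true), (3, 86, true), (2, 88, true), (1, 11, true), (5, 5, true), (4, 74, true), (3, 79, true), (2, 86, true), (1, 88, true)], [(1, 38, true),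 (0, 35, true), (1, 34, true), (0, 12, true), (1, 33, true), (0, 11, true), (1, 30, true), (0, 89, true), (1, 10, true), (2, 28, true), (1, 80, true), (0, 12, true), (0, 79, true), (1, 78, true), (2, 77, true), (3, 76, true), (6, 25, true), (5, 69, true), (4, 80, true), (3, 84, true), (2, 87, true), (1, 89, true), (0, 90, true), (6, 68, true), (5, 79, true), (4, 83, true), (3, 86, true), (2, 88, true), (1, 11, true), (5, 65, true), (4, 80, true), (3, 84, true), (2, 87, true), (1, 89, true), (0, 12, true), (3, 79, true), (2, 83, true), (1, 86, true), (0, 88, true), (4, 76, true), (3, 8, true), (2, 87, true), (1, 89, true), (0, 90, true), (5, 63, true), (4, 79, true), (3, 86, true), (2, 88, true), (1, 11, true), (5, 5, true), (4, 74, true), (3, 79, true), (2, 86, true), (1, 88, true)]),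
  ([1, 2, 6], [(0, 25, true), (7, 29, true), (6, 44, true), (5, 61, true), (4, 68, true), (3, 74, true), (2, 83, true), (1, 11, true), (5, 43, true), (4, 62, true), (3, 69, true), (2, 75, true), (1, 84, true), (0, 12, true), (3, 60, true), (2, 69, true), (1, 75, true), (0, 84, true), (3, 67, true), (2, 73, true), (1, 84, true), (0, 12, true), (0, 82, true), (5, 39, true), (4, 61, true), (3, 68, true), (2, 74, true), (1, 83, true), (0, 88, true), (5, 58, true), (4, 65, true), (3, 75, true), (2, 84, true), (1, 89, true), (0, 90, true), (4, 74, true), (3, 83, true), (2, 88, true), (1, 11, true), (3, 71, true), (2, 84, true), (1, 89, true), (0, 12, true), (1, 83, true), (0, 88, true), (2, 8, true), (1, 89, true), (0, 90, true), (5, 57, true), (4, 68, true), (3, 74, true), (2, 88, true), (1, 11, true), (3, 64, true), (2, 70, true), (1, 88, true), (6, 56, true), (5, 68, true), (4, 74, true), (3, 79, true), (2, 88, true), (1, 11, true), (4, 63, true), (3, 74, true), (2, 79, true), (1, 88, true), (4, 6, true), (3, 79, true), (2, 88, true), (1, 11, true)], [(1, 39, true), (0, 34, true), (2, 31, true),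 (1, 11, true), (3, 30, true), (2, 84, true), (1, 89, true), (0, 12, true), (1, 82, true), (0, 10, true), (2, 29, true), (1, 79, true), (0, 83, true), (2, 78, true), (1, 82, true), (5, 25, true), (4, 75, true), (3, 80, true), (2, 84, true), (1, 89, true), (0, 90, true), (5, 74, true), (4, 79, true), (3, 83, true), (2, 88, true), (1, 11, true), (4, 71, true), (3, 80, true), (2, 84, true), (1, 89, true), (0, 12, true), (2, 79, true), (1, 83, true), (0, 88, true), (3, 76, true), (2, 8, true), (1, 89, true), (0, 90, true), (4, 6, true), (3, 79, true), (2, 88, true), (1, 11, true)]),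
  ([1, 2, 7], [(0, 25, true), (7, 30, true), (6, 45, true), (5, 62, true), (4, 69, true), (3, 75, true), (2, 84, true), (1, 90, true), (0, 12, true), (5, 43, true), (4, 62, true), (3, 69, true), (2, 75, true), (1, 84, true), (0, 90, true), (5, 60, true), (4, 69, true), (3, 75, true), (2, 84, true), (1, 90, true), (0, 12, true), (3, 67, true), (2, 73, true), (1, 84, true), (0, 90, true), (2, 82, true), (7, 40, true), (6, 61, true), (5, 68, true), (4, 74, true), (3, 83, true), (2, 88, true), (1, 11, true), (5, 57, true), (4, 68, true), (3, 74, true), (2, 83, true), (1, 88, true), (5, 64, true), (4, 70, true), (3, 83, true), (2, 88, true), (1, 11, true)], [(1, 40, true), (0, 34, true), (2, 30, true), (1, 90, true), (0, 12, true), (3, 25, true), (2, 80, true), (1, 89, true), (0, 90, true), (3, 79, true), (2, 88, true), (1, 11, true), (2, 76, true)]),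
  ([1, 2, 8], [(0, 25, true), (7, 31, true), (6, 44, true), (5, 61, true), (4, 68, true), (3, 74, true), (2, 83, true), (1, 11, true), (5, 43, true), (4, 62, true), (3, 69, true), (2, 75, true), (1, 84, true), (0, 12, true), (3, 60, true), (2, 69, true), (1, 75, true), (0, 84, true), (3, 67, true), (2, 73, true), (1, 84, true), (0, 12, true), (0, 82, true), (5, 41, true), (4, 62, true), (3, 69, true), (2, 75, true), (1, 84, true), (0, 89, true), (5, 61, true), (4, 68, true), (3, 74, true), (2, 83, true), (1, 88, true), (6, 58, true), (5, 65, true), (4, 75, true), (3, 84, true), (2, 89, true), (1, 90, true), (0, 12, true), (3, 74, true), (2, 83, true), (1, 88, true), (0, 11, true), (2, 71, true), (1, 84, true), (0, 89, true), (2, 83, true), (1, 88, true), (3, 8, true), (2, 89, true), (1, 90, true), (0, 12, true)], [(1, 41, true), (0, 35, true), (1, 34, true), (0, 12, true), (1, 31, true), (0, 11, true), (2, 25, true), (1, 84, true), (0, 89, true), (2, 83, true), (1, 88, true), (3, 8, true), (2, 89, true), (1, 90, true), (0, 12, true)]),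
  ([1, 2, 9], [(0, 25, true), (7, 32, true), (6, 44, true), (5, 61, true), (4, 68, true), (3, 74, true), (2, 83, true), (1, 11, true), (5, 43, true), (4, 62, true), (3, 69, true), (2, 75, true), (1, 84, true), (0, 12, true), (3, 60, true), (2, 69, true), (1, 75, true), (0, 84, true), (3, 67, true), (2, 73, true), (1, 84, true), (0, 12, true), (0, 82, true), (5, 42, true), (4, 62, true), (3, 69, true), (2, 75, true), (1, 84, true), (0, 89, true), (5, 60, true), (4, 69, true), (3, 75, true), (2, 84, true), (1, 89, true), (0, 12, true), (3, 67, true), (2, 73, true), (1, 84, true), (0, 89, true), (2, 82, true), (1, 10, true), (4, 59, true), (3, 68, true), (2, 74, true), (1, 83, true), (4, 66, true), (3, 75, true), (2, 84, true), (1, 90, true), (0, 12, true), (2, 74, true), (1, 83, true), (0, 11, true), (1, 72, true), (0, 84, true), (1, 83, true), (2, 81, true), (1, 90, true), (0, 12, true)], [(1, 42, true), (0, 35, true), (1, 33, true), (3, 32, true), (2, 88, true), (1, 11, true), (1, 10, true), (2, 25, true), (1, 87, true), (0, 12, true), (0, 86, true)]),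
  ([1, 2, 11], [(0, 25, true), (7, 34, true), (6, 45, true), (5, 62, true), (4, 69, true), (3, 75, true), (2, 84, true), (1, 90, true), (0, 12, true), (5, 44, true), (4, 61, true), (3, 68, true), (2, 74, true), (1, 83, true), (0, 11, true)], [(1, 44, true), (0, 34, true), (2, 25, true), (1, 90, true), (0, 12, true), (0, 11, true)]),
  ([1, 3, 4], [(0, 26, true), (9, 27, true), (8, 53, true), (7, 68, true), (6, 74, true), (5, 79, true), (4, 83, true), (3, 86, true), (2, 88, true), (1, 11, true), (7, 52, true), (6, 68, true), (5, 74, true), (4, 79, true), (3, 83, true), (2, 86, true), (1, 88, true), (7, 67, true), (6, 73, true), (5, 80, true), (4, 84, true), (3, 87, true), (2, 89, true), (1, 90, true), (0, 12, true), (4, 78, true), (3, 82, true), (2, 85, true), (1, 10, true), (6, 51, true), (5, 69, true), (4, 75, true), (3, 80, true), (2, 84, true), (1, 87, true), (0, 90, true), (6, 68, true), (5, 74, true), (4, 79, true), (3, 83, true), (2, 86, true), (1, 11, true), (5, 67, true), (4, 73, true), (3, 80, true), (2, 84, true), (1, 87, true), (0, 12, true), (2, 78, true), (1, 82, true), (0,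 85, true), (5, 66, true), (4, 75, true), (3, 80, true), (2, 84, true), (1, 87, true), (0, 89, true), (5, 74, true), (4, 79, true), (3, 83, true), (2, 86, true), (1, 88, true), (6, 72, true), (5, 80, true), (4, 84, true), (3, 87, true), (2, 89, true), (1, 90, true), (0, 12, true), (4, 79, true), (3, 83, true), (2, 86, true), (1, 88, true), (0, 11, true), (3, 77, true), (2, 81, true), (1, 87, true), (0, 89, true), (2, 9, true), (1, 89, true), (0, 12, true), (5, 49, true), (4, 69, true), (3, 75, true), (2, 80, true), (1, 84, true), (0, 89, true), (5, 68, true), (4, 74, true), (3, 79, true), (2, 83, true), (1, 88, true), (6, 64, true), (5, 70, true), (4, 79, true), (3, 83, true), (2, 88, true), (1, 11, true), (3, 7, true), (5, 46, true), (4, 67, true), (3, 73, true), (2, 84, true), (1, 89, true), (0, 12, true), (1, 82, true), (0, 10, true), (2, 66, true), (1, 75, true), (0, 84, true), (2, 74, true), (1, 83, true), (3, 72, true), (2, 84, true), (1, 90, true), (0, 12, true), (1, 83, true), (0, 11, true), (0, 81, true), (4, 65, true), (3, 75, true), (2, 84, true), (1, 87, true), (0, 12, true),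 (2, 74, true), (1, 83, true), (0, 86, true), (3, 71, true), (2, 84, true), (1, 87, true), (0, 90, true), (3, 83, true), (2, 86, true), (1, 11, true), (2, 8, true), (1, 87, true), (0, 12, true), (2, 64, true), (1, 70, true), (0, 86, true)], [(1, 46, true), (0, 33, true), (2, 32, true), (1, 88, true), (0, 11, true), (0, 10, true), (1, 31, true), (0, 86, true), (1, 85, true), (4, 30, true), (3, 84, true), (2, 87, true), (1, 89, true), (0, 90, true), (4, 82, true), (3, 85, true), (2, 10, true), (5, 27, true), (4, 79, true), (3, 83, true), (2, 86, true), (1, 11, true), (3, 78, true), (2, 82, true), (1, 85, true), (4, 77, true), (3, 81, true), (2, 87, true), (1, 89, true), (0, 12, true), (1, 9, true), (0, 89, true), (3, 7, true), (4, 26, true), (3, 62, true), (2, 84, true), (1, 89, true), (0, 12, true), (2, 61, true), (1, 83, true), (0, 88, true), (3, 60, true), (2, 84, true), (1, 89, true), (0, 90, true), (3, 82, true), (2, 10, true), (3, 59, true), (2, 83, true), (1, 11, true), (1, 81, true), (0, 12, true), (2, 58, true), (1, 8, true), (0, 87, true), (2, 57, true), (1, 86, true), (4, 56, true),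 (3, 79, true), (2, 86, true), (1, 11, true), (4, 55, true), (3, 75, true), (2, 80, true), (1, 87, true), (0, 12, true), (2, 74, true), (1, 79, true), (0, 86, true)]),
  ([1, 3, 5], [(0, 26, true), (9, 28, true), (8, 54, true), (7, 69, true), (6, 75, true), (5, 80, true), (4, 84, true), (3, 87, true), (2, 89, true), (1, 90, true), (0, 12, true), (7, 53, true), (6, 68, true), (5, 74, true), (4, 79, true), (3, 83, true), (2, 86, true), (1, 88, true), (0, 11, true), (6, 52, true), (5, 68, true), (4, 74, true), (3, 79, true), (2, 83, true), (1, 86, true), (0, 88, true), (6, 67, true), (5, 73, true), (4, 80, true), (3, 84, true), (2, 87, true), (1, 89, true), (0, 90, true), (5, 78, true), (4, 82, true), (3, 85, true), (2, 10, true), (7, 51, true), (6, 69, true), (5, 75, true), (4, 80, true), (3, 84, true), (2, 87, true), (1, 90, true), (0, 12, true), (5, 68, true), (4, 74, true), (3, 79, true), (2, 83, true), (1, 86, true), (0, 11, true), (4, 67, true), (3, 73, true), (2, 80, true), (1, 84, true), (0, 87, true), (3, 78, true), (2, 82, true), (1, 85, true), (6, 66, true), (5, 75, true), (4, 80,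 true), (3, 84, true), (2, 87, true), (1, 89, true), (0, 12, true), (4, 74, true), (3, 79, true), (2, 83, true), (1, 86, true), (0, 88, true), (5, 72, true), (4, 80, true), (3, 84, true), (2, 87, true), (1, 89, true), (0, 90, true), (5, 79, true), (4, 83, true), (3, 86, true), (2, 88, true), (1, 11, true), (4, 77, true), (3, 81, true), (2, 87, true), (1, 89, true), (0, 12, true), (1, 9, true), (0, 89, true), (6, 50, true), (5, 69, true), (4, 75, true), (3, 80, true), (2, 84, true), (1, 89, true), (0, 12, true), (4, 68, true), (3, 74, true), (2, 79, true), (1, 83, true), (0, 88, true), (5, 67, true), (4, 73, true), (3, 80, true), (2, 84, true), (1, 89, true), (0, 90, true), (4, 78, true), (3, 82, true), (2, 10, true), (5, 65, true), (4, 75, true), (3, 80, true), (2, 84, true), (1, 90, true), (0, 12, true), (3, 74, true), (2, 79, true), (1, 83, true), (0, 11, true), (2, 71, true), (1, 80, true), (0, 84, true), (2, 79, true), (1, 83, true), (3, 76, true), (2, 8, true), (1, 90, true), (0, 12, true), (4, 47, true), (3, 68, true), (2, 74, true), (1, 79, true), (0, 11, true), (2, 5, true), (1, 74,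 true), (0, 79, true)], [(1, 47, true), (0, 34, true), (2, 28, true), (1, 90, true), (0, 12, true), (0, 11, true), (4, 26, true), (3, 69, true), (2, 84, true), (1, 87, true), (0, 89, true), (4, 68, true), (3, 83, true), (2, 86, true), (1, 88, true), (5, 67, true), (4, 82, true), (3, 85, true), (2, 10, true), (4, 66, true), (3, 84, true), (2, 87, true), (1, 90, true), (0, 12, true), (2, 83, true), (1, 86, true), (0, 11, true), (1, 81, true), (0, 87, true), (1, 9, true), (0, 12, true), (1, 65, true), (0, 84, true), (1, 83, true), (2, 8, true), (1, 90, true), (0, 12, true), (1, 64, true), (2, 63, true), (1, 79, true), (0, 11, true), (2, 5, true), (1, 74, true), (0, 79, true)]),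
  ([1, 3, 6], [(0, 26, true), (9, 29, true), (8, 53, true), (7, 68, true), (6, 74, true), (5, 79, true), (4, 83, true), (3, 86, true), (2, 88, true), (1, 11, true), (7, 52, true), (6, 68, true), (5, 74, true), (4, 79, true), (3, 83, true), (2, 86, true), (1, 88, true), (7, 67, true), (6, 73, true), (5, 80, true), (4, 84, true), (3, 87, true), (2, 89, true), (1, 90, true), (0, 12, true), (4, 78, true), (3, 82, true), (2, 85, true), (1, 10, true), (6, 48, true), (5, 68, true), (4, 74, true), (3, 79, true), (2, 83, true), (1, 86, true), (0, 11, true), (4, 67, true), (3, 73, true), (2, 80, true), (1, 84, true), (0, 87, true), (3, 78, true), (2, 82, true), (1, 85, true), (6, 66, true), (5, 75, true), (4, 80, true), (3, 84, true), (2, 87, true), (1, 89, true), (0, 12, true), (4, 74, true), (3, 79, true), (2, 83, true), (1, 86, true), (0, 88, true), (5, 72, true), (4, 80, true), (3, 84, true), (2, 87, true), (1, 89, true), (0, 90, true), (5, 79, true), (4, 83, true), (3, 86, true), (2, 88, true), (1, 11, true), (4, 77, true), (3, 81, true), (2, 87, true), (1, 89, true), (0, 12, true), (1, 9, true),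 (0, 89, true), (5, 65, true), (4, 75, true), (3, 80, true), (2, 84, true), (1, 89, true), (0, 12, true), (3, 74, true), (2, 79, true), (1, 83, true), (0, 88, true), (4, 71, true), (3, 80, true), (2, 84, true), (1, 89, true), (0, 90, true), (4, 79, true), (3, 83, true), (2, 88, true), (1, 11, true), (3, 76, true), (2, 8, true), (1, 89, true), (0, 12, true), (3, 63, true), (2, 74, true), (1, 79, true), (0, 88, true), (3, 6, true), (2, 79, true), (1, 88, true), (0, 11, true)], [(1, 48, true), (0, 34, true), (2, 33, true), (1, 11, true), (2, 32, true), (1, 88, true), (2, 10, true), (3, 31, true), (2, 86, true), (1, 11, true), (1, 85, true), (4, 29, true), (3, 83, true), (2, 86, true), (1, 88, true), (4, 82, true), (3, 85, true), (2, 10, true), (5, 26, true), (4, 75, true), (3, 84, true), (2, 87, true), (1, 90, true), (0, 12, true), (3, 74, true), (2, 83, true), (1, 86, true), (0, 11, true), (2, 73, true), (1, 84, true), (0, 87, true), (2, 82, true), (1, 85, true), (4, 72, true), (3, 84, true), (2, 87, true), (1, 89, true), (0, 12, true), (2, 83, true), (1, 86, true), (0, 88, true), (3, 81, true),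 (2, 87, true), (1, 89, true), (0, 90, true), (3, 9, true), (2, 89, true), (1, 90, true), (0, 12, true), (3, 71, true), (2, 84, true), (1, 89, true), (0, 90, true), (3, 83, true), (2, 88, true), (1, 11, true), (2, 8, true), (1, 89, true), (0, 12, true), (1, 70, true), (0, 88, true), (3, 6, true), (2, 79, true), (1, 88, true), (0, 11, true)]),
  ([1, 3, 7], [(0, 26, true), (9, 30, true), (8, 54, true), (7, 69, true), (6, 75, true), (5, 80, true), (4, 84, true), (3, 87, true), (2, 89, true), (1, 90, true), (0, 12, true), (7, 52, true), (6, 68, true), (5, 74, true), (4, 79, true), (3, 83, true), (2, 86, true), (1, 88, true), (0, 11, true), (5, 67, true), (4, 73, true), (3, 80, true), (2, 84, true), (1, 87, true), (0, 89, true), (4, 78, true), (3, 82, true), (2, 85, true), (1, 10, true), (6, 49, true), (5, 69, true), (4, 75, true), (3, 80, true), (2, 84, true), (1, 87, true), (0, 12, true), (4, 68, true), (3, 74, true), (2, 79, true), (1, 83, true), (0, 86, true), (5, 64, true), (4, 70, true), (3, 79, true), (2, 83, true), (1, 86, true), (0, 11, true), (2, 7, true)], [(1, 49, true), (0, 35, true),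 (1, 34, true), (0, 12, true), (1, 30, true), (0, 90, true), (4, 26, true), (3, 80, true), (2, 89, true), (1, 90, true), (0, 12, true), (2, 79, true), (1, 88, true), (0, 11, true), (1, 78, true), (0, 10, true), (0, 77, true), (1, 76, true), (2, 7, true)]),
  ([1, 3, 9], [(0, 26, true), (9, 32, true), (8, 53, true), (7, 68, true), (6, 74, true), (5, 79, true), (4, 83, true), (3, 86, true), (2, 88, true), (1, 11, true), (7, 52, true), (6, 68, true), (5, 74, true), (4, 79, true), (3, 83, true), (2, 86, true), (1, 88, true), (7, 67, true), (6, 73, true), (5, 80, true), (4, 84, true), (3, 87, true), (2, 89, true), (1, 90, true), (0, 12, true), (4, 78, true), (3, 82, true), (2, 85, true), (1, 10, true), (6, 51, true), (5, 69, true), (4, 75, true), (3, 80, true), (2, 84, true), (1, 87, true), (0, 90, true), (6, 68, true), (5, 74, true), (4, 79, true), (3, 83, true), (2, 86, true), (1, 11, true), (5, 67, true), (4, 73, true), (3, 80, true), (2, 84, true), (1, 87, true), (0, 12, true), (2, 78, true), (1, 82, true), (0, 85, true), (5, 66, true), (4, 75, true), (3, 80, true), (2, 84, true), (1, 87,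 true), (0, 89, true), (5, 74, true), (4, 79, true), (3, 83, true), (2, 86, true), (1, 88, true), (6, 72, true), (5, 80, true), (4, 84, true), (3, 87, true), (2, 89, true), (1, 90, true), (0, 12, true), (4, 79, true), (3, 83, true), (2, 86, true), (1, 88, true), (0, 11, true), (3, 77, true), (2, 81, true), (1, 87, true), (0, 89, true), (2, 9, true), (1, 89, true), (0, 12, true)], [(1, 51, true), (0, 35, true), (1, 34, true), (0, 12, true), (1, 33, true), (0, 11, true), (1, 32, true), (0, 88, true), (1, 10, true), (2, 26, true), (1, 87, true), (0, 90, true), (2, 86, true), (1, 11, true), (1, 85, true), (2, 9, true), (1, 89, true), (0, 12, true)]),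
  ([1, 4, 5], [(0, 27, true), (5, 28, true), (4, 62, true), (3, 80, true), (2, 87, true), (1, 89, true), (0, 90, true), (5, 61, true), (4, 79, true), (3, 86, true), (2, 88, true), (1, 11, true), (4, 60, true), (3, 80, true), (2, 87, true), (1, 89, true), (0, 12, true), (2, 78, true), (1, 85, true), (0, 10, true), (2, 59, true), (1, 79, true), (0, 86, true), (2, 77, true), (1, 9, true), (0, 90, true), (3, 58, true), (2, 76, true), (4, 55, true), (3, 80, true), (2, 84, true), (1, 90, true), (0, 12, true), (2, 79, true), (1, 83, true), (0, 11, true)], [(1, 55, true), (0, 35, true), (1, 34, true), (0, 12, true), (1, 28, true), (0, 90, true), (1, 11, true), (5, 27, true), (4, 68, true), (3, 83, true), (2, 86, true), (1, 88, true), (5, 67, true), (4, 82, true), (3, 85, true), (2, 10, true), (4, 66, true), (3, 84, true), (2, 87, true), (1, 90, true), (0, 12, true), (2, 83, true), (1, 86, true), (0, 11, true), (1, 81, true), (0, 87, true), (1, 9, true), (0, 12, true), (1, 64, true)]),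
  ([2, 3, 4], [(0, 36, true), (9, 37, true), (8, 54, true), (7, 62, true), (6, 69, true), (5, 75, true), (4, 84, true), (3, 87, true), (2, 89, true), (1, 90, true), (0, 12, true), (7, 53, true), (6, 61, true), (5, 68, true), (4, 74, true), (3, 83, true), (2, 86, true), (1, 88, true), (0, 11, true), (6, 52, true), (5, 61, true), (4, 68, true), (3, 74, true), (2, 83, true), (1, 86, true), (0, 88, true), (6, 60, true), (5, 69, true), (4, 75, true), (3, 84, true), (2, 87, true), (1, 89, true), (0, 90, true), (6, 67, true), (5, 73, true), (4, 84, true), (3, 87, true), (2, 89, true), (1, 90, true), (0, 12, true), (3, 82, true), (2, 85, true), (1, 10, true), (6, 50, true), (5, 62, true), (4, 69, true), (3, 75, true), (2, 84, true), (1, 87, true), (0, 90, true), (6, 61, true), (5, 68, true), (4, 74, true), (3, 83, true), (2, 86, true), (1, 11, true), (5, 60, true), (4, 69, true), (3, 75, true), (2, 84, true), (1, 87, true), (0, 12, true), (3, 67, true), (2, 73, true), (1, 84, true), (0, 87, true), (2, 82, true), (1, 85, true), (6, 58, true), (5, 65, true), (4, 75, true), (3, 84, true), (2, 87, true),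 (1, 89, true), (0, 12, true), (3, 74, true), (2, 83, true), (1, 86, true), (0, 88, true), (4, 71, true), (3, 84, true), (2, 87, true), (1, 89, true), (0, 90, true), (4, 83, true), (3, 86, true), (2, 88, true), (1, 11, true), (3, 8, true), (2, 87, true), (1, 89, true), (0, 12, true), (5, 46, true), (4, 60, true), (3, 69, true), (2, 75, true), (1, 87, true), (0, 89, true), (4, 67, true), (3, 73, true), (2, 87, true), (1, 89, true), (0, 12, true), (1, 85, true), (0, 10, true), (3, 59, true), (2, 68, true), (1, 74, true), (0, 86, true), (3, 66, true), (2, 75, true), (1, 87, true), (0, 90, true), (3, 74, true), (2, 86, true), (1, 11, true), (2, 72, true), (1, 87, true), (0, 12, true), (0, 86, true), (1, 9, true), (0, 90, true), (4, 58, true), (3, 65, true), (2, 75, true), (1, 90, true), (0, 12, true), (1, 74, true), (0, 11, true), (0, 71, true), (5, 57, true), (4, 68, true), (3, 74, true), (2, 83, true), (1, 11, true), (3, 64, true), (2, 70, true), (1, 83, true), (6, 4, true)], [(1, 46, true), (0, 43, true), (2, 42, true), (1, 89, true), (0, 12, true), (0, 10, true), (1, 41, true), (0, 87, true),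 (1, 86, true), (4, 40, true), (3, 83, true), (2, 86, true), (1, 11, true), (4, 37, true), (3, 80, true), (2, 84, true), (1, 87, true), (0, 12, true), (2, 79, true), (1, 83, true), (0, 86, true), (3, 78, true), (2, 82, true), (1, 85, true), (4, 76, true), (3, 8, true), (2, 87, true), (1, 89, true), (0, 90, true), (6, 36, true), (5, 62, true), (4, 80, true), (3, 87, true), (2, 89, true), (1, 90, true), (0, 12, true), (4, 61, true), (3, 79, true), (2, 86, true), (1, 88, true), (0, 11, true), (3, 60, true), (2, 80, true), (1, 87, true), (0, 89, true), (3, 78, true), (2, 85, true), (1, 10, true), (3, 59, true), (2, 79, true), (1, 86, true), (3, 77, true), (2, 9, true), (1, 90, true), (0, 12, true), (2, 58, true), (1, 76, true), (3, 56, true), (2, 79, true), (1, 83, true), (0, 11, true), (3, 55, true), (2, 75, true), (1, 80, true), (0, 84, true), (3, 74, true), (2, 79, true), (1, 83, true), (6, 4, true)]),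
  ([2, 3, 5], [(0, 36, true), (9, 38, true), (8, 54, true), (7, 62, true), (6, 69, true), (5, 75, true), (4, 84, true), (3, 87, true), (2, 89, true), (1, 90, true), (0, 12, true), (7, 53, true), (6, 61, true), (5, 68, true), (4, 74, true), (3, 83, true), (2, 86, true), (1, 88, true), (0, 11, true), (6, 52, true), (5, 61, true), (4, 68, true), (3, 74, true), (2, 83, true), (1, 86, true), (0, 88, true), (6, 60, true), (5, 69, true), (4, 75, true), (3, 84, true), (2, 87, true), (1, 89, true), (0, 90, true), (6, 67, true), (5, 73, true), (4, 84, true), (3, 87, true), (2, 89, true), (1, 90, true), (0, 12, true), (3, 82, true), (2, 85, true), (1, 10, true), (6, 49, true), (5, 62, true), (4, 69, true), (3, 75, true), (2, 84, true), (1, 87, true), (0, 90, true), (6, 61, true), (5, 68, true), (4, 74, true), (3, 83, true), (2, 86, true), (1, 11, true), (5, 57, true), (4, 68, true), (3, 74, true), (2, 83, true), (1, 86, true), (5, 64, true), (4, 70, true), (3, 83, true), (2, 86, true), (1, 11, true), (7, 47, true), (6, 61, true), (5, 68, true), (4, 74, true), (3, 79, true), (2, 83, true), (1, 86, true),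 (7, 55, true), (6, 69, true), (5, 75, true), (4, 80, true), (3, 84, true), (2, 87, true), (1, 90, true), (0, 12, true), (5, 68, true), (4, 74, true), (3, 79, true), (2, 83, true), (1, 86, true), (0, 11, true), (4, 5, true), (3, 74, true), (2, 79, true), (1, 83, true), (0, 86, true)], [(1, 47, true), (0, 44, true), (1, 38, true), (0, 90, true), (1, 11, true), (4, 36, true), (3, 69, true), (2, 80, true), (1, 89, true), (0, 12, true), (2, 68, true), (1, 79, true), (0, 88, true), (3, 67, true), (2, 78, true), (1, 10, true), (2, 66, true), (1, 80, true), (0, 90, true), (2, 79, true), (1, 11, true), (1, 77, true), (3, 65, true), (2, 80, true), (1, 87, true), (0, 12, true), (1, 79, true), (0, 86, true), (2, 76, true), (4, 63, true), (3, 79, true), (2, 83, true), (1, 86, true), (0, 11, true), (4, 5, true), (3, 74, true), (2, 79, true), (1, 83, true), (0, 86, true)]),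
  ([0, 0, 0], [(0, 0, true)], [(1, 0, true), (0, 23, true), (1, 20, true), (0, 90, true), (1, 11, true), (2, 18, true), (1, 84, true), (0, 12, true), (0, 8, true), (3, 17, true), (2, 75, true), (1, 80, true), (0, 12, true), (1, 73, true), (0, 80, true), (1, 78, true), (3, 70, true), (2, 79, true), (1, 88, true), (3, 7, true), (5, 16, true), (4, 67, true), (3, 73, true), (2, 89, true), (1, 90, true), (0, 12, true), (1, 10, true), (2, 65, true), (1, 75, true), (0, 90, true), (2, 74, true), (1, 11, true), (1, 71, true), (0, 12, true)]),
  ([0, 0, 1], [(0, 0, true)], [(1, 13, true), (0, 24, true), (1, 23, true), (2, 22, true), (1, 90, true), (0, 12, true), (0, 11, true), (1, 20, true), (0, 89, true), (1, 88, true), (4, 19, true), (3, 84, true), (2, 89, true), (1, 90, true), (0, 12, true), (4, 17, true), (3, 80, true), (2, 84, true), (1, 89, true), (0, 90, true), (4, 78, true), (3, 82, true), (2, 10, true), (3, 7, true), (4, 16, true), (3, 67, true), (2, 82, true), (4, 65, true), (3, 84, true), (2, 89, true), (1, 90, true), (0, 12, true), (2, 83, true), (1, 88, true), (0, 11, true), (1, 8, true),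 (0, 89, true), (4, 13, true), (3, 62, true), (2, 69, true), (1, 89, true), (0, 12, true), (2, 61, true), (1, 68, true), (0, 88, true), (3, 60, true), (2, 69, true), (1, 89, true), (0, 90, true), (3, 67, true), (2, 10, true), (3, 58, true), (2, 65, true), (1, 90, true), (0, 12, true), (0, 11, true), (2, 57, true), (1, 68, true), (0, 83, true), (2, 64, true), (4, 55, true), (3, 69, true), (2, 80, true), (1, 84, true), (0, 90, true), (4, 68, true), (3, 79, true), (2, 83, true), (1, 11, true), (3, 5, true), (2, 79, true), (1, 83, true), (4, 4, true), (5, 0, true), (4, 34, true), (3, 80, true), (2, 84, true), (1, 90, true), (0, 12, true), (2, 79, true), (1, 83, true), (0, 11, true), (2, 31, true), (1, 79, true), (0, 83, true), (2, 78, true), (1, 82, true), (3, 76, true), (2, 8, true), (1, 89, true), (0, 90, true), (4, 29, true), (3, 79, true), (2, 88, true), (1, 11, true), (2, 78, true), (1, 10, true), (3, 28, true), (2, 75, true), (1, 80, true), (0, 12, true), (1, 74, true), (0, 79, true), (2, 73, true), (1, 80, true), (0, 90, true), (2, 78, true), (4, 72, true), (3, 80, true), (2, 89, true),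 (1, 90, true), (0, 12, true), (2, 79, true), (1, 88, true), (0, 11, true), (1, 77, true), (3, 71, true), (2, 80, true), (1, 87, true), (0, 89, true), (3, 79, true), (2, 86, true), (1, 88, true), (4, 76, true), (8, 27, true), (7, 68, true), (6, 74, true), (5, 79, true), (4, 83, true), (3, 86, true), (2, 88, true), (1, 11, true), (6, 67, true), (5, 73, true), (4, 80, true), (3, 84, true), (2, 87, true), (1, 89, true), (0, 12, true), (3, 78, true), (2, 82, true), (1, 85, true), (0, 10, true), (4, 66, true), (3, 75, true), (2, 80, true), (1, 84, true), (0, 87, true), (4, 74, true), (3, 79, true), (2, 83, true), (1, 86, true), (5, 72, true), (4, 80, true), (3, 84, true), (2, 87, true), (1, 90, true), (0, 12, true), (3, 79, true), (2, 83, true), (1, 86, true), (0, 11, true), (2, 77, true), (1, 81, true), (0, 87, true), (1, 9, true), (0, 12, true), (3, 64, true), (2, 70, true), (1, 79, true), (0, 83, true), (2, 7, true)]),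
  ([0, 1, 1], [(0, 13, true), (8, 13, true), (7, 35, true), (6, 62, true), (5, 69, true), (4, 80, true), (3, 84, true), (2, 89, true), (1, 90, true), (0, 12, true), (6, 34, true), (5, 62, true), (4, 69, true), (3, 80, true), (2, 84, true), (1, 89, true), (0, 90, true), (6, 61, true), (5, 68, true), (4, 79, true), (3, 83, true), (2, 88, true), (1, 11, true), (6, 33, true), (5, 61, true), (4, 68, true), (3, 79, true), (2, 83, true), (1, 88, true), (6, 60, true), (5, 69, true), (4, 80, true), (3, 84, true), (2, 89, true), (1, 90, true), (0, 12, true), (4, 67, true), (3, 78, true), (2, 82, true), (1, 10, true), (5, 31, true), (4, 61, true), (3, 68, true), (2, 79, true), (1, 83, true), (0, 11, true), (3, 60, true), (2, 69, true), (1, 80, true), (0, 84, true), (3, 67, true), (2, 78, true), (1, 82, true), (5, 58, true), (4, 65, true), (3, 80, true), (2, 84, true), (1, 89, true), (0, 12, true), (2, 79, true), (1, 83, true), (0, 88, true), (3, 76, true), (2, 8, true), (1, 89, true), (0, 90, true), (6, 30, true), (5, 62, true), (4, 69, true), (3, 80, true), (2, 89, true), (1, 90, true), (0, 12, true),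 (4, 60, true), (3, 69, true), (2, 80, true), (1, 89, true), (0, 90, true), (4, 67, true), (3, 78, true), (2, 10, true), (4, 57, true), (3, 68, true), (2, 79, true), (1, 11, true), (2, 64, true), (1, 7, true), (3, 28, true), (2, 62, true), (1, 69, true), (0, 12, true), (1, 61, true), (0, 68, true), (2, 60, true), (1, 69, true), (0, 90, true), (2, 67, true), (4, 59, true), (3, 68, true), (2, 88, true), (1, 11, true), (2, 66, true), (1, 89, true), (0, 12, true), (0, 88, true), (4, 58, true), (3, 65, true), (2, 87, true), (1, 89, true), (0, 90, true), (3, 86, true), (2, 88, true), (1, 11, true), (5, 55, true), (4, 69, true), (3, 84, true), (2, 87, true), (1, 89, true), (0, 12, true), (3, 68, true), (2, 83, true), (1, 86, true), (0, 88, true), (4, 5, true), (3, 83, true), (2, 86, true), (1, 88, true), (0, 11, true), (4, 27, true), (3, 61, true), (2, 83, true), (1, 86, true), (0, 88, true), (4, 60, true), (3, 84, true), (2, 87, true), (1, 89, true), (0, 90, true), (4, 82, true), (3, 85, true), (2, 10, true), (4, 59, true), (3, 83, true), (2, 86, true), (1, 11, true), (2, 81, true), (1, 87, true),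 (0, 12, true), (0, 9, true), (2, 57, true), (1, 83, true), (4, 4, true), (4, 1, true), (3, 80, true), (2, 84, true), (1, 90, true), (0, 12, true), (2, 79, true), (1, 83, true), (0, 11, true), (1, 78, true), (0, 82, true), (2, 7, true)], [(1, 1, true), (0, 24, true), (1, 23, true), (2, 22, true), (1, 90, true), (0, 12, true), (0, 11, true), (1, 19, true), (0, 89, true), (3, 18, true), (2, 80, true), (1, 89, true), (0, 12, true), (1, 76, true), (2, 7, true)]),
  ([0, 0, 2], [(0, 0, true)], [(1, 14, true), (0, 22, true), (3, 19, true), (2, 89, true), (1, 90, true), (0, 12, true), (3, 18, true), (2, 80, true), (1, 89, true), (0, 90, true), (3, 76, true), (4, 7, true), (5, 17, true), (4, 75, true), (3, 84, true), (2, 89, true), (1, 90, true), (0, 12, true), (3, 73, true), (2, 84, true), (1, 89, true), (0, 90, true), (3, 82, true), (2, 10, true), (3, 70, true), (2, 83, true), (1, 11, true), (5, 16, true), (4, 67, true), (3, 73, true), (2, 80, true), (1, 84, true), (0, 12, true), (1, 78, true), (0, 82, true), (4, 65, true), (3, 75, true), (2, 80, true), (1, 84, true), (0, 89, true), (4, 74, true),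 (3, 79, true), (2, 83, true), (1, 88, true), (5, 71, true), (4, 80, true), (3, 84, true), (2, 89, true), (1, 90, true), (0, 12, true), (3, 79, true), (2, 83, true), (1, 88, true), (0, 11, true), (2, 76, true), (1, 8, true), (0, 89, true), (6, 14, true), (5, 60, true), (4, 69, true), (3, 75, true), (2, 80, true), (1, 89, true), (0, 12, true), (3, 67, true), (2, 73, true), (1, 80, true), (0, 89, true), (2, 78, true), (1, 10, true), (4, 57, true), (3, 68, true), (2, 74, true), (1, 79, true), (4, 64, true), (3, 70, true), (2, 79, true), (1, 11, true), (1, 7, true), (3, 56, true), (2, 68, true), (1, 74, true), (3, 63, true), (2, 74, true), (1, 11, true), (1, 6, true), (3, 55, true), (2, 69, true), (1, 90, true), (0, 12, true), (1, 68, true), (0, 11, true), (0, 5, true), (1, 4, true), (2, 0, true), (1, 44, true), (0, 11, true), (0, 41, true), (3, 39, true), (2, 83, true), (1, 11, true), (1, 8, true), (0, 12, true), (2, 38, true), (1, 75, true), (0, 80, true), (2, 74, true), (1, 79, true), (3, 73, true), (2, 80, true), (1, 90, true), (0, 12, true), (1, 78, true), (3, 70, true), (2, 79, true), (1,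 88, true), (0, 11, true), (1, 7, true), (3, 37, true), (2, 69, true), (1, 75, true), (0, 89, true), (3, 68, true), (2, 74, true), (1, 88, true), (4, 67, true), (3, 73, true), (2, 89, true), (1, 90, true), (0, 12, true), (1, 10, true), (2, 65, true), (1, 75, true), (0, 90, true), (2, 74, true), (1, 11, true), (1, 71, true), (0, 12, true)]),
  ([0, 0, 3], [(0, 0, true)], [(1, 15, true), (0, 24, true), (1, 22, true), (0, 12, true), (2, 18, true), (1, 89, true), (0, 90, true), (6, 16, true), (5, 73, true), (4, 80, true), (3, 84, true), (2, 89, true), (1, 90, true), (0, 12, true), (3, 78, true), (2, 82, true), (1, 10, true), (3, 71, true), (2, 80, true), (1, 84, true), (0, 90, true), (3, 79, true), (2, 83, true), (1, 11, true), (2, 76, true), (1, 8, true), (0, 12, true), (3, 15, true), (2, 62, true), (1, 75, true), (0, 80, true), (3, 60, true), (2, 75, true), (1, 80, true), (0, 12, true), (1, 73, true), (0, 80, true), (1, 78, true), (4, 56, true), (3, 74, true), (2, 79, true), (1, 88, true), (4, 6, true), (3, 79, true), (2, 88, true), (1, 11, true), (3, 4, true), (4, 0, true), (3, 53, true),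 (2, 79, true), (1, 88, true), (4, 50, true), (3, 80, true), (2, 89, true), (1, 90, true), (0, 12, true), (2, 79, true), (1, 88, true), (0, 11, true), (1, 78, true), (0, 10, true), (0, 76, true), (2, 48, true), (1, 79, true), (0, 83, true), (2, 78, true), (1, 82, true), (3, 77, true), (2, 81, true), (1, 89, true), (0, 90, true), (5, 76, true), (4, 8, true), (3, 87, true), (2, 89, true), (1, 90, true), (0, 12, true), (5, 47, true), (4, 74, true), (3, 79, true), (2, 86, true), (1, 88, true), (0, 11, true), (5, 46, true), (4, 67, true), (3, 73, true), (2, 80, true), (1, 87, true), (0, 89, true), (3, 78, true), (2, 85, true), (1, 10, true), (4, 66, true), (3, 75, true), (2, 80, true), (1, 87, true), (0, 12, true), (2, 74, true), (1, 79, true), (0, 86, true), (3, 72, true), (2, 80, true), (1, 87, true), (0, 90, true), (3, 79, true), (2, 86, true), (1, 11, true), (2, 77, true), (1, 9, true), (0, 12, true), (2, 65, true), (1, 75, true), (0, 80, true), (2, 74, true), (1, 79, true), (3, 71, true), (2, 80, true), (1, 90, true), (0, 12, true), (1, 79, true), (0, 11, true), (0, 76, true), (3, 64, true),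 (2, 70, true), (1, 79, true), (0, 83, true), (2, 7, true)]),
  ([0, 3, 3], [(0, 15, true), (5, 15, true), (4, 54, true), (3, 62, true), (2, 75, true), (1, 89, true), (0, 12, true), (3, 52, true), (2, 61, true), (1, 74, true), (0, 88, true), (3, 60, true), (2, 75, true), (1, 89, true), (0, 90, true), (3, 73, true), (2, 89, true), (1, 90, true), (0, 12, true), (1, 10, true), (3, 48, true), (2, 61, true), (1, 74, true), (0, 11, true), (1, 60, true), (0, 75, true), (1, 73, true), (0, 12, true), (2, 59, true), (1, 74, true), (0, 88, true), (2, 72, true), (1, 89, true), (0, 90, true), (2, 88, true), (1, 11, true), (4, 58, true), (3, 71, true), (2, 87, true), (1, 89, true), (0, 12, true), (1, 86, true), (0, 88, true), (5, 56, true), (4, 74, true), (3, 83, true), (2, 86, true), (1, 88, true), (0, 11, true), (3, 6, true), (2, 83, true), (1, 86, true), (0, 88, true), (5, 46, true), (4, 60, true), (3, 84, true), (2, 87, true), (1, 89, true), (0, 90, true), (4, 82, true), (3, 85, true), (2, 10, true), (4, 59, true), (3, 83, true), (2, 86, true), (1, 11, true), (2, 81, true), (1, 87, true), (0, 12, true),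 (0, 9, true), (2, 58, true), (1, 8, true), (0, 12, true), (0, 57, true), (2, 4, true), (2, 3, true), (1, 80, true), (0, 90, true), (2, 79, true), (1, 11, true), (1, 78, true), (2, 77, true), (3, 76, true)], [(1, 3, true), (0, 24, true), (1, 23, true), (2, 22, true), (1, 90, true), (0, 12, true), (0, 11, true), (1, 21, true), (0, 89, true), (1, 88, true), (2, 10, true), (3, 20, true), (2, 87, true), (1, 90, true), (0, 12, true), (1, 86, true), (0, 11, true), (2, 17, true), (1, 84, true), (0, 87, true), (2, 82, true), (1, 85, true)]),
  ([0, 0, 4], [(0, 0, true), (4, 4, true)], [(1, 16, true), (0, 22, true), (3, 20, true), (2, 89, true), (1, 90, true), (0, 12, true), (1, 88, true), (0, 11, true), (2, 16, true), (1, 82, true), (0, 10, true), (0, 8, true), (2, 0, true), (1, 61, true), (2, 58, true), (3, 56, true), (2, 83, true), (1, 11, true), (3, 55, true), (2, 75, true), (1, 84, true), (0, 12, true), (1, 74, true), (0, 83, true), (4, 4, true)]),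
  ([0, 0, 5], [(0, 0, true), (4, 55, true), (3, 69, true), (2, 75, true), (1, 84, true), (0, 90, true), (4, 68, true), (3, 74, true), (2, 83, true), (1, 11, true), (3, 5, true), (2, 74, true), (1, 83, true)], [(1, 17, true), (0, 24, true), (1, 22, true), (0, 12, true), (2, 19, true), (1, 89, true), (0, 90, true), (4, 17, true), (3, 80, true), (2, 89, true), (1, 90, true), (0, 12, true), (2, 78, true), (1, 10, true), (1, 7, true), (2, 0, true), (1, 68, true), (0, 11, true), (0, 65, true), (3, 63, true), (2, 83, true), (1, 11, true), (3, 5, true), (2, 74, true), (1, 83, true)]),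
  ([1, 1, 2], [(0, 1, true)], [(1, 25, true), (0, 35, true), (1, 34, true), (0, 12, true), (1, 31, true), (0, 11, true), (2, 29, true), (1, 83, true), (0, 88, true), (2, 82, true), (1, 10, true), (3, 28, true), (2, 75, true), (1, 84, true), (0, 90, true), (3, 74, true), (2, 83, true), (1, 11, true), (2, 73, true), (1, 84, true), (0, 12, true), (0, 82, true), (2, 72, true), (1, 84, true), (0, 89, true), (2, 83, true), (1, 88, true), (3, 81, true), (2, 89, true), (1, 90, true), (0, 12, true), (4, 71, true), (3, 84, true), (2, 87, true), (1, 89, true), (0, 90, true), (4, 83, true), (3, 86, true), (2, 88, true), (1, 11, true), (3, 8, true), (2, 87, true), (1, 89, true), (0, 12, true), (4, 27, true), (3, 68, true), (2, 74, true), (1, 86, true), (0, 88, true), (4, 67, true), (3, 73, true), (2, 87, true), (1, 89, true), (0, 90, true), (3, 85, true), (2, 10, true), (4, 66, true), (3, 75, true), (2, 87, true), (1, 90, true), (0, 12, true), (2, 74, true), (1, 86, true), (0, 11, true), (1, 72, true), (0, 87, true), (1, 86, true), (2, 9, true), (1, 90, true), (0, 12, true), (2, 64, true), (1, 70, true),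 (0, 11, true), (4, 25, true), (3, 62, true), (2, 69, true), (1, 75, true), (0, 80, true), (4, 61, true), (3, 68, true), (2, 74, true), (1, 79, true), (5, 58, true), (4, 65, true), (3, 75, true), (2, 80, true), (1, 90, true), (0, 12, true), (2, 74, true), (1, 79, true), (0, 11, true), (1, 71, true), (0, 80, true), (1, 79, true), (2, 76, true), (6, 56, true), (5, 68, true), (4, 74, true), (3, 79, true), (2, 83, true), (1, 11, true), (4, 63, true), (3, 74, true), (2, 79, true), (1, 83, true), (4, 6, true), (3, 79, true), (2, 83, true), (1, 11, true), (4, 55, true), (3, 69, true), (2, 80, true), (1, 84, true), (0, 12, true), (2, 68, true), (1, 79, true), (0, 83, true), (3, 5, true), (2, 79, true), (1, 83, true), (0, 11, true), (2, 4, true), (3, 1, true), (2, 45, true), (1, 80, true), (0, 84, true), (3, 44, true), (2, 79, true), (1, 83, true), (4, 43, true), (3, 80, true), (2, 84, true), (1, 90, true), (0, 12, true), (2, 78, true), (1, 82, true), (4, 40, true), (3, 79, true), (2, 83, true), (1, 88, true), (0, 11, true), (2, 7, true), (2, 39, true), (1, 83, true), (0, 88, true), (2, 8, true),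 (1, 89, true), (0, 90, true)]),
  ([1, 1, 3], [(0, 1, true)], [(1, 26, true), (0, 35, true), (1, 34, true), (0, 12, true), (1, 33, true), (0, 11, true), (1, 32, true), (0, 88, true), (1, 10, true), (2, 31, true), (1, 86, true), (0, 11, true), (0, 85, true), (3, 30, true), (2, 84, true), (1, 87, true), (0, 89, true), (3, 82, true), (2, 85, true), (1, 10, true), (4, 29, true), (3, 79, true), (2, 83, true), (1, 86, true), (4, 78, true), (3, 82, true), (2, 85, true), (7, 28, true), (6, 75, true), (5, 80, true), (4, 84, true), (3, 87, true), (2, 89, true), (1, 90, true), (0, 12, true), (5, 74, true), (4, 79, true), (3, 83, true), (2, 86, true), (1, 88, true), (0, 11, true), (4, 73, true), (3, 80, true), (2, 84, true), (1, 87, true), (0, 89, true), (4, 78, true), (3, 82, true), (2, 85, true), (1, 10, true), (4, 72, true), (3, 80, true), (2, 84, true), (1, 87, true), (0, 12, true), (2, 79, true), (1, 83, true), (0, 86, true), (3, 77, true), (2, 81, true), (1, 87, true), (0, 90, true), (2, 9, true), (1, 90, true), (0, 12, true), (3, 71, true), (2, 80, true), (1, 84, true), (0, 90, true), (3, 79,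 true), (2, 83, true), (1, 11, true), (2, 76, true), (1, 8, true), (0, 12, true), (3, 26, true), (2, 69, true), (1, 75, true), (0, 80, true), (3, 68, true), (2, 74, true), (1, 79, true), (4, 67, true), (3, 73, true), (2, 80, true), (1, 90, true), (0, 12, true), (1, 78, true), (4, 66, true), (3, 75, true), (2, 80, true), (1, 89, true), (0, 90, true), (4, 74, true), (3, 79, true), (2, 88, true), (1, 11, true), (3, 72, true), (2, 80, true), (1, 89, true), (0, 12, true), (1, 79, true), (0, 88, true), (2, 77, true), (5, 65, true), (4, 75, true), (3, 80, true), (2, 87, true), (1, 89, true), (0, 90, true), (5, 74, true), (4, 79, true), (3, 86, true), (2, 88, true), (1, 11, true), (4, 71, true), (3, 80, true), (2, 87, true), (1, 89, true), (0, 12, true), (2, 79, true), (1, 86, true), (0, 88, true), (3, 76, true), (6, 64, true), (5, 70, true), (4, 79, true), (3, 83, true), (2, 86, true), (1, 88, true), (0, 11, true), (3, 7, true), (4, 63, true), (3, 74, true), (2, 83, true), (1, 86, true), (0, 88, true), (4, 6, true), (3, 83, true), (2, 86, true), (1, 88, true), (0, 11, true), (3, 5, true), (2, 83,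 true), (1, 86, true), (0, 88, true), (5, 1, true), (4, 54, true), (3, 84, true), (2, 87, true), (1, 89, true), (0, 90, true), (5, 53, true), (4, 83, true), (3, 86, true), (2, 88, true), (1, 11, true), (4, 52, true), (3, 83, true), (2, 86, true), (1, 88, true), (4, 82, true), (3, 85, true), (2, 10, true), (4, 49, true), (3, 84, true), (2, 87, true), (1, 90, true), (0, 12, true), (2, 83, true), (1, 86, true), (0, 11, true), (3, 48, true), (2, 79, true), (1, 83, true), (0, 86, true), (3, 78, true), (2, 82, true), (1, 85, true), (4, 77, true), (3, 81, true), (2, 87, true), (1, 89, true), (0, 90, true), (3, 9, true), (2, 89, true), (1, 90, true), (0, 12, true), (3, 76, true), (2, 8, true), (1, 89, true), (0, 90, true)]),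
  ([1, 3, 3], [(0, 26, true), (9, 26, true), (8, 54, true), (7, 69, true), (6, 75, true), (5, 80, true), (4, 84, true), (3, 87, true), (2, 89, true), (1, 90, true), (0, 12, true), (7, 53, true), (6, 68, true), (5, 74, true), (4, 79, true), (3, 83, true), (2, 86, true), (1, 88, true), (0, 11, true), (6, 52, true), (5, 68, true), (4, 74, true), (3, 79, true), (2, 83, true), (1, 86, true), (0, 88, true), (6, 67, true), (5, 73, true), (4, 80, true), (3, 84, true), (2, 87, true), (1, 89, true), (0, 90, true), (5, 78, true), (4, 82, true), (3, 85, true), (2, 10, true), (7, 51, true), (6, 69, true), (5, 75, true), (4, 80, true), (3, 84, true), (2, 87, true), (1, 90, true), (0, 12, true), (5, 68, true), (4, 74, true), (3, 79, true), (2, 83, true), (1, 86, true), (0, 11, true), (4, 67, true), (3, 73, true), (2, 80, true), (1, 84, true), (0, 87, true), (3, 78, true), (2, 82, true), (1, 85, true), (6, 66, true), (5, 75, true), (4, 80, true), (3, 84, true), (2, 87, true), (1, 89, true), (0, 12, true), (4, 74, true), (3, 79, true), (2, 83, true), (1, 86, true), (0, 88, true), (5, 72, true), (4, 80, true),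 (3, 84, true), (2, 87, true), (1, 89, true), (0, 90, true), (5, 79, true), (4, 83, true), (3, 86, true), (2, 88, true), (1, 11, true), (4, 77, true), (3, 81, true), (2, 87, true), (1, 89, true), (0, 12, true), (1, 9, true), (0, 89, true), (6, 50, true), (5, 69, true), (4, 75, true), (3, 80, true), (2, 84, true), (1, 89, true), (0, 12, true), (4, 68, true), (3, 74, true), (2, 79, true), (1, 83, true), (0, 88, true), (5, 67, true), (4, 73, true), (3, 80, true), (2, 84, true), (1, 89, true), (0, 90, true), (4, 78, true), (3, 82, true), (2, 10, true), (5, 65, true), (4, 75, true), (3, 80, true), (2, 84, true), (1, 90, true), (0, 12, true), (3, 74, true), (2, 79, true), (1, 83, true), (0, 11, true), (2, 71, true), (1, 80, true), (0, 84, true), (2, 79, true), (1, 83, true), (3, 76, true), (2, 8, true), (1, 90, true), (0, 12, true), (4, 49, true), (3, 69, true), (2, 75, true), (1, 80, true), (0, 90, true), (4, 68, true), (3, 74, true), (2, 79, true), (1, 11, true), (3, 64, true), (2, 70, true), (1, 79, true), (2, 7, true), (4, 48, true), (3, 68, true), (2, 74, true), (1, 11, true), (2, 67, true),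 (1, 73, true), (0, 12, true), (2, 66, true), (1, 75, true), (0, 89, true), (2, 74, true), (1, 88, true), (3, 72, true), (2, 89, true), (1, 90, true), (0, 12, true), (1, 88, true), (0, 11, true), (3, 65, true), (2, 75, true), (1, 87, true), (0, 89, true), (3, 74, true), (2, 86, true), (1, 88, true), (4, 71, true), (3, 87, true), (2, 89, true), (1, 90, true), (0, 12, true), (2, 86, true), (1, 88, true), (0, 11, true), (4, 63, true), (3, 74, true), (2, 83, true), (1, 86, true), (0, 88, true), (4, 6, true), (3, 83, true), (2, 86, true), (1, 88, true), (0, 11, true), (4, 47, true), (3, 68, true), (2, 83, true), (1, 86, true), (0, 88, true), (4, 5, true), (3, 83, true), (2, 86, true), (1, 88, true), (0, 11, true), (3, 3, true), (2, 84, true), (1, 87, true), (0, 89, true), (3, 83, true), (2, 86, true), (1, 88, true), (4, 82, true), (3, 85, true), (2, 10, true), (3, 81, true), (2, 87, true), (1, 90, true), (0, 12, true), (1, 9, true), (0, 90, true), (2, 8, true), (1, 90, true), (0, 12, true)], [(1, 3, true), (0, 35, true), (1, 34, true), (0, 12, true), (1, 33, true), (0, 11, true), (1, 32, true),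 (0, 88, true), (1, 10, true), (2, 31, true), (1, 86, true), (0, 11, true), (0, 85, true), (3, 28, true), (2, 84, true), (1, 87, true), (0, 89, true), (3, 83, true), (2, 86, true), (1, 88, true), (4, 82, true), (3, 85, true), (2, 10, true), (3, 81, true), (2, 87, true), (1, 90, true), (0, 12, true), (1, 9, true), (0, 90, true), (2, 8, true), (1, 90, true), (0, 12, true)]),
  ([1, 1, 4], [(0, 1, true)], [(1, 27, true), (0, 34, true), (2, 33, true), (1, 11, true), (2, 32, true), (1, 88, true), (2, 10, true), (3, 30, true), (2, 87, true), (1, 90, true), (0, 12, true), (1, 85, true), (4, 27, true), (3, 79, true), (2, 86, true), (1, 88, true), (0, 11, true), (2, 78, true), (1, 85, true), (0, 10, true), (1, 77, true), (0, 9, true), (1, 7, true), (2, 1, true), (1, 62, true), (0, 12, true), (0, 61, true), (1, 60, true), (0, 90, true), (3, 57, true), (2, 88, true), (1, 11, true), (3, 56, true), (2, 79, true), (1, 88, true)]),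
  ([2, 2, 3], [(0, 2, true)], [(1, 36, true), (0, 45, true), (1, 44, true), (2, 43, true), (1, 90, true), (0, 12, true), (2, 42, true), (1, 89, true), (0, 90, true), (2, 10, true), (3, 41, true), (2, 87, true), (1, 90, true), (0, 12, true), (1, 86, true), (0, 11, true), (2, 39, true), (1, 83, true), (0, 86, true), (2, 8, true), (1, 87, true), (0, 90, true), (5, 38, true), (4, 75, true), (3, 80, true), (2, 87, true), (1, 90, true), (0, 12, true), (3, 74, true), (2, 79, true), (1, 86, true), (0, 11, true), (2, 73, true), (1, 80, true), (0, 87, true), (2, 78, true), (1, 85, true), (4, 70, true), (3, 79, true), (2, 86, true), (1, 88, true), (4, 7, true), (6, 37, true), (5, 69, true), (4, 75, true), (3, 87, true), (2, 89, true), (1, 90, true), (0, 12, true), (4, 68, true), (3, 74, true), (2, 86, true), (1, 88, true), (0, 11, true), (3, 67, true), (2, 73, true), (1, 87, true), (0, 89, true), (2, 85, true), (1, 10, true), (3, 65, true), (2, 75, true), (1, 87, true), (0, 12, true), (1, 74, true), (0, 86, true), (2, 71, true), (1, 87, true), (0, 90, true), (2, 86, true), (1, 11, true), (6, 36, true),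 (5, 62, true), (4, 69, true), (3, 75, true), (2, 84, true), (1, 87, true), (0, 12, true), (4, 61, true), (3, 68, true), (2, 74, true), (1, 83, true), (0, 86, true), (5, 60, true), (4, 69, true), (3, 75, true), (2, 84, true), (1, 87, true), (0, 90, true), (5, 67, true), (4, 73, true), (3, 84, true), (2, 87, true), (1, 90, true), (0, 12, true), (2, 82, true), (1, 85, true), (6, 59, true), (5, 68, true), (4, 74, true), (3, 83, true), (2, 86, true), (1, 88, true), (0, 11, true), (4, 66, true), (3, 75, true), (2, 84, true), (1, 87, true), (0, 89, true), (4, 74, true), (3, 83, true), (2, 86, true), (1, 88, true), (5, 72, true), (4, 84, true), (3, 87, true), (2, 89, true), (1, 90, true), (0, 12, true), (3, 83, true), (2, 86, true), (1, 88, true), (0, 11, true), (2, 81, true), (1, 87, true), (0, 89, true), (2, 9, true), (1, 89, true), (0, 12, true), (4, 58, true), (3, 65, true), (2, 75, true), (1, 84, true), (0, 89, true), (3, 74, true), (2, 83, true), (1, 88, true), (4, 71, true), (3, 84, true), (2, 89, true), (1, 90, true), (0, 12, true), (2, 83, true), (1, 88, true), (0, 11, true), (1, 8, true),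 (0, 89, true), (4, 56, true), (3, 68, true), (2, 74, true), (1, 88, true), (4, 63, true), (3, 74, true), (2, 88, true), (1, 11, true), (2, 6, true), (1, 88, true), (4, 55, true), (3, 69, true), (2, 89, true), (1, 90, true), (0, 12, true), (2, 68, true), (1, 88, true), (0, 11, true), (1, 5, true), (0, 88, true), (2, 4, true), (3, 2, true), (2, 53, true), (1, 88, true), (0, 11, true), (1, 52, true), (0, 88, true), (1, 10, true), (1, 50, true), (0, 90, true), (1, 11, true), (3, 49, true), (2, 84, true), (1, 89, true), (0, 12, true), (1, 83, true), (0, 88, true)])]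

/-- A conjugation. -/
def twoSuzFus0 : Schur.Tails.Fus where
  xs := [[12, 11, 9, 8, 7, 6, 4, 3, 0], [12, 11, 4, 3, 2], [12, 11, 9, 8, 7, 6, 5, 4, 2], [12, 11, 10, 9, 8, 7, 4, 3, 2, 0], [12, 8, 7], [12, 9, 8, 7, 5], [12, 11, 9, 6, 5, 4], [11, 10, 8, 5], [12, 11, 10, 7], [12, 11, 10], [11], [12, 11]]
  ys := [[12, 10, 8, 7, 6, 5, 4, 3, 2], [12, 11, 4, 3, 2], [11, 10, 8, 7, 5, 0], [12, 11, 7, 5, 4, 3], [12, 11, 10, 8, 7, 6, 5, 4], [12, 11, 9, 8, 5], [8, 7, 5], [10, 9, 6, 5, 4], [12, 10], [11, 10, 7], [12], [12, 11]]
  rels := [
    ([0, 0], [11, 9, 7, 5], [(8, 24, true), (7, 54, true), (6, 62, true), (5, 75, true), (4, 80, true), (3, 84, true), (2, 87, true), (1, 90, true), (0, 12, true), (7, 23, true), (6, 53, true), (5, 61, true), (4, 74, true), (3, 79, true), (2, 83, true), (1, 86, true), (0, 11, true), (6, 21, true), (5, 54, true), (4, 62, true), (3, 75, true), (2, 80, true), (1, 84, true), (0, 87, true), (6, 53, true), (5, 61, true), (4, 74, true), (3, 79, true), (2, 83, true), (1, 86, true), (7, 52, true), (6, 61, true), (5, 74, true), (4, 79, true), (3, 83, true), (2, 86, true), (1,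 11, true), (5, 60, true), (4, 75, true), (3, 80, true), (2, 84, true), (1, 87, true), (0, 12, true), (3, 73, true), (2, 80, true), (1, 84, true), (0, 87, true), (3, 78, true), (2, 82, true), (1, 85, true), (7, 51, true), (6, 62, true), (5, 75, true), (4, 80, true), (3, 84, true), (2, 87, true), (1, 89, true), (0, 12, true), (5, 61, true), (4, 74, true), (3, 79, true), (2, 83, true), (1, 86, true), (0, 88, true), (6, 60, true), (5, 75, true), (4, 80, true), (3, 84, true), (2, 87, true), (1, 89, true), (0, 90, true), (6, 73, true), (5, 80, true), (4, 84, true), (3, 87, true), (2, 89, true), (1, 90, true), (0, 12, true), (4, 78, true), (3, 82, true), (2, 85, true), (1, 10, true), (5, 59, true), (4, 74, true), (3, 79, true), (2, 83, true), (1, 86, true), (0, 11, true), (3, 72, true), (2, 80, true), (1, 84, true), (0, 87, true), (3, 79, true), (2, 83, true), (1, 86, true), (4, 77, true), (3, 81, true), (2, 87, true), (1, 90, true), (0, 12, true), (1, 9, true), (0, 90, true), (7, 20, true), (6, 54, true), (5, 62, true), (4, 75, true), (3, 80, true), (2, 84, true), (1, 90, true), (0, 12, true),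 (5, 53, true), (4, 61, true), (3, 74, true), (2, 79, true), (1, 83, true), (0, 11, true), (4, 50, true), (3, 62, true), (2, 75, true), (1, 80, true), (0, 84, true), (4, 61, true), (3, 74, true), (2, 79, true), (1, 83, true), (5, 60, true), (4, 75, true), (3, 80, true), (2, 84, true), (1, 90, true), (0, 12, true), (3, 73, true), (2, 80, true), (1, 84, true), (0, 90, true), (3, 78, true), (2, 82, true), (6, 58, true), (5, 71, true), (4, 80, true), (3, 84, true), (2, 89, true), (1, 90, true), (0, 12, true), (3, 79, true), (2, 83, true), (1, 88, true), (0, 11, true), (2, 76, true), (1, 8, true), (0, 89, true), (6, 19, true), (5, 54, true), (4, 62, true), (3, 75, true), (2, 80, true), (1, 89, true), (0, 12, true), (4, 49, true), (3, 62, true), (2, 75, true), (1, 80, true), (0, 89, true), (4, 61, true), (3, 74, true), (2, 79, true), (1, 88, true), (5, 57, true), (4, 74, true), (3, 79, true), (2, 88, true), (1, 11, true), (3, 70, true), (2, 79, true), (1, 88, true), (3, 7, true), (6, 18, true), (5, 54, true), (4, 62, true), (3, 75, true), (2, 89, true), (1, 90, true), (0, 12, true), (4, 50, true),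 (3, 62, true), (2, 75, true), (1, 89, true), (0, 90, true), (4, 61, true), (3, 74, true), (2, 88, true), (1, 11, true), (3, 60, true), (2, 75, true), (1, 89, true), (0, 12, true), (1, 73, true), (0, 89, true), (1, 10, true), (2, 58, true), (1, 71, true), (0, 12, true), (4, 49, true), (3, 62, true), (2, 75, true), (1, 84, true), (0, 90, true), (4, 61, true), (3, 74, true), (2, 83, true), (1, 11, true), (3, 57, true), (2, 74, true), (1, 83, true), (3, 70, true), (2, 83, true), (1, 11, true), (5, 48, true), (4, 61, true), (3, 74, true), (2, 79, true), (1, 83, true), (5, 60, true), (4, 75, true), (3, 80, true), (2, 84, true), (1, 90, true), (0, 12, true), (3, 73, true), (2, 80, true), (1, 84, true), (0, 90, true), (3, 78, true), (2, 82, true), (6, 59, true), (5, 74, true), (4, 79, true), (3, 83, true), (2, 88, true), (1, 11, true), (4, 72, true), (3, 80, true), (2, 84, true), (1, 89, true), (0, 12, true), (2, 79, true), (1, 83, true), (0, 88, true), (3, 77, true), (2, 81, true), (1, 89, true), (0, 90, true), (7, 58, true), (6, 71, true), (5, 80, true), (4, 84, true), (3, 87, true), (2, 89, true),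 (1, 90, true), (0, 12, true), (4, 79, true), (3, 83, true), (2, 86, true), (1, 88, true), (0, 11, true), (3, 76, true), (2, 8, true), (1, 87, true), (0, 89, true), (5, 56, true), (4, 74, true), (3, 79, true), (2, 86, true), (1, 88, true), (5, 6, true), (4, 79, true), (3, 86, true), (2, 88, true), (1, 11, true), (6, 16, true), (5, 52, true), (4, 61, true), (3, 79, true), (2, 86, true), (1, 88, true), (5, 60, true), (4, 80, true), (3, 87, true), (2, 89, true), (1, 90, true), (0, 12, true), (3, 78, true), (2, 85, true), (1, 10, true), (4, 50, true), (3, 62, true), (2, 80, true), (1, 87, true), (0, 90, true), (4, 61, true), (3, 79, true), (2, 86, true), (1, 11, true), (3, 60, true), (2, 80, true), (1, 87, true), (0, 12, true), (1, 78, true), (0, 85, true), (3, 58, true), (2, 76, true), (5, 46, true), (4, 60, true), (3, 80, true), (2, 84, true), (1, 87, true), (0, 89, true), (4, 78, true), (3, 82, true), (2, 85, true), (1, 10, true), (4, 59, true), (3, 79, true), (2, 83, true), (1, 86, true), (4, 77, true), (3, 81, true), (2, 87, true), (1, 90, true), (0, 12, true), (1, 9, true), (0, 90, true),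 (4, 58, true), (3, 76, true), (2, 8, true), (1, 90, true), (0, 12, true), (2, 57, true), (1, 79, true), (0, 11, true), (0, 7, true), (0, 4, true), (1, 15, true), (0, 54, true), (1, 52, true), (3, 48, true), (2, 88, true), (1, 11, true), (1, 10, true), (4, 46, true), (3, 73, true), (2, 84, true), (1, 87, true), (0, 12, true), (1, 82, true), (0, 85, true), (3, 72, true), (2, 84, true), (1, 87, true), (0, 89, true), (3, 83, true), (2, 86, true), (1, 88, true), (4, 81, true), (3, 87, true), (2, 89, true), (1, 90, true), (0, 12, true), (2, 9, true), (1, 89, true), (0, 90, true), (4, 71, true), (3, 84, true), (2, 89, true), (1, 90, true), (0, 12, true), (2, 83, true), (1, 88, true), (0, 11, true), (1, 8, true), (0, 89, true), (2, 70, true), (1, 88, true), (6, 3, true), (5, 62, true), (4, 75, true), (3, 80, true), (2, 89, true), (1, 90, true), (0, 12, true), (4, 61, true), (3, 74, true), (2, 79, true), (1, 88, true), (0, 11, true), (3, 60, true), (2, 75, true), (1, 80, true), (0, 89, true), (3, 73, true), (2, 80, true), (1, 89, true), (0, 12, true), (1, 78, true), (0, 10, true), (2, 59, true),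 (1, 74, true), (0, 79, true), (2, 72, true), (1, 80, true), (0, 90, true), (2, 79, true), (1, 11, true), (1, 77, true), (4, 58, true), (3, 71, true), (2, 80, true), (1, 87, true), (0, 12, true), (1, 79, true), (0, 86, true), (2, 76, true), (5, 55, true), (4, 75, true), (3, 80, true), (2, 84, true), (1, 87, true), (0, 90, true), (5, 74, true), (4, 79, true), (3, 83, true), (2, 86, true), (1, 11, true), (7, 0, true), (6, 61, true), (5, 68, true), (4, 74, true), (3, 79, true), (2, 83, true), (1, 86, true), (7, 58, true), (6, 65, true), (5, 75, true), (4, 80, true), (3, 84, true), (2, 87, true), (1, 90, true), (0, 12, true), (4, 74, true), (3, 79, true), (2, 83, true), (1, 86, true), (0, 11, true), (3, 71, true), (2, 80, true), (1, 84, true), (0, 87, true), (3, 79, true), (2, 83, true), (1, 86, true), (4, 76, true), (3, 8, true), (2, 87, true), (1, 90, true), (0, 12, true), (5, 56, true), (4, 68, true), (3, 74, true), (2, 79, true), (1, 86, true), (0, 11, true), (3, 63, true), (2, 74, true), (1, 79, true), (0, 86, true), (3, 6, true), (2, 79, true), (1, 86, true), (0, 11, true), (3, 55, true),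 (2, 69, true), (1, 80, true), (0, 87, true), (3, 68, true), (2, 79, true), (1, 86, true), (4, 5, true), (3, 79, true), (2, 86, true), (1, 11, true), (3, 4, true), (1, 11, false), (2, 86, false), (3, 79, false), (4, 5, false), (3, 64, false), (0, 90, false), (1, 87, false), (2, 8, false), (0, 86, false), (1, 83, false), (0, 12, false), (1, 87, false), (2, 84, false), (3, 65, false), (0, 81, false), (0, 11, false), (1, 83, false), (0, 12, false), (1, 90, false), (2, 84, false), (3, 66, false), (0, 90, false), (1, 84, false), (2, 69, false), (1, 10, false), (0, 88, false), (0, 11, false), (0, 12, false), (1, 90, false)], [(8, 45, true), (7, 54, true), (6, 62, true), (5, 69, true), (4, 75, true), (3, 80, true), (2, 84, true), (1, 89, true), (0, 12, true), (7, 43, true), (6, 54, true), (5, 62, true), (4, 69, true), (3, 75, true), (2, 80, true), (1, 84, true), (0, 89, true), (7, 52, true), (6, 61, true), (5, 68, true), (4, 74, true), (3, 79, true), (2, 83, true), (1, 88, true), (7, 60, true), (6, 69, true), (5, 75, true), (4, 80, true), (3, 84, true), (2, 89, true), (1, 90, true), (0, 12, true),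 (5, 67, true), (4, 73, true), (3, 80, true), (2, 84, true), (1, 89, true), (0, 90, true), (4, 78, true), (3, 82, true), (2, 10, true), (8, 41, true), (7, 54, true), (6, 62, true), (5, 69, true), (4, 75, true), (3, 80, true), (2, 84, true), (1, 90, true), (0, 12, true), (6, 53, true), (5, 61, true), (4, 68, true), (3, 74, true), (2, 79, true), (1, 83, true), (0, 11, true), (5, 50, true), (4, 62, true), (3, 69, true), (2, 75, true), (1, 80, true), (0, 84, true), (5, 61, true), (4, 68, true), (3, 74, true), (2, 79, true), (1, 83, true), (6, 60, true), (5, 69, true), (4, 75, true), (3, 80, true), (2, 84, true), (1, 90, true), (0, 12, true), (4, 67, true), (3, 73, true), (2, 80, true), (1, 84, true), (0, 90, true), (3, 78, true), (2, 82, true), (7, 58, true), (6, 65, true), (5, 75, true), (4, 80, true), (3, 84, true), (2, 89, true), (1, 90, true), (0, 12, true), (4, 74, true), (3, 79, true), (2, 83, true), (1, 88, true), (0, 11, true), (3, 71, true), (2, 80, true), (1, 84, true), (0, 89, true), (3, 79, true), (2, 83, true), (1, 88, true), (4, 76, true), (3, 8, true), (2, 89, true), (1, 90, true),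 (0, 12, true), (7, 40, true), (6, 53, true), (5, 61, true), (4, 68, true), (3, 74, true), (2, 79, true), (1, 88, true), (0, 11, true), (5, 49, true), (4, 62, true), (3, 69, true), (2, 75, true), (1, 80, true), (0, 89, true), (5, 61, true), (4, 68, true), (3, 74, true), (2, 79, true), (1, 88, true), (6, 57, true), (5, 68, true), (4, 74, true), (3, 79, true), (2, 88, true), (1, 11, true), (4, 64, true), (3, 70, true), (2, 79, true), (1, 88, true), (3, 7, true), (7, 39, true), (6, 53, true), (5, 61, true), (4, 68, true), (3, 74, true), (2, 88, true), (1, 11, true), (5, 50, true), (4, 62, true), (3, 69, true), (2, 75, true), (1, 89, true), (0, 12, true), (3, 61, true), (2, 68, true), (1, 74, true), (0, 88, true), (4, 60, true), (3, 69, true), (2, 75, true), (1, 89, true), (0, 90, true), (4, 67, true), (3, 73, true), (2, 89, true), (1, 90, true), (0, 12, true), (1, 10, true), (3, 58, true), (2, 65, true), (1, 75, true), (0, 90, true), (2, 74, true), (1, 11, true), (1, 71, true), (0, 12, true), (5, 49, true), (4, 62, true), (3, 69, true), (2, 75, true), (1, 84, true), (0, 90, true), (5, 61, true),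 (4, 68, true), (3, 74, true), (2, 83, true), (1, 11, true), (4, 57, true), (3, 68, true), (2, 74, true), (1, 83, true), (4, 64, true), (3, 70, true), (2, 83, true), (1, 11, true), (6, 48, true), (5, 61, true), (4, 68, true), (3, 74, true), (2, 79, true), (1, 83, true), (6, 60, true), (5, 69, true), (4, 75, true), (3, 80, true), (2, 84, true), (1, 90, true), (0, 12, true), (4, 67, true), (3, 73, true), (2, 80, true), (1, 84, true), (0, 90, true), (3, 78, true), (2, 82, true), (7, 59, true), (6, 68, true), (5, 74, true), (4, 79, true), (3, 83, true), (2, 88, true), (1, 11, true), (5, 66, true), (4, 75, true), (3, 80, true), (2, 84, true), (1, 89, true), (0, 12, true), (3, 74, true), (2, 79, true), (1, 83, true), (0, 88, true), (4, 72, true), (3, 80, true), (2, 84, true), (1, 89, true), (0, 90, true), (4, 79, true), (3, 83, true), (2, 88, true), (1, 11, true), (3, 77, true), (2, 81, true), (1, 89, true), (0, 12, true), (6, 58, true), (5, 65, true), (4, 75, true), (3, 80, true), (2, 84, true), (1, 87, true), (0, 89, true), (5, 74, true), (4, 79, true), (3, 83, true), (2, 86, true), (1, 88, true),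 (6, 71, true), (5, 80, true), (4, 84, true), (3, 87, true), (2, 89, true), (1, 90, true), (0, 12, true), (4, 79, true), (3, 83, true), (2, 86, true), (1, 88, true), (0, 11, true), (3, 76, true), (2, 8, true), (1, 87, true), (0, 89, true), (6, 56, true), (5, 68, true), (4, 74, true), (3, 79, true), (2, 86, true), (1, 88, true), (6, 63, true), (5, 74, true), (4, 79, true), (3, 86, true), (2, 88, true), (1, 11, true), (4, 6, true), (3, 79, true), (2, 86, true), (1, 88, true), (8, 38, true), (7, 54, true), (6, 62, true), (5, 69, true), (4, 80, true), (3, 87, true), (2, 89, true), (1, 90, true), (0, 12, true), (6, 53, true), (5, 61, true), (4, 68, true), (3, 79, true), (2, 86, true), (1, 88, true), (0, 11, true), (5, 52, true), (4, 61, true), (3, 68, true), (2, 79, true), (1, 86, true), (0, 88, true), (5, 60, true), (4, 69, true), (3, 80, true), (2, 87, true), (1, 89, true), (0, 90, true), (5, 67, true), (4, 78, true), (3, 85, true), (2, 10, true), (6, 49, true), (5, 62, true), (4, 69, true), (3, 80, true), (2, 87, true), (1, 90, true), (0, 12, true), (4, 61, true), (3, 68, true), (2, 79, true),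 (1, 86, true), (0, 11, true), (3, 57, true), (2, 68, true), (1, 79, true), (0, 86, true), (3, 64, true), (2, 7, true), (4, 47, true), (3, 61, true), (2, 68, true), (1, 86, true), (0, 11, true), (2, 55, true), (1, 69, true), (0, 87, true), (2, 68, true), (1, 86, true), (3, 5, true), (2, 86, true), (1, 11, true), (4, 37, true), (3, 54, true), (2, 62, true), (1, 87, true), (0, 12, true), (2, 53, true), (1, 61, true), (0, 86, true), (3, 52, true), (2, 61, true), (1, 86, true), (0, 11, true), (1, 60, true), (0, 87, true), (1, 85, true), (4, 50, true), (3, 62, true), (2, 87, true), (1, 89, true), (0, 12, true), (2, 61, true), (1, 86, true), (0, 88, true), (3, 60, true), (2, 87, true), (1, 89, true), (0, 90, true), (3, 85, true), (2, 10, true), (3, 58, true), (5, 46, true), (4, 60, true), (3, 84, true), (2, 87, true), (1, 90, true), (0, 12, true), (2, 82, true), (1, 85, true), (4, 59, true), (3, 83, true), (2, 86, true), (1, 88, true), (0, 11, true), (2, 81, true), (1, 87, true), (0, 89, true), (2, 9, true), (1, 89, true), (0, 12, true), (2, 58, true), (1, 8, true), (0, 89, true), (2, 57, true),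 (1, 88, true), (4, 4, true), (5, 36, true), (4, 54, true), (3, 80, true), (2, 89, true), (1, 90, true), (0, 12, true), (3, 53, true), (2, 79, true), (1, 88, true), (0, 11, true), (2, 52, true), (1, 79, true), (0, 88, true), (2, 78, true), (1, 10, true), (2, 51, true), (1, 80, true), (0, 90, true), (2, 79, true), (1, 11, true), (1, 78, true), (2, 77, true), (4, 50, true), (3, 80, true), (2, 87, true), (1, 89, true), (0, 12, true), (2, 79, true), (1, 86, true), (0, 88, true), (3, 78, true), (2, 85, true), (1, 10, true), (2, 76, true), (4, 48, true), (3, 79, true), (2, 83, true), (1, 86, true), (0, 11, true), (2, 78, true), (1, 82, true), (0, 85, true), (3, 77, true), (2, 81, true), (1, 87, true), (0, 89, true), (2, 9, true), (1, 89, true), (0, 12, true), (2, 76, true), (1, 8, true), (0, 89, true), (4, 47, true), (3, 74, true), (2, 79, true), (1, 88, true), (6, 46, true), (5, 67, true), (4, 73, true), (3, 80, true), (2, 89, true), (1, 90, true), (0, 12, true), (2, 78, true), (1, 10, true), (3, 66, true), (2, 75, true), (1, 80, true), (0, 90, true), (3, 74, true), (2, 79, true), (1, 11, true),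 (2, 72, true), (1, 80, true), (0, 12, true), (0, 79, true), (1, 77, true), (4, 65, true), (3, 75, true), (2, 80, true), (1, 87, true), (0, 90, true), (4, 74, true), (3, 79, true), (2, 86, true), (1, 11, true), (3, 71, true), (2, 80, true), (1, 87, true), (0, 12, true), (1, 79, true), (0, 86, true), (2, 76, true), (5, 64, true), (4, 70, true), (3, 79, true), (2, 83, true), (1, 86, true), (0, 11, true), (2, 7, true), (5, 3, true), (4, 62, true), (3, 69, true), (2, 75, true), (1, 84, true), (0, 87, true), (5, 61, true), (4, 68, true), (3, 74, true), (2, 83, true), (1, 86, true), (6, 60, true), (5, 69, true), (4, 75, true), (3, 84, true), (2, 87, true), (1, 90, true), (0, 12, true), (4, 67, true), (3, 73, true), (2, 84, true), (1, 87, true), (0, 90, true), (3, 82, true), (2, 85, true), (7, 59, true), (6, 68, true), (5, 74, true), (4, 83, true), (3, 86, true), (2, 88, true), (1, 11, true), (5, 66, true), (4, 75, true), (3, 84, true), (2, 87, true), (1, 89, true), (0, 12, true), (3, 74, true), (2, 83, true), (1, 86, true), (0, 88, true), (4, 72, true), (3, 84, true), (2, 87, true), (1, 89, true),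 (0, 90, true), (4, 83, true), (3, 86, true), (2, 88, true), (1, 11, true), (3, 81, true), (2, 87, true), (1, 89, true), (0, 12, true), (1, 9, true), (0, 89, true), (5, 58, true), (4, 65, true), (3, 75, true), (2, 84, true), (1, 89, true), (0, 12, true), (2, 74, true), (1, 83, true), (0, 88, true), (3, 71, true), (2, 84, true), (1, 89, true), (0, 90, true), (3, 83, true), (2, 88, true), (1, 11, true), (2, 8, true), (1, 89, true), (0, 12, true), (3, 55, true), (2, 69, true), (1, 75, true), (0, 89, true), (3, 68, true), (2, 74, true), (1, 88, true), (4, 5, true), (3, 74, true), (2, 88, true), (1, 11, true), (4, 2, true), (3, 61, true), (2, 74, true), (1, 88, true), (4, 60, true), (3, 75, true), (2, 89, true), (1, 90, true), (0, 12, true), (2, 73, true), (1, 89, true), (0, 90, true), (2, 10, true), (3, 58, true), (2, 71, true), (1, 90, true), (0, 12, true), (0, 11, true), (2, 57, true), (1, 74, true), (0, 83, true), (2, 70, true), (1, 83, true), (0, 11, true), (0, 11, false), (1, 83, false), (2, 79, false), (3, 74, false), (4, 5, false), (0, 83, false), (1, 79, false), (2, 74, false), (3, 68,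 false), (0, 12, false), (1, 84, false), (2, 80, false), (3, 75, false), (4, 69, false), (5, 55, false), (1, 76, false), (1, 11, false), (2, 79, false), (0, 90, false), (1, 80, false), (2, 71, false), (0, 79, false), (1, 74, false), (0, 12, false), (1, 80, false), (2, 75, false), (3, 65, false), (4, 58, false), (0, 9, false), (1, 77, false), (0, 11, false), (1, 86, false), (2, 79, false), (0, 12, false), (1, 90, false), (2, 87, false), (3, 80, false), (4, 72, false), (1, 86, false), (2, 79, false), (3, 74, false), (0, 87, false), (1, 80, false), (2, 75, false), (3, 66, false), (0, 11, false), (1, 86, false), (2, 79, false), (3, 74, false), (4, 68, false), (5, 59, false), (0, 86, false), (1, 79, false), (2, 74, false), (3, 68, false), (4, 61, false), (0, 12, false), (1, 87, false), (2, 80, false), (3, 75, false), (4, 69, false), (5, 62, false), (1, 77, false), (1, 10, false), (2, 78, false), (1, 11, false)]),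
    ([1, 1], [8, 7, 6], [(4, 45, true), (3, 54, true), (2, 62, true), (1, 90, true), (0, 12, true), (3, 44, true), (2, 53, true), (1, 61, true), (0, 11, true), (2, 37, true), (1, 54, true), (0, 62, true), (2, 53, true), (1, 61, true), (3, 52, true), (2, 61, true), (1, 11, true), (1, 60, true), (0, 12, true), (2, 50, true), (1, 62, true), (0, 89, true), (2, 61, true), (1, 88, true), (3, 60, true), (2, 89, true), (1, 90, true), (0, 12, true), (1, 10, true), (1, 58, true), (3, 46, true), (2, 60, true), (1, 84, true), (0, 90, true), (2, 82, true), (4, 59, true), (3, 83, true), (2, 88, true), (1, 11, true), (2, 81, true), (1, 89, true), (0, 12, true), (3, 58, true), (2, 8, true), (1, 87, true), (0, 89, true), (3, 57, true), (2, 86, true), (1, 88, true), (5, 4, true), (6, 36, true), (5, 54, true), (4, 80, true), (3, 87, true), (2, 89, true), (1, 90, true), (0, 12, true), (4, 53, true), (3, 79, true), (2, 86, true), (1, 88, true), (0, 11, true), (3, 52, true), (2, 79, true), (1, 86, true), (0, 88, true), (3, 78, true), (2, 85, true), (1, 10, true), (3, 51, true), (2, 80, true), (1, 87, true), (0,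 90, true), (3, 79, true), (2, 86, true), (1, 11, true), (2, 78, true), (1, 85, true), (3, 77, true), (2, 9, true), (1, 89, true), (0, 12, true), (2, 50, true), (1, 80, true), (0, 89, true), (2, 79, true), (1, 88, true), (3, 78, true), (2, 10, true), (2, 76, true), (4, 48, true), (3, 79, true), (2, 83, true), (1, 11, true), (2, 78, true), (1, 82, true), (3, 77, true), (2, 81, true), (1, 89, true), (0, 12, true), (3, 76, true), (2, 8, true), (1, 87, true), (0, 89, true), (5, 47, true), (4, 74, true), (3, 79, true), (2, 86, true), (1, 88, true), (7, 46, true), (6, 67, true), (5, 73, true), (4, 80, true), (3, 87, true), (2, 89, true), (1, 90, true), (0, 12, true), (3, 78, true), (2, 85, true), (1, 10, true), (4, 66, true), (3, 75, true), (2, 80, true), (1, 87, true), (0, 90, true), (4, 74, true), (3, 79, true), (2, 86, true), (1, 11, true), (3, 72, true), (2, 80, true), (1, 87, true), (0, 12, true), (1, 79, true), (0, 86, true), (2, 77, true), (1, 9, true), (0, 90, true), (4, 65, true), (3, 75, true), (2, 80, true), (1, 90, true), (0, 12, true), (2, 74, true), (1, 79, true), (0, 11, true), (1,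 71, true), (0, 80, true), (1, 79, true), (2, 76, true), (5, 64, true), (4, 70, true), (3, 79, true), (2, 83, true), (1, 11, true), (2, 7, true), (5, 3, true), (4, 62, true), (3, 69, true), (2, 75, true), (1, 84, true), (0, 12, true), (3, 61, true), (2, 68, true), (1, 74, true), (0, 83, true), (4, 60, true), (3, 69, true), (2, 75, true), (1, 84, true), (0, 90, true), (4, 67, true), (3, 73, true), (2, 84, true), (1, 90, true), (0, 12, true), (1, 82, true), (5, 59, true), (4, 68, true), (3, 74, true), (2, 83, true), (1, 88, true), (0, 11, true), (3, 66, true), (2, 75, true), (1, 84, true), (0, 89, true), (3, 74, true), (2, 83, true), (1, 88, true), (4, 72, true), (3, 84, true), (2, 89, true), (1, 90, true), (0, 12, true), (2, 83, true), (1, 88, true), (0, 11, true), (1, 81, true), (0, 89, true), (6, 58, true), (5, 65, true), (4, 75, true), (3, 84, true), (2, 87, true), (1, 89, true), (0, 12, true), (3, 74, true), (2, 83, true), (1, 86, true), (0, 88, true), (4, 71, true), (3, 84, true), (2, 87, true), (1, 89, true), (0, 90, true), (4, 83, true), (3, 86, true), (2, 88, true), (1, 11, true),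 (3, 8, true), (2, 87, true), (1, 89, true), (0, 12, true), (4, 55, true), (3, 69, true), (2, 75, true), (1, 87, true), (0, 89, true), (4, 68, true), (3, 74, true), (2, 86, true), (1, 88, true), (5, 5, true), (4, 74, true), (3, 86, true), (2, 88, true), (1, 11, true), (5, 2, true), (4, 61, true), (3, 74, true), (2, 86, true), (1, 88, true), (5, 60, true), (4, 75, true), (3, 87, true), (2, 89, true), (1, 90, true), (0, 12, true), (3, 73, true), (2, 87, true), (1, 89, true), (0, 90, true), (3, 85, true), (2, 10, true), (4, 58, true), (3, 71, true), (2, 87, true), (1, 90, true), (0, 12, true), (1, 86, true), (0, 11, true), (3, 57, true), (2, 74, true), (1, 83, true), (0, 86, true), (3, 70, true), (2, 83, true), (1, 86, true), (0, 11, true), (0, 11, false), (1, 86, false), (2, 83, false), (3, 79, false), (4, 74, false), (5, 5, false), (0, 86, false), (1, 83, false), (2, 79, false), (3, 63, false), (0, 12, false), (1, 81, false), (2, 77, false), (1, 11, false), (2, 83, false), (3, 79, false), (0, 90, false), (1, 84, false), (2, 80, false), (3, 66, false), (0, 83, false), (1, 79, false), (2, 68,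 false), (0, 12, false), (1, 84, false), (2, 80, false), (3, 69, false), (1, 76, false), (1, 10, false), (2, 78, false), (1, 11, false), (2, 88, false), (3, 79, false)], [(4, 45, true), (3, 54, true), (2, 62, true), (1, 90, true), (0, 12, true), (3, 44, true), (2, 53, true), (1, 61, true), (0, 11, true), (2, 37, true), (1, 54, true), (0, 62, true), (2, 53, true), (1, 61, true), (3, 52, true), (2, 61, true), (1, 11, true), (1, 60, true), (0, 12, true), (2, 50, true), (1, 62, true), (0, 89, true), (2, 61, true), (1, 88, true), (3, 60, true), (2, 89, true), (1, 90, true), (0, 12, true), (1, 10, true), (1, 58, true), (3, 46, true), (2, 60, true), (1, 84, true), (0, 90, true), (2, 82, true), (4, 59, true), (3, 83, true), (2, 88, true), (1, 11, true), (2, 81, true), (1, 89, true), (0, 12, true), (3, 58, true), (2, 8, true), (1, 87, true), (0, 89, true), (3, 57, true), (2, 86, true), (1, 88, true), (5, 4, true), (6, 36, true), (5, 54, true), (4, 80, true), (3, 87, true), (2, 89, true), (1, 90, true), (0, 12, true), (4, 53, true), (3, 79, true), (2, 86, true), (1, 88, true), (0, 11, true), (3, 52,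 true), (2, 79, true), (1, 86, true), (0, 88, true), (3, 78, true), (2, 85, true), (1, 10, true), (3, 51, true), (2, 80, true), (1, 87, true), (0, 90, true), (3, 79, true), (2, 86, true), (1, 11, true), (2, 78, true), (1, 85, true), (3, 77, true), (2, 9, true), (1, 89, true), (0, 12, true), (2, 50, true), (1, 80, true), (0, 89, true), (2, 79, true), (1, 88, true), (3, 78, true), (2, 10, true), (2, 76, true), (4, 48, true), (3, 79, true), (2, 83, true), (1, 11, true), (2, 78, true), (1, 82, true), (3, 77, true), (2, 81, true), (1, 89, true), (0, 12, true), (3, 76, true), (2, 8, true), (1, 87, true), (0, 89, true), (5, 47, true), (4, 74, true), (3, 79, true), (2, 86, true), (1, 88, true), (7, 46, true), (6, 67, true), (5, 73, true), (4, 80, true), (3, 87, true), (2, 89, true), (1, 90, true), (0, 12, true), (3, 78, true), (2, 85, true), (1, 10, true), (4, 66, true), (3, 75, true), (2, 80, true), (1, 87, true), (0, 90, true), (4, 74, true), (3, 79, true), (2, 86, true), (1, 11, true), (3, 72, true), (2, 80, true), (1, 87, true), (0, 12, true), (1, 79, true), (0, 86, true), (2, 77, true), (1,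 9, true), (0, 90, true), (4, 65, true), (3, 75, true), (2, 80, true), (1, 90, true), (0, 12, true), (2, 74, true), (1, 79, true), (0, 11, true), (1, 71, true), (0, 80, true), (1, 79, true), (2, 76, true), (5, 64, true), (4, 70, true), (3, 79, true), (2, 83, true), (1, 11, true), (2, 7, true), (5, 3, true), (4, 62, true), (3, 69, true), (2, 75, true), (1, 84, true), (0, 12, true), (3, 61, true), (2, 68, true), (1, 74, true), (0, 83, true), (4, 60, true), (3, 69, true), (2, 75, true), (1, 84, true), (0, 90, true), (4, 67, true), (3, 73, true), (2, 84, true), (1, 90, true), (0, 12, true), (1, 82, true), (5, 59, true), (4, 68, true), (3, 74, true), (2, 83, true), (1, 88, true), (0, 11, true), (3, 66, true), (2, 75, true), (1, 84, true), (0, 89, true), (3, 74, true), (2, 83, true), (1, 88, true), (4, 72, true), (3, 84, true), (2, 89, true), (1, 90, true), (0, 12, true), (2, 83, true), (1, 88, true), (0, 11, true), (1, 81, true), (0, 89, true), (6, 58, true), (5, 65, true), (4, 75, true), (3, 84, true), (2, 87, true), (1, 89, true), (0, 12, true), (3, 74, true), (2, 83, true), (1, 86, true), (0,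 88, true), (4, 71, true), (3, 84, true), (2, 87, true), (1, 89, true), (0, 90, true), (4, 83, true), (3, 86, true), (2, 88, true), (1, 11, true), (3, 8, true), (2, 87, true), (1, 89, true), (0, 12, true), (4, 55, true), (3, 69, true), (2, 75, true), (1, 87, true), (0, 89, true), (4, 68, true), (3, 74, true), (2, 86, true), (1, 88, true), (5, 5, true), (4, 74, true), (3, 86, true), (2, 88, true), (1, 11, true), (5, 2, true), (4, 61, true), (3, 74, true), (2, 86, true), (1, 88, true), (5, 60, true), (4, 75, true), (3, 87, true), (2, 89, true), (1, 90, true), (0, 12, true), (3, 73, true), (2, 87, true), (1, 89, true), (0, 90, true), (3, 85, true), (2, 10, true), (4, 58, true), (3, 71, true), (2, 87, true), (1, 90, true), (0, 12, true), (1, 86, true), (0, 11, true), (3, 57, true), (2, 74, true), (1, 83, true), (0, 86, true), (3, 70, true), (2, 83, true), (1, 86, true), (0, 11, true), (0, 11, false), (1, 86, false), (2, 83, false), (3, 79, false), (4, 74, false), (5, 5, false), (0, 86, false), (1, 83, false), (2, 79, false), (3, 74, false), (4, 68, false), (0, 12, false), (1, 87, false), (2,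 84, false), (3, 80, false), (4, 75, false), (5, 69, false), (6, 55, false), (1, 11, false), (2, 86, false), (3, 83, false), (4, 70, false), (5, 64, false), (1, 86, false), (2, 83, false), (3, 74, false), (4, 68, false), (5, 57, false), (1, 11, false), (2, 86, false), (0, 90, false), (1, 87, false), (2, 71, false), (0, 86, false), (1, 74, false), (0, 12, false), (1, 87, false), (2, 75, false), (3, 65, false), (4, 58, false), (1, 10, false)]),
    ([2, 2], [10, 4], [(8, 45, true), (7, 62, true), (6, 69, true), (5, 75, true), (4, 80, true), (3, 84, true), (2, 87, true), (1, 90, true), (0, 12, true), (7, 44, true), (6, 61, true), (5, 68, true), (4, 74, true), (3, 79, true), (2, 83, true), (1, 86, true), (0, 11, true), (6, 42, true), (5, 62, true), (4, 69, true), (3, 75, true), (2, 80, true), (1, 84, true), (0, 87, true), (6, 60, true), (5, 69, true), (4, 75, true), (3, 80, true), (2, 84, true), (1, 87, true), (0, 12, true), (4, 67, true), (3, 73, true), (2, 80, true), (1, 84, true), (0, 87, true), (3, 78, true), (2, 82, true), (1, 85, true), (7, 59, true), (6, 68, true), (5, 74, true), (4, 79,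 true), (3, 83, true), (2, 86, true), (1, 88, true), (7, 66, true), (6, 75, true), (5, 80, true), (4, 84, true), (3, 87, true), (2, 89, true), (1, 90, true), (0, 12, true), (5, 74, true), (4, 79, true), (3, 83, true), (2, 86, true), (1, 88, true), (0, 11, true), (4, 72, true), (3, 80, true), (2, 84, true), (1, 87, true), (0, 89, true), (4, 79, true), (3, 83, true), (2, 86, true), (1, 88, true), (5, 77, true), (4, 81, true), (3, 87, true), (2, 89, true), (1, 90, true), (0, 12, true), (2, 9, true), (1, 89, true), (0, 90, true), (8, 41, true), (7, 62, true), (6, 69, true), (5, 75, true), (4, 80, true), (3, 84, true), (2, 89, true), (1, 90, true), (0, 12, true), (6, 61, true), (5, 68, true), (4, 74, true), (3, 79, true), (2, 83, true), (1, 88, true), (0, 11, true), (5, 58, true), (4, 65, true), (3, 75, true), (2, 80, true), (1, 84, true), (0, 89, true), (4, 74, true), (3, 79, true), (2, 83, true), (1, 88, true), (5, 71, true), (4, 80, true), (3, 84, true), (2, 89, true), (1, 90, true), (0, 12, true), (3, 79, true), (2, 83, true), (1, 88, true), (0, 11, true), (2, 76, true), (1, 8, true), (0,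 89, true), (6, 40, true), (5, 61, true), (4, 68, true), (3, 74, true), (2, 79, true), (1, 88, true), (6, 57, true), (5, 68, true), (4, 74, true), (3, 79, true), (2, 88, true), (1, 11, true), (4, 64, true), (3, 70, true), (2, 79, true), (1, 88, true), (3, 7, true), (6, 39, true), (5, 61, true), (4, 68, true), (3, 74, true), (2, 88, true), (1, 11, true), (4, 58, true), (3, 65, true), (2, 75, true), (1, 89, true), (0, 12, true), (1, 74, true), (0, 88, true), (2, 71, true), (1, 89, true), (0, 90, true), (2, 88, true), (1, 11, true), (5, 57, true), (4, 68, true), (3, 74, true), (2, 83, true), (1, 88, true), (5, 64, true), (4, 70, true), (3, 83, true), (2, 88, true), (1, 11, true), (6, 56, true), (5, 68, true), (4, 74, true), (3, 79, true), (2, 83, true), (1, 88, true), (6, 63, true), (5, 74, true), (4, 79, true), (3, 83, true), (2, 88, true), (1, 11, true), (4, 6, true), (3, 79, true), (2, 83, true), (1, 88, true), (7, 38, true), (6, 62, true), (5, 69, true), (4, 80, true), (3, 84, true), (2, 89, true), (1, 90, true), (0, 12, true), (5, 61, true), (4, 68, true), (3, 79, true), (2, 83, true),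 (1, 88, true), (0, 11, true), (4, 60, true), (3, 69, true), (2, 80, true), (1, 84, true), (0, 89, true), (4, 67, true), (3, 78, true), (2, 82, true), (1, 10, true), (4, 57, true), (3, 68, true), (2, 79, true), (1, 83, true), (4, 64, true), (3, 7, true), (4, 55, true), (3, 69, true), (2, 84, true), (1, 90, true), (0, 12, true), (2, 68, true), (1, 83, true), (0, 11, true), (1, 5, true), (0, 83, true), (3, 37, true), (2, 62, true), (1, 84, true), (0, 90, true), (3, 61, true), (2, 83, true), (1, 11, true), (2, 60, true), (1, 84, true), (0, 12, true), (0, 82, true), (2, 58, true), (1, 8, true), (0, 89, true), (2, 4, true), (2, 2, true), (1, 88, true), (2, 10, true), (0, 90, false)], [(5, 23, true), (4, 68, true), (3, 79, true), (2, 83, true), (1, 88, true), (0, 11, true), (4, 22, true), (3, 69, true), (2, 80, true), (1, 84, true), (0, 89, true), (4, 68, true), (3, 79, true), (2, 83, true), (1, 88, true), (5, 67, true), (4, 78, true), (3, 82, true), (2, 10, true), (5, 20, true), (4, 69, true), (3, 80, true), (2, 84, true), (1, 90, true), (0, 12, true), (3, 68, true), (2, 79, true), (1, 83, true),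 (0, 11, true), (2, 65, true), (1, 80, true), (0, 84, true), (2, 79, true), (1, 83, true), (3, 76, true), (2, 8, true), (1, 90, true), (0, 12, true), (3, 19, true), (2, 69, true), (1, 80, true), (0, 90, true), (3, 64, true), (2, 7, true), (3, 17, true), (2, 69, true), (1, 90, true), (0, 12, true), (1, 67, true), (2, 64, true), (3, 5, true), (2, 79, true), (1, 88, true), (0, 11, true), (2, 0, true), (1, 79, true), (0, 88, true), (2, 76, true), (0, 12, false)]),
    ([3, 3], [11, 10, 7, 5, 4], [(9, 24, true), (8, 45, true), (7, 54, true), (6, 62, true), (5, 80, true), (4, 84, true), (3, 87, true), (2, 89, true), (1, 90, true), (0, 12, true), (8, 23, true), (7, 44, true), (6, 53, true), (5, 61, true), (4, 79, true), (3, 83, true), (2, 86, true), (1, 88, true), (0, 11, true), (7, 22, true), (6, 45, true), (5, 54, true), (4, 62, true), (3, 80, true), (2, 84, true), (1, 87, true), (0, 89, true), (7, 44, true), (6, 53, true), (5, 61, true), (4, 79, true), (3, 83, true), (2, 86, true), (1, 88, true), (8, 43, true), (7, 54, true), (6, 62, true), (5, 80, true), (4, 84, true), (3, 87, true), (2, 89,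 true), (1, 90, true), (0, 12, true), (6, 52, true), (5, 61, true), (4, 79, true), (3, 83, true), (2, 86, true), (1, 88, true), (0, 11, true), (4, 60, true), (3, 80, true), (2, 84, true), (1, 87, true), (0, 89, true), (4, 78, true), (3, 82, true), (2, 85, true), (1, 10, true), (7, 21, true), (6, 45, true), (5, 54, true), (4, 62, true), (3, 80, true), (2, 84, true), (1, 87, true), (0, 12, true), (5, 44, true), (4, 53, true), (3, 61, true), (2, 79, true), (1, 83, true), (0, 86, true), (6, 43, true), (5, 54, true), (4, 62, true), (3, 80, true), (2, 84, true), (1, 87, true), (0, 90, true), (6, 52, true), (5, 61, true), (4, 79, true), (3, 83, true), (2, 86, true), (1, 11, true), (4, 60, true), (3, 80, true), (2, 84, true), (1, 87, true), (0, 12, true), (2, 78, true), (1, 82, true), (0, 85, true), (6, 42, true), (5, 54, true), (4, 62, true), (3, 80, true), (2, 84, true), (1, 87, true), (0, 89, true), (6, 52, true), (5, 61, true), (4, 79, true), (3, 83, true), (2, 86, true), (1, 88, true), (6, 60, true), (5, 80, true), (4, 84, true), (3, 87, true), (2, 89, true), (1, 90, true), (0, 12, true), (4,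 78, true), (3, 82, true), (2, 85, true), (1, 10, true), (5, 51, true), (4, 62, true), (3, 80, true), (2, 84, true), (1, 87, true), (0, 90, true), (5, 61, true), (4, 79, true), (3, 83, true), (2, 86, true), (1, 11, true), (4, 60, true), (3, 80, true), (2, 84, true), (1, 87, true), (0, 12, true), (2, 78, true), (1, 82, true), (0, 85, true), (4, 59, true), (3, 79, true), (2, 83, true), (1, 86, true), (0, 88, true), (4, 77, true), (3, 81, true), (2, 87, true), (1, 89, true), (0, 90, true), (3, 9, true), (2, 89, true), (1, 90, true), (0, 12, true), (7, 20, true), (6, 45, true), (5, 54, true), (4, 62, true), (3, 80, true), (2, 84, true), (1, 89, true), (0, 90, true), (7, 44, true), (6, 53, true), (5, 61, true), (4, 79, true), (3, 83, true), (2, 88, true), (1, 11, true), (6, 41, true), (5, 54, true), (4, 62, true), (3, 80, true), (2, 84, true), (1, 89, true), (0, 12, true), (4, 53, true), (3, 61, true), (2, 79, true), (1, 83, true), (0, 88, true), (5, 50, true), (4, 62, true), (3, 80, true), (2, 84, true), (1, 89, true), (0, 90, true), (5, 61, true), (4, 79, true), (3, 83, true), (2, 88, true),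 (1, 11, true), (4, 60, true), (3, 80, true), (2, 84, true), (1, 89, true), (0, 12, true), (2, 78, true), (1, 82, true), (0, 10, true), (2, 58, true), (1, 76, true), (0, 8, true), (5, 19, true), (4, 45, true), (3, 54, true), (2, 62, true), (1, 80, true), (0, 12, true), (3, 40, true), (2, 53, true), (1, 61, true), (0, 79, true), (3, 49, true), (2, 62, true), (1, 80, true), (0, 90, true), (3, 61, true), (2, 79, true), (1, 11, true), (2, 57, true), (1, 79, true), (2, 7, true), (5, 16, true), (4, 43, true), (3, 54, true), (2, 62, true), (1, 90, true), (0, 12, true), (2, 52, true), (1, 61, true), (0, 11, true), (0, 60, true), (4, 41, true), (3, 54, true), (2, 62, true), (1, 89, true), (0, 12, true), (2, 53, true), (1, 61, true), (0, 88, true), (3, 50, true), (2, 62, true), (1, 89, true), (0, 90, true), (3, 61, true), (2, 88, true), (1, 11, true), (2, 60, true), (1, 89, true), (0, 12, true), (0, 10, true), (0, 58, true), (3, 37, true), (2, 54, true), (1, 62, true), (0, 84, true), (3, 53, true), (2, 61, true), (1, 83, true), (4, 52, true), (3, 61, true), (2, 83, true), (1, 11, true), (2, 60, true),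 (1, 84, true), (0, 12, true), (0, 82, true), (3, 50, true), (2, 62, true), (1, 84, true), (0, 89, true), (3, 61, true), (2, 83, true), (1, 88, true), (4, 60, true), (3, 84, true), (2, 89, true), (1, 90, true), (0, 12, true), (2, 82, true), (1, 10, true), (2, 58, true), (1, 8, true), (0, 90, true), (3, 46, true), (2, 60, true), (1, 90, true), (0, 12, true), (2, 59, true), (1, 88, true), (0, 11, true), (2, 58, true), (3, 57, true), (2, 83, true), (1, 86, true), (0, 88, true), (5, 4, true), (7, 15, true), (6, 45, true), (5, 54, true), (4, 80, true), (3, 84, true), (2, 87, true), (1, 89, true), (0, 90, true), (7, 43, true), (6, 54, true), (5, 80, true), (4, 84, true), (3, 87, true), (2, 89, true), (1, 90, true), (0, 12, true), (5, 52, true), (4, 79, true), (3, 83, true), (2, 86, true), (1, 88, true), (0, 11, true), (3, 78, true), (2, 82, true), (1, 85, true), (0, 10, true), (4, 39, true), (3, 53, true), (2, 79, true), (1, 83, true), (0, 86, true), (4, 50, true), (3, 80, true), (2, 84, true), (1, 87, true), (0, 90, true), (4, 79, true), (3, 83, true), (2, 86, true), (1, 11, true), (3, 78, true),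 (2, 82, true), (1, 85, true), (4, 76, true), (3, 8, true), (2, 87, true), (1, 89, true), (0, 12, true), (3, 49, true), (2, 80, true), (1, 87, true), (0, 89, true), (3, 79, true), (2, 86, true), (1, 88, true), (4, 7, true), (4, 48, true), (3, 86, true), (2, 88, true), (1, 11, true), (2, 85, true), (1, 10, true), (1, 9, true), (0, 12, true), (3, 37, true), (2, 54, true), (1, 75, true), (0, 84, true), (3, 53, true), (2, 74, true), (1, 83, true), (4, 52, true), (3, 74, true), (2, 83, true), (1, 11, true), (2, 73, true), (1, 84, true), (0, 12, true), (0, 82, true), (3, 50, true), (2, 75, true), (1, 84, true), (0, 89, true), (3, 74, true), (2, 83, true), (1, 88, true), (4, 73, true), (3, 84, true), (2, 89, true), (1, 90, true), (0, 12, true), (2, 82, true), (1, 10, true), (2, 71, true), (1, 84, true), (0, 90, true), (2, 83, true), (1, 11, true), (1, 8, true), (0, 12, true), (1, 46, true), (0, 73, true), (2, 72, true), (1, 89, true), (0, 12, true), (0, 88, true), (3, 71, true), (2, 87, true), (1, 89, true), (0, 90, true), (3, 86, true), (2, 88, true), (1, 11, true), (4, 70, true), (3, 83, true),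 (2, 86, true), (1, 88, true), (9, 36, true), (8, 54, true), (7, 62, true), (6, 75, true), (5, 80, true), (4, 84, true), (3, 87, true), (2, 89, true), (1, 90, true), (0, 12, true), (7, 53, true), (6, 61, true), (5, 74, true), (4, 79, true), (3, 83, true), (2, 86, true), (1, 88, true), (0, 11, true), (6, 52, true), (5, 61, true), (4, 74, true), (3, 79, true), (2, 83, true), (1, 86, true), (0, 88, true), (6, 60, true), (5, 75, true), (4, 80, true), (3, 84, true), (2, 87, true), (1, 89, true), (0, 90, true), (6, 73, true), (5, 80, true), (4, 84, true), (3, 87, true), (2, 89, true), (1, 90, true), (0, 12, true), (4, 78, true), (3, 82, true), (2, 85, true), (1, 10, true), (6, 51, true), (5, 62, true), (4, 75, true), (3, 80, true), (2, 84, true), (1, 87, true), (0, 90, true), (6, 61, true), (5, 74, true), (4, 79, true), (3, 83, true), (2, 86, true), (1, 11, true), (5, 60, true), (4, 75, true), (3, 80, true), (2, 84, true), (1, 87, true), (0, 12, true), (3, 73, true), (2, 80, true), (1, 84, true), (0, 87, true), (3, 78, true), (2, 82, true), (1, 85, true), (6, 59, true), (5, 74, true), (4, 79, true),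 (3, 83, true), (2, 86, true), (1, 88, true), (6, 72, true), (5, 80, true), (4, 84, true), (3, 87, true), (2, 89, true), (1, 90, true), (0, 12, true), (4, 79, true), (3, 83, true), (2, 86, true), (1, 88, true), (0, 11, true), (3, 77, true), (2, 81, true), (1, 87, true), (0, 89, true), (2, 9, true), (1, 89, true), (0, 12, true), (5, 50, true), (4, 62, true), (3, 75, true), (2, 80, true), (1, 84, true), (0, 89, true), (5, 61, true), (4, 74, true), (3, 79, true), (2, 83, true), (1, 88, true), (6, 60, true), (5, 75, true), (4, 80, true), (3, 84, true), (2, 89, true), (1, 90, true), (0, 12, true), (4, 73, true), (3, 80, true), (2, 84, true), (1, 89, true), (0, 90, true), (4, 78, true), (3, 82, true), (2, 10, true), (5, 58, true), (4, 71, true), (3, 80, true), (2, 84, true), (1, 90, true), (0, 12, true), (2, 79, true), (1, 83, true), (0, 11, true), (1, 76, true), (0, 8, true), (4, 48, true), (3, 61, true), (2, 74, true), (1, 79, true), (4, 60, true), (3, 75, true), (2, 80, true), (1, 90, true), (0, 12, true), (2, 73, true), (1, 80, true), (0, 90, true), (2, 78, true), (5, 59, true), (4, 74, true),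 (3, 79, true), (2, 88, true), (1, 11, true), (3, 72, true), (2, 80, true), (1, 89, true), (0, 12, true), (1, 79, true), (0, 88, true), (2, 77, true), (5, 58, true), (4, 71, true), (3, 80, true), (2, 87, true), (1, 89, true), (0, 90, true), (4, 79, true), (3, 86, true), (2, 88, true), (1, 11, true), (3, 76, true), (6, 56, true), (5, 74, true), (4, 79, true), (3, 83, true), (2, 86, true), (1, 88, true), (6, 6, true), (5, 79, true), (4, 83, true), (3, 86, true), (2, 88, true), (1, 11, true), (6, 47, true), (5, 61, true), (4, 79, true), (3, 83, true), (2, 86, true), (1, 88, true), (6, 55, true), (5, 80, true), (4, 84, true), (3, 87, true), (2, 89, true), (1, 90, true), (0, 12, true), (4, 79, true), (3, 83, true), (2, 86, true), (1, 88, true), (0, 11, true), (6, 46, true), (5, 60, true), (4, 69, true), (3, 80, true), (2, 84, true), (1, 87, true), (0, 89, true), (5, 67, true), (4, 78, true), (3, 82, true), (2, 85, true), (1, 10, true), (5, 59, true), (4, 68, true), (3, 79, true), (2, 83, true), (1, 86, true), (5, 66, true), (4, 80, true), (3, 84, true), (2, 87, true), (1, 90, true), (0, 12, true),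 (3, 79, true), (2, 83, true), (1, 86, true), (0, 11, true), (2, 77, true), (1, 81, true), (0, 87, true), (1, 9, true), (0, 12, true), (3, 58, true), (2, 65, true), (1, 80, true), (0, 84, true), (2, 79, true), (1, 83, true), (3, 76, true), (2, 8, true), (1, 90, true), (0, 12, true), (3, 57, true), (2, 68, true), (1, 79, true), (0, 11, true), (1, 64, true), (0, 7, true), (1, 4, true), (1, 3, true), (0, 69, true), (1, 68, true), (2, 67, true), (3, 66, true), (2, 89, true), (1, 90, true), (0, 12, true), (1, 88, true), (0, 11, true), (2, 65, true), (1, 87, true), (0, 89, true), (2, 86, true), (1, 88, true), (5, 5, true), (4, 83, true), (3, 86, true), (2, 88, true), (1, 11, true), (5, 14, true), (4, 43, true), (3, 84, true), (2, 87, true), (1, 89, true), (0, 12, true), (2, 82, true), (1, 85, true), (0, 10, true), (2, 40, true), (1, 83, true), (0, 86, true), (4, 39, true), (3, 79, true), (2, 83, true), (1, 86, true), (0, 11, true), (2, 76, true), (1, 8, true), (0, 87, true), (2, 7, true), (3, 38, true), (2, 75, true), (1, 87, true), (0, 12, true), (1, 74, true), (0, 86, true), (2, 73, true), (1,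 87, true), (0, 90, true), (2, 85, true), (4, 70, true), (3, 86, true), (2, 88, true), (1, 11, true), (6, 37, true), (5, 69, true), (4, 75, true), (3, 80, true), (2, 87, true), (1, 89, true), (0, 12, true), (4, 68, true), (3, 74, true), (2, 79, true), (1, 86, true), (0, 88, true), (5, 67, true), (4, 73, true), (3, 80, true), (2, 87, true), (1, 89, true), (0, 90, true), (4, 78, true), (3, 85, true), (2, 10, true), (5, 65, true), (4, 75, true), (3, 80, true), (2, 87, true), (1, 90, true), (0, 12, true), (3, 74, true), (2, 79, true), (1, 86, true), (0, 11, true), (2, 71, true), (1, 80, true), (0, 87, true), (2, 79, true), (1, 86, true), (3, 76, true), (8, 2, true), (7, 61, true), (6, 68, true), (5, 74, true), (4, 79, true), (3, 83, true), (2, 86, true), (1, 11, true), (6, 60, true), (5, 69, true), (4, 75, true), (3, 80, true), (2, 84, true), (1, 87, true), (0, 12, true), (4, 67, true), (3, 73, true), (2, 80, true), (1, 84, true), (0, 87, true), (3, 78, true), (2, 82, true), (1, 85, true), (7, 58, true), (6, 65, true), (5, 75, true), (4, 80, true), (3, 84, true), (2, 87, true), (1, 89, true),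 (0, 12, true), (4, 74, true), (3, 79, true), (2, 83, true), (1, 86, true), (0, 88, true), (5, 71, true), (4, 80, true), (3, 84, true), (2, 87, true), (1, 89, true), (0, 90, true), (5, 79, true), (4, 83, true), (3, 86, true), (2, 88, true), (1, 11, true), (4, 76, true), (3, 8, true), (2, 87, true), (1, 89, true), (0, 12, true), (5, 57, true), (4, 68, true), (3, 74, true), (2, 79, true), (1, 86, true), (0, 88, true), (5, 64, true), (4, 70, true), (3, 79, true), (2, 86, true), (1, 88, true), (0, 11, true), (2, 7, true), (5, 0, true), (4, 61, true), (3, 68, true), (2, 74, true), (1, 86, true), (0, 88, true), (5, 58, true), (4, 65, true), (3, 75, true), (2, 87, true), (1, 89, true), (0, 90, true), (4, 74, true), (3, 86, true), (2, 88, true), (1, 11, true), (3, 71, true), (2, 87, true), (1, 89, true), (0, 12, true), (1, 86, true), (0, 88, true), (6, 56, true), (5, 68, true), (4, 74, true), (3, 83, true), (2, 86, true), (1, 88, true), (0, 11, true), (4, 63, true), (3, 74, true), (2, 83, true), (1, 86, true), (0, 88, true), (4, 6, true), (3, 83, true), (2, 86, true), (1, 88, true), (0, 11, true),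 (4, 55, true), (3, 69, true), (2, 84, true), (1, 87, true), (0, 89, true), (4, 68, true), (3, 83, true), (2, 86, true), (1, 88, true), (5, 5, true), (4, 83, true), (3, 86, true), (2, 88, true), (1, 11, true), (4, 4, true), (4, 7, false), (3, 76, false), (0, 89, false), (1, 87, false), (2, 80, false), (0, 11, false), (1, 88, false), (2, 86, false), (3, 79, false), (4, 5, false), (3, 64, false), (0, 12, false), (1, 90, false), (2, 89, false), (3, 87, false), (4, 8, false), (1, 88, false), (2, 86, false), (3, 83, false), (0, 89, false), (1, 87, false), (2, 84, false), (3, 65, false), (0, 12, false), (1, 89, false), (2, 81, false), (1, 11, false), (2, 88, false), (3, 83, false), (0, 90, false), (1, 89, false), (2, 84, false), (3, 66, false), (0, 12, false), (1, 90, false), (2, 89, false), (3, 84, false), (4, 69, false), (1, 11, false)], [(5, 54, true), (4, 62, true), (3, 69, true), (2, 80, true), (1, 90, true), (0, 12, true), (4, 53, true), (3, 61, true), (2, 68, true), (1, 79, true), (0, 11, true), (3, 49, true), (2, 62, true), (1, 69, true), (0, 80, true), (3, 61, true), (2, 68, true), (1,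 79, true), (4, 57, true), (3, 68, true), (2, 79, true), (1, 11, true), (2, 64, true), (1, 7, true), (3, 47, true), (2, 61, true), (1, 68, true), (3, 55, true), (2, 69, true), (1, 90, true), (0, 12, true), (1, 68, true), (0, 11, true), (0, 5, true), (2, 46, true), (1, 60, true), (0, 90, true), (3, 59, true), (2, 88, true), (1, 11, true), (3, 58, true), (4, 57, true), (3, 83, true), (2, 86, true), (1, 88, true), (6, 4, true), (6, 3, true), (5, 80, true), (4, 84, true), (3, 87, true), (2, 89, true), (1, 90, true), (0, 12, true), (4, 79, true), (3, 83, true), (2, 86, true), (1, 88, true), (0, 11, true), (3, 78, true), (2, 82, true), (1, 85, true), (0, 10, true), (2, 77, true), (1, 81, true), (0, 87, true), (1, 9, true), (0, 12, true), (1, 76, true), (0, 8, true), (3, 4, false), (1, 11, false), (2, 79, false), (0, 90, false), (1, 80, false), (2, 55, false), (0, 79, false), (1, 6, false), (0, 11, false), (1, 79, false), (2, 74, false), (3, 56, false), (0, 70, false), (0, 11, false), (1, 74, false), (2, 57, false), (0, 12, false), (1, 90, false), (2, 8, false), (1, 83, false), (0, 84, false), (1,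 71, false), (2, 58, false), (0, 10, false), (1, 82, false), (0, 12, false), (1, 89, false), (2, 84, false), (3, 73, false), (0, 89, false), (1, 84, false), (2, 75, false), (3, 60, false), (0, 11, false), (1, 88, false), (2, 83, false), (3, 74, false), (4, 61, false), (0, 12, false), (1, 90, false), (2, 89, false), (3, 84, false), (4, 75, false), (5, 62, false), (1, 88, false), (2, 83, false), (3, 74, false), (4, 5, false), (1, 11, false), (2, 88, false), (3, 83, false), (4, 74, false), (5, 68, false), (0, 90, false), (1, 89, false), (2, 84, false), (3, 75, false), (4, 69, false), (5, 55, false), (0, 88, false), (0, 12, false), (1, 89, false), (2, 71, false), (1, 11, false), (2, 88, false), (3, 74, false), (0, 90, false), (1, 89, false), (2, 75, false), (3, 65, false), (4, 58, false), (0, 12, false), (1, 90, false), (2, 89, false), (3, 9, false), (1, 88, false), (2, 86, false), (0, 89, false), (1, 87, false), (2, 72, false), (0, 11, false), (1, 88, false), (2, 86, false), (3, 74, false), (0, 12, false), (1, 90, false), (2, 89, false), (3, 87, false), (4, 75, false), (5, 66, false), (1, 88,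 false), (2, 86, false), (3, 74, false), (4, 68, false), (5, 59, false), (1, 11, false), (2, 88, false), (3, 86, false), (4, 74, false), (5, 68, false), (6, 61, false), (0, 90, false), (1, 89, false), (2, 87, false), (3, 75, false), (4, 69, false), (5, 62, false), (0, 12, false), (1, 90, false)]),
    ([4, 4], [11, 10], [(2, 80, true), (1, 84, true), (0, 12, true), (1, 76, true), (0, 8, true), (1, 7, true), (1, 11, false)], [(7, 62, true), (6, 69, true), (5, 75, true), (4, 80, true), (3, 84, true), (2, 89, true), (1, 90, true), (0, 12, true), (6, 61, true), (5, 68, true), (4, 74, true), (3, 79, true), (2, 83, true), (1, 88, true), (0, 11, true), (5, 60, true), (4, 69, true), (3, 75, true), (2, 80, true), (1, 84, true), (0, 89, true), (5, 67, true), (4, 73, true), (3, 80, true), (2, 84, true), (1, 89, true), (0, 12, true), (2, 78, true), (1, 82, true), (0, 10, true), (4, 58, true), (3, 65, true), (2, 75, true), (1, 80, true), (0, 84, true), (3, 74, true), (2, 79, true), (1, 83, true), (4, 71, true), (3, 80, true), (2, 84, true), (1, 90, true), (0, 12, true), (2, 79, true), (1, 83, true), (0,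 11, true), (1, 76, true), (0, 8, true), (4, 57, true), (3, 68, true), (2, 74, true), (1, 79, true), (4, 64, true), (3, 70, true), (2, 79, true), (1, 11, true), (1, 7, true), (3, 56, true), (2, 68, true), (1, 74, true), (3, 63, true), (2, 74, true), (1, 11, true), (1, 6, true), (3, 55, true), (2, 69, true), (1, 90, true), (0, 12, true), (1, 68, true), (0, 11, true), (0, 5, true), (1, 4, true), (0, 12, false), (1, 90, false)]),
    ([5, 5], [11], [(4, 69, true), (3, 80, true), (2, 84, true), (1, 87, true), (0, 12, true), (3, 66, true), (2, 80, true), (1, 84, true), (0, 87, true), (3, 79, true), (2, 83, true), (1, 86, true), (4, 77, true), (3, 81, true), (2, 87, true), (1, 90, true), (0, 12, true), (1, 9, true), (0, 90, true), (4, 65, true), (3, 80, true), (2, 84, true), (1, 90, true), (0, 12, true), (2, 79, true), (1, 83, true), (0, 11, true), (1, 76, true), (0, 8, true), (2, 64, true), (1, 7, true), (1, 5, true)], [(4, 69, true), (3, 84, true), (2, 87, true), (1, 90, true), (0, 12, true), (3, 68, true), (2, 83, true), (1, 86, true), (0, 11, true), (2, 66, true), (1, 84, true), (0, 87, true),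 (2, 83, true), (1, 86, true), (3, 81, true), (2, 87, true), (1, 90, true), (0, 12, true), (1, 9, true), (0, 90, true), (3, 65, true), (2, 84, true), (1, 90, true), (0, 12, true), (1, 83, true), (0, 11, true), (0, 8, true), (1, 5, true)]),
    ([6, 6], [], [(5, 62, true), (4, 69, true), (3, 75, true), (2, 87, true), (1, 90, true), (0, 12, true), (4, 61, true), (3, 68, true), (2, 74, true), (1, 86, true), (0, 11, true), (3, 59, true), (2, 68, true), (1, 74, true), (0, 86, true), (3, 66, true), (2, 75, true), (1, 87, true), (0, 90, true), (3, 74, true), (2, 86, true), (1, 11, true), (2, 72, true), (1, 87, true), (0, 12, true), (0, 86, true), (1, 9, true), (0, 90, true), (4, 56, true), (3, 68, true), (2, 74, true), (1, 11, true), (2, 63, true), (1, 74, true), (2, 6, true), (1, 11, true), (2, 55, true), (1, 69, true), (0, 12, true), (0, 68, true), (1, 5, true), (0, 11, true), (0, 4, true)], [(2, 65, true), (1, 80, true), (0, 84, true), (2, 79, true), (1, 83, true), (3, 76, true), (2, 8, true), (1, 90, true), (0, 12, true), (2, 64, true), (1, 7, true), (1, 5, true), (0, 11, true)]),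
    ([7, 7], [], [(3, 68, true), (2, 83, true), (1, 88, true), (0, 11, true), (2, 67, true), (1, 82, true), (0, 10, true), (1, 65, true), (0, 84, true), (1, 83, true), (2, 8, true), (1, 90, true), (0, 12, true), (1, 5, true), (0, 11, true)], [(4, 60, true), (3, 69, true), (2, 75, true), (1, 87, true), (0, 89, true), (4, 67, true), (3, 73, true), (2, 87, true), (1, 89, true), (0, 12, true), (1, 85, true), (0, 10, true), (3, 59, true), (2, 68, true), (1, 74, true), (0, 86, true), (3, 66, true), (2, 75, true), (1, 87, true), (0, 90, true), (3, 74, true), (2, 86, true), (1, 11, true), (2, 72, true), (1, 87, true), (0, 12, true), (0, 86, true), (1, 9, true), (0, 90, true), (4, 56, true), (3, 68, true), (2, 74, true), (1, 11, true), (2, 63, true), (1, 74, true), (2, 6, true), (1, 11, true), (2, 55, true), (1, 69, true), (0, 12, true), (0, 68, true), (1, 5, true), (0, 11, true), (0, 4, true)]),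
    ([0, 1], [11, 9, 8, 6, 5, 1, 0], [(8, 24, true), (7, 54, true), (6, 62, true), (5, 75, true), (4, 80, true), (3, 84, true), (2, 87, true), (1, 90, true), (0, 12, true), (7, 23, true), (6, 53, true), (5, 61, true), (4, 74, true), (3, 79, true), (2, 83, true), (1, 86, true), (0, 11, true), (6, 16, true), (5, 52, true), (4, 61, true), (3, 74, true), (2, 79, true), (1, 83, true), (0, 86, true), (5, 60, true), (4, 75, true), (3, 80, true), (2, 84, true), (1, 87, true), (0, 90, true), (5, 73, true), (4, 80, true), (3, 84, true), (2, 87, true), (1, 90, true), (0, 12, true), (3, 78, true), (2, 82, true), (1, 85, true), (7, 50, true), (6, 62, true), (5, 75, true), (4, 80, true), (3, 84, true), (2, 87, true), (1, 89, true), (0, 90, true), (7, 61, true), (6, 74, true), (5, 79, true), (4, 83, true), (3, 86, true), (2, 88, true), (1, 11, true), (6, 60, true), (5, 75, true), (4, 80, true), (3, 84, true), (2, 87, true), (1, 89, true), (0, 12, true), (4, 73, true), (3, 80, true), (2, 84, true), (1, 87, true), (0, 89, true), (4, 78, true), (3, 82, true), (2, 85, true), (1, 10, true), (5, 58, true), (4,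 71, true), (3, 80, true), (2, 84, true), (1, 87, true), (0, 12, true), (2, 79, true), (1, 83, true), (0, 86, true), (3, 76, true), (2, 8, true), (1, 87, true), (0, 90, true), (6, 46, true), (5, 60, true), (4, 75, true), (3, 80, true), (2, 87, true), (1, 90, true), (0, 12, true), (3, 73, true), (2, 80, true), (1, 87, true), (0, 90, true), (3, 78, true), (2, 85, true), (6, 59, true), (5, 74, true), (4, 79, true), (3, 86, true), (2, 88, true), (1, 11, true), (4, 72, true), (3, 80, true), (2, 87, true), (1, 89, true), (0, 12, true), (2, 79, true), (1, 86, true), (0, 88, true), (3, 77, true), (2, 9, true), (1, 89, true), (0, 90, true), (5, 58, true), (4, 71, true), (3, 80, true), (2, 89, true), (1, 90, true), (0, 12, true), (2, 79, true), (1, 88, true), (0, 11, true), (1, 76, true), (4, 57, true), (3, 74, true), (2, 79, true), (1, 83, true), (0, 88, true), (4, 70, true), (3, 79, true), (2, 83, true), (1, 88, true), (0, 11, true), (2, 7, true), (3, 4, true), (4, 15, true), (3, 54, true), (2, 75, true), (1, 84, true), (0, 89, true), (4, 52, true), (3, 74, true), (2, 83, true), (1, 88, true), (4,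 73, true), (3, 84, true), (2, 89, true), (1, 90, true), (0, 12, true), (2, 82, true), (1, 10, true), (3, 48, true), (2, 74, true), (1, 83, true), (0, 11, true), (1, 73, true), (0, 84, true), (1, 82, true), (3, 72, true), (2, 84, true), (1, 89, true), (0, 12, true), (1, 83, true), (0, 88, true), (2, 81, true), (1, 89, true), (0, 90, true), (5, 71, true), (4, 84, true), (3, 87, true), (2, 89, true), (1, 90, true), (0, 12, true), (3, 83, true), (2, 86, true), (1, 88, true), (0, 11, true), (2, 8, true), (1, 87, true), (0, 89, true), (3, 6, true), (2, 86, true), (1, 88, true), (4, 46, true), (3, 85, true), (2, 10, true), (2, 9, true), (1, 90, true), (0, 12, true), (4, 3, true), (3, 62, true), (2, 80, true), (1, 84, true), (0, 90, true), (4, 61, true), (3, 79, true), (2, 83, true), (1, 11, true), (3, 60, true), (2, 80, true), (1, 84, true), (0, 12, true), (1, 78, true), (0, 82, true), (3, 59, true), (2, 79, true), (1, 83, true), (0, 88, true), (3, 77, true), (2, 81, true), (1, 89, true), (0, 90, true), (6, 58, true), (5, 76, true), (4, 8, true), (3, 87, true), (2, 89, true), (1, 90, true), (0,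 12, true), (4, 55, true), (3, 80, true), (2, 87, true), (1, 89, true), (0, 90, true), (4, 79, true), (3, 86, true), (2, 88, true), (1, 11, true), (6, 14, true), (5, 60, true), (4, 69, true), (3, 80, true), (2, 87, true), (1, 89, true), (0, 12, true), (3, 67, true), (2, 78, true), (1, 85, true), (0, 10, true), (3, 57, true), (2, 68, true), (1, 79, true), (0, 86, true), (3, 64, true), (2, 7, true), (3, 56, true), (2, 68, true), (1, 86, true), (0, 11, true), (1, 63, true), (0, 86, true), (4, 55, true), (3, 69, true), (2, 75, true), (1, 87, true), (0, 90, true), (4, 68, true), (3, 74, true), (2, 86, true), (1, 11, true), (3, 5, true), (2, 74, true), (1, 86, true), (4, 4, true), (1, 86, false), (2, 74, false), (3, 5, false), (0, 87, false), (1, 8, false), (0, 11, false), (1, 86, false), (2, 83, false), (0, 12, false), (1, 90, false), (2, 87, false), (3, 84, false), (4, 71, false), (1, 86, false), (2, 83, false), (3, 74, false), (0, 87, false), (1, 84, false), (2, 75, false), (3, 65, false), (0, 12, false), (1, 81, false), (1, 11, false), (2, 83, false), (0, 90, false), (1, 84, false), (2, 72,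 false), (0, 83, false), (1, 74, false), (0, 12, false), (1, 84, false), (2, 75, false), (3, 66, false), (1, 10, false), (2, 82, false), (0, 89, false), (1, 84, false), (2, 73, false), (3, 67, false), (0, 11, false), (1, 88, false), (2, 83, false), (3, 74, false), (4, 68, false), (0, 12, false), (1, 90, false), (2, 89, false), (3, 84, false), (4, 75, false), (5, 69, false), (6, 3, false), (6, 4, false), (4, 7, false), (1, 88, false), (2, 83, false), (3, 79, false), (4, 70, false), (5, 64, false), (1, 11, false), (2, 88, false), (3, 83, false), (4, 79, false), (5, 74, false), (6, 68, false), (7, 57, false), (3, 76, false), (1, 88, false), (2, 79, false), (0, 89, false), (1, 80, false), (2, 71, false), (0, 11, false), (1, 88, false), (2, 79, false), (3, 74, false), (0, 12, false), (1, 90, false), (2, 89, false), (3, 80, false), (4, 75, false), (5, 65, false), (6, 58, false), (0, 90, false), (1, 89, false), (2, 9, false), (3, 77, false), (0, 88, false), (1, 86, false), (2, 79, false), (0, 12, false), (1, 89, false), (2, 87, false), (3, 80, false), (4, 72, false), (1, 11, false), (2, 88, false),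 (3, 86, false), (4, 79, false), (5, 74, false), (0, 90, false), (1, 89, false), (2, 87, false), (3, 80, false), (4, 75, false), (5, 66, false), (0, 88, false), (1, 86, false), (2, 79, false), (3, 74, false), (4, 68, false), (5, 59, false), (0, 85, false), (1, 78, false), (0, 12, false), (1, 87, false), (2, 80, false), (3, 73, false), (4, 67, false), (0, 87, false), (1, 80, false), (2, 75, false), (3, 69, false), (4, 60, false), (5, 46, false), (0, 11, false), (1, 86, false), (2, 79, false), (3, 74, false), (0, 12, false), (1, 90, false), (2, 87, false), (3, 80, false), (4, 75, false), (5, 55, false), (1, 86, false), (2, 79, false), (3, 74, false), (4, 61, false), (5, 47, false), (1, 11, false), (2, 86, false), (3, 79, false), (4, 56, false), (0, 90, false), (1, 87, false), (2, 8, false), (3, 76, false), (4, 58, false), (0, 12, false), (1, 90, false), (2, 81, false), (3, 77, false), (1, 83, false), (2, 79, false), (3, 59, false), (1, 10, false), (2, 82, false), (3, 78, false), (0, 89, false), (1, 84, false), (2, 80, false), (3, 60, false), (0, 11, false), (1, 88, false), (2, 83, false), (3,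 79, false), (4, 61, false), (5, 48, false), (2, 76, false), (3, 58, false), (1, 78, false), (0, 12, false), (1, 90, false), (2, 80, false), (3, 60, false), (1, 79, false), (2, 61, false), (0, 80, false), (1, 62, false), (2, 50, false), (0, 12, false), (1, 9, false), (2, 77, false), (1, 11, false), (2, 86, false), (3, 79, false), (4, 59, false), (2, 10, false), (3, 85, false), (4, 78, false), (0, 90, false), (1, 89, false), (2, 87, false), (3, 80, false), (4, 60, false), (0, 88, false), (1, 86, false), (2, 79, false), (3, 61, false), (0, 12, false), (1, 89, false), (2, 87, false), (3, 80, false), (4, 62, false), (5, 51, false), (1, 85, false), (2, 78, false), (0, 87, false), (1, 80, false), (2, 60, false), (0, 11, false), (1, 86, false), (2, 79, false), (3, 61, false), (4, 52, false), (0, 86, false), (1, 79, false), (2, 61, false), (3, 53, false), (0, 12, false), (1, 87, false), (2, 80, false), (3, 62, false), (4, 54, false), (5, 36, false), (0, 87, false), (1, 8, false), (0, 12, false), (1, 81, false), (1, 10, false), (2, 82, false), (3, 46, false), (1, 11, false), (0, 90, false), (1, 50,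 false), (1, 10, false), (0, 88, false), (1, 52, false), (0, 11, false), (1, 88, false), (2, 53, false), (0, 12, false), (1, 90, false), (2, 89, false), (3, 54, false), (4, 37, false), (1, 88, false), (2, 6, false), (0, 89, false), (1, 8, false), (0, 11, false), (1, 88, false), (2, 83, false), (0, 12, false), (1, 90, false), (2, 89, false), (3, 84, false), (4, 71, false), (0, 90, false), (1, 89, false), (2, 9, false), (0, 12, false), (1, 90, false), (2, 89, false), (3, 87, false), (4, 81, false), (1, 88, false), (2, 86, false), (3, 83, false), (0, 89, false), (1, 87, false), (2, 84, false), (3, 72, false), (0, 85, false), (1, 82, false), (0, 12, false), (1, 87, false), (2, 84, false), (3, 73, false), (1, 11, false), (2, 86, false), (3, 83, false), (4, 74, false), (5, 48, false), (4, 7, false), (1, 86, false), (2, 83, false), (3, 79, false), (4, 70, false), (1, 11, false), (2, 86, false), (3, 83, false), (4, 79, false), (5, 74, false), (0, 90, false), (1, 87, false), (2, 84, false), (3, 80, false), (4, 75, false), (5, 49, false), (2, 76, false), (0, 86, false), (1, 79, false), (0, 12, false),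 (1, 87, false), (2, 80, false), (3, 71, false), (1, 10, false), (2, 85, false), (3, 78, false), (0, 89, false), (1, 87, false), (2, 80, false), (3, 73, false), (0, 11, false), (1, 88, false), (2, 86, false), (3, 79, false), (4, 74, false), (0, 12, false), (1, 90, false), (2, 89, false), (3, 87, false), (4, 80, false), (5, 75, false), (6, 50, false), (1, 88, false), (2, 86, false), (3, 79, false), (4, 74, false), (5, 53, false), (6, 39, false), (1, 11, false), (2, 88, false), (3, 86, false), (4, 70, false), (1, 88, false), (2, 86, false), (3, 74, false), (0, 89, false), (1, 87, false), (2, 75, false), (3, 49, false), (0, 11, false), (1, 88, false), (2, 86, false), (3, 74, false), (4, 53, false), (5, 40, false), (0, 12, false), (1, 90, false), (2, 89, false), (3, 87, false), (4, 8, false), (1, 88, false), (2, 86, false), (3, 83, false), (0, 89, false), (1, 87, false), (2, 84, false), (3, 71, false), (0, 85, false), (1, 82, false), (0, 12, false), (1, 87, false), (2, 84, false), (3, 73, false), (1, 11, false), (2, 86, false), (3, 83, false), (4, 74, false), (0, 90, false), (1, 87, false), (2,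 84, false), (3, 75, false), (4, 50, false), (0, 86, false), (1, 83, false), (2, 74, false), (3, 53, false), (0, 12, false), (1, 87, false), (2, 84, false), (3, 75, false), (4, 54, false), (5, 41, false), (0, 81, false), (0, 11, false), (1, 83, false), (0, 12, false), (1, 90, false), (2, 84, false), (3, 72, false), (2, 10, false), (3, 82, false), (0, 90, false), (1, 89, false), (2, 84, false), (3, 73, false), (0, 88, false), (1, 83, false), (2, 74, false), (0, 12, false), (1, 89, false), (2, 84, false), (3, 75, false), (4, 51, false), (1, 82, false), (0, 84, false), (1, 73, false), (0, 11, false), (1, 83, false), (2, 74, false), (3, 52, false), (0, 12, false), (1, 90, false), (2, 84, false), (3, 75, false), (4, 54, false), (5, 42, false), (1, 83, false), (2, 74, false), (3, 53, false), (4, 44, false), (0, 84, false), (1, 75, false), (2, 54, false), (3, 45, false), (2, 4, false), (0, 11, false), (1, 83, false), (2, 74, false), (3, 61, false), (0, 12, false), (1, 90, false), (2, 84, false), (3, 75, false), (4, 62, false), (1, 83, false), (2, 74, false), (3, 5, false), (1, 11, false), (2, 83,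 false), (3, 74, false), (4, 68, false), (0, 90, false), (1, 84, false), (2, 75, false), (3, 69, false), (4, 55, false), (2, 7, false), (0, 83, false), (1, 79, false), (2, 70, false), (3, 64, false), (0, 11, false), (1, 83, false), (2, 79, false), (3, 74, false), (4, 68, false), (5, 57, false), (1, 76, false), (0, 79, false), (0, 12, false), (1, 80, false), (2, 71, false), (1, 11, false), (2, 79, false), (3, 74, false), (0, 90, false), (1, 80, false), (2, 75, false), (3, 65, false), (4, 58, false), (0, 12, false), (1, 90, false), (2, 9, false), (3, 77, false), (1, 86, false), (2, 79, false), (0, 87, false), (1, 80, false), (2, 72, false), (0, 11, false), (1, 86, false), (2, 79, false), (3, 74, false), (0, 12, false), (1, 90, false), (2, 87, false), (3, 80, false), (4, 75, false), (5, 66, false), (1, 86, false), (2, 79, false), (3, 74, false), (4, 68, false), (5, 59, false), (0, 87, false), (1, 80, false), (2, 75, false), (3, 69, false), (4, 62, false), (0, 77, false), (0, 11, false), (1, 79, false), (0, 12, false), (1, 90, false), (2, 80, false), (2, 10, false), (1, 88, false), (0, 89, false),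 (0, 11, false), (0, 12, false), (1, 90, false)], [(8, 45, true), (7, 54, true), (6, 62, true), (5, 69, true), (4, 75, true), (3, 80, true), (2, 84, true), (1, 89, true), (0, 12, true), (7, 44, true), (6, 53, true), (5, 61, true), (4, 68, true), (3, 74, true), (2, 79, true), (1, 83, true), (0, 88, true), (8, 37, true), (7, 54, true), (6, 62, true), (5, 69, true), (4, 75, true), (3, 80, true), (2, 84, true), (1, 89, true), (0, 90, true), (8, 53, true), (7, 61, true), (6, 68, true), (5, 74, true), (4, 79, true), (3, 83, true), (2, 88, true), (1, 11, true), (7, 52, true), (6, 61, true), (5, 68, true), (4, 74, true), (3, 79, true), (2, 83, true), (1, 88, true), (7, 60, true), (6, 69, true), (5, 75, true), (4, 80, true), (3, 84, true), (2, 89, true), (1, 90, true), (0, 12, true), (5, 67, true), (4, 73, true), (3, 80, true), (2, 84, true), (1, 89, true), (0, 90, true), (4, 78, true), (3, 82, true), (2, 10, true), (7, 50, true), (6, 62, true), (5, 69, true), (4, 75, true), (3, 80, true), (2, 84, true), (1, 90, true), (0, 12, true), (5, 61, true), (4, 68, true), (3, 74, true), (2, 79, true), (1,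 83, true), (0, 11, true), (4, 60, true), (3, 69, true), (2, 75, true), (1, 80, true), (0, 84, true), (4, 67, true), (3, 73, true), (2, 80, true), (1, 84, true), (0, 12, true), (1, 78, true), (0, 82, true), (5, 58, true), (4, 65, true), (3, 75, true), (2, 80, true), (1, 84, true), (0, 89, true), (4, 74, true), (3, 79, true), (2, 83, true), (1, 88, true), (5, 71, true), (4, 80, true), (3, 84, true), (2, 89, true), (1, 90, true), (0, 12, true), (3, 79, true), (2, 83, true), (1, 88, true), (0, 11, true), (2, 76, true), (1, 8, true), (0, 89, true), (6, 46, true), (5, 60, true), (4, 69, true), (3, 75, true), (2, 80, true), (1, 89, true), (0, 12, true), (3, 67, true), (2, 73, true), (1, 80, true), (0, 89, true), (2, 78, true), (1, 10, true), (4, 59, true), (3, 68, true), (2, 74, true), (1, 79, true), (4, 66, true), (3, 75, true), (2, 80, true), (1, 90, true), (0, 12, true), (2, 74, true), (1, 79, true), (0, 11, true), (1, 72, true), (0, 80, true), (1, 79, true), (2, 77, true), (6, 58, true), (5, 65, true), (4, 75, true), (3, 80, true), (2, 87, true), (1, 90, true), (0, 12, true), (3, 74, true),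 (2, 79, true), (1, 86, true), (0, 11, true), (2, 71, true), (1, 80, true), (0, 87, true), (2, 79, true), (1, 86, true), (3, 76, true), (7, 57, true), (6, 68, true), (5, 74, true), (4, 79, true), (3, 83, true), (2, 86, true), (1, 11, true), (5, 64, true), (4, 70, true), (3, 79, true), (2, 83, true), (1, 86, true), (4, 7, true), (6, 4, true), (7, 36, true), (6, 54, true), (5, 69, true), (4, 75, true), (3, 84, true), (2, 87, true), (1, 90, true), (0, 12, true), (5, 53, true), (4, 68, true), (3, 74, true), (2, 83, true), (1, 86, true), (0, 11, true), (4, 52, true), (3, 68, true), (2, 74, true), (1, 83, true), (0, 86, true), (4, 67, true), (3, 73, true), (2, 84, true), (1, 87, true), (0, 90, true), (3, 82, true), (2, 85, true), (7, 51, true), (6, 69, true), (5, 75, true), (4, 84, true), (3, 87, true), (2, 89, true), (1, 90, true), (0, 12, true), (5, 68, true), (4, 74, true), (3, 83, true), (2, 86, true), (1, 88, true), (0, 11, true), (4, 67, true), (3, 73, true), (2, 84, true), (1, 87, true), (0, 89, true), (3, 82, true), (2, 85, true), (1, 10, true), (4, 66, true), (3, 75, true), (2, 84, true),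 (1, 87, true), (0, 12, true), (2, 74, true), (1, 83, true), (0, 86, true), (3, 72, true), (2, 84, true), (1, 87, true), (0, 90, true), (3, 83, true), (2, 86, true), (1, 11, true), (2, 81, true), (1, 87, true), (0, 12, true), (0, 9, true), (4, 50, true), (3, 69, true), (2, 75, true), (1, 84, true), (0, 12, true), (2, 68, true), (1, 74, true), (0, 83, true), (3, 67, true), (2, 73, true), (1, 84, true), (0, 90, true), (2, 82, true), (5, 65, true), (4, 75, true), (3, 84, true), (2, 89, true), (1, 90, true), (0, 12, true), (3, 74, true), (2, 83, true), (1, 88, true), (0, 11, true), (2, 71, true), (1, 84, true), (0, 89, true), (2, 83, true), (1, 88, true), (3, 8, true), (2, 89, true), (1, 90, true), (0, 12, true), (4, 48, true), (3, 68, true), (2, 74, true), (1, 88, true), (0, 11, true), (2, 67, true), (1, 73, true), (0, 89, true), (1, 10, true), (2, 66, true), (1, 75, true), (0, 12, true), (0, 74, true), (1, 72, true), (0, 90, true), (1, 11, true), (3, 65, true), (2, 75, true), (1, 87, true), (0, 12, true), (1, 74, true), (0, 86, true), (2, 71, true), (1, 87, true), (0, 90, true), (2, 86, true),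 (1, 11, true), (4, 63, true), (3, 74, true), (2, 83, true), (1, 86, true), (4, 6, true), (3, 83, true), (2, 86, true), (1, 11, true), (4, 47, true), (3, 68, true), (2, 83, true), (1, 86, true), (4, 5, true), (3, 83, true), (2, 86, true), (1, 11, true), (3, 46, true), (2, 82, true), (1, 85, true), (3, 81, true), (2, 87, true), (1, 89, true), (0, 12, true), (1, 9, true), (0, 89, true), (2, 8, true), (1, 89, true), (0, 12, true), (3, 3, true), (2, 62, true), (1, 80, true), (0, 89, true), (3, 61, true), (2, 79, true), (1, 88, true), (4, 60, true), (3, 80, true), (2, 89, true), (1, 90, true), (0, 12, true), (2, 78, true), (1, 10, true), (2, 59, true), (1, 79, true), (0, 11, true), (0, 77, true), (2, 58, true), (1, 76, true), (3, 55, true), (2, 80, true), (1, 84, true), (0, 87, true), (3, 79, true), (2, 83, true), (1, 86, true), (7, 2, true), (6, 61, true), (5, 68, true), (4, 79, true), (3, 83, true), (2, 86, true), (1, 11, true), (5, 60, true), (4, 69, true), (3, 80, true), (2, 84, true), (1, 87, true), (0, 12, true), (3, 67, true), (2, 78, true), (1, 82, true), (0, 85, true), (5, 58, true),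 (4, 65, true), (3, 80, true), (2, 84, true), (1, 87, true), (0, 89, true), (4, 79, true), (3, 83, true), (2, 86, true), (1, 88, true), (5, 76, true), (4, 8, true), (3, 87, true), (2, 89, true), (1, 90, true), (0, 12, true), (5, 57, true), (4, 68, true), (3, 79, true), (2, 86, true), (1, 88, true), (0, 11, true), (3, 64, true), (2, 7, true), (2, 7, false), (3, 64, false), (0, 11, false), (1, 88, false), (2, 86, false), (3, 79, false), (4, 68, false), (5, 57, false), (0, 12, false), (1, 90, false), (2, 89, false), (3, 87, false), (4, 8, false), (5, 76, false), (1, 88, false), (2, 86, false), (3, 83, false), (4, 79, false), (0, 89, false), (1, 87, false), (2, 84, false), (3, 80, false), (4, 65, false), (5, 58, false), (0, 85, false), (1, 82, false), (2, 78, false), (3, 67, false), (0, 12, false), (1, 87, false), (2, 84, false), (3, 80, false), (4, 69, false), (5, 60, false), (1, 11, false), (2, 86, false), (3, 83, false), (4, 79, false), (5, 68, false), (6, 61, false), (7, 2, false), (1, 86, false), (2, 83, false), (3, 79, false), (0, 87, false), (1, 84, false), (2, 80, false), (3, 55, false),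 (1, 76, false), (2, 58, false), (0, 77, false), (0, 11, false), (1, 79, false), (2, 59, false), (1, 10, false), (2, 78, false), (0, 12, false), (1, 90, false), (2, 89, false), (3, 80, false), (4, 60, false), (1, 88, false), (2, 79, false), (3, 61, false), (0, 89, false), (1, 80, false), (2, 62, false), (3, 3, false), (0, 12, false), (1, 89, false), (2, 8, false), (0, 89, false), (1, 9, false), (0, 12, false), (1, 89, false), (2, 87, false), (3, 81, false), (1, 85, false), (2, 82, false), (3, 46, false), (1, 11, false), (2, 86, false), (3, 83, false), (4, 5, false), (1, 86, false), (2, 83, false), (3, 68, false), (4, 47, false), (1, 11, false), (2, 86, false), (3, 83, false), (4, 6, false), (1, 86, false), (2, 83, false), (3, 74, false), (4, 63, false), (1, 11, false), (2, 86, false), (0, 90, false), (1, 87, false), (2, 71, false), (0, 86, false), (1, 74, false), (0, 12, false), (1, 87, false), (2, 75, false), (3, 65, false), (1, 11, false), (0, 90, false), (1, 72, false), (0, 74, false), (0, 12, false), (1, 75, false), (2, 66, false), (1, 10, false), (0, 89, false), (1, 73, false), (2, 67,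 false), (0, 11, false), (1, 88, false), (2, 74, false), (3, 68, false), (4, 48, false), (0, 12, false), (1, 90, false), (2, 89, false), (3, 8, false), (1, 88, false), (2, 83, false), (0, 89, false), (1, 84, false), (2, 71, false), (0, 11, false), (1, 88, false), (2, 83, false), (3, 74, false), (0, 12, false), (1, 90, false), (2, 89, false), (3, 84, false), (4, 75, false), (5, 65, false), (2, 82, false), (0, 90, false), (1, 84, false), (2, 73, false), (3, 67, false), (0, 83, false), (1, 74, false), (2, 68, false), (0, 12, false), (1, 84, false), (2, 75, false), (3, 69, false), (4, 50, false), (0, 9, false), (0, 12, false), (1, 87, false), (2, 81, false), (1, 11, false), (2, 86, false), (3, 83, false), (0, 90, false), (1, 87, false), (2, 84, false), (3, 72, false), (0, 86, false), (1, 83, false), (2, 74, false), (0, 12, false), (1, 87, false), (2, 84, false), (3, 75, false), (4, 66, false), (1, 10, false), (2, 85, false), (3, 82, false), (0, 89, false), (1, 87, false), (2, 84, false), (3, 73, false), (4, 67, false), (0, 11, false), (1, 88, false), (2, 86, false), (3, 83, false), (4, 74, false),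 (5, 68, false), (0, 12, false), (1, 90, false), (2, 89, false), (3, 87, false), (4, 84, false), (5, 75, false), (6, 69, false), (7, 51, false), (2, 85, false), (3, 82, false), (0, 90, false), (1, 87, false), (2, 84, false), (3, 73, false), (4, 67, false), (0, 86, false), (1, 83, false), (2, 74, false), (3, 68, false), (4, 52, false), (0, 11, false), (1, 86, false), (2, 83, false), (3, 74, false), (4, 68, false), (5, 53, false), (0, 12, false), (1, 90, false), (2, 87, false), (3, 84, false), (4, 75, false), (5, 69, false), (6, 54, false), (7, 36, false), (6, 4, false), (4, 7, false), (1, 86, false), (2, 83, false), (3, 79, false), (4, 70, false), (5, 64, false), (1, 11, false), (2, 86, false), (3, 83, false), (4, 79, false), (5, 74, false), (6, 68, false), (7, 57, false), (3, 76, false), (1, 86, false), (2, 79, false), (0, 87, false), (1, 80, false), (2, 71, false), (0, 11, false), (1, 86, false), (2, 79, false), (3, 74, false), (0, 12, false), (1, 90, false), (2, 87, false), (3, 80, false), (4, 75, false), (5, 65, false), (6, 58, false), (2, 77, false), (1, 79, false), (0, 80, false), (1,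 72, false), (0, 11, false), (1, 79, false), (2, 74, false), (0, 12, false), (1, 90, false), (2, 80, false), (3, 75, false), (4, 66, false), (1, 79, false), (2, 74, false), (3, 68, false), (4, 59, false), (1, 10, false), (2, 78, false), (0, 89, false), (1, 80, false), (2, 73, false), (3, 67, false), (0, 12, false), (1, 89, false), (2, 80, false), (3, 75, false), (4, 69, false), (5, 60, false), (6, 46, false), (0, 89, false), (1, 8, false), (2, 76, false), (0, 11, false), (1, 88, false), (2, 83, false), (3, 79, false), (0, 12, false), (1, 90, false), (2, 89, false), (3, 84, false), (4, 80, false), (5, 71, false), (1, 88, false), (2, 83, false), (3, 79, false), (4, 74, false), (0, 89, false), (1, 84, false), (2, 80, false), (3, 75, false), (4, 65, false), (5, 58, false), (0, 82, false), (1, 78, false), (0, 12, false), (1, 84, false), (2, 80, false), (3, 73, false), (4, 67, false), (0, 84, false), (1, 80, false), (2, 75, false), (3, 69, false), (4, 60, false), (0, 11, false), (1, 83, false), (2, 79, false), (3, 74, false), (4, 68, false), (5, 61, false), (0, 12, false), (1, 90, false), (2, 84,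 false), (3, 80, false), (4, 75, false), (5, 69, false), (6, 62, false), (7, 50, false), (2, 10, false), (3, 82, false), (4, 78, false), (0, 90, false), (1, 89, false), (2, 84, false), (3, 80, false), (4, 73, false), (5, 67, false), (0, 12, false), (1, 90, false), (2, 89, false), (3, 84, false), (4, 80, false), (5, 75, false), (6, 69, false), (7, 60, false), (1, 88, false), (2, 83, false), (3, 79, false), (4, 74, false), (5, 68, false), (6, 61, false), (7, 52, false), (1, 11, false), (2, 88, false), (3, 83, false), (4, 79, false), (5, 74, false), (6, 68, false), (7, 61, false), (8, 53, false), (0, 90, false), (1, 89, false), (2, 84, false), (3, 80, false), (4, 75, false), (5, 69, false), (6, 62, false), (7, 54, false), (8, 37, false), (0, 88, false), (1, 83, false), (2, 79, false), (3, 74, false), (0, 12, false), (1, 89, false), (2, 84, false), (3, 80, false), (4, 75, false), (5, 55, false), (1, 11, false), (2, 88, false), (3, 83, false), (4, 79, false), (5, 74, false), (6, 61, false), (7, 47, false), (1, 88, false), (2, 83, false), (3, 70, false), (1, 11, false), (2, 88, false), (3, 83,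 false), (4, 74, false), (5, 57, false), (1, 88, false), (2, 83, false), (3, 74, false), (4, 61, false), (0, 89, false), (1, 84, false), (2, 75, false), (3, 62, false), (4, 49, false), (0, 82, false), (0, 12, false), (1, 84, false), (2, 73, false), (0, 84, false), (1, 75, false), (2, 60, false), (0, 11, false), (1, 83, false), (2, 74, false), (3, 61, false), (4, 52, false), (0, 83, false), (1, 74, false), (2, 61, false), (3, 53, false), (0, 12, false), (1, 84, false), (2, 75, false), (3, 62, false), (4, 54, false), (5, 38, false), (1, 11, false), (2, 83, false), (3, 56, false), (2, 58, false), (0, 90, false), (1, 9, false), (0, 86, false), (1, 59, false), (0, 10, false), (1, 85, false), (0, 12, false), (1, 89, false), (2, 87, false), (3, 60, false), (1, 11, false), (2, 88, false), (3, 86, false), (4, 61, false), (5, 48, false), (4, 7, false), (1, 88, false), (2, 86, false), (3, 79, false), (4, 57, false), (1, 11, false), (2, 88, false), (3, 86, false), (4, 79, false), (5, 61, false), (0, 90, false), (1, 89, false), (2, 87, false), (3, 80, false), (4, 62, false), (5, 49, false), (0, 12, false),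 (1, 90, false), (2, 89, false), (3, 87, false), (4, 8, false), (5, 76, false), (6, 58, false), (2, 85, false), (3, 82, false), (4, 78, false), (0, 90, false), (1, 87, false), (2, 84, false), (3, 80, false), (4, 60, false), (0, 86, false), (1, 83, false), (2, 79, false), (3, 61, false), (0, 12, false), (1, 87, false), (2, 84, false), (3, 80, false), (4, 62, false), (5, 50, false), (1, 11, false), (2, 86, false), (3, 83, false), (4, 79, false), (5, 61, false), (6, 53, false), (7, 39, false), (1, 86, false), (2, 83, false), (3, 57, false), (1, 11, false), (2, 86, false), (3, 83, false), (4, 61, false), (0, 90, false), (1, 87, false), (2, 84, false), (3, 62, false), (4, 49, false), (0, 86, false), (1, 83, false), (2, 61, false), (3, 53, false), (4, 40, false), (1, 58, false), (0, 10, false), (1, 85, false), (0, 12, false), (1, 89, false), (2, 87, false), (3, 60, false), (1, 11, false), (2, 88, false), (3, 86, false), (4, 61, false), (0, 90, false), (1, 89, false), (2, 87, false), (3, 62, false), (4, 50, false), (0, 88, false), (1, 86, false), (2, 61, false), (3, 53, false), (0, 12, false), (1,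 89, false), (2, 87, false), (3, 62, false), (4, 54, false), (5, 41, false), (1, 85, false), (0, 87, false), (1, 60, false), (0, 11, false), (1, 86, false), (2, 61, false), (3, 52, false), (0, 12, false), (1, 90, false), (2, 87, false), (3, 62, false), (4, 54, false), (5, 43, false), (0, 90, false), (1, 87, false), (2, 62, false), (3, 54, false), (4, 45, false), (0, 86, false), (0, 12, false), (1, 87, false), (1, 11, false), (2, 86, false), (3, 5, false), (0, 90, false), (1, 87, false), (2, 8, false), (0, 86, false), (1, 83, false), (0, 12, false), (1, 87, false), (2, 84, false), (3, 65, false), (0, 81, false), (0, 11, false), (1, 83, false), (0, 12, false), (1, 90, false), (2, 84, false), (3, 66, false), (1, 83, false), (2, 68, false), (0, 84, false), (1, 69, false), (1, 7, false), (0, 76, false), (0, 10, false), (1, 78, false), (0, 12, false), (1, 89, false), (2, 80, false), (1, 11, false)]),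
    ([0, 2], [11, 7, 5, 4, 2, 0], [(8, 24, true), (7, 54, true), (6, 62, true), (5, 75, true), (4, 80, true), (3, 84, true), (2, 87, true), (1, 90, true), (0, 12, true), (7, 23, true), (6, 53, true), (5, 61, true), (4, 74, true), (3, 79, true), (2, 83, true), (1, 86, true), (0, 11, true), (6, 21, true), (5, 54, true), (4, 62, true), (3, 75, true), (2, 80, true), (1, 84, true), (0, 87, true), (6, 53, true), (5, 61, true), (4, 74, true), (3, 79, true), (2, 83, true), (1, 86, true), (7, 52, true), (6, 61, true), (5, 74, true), (4, 79, true), (3, 83, true), (2, 86, true), (1, 11, true), (5, 60, true), (4, 75, true), (3, 80, true), (2, 84, true), (1, 87, true), (0, 12, true), (3, 73, true), (2, 80, true), (1, 84, true), (0, 87, true), (3, 78, true), (2, 82, true), (1, 85, true), (7, 51, true), (6, 62, true), (5, 75, true), (4, 80, true), (3, 84, true), (2, 87, true), (1, 89, true), (0, 12, true), (5, 61, true), (4, 74, true), (3, 79, true), (2, 83, true), (1, 86, true), (0, 88, true), (6, 60, true), (5, 75, true), (4, 80, true), (3, 84, true), (2, 87, true), (1, 89, true), (0, 90, true), (6,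 73, true), (5, 80, true), (4, 84, true), (3, 87, true), (2, 89, true), (1, 90, true), (0, 12, true), (4, 78, true), (3, 82, true), (2, 85, true), (1, 10, true), (5, 59, true), (4, 74, true), (3, 79, true), (2, 83, true), (1, 86, true), (0, 11, true), (3, 72, true), (2, 80, true), (1, 84, true), (0, 87, true), (3, 79, true), (2, 83, true), (1, 86, true), (4, 77, true), (3, 81, true), (2, 87, true), (1, 90, true), (0, 12, true), (1, 9, true), (0, 90, true), (7, 20, true), (6, 54, true), (5, 62, true), (4, 75, true), (3, 80, true), (2, 84, true), (1, 90, true), (0, 12, true), (5, 53, true), (4, 61, true), (3, 74, true), (2, 79, true), (1, 83, true), (0, 11, true), (4, 50, true), (3, 62, true), (2, 75, true), (1, 80, true), (0, 84, true), (4, 61, true), (3, 74, true), (2, 79, true), (1, 83, true), (5, 60, true), (4, 75, true), (3, 80, true), (2, 84, true), (1, 90, true), (0, 12, true), (3, 73, true), (2, 80, true), (1, 84, true), (0, 90, true), (3, 78, true), (2, 82, true), (6, 58, true), (5, 71, true), (4, 80, true), (3, 84, true), (2, 89, true), (1, 90, true), (0, 12, true), (3, 79, true),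 (2, 83, true), (1, 88, true), (0, 11, true), (2, 76, true), (1, 8, true), (0, 89, true), (6, 19, true), (5, 54, true), (4, 62, true), (3, 75, true), (2, 80, true), (1, 89, true), (0, 12, true), (4, 49, true), (3, 62, true), (2, 75, true), (1, 80, true), (0, 89, true), (4, 61, true), (3, 74, true), (2, 79, true), (1, 88, true), (5, 57, true), (4, 74, true), (3, 79, true), (2, 88, true), (1, 11, true), (3, 70, true), (2, 79, true), (1, 88, true), (3, 7, true), (6, 18, true), (5, 54, true), (4, 62, true), (3, 75, true), (2, 89, true), (1, 90, true), (0, 12, true), (4, 50, true), (3, 62, true), (2, 75, true), (1, 89, true), (0, 90, true), (4, 61, true), (3, 74, true), (2, 88, true), (1, 11, true), (3, 60, true), (2, 75, true), (1, 89, true), (0, 12, true), (1, 73, true), (0, 89, true), (1, 10, true), (2, 58, true), (1, 71, true), (0, 12, true), (4, 49, true), (3, 62, true), (2, 75, true), (1, 84, true), (0, 90, true), (4, 61, true), (3, 74, true), (2, 83, true), (1, 11, true), (3, 57, true), (2, 74, true), (1, 83, true), (3, 70, true), (2, 83, true), (1, 11, true), (5, 48, true), (4, 61, true),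 (3, 74, true), (2, 79, true), (1, 83, true), (5, 60, true), (4, 75, true), (3, 80, true), (2, 84, true), (1, 90, true), (0, 12, true), (3, 73, true), (2, 80, true), (1, 84, true), (0, 90, true), (3, 78, true), (2, 82, true), (6, 59, true), (5, 74, true), (4, 79, true), (3, 83, true), (2, 88, true), (1, 11, true), (4, 72, true), (3, 80, true), (2, 84, true), (1, 89, true), (0, 12, true), (2, 79, true), (1, 83, true), (0, 88, true), (3, 77, true), (2, 81, true), (1, 89, true), (0, 90, true), (7, 58, true), (6, 71, true), (5, 80, true), (4, 84, true), (3, 87, true), (2, 89, true), (1, 90, true), (0, 12, true), (4, 79, true), (3, 83, true), (2, 86, true), (1, 88, true), (0, 11, true), (3, 76, true), (2, 8, true), (1, 87, true), (0, 89, true), (5, 56, true), (4, 74, true), (3, 79, true), (2, 86, true), (1, 88, true), (5, 6, true), (4, 79, true), (3, 86, true), (2, 88, true), (1, 11, true), (6, 17, true), (5, 54, true), (4, 62, true), (3, 80, true), (2, 87, true), (1, 89, true), (0, 12, true), (4, 52, true), (3, 61, true), (2, 79, true), (1, 86, true), (0, 88, true), (4, 60, true), (3, 80, true),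 (2, 87, true), (1, 89, true), (0, 90, true), (4, 78, true), (3, 85, true), (2, 10, true), (5, 49, true), (4, 62, true), (3, 80, true), (2, 87, true), (1, 90, true), (0, 12, true), (3, 61, true), (2, 79, true), (1, 86, true), (0, 11, true), (2, 57, true), (1, 79, true), (0, 86, true), (2, 7, true), (3, 47, true), (2, 61, true), (1, 86, true), (0, 11, true), (1, 55, true), (0, 87, true), (1, 86, true), (6, 16, true), (5, 52, true), (4, 61, true), (3, 68, true), (2, 86, true), (1, 11, true), (3, 60, true), (2, 69, true), (1, 87, true), (0, 12, true), (1, 67, true), (0, 85, true), (4, 50, true), (3, 62, true), (2, 69, true), (1, 87, true), (0, 89, true), (4, 61, true), (3, 68, true), (2, 86, true), (1, 88, true), (5, 60, true), (4, 69, true), (3, 87, true), (2, 89, true), (1, 90, true), (0, 12, true), (3, 67, true), (2, 85, true), (1, 10, true), (3, 58, true), (2, 65, true), (1, 87, true), (0, 90, true), (2, 86, true), (1, 11, true), (5, 46, true), (4, 60, true), (3, 69, true), (2, 84, true), (1, 87, true), (0, 12, true), (2, 67, true), (1, 82, true), (0, 85, true), (4, 59, true), (3, 68, true),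 (2, 83, true), (1, 86, true), (0, 88, true), (4, 66, true), (3, 84, true), (2, 87, true), (1, 89, true), (0, 90, true), (4, 83, true), (3, 86, true), (2, 88, true), (1, 11, true), (3, 81, true), (2, 87, true), (1, 89, true), (0, 12, true), (1, 9, true), (0, 89, true), (4, 58, true), (3, 65, true), (2, 84, true), (1, 89, true), (0, 12, true), (1, 83, true), (0, 88, true), (2, 8, true), (1, 89, true), (0, 90, true), (4, 57, true), (3, 68, true), (2, 88, true), (1, 11, true), (2, 64, true), (4, 4, true), (5, 14, true), (4, 52, true), (3, 68, true), (2, 79, true), (1, 88, true), (4, 67, true), (3, 78, true), (2, 10, true), (4, 49, true), (3, 69, true), (2, 80, true), (1, 90, true), (0, 12, true), (2, 68, true), (1, 79, true), (0, 11, true), (1, 64, true), (0, 7, true), (1, 48, true), (0, 68, true), (1, 67, true), (2, 66, true), (1, 89, true), (0, 90, true), (2, 88, true), (1, 11, true), (3, 65, true), (2, 87, true), (1, 89, true), (0, 12, true), (1, 86, true), (0, 88, true), (4, 63, true), (3, 83, true), (2, 86, true), (1, 88, true), (0, 11, true), (5, 47, true), (4, 68, true), (3, 74, true),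 (2, 83, true), (1, 86, true), (0, 88, true), (5, 5, true), (4, 74, true), (3, 83, true), (2, 86, true), (1, 88, true), (0, 11, true), (4, 46, true), (3, 73, true), (2, 84, true), (1, 87, true), (0, 89, true), (3, 82, true), (2, 85, true), (1, 10, true), (3, 72, true), (2, 84, true), (1, 87, true), (0, 12, true), (1, 83, true), (0, 86, true), (2, 81, true), (1, 87, true), (0, 90, true), (2, 9, true), (1, 90, true), (0, 12, true), (2, 71, true), (1, 84, true), (0, 90, true), (2, 83, true), (1, 11, true), (1, 8, true), (0, 12, true), (0, 70, true), (0, 79, false), (1, 74, false), (2, 5, false), (0, 11, false), (1, 79, false), (2, 63, false), (0, 12, false), (1, 90, false), (2, 8, false), (3, 76, false), (1, 83, false), (2, 79, false), (0, 84, false), (1, 80, false), (2, 65, false), (0, 12, false), (1, 9, false), (0, 87, false), (1, 81, false), (2, 77, false), (0, 11, false), (1, 86, false), (2, 83, false), (3, 79, false), (0, 12, false), (1, 90, false), (2, 87, false), (3, 84, false), (4, 80, false), (5, 66, false), (2, 10, false), (3, 85, false), (4, 82, false), (5, 78, false), (6, 67, false),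 (1, 88, false), (2, 86, false), (3, 83, false), (4, 79, false), (5, 68, false), (0, 89, false), (1, 87, false), (2, 84, false), (3, 80, false), (4, 69, false), (5, 36, false), (5, 4, false), (2, 76, false), (0, 11, false), (1, 88, false), (2, 86, false), (3, 79, false), (0, 12, false), (1, 90, false), (2, 89, false), (3, 87, false), (4, 80, false), (5, 65, false), (6, 58, false), (2, 85, false), (3, 78, false), (4, 67, false), (0, 90, false), (1, 87, false), (2, 80, false), (3, 69, false), (4, 60, false), (0, 86, false), (1, 79, false), (2, 68, false), (3, 61, false), (0, 12, false), (1, 87, false), (2, 80, false), (3, 69, false), (4, 62, false), (5, 37, false), (1, 11, false), (2, 86, false), (3, 79, false), (4, 6, false), (1, 86, false), (2, 79, false), (3, 74, false), (4, 63, false), (1, 11, false), (2, 86, false), (3, 79, false), (4, 74, false), (5, 68, false), (6, 56, false), (1, 86, false), (2, 70, false), (3, 64, false), (1, 11, false), (2, 86, false), (3, 74, false), (4, 68, false), (5, 57, false), (0, 90, false), (1, 87, false), (2, 8, false), (0, 86, false), (1, 83, false), (0,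 12, false), (1, 87, false), (2, 84, false), (3, 71, false), (1, 11, false), (2, 86, false), (3, 83, false), (4, 74, false), (0, 90, false), (1, 87, false), (2, 84, false), (3, 75, false), (4, 65, false), (5, 58, false), (0, 86, false), (1, 83, false), (2, 74, false), (3, 68, false), (4, 61, false), (5, 39, false), (2, 7, false), (0, 11, false), (1, 86, false), (2, 83, false), (3, 79, false), (4, 70, false), (5, 64, false), (0, 86, false), (1, 83, false), (2, 79, false), (3, 74, false), (4, 68, false), (5, 57, false), (0, 11, false), (1, 86, false), (2, 83, false), (3, 79, false), (4, 74, false), (5, 68, false), (6, 61, false), (7, 40, false), (2, 76, false), (0, 86, false), (1, 79, false), (0, 12, false), (1, 87, false), (2, 80, false), (3, 71, false), (1, 11, false), (2, 86, false), (3, 79, false), (4, 74, false), (0, 90, false), (1, 87, false), (2, 80, false), (3, 75, false), (4, 65, false), (5, 58, false), (0, 86, false), (1, 79, false), (2, 74, false), (3, 68, false), (4, 61, false), (0, 12, false), (1, 87, false), (2, 80, false), (3, 75, false), (4, 69, false), (5, 62, false), (6, 41,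 false), (1, 77, false), (1, 11, false), (2, 79, false), (0, 90, false), (1, 80, false), (2, 72, false), (0, 79, false), (1, 74, false), (0, 12, false), (1, 80, false), (2, 75, false), (3, 66, false), (1, 11, false), (2, 79, false), (3, 74, false), (4, 68, false), (5, 59, false), (2, 10, false), (3, 78, false), (0, 90, false), (1, 89, false), (2, 80, false), (3, 73, false), (4, 67, false), (0, 12, false), (1, 90, false), (2, 89, false), (3, 80, false), (4, 75, false), (5, 69, false), (6, 60, false), (0, 90, false), (1, 89, false), (2, 80, false), (3, 75, false), (4, 69, false), (5, 62, false), (6, 42, false), (0, 88, false), (1, 79, false), (2, 74, false), (3, 68, false), (4, 61, false), (5, 44, false), (0, 12, false), (1, 89, false), (2, 80, false), (3, 75, false), (4, 69, false), (5, 62, false), (6, 45, false), (0, 89, false), (1, 8, false), (0, 12, false), (1, 89, false), (2, 9, false), (0, 89, false), (1, 87, false), (2, 81, false), (0, 11, false), (1, 88, false), (2, 86, false), (3, 83, false), (0, 12, false), (1, 90, false), (2, 89, false), (3, 87, false), (4, 84, false), (5, 7, false),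 (4, 76, false), (0, 90, false), (1, 89, false), (2, 87, false), (3, 80, false), (0, 88, false), (1, 86, false), (2, 79, false), (3, 5, false), (2, 64, false), (0, 12, false), (1, 89, false), (2, 87, false), (3, 8, false), (1, 11, false), (2, 88, false), (3, 86, false), (4, 83, false), (0, 90, false), (1, 89, false), (2, 87, false), (3, 84, false), (4, 65, false), (0, 12, false), (1, 90, false), (2, 89, false), (3, 81, false), (1, 88, false), (2, 83, false), (0, 89, false), (1, 84, false), (2, 66, false), (0, 12, false), (1, 89, false), (2, 84, false), (3, 69, false), (1, 11, false)], [(8, 44, true), (7, 53, true), (6, 61, true), (5, 68, true), (4, 74, true), (3, 79, true), (2, 83, true), (1, 88, true), (9, 43, true), (8, 54, true), (7, 62, true), (6, 69, true), (5, 75, true), (4, 80, true), (3, 84, true), (2, 89, true), (1, 90, true), (0, 12, true), (7, 52, true), (6, 61, true), (5, 68, true), (4, 74, true), (3, 79, true), (2, 83, true), (1, 88, true), (0, 11, true), (5, 60, true), (4, 69, true), (3, 75, true), (2, 80, true), (1, 84, true), (0, 89, true), (5, 67, true), (4, 73, true), (3,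 80, true), (2, 84, true), (1, 89, true), (0, 12, true), (2, 78, true), (1, 82, true), (0, 10, true), (6, 41, true), (5, 54, true), (4, 62, true), (3, 69, true), (2, 75, true), (1, 80, true), (0, 84, true), (6, 53, true), (5, 61, true), (4, 68, true), (3, 74, true), (2, 79, true), (1, 83, true), (7, 50, true), (6, 62, true), (5, 69, true), (4, 75, true), (3, 80, true), (2, 84, true), (1, 90, true), (0, 12, true), (5, 61, true), (4, 68, true), (3, 74, true), (2, 79, true), (1, 83, true), (0, 11, true), (4, 60, true), (3, 69, true), (2, 75, true), (1, 80, true), (0, 84, true), (4, 67, true), (3, 73, true), (2, 80, true), (1, 84, true), (0, 12, true), (1, 78, true), (0, 82, true), (5, 58, true), (4, 65, true), (3, 75, true), (2, 80, true), (1, 84, true), (0, 89, true), (4, 74, true), (3, 79, true), (2, 83, true), (1, 88, true), (5, 71, true), (4, 80, true), (3, 84, true), (2, 89, true), (1, 90, true), (0, 12, true), (3, 79, true), (2, 83, true), (1, 88, true), (0, 11, true), (2, 76, true), (1, 8, true), (0, 89, true), (7, 40, true), (6, 53, true), (5, 61, true), (4, 68, true), (3, 74, true),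 (2, 79, true), (1, 88, true), (7, 49, true), (6, 62, true), (5, 69, true), (4, 75, true), (3, 80, true), (2, 89, true), (1, 90, true), (0, 12, true), (5, 61, true), (4, 68, true), (3, 74, true), (2, 79, true), (1, 88, true), (0, 11, true), (4, 57, true), (3, 68, true), (2, 74, true), (1, 79, true), (0, 88, true), (4, 64, true), (3, 70, true), (2, 79, true), (1, 88, true), (0, 11, true), (1, 7, true), (5, 38, true), (4, 54, true), (3, 62, true), (2, 69, true), (1, 75, true), (0, 89, true), (5, 53, true), (4, 61, true), (3, 68, true), (2, 74, true), (1, 88, true), (6, 52, true), (5, 61, true), (4, 68, true), (3, 74, true), (2, 88, true), (1, 11, true), (4, 60, true), (3, 69, true), (2, 75, true), (1, 89, true), (0, 12, true), (2, 67, true), (1, 73, true), (0, 89, true), (1, 10, true), (4, 49, true), (3, 62, true), (2, 69, true), (1, 75, true), (0, 12, true), (2, 61, true), (1, 68, true), (0, 74, true), (3, 57, true), (2, 68, true), (1, 74, true), (0, 11, true), (1, 64, true), (0, 70, true), (5, 47, true), (4, 61, true), (3, 68, true), (2, 74, true), (1, 79, true), (0, 11, true), (3, 55, true),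 (2, 69, true), (1, 75, true), (0, 80, true), (3, 68, true), (2, 74, true), (1, 79, true), (4, 5, true), (3, 74, true), (2, 79, true), (1, 11, true), (1, 11, false), (2, 70, false), (0, 90, false), (1, 8, false), (0, 83, false), (0, 12, false), (1, 84, false), (2, 71, false), (0, 9, false), (0, 12, false), (1, 87, false), (2, 81, false), (1, 11, false), (2, 86, false), (3, 83, false), (0, 90, false), (1, 87, false), (2, 84, false), (3, 72, false), (1, 10, false), (2, 85, false), (3, 82, false), (0, 12, false), (1, 90, false), (2, 89, false), (3, 87, false), (4, 84, false), (5, 73, false), (6, 46, false), (1, 88, false), (2, 86, false), (3, 83, false), (4, 74, false), (5, 5, false), (1, 11, false), (2, 88, false), (3, 86, false), (4, 83, false), (5, 74, false), (6, 68, false), (7, 47, false), (1, 88, false), (2, 86, false), (3, 83, false), (4, 63, false), (1, 11, false), (2, 88, false), (3, 86, false), (0, 90, false), (1, 89, false), (2, 87, false), (3, 65, false), (0, 88, false), (0, 12, false), (1, 89, false), (2, 66, false), (1, 67, false), (1, 11, false), (2, 68, false), (3, 48, false),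 (2, 7, false), (3, 64, false), (1, 79, false), (2, 68, false), (0, 80, false), (1, 69, false), (2, 49, false), (0, 10, false), (1, 78, false), (2, 67, false), (0, 11, false), (1, 88, false), (2, 79, false), (3, 68, false), (4, 52, false), (5, 14, false), (4, 4, false), (0, 88, false), (1, 79, false), (2, 6, false), (0, 11, false), (1, 88, false), (2, 79, false), (3, 74, false), (4, 63, false), (0, 88, false), (1, 79, false), (2, 74, false), (3, 68, false), (4, 56, false), (0, 78, false), (0, 12, false), (1, 80, false), (2, 73, false), (3, 67, false), (0, 80, false), (1, 75, false), (2, 69, false), (3, 60, false), (0, 12, false), (1, 80, false), (2, 75, false), (3, 69, false), (4, 62, false), (5, 15, false), (0, 8, false), (1, 76, false), (0, 11, false), (1, 83, false), (2, 79, false), (0, 12, false), (1, 90, false), (2, 84, false), (3, 80, false), (4, 71, false), (1, 83, false), (2, 79, false), (3, 74, false), (0, 84, false), (1, 80, false), (2, 75, false), (3, 65, false), (0, 10, false), (1, 82, false), (2, 78, false), (0, 12, false), (1, 89, false), (2, 84, false), (3, 80, false), (4,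 73, false), (5, 67, false), (6, 16, false), (1, 11, false), (2, 88, false), (3, 83, false), (4, 70, false), (2, 82, false), (0, 90, false), (1, 84, false), (2, 73, false), (0, 12, false), (1, 90, false), (2, 84, false), (3, 75, false), (4, 17, false), (3, 7, false), (2, 76, false), (0, 90, false), (1, 80, false), (2, 18, false), (0, 12, false), (1, 90, false), (2, 19, false), (0, 90, false), (1, 8, false), (0, 83, false), (0, 12, false), (1, 84, false), (2, 20, false), (1, 10, false), (2, 82, false), (1, 11, false), (2, 88, false), (3, 83, false), (0, 90, false), (1, 89, false), (2, 84, false), (3, 22, false), (0, 12, false), (1, 90, false), (2, 89, false), (3, 84, false), (4, 24, false), (1, 88, false), (2, 83, false), (3, 5, false), (3, 7, false), (4, 64, false), (2, 76, false), (1, 11, false), (2, 88, false), (3, 79, false), (0, 90, false), (1, 89, false), (2, 80, false), (3, 65, false), (1, 78, false), (2, 67, false), (0, 79, false), (1, 68, false), (2, 4, false), (0, 11, false), (1, 79, false), (0, 12, false), (1, 90, false), (2, 80, false), (3, 55, false), (1, 79, false), (2, 6, false),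 (1, 11, false), (2, 79, false), (3, 74, false), (4, 56, false), (1, 70, false), (1, 11, false), (2, 74, false), (3, 57, false), (0, 90, false), (1, 8, false), (0, 83, false), (0, 12, false), (1, 84, false), (2, 71, false), (3, 58, false), (1, 10, false), (2, 82, false), (0, 89, false), (1, 84, false), (2, 73, false), (0, 12, false), (1, 89, false), (2, 84, false), (3, 75, false), (4, 60, false), (1, 11, false), (2, 88, false), (3, 83, false), (4, 74, false), (5, 61, false), (0, 90, false), (1, 89, false), (2, 84, false), (3, 75, false), (4, 62, false), (0, 88, false), (1, 83, false), (2, 74, false), (3, 5, false), (0, 11, false), (1, 88, false), (2, 83, false), (3, 74, false), (4, 68, false), (0, 12, false), (1, 90, false), (2, 89, false), (3, 84, false), (4, 75, false), (5, 69, false), (6, 55, false), (1, 88, false), (0, 89, false), (1, 71, false), (0, 11, false), (1, 88, false), (2, 74, false), (0, 12, false), (1, 90, false), (2, 89, false), (3, 75, false), (4, 65, false), (5, 58, false), (0, 90, false), (1, 89, false), (2, 9, false), (0, 88, false), (1, 86, false), (0, 12, false), (1,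 89, false), (2, 87, false), (3, 72, false), (1, 11, false), (2, 88, false), (3, 86, false), (4, 74, false), (0, 90, false), (1, 89, false), (2, 87, false), (3, 75, false), (4, 66, false), (0, 88, false), (1, 86, false), (2, 74, false), (3, 68, false), (4, 59, false), (0, 11, false), (1, 88, false), (2, 86, false), (3, 74, false), (4, 68, false), (5, 61, false), (0, 12, false), (1, 90, false), (2, 89, false), (3, 87, false), (4, 75, false), (5, 69, false), (6, 62, false)]),
    ([0, 3], [10, 9, 4, 3, 0], [(8, 24, true), (7, 54, true), (6, 62, true), (5, 75, true), (4, 80, true), (3, 84, true), (2, 87, true), (1, 90, true), (0, 12, true), (7, 23, true), (6, 53, true), (5, 61, true), (4, 74, true), (3, 79, true), (2, 83, true), (1, 86, true), (0, 11, true), (6, 22, true), (5, 54, true), (4, 62, true), (3, 75, true), (2, 80, true), (1, 84, true), (0, 87, true), (6, 53, true), (5, 61, true), (4, 74, true), (3, 79, true), (2, 83, true), (1, 86, true), (7, 52, true), (6, 61, true), (5, 74, true), (4, 79, true), (3, 83, true), (2, 86, true), (1, 11, true), (5, 60, true), (4, 75, true), (3, 80, true),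 (2, 84, true), (1, 87, true), (0, 12, true), (3, 73, true), (2, 80, true), (1, 84, true), (0, 87, true), (3, 78, true), (2, 82, true), (1, 85, true), (8, 21, true), (7, 54, true), (6, 62, true), (5, 75, true), (4, 80, true), (3, 84, true), (2, 87, true), (1, 89, true), (0, 12, true), (6, 53, true), (5, 61, true), (4, 74, true), (3, 79, true), (2, 83, true), (1, 86, true), (0, 88, true), (7, 52, true), (6, 61, true), (5, 74, true), (4, 79, true), (3, 83, true), (2, 86, true), (1, 88, true), (0, 11, true), (5, 60, true), (4, 75, true), (3, 80, true), (2, 84, true), (1, 87, true), (0, 89, true), (5, 73, true), (4, 80, true), (3, 84, true), (2, 87, true), (1, 89, true), (0, 12, true), (3, 78, true), (2, 82, true), (1, 85, true), (0, 10, true), (5, 51, true), (4, 62, true), (3, 75, true), (2, 80, true), (1, 84, true), (0, 87, true), (5, 61, true), (4, 74, true), (3, 79, true), (2, 83, true), (1, 86, true), (6, 60, true), (5, 75, true), (4, 80, true), (3, 84, true), (2, 87, true), (1, 90, true), (0, 12, true), (4, 73, true), (3, 80, true), (2, 84, true), (1, 87, true), (0, 90, true), (4, 78, true),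 (3, 82, true), (2, 85, true), (7, 59, true), (6, 74, true), (5, 79, true), (4, 83, true), (3, 86, true), (2, 88, true), (1, 11, true), (5, 72, true), (4, 80, true), (3, 84, true), (2, 87, true), (1, 89, true), (0, 12, true), (3, 79, true), (2, 83, true), (1, 86, true), (0, 88, true), (4, 77, true), (3, 81, true), (2, 87, true), (1, 89, true), (0, 90, true), (3, 9, true), (2, 89, true), (1, 90, true), (0, 12, true), (7, 20, true), (6, 54, true), (5, 62, true), (4, 75, true), (3, 80, true), (2, 84, true), (1, 89, true), (0, 90, true), (7, 53, true), (6, 61, true), (5, 74, true), (4, 79, true), (3, 83, true), (2, 88, true), (1, 11, true), (6, 50, true), (5, 62, true), (4, 75, true), (3, 80, true), (2, 84, true), (1, 89, true), (0, 12, true), (4, 61, true), (3, 74, true), (2, 79, true), (1, 83, true), (0, 88, true), (5, 60, true), (4, 75, true), (3, 80, true), (2, 84, true), (1, 89, true), (0, 90, true), (5, 73, true), (4, 80, true), (3, 84, true), (2, 89, true), (1, 90, true), (0, 12, true), (3, 78, true), (2, 82, true), (1, 10, true), (4, 58, true), (3, 71, true), (2, 80, true), (1, 84, true),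 (0, 90, true), (3, 79, true), (2, 83, true), (1, 11, true), (2, 76, true), (1, 8, true), (0, 12, true), (4, 19, true), (3, 54, true), (2, 62, true), (1, 75, true), (0, 80, true), (4, 49, true), (3, 62, true), (2, 75, true), (1, 80, true), (0, 12, true), (2, 61, true), (1, 74, true), (0, 79, true), (3, 57, true), (2, 74, true), (1, 79, true), (0, 11, true), (1, 70, true), (0, 79, true), (1, 7, true), (4, 16, true), (3, 52, true), (2, 61, true), (1, 74, true), (0, 11, true), (1, 60, true), (0, 75, true), (1, 73, true), (0, 12, true), (3, 50, true), (2, 62, true), (1, 75, true), (0, 89, true), (3, 61, true), (2, 74, true), (1, 88, true), (4, 60, true), (3, 75, true), (2, 89, true), (1, 90, true), (0, 12, true), (2, 73, true), (1, 89, true), (0, 90, true), (2, 10, true), (3, 58, true), (2, 71, true), (1, 90, true), (0, 12, true), (0, 11, true), (3, 46, true), (2, 60, true), (1, 75, true), (0, 84, true), (2, 73, true), (1, 84, true), (0, 12, true), (0, 82, true), (3, 59, true), (2, 74, true), (1, 83, true), (0, 88, true), (3, 72, true), (2, 84, true), (1, 89, true), (0, 90, true), (3, 83, true),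 (2, 88, true), (1, 11, true), (2, 81, true), (1, 89, true), (0, 12, true), (4, 58, true), (3, 71, true), (2, 84, true), (1, 87, true), (0, 89, true), (3, 83, true), (2, 86, true), (1, 88, true), (4, 8, true), (3, 87, true), (2, 89, true), (1, 90, true), (0, 12, true), (4, 57, true), (3, 74, true), (2, 86, true), (1, 88, true), (0, 11, true), (2, 70, true), (1, 86, true), (0, 88, true), (5, 4, true), (6, 15, true), (5, 54, true), (4, 75, true), (3, 80, true), (2, 87, true), (1, 89, true), (0, 90, true), (6, 52, true), (5, 74, true), (4, 79, true), (3, 86, true), (2, 88, true), (1, 11, true), (4, 73, true), (3, 80, true), (2, 87, true), (1, 89, true), (0, 12, true), (2, 78, true), (1, 85, true), (0, 10, true), (3, 48, true), (2, 74, true), (1, 79, true), (0, 86, true), (3, 73, true), (2, 80, true), (1, 87, true), (0, 90, true), (3, 78, true), (2, 85, true), (5, 72, true), (4, 80, true), (3, 87, true), (2, 89, true), (1, 90, true), (0, 12, true), (3, 79, true), (2, 86, true), (1, 88, true), (0, 11, true), (2, 77, true), (1, 9, true), (0, 89, true), (3, 71, true), (2, 80, true), (1, 89, true),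 (0, 12, true), (1, 79, true), (0, 88, true), (2, 76, true), (4, 6, true), (3, 79, true), (2, 83, true), (1, 88, true), (0, 11, true), (3, 46, true), (2, 78, true), (1, 82, true), (0, 10, true), (1, 77, true), (0, 81, true), (3, 76, true), (2, 8, true), (1, 87, true), (0, 12, true), (1, 7, true), (2, 3, true), (1, 62, true), (0, 87, true), (2, 61, true), (1, 86, true), (3, 60, true), (2, 87, true), (1, 90, true), (0, 12, true), (1, 85, true), (3, 59, true), (2, 86, true), (1, 88, true), (0, 11, true), (1, 9, true), (0, 89, true), (2, 58, true), (3, 55, true), (2, 84, true), (1, 89, true), (0, 12, true), (1, 83, true), (0, 88, true), (5, 14, true), (4, 60, true), (3, 69, true), (2, 84, true), (1, 89, true), (0, 90, true), (4, 67, true), (3, 82, true), (2, 10, true), (4, 57, true), (3, 68, true), (2, 83, true), (1, 11, true), (2, 64, true), (4, 56, true), (3, 68, true), (2, 79, true), (1, 83, true), (4, 63, true), (3, 79, true), (2, 83, true), (1, 11, true), (5, 55, true), (4, 69, true), (3, 75, true), (2, 80, true), (1, 84, true), (0, 12, true), (3, 68, true), (2, 74, true), (1, 79, true),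 (0, 83, true), (4, 5, true), (3, 74, true), (2, 79, true), (1, 83, true), (0, 11, true), (3, 4, true), (4, 0, true), (3, 44, true), (2, 74, true), (1, 79, true), (0, 83, true), (4, 41, true), (3, 75, true), (2, 80, true), (1, 84, true), (0, 90, true), (4, 74, true), (3, 79, true), (2, 83, true), (1, 11, true), (3, 71, true), (2, 80, true), (1, 84, true), (0, 12, true), (1, 79, true), (0, 83, true), (2, 76, true), (1, 8, true), (0, 90, true), (4, 39, true), (3, 74, true), (2, 79, true), (1, 11, true), (2, 71, true), (1, 80, true), (0, 12, true), (0, 79, true), (1, 76, true), (3, 70, true), (2, 79, true), (1, 83, true), (0, 11, true), (1, 7, true), (1, 6, true), (0, 83, true), (2, 38, true), (1, 84, true), (0, 90, true), (2, 83, true), (1, 11, true), (1, 82, true), (5, 37, true), (4, 69, true), (3, 80, true), (2, 84, true), (1, 89, true), (0, 12, true), (3, 68, true), (2, 79, true), (1, 83, true), (0, 88, true), (4, 67, true), (3, 78, true), (2, 82, true), (1, 10, true), (3, 65, true), (2, 80, true), (1, 84, true), (0, 90, true), (3, 79, true), (2, 83, true), (1, 11, true), (2, 76, true),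 (1, 8, true), (0, 12, true), (0, 12, false), (1, 8, false), (2, 76, false), (1, 11, false), (2, 83, false), (3, 79, false), (0, 90, false), (1, 84, false), (2, 80, false), (3, 65, false), (1, 10, false), (2, 82, false), (3, 78, false), (4, 67, false), (0, 88, false), (1, 83, false), (2, 79, false), (3, 68, false), (0, 12, false), (1, 89, false), (2, 84, false), (3, 80, false), (4, 69, false), (5, 37, false), (1, 82, false), (1, 11, false), (2, 83, false), (0, 90, false), (1, 84, false), (2, 38, false), (0, 83, false), (1, 6, false), (1, 7, false), (0, 11, false), (1, 83, false), (2, 79, false), (3, 70, false), (1, 76, false), (0, 79, false), (0, 12, false), (1, 80, false), (2, 71, false), (1, 11, false), (2, 79, false), (3, 74, false), (4, 39, false), (0, 90, false), (1, 8, false), (2, 76, false), (0, 83, false), (1, 79, false), (0, 12, false), (1, 84, false), (2, 80, false), (3, 71, false), (1, 11, false), (2, 83, false), (3, 79, false), (4, 74, false), (0, 90, false), (1, 84, false), (2, 80, false), (3, 75, false), (4, 41, false), (0, 83, false), (1, 79, false), (2, 74, false), (3, 44,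 false), (4, 0, false), (0, 11, false), (1, 83, false), (2, 79, false), (3, 74, false), (4, 5, false), (1, 76, false), (0, 79, false), (0, 12, false), (1, 80, false), (2, 71, false), (1, 11, false), (2, 79, false), (3, 74, false), (0, 90, false), (1, 80, false), (2, 75, false), (3, 65, false), (0, 12, false), (1, 90, false), (2, 9, false), (3, 77, false), (1, 86, false), (2, 79, false), (0, 87, false), (1, 80, false), (2, 72, false), (0, 11, false), (1, 86, false), (2, 79, false), (3, 74, false), (0, 12, false), (1, 90, false), (2, 87, false), (3, 80, false), (4, 75, false), (5, 66, false), (2, 10, false), (3, 85, false), (4, 78, false), (0, 90, false), (1, 89, false), (2, 87, false), (3, 80, false), (4, 73, false), (5, 67, false), (0, 88, false), (1, 86, false), (2, 79, false), (3, 74, false), (4, 68, false), (0, 12, false), (1, 89, false), (2, 87, false), (3, 80, false), (4, 75, false), (5, 69, false), (6, 3, false), (6, 4, false), (1, 11, false), (2, 88, false), (3, 86, false), (4, 70, false), (5, 64, false), (1, 88, false), (2, 86, false), (3, 74, false), (4, 68, false), (5, 57, false),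 (0, 89, false), (1, 87, false), (2, 8, false), (0, 11, false), (1, 88, false), (2, 86, false), (3, 83, false), (0, 12, false), (1, 90, false), (2, 89, false), (3, 87, false), (4, 84, false), (5, 71, false), (1, 88, false), (2, 86, false), (3, 83, false), (4, 74, false), (0, 89, false), (1, 87, false), (2, 84, false), (3, 75, false), (4, 65, false), (5, 58, false), (0, 12, false), (1, 89, false), (2, 81, false), (1, 11, false), (2, 88, false), (3, 83, false), (0, 90, false), (1, 89, false), (2, 84, false), (3, 72, false), (0, 88, false), (1, 83, false), (2, 74, false), (0, 12, false), (1, 89, false), (2, 84, false), (3, 75, false), (4, 66, false), (1, 11, false), (2, 88, false), (3, 83, false), (4, 74, false), (5, 68, false), (6, 59, false), (2, 82, false), (0, 90, false), (1, 84, false), (2, 73, false), (3, 67, false), (0, 12, false), (1, 90, false), (2, 84, false), (3, 75, false), (4, 69, false), (5, 60, false), (6, 46, false), (1, 83, false), (2, 74, false), (0, 84, false), (1, 75, false), (2, 55, false), (0, 11, false), (1, 83, false), (2, 74, false), (3, 61, false), (4, 47, false), (0,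 83, false), (1, 56, false), (0, 58, false), (0, 12, false), (1, 9, false), (1, 11, false), (2, 86, false), (3, 59, false), (2, 10, false), (3, 85, false), (0, 90, false), (1, 89, false), (2, 87, false), (3, 60, false), (0, 88, false), (1, 86, false), (2, 61, false), (3, 48, false), (0, 12, false), (1, 89, false), (2, 87, false), (3, 8, false), (4, 58, false), (1, 85, false), (2, 82, false), (0, 87, false), (1, 84, false), (2, 60, false), (0, 11, false), (1, 86, false), (2, 83, false), (3, 61, false), (0, 12, false), (1, 90, false), (2, 87, false), (3, 84, false), (4, 62, false), (5, 50, false), (0, 90, false), (1, 81, false), (0, 83, false), (1, 59, false), (0, 10, false), (1, 82, false), (0, 12, false), (1, 89, false), (2, 84, false), (3, 60, false), (1, 11, false), (2, 88, false), (3, 83, false), (4, 61, false), (0, 90, false), (1, 89, false), (2, 84, false), (3, 62, false), (4, 51, false), (1, 82, false), (0, 12, false), (1, 90, false), (2, 84, false), (3, 60, false), (1, 83, false), (2, 61, false), (3, 52, false), (1, 11, false), (2, 83, false), (3, 61, false), (4, 53, false), (0, 90,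 false), (1, 84, false), (2, 62, false), (3, 54, false), (4, 36, false), (2, 7, false), (1, 76, false), (0, 12, false), (1, 90, false), (2, 9, false), (3, 77, false), (2, 10, false), (3, 85, false), (4, 78, false), (5, 46, false), (0, 90, false), (1, 89, false), (2, 87, false), (3, 8, false), (4, 76, false), (1, 85, false), (2, 82, false), (3, 78, false), (0, 86, false), (1, 83, false), (2, 79, false), (0, 12, false), (1, 87, false), (2, 84, false), (3, 80, false), (4, 50, false), (1, 10, false), (2, 85, false), (3, 82, false), (4, 78, false), (1, 11, false), (2, 88, false), (3, 86, false), (4, 83, false), (5, 79, false), (6, 52, false), (1, 88, false), (2, 86, false), (3, 83, false), (4, 79, false), (5, 53, false), (0, 89, false), (1, 87, false), (2, 84, false), (3, 80, false), (4, 54, false), (5, 37, false), (0, 11, false), (1, 88, false), (2, 86, false), (3, 83, false), (4, 79, false), (5, 6, false), (3, 76, false), (0, 88, false), (1, 86, false), (2, 79, false), (0, 12, false), (1, 89, false), (2, 87, false), (3, 80, false), (4, 71, false), (2, 77, false), (1, 11, false), (2, 88, false),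 (3, 79, false), (0, 90, false), (1, 89, false), (2, 80, false), (3, 72, false), (1, 78, false), (0, 12, false), (1, 90, false), (2, 80, false), (3, 73, false), (1, 79, false), (2, 74, false), (3, 48, false), (1, 11, false), (2, 70, false), (1, 74, false), (0, 75, false), (1, 49, false), (0, 12, false), (1, 8, false), (1, 11, false), (2, 83, false), (0, 90, false), (1, 84, false), (2, 71, false), (1, 10, false), (2, 82, false), (0, 12, false), (1, 90, false), (2, 89, false), (3, 84, false), (4, 73, false), (1, 88, false), (2, 83, false), (3, 74, false), (0, 89, false), (1, 84, false), (2, 75, false), (3, 50, false), (0, 11, false), (1, 88, false), (2, 83, false), (3, 74, false), (4, 53, false), (5, 39, false), (1, 82, false), (0, 12, false), (1, 90, false), (2, 84, false), (3, 73, false), (1, 83, false), (2, 74, false), (3, 52, false), (0, 84, false), (1, 75, false), (2, 54, false), (3, 43, false), (0, 12, false), (1, 84, false), (2, 75, false), (3, 54, false), (4, 45, false), (5, 15, false), (3, 4, false), (2, 7, false), (1, 11, false), (2, 83, false), (3, 79, false), (4, 70, false), (1,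 83, false), (2, 79, false), (3, 74, false), (4, 57, false), (1, 76, false), (1, 11, false), (2, 79, false), (0, 90, false), (1, 80, false), (2, 71, false), (3, 58, false), (0, 12, false), (1, 90, false), (2, 9, false), (3, 77, false), (1, 86, false), (2, 79, false), (0, 87, false), (1, 80, false), (2, 72, false), (0, 11, false), (1, 86, false), (2, 79, false), (3, 74, false), (4, 59, false), (1, 10, false), (2, 85, false), (3, 78, false), (0, 12, false), (1, 90, false), (2, 89, false), (3, 87, false), (4, 80, false), (5, 73, false), (0, 90, false), (1, 89, false), (2, 87, false), (3, 80, false), (4, 75, false), (5, 60, false), (6, 46, false), (0, 12, false), (1, 90, false), (2, 89, false), (3, 87, false), (4, 8, false), (5, 76, false), (1, 88, false), (2, 86, false), (3, 83, false), (4, 79, false), (0, 89, false), (1, 87, false), (2, 84, false), (3, 80, false), (4, 71, false), (5, 58, false), (0, 85, false), (1, 82, false), (2, 78, false), (0, 12, false), (1, 87, false), (2, 84, false), (3, 80, false), (4, 73, false), (0, 87, false), (1, 84, false), (2, 80, false), (3, 75, false), (4, 60,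 false), (0, 11, false), (1, 86, false), (2, 83, false), (3, 79, false), (4, 74, false), (5, 61, false), (0, 12, false), (1, 90, false), (2, 87, false), (3, 84, false), (4, 80, false), (5, 75, false), (6, 62, false), (7, 50, false), (2, 10, false), (3, 85, false), (4, 82, false), (5, 78, false), (0, 90, false), (1, 89, false), (2, 87, false), (3, 84, false), (4, 80, false), (5, 73, false), (0, 12, false), (1, 90, false), (2, 89, false), (3, 87, false), (4, 84, false), (5, 80, false), (6, 75, false), (7, 60, false), (1, 88, false), (2, 86, false), (3, 83, false), (4, 79, false), (5, 74, false), (6, 61, false), (7, 52, false), (1, 11, false), (2, 88, false), (3, 86, false), (4, 83, false), (5, 79, false), (6, 74, false), (7, 61, false), (8, 53, false), (0, 90, false), (1, 89, false), (2, 87, false), (3, 84, false), (4, 80, false), (5, 75, false), (6, 62, false), (7, 54, false), (8, 37, false), (3, 76, false), (0, 88, false), (1, 86, false), (2, 79, false), (0, 12, false), (1, 89, false), (2, 87, false), (3, 80, false), (4, 71, false), (5, 58, false), (1, 85, false), (2, 78, false), (0, 87,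 false), (1, 80, false), (2, 73, false), (0, 12, false), (1, 87, false), (2, 80, false), (3, 75, false), (4, 60, false), (1, 11, false), (2, 86, false), (3, 79, false), (4, 74, false), (5, 61, false), (0, 90, false), (1, 87, false), (2, 80, false), (3, 75, false), (4, 62, false), (5, 50, false), (0, 86, false), (1, 79, false), (2, 74, false), (3, 61, false), (4, 53, false), (0, 12, false), (1, 87, false), (2, 80, false), (3, 75, false), (4, 62, false), (5, 54, false), (6, 41, false), (1, 10, false), (2, 85, false), (3, 78, false), (0, 89, false), (1, 87, false), (2, 80, false), (3, 73, false), (0, 12, false), (1, 89, false), (2, 87, false), (3, 80, false), (4, 75, false), (5, 60, false), (1, 11, false), (2, 88, false), (3, 86, false), (4, 79, false), (5, 74, false), (6, 61, false), (7, 52, false), (0, 90, false), (1, 89, false), (2, 87, false), (3, 80, false), (4, 75, false), (5, 62, false), (6, 54, false), (7, 43, false), (8, 16, false), (0, 88, false), (1, 86, false), (2, 79, false), (3, 56, false), (0, 12, false), (1, 89, false), (2, 87, false), (3, 8, false), (4, 76, false), (5, 58, false),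 (0, 89, false), (1, 81, false), (2, 77, false), (0, 11, false), (1, 88, false), (2, 83, false), (3, 79, false), (4, 59, false), (1, 82, false), (2, 78, false), (0, 12, false), (1, 90, false), (2, 84, false), (3, 80, false), (4, 60, false), (1, 83, false), (2, 79, false), (3, 61, false), (4, 48, false), (1, 11, false), (2, 83, false), (3, 57, false), (1, 83, false), (2, 61, false), (0, 84, false), (1, 62, false), (2, 49, false), (0, 58, false), (0, 10, false), (0, 12, false), (1, 89, false), (2, 60, false), (1, 11, false), (2, 88, false), (3, 61, false), (0, 90, false), (1, 89, false), (2, 62, false), (3, 50, false), (0, 88, false), (1, 61, false), (2, 53, false), (3, 39, false), (1, 7, false), (0, 11, false), (1, 88, false), (2, 79, false), (3, 57, false), (0, 88, false), (1, 79, false), (2, 61, false), (0, 12, false), (1, 89, false), (2, 80, false), (3, 62, false), (4, 49, false), (1, 11, false), (2, 88, false), (3, 79, false), (4, 61, false), (5, 53, false), (6, 40, false), (0, 90, false), (1, 89, false), (2, 8, false), (3, 76, false), (4, 58, false), (1, 82, false), (2, 78, false), (0,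 12, false), (1, 90, false), (2, 84, false), (3, 80, false), (4, 60, false), (1, 83, false), (2, 79, false), (3, 61, false), (0, 84, false), (1, 80, false), (2, 62, false), (3, 50, false), (0, 11, false), (1, 83, false), (2, 79, false), (3, 61, false), (4, 53, false), (0, 12, false), (1, 90, false), (2, 84, false), (3, 80, false), (4, 62, false), (5, 54, false), (6, 41, false), (0, 90, false), (1, 84, false), (2, 80, false), (3, 62, false), (4, 54, false), (5, 45, false), (6, 18, false), (0, 83, false), (1, 57, false), (0, 11, false), (1, 83, false), (2, 61, false), (0, 12, false), (1, 90, false), (2, 84, false), (3, 62, false), (4, 49, false), (1, 83, false), (2, 61, false), (3, 53, false), (4, 40, false), (0, 84, false), (1, 62, false), (2, 54, false), (3, 45, false), (4, 19, false), (0, 58, false), (0, 10, false), (0, 12, false), (1, 89, false), (2, 60, false), (1, 11, false), (2, 88, false), (3, 61, false), (0, 90, false), (1, 89, false), (2, 62, false), (3, 50, false), (0, 88, false), (1, 61, false), (2, 53, false), (0, 12, false), (1, 89, false), (2, 62, false), (3, 54, false), (4,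 41, false), (1, 11, false), (2, 88, false), (3, 61, false), (4, 53, false), (5, 44, false), (0, 90, false), (1, 89, false), (2, 62, false), (3, 54, false), (4, 45, false), (5, 20, false), (0, 12, false), (1, 90, false), (2, 89, false), (3, 9, false), (1, 88, false), (2, 86, false), (3, 59, false), (1, 85, false), (0, 87, false), (1, 60, false), (0, 11, false), (1, 86, false), (2, 61, false), (0, 12, false), (1, 90, false), (2, 87, false), (3, 62, false), (4, 51, false), (2, 10, false), (3, 85, false), (0, 90, false), (1, 89, false), (2, 87, false), (3, 60, false), (0, 88, false), (1, 86, false), (2, 61, false), (3, 52, false), (0, 12, false), (1, 89, false), (2, 87, false), (3, 62, false), (4, 54, false), (5, 42, false), (1, 85, false), (0, 87, false), (1, 60, false), (0, 11, false), (1, 86, false), (2, 61, false), (3, 52, false), (0, 12, false), (1, 90, false), (2, 87, false), (3, 62, false), (4, 54, false), (5, 43, false), (1, 86, false), (2, 61, false), (3, 53, false), (4, 44, false), (0, 87, false), (1, 62, false), (2, 54, false), (3, 45, false), (4, 21, false), (0, 11, false), (1, 86,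 false), (2, 61, false), (3, 53, false), (4, 44, false), (5, 23, false), (0, 12, false), (1, 90, false), (2, 87, false), (3, 62, false), (4, 54, false), (5, 45, false), (6, 24, false), (3, 7, false), (0, 90, false), (1, 87, false), (2, 8, false), (3, 76, false), (0, 12, false), (1, 90, false), (2, 81, false), (3, 77, false), (2, 10, false), (3, 82, false), (4, 78, false), (1, 88, false), (2, 83, false), (3, 79, false), (0, 89, false), (1, 84, false), (2, 80, false), (0, 12, false), (1, 89, false), (1, 11, false), (0, 90, false)], [(8, 45, true), (7, 54, true), (6, 62, true), (5, 69, true), (4, 75, true), (3, 80, true), (2, 84, true), (1, 89, true), (0, 12, true), (7, 44, true), (6, 53, true), (5, 61, true), (4, 68, true), (3, 74, true), (2, 79, true), (1, 83, true), (0, 88, true), (8, 40, true), (7, 53, true), (6, 61, true), (5, 68, true), (4, 74, true), (3, 79, true), (2, 83, true), (1, 88, true), (0, 11, true), (6, 49, true), (5, 62, true), (4, 69, true), (3, 75, true), (2, 80, true), (1, 84, true), (0, 89, true), (6, 61, true), (5, 68, true), (4, 74, true), (3, 79, true), (2, 83, true),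 (1, 88, true), (7, 57, true), (6, 68, true), (5, 74, true), (4, 79, true), (3, 83, true), (2, 88, true), (1, 11, true), (5, 64, true), (4, 70, true), (3, 79, true), (2, 83, true), (1, 88, true), (4, 7, true), (8, 38, true), (7, 54, true), (6, 62, true), (5, 69, true), (4, 75, true), (3, 84, true), (2, 89, true), (1, 90, true), (0, 12, true), (6, 53, true), (5, 61, true), (4, 68, true), (3, 74, true), (2, 83, true), (1, 88, true), (0, 11, true), (5, 52, true), (4, 61, true), (3, 68, true), (2, 74, true), (1, 83, true), (0, 88, true), (5, 60, true), (4, 69, true), (3, 75, true), (2, 84, true), (1, 89, true), (0, 90, true), (5, 67, true), (4, 73, true), (3, 84, true), (2, 89, true), (1, 90, true), (0, 12, true), (2, 82, true), (1, 10, true), (5, 49, true), (4, 62, true), (3, 69, true), (2, 75, true), (1, 84, true), (0, 90, true), (5, 61, true), (4, 68, true), (3, 74, true), (2, 83, true), (1, 11, true), (4, 57, true), (3, 68, true), (2, 74, true), (1, 83, true), (4, 64, true), (3, 70, true), (2, 83, true), (1, 11, true), (6, 47, true), (5, 61, true), (4, 68, true), (3, 74, true), (2, 79, true),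 (1, 83, true), (6, 55, true), (5, 69, true), (4, 75, true), (3, 80, true), (2, 84, true), (1, 90, true), (0, 12, true), (4, 68, true), (3, 74, true), (2, 79, true), (1, 83, true), (0, 11, true), (3, 5, true), (2, 74, true), (1, 79, true), (0, 83, true), (6, 37, true), (5, 54, true), (4, 62, true), (3, 75, true), (2, 80, true), (1, 84, true), (0, 90, true), (6, 53, true), (5, 61, true), (4, 74, true), (3, 79, true), (2, 83, true), (1, 11, true), (5, 52, true), (4, 61, true), (3, 74, true), (2, 79, true), (1, 83, true), (5, 60, true), (4, 75, true), (3, 80, true), (2, 84, true), (1, 90, true), (0, 12, true), (3, 73, true), (2, 80, true), (1, 84, true), (0, 90, true), (3, 78, true), (2, 82, true), (7, 50, true), (6, 62, true), (5, 75, true), (4, 80, true), (3, 84, true), (2, 89, true), (1, 90, true), (0, 12, true), (5, 61, true), (4, 74, true), (3, 79, true), (2, 83, true), (1, 88, true), (0, 11, true), (4, 60, true), (3, 75, true), (2, 80, true), (1, 84, true), (0, 89, true), (4, 73, true), (3, 80, true), (2, 84, true), (1, 89, true), (0, 12, true), (2, 78, true), (1, 82, true), (0, 10, true),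 (3, 58, true), (2, 71, true), (1, 80, true), (0, 84, true), (2, 79, true), (1, 83, true), (3, 76, true), (2, 8, true), (1, 90, true), (0, 12, true), (4, 46, true), (3, 60, true), (2, 75, true), (1, 80, true), (0, 90, true), (3, 73, true), (2, 80, true), (1, 90, true), (0, 12, true), (1, 78, true), (4, 59, true), (3, 74, true), (2, 79, true), (1, 88, true), (0, 11, true), (2, 72, true), (1, 80, true), (0, 89, true), (2, 79, true), (1, 88, true), (3, 77, true), (6, 58, true), (5, 71, true), (4, 80, true), (3, 87, true), (2, 89, true), (1, 90, true), (0, 12, true), (3, 79, true), (2, 86, true), (1, 88, true), (0, 11, true), (2, 76, true), (5, 57, true), (4, 74, true), (3, 79, true), (2, 83, true), (1, 86, true), (0, 88, true), (5, 70, true), (4, 79, true), (3, 83, true), (2, 86, true), (1, 88, true), (0, 11, true), (3, 7, true), (4, 4, true), (5, 36, true), (4, 54, true), (3, 75, true), (2, 84, true), (1, 87, true), (0, 89, true), (5, 53, true), (4, 74, true), (3, 83, true), (2, 86, true), (1, 88, true), (6, 52, true), (5, 74, true), (4, 83, true), (3, 86, true), (2, 88, true), (1, 11, true),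 (4, 73, true), (3, 84, true), (2, 87, true), (1, 89, true), (0, 12, true), (2, 82, true), (1, 85, true), (0, 10, true), (3, 51, true), (2, 75, true), (1, 84, true), (0, 87, true), (3, 74, true), (2, 83, true), (1, 86, true), (4, 73, true), (3, 84, true), (2, 87, true), (1, 90, true), (0, 12, true), (2, 82, true), (1, 85, true), (4, 72, true), (3, 84, true), (2, 87, true), (1, 89, true), (0, 90, true), (4, 83, true), (3, 86, true), (2, 88, true), (1, 11, true), (3, 81, true), (2, 87, true), (1, 89, true), (0, 12, true), (1, 9, true), (0, 89, true), (4, 50, true), (3, 75, true), (2, 84, true), (1, 89, true), (0, 12, true), (2, 74, true), (1, 83, true), (0, 88, true), (3, 73, true), (2, 84, true), (1, 89, true), (0, 90, true), (3, 82, true), (2, 10, true), (3, 71, true), (2, 84, true), (1, 90, true), (0, 12, true), (1, 83, true), (0, 11, true), (0, 8, true), (2, 48, true), (1, 74, true), (2, 73, true), (1, 90, true), (0, 12, true), (2, 72, true), (1, 89, true), (0, 90, true), (2, 88, true), (1, 11, true), (3, 71, true), (2, 87, true), (1, 89, true), (0, 12, true), (1, 86, true), (0, 88, true),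 (4, 6, true), (3, 83, true), (2, 86, true), (1, 88, true), (0, 11, true), (3, 47, true), (2, 83, true), (1, 86, true), (0, 88, true), (5, 46, true), (4, 67, true), (3, 82, true), (2, 85, true), (1, 10, true), (3, 66, true), (2, 84, true), (1, 87, true), (0, 90, true), (3, 83, true), (2, 86, true), (1, 11, true), (2, 81, true), (1, 87, true), (0, 12, true), (0, 9, true), (2, 65, true), (1, 84, true), (0, 12, true), (0, 83, true), (1, 8, true), (0, 90, true), (2, 64, true), (5, 3, true), (4, 62, true), (3, 69, true), (2, 80, true), (1, 90, true), (0, 12, true), (3, 61, true), (2, 68, true), (1, 79, true), (0, 11, true), (2, 60, true), (1, 69, true), (0, 80, true), (2, 67, true), (1, 78, true), (4, 59, true), (3, 68, true), (2, 79, true), (1, 88, true), (4, 66, true), (3, 80, true), (2, 89, true), (1, 90, true), (0, 12, true), (2, 79, true), (1, 88, true), (0, 11, true), (1, 77, true), (4, 58, true), (3, 65, true), (2, 80, true), (1, 87, true), (0, 89, true), (3, 79, true), (2, 86, true), (1, 88, true), (4, 76, true), (7, 55, true), (6, 69, true), (5, 80, true), (4, 84, true), (3, 87, true),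 (2, 89, true), (1, 90, true), (0, 12, true), (5, 68, true), (4, 79, true), (3, 83, true), (2, 86, true), (1, 88, true), (0, 11, true), (4, 5, true), (3, 79, true), (2, 83, true), (1, 86, true), (0, 88, true), (0, 88, false), (1, 86, false), (2, 83, false), (3, 79, false), (4, 5, false), (0, 11, false), (1, 88, false), (2, 86, false), (3, 83, false), (4, 79, false), (5, 68, false), (0, 12, false), (1, 90, false), (2, 89, false), (3, 87, false), (4, 84, false), (5, 80, false), (6, 69, false), (7, 55, false), (4, 76, false), (1, 88, false), (2, 86, false), (3, 79, false), (0, 89, false), (1, 87, false), (2, 80, false), (3, 65, false), (4, 58, false), (1, 77, false), (0, 11, false), (1, 88, false), (2, 79, false), (0, 12, false), (1, 90, false), (2, 89, false), (3, 80, false), (4, 66, false), (1, 88, false), (2, 79, false), (3, 68, false), (4, 59, false), (1, 78, false), (2, 67, false), (0, 80, false), (1, 69, false), (2, 60, false), (0, 11, false), (1, 79, false), (2, 68, false), (3, 61, false), (0, 12, false), (1, 90, false), (2, 80, false), (3, 69, false), (4, 62, false), (5, 3, false), (2,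 64, false), (0, 90, false), (1, 8, false), (0, 83, false), (0, 12, false), (1, 84, false), (2, 65, false), (0, 9, false), (0, 12, false), (1, 87, false), (2, 81, false), (1, 11, false), (2, 86, false), (3, 83, false), (0, 90, false), (1, 87, false), (2, 84, false), (3, 66, false), (1, 10, false), (2, 85, false), (3, 82, false), (4, 67, false), (5, 46, false), (0, 88, false), (1, 86, false), (2, 83, false), (3, 47, false), (0, 11, false), (1, 88, false), (2, 86, false), (3, 83, false), (4, 6, false), (0, 88, false), (1, 86, false), (0, 12, false), (1, 89, false), (2, 87, false), (3, 71, false), (1, 11, false), (2, 88, false), (0, 90, false), (1, 89, false), (2, 72, false), (0, 12, false), (1, 90, false), (2, 73, false), (1, 74, false), (2, 48, false), (1, 7, false), (1, 11, false), (2, 79, false), (3, 70, false), (1, 79, false), (2, 74, false), (0, 80, false), (1, 75, false), (2, 49, false), (0, 12, false), (1, 8, false), (2, 76, false), (1, 11, false), (2, 83, false), (3, 79, false), (0, 90, false), (1, 84, false), (2, 80, false), (3, 71, false), (1, 10, false), (2, 82, false), (3, 78, false),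 (0, 12, false), (1, 90, false), (2, 89, false), (3, 84, false), (4, 80, false), (5, 73, false), (1, 88, false), (2, 83, false), (3, 79, false), (4, 74, false), (0, 89, false), (1, 84, false), (2, 80, false), (3, 75, false), (4, 50, false), (0, 82, false), (1, 78, false), (0, 12, false), (1, 84, false), (2, 80, false), (3, 73, false), (1, 11, false), (2, 83, false), (3, 79, false), (4, 74, false), (5, 52, false), (0, 90, false), (1, 84, false), (2, 80, false), (3, 75, false), (4, 54, false), (4, 4, false), (0, 83, false), (1, 79, false), (2, 74, false), (3, 5, false), (0, 11, false), (1, 83, false), (2, 79, false), (3, 74, false), (4, 68, false), (0, 12, false), (1, 90, false), (2, 84, false), (3, 80, false), (4, 75, false), (5, 69, false), (6, 55, false), (1, 83, false), (2, 70, false), (3, 64, false), (1, 11, false), (2, 83, false), (3, 74, false), (4, 68, false), (5, 57, false), (1, 83, false), (2, 74, false), (3, 68, false), (4, 61, false), (0, 84, false), (1, 75, false), (2, 69, false), (3, 62, false), (1, 7, false), (0, 76, false), (0, 10, false), (1, 78, false), (0, 11, false), (1,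 88, false), (2, 79, false), (0, 12, false), (1, 90, false), (2, 89, false), (3, 80, false)]),
    ([0, 4], [11, 9, 4, 0], [(8, 24, true), (7, 54, true), (6, 62, true), (5, 75, true), (4, 80, true), (3, 84, true), (2, 87, true), (1, 90, true), (0, 12, true), (7, 20, true), (6, 54, true), (5, 62, true), (4, 75, true), (3, 80, true), (2, 84, true), (1, 87, true), (0, 90, true), (7, 53, true), (6, 61, true), (5, 74, true), (4, 79, true), (3, 83, true), (2, 86, true), (1, 11, true), (6, 50, true), (5, 62, true), (4, 75, true), (3, 80, true), (2, 84, true), (1, 87, true), (0, 12, true), (4, 61, true), (3, 74, true), (2, 79, true), (1, 83, true), (0, 86, true), (5, 60, true), (4, 75, true), (3, 80, true), (2, 84, true), (1, 87, true), (0, 90, true), (5, 73, true), (4, 80, true), (3, 84, true), (2, 87, true), (1, 90, true), (0, 12, true), (3, 78, true), (2, 82, true), (1, 85, true), (6, 58, true), (5, 71, true), (4, 80, true), (3, 84, true), (2, 87, true), (1, 89, true), (0, 90, true), (5, 79, true), (4, 83, true), (3, 86, true), (2, 88, true), (1, 11, true), (4, 76, true), (3, 8, true), (2, 87,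 true), (1, 89, true), (0, 12, true), (6, 19, true), (5, 54, true), (4, 62, true), (3, 75, true), (2, 80, true), (1, 87, true), (0, 89, true), (6, 49, true), (5, 62, true), (4, 75, true), (3, 80, true), (2, 87, true), (1, 89, true), (0, 12, true), (4, 61, true), (3, 74, true), (2, 79, true), (1, 86, true), (0, 88, true), (5, 57, true), (4, 74, true), (3, 79, true), (2, 86, true), (1, 88, true), (0, 11, true), (3, 70, true), (2, 79, true), (1, 86, true), (0, 88, true), (3, 7, true), (3, 7, false), (0, 12, false), (1, 90, false), (2, 89, false), (3, 87, false), (4, 8, false), (5, 76, false), (0, 90, false), (1, 89, false), (2, 81, false), (3, 77, false), (0, 88, false), (1, 83, false), (2, 79, false), (0, 12, false), (1, 89, false), (2, 84, false), (3, 80, false), (0, 89, false), (0, 11, false), (0, 12, false), (1, 90, false)], [(8, 45, true), (7, 54, true), (6, 62, true), (5, 69, true), (4, 75, true), (3, 80, true), (2, 84, true), (1, 89, true), (0, 12, true), (7, 44, true), (6, 53, true), (5, 61, true), (4, 68, true), (3, 74, true), (2, 79, true), (1, 83, true), (0, 88, true), (8, 43, true),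 (7, 54, true), (6, 62, true), (5, 69, true), (4, 75, true), (3, 80, true), (2, 84, true), (1, 89, true), (0, 90, true), (8, 52, true), (7, 61, true), (6, 68, true), (5, 74, true), (4, 79, true), (3, 83, true), (2, 88, true), (1, 11, true), (6, 60, true), (5, 69, true), (4, 75, true), (3, 80, true), (2, 84, true), (1, 89, true), (0, 12, true), (4, 67, true), (3, 73, true), (2, 80, true), (1, 84, true), (0, 89, true), (3, 78, true), (2, 82, true), (1, 10, true), (7, 41, true), (6, 54, true), (5, 62, true), (4, 69, true), (3, 75, true), (2, 80, true), (1, 84, true), (0, 12, true), (5, 53, true), (4, 61, true), (3, 68, true), (2, 74, true), (1, 79, true), (0, 83, true), (6, 50, true), (5, 62, true), (4, 69, true), (3, 75, true), (2, 80, true), (1, 84, true), (0, 90, true), (6, 61, true), (5, 68, true), (4, 74, true), (3, 79, true), (2, 83, true), (1, 11, true), (5, 60, true), (4, 69, true), (3, 75, true), (2, 80, true), (1, 84, true), (0, 12, true), (3, 67, true), (2, 73, true), (1, 80, true), (0, 84, true), (2, 78, true), (1, 82, true), (6, 58, true), (5, 65, true), (4, 75, true), (3, 80, true),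 (2, 84, true), (1, 89, true), (0, 12, true), (3, 74, true), (2, 79, true), (1, 83, true), (0, 88, true), (4, 71, true), (3, 80, true), (2, 84, true), (1, 89, true), (0, 90, true), (4, 79, true), (3, 83, true), (2, 88, true), (1, 11, true), (3, 76, true), (2, 8, true), (1, 89, true), (0, 12, true), (6, 40, true), (5, 53, true), (4, 61, true), (3, 68, true), (2, 74, true), (1, 79, true), (0, 88, true), (6, 49, true), (5, 62, true), (4, 69, true), (3, 75, true), (2, 80, true), (1, 89, true), (0, 90, true), (6, 61, true), (5, 68, true), (4, 74, true), (3, 79, true), (2, 88, true), (1, 11, true), (5, 57, true), (4, 68, true), (3, 74, true), (2, 79, true), (1, 88, true), (5, 64, true), (4, 70, true), (3, 79, true), (2, 88, true), (1, 11, true), (2, 7, true), (6, 39, true), (5, 53, true), (4, 61, true), (3, 68, true), (2, 74, true), (1, 88, true), (6, 50, true), (5, 62, true), (4, 69, true), (3, 75, true), (2, 89, true), (1, 90, true), (0, 12, true), (4, 61, true), (3, 68, true), (2, 74, true), (1, 88, true), (0, 11, true), (3, 60, true), (2, 69, true), (1, 75, true), (0, 89, true), (3, 67, true),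 (2, 73, true), (1, 89, true), (0, 12, true), (0, 10, true), (2, 58, true), (1, 65, true), (0, 75, true), (1, 74, true), (2, 71, true), (1, 90, true), (0, 12, true), (0, 11, true), (4, 49, true), (3, 62, true), (2, 69, true), (1, 75, true), (0, 84, true), (4, 61, true), (3, 68, true), (2, 74, true), (1, 83, true), (5, 57, true), (4, 68, true), (3, 74, true), (2, 83, true), (1, 11, true), (3, 64, true), (2, 70, true), (1, 83, true), (7, 48, true), (6, 61, true), (5, 68, true), (4, 74, true), (3, 79, true), (2, 83, true), (1, 11, true), (5, 60, true), (4, 69, true), (3, 75, true), (2, 80, true), (1, 84, true), (0, 12, true), (3, 67, true), (2, 73, true), (1, 80, true), (0, 84, true), (2, 78, true), (1, 82, true), (6, 59, true), (5, 68, true), (4, 74, true), (3, 79, true), (2, 83, true), (1, 88, true), (6, 66, true), (5, 75, true), (4, 80, true), (3, 84, true), (2, 89, true), (1, 90, true), (0, 12, true), (4, 74, true), (3, 79, true), (2, 83, true), (1, 88, true), (0, 11, true), (3, 72, true), (2, 80, true), (1, 84, true), (0, 89, true), (3, 79, true), (2, 83, true), (1, 88, true), (4, 77, true),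 (3, 81, true), (2, 89, true), (1, 90, true), (0, 12, true), (7, 58, true), (6, 65, true), (5, 75, true), (4, 80, true), (3, 84, true), (2, 87, true), (1, 89, true), (0, 90, true), (6, 74, true), (5, 79, true), (4, 83, true), (3, 86, true), (2, 88, true), (1, 11, true), (5, 71, true), (4, 80, true), (3, 84, true), (2, 87, true), (1, 89, true), (0, 12, true), (3, 79, true), (2, 83, true), (1, 86, true), (0, 88, true), (4, 76, true), (3, 8, true), (2, 87, true), (1, 89, true), (0, 90, true), (7, 56, true), (6, 68, true), (5, 74, true), (4, 79, true), (3, 86, true), (2, 88, true), (1, 11, true), (5, 63, true), (4, 74, true), (3, 79, true), (2, 86, true), (1, 88, true), (5, 6, true), (4, 79, true), (3, 86, true), (2, 88, true), (1, 11, true), (7, 38, true), (6, 54, true), (5, 62, true), (4, 69, true), (3, 80, true), (2, 87, true), (1, 89, true), (0, 12, true), (5, 53, true), (4, 61, true), (3, 68, true), (2, 79, true), (1, 86, true), (0, 88, true), (6, 52, true), (5, 61, true), (4, 68, true), (3, 79, true), (2, 86, true), (1, 88, true), (0, 11, true), (4, 60, true), (3, 69, true), (2, 80, true),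 (1, 87, true), (0, 89, true), (4, 67, true), (3, 78, true), (2, 85, true), (1, 10, true), (5, 49, true), (4, 62, true), (3, 69, true), (2, 80, true), (1, 87, true), (0, 12, true), (3, 61, true), (2, 68, true), (1, 79, true), (0, 86, true), (4, 57, true), (3, 68, true), (2, 79, true), (1, 86, true), (0, 11, true), (2, 64, true), (1, 7, true), (3, 47, true), (2, 61, true), (1, 68, true), (0, 86, true), (3, 55, true), (2, 69, true), (1, 87, true), (0, 90, true), (3, 68, true), (2, 86, true), (1, 11, true), (2, 5, true), (1, 86, true), (5, 37, true), (4, 54, true), (3, 62, true), (2, 87, true), (1, 90, true), (0, 12, true), (3, 53, true), (2, 61, true), (1, 86, true), (0, 11, true), (2, 52, true), (1, 61, true), (0, 86, true), (2, 60, true), (1, 87, true), (0, 90, true), (2, 85, true), (5, 50, true), (4, 62, true), (3, 87, true), (2, 89, true), (1, 90, true), (0, 12, true), (3, 61, true), (2, 86, true), (1, 88, true), (0, 11, true), (2, 60, true), (1, 87, true), (0, 89, true), (2, 85, true), (1, 10, true), (2, 58, true), (4, 46, true), (3, 60, true), (2, 84, true), (1, 87, true), (0, 12, true),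 (1, 82, true), (0, 85, true), (3, 59, true), (2, 83, true), (1, 86, true), (0, 88, true), (3, 81, true), (2, 87, true), (1, 89, true), (0, 90, true), (3, 9, true), (2, 89, true), (1, 90, true), (0, 12, true), (3, 58, true), (2, 8, true), (1, 89, true), (0, 90, true), (3, 57, true), (2, 88, true), (1, 11, true), (3, 4, true), (3, 4, false), (1, 11, false), (2, 88, false), (3, 79, false), (4, 5, false), (1, 88, false), (2, 79, false), (3, 68, false), (0, 89, false), (1, 80, false), (2, 69, false), (3, 55, false), (0, 11, false), (1, 88, false), (2, 79, false), (3, 6, false), (0, 88, false), (1, 79, false), (2, 74, false), (3, 63, false), (0, 11, false), (1, 88, false), (2, 79, false), (3, 74, false), (4, 68, false), (5, 56, false), (0, 88, false), (1, 70, false), (2, 64, false), (0, 11, false), (1, 88, false), (2, 74, false), (3, 68, false), (4, 57, false), (0, 12, false), (1, 90, false), (2, 89, false), (3, 8, false), (1, 88, false), (2, 83, false), (0, 89, false), (1, 84, false), (2, 71, false), (0, 11, false), (1, 88, false), (2, 83, false), (3, 74, false), (0, 12, false), (1, 90, false),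 (2, 89, false), (3, 84, false), (4, 75, false), (5, 65, false), (6, 58, false), (2, 82, false), (0, 90, false), (1, 84, false), (2, 73, false), (3, 67, false), (0, 12, false), (1, 90, false), (2, 84, false), (3, 75, false), (4, 69, false), (5, 60, false), (0, 90, false), (1, 84, false), (2, 75, false), (3, 69, false), (4, 62, false), (2, 7, false), (1, 76, false), (1, 10, false), (2, 78, false), (0, 88, false), (1, 79, false), (0, 12, false), (1, 89, false), (2, 80, false), (1, 11, false)]),
    ([0, 5], [11, 10, 9, 8, 5, 0], [(8, 24, true), (7, 54, true), (6, 62, true), (5, 75, true), (4, 80, true), (3, 84, true), (2, 87, true), (1, 90, true), (0, 12, true), (7, 21, true), (6, 54, true), (5, 62, true), (4, 75, true), (3, 80, true), (2, 84, true), (1, 87, true), (0, 90, true), (7, 53, true), (6, 61, true), (5, 74, true), (4, 79, true), (3, 83, true), (2, 86, true), (1, 11, true), (6, 52, true), (5, 61, true), (4, 74, true), (3, 79, true), (2, 83, true), (1, 86, true), (6, 60, true), (5, 75, true), (4, 80, true), (3, 84, true), (2, 87, true), (1, 90, true), (0, 12, true), (4, 73, true), (3,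 80, true), (2, 84, true), (1, 87, true), (0, 90, true), (4, 78, true), (3, 82, true), (2, 85, true), (8, 51, true), (7, 62, true), (6, 75, true), (5, 80, true), (4, 84, true), (3, 87, true), (2, 89, true), (1, 90, true), (0, 12, true), (6, 61, true), (5, 74, true), (4, 79, true), (3, 83, true), (2, 86, true), (1, 88, true), (0, 11, true), (5, 60, true), (4, 75, true), (3, 80, true), (2, 84, true), (1, 87, true), (0, 89, true), (5, 73, true), (4, 80, true), (3, 84, true), (2, 87, true), (1, 89, true), (0, 12, true), (3, 78, true), (2, 82, true), (1, 85, true), (0, 10, true), (4, 59, true), (3, 74, true), (2, 79, true), (1, 83, true), (0, 86, true), (4, 72, true), (3, 80, true), (2, 84, true), (1, 87, true), (0, 90, true), (4, 79, true), (3, 83, true), (2, 86, true), (1, 11, true), (3, 77, true), (2, 81, true), (1, 87, true), (0, 12, true), (0, 9, true), (6, 20, true), (5, 54, true), (4, 62, true), (3, 75, true), (2, 80, true), (1, 84, true), (0, 12, true), (4, 53, true), (3, 61, true), (2, 74, true), (1, 79, true), (0, 83, true), (5, 50, true), (4, 62, true), (3, 75, true), (2, 80, true),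 (1, 84, true), (0, 90, true), (5, 61, true), (4, 74, true), (3, 79, true), (2, 83, true), (1, 11, true), (4, 60, true), (3, 75, true), (2, 80, true), (1, 84, true), (0, 12, true), (2, 73, true), (1, 80, true), (0, 84, true), (2, 78, true), (1, 82, true), (5, 58, true), (4, 71, true), (3, 80, true), (2, 84, true), (1, 89, true), (0, 12, true), (2, 79, true), (1, 83, true), (0, 88, true), (3, 76, true), (2, 8, true), (1, 89, true), (0, 90, true), (7, 19, true), (6, 54, true), (5, 62, true), (4, 75, true), (3, 80, true), (2, 89, true), (1, 90, true), (0, 12, true), (5, 49, true), (4, 62, true), (3, 75, true), (2, 80, true), (1, 89, true), (0, 90, true), (5, 61, true), (4, 74, true), (3, 79, true), (2, 88, true), (1, 11, true), (4, 57, true), (3, 74, true), (2, 79, true), (1, 88, true), (4, 70, true), (3, 79, true), (2, 88, true), (1, 11, true), (2, 7, true), (5, 17, true), (4, 54, true), (3, 62, true), (2, 75, true), (1, 89, true), (0, 12, true), (3, 52, true), (2, 61, true), (1, 74, true), (0, 88, true), (3, 60, true), (2, 75, true), (1, 89, true), (0, 90, true), (3, 73, true), (2, 89, true),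 (1, 90, true), (0, 12, true), (1, 10, true), (3, 49, true), (2, 62, true), (1, 75, true), (0, 90, true), (3, 61, true), (2, 74, true), (1, 11, true), (2, 57, true), (1, 74, true), (2, 70, true), (1, 11, true), (4, 47, true), (3, 61, true), (2, 74, true), (1, 79, true), (4, 55, true), (3, 75, true), (2, 80, true), (1, 90, true), (0, 12, true), (2, 74, true), (1, 79, true), (0, 11, true), (0, 11, false), (1, 79, false), (2, 63, false), (1, 64, false), (0, 12, false), (1, 90, false), (2, 8, false), (1, 83, false), (0, 84, false), (1, 65, false), (0, 12, false), (1, 9, false), (0, 87, false), (1, 81, false), (0, 11, false), (1, 86, false), (2, 83, false), (0, 12, false), (1, 90, false), (2, 87, false), (3, 84, false), (4, 66, false), (1, 86, false), (2, 83, false), (3, 68, false), (0, 87, false), (1, 84, false), (2, 69, false), (2, 7, false), (1, 76, false), (0, 77, false), (0, 12, false), (1, 80, false), (1, 10, false), (1, 11, false), (2, 88, false), (0, 90, false), (1, 89, false), (0, 12, false), (1, 11, false)], [(8, 45, true), (7, 54, true), (6, 62, true), (5, 69, true), (4, 75, true),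 (3, 80, true), (2, 84, true), (1, 89, true), (0, 12, true), (7, 44, true), (6, 53, true), (5, 61, true), (4, 68, true), (3, 74, true), (2, 79, true), (1, 83, true), (0, 88, true), (8, 42, true), (7, 54, true), (6, 62, true), (5, 69, true), (4, 75, true), (3, 80, true), (2, 84, true), (1, 89, true), (0, 90, true), (8, 52, true), (7, 61, true), (6, 68, true), (5, 74, true), (4, 79, true), (3, 83, true), (2, 88, true), (1, 11, true), (6, 60, true), (5, 69, true), (4, 75, true), (3, 80, true), (2, 84, true), (1, 89, true), (0, 12, true), (4, 67, true), (3, 73, true), (2, 80, true), (1, 84, true), (0, 89, true), (3, 78, true), (2, 82, true), (1, 10, true), (6, 51, true), (5, 62, true), (4, 69, true), (3, 75, true), (2, 80, true), (1, 84, true), (0, 12, true), (4, 61, true), (3, 68, true), (2, 74, true), (1, 79, true), (0, 83, true), (5, 60, true), (4, 69, true), (3, 75, true), (2, 80, true), (1, 84, true), (0, 90, true), (5, 67, true), (4, 73, true), (3, 80, true), (2, 84, true), (1, 90, true), (0, 12, true), (2, 78, true), (1, 82, true), (6, 59, true), (5, 68, true), (4, 74, true), (3, 79, true),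 (2, 83, true), (1, 88, true), (0, 11, true), (4, 66, true), (3, 75, true), (2, 80, true), (1, 84, true), (0, 89, true), (4, 74, true), (3, 79, true), (2, 83, true), (1, 88, true), (5, 72, true), (4, 80, true), (3, 84, true), (2, 89, true), (1, 90, true), (0, 12, true), (3, 79, true), (2, 83, true), (1, 88, true), (0, 11, true), (2, 77, true), (1, 81, true), (0, 89, true), (9, 41, true), (8, 54, true), (7, 62, true), (6, 69, true), (5, 75, true), (4, 80, true), (3, 84, true), (2, 87, true), (1, 89, true), (0, 12, true), (7, 53, true), (6, 61, true), (5, 68, true), (4, 74, true), (3, 79, true), (2, 83, true), (1, 86, true), (0, 88, true), (8, 50, true), (7, 62, true), (6, 69, true), (5, 75, true), (4, 80, true), (3, 84, true), (2, 87, true), (1, 89, true), (0, 90, true), (8, 61, true), (7, 68, true), (6, 74, true), (5, 79, true), (4, 83, true), (3, 86, true), (2, 88, true), (1, 11, true), (7, 60, true), (6, 69, true), (5, 75, true), (4, 80, true), (3, 84, true), (2, 87, true), (1, 89, true), (0, 12, true), (5, 67, true), (4, 73, true), (3, 80, true), (2, 84, true), (1, 87, true), (0, 89, true),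 (4, 78, true), (3, 82, true), (2, 85, true), (1, 10, true), (6, 58, true), (5, 65, true), (4, 75, true), (3, 80, true), (2, 84, true), (1, 87, true), (0, 12, true), (3, 74, true), (2, 79, true), (1, 83, true), (0, 86, true), (4, 71, true), (3, 80, true), (2, 84, true), (1, 87, true), (0, 90, true), (4, 79, true), (3, 83, true), (2, 86, true), (1, 11, true), (3, 76, true), (2, 8, true), (1, 87, true), (0, 12, true), (6, 38, true), (5, 54, true), (4, 62, true), (3, 69, true), (2, 75, true), (1, 80, true), (0, 87, true), (6, 53, true), (5, 61, true), (4, 68, true), (3, 74, true), (2, 79, true), (1, 86, true), (7, 52, true), (6, 61, true), (5, 68, true), (4, 74, true), (3, 79, true), (2, 86, true), (1, 11, true), (5, 60, true), (4, 69, true), (3, 75, true), (2, 80, true), (1, 87, true), (0, 12, true), (3, 67, true), (2, 73, true), (1, 80, true), (0, 87, true), (2, 78, true), (1, 85, true), (7, 49, true), (6, 62, true), (5, 69, true), (4, 75, true), (3, 80, true), (2, 87, true), (1, 89, true), (0, 12, true), (5, 61, true), (4, 68, true), (3, 74, true), (2, 79, true), (1, 86, true), (0, 88, true),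 (6, 57, true), (5, 68, true), (4, 74, true), (3, 79, true), (2, 86, true), (1, 88, true), (0, 11, true), (4, 64, true), (3, 70, true), (2, 79, true), (1, 86, true), (0, 88, true), (3, 7, true), (6, 47, true), (5, 61, true), (4, 68, true), (3, 74, true), (2, 86, true), (1, 88, true), (0, 11, true), (4, 55, true), (3, 69, true), (2, 75, true), (1, 87, true), (0, 89, true), (4, 68, true), (3, 74, true), (2, 86, true), (1, 88, true), (5, 5, true), (4, 74, true), (3, 86, true), (2, 88, true), (1, 11, true), (1, 11, false), (2, 88, false), (3, 86, false), (4, 74, false), (5, 5, false), (1, 88, false), (2, 86, false), (3, 63, false), (3, 7, false), (4, 64, false), (0, 89, false), (1, 87, false), (2, 8, false), (3, 76, false), (0, 11, false), (1, 88, false), (2, 86, false), (3, 83, false), (4, 79, false), (0, 12, false), (1, 90, false), (2, 89, false), (3, 87, false), (4, 84, false), (5, 80, false), (6, 65, false), (2, 85, false), (3, 82, false), (4, 78, false), (5, 67, false), (0, 90, false), (1, 87, false), (2, 84, false), (3, 80, false), (4, 69, false), (2, 76, false), (1, 77, false), (0, 79,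 false), (0, 12, false), (1, 80, false), (1, 10, false), (2, 78, false), (0, 89, false), (1, 80, false), (0, 11, false), (0, 12, false), (1, 90, false)]),
    ([0, 6], [9, 8, 6, 0], [(8, 24, true), (7, 54, true), (6, 62, true), (5, 75, true), (4, 80, true), (3, 84, true), (2, 87, true), (1, 90, true), (0, 12, true), (7, 23, true), (6, 53, true), (5, 61, true), (4, 74, true), (3, 79, true), (2, 83, true), (1, 86, true), (0, 11, true), (6, 21, true), (5, 54, true), (4, 62, true), (3, 75, true), (2, 80, true), (1, 84, true), (0, 87, true), (6, 53, true), (5, 61, true), (4, 74, true), (3, 79, true), (2, 83, true), (1, 86, true), (7, 52, true), (6, 61, true), (5, 74, true), (4, 79, true), (3, 83, true), (2, 86, true), (1, 11, true), (5, 60, true), (4, 75, true), (3, 80, true), (2, 84, true), (1, 87, true), (0, 12, true), (3, 73, true), (2, 80, true), (1, 84, true), (0, 87, true), (3, 78, true), (2, 82, true), (1, 85, true), (7, 51, true), (6, 62, true), (5, 75, true), (4, 80, true), (3, 84, true), (2, 87, true), (1, 89, true), (0, 12, true), (5, 61, true), (4, 74, true), (3, 79, true), (2, 83,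 true), (1, 86, true), (0, 88, true), (6, 60, true), (5, 75, true), (4, 80, true), (3, 84, true), (2, 87, true), (1, 89, true), (0, 90, true), (6, 73, true), (5, 80, true), (4, 84, true), (3, 87, true), (2, 89, true), (1, 90, true), (0, 12, true), (4, 78, true), (3, 82, true), (2, 85, true), (1, 10, true), (5, 59, true), (4, 74, true), (3, 79, true), (2, 83, true), (1, 86, true), (0, 11, true), (3, 72, true), (2, 80, true), (1, 84, true), (0, 87, true), (3, 79, true), (2, 83, true), (1, 86, true), (4, 77, true), (3, 81, true), (2, 87, true), (1, 90, true), (0, 12, true), (1, 9, true), (0, 90, true), (7, 18, true), (6, 54, true), (5, 62, true), (4, 75, true), (3, 80, true), (2, 84, true), (1, 90, true), (0, 12, true), (5, 50, true), (4, 62, true), (3, 75, true), (2, 80, true), (1, 84, true), (0, 90, true), (5, 61, true), (4, 74, true), (3, 79, true), (2, 83, true), (1, 11, true), (4, 60, true), (3, 75, true), (2, 80, true), (1, 84, true), (0, 12, true), (2, 73, true), (1, 80, true), (0, 84, true), (2, 78, true), (1, 82, true), (5, 58, true), (4, 71, true), (3, 80, true), (2, 84, true), (1,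 89, true), (0, 12, true), (2, 79, true), (1, 83, true), (0, 88, true), (3, 76, true), (2, 8, true), (1, 89, true), (0, 90, true), (6, 49, true), (5, 62, true), (4, 75, true), (3, 80, true), (2, 89, true), (1, 90, true), (0, 12, true), (4, 61, true), (3, 74, true), (2, 79, true), (1, 88, true), (0, 11, true), (3, 57, true), (2, 74, true), (1, 79, true), (0, 88, true), (3, 70, true), (2, 79, true), (1, 88, true), (0, 11, true), (1, 7, true), (3, 48, true), (2, 61, true), (1, 74, true), (0, 88, true), (3, 60, true), (2, 75, true), (1, 89, true), (0, 90, true), (3, 73, true), (2, 89, true), (1, 90, true), (0, 12, true), (1, 10, true), (2, 59, true), (1, 74, true), (0, 11, true), (0, 72, true), (4, 58, true), (3, 71, true), (2, 87, true), (1, 90, true), (0, 12, true), (1, 86, true), (0, 11, true), (3, 56, true), (2, 74, true), (1, 83, true), (0, 86, true), (3, 6, true), (2, 83, true), (1, 86, true), (0, 11, true), (4, 17, true), (3, 54, true), (2, 62, true), (1, 84, true), (0, 87, true), (4, 52, true), (3, 61, true), (2, 83, true), (1, 86, true), (4, 60, true), (3, 84, true), (2, 87, true), (1,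 90, true), (0, 12, true), (2, 82, true), (1, 85, true), (5, 49, true), (4, 62, true), (3, 84, true), (2, 87, true), (1, 89, true), (0, 90, true), (5, 61, true), (4, 83, true), (3, 86, true), (2, 88, true), (1, 11, true), (4, 57, true), (3, 83, true), (2, 86, true), (1, 88, true), (7, 47, true), (6, 61, true), (5, 79, true), (4, 83, true), (3, 86, true), (2, 88, true), (1, 11, true), (5, 55, true), (4, 80, true), (3, 84, true), (2, 87, true), (1, 89, true), (0, 12, true), (3, 79, true), (2, 83, true), (1, 86, true), (0, 88, true), (8, 16, true), (7, 52, true), (6, 61, true), (5, 68, true), (4, 79, true), (3, 83, true), (2, 86, true), (1, 88, true), (0, 11, true), (5, 60, true), (4, 69, true), (3, 80, true), (2, 84, true), (1, 87, true), (0, 89, true), (5, 67, true), (4, 78, true), (3, 82, true), (2, 85, true), (1, 10, true), (6, 50, true), (5, 62, true), (4, 69, true), (3, 80, true), (2, 84, true), (1, 87, true), (0, 12, true), (4, 61, true), (3, 68, true), (2, 79, true), (1, 83, true), (0, 86, true), (5, 60, true), (4, 69, true), (3, 80, true), (2, 84, true), (1, 87, true), (0, 90, true),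 (5, 67, true), (4, 78, true), (3, 82, true), (2, 85, true), (7, 58, true), (6, 65, true), (5, 80, true), (4, 84, true), (3, 87, true), (2, 89, true), (1, 90, true), (0, 12, true), (4, 79, true), (3, 83, true), (2, 86, true), (1, 88, true), (0, 11, true), (3, 76, true), (2, 8, true), (1, 87, true), (0, 89, true), (6, 46, true), (5, 60, true), (4, 69, true), (3, 80, true), (2, 87, true), (1, 89, true), (0, 12, true), (3, 67, true), (2, 78, true), (1, 85, true), (0, 10, true), (3, 59, true), (2, 68, true), (1, 79, true), (0, 86, true), (3, 66, true), (2, 80, true), (1, 87, true), (0, 90, true), (3, 79, true), (2, 86, true), (1, 11, true), (2, 77, true), (1, 9, true), (0, 12, true), (2, 58, true), (1, 65, true), (0, 80, true), (1, 79, true), (2, 76, true), (5, 57, true), (4, 68, true), (3, 79, true), (2, 83, true), (1, 11, true), (3, 64, true), (2, 7, true), (3, 4, true), (3, 4, false), (1, 11, false), (2, 83, false), (3, 6, false), (1, 83, false), (2, 74, false), (3, 63, false), (1, 11, false), (2, 83, false), (3, 74, false), (4, 68, false), (5, 56, false), (3, 7, false), (1, 83, false), (2,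 79, false), (3, 70, false), (4, 64, false), (1, 11, false), (2, 83, false), (3, 79, false), (4, 74, false), (5, 68, false), (6, 57, false), (2, 76, false), (1, 79, false), (0, 80, false), (1, 71, false), (0, 11, false), (1, 79, false), (2, 74, false), (0, 12, false), (1, 90, false), (2, 80, false), (3, 75, false), (4, 65, false), (5, 58, false), (0, 90, false), (1, 9, false), (2, 77, false), (0, 86, false), (1, 79, false), (0, 12, false), (1, 87, false), (2, 80, false), (3, 72, false), (1, 11, false), (2, 86, false), (3, 79, false), (4, 74, false), (0, 90, false), (1, 87, false), (2, 80, false), (3, 75, false), (4, 66, false), (0, 86, false), (1, 79, false), (2, 74, false), (3, 68, false), (4, 59, false), (0, 11, false), (1, 86, false), (2, 79, false), (3, 74, false), (4, 68, false), (5, 61, false), (0, 12, false), (1, 90, false), (2, 87, false), (3, 80, false), (4, 75, false), (5, 69, false), (6, 62, false), (2, 77, false), (1, 79, false), (0, 80, false), (0, 10, false), (0, 11, false), (1, 88, false), (0, 12, false), (1, 90, false), (2, 89, false)], [(8, 41, true), (7, 54, true), (6, 62,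 true), (5, 69, true), (4, 75, true), (3, 80, true), (2, 84, true), (1, 89, true), (0, 12, true), (6, 53, true), (5, 61, true), (4, 68, true), (3, 74, true), (2, 79, true), (1, 83, true), (0, 88, true), (7, 50, true), (6, 62, true), (5, 69, true), (4, 75, true), (3, 80, true), (2, 84, true), (1, 89, true), (0, 90, true), (7, 61, true), (6, 68, true), (5, 74, true), (4, 79, true), (3, 83, true), (2, 88, true), (1, 11, true), (6, 60, true), (5, 69, true), (4, 75, true), (3, 80, true), (2, 84, true), (1, 89, true), (0, 12, true), (4, 67, true), (3, 73, true), (2, 80, true), (1, 84, true), (0, 89, true), (3, 78, true), (2, 82, true), (1, 10, true), (5, 58, true), (4, 65, true), (3, 75, true), (2, 80, true), (1, 84, true), (0, 12, true), (2, 74, true), (1, 79, true), (0, 83, true), (3, 71, true), (2, 80, true), (1, 84, true), (0, 90, true), (3, 79, true), (2, 83, true), (1, 11, true), (2, 76, true), (1, 8, true), (0, 12, true), (5, 40, true), (4, 53, true), (3, 61, true), (2, 68, true), (1, 74, true), (0, 79, true), (5, 49, true), (4, 62, true), (3, 69, true), (2, 75, true), (1, 80, true), (0,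 90, true), (5, 61, true), (4, 68, true), (3, 74, true), (2, 79, true), (1, 11, true), (4, 57, true), (3, 68, true), (2, 74, true), (1, 79, true), (4, 64, true), (3, 70, true), (2, 79, true), (1, 11, true), (1, 7, true), (5, 38, true), (4, 54, true), (3, 62, true), (2, 69, true), (1, 75, true), (0, 12, true), (3, 53, true), (2, 61, true), (1, 68, true), (0, 74, true), (4, 52, true), (3, 61, true), (2, 68, true), (1, 74, true), (0, 11, true), (2, 60, true), (1, 69, true), (0, 75, true), (2, 67, true), (1, 73, true), (0, 12, true), (4, 49, true), (3, 62, true), (2, 69, true), (1, 75, true), (0, 89, true), (4, 61, true), (3, 68, true), (2, 74, true), (1, 88, true), (5, 57, true), (4, 68, true), (3, 74, true), (2, 88, true), (1, 11, true), (3, 64, true), (2, 70, true), (1, 88, true), (7, 47, true), (6, 61, true), (5, 68, true), (4, 74, true), (3, 79, true), (2, 88, true), (1, 11, true), (5, 55, true), (4, 69, true), (3, 75, true), (2, 80, true), (1, 89, true), (0, 12, true), (3, 68, true), (2, 74, true), (1, 79, true), (0, 88, true), (4, 5, true), (3, 74, true), (2, 79, true), (1, 88, true),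 (0, 11, true), (0, 11, false), (1, 88, false), (2, 79, false), (3, 74, false), (4, 5, false), (0, 88, false), (1, 79, false), (2, 63, false), (1, 64, false), (0, 12, false), (1, 89, false), (2, 8, false), (1, 11, false), (2, 88, false), (3, 83, false), (0, 90, false), (1, 89, false), (2, 84, false), (3, 65, false), (1, 82, false), (2, 67, false), (0, 12, false), (1, 90, false), (2, 84, false), (3, 69, false), (3, 7, false), (2, 76, false), (2, 10, false), (3, 78, false), (0, 90, false), (1, 89, false), (2, 80, false)]),
    ([0, 7], [9, 8, 7, 0], [(8, 23, true), (7, 53, true), (6, 61, true), (5, 74, true), (4, 79, true), (3, 83, true), (2, 86, true), (1, 11, true), (7, 22, true), (6, 54, true), (5, 62, true), (4, 75, true), (3, 80, true), (2, 84, true), (1, 87, true), (0, 12, true), (5, 53, true), (4, 61, true), (3, 74, true), (2, 79, true), (1, 83, true), (0, 86, true), (6, 52, true), (5, 61, true), (4, 74, true), (3, 79, true), (2, 83, true), (1, 86, true), (0, 11, true), (4, 60, true), (3, 75, true), (2, 80, true), (1, 84, true), (0, 87, true), (4, 73, true), (3, 80, true), (2, 84, true),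 (1, 87, true), (0, 12, true), (2, 78, true), (1, 82, true), (0, 85, true), (7, 20, true), (6, 54, true), (5, 62, true), (4, 75, true), (3, 80, true), (2, 84, true), (1, 87, true), (0, 89, true), (7, 53, true), (6, 61, true), (5, 74, true), (4, 79, true), (3, 83, true), (2, 86, true), (1, 88, true), (8, 50, true), (7, 62, true), (6, 75, true), (5, 80, true), (4, 84, true), (3, 87, true), (2, 89, true), (1, 90, true), (0, 12, true), (6, 61, true), (5, 74, true), (4, 79, true), (3, 83, true), (2, 86, true), (1, 88, true), (0, 11, true), (5, 60, true), (4, 75, true), (3, 80, true), (2, 84, true), (1, 87, true), (0, 89, true), (5, 73, true), (4, 80, true), (3, 84, true), (2, 87, true), (1, 89, true), (0, 12, true), (3, 78, true), (2, 82, true), (1, 85, true), (0, 10, true), (4, 58, true), (3, 71, true), (2, 80, true), (1, 84, true), (0, 87, true), (3, 79, true), (2, 83, true), (1, 86, true), (4, 76, true), (3, 8, true), (2, 87, true), (1, 90, true), (0, 12, true), (6, 17, true), (5, 54, true), (4, 62, true), (3, 75, true), (2, 80, true), (1, 87, true), (0, 90, true), (6, 52, true), (5, 61, true),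 (4, 74, true), (3, 79, true), (2, 86, true), (1, 11, true), (4, 60, true), (3, 75, true), (2, 80, true), (1, 87, true), (0, 12, true), (2, 73, true), (1, 80, true), (0, 87, true), (2, 78, true), (1, 85, true), (6, 49, true), (5, 62, true), (4, 75, true), (3, 80, true), (2, 87, true), (1, 89, true), (0, 12, true), (4, 61, true), (3, 74, true), (2, 79, true), (1, 86, true), (0, 88, true), (5, 57, true), (4, 74, true), (3, 79, true), (2, 86, true), (1, 88, true), (0, 11, true), (3, 70, true), (2, 79, true), (1, 86, true), (0, 88, true), (3, 7, true), (5, 47, true), (4, 61, true), (3, 74, true), (2, 86, true), (1, 88, true), (0, 11, true), (3, 55, true), (2, 75, true), (1, 87, true), (0, 89, true), (3, 74, true), (2, 86, true), (1, 88, true), (1, 88, false), (2, 86, false), (3, 63, false), (3, 7, false), (4, 64, false), (0, 89, false), (1, 87, false), (2, 8, false), (3, 76, false), (0, 11, false), (1, 88, false), (2, 86, false), (3, 83, false), (4, 79, false), (0, 12, false), (1, 90, false), (2, 89, false), (3, 87, false), (4, 84, false), (5, 80, false), (6, 65, false), (0, 90, false), (1, 89,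 false), (2, 81, false), (3, 77, false), (0, 88, false), (1, 83, false), (2, 79, false), (0, 12, false), (1, 89, false), (2, 84, false), (3, 80, false), (4, 66, false), (1, 11, false), (2, 88, false), (3, 83, false), (4, 79, false), (5, 68, false), (0, 90, false), (1, 89, false), (2, 84, false), (3, 80, false), (4, 69, false), (2, 76, false), (1, 78, false), (0, 79, false), (0, 10, false), (0, 11, false), (1, 88, false), (0, 12, false), (1, 90, false), (2, 89, false)], [(8, 43, true), (7, 54, true), (6, 62, true), (5, 69, true), (4, 75, true), (3, 80, true), (2, 84, true), (1, 89, true), (0, 12, true), (6, 52, true), (5, 61, true), (4, 68, true), (3, 74, true), (2, 79, true), (1, 83, true), (0, 88, true), (6, 60, true), (5, 69, true), (4, 75, true), (3, 80, true), (2, 84, true), (1, 89, true), (0, 90, true), (6, 67, true), (5, 73, true), (4, 80, true), (3, 84, true), (2, 89, true), (1, 90, true), (0, 12, true), (3, 78, true), (2, 82, true), (1, 10, true), (7, 42, true), (6, 54, true), (5, 62, true), (4, 69, true), (3, 75, true), (2, 80, true), (1, 84, true), (0, 90, true), (7, 52, true),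 (6, 61, true), (5, 68, true), (4, 74, true), (3, 79, true), (2, 83, true), (1, 11, true), (5, 60, true), (4, 69, true), (3, 75, true), (2, 80, true), (1, 84, true), (0, 12, true), (3, 67, true), (2, 73, true), (1, 80, true), (0, 84, true), (2, 78, true), (1, 82, true), (7, 51, true), (6, 62, true), (5, 69, true), (4, 75, true), (3, 80, true), (2, 84, true), (1, 89, true), (0, 12, true), (5, 61, true), (4, 68, true), (3, 74, true), (2, 79, true), (1, 83, true), (0, 88, true), (6, 60, true), (5, 69, true), (4, 75, true), (3, 80, true), (2, 84, true), (1, 89, true), (0, 90, true), (6, 67, true), (5, 73, true), (4, 80, true), (3, 84, true), (2, 89, true), (1, 90, true), (0, 12, true), (3, 78, true), (2, 82, true), (1, 10, true), (5, 59, true), (4, 68, true), (3, 74, true), (2, 79, true), (1, 83, true), (0, 11, true), (3, 66, true), (2, 75, true), (1, 80, true), (0, 84, true), (3, 74, true), (2, 79, true), (1, 83, true), (4, 72, true), (3, 80, true), (2, 84, true), (1, 90, true), (0, 12, true), (2, 79, true), (1, 83, true), (0, 11, true), (1, 77, true), (0, 81, true), (8, 39, true), (7, 53, true),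 (6, 61, true), (5, 68, true), (4, 74, true), (3, 79, true), (2, 83, true), (1, 86, true), (8, 50, true), (7, 62, true), (6, 69, true), (5, 75, true), (4, 80, true), (3, 84, true), (2, 87, true), (1, 90, true), (0, 12, true), (6, 61, true), (5, 68, true), (4, 74, true), (3, 79, true), (2, 83, true), (1, 86, true), (0, 11, true), (5, 60, true), (4, 69, true), (3, 75, true), (2, 80, true), (1, 84, true), (0, 87, true), (5, 67, true), (4, 73, true), (3, 80, true), (2, 84, true), (1, 87, true), (0, 12, true), (2, 78, true), (1, 82, true), (0, 85, true), (6, 58, true), (5, 65, true), (4, 75, true), (3, 80, true), (2, 84, true), (1, 87, true), (0, 89, true), (5, 74, true), (4, 79, true), (3, 83, true), (2, 86, true), (1, 88, true), (6, 71, true), (5, 80, true), (4, 84, true), (3, 87, true), (2, 89, true), (1, 90, true), (0, 12, true), (4, 79, true), (3, 83, true), (2, 86, true), (1, 88, true), (0, 11, true), (3, 76, true), (2, 8, true), (1, 87, true), (0, 89, true), (7, 49, true), (6, 62, true), (5, 69, true), (4, 75, true), (3, 80, true), (2, 87, true), (1, 89, true), (0, 12, true), (5, 61, true),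 (4, 68, true), (3, 74, true), (2, 79, true), (1, 86, true), (0, 88, true), (6, 57, true), (5, 68, true), (4, 74, true), (3, 79, true), (2, 86, true), (1, 88, true), (0, 11, true), (4, 64, true), (3, 70, true), (2, 79, true), (1, 86, true), (0, 88, true), (3, 7, true), (6, 48, true), (5, 61, true), (4, 68, true), (3, 74, true), (2, 86, true), (1, 88, true), (0, 11, true), (4, 60, true), (3, 69, true), (2, 75, true), (1, 87, true), (0, 89, true), (4, 67, true), (3, 73, true), (2, 87, true), (1, 89, true), (0, 12, true), (1, 85, true), (0, 10, true), (3, 59, true), (2, 68, true), (1, 74, true), (0, 86, true), (3, 66, true), (2, 75, true), (1, 87, true), (0, 90, true), (3, 74, true), (2, 86, true), (1, 11, true), (2, 72, true), (1, 87, true), (0, 12, true), (0, 86, true), (1, 9, true), (0, 90, true), (4, 58, true), (3, 65, true), (2, 75, true), (1, 90, true), (0, 12, true), (1, 74, true), (0, 11, true), (0, 71, true), (5, 56, true), (4, 68, true), (3, 74, true), (2, 83, true), (1, 11, true), (3, 63, true), (2, 74, true), (1, 83, true), (3, 6, true), (2, 83, true), (1, 11, true), (5, 38, true),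 (4, 54, true), (3, 62, true), (2, 69, true), (1, 84, true), (0, 12, true), (3, 53, true), (2, 61, true), (1, 68, true), (0, 83, true), (4, 52, true), (3, 61, true), (2, 68, true), (1, 83, true), (0, 11, true), (2, 60, true), (1, 69, true), (0, 84, true), (2, 67, true), (1, 82, true), (5, 49, true), (4, 62, true), (3, 69, true), (2, 84, true), (1, 89, true), (0, 12, true), (3, 61, true), (2, 68, true), (1, 83, true), (0, 88, true), (4, 57, true), (3, 68, true), (2, 83, true), (1, 88, true), (0, 11, true), (2, 64, true), (5, 47, true), (4, 61, true), (3, 68, true), (2, 79, true), (1, 83, true), (0, 88, true), (5, 55, true), (4, 69, true), (3, 80, true), (2, 84, true), (1, 89, true), (0, 90, true), (5, 68, true), (4, 79, true), (3, 83, true), (2, 88, true), (1, 11, true), (4, 5, true), (3, 79, true), (2, 83, true), (1, 88, true), (7, 37, true), (6, 54, true), (5, 62, true), (4, 80, true), (3, 84, true), (2, 89, true), (1, 90, true), (0, 12, true), (5, 53, true), (4, 61, true), (3, 79, true), (2, 83, true), (1, 88, true), (0, 11, true), (4, 52, true), (3, 61, true), (2, 79, true), (1, 83, true),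 (0, 88, true), (4, 60, true), (3, 80, true), (2, 84, true), (1, 89, true), (0, 90, true), (4, 78, true), (3, 82, true), (2, 10, true), (5, 50, true), (4, 62, true), (3, 80, true), (2, 84, true), (1, 90, true), (0, 12, true), (3, 61, true), (2, 79, true), (1, 83, true), (0, 11, true), (2, 60, true), (1, 80, true), (0, 84, true), (2, 78, true), (1, 82, true), (4, 58, true), (3, 76, true), (2, 8, true), (1, 89, true), (0, 12, true), (3, 46, true), (2, 60, true), (1, 80, true), (0, 89, true), (2, 78, true), (1, 10, true), (2, 59, true), (1, 79, true), (2, 77, true), (4, 58, true), (3, 76, true), (5, 57, true), (4, 79, true), (3, 83, true), (2, 86, true), (1, 11, true), (3, 7, true), (3, 4, true), (3, 4, false), (1, 11, false), (2, 86, false), (3, 83, false), (4, 5, false), (1, 86, false), (2, 83, false), (3, 68, false), (0, 87, false), (1, 84, false), (2, 69, false), (3, 55, false), (0, 11, false), (1, 86, false), (2, 83, false), (3, 6, false), (0, 86, false), (1, 83, false), (2, 74, false), (3, 63, false), (0, 11, false), (1, 86, false), (2, 83, false), (3, 74, false), (4, 68, false), (5, 56,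 false), (3, 7, false), (0, 86, false), (1, 83, false), (2, 79, false), (3, 70, false), (4, 64, false), (0, 11, false), (1, 86, false), (2, 83, false), (3, 79, false), (4, 74, false), (5, 68, false), (6, 57, false), (2, 76, false), (0, 86, false), (1, 79, false), (0, 12, false), (1, 87, false), (2, 80, false), (3, 71, false), (1, 11, false), (2, 86, false), (3, 79, false), (4, 74, false), (0, 90, false), (1, 87, false), (2, 80, false), (3, 75, false), (4, 65, false), (5, 58, false), (1, 10, false), (2, 85, false), (3, 78, false), (0, 12, false), (1, 90, false), (2, 89, false), (3, 87, false), (4, 80, false), (5, 73, false), (6, 67, false), (0, 90, false), (1, 89, false), (2, 87, false), (3, 80, false), (4, 75, false), (5, 69, false), (6, 60, false), (0, 12, false), (1, 90, false), (2, 89, false), (3, 87, false), (4, 80, false), (5, 75, false), (6, 69, false), (7, 62, false), (3, 77, false), (2, 78, false), (2, 10, false), (3, 78, false), (0, 90, false), (1, 89, false), (2, 80, false)]),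
    ([1, 2], [11, 8, 6, 2, 1], [(4, 45, true), (3, 54, true), (2, 62, true), (1, 90, true), (0, 12, true), (3, 44, true), (2, 53, true), (1, 61, true), (0, 11, true), (2, 42, true), (1, 54, true), (0, 62, true), (2, 52, true), (1, 61, true), (2, 60, true), (1, 90, true), (0, 12, true), (3, 51, true), (2, 62, true), (1, 89, true), (0, 90, true), (3, 61, true), (2, 88, true), (1, 11, true), (2, 60, true), (1, 89, true), (0, 12, true), (0, 10, true), (0, 59, true), (4, 41, true), (3, 54, true), (2, 62, true), (1, 87, true), (0, 90, true), (4, 53, true), (3, 61, true), (2, 86, true), (1, 11, true), (3, 50, true), (2, 62, true), (1, 87, true), (0, 12, true), (1, 61, true), (0, 86, true), (2, 60, true), (1, 87, true), (0, 90, true), (2, 85, true), (4, 58, true), (7, 40, true), (6, 53, true), (5, 61, true), (4, 83, true), (3, 86, true), (2, 88, true), (1, 11, true), (5, 49, true), (4, 62, true), (3, 84, true), (2, 87, true), (1, 89, true), (0, 12, true), (3, 61, true), (2, 83, true), (1, 86, true), (0, 88, true), (4, 57, true), (3, 83, true), (2, 86, true), (1, 88, true), (0, 11, true), (6, 39,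 true), (5, 53, true), (4, 61, true), (3, 79, true), (2, 83, true), (1, 86, true), (0, 88, true), (6, 50, true), (5, 62, true), (4, 80, true), (3, 84, true), (2, 87, true), (1, 89, true), (0, 90, true), (6, 61, true), (5, 79, true), (4, 83, true), (3, 86, true), (2, 88, true), (1, 11, true), (5, 60, true), (4, 80, true), (3, 84, true), (2, 87, true), (1, 89, true), (0, 12, true), (3, 78, true), (2, 82, true), (1, 85, true), (0, 10, true), (3, 58, true), (2, 76, true), (1, 8, true), (0, 87, true), (4, 49, true), (3, 62, true), (2, 80, true), (1, 87, true), (0, 12, true), (2, 61, true), (1, 79, true), (0, 86, true), (3, 57, true), (2, 79, true), (1, 86, true), (0, 11, true), (1, 7, true), (2, 48, true), (1, 61, true), (0, 86, true), (2, 60, true), (1, 87, true), (0, 90, true), (2, 85, true), (4, 59, true), (3, 86, true), (2, 88, true), (1, 11, true), (2, 9, true), (1, 89, true), (0, 12, true), (1, 58, true), (2, 56, true), (1, 83, true), (0, 88, true), (6, 38, true), (5, 54, true), (4, 62, true), (3, 75, true), (2, 84, true), (1, 89, true), (0, 90, true), (6, 53, true), (5, 61, true), (4, 74,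 true), (3, 83, true), (2, 88, true), (1, 11, true), (5, 52, true), (4, 61, true), (3, 74, true), (2, 83, true), (1, 88, true), (5, 60, true), (4, 75, true), (3, 84, true), (2, 89, true), (1, 90, true), (0, 12, true), (3, 73, true), (2, 84, true), (1, 89, true), (0, 90, true), (3, 82, true), (2, 10, true), (5, 49, true), (4, 62, true), (3, 75, true), (2, 84, true), (1, 90, true), (0, 12, true), (3, 61, true), (2, 74, true), (1, 83, true), (0, 11, true), (2, 57, true), (1, 74, true), (0, 83, true), (2, 70, true), (1, 83, true), (0, 11, true), (4, 47, true), (3, 61, true), (2, 74, true), (1, 79, true), (0, 83, true), (4, 55, true), (3, 75, true), (2, 80, true), (1, 84, true), (0, 90, true), (4, 74, true), (3, 79, true), (2, 83, true), (1, 11, true), (7, 37, true), (6, 54, true), (5, 62, true), (4, 69, true), (3, 75, true), (2, 80, true), (1, 84, true), (0, 12, true), (5, 53, true), (4, 61, true), (3, 68, true), (2, 74, true), (1, 79, true), (0, 83, true), (6, 52, true), (5, 61, true), (4, 68, true), (3, 74, true), (2, 79, true), (1, 83, true), (0, 11, true), (4, 60, true), (3, 69, true), (2,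 75, true), (1, 80, true), (0, 84, true), (4, 67, true), (3, 73, true), (2, 80, true), (1, 84, true), (0, 12, true), (1, 78, true), (0, 82, true), (6, 50, true), (5, 62, true), (4, 69, true), (3, 75, true), (2, 80, true), (1, 84, true), (0, 89, true), (6, 61, true), (5, 68, true), (4, 74, true), (3, 79, true), (2, 83, true), (1, 88, true), (7, 60, true), (6, 69, true), (5, 75, true), (4, 80, true), (3, 84, true), (2, 89, true), (1, 90, true), (0, 12, true), (5, 67, true), (4, 73, true), (3, 80, true), (2, 84, true), (1, 89, true), (0, 90, true), (4, 78, true), (3, 82, true), (2, 10, true), (6, 58, true), (5, 65, true), (4, 75, true), (3, 80, true), (2, 84, true), (1, 90, true), (0, 12, true), (3, 74, true), (2, 79, true), (1, 83, true), (0, 11, true), (2, 71, true), (1, 80, true), (0, 84, true), (2, 79, true), (1, 83, true), (3, 76, true), (2, 8, true), (1, 90, true), (0, 12, true), (5, 46, true), (4, 60, true), (3, 69, true), (2, 75, true), (1, 80, true), (0, 90, true), (4, 67, true), (3, 73, true), (2, 80, true), (1, 90, true), (0, 12, true), (1, 78, true), (5, 59, true), (4, 68, true),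 (3, 74, true), (2, 79, true), (1, 88, true), (0, 11, true), (3, 66, true), (2, 75, true), (1, 80, true), (0, 89, true), (3, 74, true), (2, 79, true), (1, 88, true), (4, 72, true), (3, 80, true), (2, 89, true), (1, 90, true), (0, 12, true), (2, 79, true), (1, 88, true), (0, 11, true), (1, 77, true), (5, 58, true), (4, 65, true), (3, 75, true), (2, 80, true), (1, 87, true), (0, 89, true), (4, 74, true), (3, 79, true), (2, 86, true), (1, 88, true), (5, 71, true), (4, 80, true), (3, 87, true), (2, 89, true), (1, 90, true), (0, 12, true), (3, 79, true), (2, 86, true), (1, 88, true), (0, 11, true), (2, 76, true), (6, 57, true), (5, 68, true), (4, 74, true), (3, 79, true), (2, 83, true), (1, 86, true), (0, 88, true), (6, 64, true), (5, 70, true), (4, 79, true), (3, 83, true), (2, 86, true), (1, 88, true), (0, 11, true), (3, 7, true), (5, 4, true), (6, 2, true), (5, 53, true), (4, 68, true), (3, 74, true), (2, 83, true), (1, 86, true), (0, 88, true), (6, 52, true), (5, 68, true), (4, 74, true), (3, 83, true), (2, 86, true), (1, 88, true), (0, 11, true), (4, 67, true), (3, 73, true), (2, 84, true),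 (1, 87, true), (0, 89, true), (3, 82, true), (2, 85, true), (1, 10, true), (5, 50, true), (4, 69, true), (3, 75, true), (2, 84, true), (1, 87, true), (0, 12, true), (3, 68, true), (2, 74, true), (1, 83, true), (0, 86, true), (4, 67, true), (3, 73, true), (2, 84, true), (1, 87, true), (0, 90, true), (3, 82, true), (2, 85, true), (6, 65, true), (5, 75, true), (4, 84, true), (3, 87, true), (2, 89, true), (1, 90, true), (0, 12, true), (4, 74, true), (3, 83, true), (2, 86, true), (1, 88, true), (0, 11, true), (3, 71, true), (2, 84, true), (1, 87, true), (0, 89, true), (3, 83, true), (2, 86, true), (1, 88, true), (4, 8, true), (3, 87, true), (2, 89, true), (1, 90, true), (0, 12, true), (5, 49, true), (4, 69, true), (3, 75, true), (2, 87, true), (1, 89, true), (0, 90, true), (5, 68, true), (4, 74, true), (3, 86, true), (2, 88, true), (1, 11, true), (4, 64, true), (3, 70, true), (2, 86, true), (1, 88, true), (1, 88, false), (2, 86, false), (3, 70, false), (4, 64, false), (1, 11, false), (2, 88, false), (3, 86, false), (4, 74, false), (5, 68, false), (0, 90, false), (1, 89, false), (2, 87, false),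 (3, 75, false), (4, 69, false), (5, 49, false), (0, 12, false), (1, 90, false), (2, 89, false), (3, 87, false), (4, 8, false), (1, 88, false), (2, 86, false), (3, 83, false), (0, 89, false), (1, 87, false), (2, 84, false), (3, 71, false), (0, 11, false), (1, 88, false), (2, 86, false), (3, 83, false), (4, 74, false), (0, 12, false), (1, 90, false), (2, 89, false), (3, 87, false), (4, 84, false), (5, 75, false), (6, 65, false), (2, 85, false), (3, 82, false), (0, 90, false), (1, 87, false), (2, 84, false), (3, 73, false), (4, 67, false), (0, 86, false), (1, 83, false), (2, 74, false), (3, 68, false), (0, 12, false), (1, 87, false), (2, 84, false), (3, 75, false), (4, 69, false), (5, 50, false), (1, 10, false), (2, 85, false), (3, 82, false), (0, 89, false), (1, 87, false), (2, 84, false), (3, 73, false), (4, 67, false), (0, 11, false), (1, 88, false), (2, 86, false), (3, 83, false), (4, 74, false), (5, 68, false), (6, 52, false), (0, 88, false), (1, 86, false), (2, 83, false), (3, 74, false), (4, 68, false), (5, 53, false), (6, 2, false), (5, 4, false), (0, 11, false), (1, 88, false), (2,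 86, false), (3, 83, false), (4, 74, false), (0, 12, false), (1, 90, false), (2, 89, false), (3, 87, false), (4, 84, false), (5, 75, false), (6, 55, false), (1, 88, false), (2, 86, false), (3, 83, false), (4, 56, false), (3, 58, false), (1, 11, false), (2, 88, false), (3, 59, false), (0, 90, false), (1, 60, false), (0, 61, false), (0, 12, false), (1, 62, false), (2, 36, false), (0, 8, false), (0, 10, false), (1, 82, false), (0, 11, false), (1, 88, false), (2, 83, false), (0, 12, false), (1, 90, false), (2, 89, false), (3, 84, false), (4, 37, false), (1, 88, false), (2, 83, false), (3, 44, false), (0, 89, false), (1, 84, false), (2, 45, false), (2, 4, false), (0, 11, false), (1, 88, false), (2, 83, false), (3, 5, false), (0, 88, false), (1, 83, false), (2, 68, false), (0, 12, false), (1, 89, false), (2, 84, false), (3, 69, false), (4, 55, false), (1, 11, false), (2, 88, false), (3, 83, false), (4, 6, false), (1, 88, false), (2, 83, false), (3, 74, false), (4, 63, false), (1, 11, false), (2, 88, false), (3, 83, false), (4, 74, false), (5, 68, false), (6, 56, false), (4, 7, false), (1, 88, false),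 (2, 83, false), (3, 79, false), (4, 70, false), (5, 64, false), (1, 11, false), (2, 88, false), (3, 83, false), (4, 79, false), (5, 74, false), (6, 68, false), (7, 57, false), (3, 76, false), (1, 88, false), (2, 79, false), (0, 89, false), (1, 80, false), (2, 71, false), (0, 11, false), (1, 88, false), (2, 79, false), (3, 74, false), (0, 12, false), (1, 90, false), (2, 89, false), (3, 80, false), (4, 75, false), (5, 65, false), (6, 58, false), (0, 90, false), (1, 89, false), (2, 9, false), (3, 77, false), (0, 88, false), (1, 86, false), (2, 79, false), (0, 12, false), (1, 89, false), (2, 87, false), (3, 80, false), (4, 72, false), (1, 11, false), (2, 88, false), (3, 86, false), (4, 79, false), (5, 74, false), (0, 90, false), (1, 89, false), (2, 87, false), (3, 80, false), (4, 75, false), (5, 66, false), (0, 88, false), (1, 86, false), (2, 79, false), (3, 74, false), (4, 68, false), (5, 59, false), (0, 11, false), (1, 88, false), (2, 86, false), (3, 79, false), (4, 74, false), (5, 68, false), (6, 61, false), (0, 12, false), (1, 90, false), (2, 89, false), (3, 87, false), (4, 80, false), (5,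 75, false), (6, 69, false), (7, 62, false), (3, 77, false), (1, 88, false), (2, 79, false), (0, 89, false), (1, 80, false), (0, 11, false), (0, 12, false), (1, 90, false)], [(4, 44, true), (3, 53, true), (2, 61, true), (1, 11, true), (3, 43, true), (2, 54, true), (1, 62, true), (0, 12, true), (1, 52, true), (0, 61, true), (1, 60, true), (0, 90, true), (5, 41, true), (4, 54, true), (3, 62, true), (2, 89, true), (1, 90, true), (0, 12, true), (3, 53, true), (2, 61, true), (1, 88, true), (0, 11, true), (2, 50, true), (1, 62, true), (0, 89, true), (2, 61, true), (1, 88, true), (3, 60, true), (2, 89, true), (1, 90, true), (0, 12, true), (1, 10, true), (1, 58, true), (4, 40, true), (3, 53, true), (2, 61, true), (1, 83, true), (0, 11, true), (2, 49, true), (1, 62, true), (0, 84, true), (2, 61, true), (1, 83, true), (3, 57, true), (2, 83, true), (1, 11, true), (5, 38, true), (4, 54, true), (3, 62, true), (2, 80, true), (1, 84, true), (0, 12, true), (3, 53, true), (2, 61, true), (1, 79, true), (0, 83, true), (4, 52, true), (3, 61, true), (2, 79, true), (1, 83, true), (0, 11, true), (2, 60, true),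 (1, 80, true), (0, 84, true), (2, 78, true), (1, 82, true), (5, 49, true), (4, 62, true), (3, 80, true), (2, 84, true), (1, 89, true), (0, 12, true), (3, 61, true), (2, 79, true), (1, 83, true), (0, 88, true), (4, 57, true), (3, 79, true), (2, 83, true), (1, 88, true), (0, 11, true), (2, 7, true), (3, 47, true), (2, 61, true), (1, 83, true), (0, 88, true), (3, 55, true), (2, 84, true), (1, 89, true), (0, 90, true), (3, 83, true), (2, 88, true), (1, 11, true), (3, 7, false), (4, 64, false), (2, 76, false), (1, 11, false), (2, 88, false), (3, 79, false), (0, 90, false), (1, 89, false), (2, 80, false), (3, 65, false), (0, 12, false), (1, 90, false), (2, 89, false), (3, 9, false), (4, 77, false), (1, 88, false), (2, 86, false), (3, 79, false), (0, 89, false), (1, 87, false), (2, 80, false), (3, 66, false), (0, 85, false), (1, 78, false), (2, 67, false), (3, 46, false), (0, 11, false), (1, 86, false), (2, 79, false), (3, 47, false), (0, 86, false), (1, 79, false), (2, 6, false), (0, 12, false), (1, 87, false), (2, 8, false), (3, 76, false), (1, 11, false), (2, 86, false), (3, 83, false), (4,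 79, false), (0, 90, false), (1, 87, false), (2, 84, false), (3, 80, false), (4, 71, false), (0, 12, false), (1, 90, false), (2, 81, false), (3, 77, false), (1, 83, false), (2, 79, false), (0, 84, false), (1, 80, false), (2, 72, false), (0, 10, false), (1, 82, false), (2, 78, false), (0, 12, false), (1, 89, false), (2, 84, false), (3, 80, false), (4, 73, false), (1, 11, false), (2, 88, false), (3, 83, false), (4, 79, false), (5, 74, false), (6, 48, false), (1, 88, false), (2, 83, false), (3, 70, false), (1, 11, false), (2, 88, false), (3, 83, false), (4, 74, false), (0, 90, false), (1, 89, false), (2, 84, false), (3, 75, false), (4, 49, false), (1, 82, false), (0, 12, false), (1, 90, false), (2, 84, false), (3, 73, false), (1, 83, false), (2, 74, false), (3, 52, false), (4, 14, false), (3, 4, false), (1, 11, false), (2, 83, false), (3, 56, false), (2, 10, false), (3, 82, false), (0, 90, false), (1, 89, false), (2, 84, false), (3, 60, false), (0, 12, false), (1, 90, false), (2, 89, false), (3, 84, false), (4, 62, false), (5, 15, false), (2, 16, false), (1, 23, false), (0, 24, false), (0, 11,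 false), (1, 5, false), (1, 7, false), (2, 64, false), (0, 12, false), (1, 90, false), (2, 8, false), (3, 76, false), (1, 83, false), (2, 79, false), (0, 84, false), (1, 80, false), (2, 65, false), (0, 10, false), (1, 82, false), (2, 78, false), (3, 67, false), (0, 11, false), (1, 88, false), (2, 83, false), (3, 79, false), (4, 68, false), (0, 12, false), (1, 90, false)])]

/-- A conjugation. -/
def twoSuzFus1 : Schur.Tails.Fus where
  xs := [[12, 8, 7, 6, 5, 3, 2, 1], [12, 11, 10, 9, 7, 4]]
  ys := [[12, 8, 7, 6, 5, 3, 2, 1], [12, 10, 9, 8, 6, 5, 4, 3, 2, 1]]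
  rels := [
    ([1, 1], [], [(5, 62, true), (4, 80, true), (3, 87, true), (2, 89, true), (1, 90, true), (0, 12, true), (4, 61, true), (3, 79, true), (2, 86, true), (1, 88, true), (0, 11, true), (3, 60, true), (2, 80, true), (1, 87, true), (0, 89, true), (3, 78, true), (2, 85, true), (1, 10, true), (3, 59, true), (2, 79, true), (1, 86, true), (3, 77, true), (2, 9, true), (1, 90, true), (0, 12, true), (2, 57, true), (1, 79, true), (0, 11, true), (0, 7, true), (0, 4, true)], [(9, 35, true), (8, 45, true), (7, 54, true), (6, 62, true), (5, 69, true), (4, 75, true), (3, 84, true), (2, 87, true), (1, 89, true), (0, 12, true), (8, 33, true), (7, 44, true), (6, 53, true), (5, 61, true), (4, 68, true), (3, 74, true), (2, 83, true), (1, 86, true), (0, 88, true), (8, 43, true), (7, 54, true), (6, 62, true), (5, 69, true), (4, 75, true), (3, 84, true), (2, 87, true), (1, 89, true), (0, 90, true), (8, 52, true), (7, 61, true), (6, 68, true), (5, 74, true), (4, 83, true), (3, 86, true), (2, 88, true), (1, 11, true), (6, 60, true), (5, 69, true), (4, 75, true), (3, 84, true), (2, 87, true), (1, 89, true),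 (0, 12, true), (4, 67, true), (3, 73, true), (2, 84, true), (1, 87, true), (0, 89, true), (3, 82, true), (2, 85, true), (1, 10, true), (8, 32, true), (7, 44, true), (6, 53, true), (5, 61, true), (4, 68, true), (3, 74, true), (2, 83, true), (1, 86, true), (8, 43, true), (7, 54, true), (6, 62, true), (5, 69, true), (4, 75, true), (3, 84, true), (2, 87, true), (1, 90, true), (0, 12, true), (6, 52, true), (5, 61, true), (4, 68, true), (3, 74, true), (2, 83, true), (1, 86, true), (0, 11, true), (4, 60, true), (3, 69, true), (2, 75, true), (1, 84, true), (0, 87, true), (4, 67, true), (3, 73, true), (2, 84, true), (1, 87, true), (0, 12, true), (1, 82, true), (0, 85, true), (7, 42, true), (6, 54, true), (5, 62, true), (4, 69, true), (3, 75, true), (2, 84, true), (1, 87, true), (0, 89, true), (7, 52, true), (6, 61, true), (5, 68, true), (4, 74, true), (3, 83, true), (2, 86, true), (1, 88, true), (7, 60, true), (6, 69, true), (5, 75, true), (4, 84, true), (3, 87, true), (2, 89, true), (1, 90, true), (0, 12, true), (5, 67, true), (4, 73, true), (3, 84, true), (2, 87, true), (1, 89, true), (0, 90, true),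 (4, 82, true), (3, 85, true), (2, 10, true), (7, 51, true), (6, 62, true), (5, 69, true), (4, 75, true), (3, 84, true), (2, 87, true), (1, 90, true), (0, 12, true), (5, 61, true), (4, 68, true), (3, 74, true), (2, 83, true), (1, 86, true), (0, 11, true), (4, 60, true), (3, 69, true), (2, 75, true), (1, 84, true), (0, 87, true), (4, 67, true), (3, 73, true), (2, 84, true), (1, 87, true), (0, 12, true), (1, 82, true), (0, 85, true), (5, 59, true), (4, 68, true), (3, 74, true), (2, 83, true), (1, 86, true), (0, 88, true), (5, 66, true), (4, 75, true), (3, 84, true), (2, 87, true), (1, 89, true), (0, 90, true), (5, 74, true), (4, 83, true), (3, 86, true), (2, 88, true), (1, 11, true), (4, 72, true), (3, 84, true), (2, 87, true), (1, 89, true), (0, 12, true), (2, 83, true), (1, 86, true), (0, 88, true), (3, 81, true), (2, 87, true), (1, 89, true), (0, 90, true), (3, 9, true), (2, 89, true), (1, 90, true), (0, 12, true), (8, 31, true), (7, 44, true), (6, 53, true), (5, 61, true), (4, 68, true), (3, 74, true), (2, 83, true), (1, 88, true), (0, 11, true), (6, 43, true), (5, 54, true), (4, 62, true),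 (3, 69, true), (2, 75, true), (1, 84, true), (0, 89, true), (6, 52, true), (5, 61, true), (4, 68, true), (3, 74, true), (2, 83, true), (1, 88, true), (6, 60, true), (5, 69, true), (4, 75, true), (3, 84, true), (2, 89, true), (1, 90, true), (0, 12, true), (4, 67, true), (3, 73, true), (2, 84, true), (1, 89, true), (0, 90, true), (3, 82, true), (2, 10, true), (7, 41, true), (6, 54, true), (5, 62, true), (4, 69, true), (3, 75, true), (2, 84, true), (1, 90, true), (0, 12, true), (5, 53, true), (4, 61, true), (3, 68, true), (2, 74, true), (1, 83, true), (0, 11, true), (4, 50, true), (3, 62, true), (2, 69, true), (1, 75, true), (0, 84, true), (4, 61, true), (3, 68, true), (2, 74, true), (1, 83, true), (5, 60, true), (4, 69, true), (3, 75, true), (2, 84, true), (1, 90, true), (0, 12, true), (3, 67, true), (2, 73, true), (1, 84, true), (0, 90, true), (2, 82, true), (6, 58, true), (5, 65, true), (4, 75, true), (3, 84, true), (2, 89, true), (1, 90, true), (0, 12, true), (3, 74, true), (2, 83, true), (1, 88, true), (0, 11, true), (2, 71, true), (1, 84, true), (0, 89, true), (2, 83, true), (1, 88, true),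 (3, 8, true), (2, 89, true), (1, 90, true), (0, 12, true), (7, 29, true), (6, 44, true), (5, 53, true), (4, 61, true), (3, 68, true), (2, 74, true), (1, 88, true), (0, 11, true), (5, 43, true), (4, 54, true), (3, 62, true), (2, 69, true), (1, 75, true), (0, 89, true), (5, 52, true), (4, 61, true), (3, 68, true), (2, 74, true), (1, 88, true), (5, 60, true), (4, 69, true), (3, 75, true), (2, 89, true), (1, 90, true), (0, 12, true), (3, 67, true), (2, 73, true), (1, 89, true), (0, 90, true), (2, 10, true), (6, 39, true), (5, 53, true), (4, 61, true), (3, 68, true), (2, 74, true), (1, 11, true), (4, 50, true), (3, 62, true), (2, 69, true), (1, 75, true), (0, 12, true), (2, 61, true), (1, 68, true), (0, 74, true), (3, 60, true), (2, 69, true), (1, 75, true), (0, 90, true), (3, 67, true), (2, 73, true), (1, 90, true), (0, 12, true), (4, 58, true), (3, 65, true), (2, 75, true), (1, 89, true), (0, 90, true), (3, 74, true), (2, 88, true), (1, 11, true), (2, 71, true), (1, 89, true), (0, 12, true), (0, 88, true), (6, 49, true), (5, 62, true), (4, 69, true), (3, 75, true), (2, 84, true), (1, 89, true),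 (0, 90, true), (6, 61, true), (5, 68, true), (4, 74, true), (3, 83, true), (2, 88, true), (1, 11, true), (5, 57, true), (4, 68, true), (3, 74, true), (2, 83, true), (1, 88, true), (5, 64, true), (4, 70, true), (3, 83, true), (2, 88, true), (1, 11, true), (7, 48, true), (6, 61, true), (5, 68, true), (4, 74, true), (3, 79, true), (2, 83, true), (1, 88, true), (7, 60, true), (6, 69, true), (5, 75, true), (4, 80, true), (3, 84, true), (2, 89, true), (1, 90, true), (0, 12, true), (5, 67, true), (4, 73, true), (3, 80, true), (2, 84, true), (1, 89, true), (0, 90, true), (4, 78, true), (3, 82, true), (2, 10, true), (6, 59, true), (5, 68, true), (4, 74, true), (3, 79, true), (2, 83, true), (1, 11, true), (4, 66, true), (3, 75, true), (2, 80, true), (1, 84, true), (0, 12, true), (2, 74, true), (1, 79, true), (0, 83, true), (3, 72, true), (2, 80, true), (1, 84, true), (0, 90, true), (3, 79, true), (2, 83, true), (1, 11, true), (2, 77, true), (1, 81, true), (0, 12, true), (5, 58, true), (4, 65, true), (3, 75, true), (2, 80, true), (1, 84, true), (0, 87, true), (4, 74, true), (3, 79, true), (2, 83, true),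 (1, 86, true), (5, 71, true), (4, 80, true), (3, 84, true), (2, 87, true), (1, 90, true), (0, 12, true), (3, 79, true), (2, 83, true), (1, 86, true), (0, 11, true), (2, 76, true), (1, 8, true), (0, 87, true), (5, 56, true), (4, 68, true), (3, 74, true), (2, 79, true), (1, 86, true), (5, 63, true), (4, 74, true), (3, 79, true), (2, 86, true), (1, 11, true), (3, 6, true), (2, 79, true), (1, 86, true), (8, 28, true), (7, 45, true), (6, 54, true), (5, 62, true), (4, 69, true), (3, 80, true), (2, 87, true), (1, 90, true), (0, 12, true), (6, 44, true), (5, 53, true), (4, 61, true), (3, 68, true), (2, 79, true), (1, 86, true), (0, 11, true), (5, 43, true), (4, 54, true), (3, 62, true), (2, 69, true), (1, 80, true), (0, 87, true), (5, 52, true), (4, 61, true), (3, 68, true), (2, 79, true), (1, 86, true), (5, 60, true), (4, 69, true), (3, 80, true), (2, 87, true), (1, 90, true), (0, 12, true), (3, 67, true), (2, 78, true), (1, 85, true), (7, 42, true), (6, 54, true), (5, 62, true), (4, 69, true), (3, 80, true), (2, 87, true), (1, 89, true), (0, 90, true), (7, 52, true), (6, 61, true), (5, 68, true),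 (4, 79, true), (3, 86, true), (2, 88, true), (1, 11, true), (5, 60, true), (4, 69, true), (3, 80, true), (2, 87, true), (1, 89, true), (0, 12, true), (3, 67, true), (2, 78, true), (1, 85, true), (0, 10, true), (4, 51, true), (3, 62, true), (2, 69, true), (1, 80, true), (0, 87, true), (4, 61, true), (3, 68, true), (2, 79, true), (1, 86, true), (5, 60, true), (4, 69, true), (3, 80, true), (2, 87, true), (1, 90, true), (0, 12, true), (3, 67, true), (2, 78, true), (1, 85, true), (5, 59, true), (4, 68, true), (3, 79, true), (2, 86, true), (1, 88, true), (0, 11, true), (3, 66, true), (2, 80, true), (1, 87, true), (0, 89, true), (3, 79, true), (2, 86, true), (1, 88, true), (4, 77, true), (3, 9, true), (2, 89, true), (1, 90, true), (0, 12, true), (6, 41, true), (5, 54, true), (4, 62, true), (3, 69, true), (2, 80, true), (1, 89, true), (0, 90, true), (6, 53, true), (5, 61, true), (4, 68, true), (3, 79, true), (2, 88, true), (1, 11, true), (5, 50, true), (4, 62, true), (3, 69, true), (2, 80, true), (1, 89, true), (0, 12, true), (3, 61, true), (2, 68, true), (1, 79, true), (0, 88, true), (4, 60, true),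 (3, 69, true), (2, 80, true), (1, 89, true), (0, 90, true), (4, 67, true), (3, 78, true), (2, 10, true), (4, 58, true), (3, 65, true), (2, 80, true), (1, 90, true), (0, 12, true), (1, 79, true), (0, 11, true), (0, 76, true), (5, 38, true), (4, 54, true), (3, 62, true), (2, 69, true), (1, 80, true), (0, 84, true), (5, 53, true), (4, 61, true), (3, 68, true), (2, 79, true), (1, 83, true), (6, 52, true), (5, 61, true), (4, 68, true), (3, 79, true), (2, 83, true), (1, 11, true), (4, 60, true), (3, 69, true), (2, 80, true), (1, 84, true), (0, 12, true), (2, 67, true), (1, 78, true), (0, 82, true), (5, 49, true), (4, 62, true), (3, 69, true), (2, 80, true), (1, 84, true), (0, 89, true), (5, 61, true), (4, 68, true), (3, 79, true), (2, 83, true), (1, 88, true), (6, 57, true), (5, 68, true), (4, 79, true), (3, 83, true), (2, 88, true), (1, 11, true), (4, 64, true), (3, 7, true), (5, 47, true), (4, 61, true), (3, 68, true), (2, 83, true), (1, 88, true), (5, 55, true), (4, 69, true), (3, 84, true), (2, 89, true), (1, 90, true), (0, 12, true), (3, 68, true), (2, 83, true), (1, 88, true), (0, 11, true),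 (2, 5, true), (1, 83, true), (0, 88, true), (6, 27, true), (5, 44, true), (4, 53, true), (3, 61, true), (2, 83, true), (1, 88, true), (0, 11, true), (4, 43, true), (3, 54, true), (2, 62, true), (1, 84, true), (0, 89, true), (4, 52, true), (3, 61, true), (2, 83, true), (1, 88, true), (4, 60, true), (3, 84, true), (2, 89, true), (1, 90, true), (0, 12, true), (2, 82, true), (1, 10, true), (4, 42, true), (3, 54, true), (2, 62, true), (1, 84, true), (0, 90, true), (4, 52, true), (3, 61, true), (2, 83, true), (1, 11, true), (2, 60, true), (1, 84, true), (0, 12, true), (0, 82, true), (3, 51, true), (2, 62, true), (1, 84, true), (0, 89, true), (3, 61, true), (2, 83, true), (1, 88, true), (4, 60, true), (3, 84, true), (2, 89, true), (1, 90, true), (0, 12, true), (2, 82, true), (1, 10, true), (2, 59, true), (1, 83, true), (0, 11, true), (0, 81, true), (5, 40, true), (4, 53, true), (3, 61, true), (2, 83, true), (1, 86, true), (5, 49, true), (4, 62, true), (3, 84, true), (2, 87, true), (1, 90, true), (0, 12, true), (3, 61, true), (2, 83, true), (1, 86, true), (0, 11, true), (2, 57, true), (1, 83, true),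 (0, 86, true), (6, 37, true), (5, 54, true), (4, 62, true), (3, 80, true), (2, 84, true), (1, 87, true), (0, 90, true), (6, 53, true), (5, 61, true), (4, 79, true), (3, 83, true), (2, 86, true), (1, 11, true), (5, 52, true), (4, 61, true), (3, 79, true), (2, 83, true), (1, 86, true), (5, 60, true), (4, 80, true), (3, 84, true), (2, 87, true), (1, 90, true), (0, 12, true), (3, 78, true), (2, 82, true), (1, 85, true), (6, 50, true), (5, 62, true), (4, 80, true), (3, 84, true), (2, 87, true), (1, 89, true), (0, 90, true), (6, 61, true), (5, 79, true), (4, 83, true), (3, 86, true), (2, 88, true), (1, 11, true), (5, 60, true), (4, 80, true), (3, 84, true), (2, 87, true), (1, 89, true), (0, 12, true), (3, 78, true), (2, 82, true), (1, 85, true), (0, 10, true), (3, 58, true), (2, 76, true), (1, 8, true), (0, 87, true), (4, 46, true), (3, 60, true), (2, 80, true), (1, 87, true), (0, 12, true), (1, 78, true), (0, 85, true), (3, 59, true), (2, 79, true), (1, 86, true), (0, 88, true), (3, 77, true), (2, 9, true), (1, 89, true), (0, 90, true), (4, 58, true), (3, 76, true), (5, 57, true), (4, 79, true),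 (3, 83, true), (2, 88, true), (1, 11, true), (3, 7, true), (3, 4, true), (5, 26, true), (4, 45, true), (3, 54, true), (2, 84, true), (1, 89, true), (0, 12, true), (3, 44, true), (2, 53, true), (1, 83, true), (0, 88, true), (4, 43, true), (3, 54, true), (2, 84, true), (1, 89, true), (0, 90, true), (4, 52, true), (3, 83, true), (2, 88, true), (1, 11, true), (2, 82, true), (1, 10, true), (3, 42, true), (2, 54, true), (1, 84, true), (0, 12, true), (1, 52, true), (0, 83, true), (1, 82, true), (3, 51, true), (2, 84, true), (1, 89, true), (0, 90, true), (3, 83, true), (2, 88, true), (1, 11, true), (2, 82, true), (1, 10, true), (1, 81, true), (0, 12, true), (3, 41, true), (2, 54, true), (1, 84, true), (0, 87, true), (3, 53, true), (2, 83, true), (1, 86, true), (4, 50, true), (3, 84, true), (2, 87, true), (1, 90, true), (0, 12, true), (2, 83, true), (1, 86, true), (0, 11, true), (1, 82, true), (0, 85, true), (2, 8, true), (1, 87, true), (0, 89, true), (4, 40, true), (3, 53, true), (2, 86, true), (1, 88, true), (4, 49, true), (3, 87, true), (2, 89, true), (1, 90, true), (0, 12, true), (2, 86, true),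 (1, 88, true), (0, 11, true), (4, 39, true), (3, 53, true), (2, 79, true), (1, 86, true), (0, 88, true), (4, 50, true), (3, 80, true), (2, 87, true), (1, 89, true), (0, 90, true), (4, 79, true), (3, 86, true), (2, 88, true), (1, 11, true), (3, 78, true), (2, 85, true), (1, 10, true), (2, 76, true), (4, 49, true), (3, 80, true), (2, 84, true), (1, 87, true), (0, 12, true), (2, 79, true), (1, 83, true), (0, 86, true), (3, 7, true), (3, 48, true), (2, 83, true), (1, 86, true), (0, 11, true), (1, 82, true), (0, 85, true), (2, 81, true), (1, 87, true), (0, 89, true), (2, 9, true), (1, 89, true), (0, 12, true), (1, 8, true), (0, 89, true), (4, 38, true), (3, 54, true), (2, 75, true), (1, 89, true), (0, 12, true), (2, 53, true), (1, 74, true), (0, 88, true), (3, 52, true), (2, 74, true), (1, 88, true), (0, 11, true), (1, 73, true), (0, 89, true), (1, 10, true), (2, 49, true), (1, 75, true), (0, 12, true), (0, 74, true), (1, 70, true), (0, 11, true), (2, 47, true), (1, 74, true), (0, 79, true), (5, 36, true), (4, 54, true), (3, 69, true), (2, 75, true), (1, 80, true), (0, 90, true), (5, 53, true),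 (4, 68, true), (3, 74, true), (2, 79, true), (1, 11, true), (4, 52, true), (3, 68, true), (2, 74, true), (1, 79, true), (4, 67, true), (3, 73, true), (2, 80, true), (1, 90, true), (0, 12, true), (1, 78, true), (5, 51, true), (4, 69, true), (3, 75, true), (2, 80, true), (1, 89, true), (0, 90, true), (5, 68, true), (4, 74, true), (3, 79, true), (2, 88, true), (1, 11, true), (4, 67, true), (3, 73, true), (2, 80, true), (1, 89, true), (0, 12, true), (1, 78, true), (0, 10, true), (2, 66, true), (1, 75, true), (0, 80, true), (2, 74, true), (1, 79, true), (3, 72, true), (2, 80, true), (1, 90, true), (0, 12, true), (1, 79, true), (0, 11, true), (0, 77, true), (4, 50, true), (3, 69, true), (2, 75, true), (1, 80, true), (0, 87, true), (4, 68, true), (3, 74, true), (2, 79, true), (1, 86, true), (5, 67, true), (4, 73, true), (3, 80, true), (2, 87, true), (1, 90, true), (0, 12, true), (2, 78, true), (1, 85, true), (5, 65, true), (4, 75, true), (3, 80, true), (2, 87, true), (1, 89, true), (0, 90, true), (5, 74, true), (4, 79, true), (3, 86, true), (2, 88, true), (1, 11, true), (4, 71, true), (3, 80, true),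 (2, 87, true), (1, 89, true), (0, 12, true), (2, 79, true), (1, 86, true), (0, 88, true), (3, 76, true), (7, 48, true), (6, 68, true), (5, 74, true), (4, 79, true), (3, 83, true), (2, 86, true), (1, 88, true), (0, 11, true), (5, 67, true), (4, 73, true), (3, 80, true), (2, 84, true), (1, 87, true), (0, 89, true), (4, 78, true), (3, 82, true), (2, 85, true), (1, 10, true), (5, 66, true), (4, 75, true), (3, 80, true), (2, 84, true), (1, 87, true), (0, 12, true), (3, 74, true), (2, 79, true), (1, 83, true), (0, 86, true), (4, 72, true), (3, 80, true), (2, 84, true), (1, 87, true), (0, 90, true), (4, 79, true), (3, 83, true), (2, 86, true), (1, 11, true), (3, 77, true), (2, 81, true), (1, 87, true), (0, 12, true), (0, 9, true), (4, 65, true), (3, 75, true), (2, 80, true), (1, 84, true), (0, 12, true), (2, 74, true), (1, 79, true), (0, 83, true), (3, 71, true), (2, 80, true), (1, 84, true), (0, 90, true), (3, 79, true), (2, 83, true), (1, 11, true), (2, 76, true), (1, 8, true), (0, 12, true), (2, 63, true), (1, 74, true), (0, 79, true), (2, 6, true), (1, 79, true), (0, 11, true), (2, 47, true),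 (1, 68, true), (0, 79, true), (2, 5, true), (1, 79, true), (0, 11, true), (1, 46, true), (0, 78, true), (1, 77, true), (2, 76, true), (3, 7, true), (4, 3, true), (3, 62, true), (2, 84, true), (1, 87, true), (0, 89, true), (4, 61, true), (3, 83, true), (2, 86, true), (1, 88, true), (5, 60, true), (4, 84, true), (3, 87, true), (2, 89, true), (1, 90, true), (0, 12, true), (3, 82, true), (2, 85, true), (1, 10, true), (3, 59, true), (2, 83, true), (1, 86, true), (0, 11, true), (1, 81, true), (0, 87, true), (1, 9, true), (0, 12, true), (1, 58, true), (0, 8, true), (1, 55, true), (0, 12, true), (4, 25, true), (3, 45, true), (2, 62, true), (1, 69, true), (0, 90, true), (4, 44, true), (3, 61, true), (2, 68, true), (1, 11, true), (3, 41, true), (2, 62, true), (1, 69, true), (0, 12, true), (1, 61, true), (0, 68, true), (2, 58, true), (1, 65, true), (0, 90, true), (1, 11, true), (4, 39, true), (3, 61, true), (2, 68, true), (1, 83, true), (4, 58, true), (3, 65, true), (2, 84, true), (1, 90, true), (0, 12, true), (1, 83, true), (0, 11, true), (0, 8, true), (2, 57, true), (1, 68, true), (2, 64, true),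 (4, 56, true), (3, 68, true), (2, 79, true), (1, 11, true), (2, 63, true), (1, 79, true), (6, 38, true), (5, 62, true), (4, 69, true), (3, 75, true), (2, 80, true), (1, 90, true), (0, 12, true), (4, 61, true), (3, 68, true), (2, 74, true), (1, 79, true), (0, 11, true), (3, 60, true), (2, 69, true), (1, 75, true), (0, 80, true), (3, 67, true), (2, 73, true), (1, 80, true), (0, 12, true), (0, 78, true), (4, 57, true), (3, 68, true), (2, 74, true), (1, 79, true), (0, 88, true), (4, 64, true), (3, 70, true), (2, 79, true), (1, 88, true), (0, 11, true), (1, 7, true), (3, 55, true), (2, 69, true), (1, 75, true), (0, 89, true), (3, 68, true), (2, 74, true), (1, 88, true), (4, 5, true), (3, 74, true), (2, 88, true), (1, 11, true), (4, 37, true), (3, 62, true), (2, 75, true), (1, 89, true), (0, 12, true), (2, 61, true), (1, 74, true), (0, 88, true), (3, 60, true), (2, 75, true), (1, 89, true), (0, 90, true), (3, 73, true), (2, 89, true), (1, 90, true), (0, 12, true), (1, 10, true), (2, 58, true), (1, 71, true), (0, 90, true), (1, 11, true), (3, 4, true), (3, 2, true), (2, 74, true), (1, 83, true),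 (3, 73, true), (2, 84, true), (1, 90, true), (0, 12, true), (1, 82, true), (3, 71, true), (2, 84, true), (1, 89, true), (0, 90, true), (3, 83, true), (2, 88, true), (1, 11, true), (2, 8, true), (1, 89, true), (0, 12, true), (1, 70, true), (0, 88, true), (4, 1, true), (3, 75, true), (2, 80, true), (1, 89, true), (0, 90, true), (4, 74, true), (3, 79, true), (2, 88, true), (1, 11, true), (3, 73, true), (2, 80, true), (1, 89, true), (0, 12, true), (1, 78, true), (0, 10, true), (1, 70, true), (0, 79, true), (1, 7, true), (1, 6, true), (0, 11, true)])]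

/-- A conjugation. -/
def twoSuzFus2 : Schur.Tails.Fus where
  xs := [[11, 10, 6, 3, 0], [6, 3, 0], [11, 9, 7, 6, 1, 0], [12, 8, 7, 2, 1, 0]]
  ys := [[12, 11, 10, 8, 7, 2, 1, 0], [6, 3, 0], [11, 9, 7, 6, 1, 0], [12, 8, 7, 2, 1, 0]]
  rels := [
    ([0, 0], [], [(4, 23, true), (3, 53, true), (2, 74, true), (1, 88, true), (0, 11, true), (3, 22, true), (2, 54, true), (1, 75, true), (0, 89, true), (3, 53, true), (2, 74, true), (1, 88, true), (4, 52, true), (3, 74, true), (2, 88, true), (1, 11, true), (2, 73, true), (1, 89, true), (0, 12, true), (0, 10, true), (2, 18, true), (1, 54, true), (0, 75, true), (2, 50, true), (1, 75, true), (0, 12, true), (0, 74, true), (1, 73, true), (0, 90, true), (3, 71, true), (2, 89, true), (1, 90, true), (0, 12, true), (1, 88, true), (0, 11, true), (3, 49, true), (2, 75, true), (1, 84, true), (0, 89, true), (3, 74, true), (2, 83, true), (1, 88, true), (4, 70, true), (3, 83, true), (2, 88, true), (1, 11, true), (5, 48, true), (4, 74, true), (3, 79, true), (2, 83, true), (1, 88, true), (5, 73, true), (4, 80, true), (3, 84, true), (2, 89, true), (1, 90, true),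 (0, 12, true), (3, 78, true), (2, 82, true), (1, 10, true), (3, 72, true), (2, 80, true), (1, 84, true), (0, 90, true), (3, 79, true), (2, 83, true), (1, 11, true), (2, 77, true), (1, 81, true), (0, 12, true), (3, 71, true), (2, 80, true), (1, 84, true), (0, 87, true), (3, 79, true), (2, 83, true), (1, 86, true), (4, 76, true), (3, 8, true), (2, 87, true), (1, 90, true), (0, 12, true), (3, 6, true), (2, 79, true), (1, 86, true), (0, 11, true), (3, 15, true), (2, 54, true), (1, 80, true), (0, 87, true), (3, 52, true), (2, 79, true), (1, 86, true), (3, 78, true), (2, 85, true), (5, 48, true), (4, 79, true), (3, 86, true), (2, 88, true), (1, 11, true), (3, 78, true), (2, 85, true), (1, 10, true), (2, 77, true), (1, 9, true), (0, 12, true), (0, 76, true), (3, 46, true), (2, 73, true), (1, 80, true), (0, 84, true), (2, 78, true), (1, 82, true), (4, 72, true), (3, 80, true), (2, 84, true), (1, 89, true), (0, 12, true), (2, 79, true), (1, 83, true), (0, 88, true), (3, 77, true), (2, 81, true), (1, 89, true), (0, 90, true), (6, 71, true), (5, 80, true), (4, 84, true), (3, 87, true), (2, 89, true),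 (1, 90, true), (0, 12, true), (4, 79, true), (3, 83, true), (2, 86, true), (1, 88, true), (0, 11, true), (3, 76, true), (2, 8, true), (1, 87, true), (0, 89, true), (4, 70, true), (3, 79, true), (2, 86, true), (1, 88, true), (4, 7, true), (6, 3, true), (5, 62, true), (4, 75, true), (3, 87, true), (2, 89, true), (1, 90, true), (0, 12, true), (4, 61, true), (3, 74, true), (2, 86, true), (1, 88, true), (0, 11, true), (3, 60, true), (2, 75, true), (1, 87, true), (0, 89, true), (3, 73, true), (2, 87, true), (1, 89, true), (0, 12, true), (1, 85, true), (0, 10, true), (2, 59, true), (1, 74, true), (0, 86, true), (2, 72, true), (1, 87, true), (0, 90, true), (2, 86, true), (1, 11, true), (1, 9, true), (0, 12, true), (1, 58, true), (0, 71, true), (4, 55, true), (3, 75, true), (2, 84, true), (1, 90, true), (0, 12, true), (2, 74, true), (1, 83, true), (0, 11, true), (4, 0, true), (3, 61, true), (2, 68, true), (1, 74, true), (0, 83, true), (4, 58, true), (3, 65, true), (2, 75, true), (1, 84, true), (0, 90, true), (3, 74, true), (2, 83, true), (1, 11, true), (2, 71, true), (1, 84, true), (0, 12, true),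 (0, 83, true), (1, 8, true), (0, 90, true), (4, 56, true), (3, 68, true), (2, 74, true), (1, 11, true), (2, 63, true), (1, 74, true), (2, 6, true), (1, 11, true), (2, 55, true), (1, 69, true), (0, 12, true), (0, 68, true), (1, 5, true), (0, 11, true), (0, 4, true)], [(7, 24, true), (6, 35, true), (5, 45, true), (4, 80, true), (3, 84, true), (2, 89, true), (1, 90, true), (0, 12, true), (6, 23, true), (5, 34, true), (4, 45, true), (3, 80, true), (2, 84, true), (1, 89, true), (0, 90, true), (5, 44, true), (4, 79, true), (3, 83, true), (2, 88, true), (1, 11, true), (6, 22, true), (5, 35, true), (4, 45, true), (3, 80, true), (2, 84, true), (1, 89, true), (0, 12, true), (4, 34, true), (3, 45, true), (2, 80, true), (1, 84, true), (0, 89, true), (4, 44, true), (3, 79, true), (2, 83, true), (1, 88, true), (6, 33, true), (5, 44, true), (4, 79, true), (3, 83, true), (2, 88, true), (1, 11, true), (4, 43, true), (3, 80, true), (2, 84, true), (1, 89, true), (0, 12, true), (2, 78, true), (1, 82, true), (0, 10, true), (4, 20, true), (3, 35, true), (2, 45, true), (1, 80, true), (0, 84, true), (4, 34, true),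 (3, 45, true), (2, 80, true), (1, 84, true), (0, 12, true), (2, 44, true), (1, 79, true), (0, 83, true), (4, 31, true), (3, 44, true), (2, 79, true), (1, 83, true), (0, 11, true), (2, 43, true), (1, 80, true), (0, 84, true), (2, 78, true), (1, 82, true), (4, 41, true), (3, 80, true), (2, 84, true), (1, 89, true), (0, 12, true), (2, 79, true), (1, 83, true), (0, 88, true), (3, 76, true), (2, 8, true), (1, 89, true), (0, 90, true), (6, 19, true), (5, 35, true), (4, 45, true), (3, 80, true), (2, 89, true), (1, 90, true), (0, 12, true), (4, 30, true), (3, 45, true), (2, 80, true), (1, 89, true), (0, 90, true), (4, 43, true), (3, 80, true), (2, 89, true), (1, 90, true), (0, 12, true), (2, 78, true), (1, 10, true), (2, 40, true), (1, 79, true), (0, 11, true), (0, 7, true), (2, 14, true), (1, 33, true), (0, 44, true), (1, 43, true), (0, 90, true), (4, 30, true), (3, 45, true), (2, 89, true), (1, 90, true), (0, 12, true), (2, 43, true), (1, 89, true), (0, 90, true), (2, 10, true), (2, 40, true), (1, 11, true), (3, 29, true), (2, 44, true), (1, 79, true), (3, 43, true), (2, 80, true), (1, 90, true),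 (0, 12, true), (1, 78, true), (3, 39, true), (2, 79, true), (1, 88, true), (0, 11, true), (1, 76, true), (2, 7, true), (4, 28, true), (3, 45, true), (2, 75, true), (1, 84, true), (0, 89, true), (4, 44, true), (3, 74, true), (2, 83, true), (1, 88, true), (5, 43, true), (4, 75, true), (3, 84, true), (2, 89, true), (1, 90, true), (0, 12, true), (3, 73, true), (2, 84, true), (1, 89, true), (0, 90, true), (3, 82, true), (2, 10, true), (4, 42, true), (3, 75, true), (2, 84, true), (1, 90, true), (0, 12, true), (2, 73, true), (1, 84, true), (0, 90, true), (2, 82, true), (4, 72, true), (3, 84, true), (2, 89, true), (1, 90, true), (0, 12, true), (2, 83, true), (1, 88, true), (0, 11, true), (1, 81, true), (0, 89, true), (5, 41, true), (4, 75, true), (3, 84, true), (2, 87, true), (1, 89, true), (0, 12, true), (3, 74, true), (2, 83, true), (1, 86, true), (0, 88, true), (4, 71, true), (3, 84, true), (2, 87, true), (1, 89, true), (0, 90, true), (4, 83, true), (3, 86, true), (2, 88, true), (1, 11, true), (3, 8, true), (2, 87, true), (1, 89, true), (0, 12, true), (3, 38, true), (2, 75, true), (1, 87, true),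 (0, 89, true), (3, 74, true), (2, 86, true), (1, 88, true), (4, 73, true), (3, 87, true), (2, 89, true), (1, 90, true), (0, 12, true), (2, 85, true), (1, 10, true), (2, 70, true), (1, 86, true), (0, 11, true), (5, 27, true), (4, 44, true), (3, 68, true), (2, 74, true), (1, 79, true), (0, 86, true), (5, 43, true), (4, 69, true), (3, 75, true), (2, 80, true), (1, 87, true), (0, 90, true), (5, 67, true), (4, 73, true), (3, 80, true), (2, 87, true), (1, 90, true), (0, 12, true), (2, 78, true), (1, 85, true), (6, 42, true), (5, 69, true), (4, 75, true), (3, 80, true), (2, 87, true), (1, 89, true), (0, 90, true), (6, 67, true), (5, 73, true), (4, 80, true), (3, 87, true), (2, 89, true), (1, 90, true), (0, 12, true), (3, 78, true), (2, 85, true), (1, 10, true), (4, 66, true), (3, 75, true), (2, 80, true), (1, 87, true), (0, 90, true), (4, 74, true), (3, 79, true), (2, 86, true), (1, 11, true), (3, 72, true), (2, 80, true), (1, 87, true), (0, 12, true), (1, 79, true), (0, 86, true), (2, 77, true), (1, 9, true), (0, 90, true), (5, 40, true), (4, 68, true), (3, 74, true), (2, 79, true), (1, 11, true),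 (3, 64, true), (2, 70, true), (1, 79, true), (2, 7, true), (4, 37, true), (3, 69, true), (2, 75, true), (1, 90, true), (0, 12, true), (2, 68, true), (1, 74, true), (0, 11, true), (1, 67, true), (0, 73, true), (3, 65, true), (2, 75, true), (1, 89, true), (0, 12, true), (1, 74, true), (0, 88, true), (2, 71, true), (1, 89, true), (0, 90, true), (2, 88, true), (1, 11, true), (7, 25, true), (6, 45, true), (5, 62, true), (4, 69, true), (3, 75, true), (2, 84, true), (1, 89, true), (0, 12, true), (5, 44, true), (4, 61, true), (3, 68, true), (2, 74, true), (1, 83, true), (0, 88, true), (6, 41, true), (5, 62, true), (4, 69, true), (3, 75, true), (2, 84, true), (1, 89, true), (0, 90, true), (6, 61, true), (5, 68, true), (4, 74, true), (3, 83, true), (2, 88, true), (1, 11, true), (5, 58, true), (4, 65, true), (3, 75, true), (2, 84, true), (1, 89, true), (0, 12, true), (2, 74, true), (1, 83, true), (0, 88, true), (3, 71, true), (2, 84, true), (1, 89, true), (0, 90, true), (3, 83, true), (2, 88, true), (1, 11, true), (2, 8, true), (1, 89, true), (0, 12, true), (4, 39, true), (3, 61, true), (2, 68, true),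 (1, 74, true), (0, 88, true), (4, 58, true), (3, 65, true), (2, 75, true), (1, 89, true), (0, 90, true), (3, 74, true), (2, 88, true), (1, 11, true), (2, 71, true), (1, 89, true), (0, 12, true), (0, 88, true), (5, 57, true), (4, 68, true), (3, 74, true), (2, 83, true), (1, 88, true), (0, 11, true), (3, 64, true), (2, 70, true), (1, 83, true), (0, 88, true), (6, 56, true), (5, 68, true), (4, 74, true), (3, 79, true), (2, 83, true), (1, 88, true), (0, 11, true), (4, 63, true), (3, 74, true), (2, 79, true), (1, 83, true), (0, 88, true), (4, 6, true), (3, 79, true), (2, 83, true), (1, 88, true), (0, 11, true), (5, 38, true), (4, 62, true), (3, 69, true), (2, 80, true), (1, 84, true), (0, 89, true), (5, 61, true), (4, 68, true), (3, 79, true), (2, 83, true), (1, 88, true), (6, 60, true), (5, 69, true), (4, 80, true), (3, 84, true), (2, 89, true), (1, 90, true), (0, 12, true), (4, 67, true), (3, 78, true), (2, 82, true), (1, 10, true), (4, 57, true), (3, 68, true), (2, 79, true), (1, 83, true), (0, 11, true), (2, 64, true), (1, 7, true), (2, 55, true), (1, 69, true), (0, 84, true), (2, 68, true),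 (1, 83, true), (3, 5, true), (2, 83, true), (1, 11, true), (3, 37, true), (2, 62, true), (1, 84, true), (0, 12, true), (1, 61, true), (0, 83, true), (2, 60, true), (1, 84, true), (0, 90, true), (2, 82, true), (4, 58, true), (3, 8, true), (2, 89, true), (1, 90, true), (0, 12, true), (2, 4, true), (2, 2, true), (1, 88, true), (0, 11, true), (0, 10, true), (3, 13, true), (2, 35, true), (1, 80, true), (0, 84, true), (3, 34, true), (2, 80, true), (1, 84, true), (0, 12, true), (1, 79, true), (0, 83, true), (3, 33, true), (2, 79, true), (1, 83, true), (0, 11, true), (1, 78, true), (0, 82, true), (3, 31, true), (2, 79, true), (1, 83, true), (0, 88, true), (3, 78, true), (2, 82, true), (1, 10, true), (2, 76, true), (1, 8, true), (0, 90, true), (3, 30, true), (2, 80, true), (1, 90, true), (0, 12, true), (1, 78, true), (2, 7, true), (2, 28, true), (1, 89, true), (0, 90, true), (2, 88, true), (1, 11, true), (1, 10, true), (4, 27, true), (3, 68, true), (2, 83, true), (1, 86, true), (4, 67, true), (3, 82, true), (2, 85, true), (5, 66, true), (4, 84, true), (3, 87, true), (2, 89, true), (1, 90, true),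 (0, 12, true), (3, 83, true), (2, 86, true), (1, 88, true), (0, 11, true), (2, 81, true), (1, 87, true), (0, 89, true), (2, 9, true), (1, 89, true), (0, 12, true), (2, 64, true), (5, 1, true), (4, 62, true), (3, 69, true), (2, 80, true), (1, 84, true), (0, 89, true), (5, 61, true), (4, 68, true), (3, 79, true), (2, 83, true), (1, 88, true), (6, 60, true), (5, 69, true), (4, 80, true), (3, 84, true), (2, 89, true), (1, 90, true), (0, 12, true), (4, 67, true), (3, 78, true), (2, 82, true), (1, 10, true), (4, 57, true), (3, 68, true), (2, 79, true), (1, 83, true), (0, 11, true), (2, 64, true), (1, 7, true), (2, 56, true), (1, 68, true), (0, 83, true), (2, 63, true), (1, 83, true), (0, 11, true), (4, 0, true), (3, 61, true), (2, 68, true), (1, 74, true), (0, 83, true), (4, 58, true), (3, 65, true), (2, 75, true), (1, 84, true), (0, 90, true), (3, 74, true), (2, 83, true), (1, 11, true), (2, 71, true), (1, 84, true), (0, 12, true), (0, 83, true), (1, 8, true), (0, 90, true), (4, 56, true), (3, 68, true), (2, 74, true), (1, 11, true), (2, 63, true), (1, 74, true), (2, 6, true), (1, 11, true),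 (2, 55, true), (1, 69, true), (0, 12, true), (0, 68, true), (1, 5, true), (0, 11, true), (0, 4, true)]),
    ([0, 1], [1, 0], [(4, 18, true), (3, 54, true), (2, 75, true), (1, 89, true), (0, 90, true), (4, 50, true), (3, 75, true), (2, 89, true), (1, 90, true), (0, 12, true), (2, 74, true), (1, 88, true), (0, 11, true), (1, 73, true), (0, 89, true), (1, 10, true), (1, 71, true), (0, 12, true), (3, 49, true), (2, 75, true), (1, 84, true), (0, 90, true), (3, 74, true), (2, 83, true), (1, 11, true), (2, 70, true), (1, 83, true), (5, 48, true), (4, 74, true), (3, 79, true), (2, 83, true), (1, 11, true), (3, 73, true), (2, 80, true), (1, 84, true), (0, 12, true), (1, 78, true), (0, 82, true), (3, 72, true), (2, 80, true), (1, 84, true), (0, 89, true), (3, 79, true), (2, 83, true), (1, 88, true), (4, 77, true), (3, 81, true), (2, 89, true), (1, 90, true), (0, 12, true), (5, 71, true), (4, 80, true), (3, 84, true), (2, 87, true), (1, 89, true), (0, 90, true), (5, 79, true), (4, 83, true), (3, 86, true), (2, 88, true), (1, 11, true), (4, 76, true), (3, 8, true), (2, 87, true), (1, 89, true), (0,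 12, true), (3, 6, true), (2, 79, true), (1, 86, true), (0, 88, true), (5, 15, true), (4, 54, true), (3, 80, true), (2, 87, true), (1, 89, true), (0, 90, true), (5, 52, true), (4, 79, true), (3, 86, true), (2, 88, true), (1, 11, true), (3, 78, true), (2, 85, true), (1, 10, true), (3, 48, true), (2, 79, true), (1, 86, true), (3, 78, true), (2, 85, true), (4, 77, true), (3, 9, true), (2, 89, true), (1, 90, true), (0, 12, true), (2, 76, true), (5, 46, true), (4, 73, true), (3, 80, true), (2, 84, true), (1, 89, true), (0, 90, true), (4, 78, true), (3, 82, true), (2, 10, true), (4, 72, true), (3, 80, true), (2, 84, true), (1, 90, true), (0, 12, true), (2, 79, true), (1, 83, true), (0, 11, true), (1, 77, true), (0, 81, true), (4, 71, true), (3, 80, true), (2, 84, true), (1, 87, true), (0, 12, true), (2, 79, true), (1, 83, true), (0, 86, true), (3, 76, true), (2, 8, true), (1, 87, true), (0, 90, true), (4, 70, true), (3, 79, true), (2, 86, true), (1, 11, true), (2, 7, true), (4, 3, true), (3, 62, true), (2, 75, true), (1, 87, true), (0, 12, true), (2, 61, true), (1, 74, true), (0, 86, true), (3,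 60, true), (2, 75, true), (1, 87, true), (0, 90, true), (3, 73, true), (2, 87, true), (1, 90, true), (0, 12, true), (1, 85, true), (4, 59, true), (3, 74, true), (2, 86, true), (1, 88, true), (0, 11, true), (2, 72, true), (1, 87, true), (0, 89, true), (2, 86, true), (1, 88, true), (3, 9, true), (2, 89, true), (1, 90, true), (0, 12, true), (3, 58, true), (2, 71, true), (1, 89, true), (0, 90, true), (2, 88, true), (1, 11, true), (4, 55, true), (3, 75, true), (2, 84, true), (1, 89, true), (0, 12, true), (2, 74, true), (1, 83, true), (0, 88, true), (6, 0, true), (5, 61, true), (4, 68, true), (3, 74, true), (2, 83, true), (1, 88, true), (0, 11, true), (4, 58, true), (3, 65, true), (2, 75, true), (1, 84, true), (0, 89, true), (3, 74, true), (2, 83, true), (1, 88, true), (4, 71, true), (3, 84, true), (2, 89, true), (1, 90, true), (0, 12, true), (2, 83, true), (1, 88, true), (0, 11, true), (1, 8, true), (0, 89, true), (4, 56, true), (3, 68, true), (2, 74, true), (1, 88, true), (4, 63, true), (3, 74, true), (2, 88, true), (1, 11, true), (2, 6, true), (1, 88, true), (4, 55, true), (3, 69, true), (2,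 89, true), (1, 90, true), (0, 12, true), (2, 68, true), (1, 88, true), (0, 11, true), (1, 5, true), (0, 88, true), (2, 4, true), (2, 4, false), (0, 88, false), (1, 5, false), (0, 11, false), (1, 88, false), (2, 68, false), (0, 12, false), (1, 90, false), (2, 89, false), (3, 69, false), (4, 55, false), (1, 88, false), (2, 6, false), (1, 11, false), (2, 88, false), (3, 74, false), (4, 63, false), (1, 88, false), (2, 74, false), (3, 68, false), (4, 56, false), (0, 89, false), (1, 8, false), (0, 11, false), (1, 88, false), (2, 83, false), (0, 12, false), (1, 90, false), (2, 89, false), (3, 84, false), (4, 71, false), (1, 88, false), (2, 83, false), (3, 74, false), (0, 89, false), (1, 84, false), (2, 75, false), (3, 65, false), (4, 58, false), (0, 11, false), (1, 88, false), (2, 83, false), (3, 74, false), (4, 68, false), (5, 61, false), (6, 0, false), (0, 88, false), (1, 83, false), (2, 74, false), (0, 12, false), (1, 89, false), (2, 84, false), (3, 75, false), (4, 55, false), (1, 11, false), (2, 88, false), (0, 90, false), (1, 89, false), (2, 71, false), (3, 58, false), (0, 12, false), (1,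 90, false), (2, 89, false), (3, 9, false), (1, 88, false), (2, 86, false), (0, 89, false), (1, 87, false), (2, 72, false), (0, 11, false), (1, 88, false), (2, 86, false), (3, 74, false), (4, 59, false), (1, 85, false), (0, 12, false), (1, 90, false), (2, 87, false), (3, 73, false), (0, 90, false), (1, 87, false), (2, 75, false), (3, 60, false), (0, 86, false), (1, 74, false), (2, 61, false), (0, 12, false), (1, 87, false), (2, 75, false), (3, 62, false), (4, 3, false), (2, 7, false), (1, 11, false), (2, 86, false), (3, 79, false), (4, 70, false), (0, 90, false), (1, 87, false), (2, 8, false), (3, 76, false), (0, 86, false), (1, 83, false), (2, 79, false), (0, 12, false), (1, 87, false), (2, 84, false), (3, 80, false), (4, 71, false), (0, 81, false), (1, 77, false), (0, 11, false), (1, 83, false), (2, 79, false), (0, 12, false), (1, 90, false), (2, 84, false), (3, 80, false), (4, 72, false), (2, 10, false), (3, 82, false), (4, 78, false), (0, 90, false), (1, 89, false), (2, 84, false), (3, 80, false), (4, 73, false), (5, 46, false), (2, 76, false), (0, 12, false), (1, 90, false), (2, 89,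 false), (3, 9, false), (4, 77, false), (2, 85, false), (3, 78, false), (1, 86, false), (2, 79, false), (3, 48, false), (1, 10, false), (2, 85, false), (3, 78, false), (1, 11, false), (2, 88, false), (3, 86, false), (4, 79, false), (5, 52, false), (0, 90, false), (1, 89, false), (2, 87, false), (3, 80, false), (4, 54, false), (5, 15, false), (0, 88, false), (1, 86, false), (2, 79, false), (3, 6, false), (0, 12, false), (1, 89, false), (2, 87, false), (3, 8, false), (4, 76, false), (1, 11, false), (2, 88, false), (3, 86, false), (4, 83, false), (5, 79, false), (0, 90, false), (1, 89, false), (2, 87, false), (3, 84, false), (4, 80, false), (5, 71, false), (0, 12, false), (1, 90, false), (2, 89, false), (3, 81, false), (4, 77, false), (1, 88, false), (2, 83, false), (3, 79, false), (0, 89, false), (1, 84, false), (2, 80, false), (3, 72, false), (0, 82, false), (1, 78, false), (0, 12, false), (1, 84, false), (2, 80, false), (3, 73, false), (1, 11, false), (2, 83, false), (3, 79, false), (4, 74, false), (5, 48, false), (1, 83, false), (2, 70, false), (1, 11, false), (2, 83, false), (3, 74, false),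 (0, 90, false), (1, 84, false), (2, 75, false), (3, 49, false), (0, 12, false), (1, 71, false), (1, 10, false), (0, 89, false), (1, 73, false), (0, 11, false), (1, 88, false), (2, 74, false), (0, 12, false), (1, 90, false), (2, 89, false), (3, 75, false), (4, 50, false), (0, 90, false), (1, 89, false), (2, 75, false), (3, 54, false), (4, 18, false), (0, 12, false), (1, 90, false), (2, 73, false), (1, 74, false), (2, 52, false), (1, 11, false), (2, 74, false), (3, 53, false), (0, 90, false), (1, 75, false), (2, 54, false), (3, 22, false), (0, 74, false), (1, 53, false), (2, 23, false)], [(7, 18, true), (6, 35, true), (5, 45, true), (4, 80, true), (3, 84, true), (2, 89, true), (1, 90, true), (0, 12, true), (5, 31, true), (4, 44, true), (3, 79, true), (2, 83, true), (1, 88, true), (0, 11, true), (3, 43, true), (2, 80, true), (1, 84, true), (0, 89, true), (3, 78, true), (2, 82, true), (1, 10, true), (3, 41, true), (2, 80, true), (1, 84, true), (0, 12, true), (1, 79, true), (0, 83, true), (2, 76, true), (1, 8, true), (0, 90, true), (4, 30, true), (3, 45, true), (2, 80, true), (1, 90, true), (0,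 12, true), (2, 43, true), (1, 80, true), (0, 90, true), (2, 78, true), (4, 40, true), (3, 79, true), (2, 88, true), (1, 11, true), (2, 7, true), (3, 29, true), (2, 44, true), (1, 88, true), (3, 43, true), (2, 89, true), (1, 90, true), (0, 12, true), (1, 10, true), (1, 39, true), (0, 11, true), (5, 15, true), (4, 35, true), (3, 45, true), (2, 75, true), (1, 80, true), (0, 84, true), (5, 33, true), (4, 44, true), (3, 74, true), (2, 79, true), (1, 83, true), (5, 43, true), (4, 75, true), (3, 80, true), (2, 84, true), (1, 90, true), (0, 12, true), (3, 73, true), (2, 80, true), (1, 84, true), (0, 90, true), (3, 78, true), (2, 82, true), (7, 29, true), (6, 44, true), (5, 74, true), (4, 79, true), (3, 83, true), (2, 88, true), (1, 11, true), (5, 43, true), (4, 75, true), (3, 80, true), (2, 84, true), (1, 89, true), (0, 12, true), (3, 73, true), (2, 80, true), (1, 84, true), (0, 89, true), (3, 78, true), (2, 82, true), (1, 10, true), (4, 39, true), (3, 74, true), (2, 79, true), (1, 83, true), (4, 71, true), (3, 80, true), (2, 84, true), (1, 90, true), (0, 12, true), (2, 79, true), (1, 83, true),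 (0, 11, true), (1, 76, true), (0, 8, true), (2, 70, true), (1, 79, true), (2, 7, true), (2, 6, true), (1, 11, true), (2, 27, true), (1, 44, true), (2, 43, true), (1, 90, true), (0, 12, true), (2, 42, true), (1, 89, true), (0, 90, true), (2, 10, true), (3, 40, true), (2, 86, true), (1, 11, true), (3, 37, true), (2, 80, true), (1, 87, true), (0, 12, true), (1, 79, true), (0, 86, true), (2, 78, true), (1, 85, true), (3, 76, true), (7, 26, true), (6, 45, true), (5, 62, true), (4, 80, true), (3, 84, true), (2, 87, true), (1, 89, true), (0, 90, true), (7, 44, true), (6, 61, true), (5, 79, true), (4, 83, true), (3, 86, true), (2, 88, true), (1, 11, true), (6, 43, true), (5, 62, true), (4, 80, true), (3, 84, true), (2, 87, true), (1, 89, true), (0, 12, true), (4, 60, true), (3, 80, true), (2, 84, true), (1, 87, true), (0, 89, true), (4, 78, true), (3, 82, true), (2, 85, true), (1, 10, true), (5, 42, true), (4, 62, true), (3, 80, true), (2, 84, true), (1, 87, true), (0, 12, true), (3, 60, true), (2, 80, true), (1, 84, true), (0, 87, true), (3, 78, true), (2, 82, true), (1, 85, true), (5, 59, true),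 (4, 79, true), (3, 83, true), (2, 86, true), (1, 88, true), (5, 77, true), (4, 81, true), (3, 87, true), (2, 89, true), (1, 90, true), (0, 12, true), (2, 9, true), (1, 89, true), (0, 90, true), (6, 41, true), (5, 62, true), (4, 80, true), (3, 84, true), (2, 89, true), (1, 90, true), (0, 12, true), (4, 61, true), (3, 79, true), (2, 83, true), (1, 88, true), (0, 11, true), (3, 58, true), (2, 76, true), (1, 8, true), (0, 89, true), (4, 40, true), (3, 61, true), (2, 79, true), (1, 88, true), (4, 57, true), (3, 79, true), (2, 88, true), (1, 11, true), (2, 7, true), (3, 39, true), (2, 61, true), (1, 88, true), (3, 58, true), (4, 57, true), (3, 83, true), (2, 88, true), (1, 11, true), (4, 56, true), (3, 79, true), (2, 83, true), (1, 88, true), (7, 38, true), (6, 62, true), (5, 75, true), (4, 80, true), (3, 84, true), (2, 89, true), (1, 90, true), (0, 12, true), (5, 61, true), (4, 74, true), (3, 79, true), (2, 83, true), (1, 88, true), (0, 11, true), (4, 60, true), (3, 75, true), (2, 80, true), (1, 84, true), (0, 89, true), (4, 73, true), (3, 80, true), (2, 84, true), (1, 89, true), (0, 12, true),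 (2, 78, true), (1, 82, true), (0, 10, true), (3, 57, true), (2, 74, true), (1, 79, true), (0, 83, true), (3, 70, true), (2, 79, true), (1, 83, true), (0, 11, true), (1, 7, true), (2, 55, true), (1, 75, true), (0, 84, true), (2, 74, true), (1, 83, true), (6, 36, true), (5, 62, true), (4, 69, true), (3, 75, true), (2, 84, true), (1, 90, true), (0, 12, true), (4, 61, true), (3, 68, true), (2, 74, true), (1, 83, true), (0, 11, true), (3, 60, true), (2, 69, true), (1, 75, true), (0, 84, true), (3, 67, true), (2, 73, true), (1, 84, true), (0, 12, true), (0, 82, true), (4, 59, true), (3, 68, true), (2, 74, true), (1, 83, true), (0, 88, true), (4, 66, true), (3, 75, true), (2, 84, true), (1, 89, true), (0, 90, true), (4, 74, true), (3, 83, true), (2, 88, true), (1, 11, true), (3, 72, true), (2, 84, true), (1, 89, true), (0, 12, true), (1, 83, true), (0, 88, true), (2, 81, true), (1, 89, true), (0, 90, true), (7, 58, true), (6, 65, true), (5, 75, true), (4, 84, true), (3, 87, true), (2, 89, true), (1, 90, true), (0, 12, true), (4, 74, true), (3, 83, true), (2, 86, true), (1, 88, true), (0, 11, true),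 (3, 71, true), (2, 84, true), (1, 87, true), (0, 89, true), (3, 83, true), (2, 86, true), (1, 88, true), (4, 8, true), (3, 87, true), (2, 89, true), (1, 90, true), (0, 12, true), (5, 56, true), (4, 68, true), (3, 74, true), (2, 86, true), (1, 88, true), (0, 11, true), (3, 63, true), (2, 74, true), (1, 86, true), (0, 88, true), (3, 6, true), (2, 86, true), (1, 88, true), (0, 11, true), (3, 55, true), (2, 69, true), (1, 87, true), (0, 89, true), (3, 68, true), (2, 86, true), (1, 88, true), (4, 5, true), (3, 86, true), (2, 88, true), (1, 11, true), (3, 4, true), (6, 0, true), (5, 34, true), (4, 45, true), (3, 54, true), (2, 87, true), (1, 89, true), (0, 12, true), (3, 44, true), (2, 53, true), (1, 86, true), (0, 88, true), (5, 31, true), (4, 44, true), (3, 53, true), (2, 86, true), (1, 88, true), (0, 11, true), (3, 43, true), (2, 54, true), (1, 87, true), (0, 89, true), (3, 52, true), (2, 86, true), (1, 88, true), (3, 85, true), (2, 10, true), (4, 41, true), (3, 54, true), (2, 87, true), (1, 90, true), (0, 12, true), (2, 53, true), (1, 86, true), (0, 11, true), (1, 50, true), (0, 87, true),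 (1, 86, true), (2, 85, true), (7, 29, true), (6, 44, true), (5, 53, true), (4, 83, true), (3, 86, true), (2, 88, true), (1, 11, true), (5, 43, true), (4, 54, true), (3, 84, true), (2, 87, true), (1, 89, true), (0, 12, true), (3, 52, true), (2, 83, true), (1, 86, true), (0, 88, true), (3, 82, true), (2, 85, true), (1, 10, true), (4, 39, true), (3, 53, true), (2, 83, true), (1, 86, true), (0, 11, true), (2, 50, true), (1, 84, true), (0, 87, true), (2, 83, true), (1, 86, true), (3, 82, true), (2, 85, true), (4, 8, true), (3, 87, true), (2, 89, true), (1, 90, true), (0, 12, true), (3, 49, true), (2, 87, true), (1, 89, true), (0, 90, true), (3, 86, true), (2, 88, true), (1, 11, true), (4, 48, true), (3, 79, true), (2, 86, true), (1, 88, true), (4, 78, true), (3, 85, true), (2, 10, true), (3, 77, true), (2, 9, true), (1, 90, true), (0, 12, true), (1, 76, true), (6, 28, true), (5, 45, true), (4, 54, true), (3, 75, true), (2, 80, true), (1, 84, true), (0, 90, true), (6, 44, true), (5, 53, true), (4, 74, true), (3, 79, true), (2, 83, true), (1, 11, true), (5, 43, true), (4, 54, true), (3, 75, true),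 (2, 80, true), (1, 84, true), (0, 12, true), (3, 52, true), (2, 74, true), (1, 79, true), (0, 83, true), (3, 73, true), (2, 80, true), (1, 84, true), (0, 90, true), (3, 78, true), (2, 82, true), (7, 42, true), (6, 54, true), (5, 75, true), (4, 80, true), (3, 84, true), (2, 89, true), (1, 90, true), (0, 12, true), (5, 52, true), (4, 74, true), (3, 79, true), (2, 83, true), (1, 88, true), (0, 11, true), (3, 73, true), (2, 80, true), (1, 84, true), (0, 89, true), (3, 78, true), (2, 82, true), (1, 10, true), (4, 51, true), (3, 75, true), (2, 80, true), (1, 84, true), (0, 12, true), (2, 74, true), (1, 79, true), (0, 83, true), (3, 73, true), (2, 80, true), (1, 84, true), (0, 90, true), (3, 78, true), (2, 82, true), (5, 72, true), (4, 80, true), (3, 84, true), (2, 89, true), (1, 90, true), (0, 12, true), (3, 79, true), (2, 83, true), (1, 88, true), (0, 11, true), (2, 77, true), (1, 81, true), (0, 89, true), (7, 41, true), (6, 54, true), (5, 75, true), (4, 80, true), (3, 84, true), (2, 87, true), (1, 89, true), (0, 12, true), (5, 53, true), (4, 74, true), (3, 79, true), (2, 83, true), (1, 86, true),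 (0, 88, true), (6, 50, true), (5, 75, true), (4, 80, true), (3, 84, true), (2, 87, true), (1, 89, true), (0, 90, true), (6, 74, true), (5, 79, true), (4, 83, true), (3, 86, true), (2, 88, true), (1, 11, true), (5, 73, true), (4, 80, true), (3, 84, true), (2, 87, true), (1, 89, true), (0, 12, true), (3, 78, true), (2, 82, true), (1, 85, true), (0, 10, true), (3, 71, true), (2, 80, true), (1, 84, true), (0, 87, true), (3, 79, true), (2, 83, true), (1, 86, true), (4, 76, true), (3, 8, true), (2, 87, true), (1, 90, true), (0, 12, true), (5, 38, true), (4, 54, true), (3, 75, true), (2, 80, true), (1, 87, true), (0, 90, true), (5, 53, true), (4, 74, true), (3, 79, true), (2, 86, true), (1, 11, true), (4, 52, true), (3, 74, true), (2, 79, true), (1, 86, true), (4, 73, true), (3, 80, true), (2, 87, true), (1, 90, true), (0, 12, true), (2, 78, true), (1, 85, true), (5, 49, true), (4, 75, true), (3, 80, true), (2, 87, true), (1, 89, true), (0, 90, true), (5, 74, true), (4, 79, true), (3, 86, true), (2, 88, true), (1, 11, true), (4, 70, true), (3, 79, true), (2, 86, true), (1, 88, true), (4, 7, true),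 (5, 47, true), (4, 74, true), (3, 86, true), (2, 88, true), (1, 11, true), (7, 27, true), (6, 44, true), (5, 53, true), (4, 68, true), (3, 74, true), (2, 86, true), (1, 88, true), (7, 43, true), (6, 54, true), (5, 69, true), (4, 75, true), (3, 87, true), (2, 89, true), (1, 90, true), (0, 12, true), (5, 52, true), (4, 68, true), (3, 74, true), (2, 86, true), (1, 88, true), (0, 11, true), (3, 67, true), (2, 73, true), (1, 87, true), (0, 89, true), (2, 85, true), (1, 10, true), (5, 42, true), (4, 54, true), (3, 69, true), (2, 75, true), (1, 87, true), (0, 12, true), (3, 52, true), (2, 68, true), (1, 74, true), (0, 86, true), (3, 67, true), (2, 73, true), (1, 87, true), (0, 90, true), (2, 85, true), (6, 51, true), (5, 69, true), (4, 75, true), (3, 87, true), (2, 89, true), (1, 90, true), (0, 12, true), (4, 68, true), (3, 74, true), (2, 86, true), (1, 88, true), (0, 11, true), (3, 67, true), (2, 73, true), (1, 87, true), (0, 89, true), (2, 85, true), (1, 10, true), (3, 66, true), (2, 75, true), (1, 87, true), (0, 12, true), (1, 74, true), (0, 86, true), (2, 72, true), (1, 87, true), (0, 90, true),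 (2, 86, true), (1, 11, true), (1, 9, true), (0, 12, true), (3, 40, true), (2, 53, true), (1, 68, true), (0, 74, true), (3, 49, true), (2, 69, true), (1, 75, true), (0, 90, true), (3, 68, true), (2, 74, true), (1, 11, true), (2, 64, true), (1, 70, true), (6, 37, true), (5, 54, true), (4, 69, true), (3, 75, true), (2, 80, true), (1, 90, true), (0, 12, true), (4, 53, true), (3, 68, true), (2, 74, true), (1, 79, true), (0, 11, true), (3, 52, true), (2, 68, true), (1, 74, true), (0, 79, true), (3, 67, true), (2, 73, true), (1, 80, true), (0, 90, true), (2, 78, true), (6, 50, true), (5, 69, true), (4, 75, true), (3, 80, true), (2, 89, true), (1, 90, true), (0, 12, true), (4, 68, true), (3, 74, true), (2, 79, true), (1, 88, true), (0, 11, true), (3, 67, true), (2, 73, true), (1, 80, true), (0, 89, true), (2, 78, true), (1, 10, true), (3, 65, true), (2, 75, true), (1, 80, true), (0, 12, true), (1, 74, true), (0, 79, true), (2, 71, true), (1, 80, true), (0, 90, true), (2, 79, true), (1, 11, true), (1, 76, true), (5, 46, true), (4, 67, true), (3, 73, true), (2, 80, true), (1, 84, true), (0, 12, true),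 (1, 78, true), (0, 82, true), (4, 66, true), (3, 75, true), (2, 80, true), (1, 84, true), (0, 89, true), (4, 74, true), (3, 79, true), (2, 83, true), (1, 88, true), (5, 72, true), (4, 80, true), (3, 84, true), (2, 89, true), (1, 90, true), (0, 12, true), (3, 79, true), (2, 83, true), (1, 88, true), (0, 11, true), (2, 77, true), (1, 81, true), (0, 89, true), (6, 65, true), (5, 75, true), (4, 80, true), (3, 84, true), (2, 87, true), (1, 89, true), (0, 12, true), (4, 74, true), (3, 79, true), (2, 83, true), (1, 86, true), (0, 88, true), (5, 71, true), (4, 80, true), (3, 84, true), (2, 87, true), (1, 89, true), (0, 90, true), (5, 79, true), (4, 83, true), (3, 86, true), (2, 88, true), (1, 11, true), (4, 76, true), (3, 8, true), (2, 87, true), (1, 89, true), (0, 12, true), (4, 64, true), (3, 70, true), (2, 79, true), (1, 86, true), (0, 88, true), (3, 7, true), (3, 7, false), (0, 88, false), (1, 86, false), (2, 79, false), (3, 70, false), (4, 64, false), (0, 12, false), (1, 89, false), (2, 87, false), (3, 8, false), (4, 76, false), (1, 11, false), (2, 88, false), (3, 86, false), (4, 83, false),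 (5, 79, false), (0, 90, false), (1, 89, false), (2, 87, false), (3, 84, false), (4, 80, false), (5, 71, false), (0, 88, false), (1, 86, false), (2, 83, false), (3, 79, false), (4, 74, false), (0, 12, false), (1, 89, false), (2, 87, false), (3, 84, false), (4, 80, false), (5, 75, false), (6, 65, false), (0, 89, false), (1, 81, false), (2, 77, false), (0, 11, false), (1, 88, false), (2, 83, false), (3, 79, false), (0, 12, false), (1, 90, false), (2, 89, false), (3, 84, false), (4, 80, false), (5, 72, false), (1, 88, false), (2, 83, false), (3, 79, false), (4, 74, false), (0, 89, false), (1, 84, false), (2, 80, false), (3, 75, false), (4, 66, false), (0, 82, false), (1, 78, false), (0, 12, false), (1, 84, false), (2, 80, false), (3, 73, false), (4, 67, false), (5, 46, false), (1, 76, false), (1, 11, false), (2, 79, false), (0, 90, false), (1, 80, false), (2, 71, false), (0, 79, false), (1, 74, false), (0, 12, false), (1, 80, false), (2, 75, false), (3, 65, false), (1, 10, false), (2, 78, false), (0, 89, false), (1, 80, false), (2, 73, false), (3, 67, false), (0, 11, false), (1, 88, false),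 (2, 79, false), (3, 74, false), (4, 68, false), (0, 12, false), (1, 90, false), (2, 89, false), (3, 80, false), (4, 75, false), (5, 69, false), (6, 50, false), (2, 78, false), (0, 90, false), (1, 80, false), (2, 73, false), (3, 67, false), (0, 79, false), (1, 74, false), (2, 68, false), (3, 52, false), (0, 11, false), (1, 79, false), (2, 74, false), (3, 68, false), (4, 53, false), (0, 12, false), (1, 90, false), (2, 80, false), (3, 75, false), (4, 69, false), (5, 54, false), (6, 37, false), (1, 70, false), (2, 64, false), (1, 11, false), (2, 74, false), (3, 68, false), (0, 90, false), (1, 75, false), (2, 69, false), (3, 49, false), (0, 74, false), (1, 68, false), (2, 53, false), (3, 40, false), (0, 12, false), (1, 9, false), (1, 11, false), (2, 86, false), (0, 90, false), (1, 87, false), (2, 72, false), (0, 86, false), (1, 74, false), (0, 12, false), (1, 87, false), (2, 75, false), (3, 66, false), (1, 10, false), (2, 85, false), (0, 89, false), (1, 87, false), (2, 73, false), (3, 67, false), (0, 11, false), (1, 88, false), (2, 86, false), (3, 74, false), (4, 68, false), (0, 12, false), (1,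 90, false), (2, 89, false), (3, 87, false), (4, 75, false), (5, 69, false), (6, 51, false), (2, 85, false), (0, 90, false), (1, 87, false), (2, 73, false), (3, 67, false), (0, 86, false), (1, 74, false), (2, 68, false), (3, 52, false), (0, 12, false), (1, 87, false), (2, 75, false), (3, 69, false), (4, 54, false), (5, 42, false), (1, 10, false), (2, 85, false), (0, 89, false), (1, 87, false), (2, 73, false), (3, 67, false), (0, 11, false), (1, 88, false), (2, 86, false), (3, 74, false), (4, 68, false), (5, 52, false), (0, 12, false), (1, 90, false), (2, 89, false), (3, 87, false), (4, 75, false), (5, 69, false), (6, 54, false), (7, 43, false), (1, 88, false), (2, 86, false), (3, 74, false), (4, 68, false), (5, 53, false), (6, 44, false), (7, 27, false), (1, 11, false), (2, 88, false), (3, 86, false), (4, 74, false), (5, 47, false), (4, 7, false), (1, 88, false), (2, 86, false), (3, 79, false), (4, 70, false), (1, 11, false), (2, 88, false), (3, 86, false), (4, 79, false), (5, 74, false), (0, 90, false), (1, 89, false), (2, 87, false), (3, 80, false), (4, 75, false), (5, 49, false), (1, 85,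 false), (2, 78, false), (0, 12, false), (1, 90, false), (2, 87, false), (3, 80, false), (4, 73, false), (1, 86, false), (2, 79, false), (3, 74, false), (4, 52, false), (1, 11, false), (2, 86, false), (3, 79, false), (4, 74, false), (5, 53, false), (0, 90, false), (1, 87, false), (2, 80, false), (3, 75, false), (4, 54, false), (5, 38, false), (0, 12, false), (1, 90, false), (2, 87, false), (3, 8, false), (4, 76, false), (1, 86, false), (2, 83, false), (3, 79, false), (0, 87, false), (1, 84, false), (2, 80, false), (3, 71, false), (0, 10, false), (1, 85, false), (2, 82, false), (3, 78, false), (0, 12, false), (1, 89, false), (2, 87, false), (3, 84, false), (4, 80, false), (5, 73, false), (1, 11, false), (2, 88, false), (3, 86, false), (4, 83, false), (5, 79, false), (6, 74, false), (0, 90, false), (1, 89, false), (2, 87, false), (3, 84, false), (4, 80, false), (5, 75, false), (6, 50, false), (0, 88, false), (1, 86, false), (2, 83, false), (3, 79, false), (4, 74, false), (5, 53, false), (0, 12, false), (1, 89, false), (2, 87, false), (3, 84, false), (4, 80, false), (5, 75, false), (6, 54, false),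 (7, 41, false), (0, 89, false), (1, 81, false), (2, 77, false), (0, 11, false), (1, 88, false), (2, 83, false), (3, 79, false), (0, 12, false), (1, 90, false), (2, 89, false), (3, 84, false), (4, 80, false), (5, 72, false), (2, 82, false), (3, 78, false), (0, 90, false), (1, 84, false), (2, 80, false), (3, 73, false), (0, 83, false), (1, 79, false), (2, 74, false), (0, 12, false), (1, 84, false), (2, 80, false), (3, 75, false), (4, 51, false), (1, 10, false), (2, 82, false), (3, 78, false), (0, 89, false), (1, 84, false), (2, 80, false), (3, 73, false), (0, 11, false), (1, 88, false), (2, 83, false), (3, 79, false), (4, 74, false), (5, 52, false), (0, 12, false), (1, 90, false), (2, 89, false), (3, 84, false), (4, 80, false), (5, 75, false), (6, 54, false), (7, 42, false), (2, 82, false), (3, 78, false), (0, 90, false), (1, 84, false), (2, 80, false), (3, 73, false), (0, 83, false), (1, 79, false), (2, 74, false), (3, 52, false), (0, 12, false), (1, 84, false), (2, 80, false), (3, 75, false), (4, 54, false), (5, 43, false), (1, 11, false), (2, 83, false), (3, 79, false), (4, 74, false),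 (5, 53, false), (6, 44, false), (0, 90, false), (1, 84, false), (2, 80, false), (3, 75, false), (4, 54, false), (5, 45, false), (6, 28, false), (1, 76, false), (0, 12, false), (1, 90, false), (2, 9, false), (3, 77, false), (2, 10, false), (3, 85, false), (4, 78, false), (1, 88, false), (2, 86, false), (3, 79, false), (4, 48, false), (1, 11, false), (2, 88, false), (3, 86, false), (0, 90, false), (1, 89, false), (2, 87, false), (3, 49, false), (0, 12, false), (1, 90, false), (2, 89, false), (3, 87, false), (4, 8, false), (2, 85, false), (3, 82, false), (1, 86, false), (2, 83, false), (0, 87, false), (1, 84, false), (2, 50, false), (0, 11, false), (1, 86, false), (2, 83, false), (3, 53, false), (4, 39, false), (1, 10, false), (2, 85, false), (3, 82, false), (0, 88, false), (1, 86, false), (2, 83, false), (3, 52, false), (0, 12, false), (1, 89, false), (2, 87, false), (3, 84, false), (4, 54, false), (5, 43, false), (1, 11, false), (2, 88, false), (3, 86, false), (4, 83, false), (5, 53, false), (6, 44, false), (7, 29, false), (2, 85, false), (1, 86, false), (0, 87, false), (1, 50, false), (0,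 11, false), (1, 86, false), (2, 53, false), (0, 12, false), (1, 90, false), (2, 87, false), (3, 54, false), (4, 41, false), (2, 10, false), (3, 85, false), (1, 88, false), (2, 86, false), (3, 52, false), (0, 89, false), (1, 87, false), (2, 54, false), (3, 43, false), (0, 11, false), (1, 88, false), (2, 86, false), (3, 53, false), (4, 44, false), (5, 31, false), (0, 88, false), (1, 86, false), (2, 53, false), (3, 44, false), (0, 12, false), (1, 89, false), (2, 87, false), (3, 54, false), (4, 45, false), (5, 34, false), (6, 0, false), (3, 4, false), (3, 7, false), (1, 11, false), (2, 88, false), (3, 86, false), (4, 79, false), (5, 57, false), (0, 90, false), (1, 89, false), (2, 87, false), (3, 8, false), (4, 76, false), (5, 58, false), (0, 12, false), (1, 90, false), (2, 89, false), (3, 81, false), (4, 77, false), (1, 88, false), (2, 83, false), (3, 79, false), (4, 59, false), (1, 82, false), (2, 78, false), (0, 84, false), (1, 80, false), (2, 60, false), (3, 46, false), (0, 76, false), (1, 58, false), (0, 10, false), (1, 78, false), (0, 12, false), (1, 89, false), (2, 80, false), (3, 60,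 false), (1, 11, false), (2, 88, false), (3, 79, false), (4, 61, false), (0, 90, false), (1, 89, false), (2, 80, false), (3, 62, false), (4, 50, false), (1, 78, false), (0, 12, false), (1, 90, false), (2, 80, false), (3, 60, false), (1, 79, false), (2, 61, false), (3, 52, false), (1, 11, false), (2, 79, false), (3, 61, false), (4, 53, false), (0, 90, false), (1, 80, false), (2, 62, false), (3, 54, false), (4, 37, false), (0, 79, false), (1, 5, false), (0, 11, false), (1, 79, false), (2, 68, false), (0, 12, false), (1, 90, false), (2, 80, false), (3, 69, false), (4, 55, false), (1, 79, false), (2, 68, false), (3, 61, false), (4, 47, false), (1, 64, false), (1, 11, false), (2, 68, false), (3, 57, false), (1, 68, false), (2, 61, false), (0, 69, false), (1, 62, false), (2, 49, false), (0, 10, false), (1, 67, false), (0, 12, false), (1, 89, false), (2, 69, false), (3, 60, false), (1, 11, false), (2, 88, false), (3, 68, false), (4, 61, false), (5, 52, false), (1, 88, false), (2, 68, false), (3, 61, false), (4, 53, false), (0, 89, false), (1, 69, false), (2, 62, false), (3, 54, false), (4, 38, false),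 (1, 7, false), (2, 64, false), (0, 11, false), (1, 88, false), (2, 79, false), (3, 68, false), (4, 57, false), (0, 88, false), (1, 79, false), (2, 68, false), (3, 61, false), (0, 12, false), (1, 89, false), (2, 80, false), (3, 69, false), (4, 62, false), (5, 49, false), (1, 11, false), (2, 88, false), (3, 79, false), (4, 68, false), (5, 61, false), (6, 53, false), (7, 40, false), (0, 90, false), (1, 89, false), (2, 8, false), (3, 76, false), (0, 88, false), (1, 83, false), (2, 79, false), (0, 12, false), (1, 89, false), (2, 84, false), (3, 80, false), (4, 65, false), (5, 58, false), (1, 82, false), (2, 78, false), (3, 67, false), (0, 84, false), (1, 80, false), (2, 69, false), (3, 60, false), (0, 11, false), (1, 83, false), (2, 79, false), (3, 68, false), (4, 61, false), (0, 12, false), (1, 90, false), (2, 84, false), (3, 80, false), (4, 69, false), (5, 62, false), (6, 50, false), (1, 83, false), (2, 79, false), (3, 68, false), (4, 61, false), (5, 53, false), (0, 84, false), (1, 80, false), (2, 69, false), (3, 62, false), (4, 54, false), (5, 41, false), (0, 10, false), (1, 82, false), (2,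 78, false), (3, 67, false), (0, 12, false), (1, 89, false), (2, 84, false), (3, 80, false), (4, 69, false), (5, 60, false), (1, 11, false), (2, 88, false), (3, 83, false), (4, 79, false), (5, 68, false), (6, 61, false), (7, 52, false), (0, 90, false), (1, 89, false), (2, 84, false), (3, 80, false), (4, 69, false), (5, 62, false), (6, 54, false), (7, 43, false), (0, 88, false), (1, 83, false), (2, 79, false), (3, 68, false), (4, 61, false), (5, 53, false), (6, 44, false), (0, 12, false), (1, 89, false), (2, 84, false), (3, 80, false), (4, 69, false), (5, 62, false), (6, 54, false), (7, 45, false), (8, 13, false), (3, 64, false), (1, 11, false), (2, 88, false), (0, 90, false), (1, 89, false), (2, 65, false), (0, 12, false), (1, 90, false), (2, 89, false), (3, 9, false), (1, 88, false), (2, 86, false), (0, 89, false), (1, 87, false), (2, 66, false), (0, 85, false), (1, 67, false), (2, 46, false), (0, 11, false), (1, 86, false), (2, 47, false), (0, 86, false), (1, 6, false), (0, 12, false), (1, 87, false), (2, 8, false), (1, 11, false), (2, 86, false), (3, 83, false), (0, 90, false), (1, 87,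 false), (2, 84, false), (3, 71, false), (0, 12, false), (1, 90, false), (2, 81, false), (1, 83, false), (0, 84, false), (1, 72, false), (0, 10, false), (1, 82, false), (0, 12, false), (1, 89, false), (2, 84, false), (3, 73, false), (1, 11, false), (2, 88, false), (3, 83, false), (4, 74, false), (5, 48, false), (4, 7, false), (1, 88, false), (2, 83, false), (3, 79, false), (4, 70, false), (1, 11, false), (2, 88, false), (3, 83, false), (4, 79, false), (5, 74, false), (0, 90, false), (1, 89, false), (2, 84, false), (3, 80, false), (4, 75, false), (5, 49, false), (1, 82, false), (2, 78, false), (0, 12, false), (1, 90, false), (2, 84, false), (3, 80, false), (4, 73, false), (1, 83, false), (2, 79, false), (3, 74, false), (4, 52, false), (5, 14, false), (1, 11, false), (2, 83, false), (3, 70, false), (1, 83, false), (2, 74, false), (0, 84, false), (1, 75, false), (2, 49, false), (0, 12, false), (1, 84, false), (2, 75, false), (3, 54, false), (4, 19, false), (1, 11, false), (0, 90, false), (1, 71, false), (1, 10, false), (0, 12, false), (1, 90, false), (2, 89, false), (3, 73, false), (1, 88, false),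 (2, 74, false), (0, 89, false), (1, 75, false), (2, 50, false), (0, 11, false), (1, 88, false), (2, 74, false), (3, 53, false), (0, 12, false), (1, 90, false), (2, 89, false), (3, 75, false), (4, 54, false), (5, 20, false), (0, 90, false), (1, 73, false), (0, 74, false), (1, 52, false), (0, 11, false), (1, 74, false), (2, 53, false), (0, 12, false), (1, 90, false), (2, 75, false), (3, 54, false), (4, 22, false), (1, 74, false), (2, 53, false), (3, 23, false), (0, 75, false), (1, 54, false), (2, 24, false)]),
    ([0, 2], [2, 0], [(4, 23, true), (3, 53, true), (2, 74, true), (1, 88, true), (0, 11, true), (3, 21, true), (2, 54, true), (1, 75, true), (0, 89, true), (3, 53, true), (2, 74, true), (1, 88, true), (4, 52, true), (3, 74, true), (2, 88, true), (1, 11, true), (2, 73, true), (1, 89, true), (0, 12, true), (0, 10, true), (1, 51, true), (0, 75, true), (1, 74, true), (2, 73, true), (1, 90, true), (0, 12, true), (2, 72, true), (1, 89, true), (0, 90, true), (2, 88, true), (1, 11, true), (5, 19, true), (4, 54, true), (3, 75, true), (2, 87, true), (1, 89, true), (0, 12, true), (3, 49, true),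 (2, 75, true), (1, 87, true), (0, 89, true), (3, 74, true), (2, 86, true), (1, 88, true), (4, 70, true), (3, 86, true), (2, 88, true), (1, 11, true), (6, 18, true), (5, 54, true), (4, 75, true), (3, 80, true), (2, 87, true), (1, 89, true), (0, 12, true), (4, 50, true), (3, 75, true), (2, 80, true), (1, 87, true), (0, 89, true), (4, 74, true), (3, 79, true), (2, 86, true), (1, 88, true), (5, 73, true), (4, 80, true), (3, 87, true), (2, 89, true), (1, 90, true), (0, 12, true), (3, 78, true), (2, 85, true), (1, 10, true), (3, 71, true), (2, 80, true), (1, 87, true), (0, 90, true), (3, 79, true), (2, 86, true), (1, 11, true), (2, 76, true), (5, 49, true), (4, 75, true), (3, 80, true), (2, 84, true), (1, 87, true), (0, 12, true), (3, 74, true), (2, 79, true), (1, 83, true), (0, 86, true), (4, 70, true), (3, 79, true), (2, 83, true), (1, 86, true), (0, 11, true), (2, 7, true), (3, 48, true), (2, 74, true), (1, 83, true), (0, 86, true), (3, 73, true), (2, 84, true), (1, 87, true), (0, 90, true), (3, 82, true), (2, 85, true), (5, 72, true), (4, 84, true), (3, 87, true), (2, 89, true), (1, 90, true),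 (0, 12, true), (3, 83, true), (2, 86, true), (1, 88, true), (0, 11, true), (2, 81, true), (1, 87, true), (0, 89, true), (2, 9, true), (1, 89, true), (0, 12, true), (2, 71, true), (1, 84, true), (0, 89, true), (2, 83, true), (1, 88, true), (3, 8, true), (2, 89, true), (1, 90, true), (0, 12, true), (2, 6, true), (1, 88, true), (0, 11, true), (2, 13, true), (1, 54, true), (0, 89, true), (2, 53, true), (1, 88, true), (3, 52, true), (2, 88, true), (1, 11, true), (1, 10, true), (1, 50, true), (0, 12, true), (3, 49, true), (2, 84, true), (1, 89, true), (0, 90, true), (3, 83, true), (2, 88, true), (1, 11, true), (4, 47, true), (3, 79, true), (2, 83, true), (1, 88, true), (6, 46, true), (5, 67, true), (4, 78, true), (3, 82, true), (2, 10, true), (4, 66, true), (3, 80, true), (2, 84, true), (1, 90, true), (0, 12, true), (2, 79, true), (1, 83, true), (0, 11, true), (1, 77, true), (0, 81, true), (4, 65, true), (3, 80, true), (2, 84, true), (1, 87, true), (0, 12, true), (2, 79, true), (1, 83, true), (0, 86, true), (3, 76, true), (2, 8, true), (1, 87, true), (0, 90, true), (4, 64, true), (3, 7, true),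 (7, 0, true), (6, 34, true), (5, 54, true), (4, 62, true), (3, 69, true), (2, 87, true), (1, 90, true), (0, 12, true), (4, 53, true), (3, 61, true), (2, 68, true), (1, 86, true), (0, 11, true), (4, 31, true), (3, 53, true), (2, 61, true), (1, 68, true), (0, 86, true), (4, 52, true), (3, 61, true), (2, 68, true), (1, 86, true), (0, 11, true), (2, 60, true), (1, 69, true), (0, 87, true), (2, 67, true), (1, 85, true), (5, 50, true), (4, 62, true), (3, 69, true), (2, 87, true), (1, 89, true), (0, 12, true), (3, 61, true), (2, 68, true), (1, 86, true), (0, 88, true), (4, 60, true), (3, 69, true), (2, 87, true), (1, 89, true), (0, 90, true), (4, 67, true), (3, 85, true), (2, 10, true), (4, 58, true), (3, 65, true), (2, 87, true), (1, 90, true), (0, 12, true), (1, 86, true), (0, 11, true), (5, 29, true), (4, 53, true), (3, 61, true), (2, 68, true), (1, 83, true), (0, 86, true), (5, 52, true), (4, 61, true), (3, 68, true), (2, 83, true), (1, 86, true), (0, 11, true), (3, 60, true), (2, 69, true), (1, 84, true), (0, 87, true), (3, 67, true), (2, 82, true), (1, 85, true), (6, 48, true), (5, 61, true),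 (4, 68, true), (3, 83, true), (2, 86, true), (1, 88, true), (6, 60, true), (5, 69, true), (4, 84, true), (3, 87, true), (2, 89, true), (1, 90, true), (0, 12, true), (4, 67, true), (3, 82, true), (2, 85, true), (1, 10, true), (4, 59, true), (3, 68, true), (2, 83, true), (1, 86, true), (0, 11, true), (2, 66, true), (1, 84, true), (0, 87, true), (2, 83, true), (1, 86, true), (3, 81, true), (2, 87, true), (1, 90, true), (0, 12, true), (1, 9, true), (0, 90, true), (4, 58, true), (3, 65, true), (2, 84, true), (1, 90, true), (0, 12, true), (1, 83, true), (0, 11, true), (0, 8, true), (2, 56, true), (1, 68, true), (2, 63, true), (1, 11, true), (5, 28, true), (4, 54, true), (3, 62, true), (2, 69, true), (1, 75, true), (0, 12, true), (3, 53, true), (2, 61, true), (1, 68, true), (0, 74, true), (4, 52, true), (3, 61, true), (2, 68, true), (1, 74, true), (0, 11, true), (2, 60, true), (1, 69, true), (0, 75, true), (2, 67, true), (1, 73, true), (0, 12, true), (4, 51, true), (3, 62, true), (2, 69, true), (1, 75, true), (0, 89, true), (4, 61, true), (3, 68, true), (2, 74, true), (1, 88, true), (5, 60, true),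 (4, 69, true), (3, 75, true), (2, 89, true), (1, 90, true), (0, 12, true), (3, 67, true), (2, 73, true), (1, 89, true), (0, 90, true), (2, 10, true), (4, 59, true), (3, 68, true), (2, 74, true), (1, 11, true), (2, 66, true), (1, 75, true), (0, 12, true), (0, 74, true), (1, 72, true), (0, 90, true), (1, 11, true), (5, 50, true), (4, 62, true), (3, 69, true), (2, 75, true), (1, 87, true), (0, 12, true), (3, 61, true), (2, 68, true), (1, 74, true), (0, 86, true), (4, 60, true), (3, 69, true), (2, 75, true), (1, 87, true), (0, 90, true), (4, 67, true), (3, 73, true), (2, 87, true), (1, 90, true), (0, 12, true), (1, 85, true), (5, 58, true), (4, 65, true), (3, 75, true), (2, 87, true), (1, 89, true), (0, 90, true), (4, 74, true), (3, 86, true), (2, 88, true), (1, 11, true), (3, 71, true), (2, 87, true), (1, 89, true), (0, 12, true), (1, 86, true), (0, 88, true), (7, 47, true), (6, 61, true), (5, 68, true), (4, 74, true), (3, 83, true), (2, 86, true), (1, 88, true), (0, 11, true), (5, 55, true), (4, 69, true), (3, 75, true), (2, 84, true), (1, 87, true), (0, 89, true), (5, 68, true), (4, 74, true),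 (3, 83, true), (2, 86, true), (1, 88, true), (6, 5, true), (5, 74, true), (4, 83, true), (3, 86, true), (2, 88, true), (1, 11, true), (7, 27, true), (6, 53, true), (5, 61, true), (4, 74, true), (3, 83, true), (2, 86, true), (1, 88, true), (7, 52, true), (6, 61, true), (5, 74, true), (4, 83, true), (3, 86, true), (2, 88, true), (1, 11, true), (5, 60, true), (4, 75, true), (3, 84, true), (2, 87, true), (1, 89, true), (0, 12, true), (3, 73, true), (2, 84, true), (1, 87, true), (0, 89, true), (3, 82, true), (2, 85, true), (1, 10, true), (5, 51, true), (4, 62, true), (3, 75, true), (2, 84, true), (1, 87, true), (0, 12, true), (3, 61, true), (2, 74, true), (1, 83, true), (0, 86, true), (4, 60, true), (3, 75, true), (2, 84, true), (1, 87, true), (0, 90, true), (4, 73, true), (3, 84, true), (2, 87, true), (1, 90, true), (0, 12, true), (2, 82, true), (1, 85, true), (5, 59, true), (4, 74, true), (3, 83, true), (2, 86, true), (1, 88, true), (0, 11, true), (3, 72, true), (2, 84, true), (1, 87, true), (0, 89, true), (3, 83, true), (2, 86, true), (1, 88, true), (4, 81, true), (3, 87, true), (2, 89, true),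 (1, 90, true), (0, 12, true), (2, 9, true), (1, 89, true), (0, 90, true), (6, 49, true), (5, 62, true), (4, 75, true), (3, 84, true), (2, 89, true), (1, 90, true), (0, 12, true), (4, 61, true), (3, 74, true), (2, 83, true), (1, 88, true), (0, 11, true), (3, 57, true), (2, 74, true), (1, 83, true), (0, 88, true), (3, 70, true), (2, 83, true), (1, 88, true), (0, 11, true), (5, 46, true), (4, 60, true), (3, 75, true), (2, 80, true), (1, 84, true), (0, 89, true), (4, 73, true), (3, 80, true), (2, 84, true), (1, 89, true), (0, 12, true), (2, 78, true), (1, 82, true), (0, 10, true), (3, 59, true), (2, 74, true), (1, 79, true), (0, 83, true), (3, 72, true), (2, 80, true), (1, 84, true), (0, 90, true), (3, 79, true), (2, 83, true), (1, 11, true), (2, 77, true), (1, 81, true), (0, 12, true), (4, 58, true), (3, 71, true), (2, 80, true), (1, 84, true), (0, 87, true), (3, 79, true), (2, 83, true), (1, 86, true), (4, 76, true), (3, 8, true), (2, 87, true), (1, 90, true), (0, 12, true), (4, 57, true), (3, 74, true), (2, 79, true), (1, 86, true), (0, 11, true), (2, 70, true), (1, 79, true), (0, 86, true),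 (2, 7, true), (3, 4, true), (3, 4, false), (2, 7, false), (0, 86, false), (1, 79, false), (2, 70, false), (0, 11, false), (1, 86, false), (2, 79, false), (3, 74, false), (4, 57, false), (0, 12, false), (1, 90, false), (2, 87, false), (3, 8, false), (4, 76, false), (1, 86, false), (2, 83, false), (3, 79, false), (0, 87, false), (1, 84, false), (2, 80, false), (3, 71, false), (4, 58, false), (0, 12, false), (1, 81, false), (2, 77, false), (1, 11, false), (2, 83, false), (3, 79, false), (0, 90, false), (1, 84, false), (2, 80, false), (3, 72, false), (0, 83, false), (1, 79, false), (2, 74, false), (3, 59, false), (0, 10, false), (1, 82, false), (2, 78, false), (0, 12, false), (1, 89, false), (2, 84, false), (3, 80, false), (4, 73, false), (0, 89, false), (1, 84, false), (2, 80, false), (3, 75, false), (4, 60, false), (5, 46, false), (0, 11, false), (1, 88, false), (2, 83, false), (3, 70, false), (0, 88, false), (1, 83, false), (2, 74, false), (3, 57, false), (0, 11, false), (1, 88, false), (2, 83, false), (3, 74, false), (4, 61, false), (0, 12, false), (1, 90, false), (2, 89, false), (3, 84,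 false), (4, 75, false), (5, 62, false), (6, 49, false), (0, 90, false), (1, 89, false), (2, 9, false), (0, 12, false), (1, 90, false), (2, 89, false), (3, 87, false), (4, 81, false), (1, 88, false), (2, 86, false), (3, 83, false), (0, 89, false), (1, 87, false), (2, 84, false), (3, 72, false), (0, 11, false), (1, 88, false), (2, 86, false), (3, 83, false), (4, 74, false), (5, 59, false), (1, 85, false), (2, 82, false), (0, 12, false), (1, 90, false), (2, 87, false), (3, 84, false), (4, 73, false), (0, 90, false), (1, 87, false), (2, 84, false), (3, 75, false), (4, 60, false), (0, 86, false), (1, 83, false), (2, 74, false), (3, 61, false), (0, 12, false), (1, 87, false), (2, 84, false), (3, 75, false), (4, 62, false), (5, 51, false), (1, 10, false), (2, 85, false), (3, 82, false), (0, 89, false), (1, 87, false), (2, 84, false), (3, 73, false), (0, 12, false), (1, 89, false), (2, 87, false), (3, 84, false), (4, 75, false), (5, 60, false), (1, 11, false), (2, 88, false), (3, 86, false), (4, 83, false), (5, 74, false), (6, 61, false), (7, 52, false), (1, 88, false), (2, 86, false), (3, 83, false),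 (4, 74, false), (5, 61, false), (6, 53, false), (7, 27, false), (1, 11, false), (2, 88, false), (3, 86, false), (4, 83, false), (5, 74, false), (6, 5, false), (1, 88, false), (2, 86, false), (3, 83, false), (4, 74, false), (5, 68, false), (0, 89, false), (1, 87, false), (2, 84, false), (3, 75, false), (4, 69, false), (5, 55, false), (0, 11, false), (1, 88, false), (2, 86, false), (3, 83, false), (4, 74, false), (5, 68, false), (6, 61, false), (7, 47, false), (0, 88, false), (1, 86, false), (0, 12, false), (1, 89, false), (2, 87, false), (3, 71, false), (1, 11, false), (2, 88, false), (3, 86, false), (4, 74, false), (0, 90, false), (1, 89, false), (2, 87, false), (3, 75, false), (4, 65, false), (5, 58, false), (1, 85, false), (0, 12, false), (1, 90, false), (2, 87, false), (3, 73, false), (4, 67, false), (0, 90, false), (1, 87, false), (2, 75, false), (3, 69, false), (4, 60, false), (0, 86, false), (1, 74, false), (2, 68, false), (3, 61, false), (0, 12, false), (1, 87, false), (2, 75, false), (3, 69, false), (4, 62, false), (5, 50, false), (1, 11, false), (0, 90, false), (1, 72, false), (0,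 74, false), (0, 12, false), (1, 75, false), (2, 66, false), (1, 11, false), (2, 74, false), (3, 68, false), (4, 59, false), (2, 10, false), (0, 90, false), (1, 89, false), (2, 73, false), (3, 67, false), (0, 12, false), (1, 90, false), (2, 89, false), (3, 75, false), (4, 69, false), (5, 60, false), (1, 88, false), (2, 74, false), (3, 68, false), (4, 61, false), (0, 89, false), (1, 75, false), (2, 69, false), (3, 62, false), (4, 51, false), (0, 12, false), (1, 73, false), (2, 67, false), (0, 75, false), (1, 69, false), (2, 60, false), (0, 11, false), (1, 74, false), (2, 68, false), (3, 61, false), (4, 52, false), (0, 74, false), (1, 68, false), (2, 61, false), (3, 53, false), (0, 12, false), (1, 75, false), (2, 69, false), (3, 62, false), (4, 54, false), (5, 28, false), (1, 11, false), (2, 63, false), (1, 68, false), (2, 56, false), (0, 8, false), (0, 11, false), (1, 83, false), (0, 12, false), (1, 90, false), (2, 84, false), (3, 65, false), (4, 58, false), (0, 90, false), (1, 9, false), (0, 12, false), (1, 90, false), (2, 87, false), (3, 81, false), (1, 86, false), (2, 83, false), (0, 87,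 false), (1, 84, false), (2, 66, false), (0, 11, false), (1, 86, false), (2, 83, false), (3, 68, false), (4, 59, false), (1, 10, false), (2, 85, false), (3, 82, false), (4, 67, false), (0, 12, false), (1, 90, false), (2, 89, false), (3, 87, false), (4, 84, false), (5, 69, false), (6, 60, false), (1, 88, false), (2, 86, false), (3, 83, false), (4, 68, false), (5, 61, false), (6, 48, false), (1, 85, false), (2, 82, false), (3, 67, false), (0, 87, false), (1, 84, false), (2, 69, false), (3, 60, false), (0, 11, false), (1, 86, false), (2, 83, false), (3, 68, false), (4, 61, false), (5, 52, false), (0, 86, false), (1, 83, false), (2, 68, false), (3, 61, false), (4, 53, false), (5, 29, false), (0, 11, false), (1, 86, false), (0, 12, false), (1, 90, false), (2, 87, false), (3, 65, false), (4, 58, false), (2, 10, false), (3, 85, false), (4, 67, false), (0, 90, false), (1, 89, false), (2, 87, false), (3, 69, false), (4, 60, false), (0, 88, false), (1, 86, false), (2, 68, false), (3, 61, false), (0, 12, false), (1, 89, false), (2, 87, false), (3, 69, false), (4, 62, false), (5, 50, false), (1, 85,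 false), (2, 67, false), (0, 87, false), (1, 69, false), (2, 60, false), (0, 11, false), (1, 86, false), (2, 68, false), (3, 61, false), (4, 52, false), (0, 86, false), (1, 68, false), (2, 61, false), (3, 53, false), (4, 31, false), (0, 11, false), (1, 86, false), (2, 68, false), (3, 61, false), (4, 53, false), (0, 12, false), (1, 90, false), (2, 87, false), (3, 69, false), (4, 62, false), (5, 54, false), (6, 34, false), (7, 0, false), (1, 86, false), (0, 87, false), (1, 55, false), (0, 11, false), (1, 86, false), (2, 6, false), (0, 86, false), (1, 74, false), (2, 56, false), (1, 7, false), (0, 11, false), (1, 86, false), (2, 79, false), (3, 70, false), (0, 86, false), (1, 79, false), (2, 74, false), (3, 57, false), (0, 12, false), (1, 87, false), (2, 8, false), (3, 76, false), (1, 11, false), (2, 86, false), (3, 83, false), (4, 79, false), (0, 90, false), (1, 87, false), (2, 84, false), (3, 80, false), (4, 71, false), (5, 58, false), (0, 12, false), (1, 90, false), (2, 81, false), (3, 77, false), (1, 83, false), (2, 79, false), (0, 84, false), (1, 80, false), (2, 72, false), (0, 11, false),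 (1, 83, false), (2, 79, false), (3, 74, false), (4, 59, false), (1, 10, false), (2, 82, false), (3, 78, false), (0, 12, false), (1, 90, false), (2, 89, false), (3, 84, false), (4, 80, false), (5, 73, false), (0, 90, false), (1, 89, false), (2, 84, false), (3, 80, false), (4, 75, false), (5, 60, false), (0, 88, false), (1, 83, false), (2, 79, false), (3, 74, false), (4, 61, false), (0, 12, false), (1, 89, false), (2, 84, false), (3, 80, false), (4, 75, false), (5, 62, false), (6, 26, false), (1, 11, false), (2, 88, false), (3, 83, false), (4, 70, false), (0, 90, false), (1, 89, false), (2, 9, false), (0, 12, false), (1, 90, false), (2, 89, false), (3, 87, false), (4, 81, false), (1, 88, false), (2, 86, false), (3, 83, false), (0, 89, false), (1, 87, false), (2, 84, false), (3, 72, false), (0, 85, false), (1, 82, false), (0, 12, false), (1, 87, false), (2, 84, false), (3, 73, false), (1, 11, false), (2, 86, false), (3, 83, false), (4, 74, false), (5, 27, false), (2, 10, false), (3, 85, false), (4, 82, false), (1, 88, false), (2, 86, false), (3, 83, false), (4, 29, false), (1, 85, false), (2,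 82, false), (1, 11, false), (2, 86, false), (3, 83, false), (4, 33, false), (0, 90, false), (1, 87, false), (2, 84, false), (3, 35, false), (4, 15, false), (0, 86, false), (1, 83, false), (2, 6, false), (0, 10, false), (1, 85, false), (2, 82, false), (0, 12, false), (1, 89, false), (2, 87, false), (3, 84, false), (4, 73, false), (1, 11, false), (2, 88, false), (3, 86, false), (4, 83, false), (5, 74, false), (6, 29, false), (5, 7, false), (1, 88, false), (2, 86, false), (3, 83, false), (4, 79, false), (5, 70, false), (1, 85, false), (2, 82, false), (3, 78, false), (0, 87, false), (1, 84, false), (2, 80, false), (3, 73, false), (0, 12, false), (1, 87, false), (2, 84, false), (3, 80, false), (4, 75, false), (5, 30, false), (2, 76, false), (1, 11, false), (2, 86, false), (3, 79, false), (0, 90, false), (1, 87, false), (2, 80, false), (3, 71, false), (1, 10, false), (2, 85, false), (3, 78, false), (0, 12, false), (1, 90, false), (2, 89, false), (3, 87, false), (4, 80, false), (5, 73, false), (1, 88, false), (2, 86, false), (3, 79, false), (4, 74, false), (5, 31, false), (0, 89, false), (1, 87,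 false), (2, 80, false), (3, 75, false), (4, 35, false), (5, 18, false), (0, 85, false), (1, 78, false), (0, 12, false), (1, 87, false), (2, 80, false), (3, 73, false), (1, 11, false), (2, 86, false), (3, 79, false), (4, 74, false), (5, 33, false), (1, 86, false), (2, 79, false), (3, 74, false), (0, 87, false), (1, 80, false), (2, 75, false), (3, 34, false), (0, 12, false), (1, 87, false), (2, 80, false), (3, 75, false), (4, 35, false), (5, 22, false), (1, 11, false), (2, 86, false), (3, 79, false), (4, 74, false), (0, 90, false), (1, 87, false), (2, 80, false), (3, 75, false), (4, 34, false), (5, 23, false)], [(7, 23, true), (6, 34, true), (5, 45, true), (4, 80, true), (3, 84, true), (2, 89, true), (1, 90, true), (0, 12, true), (4, 44, true), (3, 79, true), (2, 83, true), (1, 88, true), (0, 11, true), (5, 21, true), (4, 35, true), (3, 45, true), (2, 80, true), (1, 84, true), (0, 89, true), (5, 34, true), (4, 45, true), (3, 80, true), (2, 84, true), (1, 89, true), (0, 12, true), (3, 44, true), (2, 79, true), (1, 83, true), (0, 88, true), (5, 33, true), (4, 44, true), (3, 79, true), (2, 83,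 true), (1, 88, true), (0, 11, true), (3, 43, true), (2, 80, true), (1, 84, true), (0, 89, true), (3, 78, true), (2, 82, true), (1, 10, true), (4, 32, true), (3, 44, true), (2, 79, true), (1, 83, true), (4, 43, true), (3, 80, true), (2, 84, true), (1, 90, true), (0, 12, true), (2, 78, true), (1, 82, true), (4, 42, true), (3, 80, true), (2, 84, true), (1, 89, true), (0, 90, true), (4, 78, true), (3, 82, true), (2, 10, true), (3, 77, true), (2, 81, true), (1, 90, true), (0, 12, true), (6, 19, true), (5, 35, true), (4, 45, true), (3, 80, true), (2, 84, true), (1, 87, true), (0, 90, true), (6, 30, true), (5, 45, true), (4, 80, true), (3, 84, true), (2, 87, true), (1, 90, true), (0, 12, true), (4, 43, true), (3, 80, true), (2, 84, true), (1, 87, true), (0, 90, true), (4, 78, true), (3, 82, true), (2, 85, true), (6, 40, true), (5, 79, true), (4, 83, true), (3, 86, true), (2, 88, true), (1, 11, true), (4, 7, true), (6, 18, true), (5, 35, true), (4, 45, true), (3, 84, true), (2, 87, true), (1, 89, true), (0, 12, true), (4, 31, true), (3, 44, true), (2, 83, true), (1, 86, true), (0, 88, true), (4,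 43, true), (3, 84, true), (2, 87, true), (1, 89, true), (0, 90, true), (4, 82, true), (3, 85, true), (2, 10, true), (4, 41, true), (3, 84, true), (2, 87, true), (1, 90, true), (0, 12, true), (2, 83, true), (1, 86, true), (0, 11, true), (1, 8, true), (0, 87, true), (3, 30, true), (2, 45, true), (1, 87, true), (0, 12, true), (1, 43, true), (0, 87, true), (1, 85, true), (3, 40, true), (2, 86, true), (1, 88, true), (6, 29, true), (5, 44, true), (4, 79, true), (3, 86, true), (2, 88, true), (1, 11, true), (4, 43, true), (3, 80, true), (2, 87, true), (1, 89, true), (0, 12, true), (2, 78, true), (1, 85, true), (0, 10, true), (2, 39, true), (1, 79, true), (0, 86, true), (2, 76, true), (3, 7, true), (6, 13, true), (5, 35, true), (4, 45, true), (3, 75, true), (2, 84, true), (1, 87, true), (0, 90, true), (6, 34, true), (5, 45, true), (4, 75, true), (3, 84, true), (2, 87, true), (1, 90, true), (0, 12, true), (4, 44, true), (3, 74, true), (2, 83, true), (1, 86, true), (0, 11, true), (4, 33, true), (3, 44, true), (2, 74, true), (1, 83, true), (0, 86, true), (4, 43, true), (3, 75, true), (2, 84, true),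 (1, 87, true), (0, 90, true), (4, 73, true), (3, 84, true), (2, 87, true), (1, 90, true), (0, 12, true), (2, 82, true), (1, 85, true), (6, 31, true), (5, 44, true), (4, 74, true), (3, 83, true), (2, 86, true), (1, 88, true), (0, 11, true), (4, 43, true), (3, 75, true), (2, 84, true), (1, 87, true), (0, 89, true), (4, 73, true), (3, 84, true), (2, 87, true), (1, 89, true), (0, 12, true), (2, 82, true), (1, 85, true), (0, 10, true), (3, 41, true), (2, 75, true), (1, 84, true), (0, 87, true), (3, 74, true), (2, 83, true), (1, 86, true), (4, 71, true), (3, 84, true), (2, 87, true), (1, 90, true), (0, 12, true), (2, 83, true), (1, 86, true), (0, 11, true), (1, 8, true), (0, 87, true), (4, 30, true), (3, 45, true), (2, 75, true), (1, 87, true), (0, 12, true), (2, 43, true), (1, 75, true), (0, 87, true), (2, 73, true), (1, 87, true), (0, 12, true), (0, 85, true), (3, 40, true), (2, 74, true), (1, 86, true), (0, 88, true), (3, 70, true), (2, 86, true), (1, 88, true), (0, 11, true), (5, 28, true), (4, 45, true), (3, 75, true), (2, 80, true), (1, 87, true), (0, 89, true), (5, 44, true), (4, 74, true),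 (3, 79, true), (2, 86, true), (1, 88, true), (6, 43, true), (5, 75, true), (4, 80, true), (3, 87, true), (2, 89, true), (1, 90, true), (0, 12, true), (4, 73, true), (3, 80, true), (2, 87, true), (1, 89, true), (0, 90, true), (4, 78, true), (3, 85, true), (2, 10, true), (5, 42, true), (4, 75, true), (3, 80, true), (2, 87, true), (1, 90, true), (0, 12, true), (3, 73, true), (2, 80, true), (1, 87, true), (0, 90, true), (3, 78, true), (2, 85, true), (5, 72, true), (4, 80, true), (3, 87, true), (2, 89, true), (1, 90, true), (0, 12, true), (3, 79, true), (2, 86, true), (1, 88, true), (0, 11, true), (2, 77, true), (1, 9, true), (0, 89, true), (4, 41, true), (3, 75, true), (2, 80, true), (1, 89, true), (0, 12, true), (2, 74, true), (1, 79, true), (0, 88, true), (3, 71, true), (2, 80, true), (1, 89, true), (0, 90, true), (3, 79, true), (2, 88, true), (1, 11, true), (2, 76, true), (5, 38, true), (4, 75, true), (3, 80, true), (2, 84, true), (1, 89, true), (0, 12, true), (3, 74, true), (2, 79, true), (1, 83, true), (0, 88, true), (4, 73, true), (3, 80, true), (2, 84, true), (1, 89, true), (0, 90, true),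 (4, 78, true), (3, 82, true), (2, 10, true), (4, 70, true), (3, 79, true), (2, 83, true), (1, 11, true), (2, 7, true), (5, 27, true), (4, 44, true), (3, 68, true), (2, 74, true), (1, 83, true), (5, 43, true), (4, 69, true), (3, 75, true), (2, 84, true), (1, 90, true), (0, 12, true), (3, 67, true), (2, 73, true), (1, 84, true), (0, 90, true), (2, 82, true), (6, 42, true), (5, 69, true), (4, 75, true), (3, 84, true), (2, 89, true), (1, 90, true), (0, 12, true), (4, 67, true), (3, 73, true), (2, 84, true), (1, 89, true), (0, 90, true), (3, 82, true), (2, 10, true), (4, 66, true), (3, 75, true), (2, 84, true), (1, 90, true), (0, 12, true), (2, 74, true), (1, 83, true), (0, 11, true), (1, 72, true), (0, 84, true), (1, 83, true), (2, 81, true), (1, 90, true), (0, 12, true), (5, 40, true), (4, 68, true), (3, 74, true), (2, 83, true), (1, 86, true), (0, 11, true), (3, 64, true), (2, 70, true), (1, 83, true), (0, 86, true), (6, 37, true), (5, 69, true), (4, 75, true), (3, 80, true), (2, 84, true), (1, 87, true), (0, 90, true), (6, 68, true), (5, 74, true), (4, 79, true), (3, 83, true), (2, 86, true),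 (1, 11, true), (5, 67, true), (4, 73, true), (3, 80, true), (2, 84, true), (1, 87, true), (0, 12, true), (2, 78, true), (1, 82, true), (0, 85, true), (5, 65, true), (4, 75, true), (3, 80, true), (2, 84, true), (1, 87, true), (0, 89, true), (5, 74, true), (4, 79, true), (3, 83, true), (2, 86, true), (1, 88, true), (6, 71, true), (5, 80, true), (4, 84, true), (3, 87, true), (2, 89, true), (1, 90, true), (0, 12, true), (4, 79, true), (3, 83, true), (2, 86, true), (1, 88, true), (0, 11, true), (3, 76, true), (2, 8, true), (1, 87, true), (0, 89, true), (8, 1, true), (7, 45, true), (6, 62, true), (5, 69, true), (4, 75, true), (3, 80, true), (2, 87, true), (1, 89, true), (0, 12, true), (6, 44, true), (5, 61, true), (4, 68, true), (3, 74, true), (2, 79, true), (1, 86, true), (0, 88, true), (7, 43, true), (6, 62, true), (5, 69, true), (4, 75, true), (3, 80, true), (2, 87, true), (1, 89, true), (0, 90, true), (7, 60, true), (6, 69, true), (5, 75, true), (4, 80, true), (3, 87, true), (2, 89, true), (1, 90, true), (0, 12, true), (5, 67, true), (4, 73, true), (3, 80, true), (2, 87, true), (1, 89, true),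 (0, 90, true), (4, 78, true), (3, 85, true), (2, 10, true), (7, 40, true), (6, 61, true), (5, 68, true), (4, 74, true), (3, 79, true), (2, 86, true), (1, 11, true), (5, 57, true), (4, 68, true), (3, 74, true), (2, 79, true), (1, 86, true), (5, 64, true), (4, 70, true), (3, 79, true), (2, 86, true), (1, 11, true), (2, 7, true), (5, 39, true), (4, 61, true), (3, 68, true), (2, 74, true), (1, 86, true), (5, 58, true), (4, 65, true), (3, 75, true), (2, 87, true), (1, 90, true), (0, 12, true), (2, 74, true), (1, 86, true), (0, 11, true), (1, 71, true), (0, 87, true), (1, 86, true), (6, 57, true), (5, 68, true), (4, 74, true), (3, 83, true), (2, 86, true), (1, 11, true), (4, 64, true), (3, 70, true), (2, 83, true), (1, 86, true), (7, 56, true), (6, 68, true), (5, 74, true), (4, 79, true), (3, 83, true), (2, 86, true), (1, 11, true), (5, 63, true), (4, 74, true), (3, 79, true), (2, 83, true), (1, 86, true), (5, 6, true), (4, 79, true), (3, 83, true), (2, 86, true), (1, 11, true), (7, 0, true), (6, 44, true), (5, 61, true), (4, 68, true), (3, 79, true), (2, 83, true), (1, 86, true), (7, 41, true),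 (6, 62, true), (5, 69, true), (4, 80, true), (3, 84, true), (2, 87, true), (1, 90, true), (0, 12, true), (5, 61, true), (4, 68, true), (3, 79, true), (2, 83, true), (1, 86, true), (0, 11, true), (4, 58, true), (3, 65, true), (2, 80, true), (1, 84, true), (0, 87, true), (3, 79, true), (2, 83, true), (1, 86, true), (4, 76, true), (3, 8, true), (2, 87, true), (1, 90, true), (0, 12, true), (5, 39, true), (4, 61, true), (3, 68, true), (2, 79, true), (1, 86, true), (0, 11, true), (3, 58, true), (2, 65, true), (1, 80, true), (0, 87, true), (2, 79, true), (1, 86, true), (3, 76, true), (6, 57, true), (5, 68, true), (4, 79, true), (3, 83, true), (2, 86, true), (1, 11, true), (4, 64, true), (3, 7, true), (4, 56, true), (3, 68, true), (2, 83, true), (1, 86, true), (4, 63, true), (3, 83, true), (2, 86, true), (1, 11, true), (6, 38, true), (5, 62, true), (4, 69, true), (3, 75, true), (2, 84, true), (1, 87, true), (0, 12, true), (4, 61, true), (3, 68, true), (2, 74, true), (1, 83, true), (0, 86, true), (5, 60, true), (4, 69, true), (3, 75, true), (2, 84, true), (1, 87, true), (0, 90, true), (5, 67, true),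 (4, 73, true), (3, 84, true), (2, 87, true), (1, 90, true), (0, 12, true), (2, 82, true), (1, 85, true), (6, 57, true), (5, 68, true), (4, 74, true), (3, 83, true), (2, 86, true), (1, 88, true), (0, 11, true), (4, 64, true), (3, 70, true), (2, 83, true), (1, 86, true), (0, 88, true), (7, 55, true), (6, 69, true), (5, 75, true), (4, 80, true), (3, 84, true), (2, 87, true), (1, 89, true), (0, 90, true), (7, 68, true), (6, 74, true), (5, 79, true), (4, 83, true), (3, 86, true), (2, 88, true), (1, 11, true), (6, 5, true), (5, 74, true), (4, 79, true), (3, 83, true), (2, 86, true), (1, 88, true), (8, 37, true), (7, 62, true), (6, 75, true), (5, 80, true), (4, 84, true), (3, 87, true), (2, 89, true), (1, 90, true), (0, 12, true), (6, 61, true), (5, 74, true), (4, 79, true), (3, 83, true), (2, 86, true), (1, 88, true), (0, 11, true), (5, 60, true), (4, 75, true), (3, 80, true), (2, 84, true), (1, 87, true), (0, 89, true), (5, 73, true), (4, 80, true), (3, 84, true), (2, 87, true), (1, 89, true), (0, 12, true), (3, 78, true), (2, 82, true), (1, 85, true), (0, 10, true), (4, 58, true), (3, 71, true),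 (2, 80, true), (1, 84, true), (0, 87, true), (3, 79, true), (2, 83, true), (1, 86, true), (4, 76, true), (3, 8, true), (2, 87, true), (1, 90, true), (0, 12, true), (4, 4, true), (4, 4, false), (0, 12, false), (1, 90, false), (2, 87, false), (3, 8, false), (4, 76, false), (1, 86, false), (2, 83, false), (3, 79, false), (0, 87, false), (1, 84, false), (2, 80, false), (3, 71, false), (4, 58, false), (0, 10, false), (1, 85, false), (2, 82, false), (3, 78, false), (0, 12, false), (1, 89, false), (2, 87, false), (3, 84, false), (4, 80, false), (5, 73, false), (0, 89, false), (1, 87, false), (2, 84, false), (3, 80, false), (4, 75, false), (5, 60, false), (0, 11, false), (1, 88, false), (2, 86, false), (3, 83, false), (4, 79, false), (5, 74, false), (6, 61, false), (0, 12, false), (1, 90, false), (2, 89, false), (3, 87, false), (4, 84, false), (5, 80, false), (6, 75, false), (7, 62, false), (8, 37, false), (1, 88, false), (2, 86, false), (3, 83, false), (4, 79, false), (5, 74, false), (6, 5, false), (1, 11, false), (2, 88, false), (3, 86, false), (4, 83, false), (5, 79, false), (6, 74, false), (7,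 68, false), (0, 90, false), (1, 89, false), (2, 87, false), (3, 84, false), (4, 80, false), (5, 75, false), (6, 69, false), (7, 55, false), (0, 88, false), (1, 86, false), (2, 83, false), (3, 70, false), (4, 64, false), (0, 11, false), (1, 88, false), (2, 86, false), (3, 83, false), (4, 74, false), (5, 68, false), (6, 57, false), (1, 85, false), (2, 82, false), (0, 12, false), (1, 90, false), (2, 87, false), (3, 84, false), (4, 73, false), (5, 67, false), (0, 90, false), (1, 87, false), (2, 84, false), (3, 75, false), (4, 69, false), (5, 60, false), (0, 86, false), (1, 83, false), (2, 74, false), (3, 68, false), (4, 61, false), (0, 12, false), (1, 87, false), (2, 84, false), (3, 75, false), (4, 69, false), (5, 62, false), (6, 38, false), (1, 11, false), (2, 86, false), (3, 83, false), (4, 63, false), (1, 86, false), (2, 83, false), (3, 68, false), (4, 56, false), (3, 7, false), (4, 64, false), (1, 11, false), (2, 86, false), (3, 83, false), (4, 79, false), (5, 68, false), (6, 57, false), (3, 76, false), (1, 86, false), (2, 79, false), (0, 87, false), (1, 80, false), (2, 65, false), (3, 58,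 false), (0, 11, false), (1, 86, false), (2, 79, false), (3, 68, false), (4, 61, false), (5, 39, false), (0, 12, false), (1, 90, false), (2, 87, false), (3, 8, false), (4, 76, false), (1, 86, false), (2, 83, false), (3, 79, false), (0, 87, false), (1, 84, false), (2, 80, false), (3, 65, false), (4, 58, false), (0, 11, false), (1, 86, false), (2, 83, false), (3, 79, false), (4, 68, false), (5, 61, false), (0, 12, false), (1, 90, false), (2, 87, false), (3, 84, false), (4, 80, false), (5, 69, false), (6, 62, false), (7, 41, false), (1, 86, false), (2, 83, false), (3, 79, false), (4, 68, false), (5, 61, false), (6, 44, false), (7, 0, false), (1, 11, false), (2, 86, false), (3, 83, false), (4, 79, false), (5, 6, false), (1, 86, false), (2, 83, false), (3, 79, false), (4, 74, false), (5, 63, false), (1, 11, false), (2, 86, false), (3, 83, false), (4, 79, false), (5, 74, false), (6, 68, false), (7, 56, false), (1, 86, false), (2, 83, false), (3, 70, false), (4, 64, false), (1, 11, false), (2, 86, false), (3, 83, false), (4, 74, false), (5, 68, false), (6, 57, false), (1, 86, false), (0, 87, false),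 (1, 71, false), (0, 11, false), (1, 86, false), (2, 74, false), (0, 12, false), (1, 90, false), (2, 87, false), (3, 75, false), (4, 65, false), (5, 58, false), (1, 86, false), (2, 74, false), (3, 68, false), (4, 61, false), (5, 39, false), (2, 7, false), (1, 11, false), (2, 86, false), (3, 79, false), (4, 70, false), (5, 64, false), (1, 86, false), (2, 79, false), (3, 74, false), (4, 68, false), (5, 57, false), (1, 11, false), (2, 86, false), (3, 79, false), (4, 74, false), (5, 68, false), (6, 61, false), (7, 40, false), (2, 10, false), (3, 85, false), (4, 78, false), (0, 90, false), (1, 89, false), (2, 87, false), (3, 80, false), (4, 73, false), (5, 67, false), (0, 12, false), (1, 90, false), (2, 89, false), (3, 87, false), (4, 80, false), (5, 75, false), (6, 69, false), (7, 60, false), (0, 90, false), (1, 89, false), (2, 87, false), (3, 80, false), (4, 75, false), (5, 69, false), (6, 62, false), (7, 43, false), (0, 88, false), (1, 86, false), (2, 79, false), (3, 74, false), (4, 68, false), (5, 61, false), (6, 44, false), (0, 12, false), (1, 89, false), (2, 87, false), (3, 80, false), (4,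 75, false), (5, 69, false), (6, 62, false), (7, 45, false), (8, 1, false), (0, 89, false), (1, 87, false), (2, 8, false), (3, 76, false), (0, 11, false), (1, 88, false), (2, 86, false), (3, 83, false), (4, 79, false), (0, 12, false), (1, 90, false), (2, 89, false), (3, 87, false), (4, 84, false), (5, 80, false), (6, 71, false), (1, 88, false), (2, 86, false), (3, 83, false), (4, 79, false), (5, 74, false), (0, 89, false), (1, 87, false), (2, 84, false), (3, 80, false), (4, 75, false), (5, 65, false), (0, 85, false), (1, 82, false), (2, 78, false), (0, 12, false), (1, 87, false), (2, 84, false), (3, 80, false), (4, 73, false), (5, 67, false), (1, 11, false), (2, 86, false), (3, 83, false), (4, 79, false), (5, 74, false), (6, 68, false), (0, 90, false), (1, 87, false), (2, 84, false), (3, 80, false), (4, 75, false), (5, 69, false), (6, 37, false), (0, 86, false), (1, 83, false), (2, 70, false), (3, 64, false), (0, 11, false), (1, 86, false), (2, 83, false), (3, 74, false), (4, 68, false), (5, 40, false), (0, 12, false), (1, 90, false), (2, 81, false), (1, 83, false), (0, 84, false), (1, 72,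 false), (0, 11, false), (1, 83, false), (2, 74, false), (0, 12, false), (1, 90, false), (2, 84, false), (3, 75, false), (4, 66, false), (2, 10, false), (3, 82, false), (0, 90, false), (1, 89, false), (2, 84, false), (3, 73, false), (4, 67, false), (0, 12, false), (1, 90, false), (2, 89, false), (3, 84, false), (4, 75, false), (5, 69, false), (6, 42, false), (2, 82, false), (0, 90, false), (1, 84, false), (2, 73, false), (3, 67, false), (0, 12, false), (1, 90, false), (2, 84, false), (3, 75, false), (4, 69, false), (5, 43, false), (1, 83, false), (2, 74, false), (3, 68, false), (4, 44, false), (5, 27, false), (2, 7, false), (1, 11, false), (2, 83, false), (3, 79, false), (4, 70, false), (2, 10, false), (3, 82, false), (4, 78, false), (0, 90, false), (1, 89, false), (2, 84, false), (3, 80, false), (4, 73, false), (0, 88, false), (1, 83, false), (2, 79, false), (3, 74, false), (0, 12, false), (1, 89, false), (2, 84, false), (3, 80, false), (4, 75, false), (5, 38, false), (2, 76, false), (1, 11, false), (2, 88, false), (3, 79, false), (0, 90, false), (1, 89, false), (2, 80, false), (3, 71, false),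 (0, 88, false), (1, 79, false), (2, 74, false), (0, 12, false), (1, 89, false), (2, 80, false), (3, 75, false), (4, 41, false), (0, 89, false), (1, 9, false), (2, 77, false), (0, 11, false), (1, 88, false), (2, 86, false), (3, 79, false), (0, 12, false), (1, 90, false), (2, 89, false), (3, 87, false), (4, 80, false), (5, 72, false), (2, 85, false), (3, 78, false), (0, 90, false), (1, 87, false), (2, 80, false), (3, 73, false), (0, 12, false), (1, 90, false), (2, 87, false), (3, 80, false), (4, 75, false), (5, 42, false), (2, 10, false), (3, 85, false), (4, 78, false), (0, 90, false), (1, 89, false), (2, 87, false), (3, 80, false), (4, 73, false), (0, 12, false), (1, 90, false), (2, 89, false), (3, 87, false), (4, 80, false), (5, 75, false), (6, 43, false), (1, 88, false), (2, 86, false), (3, 79, false), (4, 74, false), (5, 44, false), (0, 89, false), (1, 87, false), (2, 80, false), (3, 75, false), (4, 45, false), (5, 28, false), (0, 11, false), (1, 88, false), (2, 86, false), (3, 70, false), (0, 88, false), (1, 86, false), (2, 74, false), (3, 40, false), (0, 85, false), (0, 12, false), (1,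 87, false), (2, 73, false), (0, 87, false), (1, 75, false), (2, 43, false), (0, 12, false), (1, 87, false), (2, 75, false), (3, 45, false), (4, 30, false), (0, 87, false), (1, 8, false), (0, 11, false), (1, 86, false), (2, 83, false), (0, 12, false), (1, 90, false), (2, 87, false), (3, 84, false), (4, 71, false), (1, 86, false), (2, 83, false), (3, 74, false), (0, 87, false), (1, 84, false), (2, 75, false), (3, 41, false), (0, 10, false), (1, 85, false), (2, 82, false), (0, 12, false), (1, 89, false), (2, 87, false), (3, 84, false), (4, 73, false), (0, 89, false), (1, 87, false), (2, 84, false), (3, 75, false), (4, 43, false), (0, 11, false), (1, 88, false), (2, 86, false), (3, 83, false), (4, 74, false), (5, 44, false), (6, 31, false), (1, 85, false), (2, 82, false), (0, 12, false), (1, 90, false), (2, 87, false), (3, 84, false), (4, 73, false), (0, 90, false), (1, 87, false), (2, 84, false), (3, 75, false), (4, 43, false), (0, 86, false), (1, 83, false), (2, 74, false), (3, 44, false), (4, 33, false), (0, 11, false), (1, 86, false), (2, 83, false), (3, 74, false), (4, 44, false), (0, 12,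 false), (1, 90, false), (2, 87, false), (3, 84, false), (4, 75, false), (5, 45, false), (6, 34, false), (0, 90, false), (1, 87, false), (2, 84, false), (3, 75, false), (4, 45, false), (5, 35, false), (6, 13, false), (4, 4, false), (0, 86, false), (1, 83, false), (2, 74, false), (3, 5, false), (0, 11, false), (1, 86, false), (2, 83, false), (3, 74, false), (4, 68, false), (0, 12, false), (1, 90, false), (2, 87, false), (3, 84, false), (4, 75, false), (5, 69, false), (6, 55, false), (1, 86, false), (2, 83, false), (3, 63, false), (1, 11, false), (2, 86, false), (3, 83, false), (4, 68, false), (5, 56, false), (1, 86, false), (0, 87, false), (1, 65, false), (2, 58, false), (0, 11, false), (1, 86, false), (2, 68, false), (3, 61, false), (0, 12, false), (1, 90, false), (2, 87, false), (3, 69, false), (4, 62, false), (5, 25, false), (3, 7, false), (4, 64, false), (2, 77, false), (1, 79, false), (0, 80, false), (1, 66, false), (0, 10, false), (1, 78, false), (2, 67, false), (0, 11, false), (1, 88, false), (2, 79, false), (3, 68, false), (4, 27, false), (0, 12, false), (1, 90, false), (2, 89, false),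 (3, 8, false), (4, 76, false), (0, 90, false), (1, 89, false), (2, 9, false), (0, 12, false), (1, 90, false), (2, 89, false), (3, 87, false), (4, 81, false), (5, 77, false), (2, 85, false), (3, 82, false), (4, 78, false), (1, 86, false), (2, 83, false), (3, 79, false), (0, 87, false), (1, 84, false), (2, 80, false), (3, 28, false), (0, 11, false), (1, 86, false), (2, 83, false), (3, 79, false), (4, 6, false), (1, 10, false), (2, 85, false), (3, 82, false), (4, 78, false), (0, 12, false), (1, 90, false), (2, 89, false), (3, 87, false), (4, 84, false), (5, 80, false), (6, 73, false), (1, 88, false), (2, 86, false), (3, 83, false), (4, 79, false), (5, 74, false), (6, 29, false), (1, 11, false), (2, 88, false), (3, 86, false), (4, 83, false), (5, 70, false), (2, 85, false), (3, 82, false), (0, 90, false), (1, 87, false), (2, 84, false), (3, 73, false), (0, 12, false), (1, 90, false), (2, 87, false), (3, 84, false), (4, 75, false), (5, 30, false), (2, 10, false), (3, 85, false), (4, 82, false), (0, 90, false), (1, 89, false), (2, 87, false), (3, 84, false), (4, 73, false), (0, 88, false), (1,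 86, false), (2, 83, false), (3, 74, false), (4, 33, false), (5, 14, false), (3, 7, false), (0, 11, false), (1, 88, false), (2, 86, false), (3, 83, false), (4, 79, false), (5, 70, false), (1, 85, false), (2, 82, false), (3, 78, false), (0, 12, false), (1, 90, false), (2, 87, false), (3, 84, false), (4, 80, false), (5, 73, false), (0, 90, false), (1, 87, false), (2, 84, false), (3, 80, false), (4, 75, false), (5, 30, false), (0, 12, false), (1, 90, false), (2, 87, false), (3, 84, false), (4, 80, false), (5, 75, false), (6, 35, false), (7, 19, false), (3, 76, false), (1, 86, false), (2, 79, false), (0, 87, false), (1, 80, false), (2, 71, false), (0, 10, false), (1, 85, false), (2, 78, false), (0, 12, false), (1, 89, false), (2, 87, false), (3, 80, false), (4, 73, false), (1, 11, false), (2, 88, false), (3, 86, false), (4, 79, false), (5, 74, false), (6, 31, false), (1, 88, false), (2, 86, false), (3, 79, false), (4, 74, false), (0, 89, false), (1, 87, false), (2, 80, false), (3, 75, false), (4, 34, false), (0, 12, false), (1, 89, false), (2, 87, false), (3, 80, false), (4, 75, false), (5, 35,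 false), (6, 20, false), (1, 85, false), (2, 78, false), (0, 87, false), (1, 80, false), (2, 73, false), (0, 11, false), (1, 86, false), (2, 79, false), (3, 74, false), (4, 33, false), (0, 86, false), (1, 79, false), (2, 74, false), (0, 12, false), (1, 87, false), (2, 80, false), (3, 75, false), (4, 34, false), (0, 87, false), (1, 80, false), (2, 75, false), (3, 35, false), (4, 22, false), (0, 11, false), (1, 86, false), (2, 79, false), (3, 74, false), (0, 12, false), (1, 90, false), (2, 87, false), (3, 80, false), (4, 75, false), (5, 34, false), (6, 23, false), (0, 90, false), (1, 87, false), (2, 80, false), (3, 75, false), (4, 35, false), (5, 24, false)])]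

/-- A conjugation. -/
def twoSuzFus3 : Schur.Tails.Fus where
  xs := [[12, 7, 6, 3, 0]]
  ys := [[12, 11, 8, 6, 5, 4, 1, 0]]
  rels := [
    ([0, 0], [], [(4, 24, true), (3, 54, true), (2, 75, true), (1, 80, true), (0, 12, true), (3, 19, true), (2, 54, true), (1, 75, true), (0, 80, true), (3, 49, true), (2, 75, true), (1, 80, true), (0, 12, true), (1, 74, true), (0, 79, true), (2, 70, true), (1, 79, true), (0, 11, true), (0, 7, true), (2, 18, true), (1, 54, true), (0, 75, true), (2, 50, true), (1, 75, true), (0, 12, true), (0, 74, true), (1, 73, true), (0, 90, true), (3, 71, true), (2, 89, true), (1, 90, true), (0, 12, true), (1, 88, true), (0, 11, true), (3, 49, true), (2, 75, true), (1, 84, true), (0, 89, true), (3, 74, true), (2, 83, true), (1, 88, true), (4, 70, true), (3, 83, true), (2, 88, true), (1, 11, true), (5, 48, true), (4, 74, true), (3, 79, true), (2, 83, true), (1, 88, true), (5, 73, true), (4, 80, true), (3, 84, true), (2, 89, true), (1, 90, true), (0, 12, true), (3, 78, true), (2, 82, true), (1, 10, true), (3, 72, true), (2, 80, true), (1, 84, true), (0, 90, true), (3,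 79, true), (2, 83, true), (1, 11, true), (2, 77, true), (1, 81, true), (0, 12, true), (3, 71, true), (2, 80, true), (1, 84, true), (0, 87, true), (3, 79, true), (2, 83, true), (1, 86, true), (4, 76, true), (3, 8, true), (2, 87, true), (1, 90, true), (0, 12, true), (3, 6, true), (2, 79, true), (1, 86, true), (0, 11, true), (3, 15, true), (2, 54, true), (1, 80, true), (0, 87, true), (3, 52, true), (2, 79, true), (1, 86, true), (3, 78, true), (2, 85, true), (5, 48, true), (4, 79, true), (3, 86, true), (2, 88, true), (1, 11, true), (3, 78, true), (2, 85, true), (1, 10, true), (2, 77, true), (1, 9, true), (0, 12, true), (0, 76, true), (3, 46, true), (2, 73, true), (1, 80, true), (0, 84, true), (2, 78, true), (1, 82, true), (4, 72, true), (3, 80, true), (2, 84, true), (1, 89, true), (0, 12, true), (2, 79, true), (1, 83, true), (0, 88, true), (3, 77, true), (2, 81, true), (1, 89, true), (0, 90, true), (6, 71, true), (5, 80, true), (4, 84, true), (3, 87, true), (2, 89, true), (1, 90, true), (0, 12, true), (4, 79, true), (3, 83, true), (2, 86, true), (1, 88, true), (0, 11, true), (3, 76, true), (2,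 8, true), (1, 87, true), (0, 89, true), (4, 70, true), (3, 79, true), (2, 86, true), (1, 88, true), (4, 7, true), (6, 3, true), (5, 62, true), (4, 75, true), (3, 87, true), (2, 89, true), (1, 90, true), (0, 12, true), (4, 61, true), (3, 74, true), (2, 86, true), (1, 88, true), (0, 11, true), (3, 60, true), (2, 75, true), (1, 87, true), (0, 89, true), (3, 73, true), (2, 87, true), (1, 89, true), (0, 12, true), (1, 85, true), (0, 10, true), (2, 59, true), (1, 74, true), (0, 86, true), (2, 72, true), (1, 87, true), (0, 90, true), (2, 86, true), (1, 11, true), (1, 9, true), (0, 12, true), (1, 58, true), (0, 71, true), (4, 55, true), (3, 75, true), (2, 84, true), (1, 90, true), (0, 12, true), (2, 74, true), (1, 83, true), (0, 11, true), (4, 0, true), (3, 61, true), (2, 68, true), (1, 74, true), (0, 83, true), (4, 58, true), (3, 65, true), (2, 75, true), (1, 84, true), (0, 90, true), (3, 74, true), (2, 83, true), (1, 11, true), (2, 71, true), (1, 84, true), (0, 12, true), (0, 83, true), (1, 8, true), (0, 90, true), (4, 56, true), (3, 68, true), (2, 74, true), (1, 11, true), (2, 63, true), (1,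 74, true), (2, 6, true), (1, 11, true), (2, 55, true), (1, 69, true), (0, 12, true), (0, 68, true), (1, 5, true), (0, 11, true), (0, 4, true)], [(7, 24, true), (6, 35, true), (5, 62, true), (4, 69, true), (3, 75, true), (2, 84, true), (1, 90, true), (0, 12, true), (6, 23, true), (5, 34, true), (4, 62, true), (3, 69, true), (2, 75, true), (1, 84, true), (0, 90, true), (5, 61, true), (4, 68, true), (3, 74, true), (2, 83, true), (1, 11, true), (6, 20, true), (5, 35, true), (4, 62, true), (3, 69, true), (2, 75, true), (1, 84, true), (0, 12, true), (4, 34, true), (3, 62, true), (2, 69, true), (1, 75, true), (0, 84, true), (4, 61, true), (3, 68, true), (2, 74, true), (1, 83, true), (6, 31, true), (5, 61, true), (4, 68, true), (3, 74, true), (2, 83, true), (1, 11, true), (4, 60, true), (3, 69, true), (2, 75, true), (1, 84, true), (0, 12, true), (2, 67, true), (1, 73, true), (0, 84, true), (1, 82, true), (5, 58, true), (4, 65, true), (3, 75, true), (2, 84, true), (1, 89, true), (0, 12, true), (2, 74, true), (1, 83, true), (0, 88, true), (3, 71, true), (2, 84, true), (1, 89, true), (0, 90, true),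 (3, 83, true), (2, 88, true), (1, 11, true), (2, 8, true), (1, 89, true), (0, 12, true), (5, 18, true), (4, 35, true), (3, 62, true), (2, 69, true), (1, 75, true), (0, 89, true), (5, 31, true), (4, 61, true), (3, 68, true), (2, 74, true), (1, 88, true), (5, 60, true), (4, 69, true), (3, 75, true), (2, 89, true), (1, 90, true), (0, 12, true), (3, 67, true), (2, 73, true), (1, 89, true), (0, 90, true), (2, 10, true), (4, 58, true), (3, 65, true), (2, 75, true), (1, 90, true), (0, 12, true), (1, 74, true), (0, 11, true), (0, 71, true), (6, 30, true), (5, 62, true), (4, 69, true), (3, 75, true), (2, 84, true), (1, 90, true), (0, 12, true), (4, 60, true), (3, 69, true), (2, 75, true), (1, 84, true), (0, 90, true), (4, 67, true), (3, 73, true), (2, 84, true), (1, 90, true), (0, 12, true), (1, 82, true), (5, 57, true), (4, 68, true), (3, 74, true), (2, 83, true), (1, 88, true), (0, 11, true), (3, 64, true), (2, 70, true), (1, 83, true), (0, 88, true), (7, 29, true), (6, 61, true), (5, 68, true), (4, 74, true), (3, 79, true), (2, 83, true), (1, 88, true), (0, 11, true), (5, 60, true), (4, 69, true),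 (3, 75, true), (2, 80, true), (1, 84, true), (0, 89, true), (5, 67, true), (4, 73, true), (3, 80, true), (2, 84, true), (1, 89, true), (0, 12, true), (2, 78, true), (1, 82, true), (0, 10, true), (4, 56, true), (3, 68, true), (2, 74, true), (1, 79, true), (0, 83, true), (4, 63, true), (3, 74, true), (2, 79, true), (1, 83, true), (0, 11, true), (2, 6, true), (1, 79, true), (0, 83, true), (6, 17, true), (5, 35, true), (4, 62, true), (3, 69, true), (2, 80, true), (1, 84, true), (0, 90, true), (6, 33, true), (5, 61, true), (4, 68, true), (3, 79, true), (2, 83, true), (1, 11, true), (4, 60, true), (3, 69, true), (2, 80, true), (1, 84, true), (0, 12, true), (2, 67, true), (1, 78, true), (0, 82, true), (5, 30, true), (4, 62, true), (3, 69, true), (2, 80, true), (1, 84, true), (0, 89, true), (5, 60, true), (4, 69, true), (3, 80, true), (2, 84, true), (1, 89, true), (0, 12, true), (3, 67, true), (2, 78, true), (1, 82, true), (0, 10, true), (3, 57, true), (2, 68, true), (1, 79, true), (0, 83, true), (3, 64, true), (2, 7, true), (4, 28, true), (3, 62, true), (2, 69, true), (1, 84, true), (0, 90, true),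 (4, 61, true), (3, 68, true), (2, 83, true), (1, 11, true), (3, 60, true), (2, 69, true), (1, 84, true), (0, 12, true), (1, 67, true), (0, 82, true), (3, 59, true), (2, 68, true), (1, 83, true), (0, 88, true), (3, 66, true), (2, 84, true), (1, 89, true), (0, 90, true), (3, 83, true), (2, 88, true), (1, 11, true), (2, 81, true), (1, 89, true), (0, 12, true), (4, 58, true), (3, 65, true), (2, 84, true), (1, 87, true), (0, 89, true), (3, 83, true), (2, 86, true), (1, 88, true), (4, 8, true), (3, 87, true), (2, 89, true), (1, 90, true), (0, 12, true), (4, 55, true), (3, 69, true), (2, 87, true), (1, 89, true), (0, 90, true), (4, 68, true), (3, 86, true), (2, 88, true), (1, 11, true), (3, 5, true), (2, 86, true), (1, 88, true), (6, 16, true), (5, 33, true), (4, 61, true), (3, 86, true), (2, 88, true), (1, 11, true), (3, 60, true), (2, 87, true), (1, 89, true), (0, 12, true), (1, 85, true), (0, 10, true), (2, 31, true), (1, 61, true), (0, 86, true), (2, 60, true), (1, 87, true), (0, 90, true), (2, 85, true), (4, 58, true), (6, 27, true), (5, 61, true), (4, 83, true), (3, 86, true), (2, 88, true),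 (1, 11, true), (4, 60, true), (3, 84, true), (2, 87, true), (1, 89, true), (0, 12, true), (2, 82, true), (1, 85, true), (0, 10, true), (2, 59, true), (1, 83, true), (0, 86, true), (2, 81, true), (1, 87, true), (0, 90, true), (2, 9, true), (1, 90, true), (0, 12, true), (2, 57, true), (1, 83, true), (0, 11, true), (2, 4, true), (3, 13, true), (2, 35, true), (1, 80, true), (0, 84, true), (3, 34, true), (2, 80, true), (1, 84, true), (0, 12, true), (1, 79, true), (0, 83, true), (3, 33, true), (2, 79, true), (1, 83, true), (0, 11, true), (1, 78, true), (0, 82, true), (3, 31, true), (2, 79, true), (1, 83, true), (0, 88, true), (3, 78, true), (2, 82, true), (1, 10, true), (2, 76, true), (1, 8, true), (0, 90, true), (3, 30, true), (2, 80, true), (1, 90, true), (0, 12, true), (1, 78, true), (2, 7, true), (2, 28, true), (1, 89, true), (0, 90, true), (2, 88, true), (1, 11, true), (1, 10, true), (4, 27, true), (3, 68, true), (2, 83, true), (1, 86, true), (4, 67, true), (3, 82, true), (2, 85, true), (5, 66, true), (4, 84, true), (3, 87, true), (2, 89, true), (1, 90, true), (0, 12, true), (3, 83, true),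 (2, 86, true), (1, 88, true), (0, 11, true), (2, 81, true), (1, 87, true), (0, 89, true), (2, 9, true), (1, 89, true), (0, 12, true), (2, 64, true), (5, 1, true), (4, 62, true), (3, 69, true), (2, 80, true), (1, 84, true), (0, 89, true), (5, 61, true), (4, 68, true), (3, 79, true), (2, 83, true), (1, 88, true), (6, 60, true), (5, 69, true), (4, 80, true), (3, 84, true), (2, 89, true), (1, 90, true), (0, 12, true), (4, 67, true), (3, 78, true), (2, 82, true), (1, 10, true), (4, 57, true), (3, 68, true), (2, 79, true), (1, 83, true), (0, 11, true), (2, 64, true), (1, 7, true), (2, 56, true), (1, 68, true), (0, 83, true), (2, 63, true), (1, 83, true), (0, 11, true), (4, 0, true), (3, 61, true), (2, 68, true), (1, 74, true), (0, 83, true), (4, 58, true), (3, 65, true), (2, 75, true), (1, 84, true), (0, 90, true), (3, 74, true), (2, 83, true), (1, 11, true), (2, 71, true), (1, 84, true), (0, 12, true), (0, 83, true), (1, 8, true), (0, 90, true), (4, 56, true), (3, 68, true), (2, 74, true), (1, 11, true), (2, 63, true), (1, 74, true), (2, 6, true), (1, 11, true), (2, 55, true), (1, 69, true),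 (0, 12, true), (0, 68, true), (1, 5, true), (0, 11, true), (0, 4, true)])]

/-- A conjugation. -/
def twoSuzFus4 : Schur.Tails.Fus where
  xs := [[11, 10, 8, 7, 6, 4, 2, 0], [9, 4, 2, 0], [8, 5], [12, 11, 10, 9, 8, 2, 0], [12, 9, 8, 7, 6, 5, 4], [9, 8, 5, 4, 2, 0]]
  ys := [[12, 8, 5], [11, 10, 9, 7, 6, 5], [12, 10, 5, 4], [12, 11, 10, 9, 8, 2, 0], [12, 11, 10, 9, 7, 6, 5], [11, 10, 9, 8, 7, 6]]
  rels := [
    ([0, 0], [], [(7, 23, true), (6, 44, true), (5, 61, true), (4, 74, true), (3, 79, true), (2, 83, true), (1, 88, true), (0, 11, true), (6, 22, true), (5, 45, true), (4, 62, true), (3, 75, true), (2, 80, true), (1, 84, true), (0, 89, true), (6, 44, true), (5, 61, true), (4, 74, true), (3, 79, true), (2, 83, true), (1, 88, true), (7, 43, true), (6, 62, true), (5, 75, true), (4, 80, true), (3, 84, true), (2, 89, true), (1, 90, true), (0, 12, true), (5, 60, true), (4, 75, true), (3, 80, true), (2, 84, true), (1, 89, true), (0, 90, true), (5, 73, true), (4, 80, true), (3, 84, true), (2, 89, true), (1, 90, true), (0, 12, true), (3, 78, true), (2, 82, true), (1, 10, true), (6, 20, true),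 (5, 45, true), (4, 62, true), (3, 75, true), (2, 80, true), (1, 84, true), (0, 90, true), (6, 44, true), (5, 61, true), (4, 74, true), (3, 79, true), (2, 83, true), (1, 11, true), (5, 41, true), (4, 62, true), (3, 75, true), (2, 80, true), (1, 84, true), (0, 12, true), (3, 61, true), (2, 74, true), (1, 79, true), (0, 83, true), (4, 58, true), (3, 71, true), (2, 80, true), (1, 84, true), (0, 90, true), (3, 79, true), (2, 83, true), (1, 11, true), (2, 76, true), (1, 8, true), (0, 12, true), (4, 19, true), (3, 45, true), (2, 62, true), (1, 75, true), (0, 80, true), (4, 40, true), (3, 61, true), (2, 74, true), (1, 79, true), (4, 57, true), (3, 74, true), (2, 79, true), (1, 11, true), (2, 70, true), (1, 79, true), (2, 7, true), (5, 18, true), (4, 45, true), (3, 62, true), (2, 75, true), (1, 90, true), (0, 12, true), (3, 41, true), (2, 62, true), (1, 75, true), (0, 90, true), (3, 61, true), (2, 74, true), (1, 11, true), (2, 58, true), (1, 71, true), (0, 12, true), (4, 40, true), (3, 61, true), (2, 74, true), (1, 83, true), (0, 11, true), (2, 57, true), (1, 74, true), (0, 83, true), (2, 70, true),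 (1, 83, true), (0, 11, true), (4, 39, true), (3, 61, true), (2, 74, true), (1, 79, true), (0, 83, true), (4, 58, true), (3, 71, true), (2, 80, true), (1, 84, true), (0, 90, true), (3, 79, true), (2, 83, true), (1, 11, true), (2, 76, true), (1, 8, true), (0, 12, true), (2, 57, true), (1, 74, true), (0, 79, true), (2, 70, true), (1, 79, true), (0, 11, true), (0, 7, true), (1, 56, true), (0, 74, true), (1, 6, true), (0, 11, true), (2, 16, true), (1, 43, true), (0, 62, true), (1, 60, true), (0, 12, true), (2, 41, true), (1, 62, true), (0, 89, true), (2, 61, true), (1, 88, true), (3, 58, true), (5, 37, true), (4, 62, true), (3, 84, true), (2, 89, true), (1, 90, true), (0, 12, true), (3, 61, true), (2, 83, true), (1, 88, true), (0, 11, true), (2, 60, true), (1, 84, true), (0, 89, true), (2, 82, true), (1, 10, true), (2, 58, true), (1, 8, true), (0, 12, true), (0, 4, true), (1, 14, true), (0, 43, true), (2, 40, true), (1, 88, true), (4, 39, true), (3, 79, true), (2, 88, true), (1, 11, true), (2, 76, true), (3, 7, true), (4, 38, true), (3, 75, true), (2, 84, true), (1, 89, true), (0, 12, true),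 (2, 74, true), (1, 83, true), (0, 88, true), (3, 73, true), (2, 84, true), (1, 89, true), (0, 90, true), (3, 82, true), (2, 10, true), (3, 70, true), (2, 83, true), (1, 11, true), (5, 37, true), (4, 69, true), (3, 75, true), (2, 80, true), (1, 84, true), (0, 12, true), (3, 68, true), (2, 74, true), (1, 79, true), (0, 83, true), (4, 67, true), (3, 73, true), (2, 80, true), (1, 84, true), (0, 90, true), (3, 78, true), (2, 82, true), (6, 65, true), (5, 75, true), (4, 80, true), (3, 84, true), (2, 89, true), (1, 90, true), (0, 12, true), (4, 74, true), (3, 79, true), (2, 83, true), (1, 88, true), (0, 11, true), (3, 71, true), (2, 80, true), (1, 84, true), (0, 89, true), (3, 79, true), (2, 83, true), (1, 88, true), (4, 76, true), (3, 8, true), (2, 89, true), (1, 90, true), (0, 12, true), (6, 2, true), (5, 61, true), (4, 68, true), (3, 74, true), (2, 79, true), (1, 88, true), (0, 11, true), (4, 60, true), (3, 69, true), (2, 75, true), (1, 80, true), (0, 89, true), (4, 67, true), (3, 73, true), (2, 80, true), (1, 89, true), (0, 12, true), (1, 78, true), (0, 10, true), (3, 58, true), (2, 65, true),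 (1, 75, true), (0, 80, true), (2, 74, true), (1, 79, true), (3, 71, true), (2, 80, true), (1, 90, true), (0, 12, true), (1, 79, true), (0, 11, true), (0, 76, true), (4, 57, true), (3, 68, true), (2, 74, true), (1, 79, true), (0, 83, true), (4, 64, true), (3, 70, true), (2, 79, true), (1, 83, true), (0, 11, true), (1, 7, true), (4, 0, true), (3, 61, true), (2, 68, true), (1, 74, true), (0, 83, true), (4, 58, true), (3, 65, true), (2, 75, true), (1, 84, true), (0, 90, true), (3, 74, true), (2, 83, true), (1, 11, true), (2, 71, true), (1, 84, true), (0, 12, true), (0, 83, true), (1, 8, true), (0, 90, true), (4, 56, true), (3, 68, true), (2, 74, true), (1, 11, true), (2, 63, true), (1, 74, true), (2, 6, true), (1, 11, true), (2, 55, true), (1, 69, true), (0, 12, true), (0, 68, true), (1, 5, true), (0, 11, true), (0, 4, true)], [(2, 69, true), (1, 84, true), (0, 12, true), (1, 65, true), (0, 84, true), (1, 83, true), (2, 8, true), (1, 90, true), (0, 12, true), (1, 5, true), (0, 11, true)]),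
    ([1, 1], [], [(3, 21, true), (2, 45, true), (1, 62, true), (0, 87, true), (3, 44, true), (2, 61, true), (1, 86, true), (4, 43, true), (3, 62, true), (2, 87, true), (1, 90, true), (0, 12, true), (2, 60, true), (1, 87, true), (0, 90, true), (2, 85, true), (5, 42, true), (4, 62, true), (3, 87, true), (2, 89, true), (1, 90, true), (0, 12, true), (3, 60, true), (2, 87, true), (1, 89, true), (0, 90, true), (3, 85, true), (2, 10, true), (3, 59, true), (2, 86, true), (1, 11, true), (1, 9, true), (0, 12, true), (2, 16, true), (1, 43, true), (0, 62, true), (1, 60, true), (0, 12, true), (2, 41, true), (1, 62, true), (0, 89, true), (2, 61, true), (1, 88, true), (3, 58, true), (5, 37, true), (4, 62, true), (3, 84, true), (2, 89, true), (1, 90, true), (0, 12, true), (3, 61, true), (2, 83, true), (1, 88, true), (0, 11, true), (2, 60, true), (1, 84, true), (0, 89, true), (2, 82, true), (1, 10, true), (2, 58, true), (1, 8, true), (0, 12, true), (0, 4, true), (1, 14, true), (0, 43, true), (2, 40, true), (1, 88, true), (4, 39, true), (3, 79, true), (2, 88, true), (1, 11, true), (2, 76, true), (3, 7, true),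 (4, 38, true), (3, 75, true), (2, 84, true), (1, 89, true), (0, 12, true), (2, 74, true), (1, 83, true), (0, 88, true), (3, 73, true), (2, 84, true), (1, 89, true), (0, 90, true), (3, 82, true), (2, 10, true), (3, 70, true), (2, 83, true), (1, 11, true), (5, 37, true), (4, 69, true), (3, 75, true), (2, 80, true), (1, 84, true), (0, 12, true), (3, 68, true), (2, 74, true), (1, 79, true), (0, 83, true), (4, 67, true), (3, 73, true), (2, 80, true), (1, 84, true), (0, 90, true), (3, 78, true), (2, 82, true), (6, 65, true), (5, 75, true), (4, 80, true), (3, 84, true), (2, 89, true), (1, 90, true), (0, 12, true), (4, 74, true), (3, 79, true), (2, 83, true), (1, 88, true), (0, 11, true), (3, 71, true), (2, 80, true), (1, 84, true), (0, 89, true), (3, 79, true), (2, 83, true), (1, 88, true), (4, 76, true), (3, 8, true), (2, 89, true), (1, 90, true), (0, 12, true), (6, 2, true), (5, 61, true), (4, 68, true), (3, 74, true), (2, 79, true), (1, 88, true), (0, 11, true), (4, 60, true), (3, 69, true), (2, 75, true), (1, 80, true), (0, 89, true), (4, 67, true), (3, 73, true), (2, 80, true), (1, 89, true),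 (0, 12, true), (1, 78, true), (0, 10, true), (3, 58, true), (2, 65, true), (1, 75, true), (0, 80, true), (2, 74, true), (1, 79, true), (3, 71, true), (2, 80, true), (1, 90, true), (0, 12, true), (1, 79, true), (0, 11, true), (0, 76, true), (4, 57, true), (3, 68, true), (2, 74, true), (1, 79, true), (0, 83, true), (4, 64, true), (3, 70, true), (2, 79, true), (1, 83, true), (0, 11, true), (1, 7, true), (4, 0, true), (3, 61, true), (2, 68, true), (1, 74, true), (0, 83, true), (4, 58, true), (3, 65, true), (2, 75, true), (1, 84, true), (0, 90, true), (3, 74, true), (2, 83, true), (1, 11, true), (2, 71, true), (1, 84, true), (0, 12, true), (0, 83, true), (1, 8, true), (0, 90, true), (4, 56, true), (3, 68, true), (2, 74, true), (1, 11, true), (2, 63, true), (1, 74, true), (2, 6, true), (1, 11, true), (2, 55, true), (1, 69, true), (0, 12, true), (0, 68, true), (1, 5, true), (0, 11, true), (0, 4, true)], [(5, 68, true), (4, 74, true), (3, 79, true), (2, 86, true), (1, 88, true), (0, 11, true), (4, 67, true), (3, 73, true), (2, 80, true), (1, 87, true), (0, 89, true), (3, 78, true), (2, 85, true),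 (1, 10, true), (4, 66, true), (3, 75, true), (2, 80, true), (1, 87, true), (0, 12, true), (2, 74, true), (1, 79, true), (0, 86, true), (3, 72, true), (2, 80, true), (1, 87, true), (0, 90, true), (3, 79, true), (2, 86, true), (1, 11, true), (2, 77, true), (1, 9, true), (0, 12, true), (2, 64, true), (1, 70, true), (0, 79, true), (1, 7, true), (2, 63, true), (1, 74, true), (0, 11, true), (0, 6, true), (1, 5, true), (0, 11, true)]),
    ([2, 2], [], [(1, 65, true), (0, 84, true), (1, 83, true), (2, 8, true), (1, 90, true), (0, 12, true), (1, 5, true), (0, 11, true)], [(3, 62, true), (2, 69, true), (1, 89, true), (0, 12, true), (2, 60, true), (1, 69, true), (0, 89, true), (2, 67, true), (1, 10, true), (2, 55, true), (1, 69, true), (0, 12, true), (0, 68, true), (1, 5, true), (0, 11, true), (0, 4, true)]),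
    ([4, 4], [], [(6, 62, true), (5, 69, true), (4, 75, true), (3, 80, true), (2, 84, true), (1, 87, true), (0, 12, true), (5, 59, true), (4, 68, true), (3, 74, true), (2, 79, true), (1, 83, true), (0, 86, true), (5, 66, true), (4, 75, true), (3, 80, true), (2, 84, true), (1, 87, true), (0, 90, true), (5, 74, true), (4, 79, true), (3, 83, true), (2, 86, true), (1, 11, true), (4, 72, true), (3, 80, true), (2, 84, true), (1, 87, true), (0, 12, true), (2, 79, true), (1, 83, true), (0, 86, true), (3, 77, true), (2, 81, true), (1, 87, true), (0, 90, true), (2, 9, true), (1, 90, true), (0, 12, true), (5, 58, true), (4, 65, true), (3, 75, true), (2, 80, true), (1, 84, true), (0, 90, true), (4, 74, true), (3, 79, true), (2, 83, true), (1, 11, true), (3, 71, true), (2, 80, true), (1, 84, true), (0, 12, true), (1, 79, true), (0, 83, true), (2, 76, true), (1, 8, true), (0, 90, true), (5, 57, true), (4, 68, true), (3, 74, true), (2, 79, true), (1, 11, true), (3, 64, true), (2, 70, true), (1, 79, true), (2, 7, true), (4, 56, true), (3, 68, true), (2, 74, true), (1, 11, true), (2, 63, true), (1, 74, true),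 (2, 6, true), (1, 11, true), (2, 55, true), (1, 69, true), (0, 12, true), (0, 68, true), (1, 5, true), (0, 11, true), (0, 4, true)], [(6, 69, true), (5, 75, true), (4, 80, true), (3, 87, true), (2, 89, true), (1, 90, true), (0, 12, true), (5, 68, true), (4, 74, true), (3, 79, true), (2, 86, true), (1, 88, true), (0, 11, true), (4, 67, true), (3, 73, true), (2, 80, true), (1, 87, true), (0, 89, true), (3, 78, true), (2, 85, true), (1, 10, true), (4, 66, true), (3, 75, true), (2, 80, true), (1, 87, true), (0, 12, true), (2, 74, true), (1, 79, true), (0, 86, true), (3, 72, true), (2, 80, true), (1, 87, true), (0, 90, true), (3, 79, true), (2, 86, true), (1, 11, true), (2, 77, true), (1, 9, true), (0, 12, true), (2, 64, true), (1, 70, true), (0, 79, true), (1, 7, true), (2, 63, true), (1, 74, true), (0, 11, true), (0, 6, true), (1, 5, true), (0, 11, true)]),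
    ([0, 1], [1, 0], [(7, 21, true), (6, 45, true), (5, 62, true), (4, 75, true), (3, 80, true), (2, 84, true), (1, 89, true), (0, 90, true), (7, 44, true), (6, 61, true), (5, 74, true), (4, 79, true), (3, 83, true), (2, 88, true), (1, 11, true), (6, 43, true), (5, 62, true), (4, 75, true), (3, 80, true), (2, 84, true), (1, 89, true), (0, 12, true), (4, 60, true), (3, 75, true), (2, 80, true), (1, 84, true), (0, 89, true), (4, 73, true), (3, 80, true), (2, 84, true), (1, 89, true), (0, 12, true), (2, 78, true), (1, 82, true), (0, 10, true), (4, 42, true), (3, 62, true), (2, 75, true), (1, 80, true), (0, 84, true), (4, 60, true), (3, 75, true), (2, 80, true), (1, 84, true), (0, 12, true), (2, 73, true), (1, 80, true), (0, 84, true), (2, 78, true), (1, 82, true), (5, 59, true), (4, 74, true), (3, 79, true), (2, 83, true), (1, 88, true), (5, 72, true), (4, 80, true), (3, 84, true), (2, 89, true), (1, 90, true), (0, 12, true), (3, 79, true), (2, 83, true), (1, 88, true), (0, 11, true), (2, 77, true), (1, 81, true), (0, 89, true), (8, 16, true), (7, 43, true), (6, 62, true), (5, 75, true), (4,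 80, true), (3, 84, true), (2, 87, true), (1, 89, true), (0, 12, true), (5, 60, true), (4, 75, true), (3, 80, true), (2, 84, true), (1, 87, true), (0, 89, true), (5, 73, true), (4, 80, true), (3, 84, true), (2, 87, true), (1, 89, true), (0, 12, true), (3, 78, true), (2, 82, true), (1, 85, true), (0, 10, true), (5, 41, true), (4, 62, true), (3, 75, true), (2, 80, true), (1, 84, true), (0, 87, true), (5, 61, true), (4, 74, true), (3, 79, true), (2, 83, true), (1, 86, true), (6, 58, true), (5, 71, true), (4, 80, true), (3, 84, true), (2, 87, true), (1, 90, true), (0, 12, true), (3, 79, true), (2, 83, true), (1, 86, true), (0, 11, true), (2, 76, true), (1, 8, true), (0, 87, true), (5, 37, true), (4, 62, true), (3, 75, true), (2, 80, true), (1, 87, true), (0, 12, true), (3, 61, true), (2, 74, true), (1, 79, true), (0, 86, true), (4, 60, true), (3, 75, true), (2, 80, true), (1, 87, true), (0, 90, true), (4, 73, true), (3, 80, true), (2, 87, true), (1, 90, true), (0, 12, true), (2, 78, true), (1, 85, true), (5, 58, true), (4, 71, true), (3, 80, true), (2, 87, true), (1, 89, true), (0, 90, true),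 (4, 79, true), (3, 86, true), (2, 88, true), (1, 11, true), (3, 76, true), (6, 4, true), (7, 14, true), (6, 43, true), (5, 75, true), (4, 80, true), (3, 84, true), (2, 87, true), (1, 89, true), (0, 12, true), (4, 73, true), (3, 80, true), (2, 84, true), (1, 87, true), (0, 89, true), (4, 78, true), (3, 82, true), (2, 85, true), (1, 10, true), (5, 40, true), (4, 74, true), (3, 79, true), (2, 83, true), (1, 86, true), (5, 70, true), (4, 79, true), (3, 83, true), (2, 86, true), (1, 11, true), (3, 7, true), (4, 39, true), (3, 74, true), (2, 83, true), (1, 86, true), (4, 71, true), (3, 84, true), (2, 87, true), (1, 90, true), (0, 12, true), (2, 83, true), (1, 86, true), (0, 11, true), (1, 8, true), (0, 87, true), (2, 70, true), (1, 86, true), (4, 6, true), (3, 79, true), (2, 86, true), (1, 11, true), (3, 38, true), (2, 80, true), (1, 87, true), (0, 12, true), (1, 79, true), (0, 86, true), (2, 78, true), (1, 85, true), (3, 7, true), (4, 37, true), (3, 69, true), (2, 87, true), (1, 89, true), (0, 90, true), (4, 68, true), (3, 86, true), (2, 88, true), (1, 11, true), (3, 67, true), (2, 85, true),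 (1, 10, true), (2, 65, true), (1, 87, true), (0, 12, true), (0, 86, true), (5, 2, true), (4, 61, true), (3, 68, true), (2, 83, true), (1, 86, true), (0, 11, true), (3, 60, true), (2, 69, true), (1, 84, true), (0, 87, true), (3, 67, true), (2, 82, true), (1, 85, true), (5, 58, true), (4, 65, true), (3, 84, true), (2, 87, true), (1, 89, true), (0, 12, true), (2, 83, true), (1, 86, true), (0, 88, true), (3, 8, true), (2, 87, true), (1, 89, true), (0, 90, true), (5, 57, true), (4, 68, true), (3, 86, true), (2, 88, true), (1, 11, true), (3, 64, true), (6, 0, true), (5, 61, true), (4, 68, true), (3, 79, true), (2, 86, true), (1, 88, true), (6, 58, true), (5, 65, true), (4, 80, true), (3, 87, true), (2, 89, true), (1, 90, true), (0, 12, true), (3, 79, true), (2, 86, true), (1, 88, true), (0, 11, true), (2, 76, true), (5, 56, true), (4, 68, true), (3, 79, true), (2, 83, true), (1, 86, true), (0, 88, true), (5, 63, true), (4, 79, true), (3, 83, true), (2, 86, true), (1, 88, true), (0, 11, true), (6, 55, true), (5, 69, true), (4, 75, true), (3, 80, true), (2, 84, true), (1, 87, true), (0, 89, true),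 (6, 68, true), (5, 74, true), (4, 79, true), (3, 83, true), (2, 86, true), (1, 88, true), (7, 5, true), (6, 74, true), (5, 79, true), (4, 83, true), (3, 86, true), (2, 88, true), (1, 11, true), (6, 4, true), (6, 4, false), (1, 11, false), (2, 88, false), (3, 86, false), (4, 83, false), (5, 79, false), (6, 74, false), (7, 5, false), (1, 88, false), (2, 86, false), (3, 83, false), (4, 79, false), (5, 74, false), (6, 68, false), (0, 89, false), (1, 87, false), (2, 84, false), (3, 80, false), (4, 75, false), (5, 69, false), (6, 55, false), (0, 11, false), (1, 88, false), (2, 86, false), (3, 83, false), (4, 79, false), (5, 63, false), (0, 88, false), (1, 86, false), (2, 83, false), (3, 79, false), (4, 68, false), (5, 56, false), (2, 76, false), (0, 11, false), (1, 88, false), (2, 86, false), (3, 79, false), (0, 12, false), (1, 90, false), (2, 89, false), (3, 87, false), (4, 80, false), (5, 65, false), (6, 58, false), (1, 88, false), (2, 86, false), (3, 79, false), (4, 68, false), (5, 61, false), (6, 0, false), (3, 64, false), (1, 11, false), (2, 88, false), (3, 86, false), (4, 68, false), (5,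 57, false), (0, 90, false), (1, 89, false), (2, 87, false), (3, 8, false), (0, 88, false), (1, 86, false), (2, 83, false), (0, 12, false), (1, 89, false), (2, 87, false), (3, 84, false), (4, 65, false), (5, 58, false), (1, 85, false), (2, 82, false), (3, 67, false), (0, 87, false), (1, 84, false), (2, 69, false), (3, 60, false), (0, 11, false), (1, 86, false), (2, 83, false), (3, 68, false), (4, 61, false), (5, 2, false), (0, 86, false), (0, 12, false), (1, 87, false), (2, 65, false), (1, 10, false), (2, 85, false), (3, 67, false), (1, 11, false), (2, 88, false), (3, 86, false), (4, 68, false), (0, 90, false), (1, 89, false), (2, 87, false), (3, 69, false), (4, 37, false), (3, 7, false), (1, 85, false), (2, 78, false), (0, 86, false), (1, 79, false), (0, 12, false), (1, 87, false), (2, 80, false), (3, 38, false), (1, 11, false), (2, 86, false), (3, 79, false), (4, 6, false), (1, 86, false), (2, 70, false), (0, 87, false), (1, 8, false), (0, 11, false), (1, 86, false), (2, 83, false), (0, 12, false), (1, 90, false), (2, 87, false), (3, 84, false), (4, 71, false), (1, 86, false), (2, 83, false),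 (3, 74, false), (4, 39, false), (3, 7, false), (1, 11, false), (2, 86, false), (3, 83, false), (4, 79, false), (5, 70, false), (1, 86, false), (2, 83, false), (3, 79, false), (4, 74, false), (5, 40, false), (1, 10, false), (2, 85, false), (3, 82, false), (4, 78, false), (0, 89, false), (1, 87, false), (2, 84, false), (3, 80, false), (4, 73, false), (0, 12, false), (1, 89, false), (2, 87, false), (3, 84, false), (4, 80, false), (5, 75, false), (6, 43, false), (7, 14, false), (6, 4, false), (3, 76, false), (1, 11, false), (2, 88, false), (3, 86, false), (4, 79, false), (0, 90, false), (1, 89, false), (2, 87, false), (3, 80, false), (4, 71, false), (5, 58, false), (1, 85, false), (2, 78, false), (0, 12, false), (1, 90, false), (2, 87, false), (3, 80, false), (4, 73, false), (0, 90, false), (1, 87, false), (2, 80, false), (3, 75, false), (4, 60, false), (0, 86, false), (1, 79, false), (2, 74, false), (3, 61, false), (0, 12, false), (1, 87, false), (2, 80, false), (3, 75, false), (4, 62, false), (5, 37, false), (0, 87, false), (1, 8, false), (2, 76, false), (0, 11, false), (1, 86, false), (2,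 83, false), (3, 79, false), (0, 12, false), (1, 90, false), (2, 87, false), (3, 84, false), (4, 80, false), (5, 71, false), (6, 58, false), (1, 86, false), (2, 83, false), (3, 79, false), (4, 74, false), (5, 61, false), (0, 87, false), (1, 84, false), (2, 80, false), (3, 75, false), (4, 62, false), (5, 41, false), (0, 10, false), (1, 85, false), (2, 82, false), (3, 78, false), (0, 12, false), (1, 89, false), (2, 87, false), (3, 84, false), (4, 80, false), (5, 73, false), (0, 89, false), (1, 87, false), (2, 84, false), (3, 80, false), (4, 75, false), (5, 60, false), (0, 12, false), (1, 89, false), (2, 87, false), (3, 84, false), (4, 80, false), (5, 75, false), (6, 62, false), (7, 43, false), (8, 16, false), (1, 11, false), (2, 88, false), (3, 86, false), (4, 83, false), (5, 79, false), (6, 56, false), (1, 88, false), (2, 86, false), (3, 83, false), (4, 57, false), (3, 58, false), (1, 11, false), (2, 88, false), (3, 86, false), (4, 61, false), (5, 39, false), (4, 7, false), (1, 88, false), (2, 86, false), (3, 79, false), (4, 57, false), (1, 11, false), (2, 88, false), (3, 86, false), (4, 79,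 false), (5, 61, false), (6, 40, false), (0, 90, false), (1, 89, false), (2, 87, false), (3, 8, false), (4, 76, false), (5, 58, false), (0, 88, false), (1, 86, false), (2, 83, false), (3, 79, false), (4, 61, false), (0, 12, false), (1, 89, false), (2, 87, false), (3, 84, false), (4, 80, false), (5, 62, false), (6, 41, false), (0, 89, false), (1, 87, false), (2, 84, false), (3, 80, false), (4, 62, false), (5, 45, false), (6, 18, false), (0, 11, false), (1, 88, false), (2, 86, false), (3, 83, false), (4, 57, false), (0, 88, false), (1, 86, false), (2, 83, false), (3, 61, false), (4, 40, false), (0, 12, false), (1, 89, false), (2, 87, false), (3, 84, false), (4, 62, false), (5, 45, false), (6, 19, false), (3, 58, false), (1, 11, false), (2, 88, false), (3, 86, false), (4, 61, false), (0, 90, false), (1, 89, false), (2, 87, false), (3, 62, false), (4, 41, false), (0, 88, false), (1, 86, false), (2, 61, false), (3, 44, false), (0, 12, false), (1, 89, false), (2, 87, false), (3, 62, false), (4, 45, false), (5, 20, false), (1, 85, false), (0, 87, false), (1, 60, false), (0, 12, false), (1, 87, false),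 (2, 62, false), (3, 43, false), (1, 11, false), (2, 86, false), (3, 61, false), (4, 44, false), (0, 90, false), (1, 87, false), (2, 62, false), (3, 45, false), (4, 22, false), (0, 86, false), (1, 61, false), (2, 44, false), (3, 23, false)], [(2, 68, true), (1, 83, true), (3, 67, true), (2, 82, true), (4, 66, true), (3, 84, true), (2, 89, true), (1, 90, true), (0, 12, true), (2, 83, true), (1, 88, true), (0, 11, true), (1, 81, true), (0, 89, true), (4, 64, true), (5, 63, true), (4, 79, true), (3, 83, true), (2, 86, true), (1, 88, true), (7, 5, true), (6, 74, true), (5, 79, true), (4, 83, true), (3, 86, true), (2, 88, true), (1, 11, true), (1, 11, false), (2, 88, false), (3, 86, false), (4, 83, false), (5, 79, false), (6, 74, false), (7, 5, false), (4, 76, false), (1, 88, false), (2, 86, false), (3, 79, false), (0, 89, false), (1, 87, false), (2, 80, false), (3, 71, false), (0, 11, false), (1, 88, false), (2, 86, false), (3, 79, false), (4, 74, false), (0, 12, false), (1, 90, false), (2, 89, false), (3, 87, false), (4, 80, false), (5, 75, false), (6, 65, false), (0, 90, false), (1, 89, false),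 (2, 87, false), (3, 80, false), (4, 75, false), (5, 69, false)]),
    ([0, 2], [2, 0], [(7, 20, true), (6, 45, true), (5, 62, true), (4, 75, true), (3, 80, true), (2, 84, true), (1, 89, true), (0, 90, true), (7, 44, true), (6, 61, true), (5, 74, true), (4, 79, true), (3, 83, true), (2, 88, true), (1, 11, true), (6, 41, true), (5, 62, true), (4, 75, true), (3, 80, true), (2, 84, true), (1, 89, true), (0, 12, true), (4, 61, true), (3, 74, true), (2, 79, true), (1, 83, true), (0, 88, true), (5, 58, true), (4, 71, true), (3, 80, true), (2, 84, true), (1, 89, true), (0, 90, true), (4, 79, true), (3, 83, true), (2, 88, true), (1, 11, true), (3, 76, true), (2, 8, true), (1, 89, true), (0, 12, true), (5, 17, true), (4, 45, true), (3, 62, true), (2, 75, true), (1, 80, true), (0, 89, true), (5, 43, true), (4, 62, true), (3, 75, true), (2, 80, true), (1, 89, true), (0, 12, true), (3, 60, true), (2, 75, true), (1, 80, true), (0, 89, true), (3, 73, true), (2, 80, true), (1, 89, true), (0, 12, true), (1, 78, true), (0, 10, true), (3, 40, true), (2, 61, true), (1, 74, true), (0, 79, true), (3, 57, true),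 (2, 74, true), (1, 79, true), (0, 11, true), (1, 70, true), (0, 79, true), (1, 7, true), (3, 38, true), (2, 62, true), (1, 75, true), (0, 90, true), (3, 61, true), (2, 74, true), (1, 11, true), (2, 60, true), (1, 75, true), (0, 12, true), (0, 73, true), (3, 57, true), (2, 74, true), (1, 88, true), (3, 70, true), (2, 88, true), (1, 11, true), (4, 55, true), (3, 75, true), (2, 80, true), (1, 89, true), (0, 12, true), (2, 74, true), (1, 79, true), (0, 88, true), (0, 88, false), (1, 79, false), (2, 63, false), (1, 64, false), (0, 12, false), (1, 89, false), (2, 8, false), (1, 11, false), (2, 88, false), (3, 83, false), (0, 90, false), (1, 89, false), (2, 84, false), (3, 65, false), (1, 82, false), (2, 67, false), (0, 83, false), (1, 68, false)], [(2, 69, true), (1, 84, true), (0, 12, true), (1, 67, true), (0, 82, true), (2, 5, true), (1, 83, true), (0, 88, true), (0, 88, false), (1, 83, false), (2, 5, false), (0, 11, false), (1, 88, false), (2, 83, false), (3, 68, false), (0, 12, false), (1, 90, false), (2, 89, false), (3, 84, false), (4, 69, false), (5, 55, false), (1, 88, false), (0, 89, false),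 (1, 65, false), (2, 58, false), (0, 12, false), (1, 89, false), (2, 69, false), (3, 62, false)]),
    ([0, 3], [3, 0], [(7, 24, true), (6, 45, true), (5, 62, true), (4, 75, true), (3, 80, true), (2, 84, true), (1, 89, true), (0, 90, true), (8, 23, true), (7, 44, true), (6, 61, true), (5, 74, true), (4, 79, true), (3, 83, true), (2, 88, true), (1, 11, true), (7, 22, true), (6, 45, true), (5, 62, true), (4, 75, true), (3, 80, true), (2, 84, true), (1, 89, true), (0, 12, true), (5, 44, true), (4, 61, true), (3, 74, true), (2, 79, true), (1, 83, true), (0, 88, true), (6, 43, true), (5, 62, true), (4, 75, true), (3, 80, true), (2, 84, true), (1, 89, true), (0, 90, true), (6, 60, true), (5, 75, true), (4, 80, true), (3, 84, true), (2, 89, true), (1, 90, true), (0, 12, true), (4, 73, true), (3, 80, true), (2, 84, true), (1, 89, true), (0, 90, true), (4, 78, true), (3, 82, true), (2, 10, true), (7, 21, true), (6, 45, true), (5, 62, true), (4, 75, true), (3, 80, true), (2, 84, true), (1, 90, true), (0, 12, true), (5, 44, true), (4, 61, true), (3, 74, true), (2, 79, true), (1, 83, true), (0, 11, true),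 (4, 43, true), (3, 62, true), (2, 75, true), (1, 80, true), (0, 84, true), (4, 60, true), (3, 75, true), (2, 80, true), (1, 84, true), (0, 12, true), (2, 73, true), (1, 80, true), (0, 84, true), (2, 78, true), (1, 82, true), (6, 42, true), (5, 62, true), (4, 75, true), (3, 80, true), (2, 84, true), (1, 89, true), (0, 12, true), (4, 60, true), (3, 75, true), (2, 80, true), (1, 84, true), (0, 89, true), (4, 73, true), (3, 80, true), (2, 84, true), (1, 89, true), (0, 12, true), (2, 78, true), (1, 82, true), (0, 10, true), (3, 59, true), (2, 74, true), (1, 79, true), (0, 83, true), (3, 72, true), (2, 80, true), (1, 84, true), (0, 90, true), (3, 79, true), (2, 83, true), (1, 11, true), (2, 77, true), (1, 81, true), (0, 12, true), (6, 20, true), (5, 45, true), (4, 62, true), (3, 75, true), (2, 80, true), (1, 84, true), (0, 87, true), (6, 44, true), (5, 61, true), (4, 74, true), (3, 79, true), (2, 83, true), (1, 86, true), (7, 41, true), (6, 62, true), (5, 75, true), (4, 80, true), (3, 84, true), (2, 87, true), (1, 90, true), (0, 12, true), (5, 61, true), (4, 74, true), (3, 79, true), (2, 83, true),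 (1, 86, true), (0, 11, true), (4, 58, true), (3, 71, true), (2, 80, true), (1, 84, true), (0, 87, true), (3, 79, true), (2, 83, true), (1, 86, true), (4, 76, true), (3, 8, true), (2, 87, true), (1, 90, true), (0, 12, true), (6, 14, true), (5, 43, true), (4, 62, true), (3, 75, true), (2, 80, true), (1, 87, true), (0, 90, true), (5, 60, true), (4, 75, true), (3, 80, true), (2, 87, true), (1, 90, true), (0, 12, true), (3, 73, true), (2, 80, true), (1, 87, true), (0, 90, true), (3, 78, true), (2, 85, true), (7, 40, true), (6, 61, true), (5, 74, true), (4, 79, true), (3, 86, true), (2, 88, true), (1, 11, true), (5, 57, true), (4, 74, true), (3, 79, true), (2, 86, true), (1, 88, true), (5, 70, true), (4, 79, true), (3, 86, true), (2, 88, true), (1, 11, true), (3, 7, true), (5, 39, true), (4, 61, true), (3, 74, true), (2, 86, true), (1, 88, true), (5, 58, true), (4, 71, true), (3, 87, true), (2, 89, true), (1, 90, true), (0, 12, true), (2, 86, true), (1, 88, true), (0, 11, true), (4, 57, true), (3, 74, true), (2, 83, true), (1, 86, true), (0, 88, true), (4, 70, true), (3, 83, true), (2, 86, true),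 (1, 88, true), (0, 11, true), (5, 56, true), (4, 74, true), (3, 79, true), (2, 83, true), (1, 86, true), (0, 88, true), (5, 6, true), (4, 79, true), (3, 83, true), (2, 86, true), (1, 88, true), (0, 11, true), (5, 38, true), (4, 62, true), (3, 80, true), (2, 84, true), (1, 87, true), (0, 89, true), (5, 61, true), (4, 79, true), (3, 83, true), (2, 86, true), (1, 88, true), (6, 60, true), (5, 80, true), (4, 84, true), (3, 87, true), (2, 89, true), (1, 90, true), (0, 12, true), (4, 78, true), (3, 82, true), (2, 85, true), (1, 10, true), (4, 57, true), (3, 79, true), (2, 83, true), (1, 86, true), (0, 11, true), (2, 7, true), (2, 55, true), (1, 84, true), (0, 87, true), (2, 83, true), (1, 86, true), (6, 37, true), (5, 62, true), (4, 69, true), (3, 84, true), (2, 87, true), (1, 90, true), (0, 12, true), (4, 61, true), (3, 68, true), (2, 83, true), (1, 86, true), (0, 11, true), (3, 60, true), (2, 69, true), (1, 84, true), (0, 87, true), (3, 67, true), (2, 82, true), (1, 85, true), (5, 58, true), (4, 65, true), (3, 84, true), (2, 87, true), (1, 89, true), (0, 12, true), (2, 83, true), (1, 86, true),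 (0, 88, true), (3, 8, true), (2, 87, true), (1, 89, true), (0, 90, true), (5, 4, true), (5, 2, true), (4, 68, true), (3, 86, true), (2, 88, true), (1, 11, true), (3, 67, true), (2, 85, true), (1, 10, true), (2, 65, true), (1, 87, true), (0, 12, true), (0, 86, true), (3, 64, true), (5, 0, true), (4, 68, true), (3, 79, true), (2, 83, true), (1, 86, true), (0, 11, true), (3, 65, true), (2, 80, true), (1, 84, true), (0, 87, true), (3, 79, true), (2, 83, true), (1, 86, true), (4, 76, true), (3, 8, true), (2, 87, true), (1, 90, true), (0, 12, true), (3, 63, true), (2, 79, true), (1, 86, true), (0, 11, true), (3, 5, true), (2, 74, true), (1, 79, true), (0, 86, true), (0, 86, false), (1, 79, false), (2, 74, false), (3, 5, false), (0, 11, false), (1, 86, false), (2, 79, false), (3, 63, false), (0, 12, false), (1, 90, false), (2, 87, false), (3, 8, false), (4, 76, false), (1, 86, false), (2, 83, false), (3, 79, false), (0, 87, false), (1, 84, false), (2, 80, false), (3, 65, false), (0, 11, false), (1, 86, false), (2, 83, false), (3, 79, false), (4, 68, false), (5, 0, false), (3, 64, false), (0, 86,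 false), (0, 12, false), (1, 87, false), (2, 65, false), (1, 10, false), (2, 85, false), (3, 67, false), (1, 11, false), (2, 88, false), (3, 86, false), (4, 68, false), (5, 2, false), (5, 4, false), (0, 90, false), (1, 89, false), (2, 87, false), (3, 8, false), (0, 88, false), (1, 86, false), (2, 83, false), (0, 12, false), (1, 89, false), (2, 87, false), (3, 84, false), (4, 65, false), (5, 58, false), (1, 85, false), (2, 82, false), (3, 67, false), (0, 87, false), (1, 84, false), (2, 69, false), (3, 60, false), (0, 11, false), (1, 86, false), (2, 83, false), (3, 68, false), (4, 61, false), (0, 12, false), (1, 90, false), (2, 87, false), (3, 84, false), (4, 69, false), (5, 62, false), (6, 37, false), (1, 86, false), (2, 83, false), (0, 87, false), (1, 84, false), (2, 55, false), (2, 7, false), (0, 11, false), (1, 86, false), (2, 83, false), (3, 79, false), (4, 57, false), (1, 10, false), (2, 85, false), (3, 82, false), (4, 78, false), (0, 12, false), (1, 90, false), (2, 89, false), (3, 87, false), (4, 84, false), (5, 80, false), (6, 60, false), (1, 88, false), (2, 86, false), (3, 83, false),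 (4, 79, false), (5, 61, false), (0, 89, false), (1, 87, false), (2, 84, false), (3, 80, false), (4, 62, false), (5, 38, false), (0, 11, false), (1, 88, false), (2, 86, false), (3, 83, false), (4, 79, false), (5, 6, false), (0, 88, false), (1, 86, false), (2, 83, false), (3, 79, false), (4, 74, false), (5, 56, false), (0, 11, false), (1, 88, false), (2, 86, false), (3, 83, false), (4, 70, false), (0, 88, false), (1, 86, false), (2, 83, false), (3, 74, false), (4, 57, false), (0, 11, false), (1, 88, false), (2, 86, false), (0, 12, false), (1, 90, false), (2, 89, false), (3, 87, false), (4, 71, false), (5, 58, false), (1, 88, false), (2, 86, false), (3, 74, false), (4, 61, false), (5, 39, false), (3, 7, false), (1, 11, false), (2, 88, false), (3, 86, false), (4, 79, false), (5, 70, false), (1, 88, false), (2, 86, false), (3, 79, false), (4, 74, false), (5, 57, false), (1, 11, false), (2, 88, false), (3, 86, false), (4, 79, false), (5, 74, false), (6, 61, false), (7, 40, false), (2, 85, false), (3, 78, false), (0, 90, false), (1, 87, false), (2, 80, false), (3, 73, false), (0, 12, false), (1,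 90, false), (2, 87, false), (3, 80, false), (4, 75, false), (5, 60, false), (0, 90, false), (1, 87, false), (2, 80, false), (3, 75, false), (4, 62, false), (5, 43, false), (6, 14, false), (0, 12, false), (1, 90, false), (2, 87, false), (3, 8, false), (4, 76, false), (1, 86, false), (2, 83, false), (3, 79, false), (0, 87, false), (1, 84, false), (2, 80, false), (3, 71, false), (0, 10, false), (1, 85, false), (2, 82, false), (3, 78, false), (0, 12, false), (1, 89, false), (2, 87, false), (3, 84, false), (4, 80, false), (5, 73, false), (1, 11, false), (2, 88, false), (3, 86, false), (4, 83, false), (5, 79, false), (6, 74, false), (0, 90, false), (1, 89, false), (2, 87, false), (3, 84, false), (4, 80, false), (5, 75, false), (6, 37, false), (3, 76, false), (0, 88, false), (1, 86, false), (2, 79, false), (0, 12, false), (1, 89, false), (2, 87, false), (3, 80, false), (4, 71, false), (1, 11, false), (2, 88, false), (3, 86, false), (4, 79, false), (5, 74, false), (0, 90, false), (1, 89, false), (2, 87, false), (3, 80, false), (4, 75, false), (5, 41, false), (1, 85, false), (2, 78, false), (0, 12,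 false), (1, 90, false), (2, 87, false), (3, 80, false), (4, 73, false), (0, 90, false), (1, 87, false), (2, 80, false), (3, 75, false), (4, 43, false), (5, 16, false), (0, 12, false), (1, 90, false), (2, 87, false), (3, 8, false), (1, 86, false), (2, 83, false), (3, 39, false), (3, 7, false), (1, 11, false), (2, 86, false), (3, 83, false), (4, 79, false), (5, 40, false), (3, 76, false), (1, 86, false), (2, 79, false), (0, 87, false), (1, 80, false), (2, 41, false), (0, 12, false), (1, 87, false), (2, 80, false), (3, 45, false), (4, 18, false), (1, 11, false), (2, 86, false), (3, 40, false), (0, 90, false), (1, 87, false), (2, 45, false), (3, 19, false), (0, 12, false), (1, 90, false), (2, 87, false), (3, 8, false), (1, 86, false), (2, 83, false), (0, 87, false), (1, 84, false), (2, 41, false), (0, 11, false), (1, 86, false), (2, 83, false), (3, 44, false), (0, 12, false), (1, 90, false), (2, 87, false), (3, 84, false), (4, 45, false), (5, 20, false), (2, 10, false), (3, 85, false), (4, 82, false), (0, 90, false), (1, 89, false), (2, 87, false), (3, 84, false), (4, 43, false), (0, 88, false),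 (1, 86, false), (2, 83, false), (3, 44, false), (0, 12, false), (1, 89, false), (2, 87, false), (3, 84, false), (4, 45, false), (5, 22, false), (1, 11, false), (2, 88, false), (3, 86, false), (4, 83, false), (5, 44, false), (6, 23, false)], [(2, 69, true), (1, 84, true), (0, 12, true), (1, 68, true), (0, 83, true), (2, 67, true), (1, 82, true), (3, 66, true), (2, 84, true), (1, 89, true), (0, 90, true), (3, 83, true), (2, 88, true), (1, 11, true), (2, 81, true), (1, 89, true), (0, 12, true), (3, 65, true), (2, 84, true), (1, 87, true), (0, 89, true), (3, 83, true), (2, 86, true), (1, 88, true), (4, 8, true), (3, 87, true), (2, 89, true), (1, 90, true), (0, 12, true), (3, 7, false), (1, 85, false), (2, 78, false), (0, 86, false), (1, 79, false), (0, 12, false), (1, 87, false), (2, 80, false), (3, 38, false), (1, 11, false), (2, 86, false), (3, 40, false), (2, 10, false), (3, 85, false), (0, 90, false), (1, 89, false), (2, 87, false), (3, 43, false), (0, 12, false), (1, 90, false), (2, 89, false), (3, 87, false), (4, 45, false), (5, 17, false), (0, 90, false), (1, 89, false), (2, 87, false),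 (3, 8, false), (0, 88, false), (1, 86, false), (2, 83, false), (0, 12, false), (1, 89, false), (2, 87, false), (3, 84, false), (4, 41, false), (1, 11, false), (2, 88, false), (3, 86, false), (4, 83, false), (5, 44, false), (0, 90, false), (1, 89, false), (2, 87, false), (3, 84, false), (4, 45, false), (5, 20, false), (0, 12, false), (1, 90, false), (2, 89, false), (3, 87, false), (4, 84, false), (5, 45, false), (6, 24, false)])]

/-- A conjugation. -/
def twoSuzFus5 : Schur.Tails.Fus where
  xs := [[12, 11, 8, 7, 6, 4, 3, 2, 0], [12, 10, 9, 7, 5, 3, 2, 0], [8, 6, 5, 4], [12, 10, 9, 8, 7, 4, 3, 0], [12, 11, 10, 9, 7, 6, 3, 0], [12, 11, 10, 8, 7, 6, 5, 3, 0], [10], [11, 7], [10, 7], [12, 11]]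
  ys := [[12, 11, 8, 6, 4, 3, 2, 0], [12, 7, 5, 4, 2], [12, 10, 9, 6, 5, 2], [10, 9, 8, 7, 6, 5, 4], [12, 11, 10, 9, 6, 3, 0], [12, 10, 8], [10, 7], [12, 11, 10], [10], [11, 10]]
  rels := [
    ([0, 0], [9, 8, 7], [(8, 24, true), (7, 45, true), (6, 54, true), (5, 62, true), (4, 75, true), (3, 80, true), (2, 84, true), (1, 90, true), (0, 12, true), (7, 23, true), (6, 44, true), (5, 53, true), (4, 61, true), (3, 74, true), (2, 79, true), (1, 83, true), (0, 11, true), (6, 20, true), (5, 45, true), (4, 54, true), (3, 62, true), (2, 75, true), (1, 80, true), (0, 84, true), (6, 44, true), (5, 53, true), (4, 61, true), (3, 74, true), (2, 79, true), (1, 83, true), (7, 41, true), (6, 54, true), (5, 62, true), (4, 75, true), (3, 80, true), (2, 84, true), (1, 90, true), (0, 12, true), (5, 53, true), (4, 61, true), (3, 74, true), (2, 79, true), (1, 83, true), (0, 11, true), (4, 50, true), (3, 62, true), (2, 75, true), (1, 80, true), (0, 84, true), (4, 61, true), (3, 74, true), (2, 79, true), (1, 83, true), (5, 60, true), (4, 75, true), (3, 80, true), (2, 84, true), (1, 90, true), (0, 12, true), (3,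 73, true), (2, 80, true), (1, 84, true), (0, 90, true), (3, 78, true), (2, 82, true), (6, 58, true), (5, 71, true), (4, 80, true), (3, 84, true), (2, 89, true), (1, 90, true), (0, 12, true), (3, 79, true), (2, 83, true), (1, 88, true), (0, 11, true), (2, 76, true), (1, 8, true), (0, 89, true), (7, 19, true), (6, 45, true), (5, 54, true), (4, 62, true), (3, 75, true), (2, 80, true), (1, 89, true), (0, 12, true), (5, 40, true), (4, 53, true), (3, 61, true), (2, 74, true), (1, 79, true), (0, 88, true), (5, 49, true), (4, 62, true), (3, 75, true), (2, 80, true), (1, 89, true), (0, 90, true), (5, 61, true), (4, 74, true), (3, 79, true), (2, 88, true), (1, 11, true), (4, 57, true), (3, 74, true), (2, 79, true), (1, 88, true), (4, 70, true), (3, 79, true), (2, 88, true), (1, 11, true), (2, 7, true), (6, 18, true), (5, 45, true), (4, 54, true), (3, 62, true), (2, 75, true), (1, 89, true), (0, 12, true), (4, 41, true), (3, 54, true), (2, 62, true), (1, 75, true), (0, 89, true), (4, 53, true), (3, 61, true), (2, 74, true), (1, 88, true), (5, 50, true), (4, 62, true), (3, 75, true), (2, 89, true),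 (1, 90, true), (0, 12, true), (3, 61, true), (2, 74, true), (1, 88, true), (0, 11, true), (2, 60, true), (1, 75, true), (0, 89, true), (2, 73, true), (1, 89, true), (0, 12, true), (0, 10, true), (1, 58, true), (0, 71, true), (6, 40, true), (5, 53, true), (4, 61, true), (3, 74, true), (2, 83, true), (1, 11, true), (4, 49, true), (3, 62, true), (2, 75, true), (1, 84, true), (0, 12, true), (2, 61, true), (1, 74, true), (0, 83, true), (3, 57, true), (2, 74, true), (1, 83, true), (0, 11, true), (1, 70, true), (0, 83, true), (6, 39, true), (5, 53, true), (4, 61, true), (3, 74, true), (2, 79, true), (1, 83, true), (0, 11, true), (4, 50, true), (3, 62, true), (2, 75, true), (1, 80, true), (0, 84, true), (4, 61, true), (3, 74, true), (2, 79, true), (1, 83, true), (5, 60, true), (4, 75, true), (3, 80, true), (2, 84, true), (1, 90, true), (0, 12, true), (3, 73, true), (2, 80, true), (1, 84, true), (0, 90, true), (3, 78, true), (2, 82, true), (6, 58, true), (5, 71, true), (4, 80, true), (3, 84, true), (2, 89, true), (1, 90, true), (0, 12, true), (3, 79, true), (2, 83, true), (1, 88, true), (0, 11, true),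 (2, 76, true), (1, 8, true), (0, 89, true), (5, 49, true), (4, 62, true), (3, 75, true), (2, 80, true), (1, 89, true), (0, 12, true), (3, 61, true), (2, 74, true), (1, 79, true), (0, 88, true), (4, 57, true), (3, 74, true), (2, 79, true), (1, 88, true), (0, 11, true), (2, 70, true), (1, 79, true), (0, 88, true), (2, 7, true), (4, 48, true), (3, 61, true), (2, 74, true), (1, 88, true), (0, 11, true), (2, 60, true), (1, 75, true), (0, 89, true), (2, 73, true), (1, 89, true), (0, 12, true), (0, 10, true), (1, 59, true), (0, 74, true), (1, 72, true), (0, 90, true), (1, 11, true), (3, 58, true), (2, 71, true), (1, 87, true), (0, 12, true), (0, 86, true), (4, 56, true), (3, 74, true), (2, 83, true), (1, 86, true), (0, 11, true), (2, 6, true), (1, 83, true), (0, 86, true), (6, 16, true), (5, 43, true), (4, 54, true), (3, 62, true), (2, 84, true), (1, 87, true), (0, 90, true), (5, 52, true), (4, 61, true), (3, 83, true), (2, 86, true), (1, 11, true), (3, 60, true), (2, 84, true), (1, 87, true), (0, 12, true), (1, 82, true), (0, 85, true), (5, 41, true), (4, 54, true), (3, 62, true), (2, 84, true),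 (1, 87, true), (0, 89, true), (5, 53, true), (4, 61, true), (3, 83, true), (2, 86, true), (1, 88, true), (6, 50, true), (5, 62, true), (4, 84, true), (3, 87, true), (2, 89, true), (1, 90, true), (0, 12, true), (4, 61, true), (3, 83, true), (2, 86, true), (1, 88, true), (0, 11, true), (3, 60, true), (2, 84, true), (1, 87, true), (0, 89, true), (3, 82, true), (2, 85, true), (1, 10, true), (3, 58, true), (2, 8, true), (1, 87, true), (0, 12, true), (3, 37, true), (2, 54, true), (1, 62, true), (0, 87, true), (3, 53, true), (2, 61, true), (1, 86, true), (4, 52, true), (3, 61, true), (2, 86, true), (1, 11, true), (2, 60, true), (1, 87, true), (0, 12, true), (0, 85, true), (3, 50, true), (2, 62, true), (1, 87, true), (0, 89, true), (3, 61, true), (2, 86, true), (1, 88, true), (4, 60, true), (3, 87, true), (2, 89, true), (1, 90, true), (0, 12, true), (2, 85, true), (1, 10, true), (2, 58, true), (4, 46, true), (3, 60, true), (2, 84, true), (1, 87, true), (0, 90, true), (3, 82, true), (2, 85, true), (5, 59, true), (4, 83, true), (3, 86, true), (2, 88, true), (1, 11, true), (3, 81, true), (2, 87, true),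 (1, 89, true), (0, 12, true), (1, 9, true), (0, 89, true), (3, 58, true), (2, 8, true), (1, 89, true), (0, 12, true), (1, 57, true), (0, 88, true), (3, 4, true), (5, 15, true), (4, 45, true), (3, 54, true), (2, 80, true), (1, 89, true), (0, 90, true), (5, 43, true), (4, 54, true), (3, 80, true), (2, 89, true), (1, 90, true), (0, 12, true), (3, 52, true), (2, 79, true), (1, 88, true), (0, 11, true), (1, 78, true), (0, 10, true), (2, 39, true), (1, 53, true), (0, 79, true), (2, 50, true), (1, 80, true), (0, 90, true), (2, 79, true), (1, 11, true), (1, 78, true), (2, 76, true), (4, 49, true), (3, 80, true), (2, 84, true), (1, 89, true), (0, 12, true), (2, 79, true), (1, 83, true), (0, 88, true), (3, 7, true), (3, 48, true), (2, 83, true), (1, 88, true), (0, 11, true), (1, 82, true), (0, 10, true), (0, 81, true), (2, 8, true), (1, 87, true), (0, 12, true), (3, 37, true), (2, 54, true), (1, 75, true), (0, 87, true), (3, 53, true), (2, 74, true), (1, 86, true), (4, 52, true), (3, 74, true), (2, 86, true), (1, 11, true), (2, 73, true), (1, 87, true), (0, 12, true), (0, 85, true), (3, 50, true),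 (2, 75, true), (1, 87, true), (0, 89, true), (3, 74, true), (2, 86, true), (1, 88, true), (4, 73, true), (3, 87, true), (2, 89, true), (1, 90, true), (0, 12, true), (2, 85, true), (1, 10, true), (2, 71, true), (1, 87, true), (0, 90, true), (2, 86, true), (1, 11, true), (4, 46, true), (3, 73, true), (2, 84, true), (1, 87, true), (0, 12, true), (1, 82, true), (0, 85, true), (3, 72, true), (2, 84, true), (1, 87, true), (0, 89, true), (3, 83, true), (2, 86, true), (1, 88, true), (4, 81, true), (3, 87, true), (2, 89, true), (1, 90, true), (0, 12, true), (2, 9, true), (1, 89, true), (0, 90, true), (4, 71, true), (3, 84, true), (2, 89, true), (1, 90, true), (0, 12, true), (2, 83, true), (1, 88, true), (0, 11, true), (1, 8, true), (0, 89, true), (2, 70, true), (1, 88, true), (7, 36, true), (6, 54, true), (5, 62, true), (4, 75, true), (3, 80, true), (2, 89, true), (1, 90, true), (0, 12, true), (5, 53, true), (4, 61, true), (3, 74, true), (2, 79, true), (1, 88, true), (0, 11, true), (4, 52, true), (3, 61, true), (2, 74, true), (1, 79, true), (0, 88, true), (4, 60, true), (3, 75, true), (2, 80, true),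 (1, 89, true), (0, 90, true), (4, 73, true), (3, 80, true), (2, 89, true), (1, 90, true), (0, 12, true), (2, 78, true), (1, 10, true), (4, 51, true), (3, 62, true), (2, 75, true), (1, 80, true), (0, 90, true), (4, 61, true), (3, 74, true), (2, 79, true), (1, 11, true), (3, 60, true), (2, 75, true), (1, 80, true), (0, 12, true), (1, 73, true), (0, 80, true), (1, 78, true), (4, 59, true), (3, 74, true), (2, 79, true), (1, 88, true), (4, 72, true), (3, 80, true), (2, 89, true), (1, 90, true), (0, 12, true), (2, 79, true), (1, 88, true), (0, 11, true), (1, 77, true), (5, 50, true), (4, 62, true), (3, 75, true), (2, 80, true), (1, 87, true), (0, 89, true), (5, 61, true), (4, 74, true), (3, 79, true), (2, 86, true), (1, 88, true), (6, 60, true), (5, 75, true), (4, 80, true), (3, 87, true), (2, 89, true), (1, 90, true), (0, 12, true), (4, 73, true), (3, 80, true), (2, 87, true), (1, 89, true), (0, 90, true), (4, 78, true), (3, 85, true), (2, 10, true), (5, 58, true), (4, 71, true), (3, 80, true), (2, 87, true), (1, 90, true), (0, 12, true), (2, 79, true), (1, 86, true), (0, 11, true), (1, 76, true),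 (5, 48, true), (4, 61, true), (3, 74, true), (2, 79, true), (1, 83, true), (0, 86, true), (5, 60, true), (4, 75, true), (3, 80, true), (2, 84, true), (1, 87, true), (0, 90, true), (5, 73, true), (4, 80, true), (3, 84, true), (2, 87, true), (1, 90, true), (0, 12, true), (3, 78, true), (2, 82, true), (1, 85, true), (6, 59, true), (5, 74, true), (4, 79, true), (3, 83, true), (2, 86, true), (1, 88, true), (0, 11, true), (4, 72, true), (3, 80, true), (2, 84, true), (1, 87, true), (0, 89, true), (4, 79, true), (3, 83, true), (2, 86, true), (1, 88, true), (5, 77, true), (4, 81, true), (3, 87, true), (2, 89, true), (1, 90, true), (0, 12, true), (2, 9, true), (1, 89, true), (0, 90, true), (6, 58, true), (5, 71, true), (4, 80, true), (3, 84, true), (2, 89, true), (1, 90, true), (0, 12, true), (3, 79, true), (2, 83, true), (1, 88, true), (0, 11, true), (2, 76, true), (1, 8, true), (0, 89, true), (4, 56, true), (3, 74, true), (2, 79, true), (1, 88, true), (4, 6, true), (3, 79, true), (2, 88, true), (1, 11, true), (4, 47, true), (3, 61, true), (2, 79, true), (1, 88, true), (4, 55, true), (3, 80, true),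 (2, 89, true), (1, 90, true), (0, 12, true), (2, 79, true), (1, 88, true), (0, 11, true), (4, 46, true), (3, 60, true), (2, 69, true), (1, 80, true), (0, 89, true), (3, 67, true), (2, 78, true), (1, 10, true), (3, 59, true), (2, 68, true), (1, 79, true), (3, 66, true), (2, 80, true), (1, 90, true), (0, 12, true), (1, 79, true), (0, 11, true), (0, 77, true), (3, 58, true), (2, 65, true), (1, 80, true), (0, 87, true), (2, 79, true), (1, 86, true), (3, 76, true), (6, 57, true), (5, 68, true), (4, 79, true), (3, 83, true), (2, 86, true), (1, 11, true), (4, 64, true), (3, 7, true), (4, 4, true), (4, 3, true), (3, 69, true), (2, 84, true), (1, 87, true), (0, 12, true), (2, 68, true), (1, 83, true), (0, 86, true), (3, 67, true), (2, 82, true), (1, 85, true), (4, 66, true), (3, 84, true), (2, 87, true), (1, 89, true), (0, 90, true), (4, 83, true), (3, 86, true), (2, 88, true), (1, 11, true), (3, 81, true), (2, 87, true), (1, 89, true), (0, 12, true), (1, 9, true), (0, 89, true), (3, 65, true), (2, 84, true), (1, 89, true), (0, 12, true), (1, 83, true), (0, 88, true), (2, 8, true), (1, 89, true),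 (0, 90, true), (3, 5, true), (2, 88, true), (1, 11, true), (3, 14, true), (2, 43, true), (1, 89, true), (0, 12, true), (0, 10, true), (0, 40, true), (2, 39, true), (1, 79, true), (0, 11, true), (0, 76, true), (1, 7, true), (2, 38, true), (1, 75, true), (0, 84, true), (2, 74, true), (1, 83, true), (3, 73, true), (2, 84, true), (1, 90, true), (0, 12, true), (1, 82, true), (3, 70, true), (2, 83, true), (1, 88, true), (0, 11, true), (5, 37, true), (4, 69, true), (3, 75, true), (2, 80, true), (1, 84, true), (0, 89, true), (5, 68, true), (4, 74, true), (3, 79, true), (2, 83, true), (1, 88, true), (6, 67, true), (5, 73, true), (4, 80, true), (3, 84, true), (2, 89, true), (1, 90, true), (0, 12, true), (3, 78, true), (2, 82, true), (1, 10, true), (4, 65, true), (3, 75, true), (2, 80, true), (1, 84, true), (0, 90, true), (4, 74, true), (3, 79, true), (2, 83, true), (1, 11, true), (3, 71, true), (2, 80, true), (1, 84, true), (0, 12, true), (1, 79, true), (0, 83, true), (2, 76, true), (1, 8, true), (0, 90, true), (6, 2, true), (5, 61, true), (4, 68, true), (3, 74, true), (2, 79, true), (1, 11, true),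 (4, 60, true), (3, 69, true), (2, 75, true), (1, 80, true), (0, 12, true), (2, 67, true), (1, 73, true), (0, 80, true), (1, 78, true), (5, 58, true), (4, 65, true), (3, 75, true), (2, 80, true), (1, 89, true), (0, 12, true), (2, 74, true), (1, 79, true), (0, 88, true), (3, 71, true), (2, 80, true), (1, 89, true), (0, 90, true), (3, 79, true), (2, 88, true), (1, 11, true), (2, 76, true), (6, 57, true), (5, 68, true), (4, 74, true), (3, 79, true), (2, 83, true), (1, 88, true), (6, 64, true), (5, 70, true), (4, 79, true), (3, 83, true), (2, 88, true), (1, 11, true), (3, 7, true), (6, 0, true), (5, 61, true), (4, 68, true), (3, 74, true), (2, 83, true), (1, 88, true), (6, 58, true), (5, 65, true), (4, 75, true), (3, 84, true), (2, 89, true), (1, 90, true), (0, 12, true), (3, 74, true), (2, 83, true), (1, 88, true), (0, 11, true), (2, 71, true), (1, 84, true), (0, 89, true), (2, 83, true), (1, 88, true), (3, 8, true), (2, 89, true), (1, 90, true), (0, 12, true), (4, 56, true), (3, 68, true), (2, 74, true), (1, 88, true), (0, 11, true), (2, 63, true), (1, 74, true), (0, 88, true), (2, 6, true),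 (1, 88, true), (0, 11, true), (2, 55, true), (1, 69, true), (0, 89, true), (2, 68, true), (1, 88, true), (3, 5, true), (2, 88, true), (1, 11, true), (2, 4, true), (2, 7, false), (1, 11, false), (2, 88, false), (3, 79, false)], [(7, 24, true), (6, 45, true), (5, 54, true), (4, 62, true), (3, 75, true), (2, 84, true), (1, 90, true), (0, 12, true), (6, 23, true), (5, 44, true), (4, 53, true), (3, 61, true), (2, 74, true), (1, 83, true), (0, 11, true), (5, 20, true), (4, 45, true), (3, 54, true), (2, 62, true), (1, 75, true), (0, 84, true), (5, 44, true), (4, 53, true), (3, 61, true), (2, 74, true), (1, 83, true), (6, 41, true), (5, 54, true), (4, 62, true), (3, 75, true), (2, 84, true), (1, 90, true), (0, 12, true), (4, 53, true), (3, 61, true), (2, 74, true), (1, 83, true), (0, 11, true), (3, 50, true), (2, 62, true), (1, 75, true), (0, 84, true), (3, 61, true), (2, 74, true), (1, 83, true), (4, 60, true), (3, 75, true), (2, 84, true), (1, 90, true), (0, 12, true), (2, 73, true), (1, 84, true), (0, 90, true), (2, 82, true), (5, 58, true), (4, 71, true), (3, 84, true), (2, 89, true), (1, 90,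 true), (0, 12, true), (2, 83, true), (1, 88, true), (0, 11, true), (1, 8, true), (0, 89, true), (6, 18, true), (5, 45, true), (4, 54, true), (3, 62, true), (2, 75, true), (1, 89, true), (0, 12, true), (4, 41, true), (3, 54, true), (2, 62, true), (1, 75, true), (0, 89, true), (4, 53, true), (3, 61, true), (2, 74, true), (1, 88, true), (5, 50, true), (4, 62, true), (3, 75, true), (2, 89, true), (1, 90, true), (0, 12, true), (3, 61, true), (2, 74, true), (1, 88, true), (0, 11, true), (2, 60, true), (1, 75, true), (0, 89, true), (2, 73, true), (1, 89, true), (0, 12, true), (0, 10, true), (1, 58, true), (0, 71, true), (6, 40, true), (5, 53, true), (4, 61, true), (3, 74, true), (2, 83, true), (1, 11, true), (4, 49, true), (3, 62, true), (2, 75, true), (1, 84, true), (0, 12, true), (2, 61, true), (1, 74, true), (0, 83, true), (3, 57, true), (2, 74, true), (1, 83, true), (0, 11, true), (1, 70, true), (0, 83, true), (6, 39, true), (5, 53, true), (4, 61, true), (3, 74, true), (2, 79, true), (1, 83, true), (0, 11, true), (4, 50, true), (3, 62, true), (2, 75, true), (1, 80, true), (0, 84, true), (4,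 61, true), (3, 74, true), (2, 79, true), (1, 83, true), (5, 60, true), (4, 75, true), (3, 80, true), (2, 84, true), (1, 90, true), (0, 12, true), (3, 73, true), (2, 80, true), (1, 84, true), (0, 90, true), (3, 78, true), (2, 82, true), (6, 58, true), (5, 71, true), (4, 80, true), (3, 84, true), (2, 89, true), (1, 90, true), (0, 12, true), (3, 79, true), (2, 83, true), (1, 88, true), (0, 11, true), (2, 76, true), (1, 8, true), (0, 89, true), (5, 49, true), (4, 62, true), (3, 75, true), (2, 80, true), (1, 89, true), (0, 12, true), (3, 61, true), (2, 74, true), (1, 79, true), (0, 88, true), (4, 57, true), (3, 74, true), (2, 79, true), (1, 88, true), (0, 11, true), (2, 70, true), (1, 79, true), (0, 88, true), (2, 7, true), (4, 48, true), (3, 61, true), (2, 74, true), (1, 88, true), (0, 11, true), (2, 60, true), (1, 75, true), (0, 89, true), (2, 73, true), (1, 89, true), (0, 12, true), (0, 10, true), (1, 59, true), (0, 74, true), (1, 72, true), (0, 90, true), (1, 11, true), (3, 58, true), (2, 71, true), (1, 87, true), (0, 12, true), (0, 86, true), (4, 56, true), (3, 74, true), (2, 83, true),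 (1, 86, true), (0, 11, true), (2, 6, true), (1, 83, true), (0, 86, true), (6, 16, true), (5, 43, true), (4, 54, true), (3, 62, true), (2, 84, true), (1, 87, true), (0, 90, true), (5, 52, true), (4, 61, true), (3, 83, true), (2, 86, true), (1, 11, true), (3, 60, true), (2, 84, true), (1, 87, true), (0, 12, true), (1, 82, true), (0, 85, true), (5, 41, true), (4, 54, true), (3, 62, true), (2, 84, true), (1, 87, true), (0, 89, true), (5, 53, true), (4, 61, true), (3, 83, true), (2, 86, true), (1, 88, true), (6, 50, true), (5, 62, true), (4, 84, true), (3, 87, true), (2, 89, true), (1, 90, true), (0, 12, true), (4, 61, true), (3, 83, true), (2, 86, true), (1, 88, true), (0, 11, true), (3, 60, true), (2, 84, true), (1, 87, true), (0, 89, true), (3, 82, true), (2, 85, true), (1, 10, true), (3, 58, true), (2, 8, true), (1, 87, true), (0, 12, true), (3, 37, true), (2, 54, true), (1, 62, true), (0, 87, true), (3, 53, true), (2, 61, true), (1, 86, true), (4, 52, true), (3, 61, true), (2, 86, true), (1, 11, true), (2, 60, true), (1, 87, true), (0, 12, true), (0, 85, true), (3, 50, true), (2, 62, true),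 (1, 87, true), (0, 89, true), (3, 61, true), (2, 86, true), (1, 88, true), (4, 60, true), (3, 87, true), (2, 89, true), (1, 90, true), (0, 12, true), (2, 85, true), (1, 10, true), (2, 58, true), (4, 46, true), (3, 60, true), (2, 84, true), (1, 87, true), (0, 90, true), (3, 82, true), (2, 85, true), (5, 59, true), (4, 83, true), (3, 86, true), (2, 88, true), (1, 11, true), (3, 81, true), (2, 87, true), (1, 89, true), (0, 12, true), (1, 9, true), (0, 89, true), (3, 58, true), (2, 8, true), (1, 89, true), (0, 12, true), (1, 57, true), (0, 88, true), (3, 4, true), (5, 15, true), (4, 45, true), (3, 54, true), (2, 80, true), (1, 89, true), (0, 90, true), (5, 43, true), (4, 54, true), (3, 80, true), (2, 89, true), (1, 90, true), (0, 12, true), (3, 52, true), (2, 79, true), (1, 88, true), (0, 11, true), (1, 78, true), (0, 10, true), (2, 39, true), (1, 53, true), (0, 79, true), (2, 50, true), (1, 80, true), (0, 90, true), (2, 79, true), (1, 11, true), (1, 78, true), (2, 76, true), (4, 49, true), (3, 80, true), (2, 84, true), (1, 89, true), (0, 12, true), (2, 79, true), (1, 83, true), (0, 88, true),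 (3, 7, true), (3, 48, true), (2, 83, true), (1, 88, true), (0, 11, true), (1, 82, true), (0, 10, true), (0, 81, true), (2, 8, true), (1, 87, true), (0, 12, true), (3, 37, true), (2, 54, true), (1, 75, true), (0, 87, true), (3, 53, true), (2, 74, true), (1, 86, true), (4, 52, true), (3, 74, true), (2, 86, true), (1, 11, true), (2, 73, true), (1, 87, true), (0, 12, true), (0, 85, true), (3, 50, true), (2, 75, true), (1, 87, true), (0, 89, true), (3, 74, true), (2, 86, true), (1, 88, true), (4, 73, true), (3, 87, true), (2, 89, true), (1, 90, true), (0, 12, true), (2, 85, true), (1, 10, true), (2, 71, true), (1, 87, true), (0, 90, true), (2, 86, true), (1, 11, true), (4, 46, true), (3, 73, true), (2, 84, true), (1, 87, true), (0, 12, true), (1, 82, true), (0, 85, true), (3, 72, true), (2, 84, true), (1, 87, true), (0, 89, true), (3, 83, true), (2, 86, true), (1, 88, true), (4, 81, true), (3, 87, true), (2, 89, true), (1, 90, true), (0, 12, true), (2, 9, true), (1, 89, true), (0, 90, true), (4, 71, true), (3, 84, true), (2, 89, true), (1, 90, true), (0, 12, true), (2, 83, true), (1, 88, true),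 (0, 11, true), (1, 8, true), (0, 89, true), (2, 70, true), (1, 88, true), (7, 36, true), (6, 54, true), (5, 62, true), (4, 75, true), (3, 80, true), (2, 89, true), (1, 90, true), (0, 12, true), (5, 53, true), (4, 61, true), (3, 74, true), (2, 79, true), (1, 88, true), (0, 11, true), (4, 52, true), (3, 61, true), (2, 74, true), (1, 79, true), (0, 88, true), (4, 60, true), (3, 75, true), (2, 80, true), (1, 89, true), (0, 90, true), (4, 73, true), (3, 80, true), (2, 89, true), (1, 90, true), (0, 12, true), (2, 78, true), (1, 10, true), (4, 51, true), (3, 62, true), (2, 75, true), (1, 80, true), (0, 90, true), (4, 61, true), (3, 74, true), (2, 79, true), (1, 11, true), (3, 60, true), (2, 75, true), (1, 80, true), (0, 12, true), (1, 73, true), (0, 80, true), (1, 78, true), (4, 59, true), (3, 74, true), (2, 79, true), (1, 88, true), (4, 72, true), (3, 80, true), (2, 89, true), (1, 90, true), (0, 12, true), (2, 79, true), (1, 88, true), (0, 11, true), (1, 77, true), (5, 50, true), (4, 62, true), (3, 75, true), (2, 80, true), (1, 87, true), (0, 89, true), (5, 61, true), (4, 74, true), (3, 79, true),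 (2, 86, true), (1, 88, true), (6, 60, true), (5, 75, true), (4, 80, true), (3, 87, true), (2, 89, true), (1, 90, true), (0, 12, true), (4, 73, true), (3, 80, true), (2, 87, true), (1, 89, true), (0, 90, true), (4, 78, true), (3, 85, true), (2, 10, true), (5, 58, true), (4, 71, true), (3, 80, true), (2, 87, true), (1, 90, true), (0, 12, true), (2, 79, true), (1, 86, true), (0, 11, true), (1, 76, true), (5, 48, true), (4, 61, true), (3, 74, true), (2, 79, true), (1, 83, true), (0, 86, true), (5, 60, true), (4, 75, true), (3, 80, true), (2, 84, true), (1, 87, true), (0, 90, true), (5, 73, true), (4, 80, true), (3, 84, true), (2, 87, true), (1, 90, true), (0, 12, true), (3, 78, true), (2, 82, true), (1, 85, true), (6, 59, true), (5, 74, true), (4, 79, true), (3, 83, true), (2, 86, true), (1, 88, true), (0, 11, true), (4, 72, true), (3, 80, true), (2, 84, true), (1, 87, true), (0, 89, true), (4, 79, true), (3, 83, true), (2, 86, true), (1, 88, true), (5, 77, true), (4, 81, true), (3, 87, true), (2, 89, true), (1, 90, true), (0, 12, true), (2, 9, true), (1, 89, true), (0, 90, true), (6, 58, true),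 (5, 71, true), (4, 80, true), (3, 84, true), (2, 89, true), (1, 90, true), (0, 12, true), (3, 79, true), (2, 83, true), (1, 88, true), (0, 11, true), (2, 76, true), (1, 8, true), (0, 89, true), (4, 56, true), (3, 74, true), (2, 79, true), (1, 88, true), (4, 6, true), (3, 79, true), (2, 88, true), (1, 11, true), (4, 47, true), (3, 61, true), (2, 79, true), (1, 88, true), (4, 55, true), (3, 80, true), (2, 89, true), (1, 90, true), (0, 12, true), (2, 79, true), (1, 88, true), (0, 11, true), (4, 46, true), (3, 60, true), (2, 69, true), (1, 80, true), (0, 89, true), (3, 67, true), (2, 78, true), (1, 10, true), (3, 59, true), (2, 68, true), (1, 79, true), (3, 66, true), (2, 80, true), (1, 90, true), (0, 12, true), (1, 79, true), (0, 11, true), (0, 77, true), (3, 58, true), (2, 65, true), (1, 80, true), (0, 87, true), (2, 79, true), (1, 86, true), (3, 76, true), (6, 57, true), (5, 68, true), (4, 79, true), (3, 83, true), (2, 86, true), (1, 11, true), (4, 64, true), (3, 7, true), (4, 4, true), (4, 3, true), (3, 69, true), (2, 84, true), (1, 87, true), (0, 12, true), (2, 68, true), (1, 83, true),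 (0, 86, true), (3, 67, true), (2, 82, true), (1, 85, true), (4, 66, true), (3, 84, true), (2, 87, true), (1, 89, true), (0, 90, true), (4, 83, true), (3, 86, true), (2, 88, true), (1, 11, true), (3, 81, true), (2, 87, true), (1, 89, true), (0, 12, true), (1, 9, true), (0, 89, true), (3, 65, true), (2, 84, true), (1, 89, true), (0, 12, true), (1, 83, true), (0, 88, true), (2, 8, true), (1, 89, true), (0, 90, true), (3, 5, true), (2, 88, true), (1, 11, true), (3, 14, true), (2, 43, true), (1, 89, true), (0, 12, true), (0, 10, true), (0, 40, true), (2, 39, true), (1, 79, true), (0, 11, true), (0, 76, true), (1, 7, true), (2, 38, true), (1, 75, true), (0, 84, true), (2, 74, true), (1, 83, true), (3, 73, true), (2, 84, true), (1, 90, true), (0, 12, true), (1, 82, true), (3, 70, true), (2, 83, true), (1, 88, true), (0, 11, true), (5, 37, true), (4, 69, true), (3, 75, true), (2, 80, true), (1, 84, true), (0, 89, true), (5, 68, true), (4, 74, true), (3, 79, true), (2, 83, true), (1, 88, true), (6, 67, true), (5, 73, true), (4, 80, true), (3, 84, true), (2, 89, true), (1, 90, true), (0, 12, true),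 (3, 78, true), (2, 82, true), (1, 10, true), (4, 65, true), (3, 75, true), (2, 80, true), (1, 84, true), (0, 90, true), (4, 74, true), (3, 79, true), (2, 83, true), (1, 11, true), (3, 71, true), (2, 80, true), (1, 84, true), (0, 12, true), (1, 79, true), (0, 83, true), (2, 76, true), (1, 8, true), (0, 90, true), (6, 2, true), (5, 61, true), (4, 68, true), (3, 74, true), (2, 79, true), (1, 11, true), (4, 60, true), (3, 69, true), (2, 75, true), (1, 80, true), (0, 12, true), (2, 67, true), (1, 73, true), (0, 80, true), (1, 78, true), (5, 58, true), (4, 65, true), (3, 75, true), (2, 80, true), (1, 89, true), (0, 12, true), (2, 74, true), (1, 79, true), (0, 88, true), (3, 71, true), (2, 80, true), (1, 89, true), (0, 90, true), (3, 79, true), (2, 88, true), (1, 11, true), (2, 76, true), (6, 57, true), (5, 68, true), (4, 74, true), (3, 79, true), (2, 83, true), (1, 88, true), (6, 64, true), (5, 70, true), (4, 79, true), (3, 83, true), (2, 88, true), (1, 11, true), (3, 7, true), (6, 0, true), (5, 61, true), (4, 68, true), (3, 74, true), (2, 83, true), (1, 88, true), (6, 58, true), (5, 65, true),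 (4, 75, true), (3, 84, true), (2, 89, true), (1, 90, true), (0, 12, true), (3, 74, true), (2, 83, true), (1, 88, true), (0, 11, true), (2, 71, true), (1, 84, true), (0, 89, true), (2, 83, true), (1, 88, true), (3, 8, true), (2, 89, true), (1, 90, true), (0, 12, true), (4, 56, true), (3, 68, true), (2, 74, true), (1, 88, true), (0, 11, true), (2, 63, true), (1, 74, true), (0, 88, true), (2, 6, true), (1, 88, true), (0, 11, true), (2, 55, true), (1, 69, true), (0, 89, true), (2, 68, true), (1, 88, true), (3, 5, true), (2, 88, true), (1, 11, true), (2, 4, true), (1, 11, false), (0, 90, false), (1, 10, false)]),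
    ([1, 1], [8], [(7, 24, true), (6, 45, true), (5, 54, true), (4, 69, true), (3, 80, true), (2, 87, true), (1, 89, true), (0, 12, true), (6, 22, true), (5, 45, true), (4, 54, true), (3, 69, true), (2, 80, true), (1, 87, true), (0, 89, true), (6, 44, true), (5, 53, true), (4, 68, true), (3, 79, true), (2, 86, true), (1, 88, true), (7, 43, true), (6, 54, true), (5, 69, true), (4, 80, true), (3, 87, true), (2, 89, true), (1, 90, true), (0, 12, true), (5, 52, true), (4, 68, true), (3, 79, true), (2, 86, true), (1, 88, true), (0, 11, true), (3, 67, true), (2, 78, true), (1, 85, true), (0, 10, true), (5, 21, true), (4, 45, true), (3, 54, true), (2, 69, true), (1, 80, true), (0, 87, true), (5, 44, true), (4, 53, true), (3, 68, true), (2, 79, true), (1, 86, true), (6, 43, true), (5, 54, true), (4, 69, true), (3, 80, true), (2, 87, true), (1, 90, true), (0, 12, true), (4, 52, true), (3, 68, true), (2, 79, true), (1, 86, true), (0, 11, true), (2, 67, true), (1, 78, true), (0, 85, true), (5, 42, true), (4, 54, true), (3, 69, true), (2, 80, true), (1, 87, true), (0, 89, true), (5, 52, true), (4, 68,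 true), (3, 79, true), (2, 86, true), (1, 88, true), (5, 67, true), (4, 78, true), (3, 85, true), (2, 10, true), (5, 51, true), (4, 69, true), (3, 80, true), (2, 87, true), (1, 90, true), (0, 12, true), (3, 68, true), (2, 79, true), (1, 86, true), (0, 11, true), (2, 67, true), (1, 78, true), (0, 85, true), (3, 66, true), (2, 80, true), (1, 87, true), (0, 89, true), (3, 79, true), (2, 86, true), (1, 88, true), (4, 77, true), (3, 9, true), (2, 89, true), (1, 90, true), (0, 12, true), (6, 19, true), (5, 45, true), (4, 54, true), (3, 69, true), (2, 80, true), (1, 89, true), (0, 90, true), (6, 40, true), (5, 53, true), (4, 68, true), (3, 79, true), (2, 88, true), (1, 11, true), (4, 49, true), (3, 69, true), (2, 80, true), (1, 89, true), (0, 12, true), (2, 68, true), (1, 79, true), (0, 88, true), (3, 64, true), (2, 7, true), (5, 17, true), (4, 45, true), (3, 54, true), (2, 69, true), (1, 89, true), (0, 90, true), (5, 43, true), (4, 54, true), (3, 69, true), (2, 89, true), (1, 90, true), (0, 12, true), (3, 52, true), (2, 68, true), (1, 88, true), (0, 11, true), (1, 67, true), (0, 10, true), (2,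 40, true), (1, 53, true), (0, 68, true), (2, 49, true), (1, 69, true), (0, 90, true), (2, 68, true), (1, 11, true), (1, 64, true), (4, 38, true), (3, 54, true), (2, 69, true), (1, 80, true), (0, 12, true), (2, 53, true), (1, 68, true), (0, 79, true), (3, 52, true), (2, 68, true), (1, 79, true), (0, 11, true), (1, 67, true), (0, 78, true), (3, 49, true), (2, 69, true), (1, 80, true), (0, 89, true), (3, 68, true), (2, 79, true), (1, 88, true), (4, 64, true), (3, 7, true), (4, 47, true), (3, 68, true), (2, 88, true), (1, 11, true), (2, 5, true), (1, 88, true), (5, 15, true), (4, 45, true), (3, 54, true), (2, 89, true), (1, 90, true), (0, 12, true), (3, 43, true), (2, 54, true), (1, 89, true), (0, 90, true), (3, 52, true), (2, 88, true), (1, 11, true), (1, 10, true), (2, 39, true), (1, 53, true), (2, 50, true), (1, 90, true), (0, 12, true), (0, 11, true), (2, 49, true), (1, 84, true), (0, 89, true), (2, 83, true), (1, 88, true), (5, 48, true), (4, 79, true), (3, 83, true), (2, 88, true), (1, 11, true), (3, 78, true), (2, 82, true), (1, 10, true), (2, 77, true), (1, 81, true), (0, 12, true),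 (2, 76, true), (1, 8, true), (0, 87, true), (5, 37, true), (4, 54, true), (3, 75, true), (2, 80, true), (1, 87, true), (0, 12, true), (3, 53, true), (2, 74, true), (1, 79, true), (0, 86, true), (4, 52, true), (3, 74, true), (2, 79, true), (1, 86, true), (0, 11, true), (2, 73, true), (1, 80, true), (0, 87, true), (2, 78, true), (1, 85, true), (5, 50, true), (4, 75, true), (3, 80, true), (2, 87, true), (1, 89, true), (0, 12, true), (3, 74, true), (2, 79, true), (1, 86, true), (0, 88, true), (4, 73, true), (3, 80, true), (2, 87, true), (1, 89, true), (0, 90, true), (4, 78, true), (3, 85, true), (2, 10, true), (4, 71, true), (3, 80, true), (2, 87, true), (1, 90, true), (0, 12, true), (2, 79, true), (1, 86, true), (0, 11, true), (1, 76, true), (4, 46, true), (3, 73, true), (2, 80, true), (1, 84, true), (0, 87, true), (3, 78, true), (2, 82, true), (1, 85, true), (5, 72, true), (4, 80, true), (3, 84, true), (2, 87, true), (1, 89, true), (0, 12, true), (3, 79, true), (2, 83, true), (1, 86, true), (0, 88, true), (4, 77, true), (3, 81, true), (2, 87, true), (1, 89, true), (0, 90, true), (3, 9, true),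 (2, 89, true), (1, 90, true), (0, 12, true), (4, 71, true), (3, 80, true), (2, 84, true), (1, 89, true), (0, 90, true), (4, 79, true), (3, 83, true), (2, 88, true), (1, 11, true), (3, 76, true), (2, 8, true), (1, 89, true), (0, 12, true), (2, 70, true), (1, 79, true), (0, 88, true), (2, 7, true), (5, 36, true), (4, 54, true), (3, 62, true), (2, 75, true), (1, 89, true), (0, 90, true), (5, 53, true), (4, 61, true), (3, 74, true), (2, 88, true), (1, 11, true), (4, 52, true), (3, 61, true), (2, 74, true), (1, 88, true), (4, 60, true), (3, 75, true), (2, 89, true), (1, 90, true), (0, 12, true), (2, 73, true), (1, 89, true), (0, 90, true), (2, 10, true), (4, 51, true), (3, 62, true), (2, 75, true), (1, 90, true), (0, 12, true), (2, 61, true), (1, 74, true), (0, 11, true), (1, 60, true), (0, 75, true), (1, 73, true), (0, 12, true), (2, 59, true), (1, 74, true), (0, 88, true), (2, 72, true), (1, 89, true), (0, 90, true), (2, 88, true), (1, 11, true), (5, 50, true), (4, 62, true), (3, 75, true), (2, 87, true), (1, 89, true), (0, 12, true), (3, 61, true), (2, 74, true), (1, 86, true), (0, 88, true),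 (4, 60, true), (3, 75, true), (2, 87, true), (1, 89, true), (0, 90, true), (4, 73, true), (3, 87, true), (2, 89, true), (1, 90, true), (0, 12, true), (2, 85, true), (1, 10, true), (3, 58, true), (2, 71, true), (1, 87, true), (0, 90, true), (2, 86, true), (1, 11, true), (5, 48, true), (4, 61, true), (3, 74, true), (2, 83, true), (1, 86, true), (5, 60, true), (4, 75, true), (3, 84, true), (2, 87, true), (1, 90, true), (0, 12, true), (3, 73, true), (2, 84, true), (1, 87, true), (0, 90, true), (3, 82, true), (2, 85, true), (6, 59, true), (5, 74, true), (4, 83, true), (3, 86, true), (2, 88, true), (1, 11, true), (4, 72, true), (3, 84, true), (2, 87, true), (1, 89, true), (0, 12, true), (2, 83, true), (1, 86, true), (0, 88, true), (3, 81, true), (2, 87, true), (1, 89, true), (0, 90, true), (3, 9, true), (2, 89, true), (1, 90, true), (0, 12, true), (4, 58, true), (3, 71, true), (2, 84, true), (1, 89, true), (0, 90, true), (3, 83, true), (2, 88, true), (1, 11, true), (2, 8, true), (1, 89, true), (0, 12, true), (2, 56, true), (1, 74, true), (0, 88, true), (2, 6, true), (1, 88, true), (0, 11, true),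 (2, 47, true), (1, 61, true), (0, 88, true), (2, 55, true), (1, 89, true), (0, 90, true), (2, 88, true), (1, 11, true), (4, 46, true), (3, 60, true), (2, 69, true), (1, 89, true), (0, 12, true), (1, 67, true), (0, 10, true), (1, 59, true), (0, 68, true), (1, 66, true), (0, 90, true), (1, 11, true), (3, 58, true), (2, 65, true), (1, 87, true), (0, 12, true), (0, 86, true), (4, 57, true), (3, 68, true), (2, 83, true), (1, 86, true), (0, 11, true), (2, 64, true), (4, 4, true), (4, 3, true), (3, 69, true), (2, 80, true), (1, 84, true), (0, 87, true), (4, 68, true), (3, 79, true), (2, 83, true), (1, 86, true), (5, 67, true), (4, 78, true), (3, 82, true), (2, 85, true), (6, 66, true), (5, 80, true), (4, 84, true), (3, 87, true), (2, 89, true), (1, 90, true), (0, 12, true), (4, 79, true), (3, 83, true), (2, 86, true), (1, 88, true), (0, 11, true), (3, 77, true), (2, 81, true), (1, 87, true), (0, 89, true), (2, 9, true), (1, 89, true), (0, 12, true), (3, 65, true), (2, 80, true), (1, 84, true), (0, 89, true), (3, 79, true), (2, 83, true), (1, 88, true), (4, 76, true), (3, 8, true), (2, 89, true),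 (1, 90, true), (0, 12, true), (3, 5, true), (2, 79, true), (1, 88, true), (0, 11, true), (3, 14, true), (2, 43, true), (1, 80, true), (0, 89, true), (2, 78, true), (1, 10, true), (2, 40, true), (1, 79, true), (2, 7, true), (2, 39, true), (1, 11, true), (4, 38, true), (3, 75, true), (2, 80, true), (1, 84, true), (0, 12, true), (2, 74, true), (1, 79, true), (0, 83, true), (3, 73, true), (2, 80, true), (1, 84, true), (0, 90, true), (3, 78, true), (2, 82, true), (5, 70, true), (4, 79, true), (3, 83, true), (2, 88, true), (1, 11, true), (3, 7, true), (5, 37, true), (4, 69, true), (3, 75, true), (2, 84, true), (1, 89, true), (0, 12, true), (3, 68, true), (2, 74, true), (1, 83, true), (0, 88, true), (4, 67, true), (3, 73, true), (2, 84, true), (1, 89, true), (0, 90, true), (3, 82, true), (2, 10, true), (4, 65, true), (3, 75, true), (2, 84, true), (1, 90, true), (0, 12, true), (2, 74, true), (1, 83, true), (0, 11, true), (1, 71, true), (0, 84, true), (1, 83, true), (2, 8, true), (1, 90, true), (0, 12, true), (4, 2, true), (3, 61, true), (2, 68, true), (1, 74, true), (0, 11, true), (2, 60, true),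 (1, 69, true), (0, 75, true), (2, 67, true), (1, 73, true), (0, 12, true), (3, 58, true), (2, 65, true), (1, 75, true), (0, 89, true), (2, 74, true), (1, 88, true), (3, 71, true), (2, 89, true), (1, 90, true), (0, 12, true), (1, 88, true), (0, 11, true), (4, 57, true), (3, 68, true), (2, 74, true), (1, 83, true), (0, 88, true), (4, 64, true), (3, 70, true), (2, 83, true), (1, 88, true), (0, 11, true), (6, 0, true), (5, 61, true), (4, 68, true), (3, 74, true), (2, 79, true), (1, 83, true), (0, 88, true), (6, 58, true), (5, 65, true), (4, 75, true), (3, 80, true), (2, 84, true), (1, 89, true), (0, 90, true), (5, 74, true), (4, 79, true), (3, 83, true), (2, 88, true), (1, 11, true), (4, 71, true), (3, 80, true), (2, 84, true), (1, 89, true), (0, 12, true), (2, 79, true), (1, 83, true), (0, 88, true), (3, 76, true), (2, 8, true), (1, 89, true), (0, 90, true), (6, 56, true), (5, 68, true), (4, 74, true), (3, 79, true), (2, 88, true), (1, 11, true), (4, 63, true), (3, 74, true), (2, 79, true), (1, 88, true), (4, 6, true), (3, 79, true), (2, 88, true), (1, 11, true), (4, 55, true), (3, 69, true),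 (2, 80, true), (1, 89, true), (0, 12, true), (2, 68, true), (1, 79, true), (0, 88, true), (3, 5, true), (2, 79, true), (1, 88, true), (0, 11, true), (2, 4, true)], [(4, 45, true), (3, 62, true), (2, 69, true), (1, 80, true), (0, 12, true), (3, 40, true), (2, 61, true), (1, 68, true), (0, 79, true), (3, 57, true), (2, 68, true), (1, 79, true), (0, 11, true), (1, 64, true), (0, 7, true), (2, 38, true), (1, 62, true), (0, 69, true), (2, 61, true), (1, 68, true), (3, 60, true), (2, 69, true), (1, 90, true), (0, 12, true), (1, 67, true), (3, 57, true), (2, 68, true), (1, 88, true), (0, 11, true), (1, 64, true), (3, 55, true), (2, 69, true), (1, 80, true), (0, 89, true), (3, 68, true), (2, 79, true), (1, 88, true), (4, 5, true), (3, 79, true), (2, 88, true), (1, 11, true), (4, 37, true), (3, 62, true), (2, 80, true), (1, 89, true), (0, 12, true), (2, 61, true), (1, 79, true), (0, 88, true), (3, 60, true), (2, 80, true), (1, 89, true), (0, 90, true), (3, 78, true), (2, 10, true), (3, 58, true), (2, 76, true), (4, 4, true), (4, 2, true), (3, 79, true), (2, 83, true), (1, 11, true), (2, 78, true),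 (1, 82, true), (3, 76, true), (2, 8, true), (1, 89, true), (0, 12, true), (1, 7, true)]),
    ([3, 3], [], [(7, 24, true), (6, 54, true), (5, 62, true), (4, 80, true), (3, 84, true), (2, 87, true), (1, 89, true), (0, 12, true), (6, 22, true), (5, 54, true), (4, 62, true), (3, 80, true), (2, 84, true), (1, 87, true), (0, 89, true), (6, 53, true), (5, 61, true), (4, 79, true), (3, 83, true), (2, 86, true), (1, 88, true), (7, 52, true), (6, 61, true), (5, 79, true), (4, 83, true), (3, 86, true), (2, 88, true), (1, 11, true), (5, 60, true), (4, 80, true), (3, 84, true), (2, 87, true), (1, 89, true), (0, 12, true), (3, 78, true), (2, 82, true), (1, 85, true), (0, 10, true), (5, 21, true), (4, 54, true), (3, 62, true), (2, 80, true), (1, 84, true), (0, 87, true), (5, 53, true), (4, 61, true), (3, 79, true), (2, 83, true), (1, 86, true), (6, 52, true), (5, 61, true), (4, 79, true), (3, 83, true), (2, 86, true), (1, 11, true), (4, 60, true), (3, 80, true), (2, 84, true), (1, 87, true), (0, 12, true), (2, 78, true), (1, 82, true), (0, 85, true), (5, 51, true), (4, 62, true), (3, 80, true), (2, 84,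 true), (1, 87, true), (0, 89, true), (5, 61, true), (4, 79, true), (3, 83, true), (2, 86, true), (1, 88, true), (6, 60, true), (5, 80, true), (4, 84, true), (3, 87, true), (2, 89, true), (1, 90, true), (0, 12, true), (4, 78, true), (3, 82, true), (2, 85, true), (1, 10, true), (4, 59, true), (3, 79, true), (2, 83, true), (1, 86, true), (0, 11, true), (2, 77, true), (1, 81, true), (0, 87, true), (1, 9, true), (0, 12, true), (4, 20, true), (3, 54, true), (2, 62, true), (1, 80, true), (0, 84, true), (4, 53, true), (3, 61, true), (2, 79, true), (1, 83, true), (5, 50, true), (4, 62, true), (3, 80, true), (2, 84, true), (1, 90, true), (0, 12, true), (3, 61, true), (2, 79, true), (1, 83, true), (0, 11, true), (2, 60, true), (1, 80, true), (0, 84, true), (2, 78, true), (1, 82, true), (4, 58, true), (3, 76, true), (2, 8, true), (1, 89, true), (0, 12, true), (4, 19, true), (3, 54, true), (2, 62, true), (1, 80, true), (0, 89, true), (4, 49, true), (3, 62, true), (2, 80, true), (1, 89, true), (0, 12, true), (2, 61, true), (1, 79, true), (0, 88, true), (3, 57, true), (2, 79, true), (1, 88, true), (0,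 11, true), (1, 7, true), (3, 16, true), (2, 52, true), (1, 61, true), (0, 88, true), (2, 60, true), (1, 89, true), (0, 90, true), (2, 10, true), (3, 50, true), (2, 62, true), (1, 90, true), (0, 12, true), (1, 61, true), (0, 11, true), (0, 60, true), (2, 58, true), (4, 46, true), (3, 60, true), (2, 84, true), (1, 89, true), (0, 12, true), (1, 82, true), (0, 10, true), (1, 59, true), (0, 83, true), (1, 81, true), (0, 90, true), (4, 58, true), (3, 8, true), (2, 87, true), (1, 90, true), (0, 12, true), (2, 57, true), (1, 86, true), (0, 11, true), (2, 4, true), (3, 15, true), (2, 54, true), (1, 80, true), (0, 87, true), (3, 52, true), (2, 79, true), (1, 86, true), (3, 78, true), (2, 85, true), (5, 48, true), (4, 79, true), (3, 86, true), (2, 88, true), (1, 11, true), (3, 78, true), (2, 85, true), (1, 10, true), (2, 77, true), (1, 9, true), (0, 12, true), (0, 76, true), (3, 46, true), (2, 73, true), (1, 80, true), (0, 84, true), (2, 78, true), (1, 82, true), (4, 72, true), (3, 80, true), (2, 84, true), (1, 89, true), (0, 12, true), (2, 79, true), (1, 83, true), (0, 88, true), (3, 77, true), (2,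 81, true), (1, 89, true), (0, 90, true), (6, 71, true), (5, 80, true), (4, 84, true), (3, 87, true), (2, 89, true), (1, 90, true), (0, 12, true), (4, 79, true), (3, 83, true), (2, 86, true), (1, 88, true), (0, 11, true), (3, 76, true), (2, 8, true), (1, 87, true), (0, 89, true), (4, 70, true), (3, 79, true), (2, 86, true), (1, 88, true), (4, 7, true), (6, 3, true), (5, 62, true), (4, 75, true), (3, 87, true), (2, 89, true), (1, 90, true), (0, 12, true), (4, 61, true), (3, 74, true), (2, 86, true), (1, 88, true), (0, 11, true), (3, 60, true), (2, 75, true), (1, 87, true), (0, 89, true), (3, 73, true), (2, 87, true), (1, 89, true), (0, 12, true), (1, 85, true), (0, 10, true), (2, 59, true), (1, 74, true), (0, 86, true), (2, 72, true), (1, 87, true), (0, 90, true), (2, 86, true), (1, 11, true), (1, 9, true), (0, 12, true), (1, 58, true), (0, 71, true), (4, 55, true), (3, 75, true), (2, 84, true), (1, 90, true), (0, 12, true), (2, 74, true), (1, 83, true), (0, 11, true), (4, 0, true), (3, 61, true), (2, 68, true), (1, 74, true), (0, 83, true), (4, 58, true), (3, 65, true), (2, 75, true), (1,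 84, true), (0, 90, true), (3, 74, true), (2, 83, true), (1, 11, true), (2, 71, true), (1, 84, true), (0, 12, true), (0, 83, true), (1, 8, true), (0, 90, true), (4, 56, true), (3, 68, true), (2, 74, true), (1, 11, true), (2, 63, true), (1, 74, true), (2, 6, true), (1, 11, true), (2, 55, true), (1, 69, true), (0, 12, true), (0, 68, true), (1, 5, true), (0, 11, true), (0, 4, true)], [(6, 60, true), (5, 69, true), (4, 75, true), (3, 80, true), (2, 84, true), (1, 87, true), (0, 89, true), (6, 67, true), (5, 73, true), (4, 80, true), (3, 84, true), (2, 87, true), (1, 89, true), (0, 12, true), (3, 78, true), (2, 82, true), (1, 85, true), (0, 10, true), (5, 59, true), (4, 68, true), (3, 74, true), (2, 79, true), (1, 83, true), (0, 86, true), (5, 66, true), (4, 75, true), (3, 80, true), (2, 84, true), (1, 87, true), (0, 90, true), (5, 74, true), (4, 79, true), (3, 83, true), (2, 86, true), (1, 11, true), (4, 72, true), (3, 80, true), (2, 84, true), (1, 87, true), (0, 12, true), (2, 79, true), (1, 83, true), (0, 86, true), (3, 77, true), (2, 81, true), (1, 87, true), (0, 90, true), (2, 9, true), (1,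 90, true), (0, 12, true), (5, 58, true), (4, 65, true), (3, 75, true), (2, 80, true), (1, 84, true), (0, 90, true), (4, 74, true), (3, 79, true), (2, 83, true), (1, 11, true), (3, 71, true), (2, 80, true), (1, 84, true), (0, 12, true), (1, 79, true), (0, 83, true), (2, 76, true), (1, 8, true), (0, 90, true), (5, 57, true), (4, 68, true), (3, 74, true), (2, 79, true), (1, 11, true), (3, 64, true), (2, 70, true), (1, 79, true), (2, 7, true), (4, 56, true), (3, 68, true), (2, 74, true), (1, 11, true), (2, 63, true), (1, 74, true), (2, 6, true), (1, 11, true), (2, 55, true), (1, 69, true), (0, 12, true), (0, 68, true), (1, 5, true), (0, 11, true), (0, 4, true)]),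
    ([5, 5], [9, 7], [(8, 24, true), (7, 54, true), (6, 69, true), (5, 75, true), (4, 80, true), (3, 84, true), (2, 89, true), (1, 90, true), (0, 12, true), (7, 23, true), (6, 53, true), (5, 68, true), (4, 74, true), (3, 79, true), (2, 83, true), (1, 88, true), (0, 11, true), (6, 22, true), (5, 54, true), (4, 69, true), (3, 75, true), (2, 80, true), (1, 84, true), (0, 89, true), (6, 53, true), (5, 68, true), (4, 74, true), (3, 79, true), (2, 83, true), (1, 88, true), (7, 52, true), (6, 68, true), (5, 74, true), (4, 79, true), (3, 83, true), (2, 88, true), (1, 11, true), (5, 67, true), (4, 73, true), (3, 80, true), (2, 84, true), (1, 89, true), (0, 12, true), (2, 78, true), (1, 82, true), (0, 10, true), (5, 20, true), (4, 54, true), (3, 69, true), (2, 75, true), (1, 80, true), (0, 84, true), (5, 53, true), (4, 68, true), (3, 74, true), (2, 79, true), (1, 83, true), (6, 50, true), (5, 69, true), (4, 75, true), (3, 80, true), (2, 84, true), (1, 90, true), (0, 12, true), (4, 68, true), (3, 74, true), (2, 79, true), (1, 83, true), (0, 11, true), (3, 67, true), (2, 73, true), (1, 80, true), (0,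 84, true), (2, 78, true), (1, 82, true), (5, 65, true), (4, 75, true), (3, 80, true), (2, 84, true), (1, 89, true), (0, 12, true), (3, 74, true), (2, 79, true), (1, 83, true), (0, 88, true), (4, 71, true), (3, 80, true), (2, 84, true), (1, 89, true), (0, 90, true), (4, 79, true), (3, 83, true), (2, 88, true), (1, 11, true), (3, 76, true), (2, 8, true), (1, 89, true), (0, 12, true), (5, 19, true), (4, 54, true), (3, 69, true), (2, 75, true), (1, 80, true), (0, 89, true), (5, 49, true), (4, 69, true), (3, 75, true), (2, 80, true), (1, 89, true), (0, 12, true), (3, 68, true), (2, 74, true), (1, 79, true), (0, 88, true), (4, 64, true), (3, 70, true), (2, 79, true), (1, 88, true), (0, 11, true), (1, 7, true), (4, 18, true), (3, 54, true), (2, 69, true), (1, 75, true), (0, 89, true), (4, 50, true), (3, 69, true), (2, 75, true), (1, 89, true), (0, 12, true), (2, 68, true), (1, 74, true), (0, 88, true), (3, 67, true), (2, 73, true), (1, 89, true), (0, 90, true), (2, 10, true), (3, 65, true), (2, 75, true), (1, 90, true), (0, 12, true), (1, 74, true), (0, 11, true), (0, 71, true), (5, 49, true),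 (4, 69, true), (3, 75, true), (2, 84, true), (1, 90, true), (0, 12, true), (3, 68, true), (2, 74, true), (1, 83, true), (0, 11, true), (2, 64, true), (1, 70, true), (0, 83, true), (5, 48, true), (4, 68, true), (3, 74, true), (2, 79, true), (1, 83, true), (0, 11, true), (3, 67, true), (2, 73, true), (1, 80, true), (0, 84, true), (2, 78, true), (1, 82, true), (5, 66, true), (4, 75, true), (3, 80, true), (2, 84, true), (1, 89, true), (0, 12, true), (3, 74, true), (2, 79, true), (1, 83, true), (0, 88, true), (4, 72, true), (3, 80, true), (2, 84, true), (1, 89, true), (0, 90, true), (4, 79, true), (3, 83, true), (2, 88, true), (1, 11, true), (3, 77, true), (2, 81, true), (1, 89, true), (0, 12, true), (5, 65, true), (4, 75, true), (3, 80, true), (2, 84, true), (1, 87, true), (0, 89, true), (5, 74, true), (4, 79, true), (3, 83, true), (2, 86, true), (1, 88, true), (6, 71, true), (5, 80, true), (4, 84, true), (3, 87, true), (2, 89, true), (1, 90, true), (0, 12, true), (4, 79, true), (3, 83, true), (2, 86, true), (1, 88, true), (0, 11, true), (3, 76, true), (2, 8, true), (1, 87, true), (0, 89, true),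 (5, 63, true), (4, 74, true), (3, 79, true), (2, 86, true), (1, 88, true), (5, 6, true), (4, 79, true), (3, 86, true), (2, 88, true), (1, 11, true), (6, 17, true), (5, 54, true), (4, 69, true), (3, 80, true), (2, 87, true), (1, 89, true), (0, 12, true), (4, 52, true), (3, 68, true), (2, 79, true), (1, 86, true), (0, 88, true), (4, 67, true), (3, 78, true), (2, 85, true), (1, 10, true), (4, 49, true), (3, 69, true), (2, 80, true), (1, 87, true), (0, 90, true), (4, 68, true), (3, 79, true), (2, 86, true), (1, 11, true), (3, 64, true), (2, 7, true), (3, 47, true), (2, 68, true), (1, 86, true), (3, 5, true), (2, 86, true), (1, 11, true), (3, 15, true), (2, 54, true), (1, 87, true), (0, 12, true), (1, 52, true), (0, 86, true), (1, 85, true), (3, 48, true), (2, 86, true), (1, 88, true), (0, 11, true), (1, 85, true), (0, 10, true), (0, 9, true), (3, 46, true), (2, 73, true), (1, 84, true), (0, 12, true), (0, 82, true), (2, 72, true), (1, 84, true), (0, 89, true), (2, 83, true), (1, 88, true), (3, 81, true), (2, 89, true), (1, 90, true), (0, 12, true), (4, 71, true), (3, 84, true), (2, 87, true),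 (1, 89, true), (0, 90, true), (4, 83, true), (3, 86, true), (2, 88, true), (1, 11, true), (3, 8, true), (2, 87, true), (1, 89, true), (0, 12, true), (2, 70, true), (1, 86, true), (0, 88, true), (6, 3, true), (5, 62, true), (4, 75, true), (3, 80, true), (2, 87, true), (1, 89, true), (0, 90, true), (6, 61, true), (5, 74, true), (4, 79, true), (3, 86, true), (2, 88, true), (1, 11, true), (5, 60, true), (4, 75, true), (3, 80, true), (2, 87, true), (1, 89, true), (0, 12, true), (3, 73, true), (2, 80, true), (1, 87, true), (0, 89, true), (3, 78, true), (2, 85, true), (1, 10, true), (4, 59, true), (3, 74, true), (2, 79, true), (1, 86, true), (4, 72, true), (3, 80, true), (2, 87, true), (1, 90, true), (0, 12, true), (2, 79, true), (1, 86, true), (0, 11, true), (1, 77, true), (0, 9, true), (3, 58, true), (2, 71, true), (1, 80, true), (0, 12, true), (0, 79, true), (1, 76, true), (4, 55, true), (3, 75, true), (2, 80, true), (1, 84, true), (0, 90, true), (4, 74, true), (3, 79, true), (2, 83, true), (1, 11, true), (6, 0, true), (5, 61, true), (4, 68, true), (3, 74, true), (2, 79, true), (1, 83, true),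 (6, 58, true), (5, 65, true), (4, 75, true), (3, 80, true), (2, 84, true), (1, 90, true), (0, 12, true), (3, 74, true), (2, 79, true), (1, 83, true), (0, 11, true), (2, 71, true), (1, 80, true), (0, 84, true), (2, 79, true), (1, 83, true), (3, 76, true), (2, 8, true), (1, 90, true), (0, 12, true), (4, 56, true), (3, 68, true), (2, 74, true), (1, 79, true), (0, 11, true), (2, 63, true), (1, 74, true), (0, 79, true), (2, 6, true), (1, 79, true), (0, 11, true), (2, 55, true), (1, 69, true), (0, 80, true), (2, 68, true), (1, 79, true), (3, 5, true), (2, 79, true), (1, 11, true), (2, 4, true), (1, 11, false)], [(2, 84, true), (1, 89, true), (0, 12, true), (1, 82, true), (0, 10, true), (0, 8, true), (1, 10, false), (1, 11, false), (2, 88, false), (0, 90, false), (1, 89, false)]),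
    ([0, 1], [9, 7, 1, 0], [(8, 24, true), (7, 45, true), (6, 54, true), (5, 62, true), (4, 75, true), (3, 80, true), (2, 84, true), (1, 90, true), (0, 12, true), (7, 22, true), (6, 45, true), (5, 54, true), (4, 62, true), (3, 75, true), (2, 80, true), (1, 84, true), (0, 90, true), (7, 44, true), (6, 53, true), (5, 61, true), (4, 74, true), (3, 79, true), (2, 83, true), (1, 11, true), (6, 43, true), (5, 54, true), (4, 62, true), (3, 75, true), (2, 80, true), (1, 84, true), (0, 12, true), (4, 52, true), (3, 61, true), (2, 74, true), (1, 79, true), (0, 83, true), (4, 60, true), (3, 75, true), (2, 80, true), (1, 84, true), (0, 90, true), (4, 73, true), (3, 80, true), (2, 84, true), (1, 90, true), (0, 12, true), (2, 78, true), (1, 82, true), (8, 21, true), (7, 45, true), (6, 54, true), (5, 62, true), (4, 75, true), (3, 80, true), (2, 84, true), (1, 89, true), (0, 90, true), (8, 44, true), (7, 53, true), (6, 61, true), (5, 74, true), (4, 79, true), (3, 83, true), (2, 88, true), (1, 11, true), (7, 43, true), (6, 54, true), (5, 62, true), (4, 75, true), (3, 80, true), (2, 84, true), (1, 89, true),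 (0, 12, true), (5, 52, true), (4, 61, true), (3, 74, true), (2, 79, true), (1, 83, true), (0, 88, true), (5, 60, true), (4, 75, true), (3, 80, true), (2, 84, true), (1, 89, true), (0, 90, true), (5, 73, true), (4, 80, true), (3, 84, true), (2, 89, true), (1, 90, true), (0, 12, true), (3, 78, true), (2, 82, true), (1, 10, true), (6, 42, true), (5, 54, true), (4, 62, true), (3, 75, true), (2, 80, true), (1, 84, true), (0, 90, true), (6, 52, true), (5, 61, true), (4, 74, true), (3, 79, true), (2, 83, true), (1, 11, true), (4, 60, true), (3, 75, true), (2, 80, true), (1, 84, true), (0, 12, true), (2, 73, true), (1, 80, true), (0, 84, true), (2, 78, true), (1, 82, true), (6, 51, true), (5, 62, true), (4, 75, true), (3, 80, true), (2, 84, true), (1, 89, true), (0, 12, true), (4, 61, true), (3, 74, true), (2, 79, true), (1, 83, true), (0, 88, true), (5, 60, true), (4, 75, true), (3, 80, true), (2, 84, true), (1, 89, true), (0, 90, true), (5, 73, true), (4, 80, true), (3, 84, true), (2, 89, true), (1, 90, true), (0, 12, true), (3, 78, true), (2, 82, true), (1, 10, true), (4, 59, true), (3, 74, true),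 (2, 79, true), (1, 83, true), (0, 11, true), (2, 72, true), (1, 80, true), (0, 84, true), (2, 79, true), (1, 83, true), (3, 77, true), (2, 81, true), (1, 90, true), (0, 12, true), (8, 19, true), (7, 45, true), (6, 54, true), (5, 62, true), (4, 75, true), (3, 80, true), (2, 84, true), (1, 87, true), (0, 90, true), (8, 40, true), (7, 53, true), (6, 61, true), (5, 74, true), (4, 79, true), (3, 83, true), (2, 86, true), (1, 11, true), (6, 49, true), (5, 62, true), (4, 75, true), (3, 80, true), (2, 84, true), (1, 87, true), (0, 12, true), (4, 61, true), (3, 74, true), (2, 79, true), (1, 83, true), (0, 86, true), (5, 57, true), (4, 74, true), (3, 79, true), (2, 83, true), (1, 86, true), (0, 11, true), (3, 70, true), (2, 79, true), (1, 83, true), (0, 86, true), (3, 7, true), (7, 17, true), (6, 45, true), (5, 54, true), (4, 62, true), (3, 75, true), (2, 84, true), (1, 87, true), (0, 90, true), (7, 43, true), (6, 54, true), (5, 62, true), (4, 75, true), (3, 84, true), (2, 87, true), (1, 90, true), (0, 12, true), (5, 52, true), (4, 61, true), (3, 74, true), (2, 83, true), (1, 86, true), (0, 11, true),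 (3, 60, true), (2, 75, true), (1, 84, true), (0, 87, true), (3, 73, true), (2, 84, true), (1, 87, true), (0, 12, true), (1, 82, true), (0, 85, true), (6, 40, true), (5, 53, true), (4, 61, true), (3, 74, true), (2, 83, true), (1, 86, true), (0, 88, true), (6, 49, true), (5, 62, true), (4, 75, true), (3, 84, true), (2, 87, true), (1, 89, true), (0, 90, true), (6, 61, true), (5, 74, true), (4, 83, true), (3, 86, true), (2, 88, true), (1, 11, true), (5, 57, true), (4, 74, true), (3, 83, true), (2, 86, true), (1, 88, true), (5, 70, true), (4, 83, true), (3, 86, true), (2, 88, true), (1, 11, true), (8, 38, true), (7, 54, true), (6, 62, true), (5, 75, true), (4, 80, true), (3, 84, true), (2, 87, true), (1, 89, true), (0, 12, true), (6, 53, true), (5, 61, true), (4, 74, true), (3, 79, true), (2, 83, true), (1, 86, true), (0, 88, true), (7, 52, true), (6, 61, true), (5, 74, true), (4, 79, true), (3, 83, true), (2, 86, true), (1, 88, true), (0, 11, true), (5, 60, true), (4, 75, true), (3, 80, true), (2, 84, true), (1, 87, true), (0, 89, true), (5, 73, true), (4, 80, true), (3, 84, true), (2, 87, true),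 (1, 89, true), (0, 12, true), (3, 78, true), (2, 82, true), (1, 85, true), (0, 10, true), (5, 49, true), (4, 62, true), (3, 75, true), (2, 80, true), (1, 84, true), (0, 87, true), (5, 61, true), (4, 74, true), (3, 79, true), (2, 83, true), (1, 86, true), (6, 57, true), (5, 74, true), (4, 79, true), (3, 83, true), (2, 86, true), (1, 11, true), (4, 70, true), (3, 79, true), (2, 83, true), (1, 86, true), (4, 7, true), (6, 47, true), (5, 61, true), (4, 74, true), (3, 83, true), (2, 86, true), (1, 11, true), (4, 55, true), (3, 75, true), (2, 84, true), (1, 87, true), (0, 12, true), (2, 74, true), (1, 83, true), (0, 86, true), (8, 15, true), (7, 45, true), (6, 54, true), (5, 62, true), (4, 69, true), (3, 75, true), (2, 84, true), (1, 87, true), (0, 90, true), (8, 43, true), (7, 54, true), (6, 62, true), (5, 69, true), (4, 75, true), (3, 84, true), (2, 87, true), (1, 90, true), (0, 12, true), (6, 52, true), (5, 61, true), (4, 68, true), (3, 74, true), (2, 83, true), (1, 86, true), (0, 11, true), (4, 60, true), (3, 69, true), (2, 75, true), (1, 84, true), (0, 87, true), (4, 67, true), (3, 73, true),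 (2, 84, true), (1, 87, true), (0, 12, true), (1, 82, true), (0, 85, true), (7, 39, true), (6, 53, true), (5, 61, true), (4, 68, true), (3, 74, true), (2, 83, true), (1, 86, true), (0, 88, true), (7, 50, true), (6, 62, true), (5, 69, true), (4, 75, true), (3, 84, true), (2, 87, true), (1, 89, true), (0, 90, true), (7, 61, true), (6, 68, true), (5, 74, true), (4, 83, true), (3, 86, true), (2, 88, true), (1, 11, true), (6, 60, true), (5, 69, true), (4, 75, true), (3, 84, true), (2, 87, true), (1, 89, true), (0, 12, true), (4, 67, true), (3, 73, true), (2, 84, true), (1, 87, true), (0, 89, true), (3, 82, true), (2, 85, true), (1, 10, true), (5, 58, true), (4, 65, true), (3, 75, true), (2, 84, true), (1, 87, true), (0, 12, true), (2, 74, true), (1, 83, true), (0, 86, true), (3, 71, true), (2, 84, true), (1, 87, true), (0, 90, true), (3, 83, true), (2, 86, true), (1, 11, true), (2, 8, true), (1, 87, true), (0, 12, true), (4, 49, true), (3, 62, true), (2, 69, true), (1, 75, true), (0, 87, true), (4, 61, true), (3, 68, true), (2, 74, true), (1, 86, true), (5, 57, true), (4, 68, true), (3, 74, true),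 (2, 86, true), (1, 11, true), (3, 64, true), (2, 70, true), (1, 86, true), (7, 48, true), (6, 61, true), (5, 68, true), (4, 74, true), (3, 79, true), (2, 86, true), (1, 11, true), (5, 60, true), (4, 69, true), (3, 75, true), (2, 80, true), (1, 87, true), (0, 12, true), (3, 67, true), (2, 73, true), (1, 80, true), (0, 87, true), (2, 78, true), (1, 85, true), (6, 59, true), (5, 68, true), (4, 74, true), (3, 79, true), (2, 86, true), (1, 88, true), (6, 66, true), (5, 75, true), (4, 80, true), (3, 87, true), (2, 89, true), (1, 90, true), (0, 12, true), (4, 74, true), (3, 79, true), (2, 86, true), (1, 88, true), (0, 11, true), (3, 72, true), (2, 80, true), (1, 87, true), (0, 89, true), (3, 79, true), (2, 86, true), (1, 88, true), (4, 77, true), (3, 9, true), (2, 89, true), (1, 90, true), (0, 12, true), (5, 58, true), (4, 65, true), (3, 75, true), (2, 80, true), (1, 89, true), (0, 90, true), (4, 74, true), (3, 79, true), (2, 88, true), (1, 11, true), (3, 71, true), (2, 80, true), (1, 89, true), (0, 12, true), (1, 79, true), (0, 88, true), (2, 76, true), (6, 56, true), (5, 68, true), (4, 74, true),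 (3, 79, true), (2, 83, true), (1, 88, true), (0, 11, true), (4, 63, true), (3, 74, true), (2, 79, true), (1, 83, true), (0, 88, true), (4, 6, true), (3, 79, true), (2, 83, true), (1, 88, true), (0, 11, true), (6, 37, true), (5, 54, true), (4, 62, true), (3, 69, true), (2, 80, true), (1, 84, true), (0, 89, true), (6, 53, true), (5, 61, true), (4, 68, true), (3, 79, true), (2, 83, true), (1, 88, true), (7, 52, true), (6, 61, true), (5, 68, true), (4, 79, true), (3, 83, true), (2, 88, true), (1, 11, true), (5, 60, true), (4, 69, true), (3, 80, true), (2, 84, true), (1, 89, true), (0, 12, true), (3, 67, true), (2, 78, true), (1, 82, true), (0, 10, true), (4, 50, true), (3, 62, true), (2, 69, true), (1, 80, true), (0, 84, true), (4, 61, true), (3, 68, true), (2, 79, true), (1, 83, true), (5, 60, true), (4, 69, true), (3, 80, true), (2, 84, true), (1, 90, true), (0, 12, true), (3, 67, true), (2, 78, true), (1, 82, true), (5, 58, true), (4, 65, true), (3, 80, true), (2, 84, true), (1, 89, true), (0, 90, true), (4, 79, true), (3, 83, true), (2, 88, true), (1, 11, true), (3, 76, true), (2, 8, true),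 (1, 89, true), (0, 12, true), (4, 46, true), (3, 60, true), (2, 69, true), (1, 80, true), (0, 89, true), (3, 67, true), (2, 78, true), (1, 10, true), (3, 59, true), (2, 68, true), (1, 79, true), (3, 66, true), (2, 80, true), (1, 90, true), (0, 12, true), (1, 79, true), (0, 11, true), (0, 77, true), (3, 58, true), (2, 65, true), (1, 80, true), (0, 87, true), (2, 79, true), (1, 86, true), (3, 76, true), (6, 57, true), (5, 68, true), (4, 79, true), (3, 83, true), (2, 86, true), (1, 11, true), (4, 64, true), (3, 7, true), (4, 4, true), (5, 36, true), (4, 54, true), (3, 69, true), (2, 84, true), (1, 87, true), (0, 12, true), (3, 53, true), (2, 68, true), (1, 83, true), (0, 86, true), (4, 52, true), (3, 68, true), (2, 83, true), (1, 86, true), (0, 11, true), (2, 67, true), (1, 82, true), (0, 85, true), (4, 51, true), (3, 69, true), (2, 84, true), (1, 87, true), (0, 89, true), (4, 68, true), (3, 83, true), (2, 86, true), (1, 88, true), (5, 67, true), (4, 82, true), (3, 85, true), (2, 10, true), (4, 66, true), (3, 84, true), (2, 87, true), (1, 90, true), (0, 12, true), (2, 83, true), (1, 86, true),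 (0, 11, true), (1, 81, true), (0, 87, true), (1, 9, true), (0, 12, true), (2, 50, true), (1, 69, true), (0, 84, true), (2, 68, true), (1, 83, true), (3, 67, true), (2, 82, true), (4, 65, true), (3, 84, true), (2, 89, true), (1, 90, true), (0, 12, true), (2, 83, true), (1, 88, true), (0, 11, true), (1, 8, true), (0, 89, true), (3, 48, true), (2, 68, true), (1, 88, true), (3, 67, true), (2, 10, true), (2, 66, true), (1, 90, true), (0, 12, true), (0, 11, true), (1, 65, true), (0, 87, true), (1, 86, true), (4, 63, true), (3, 83, true), (2, 86, true), (1, 11, true), (5, 47, true), (4, 68, true), (3, 74, true), (2, 83, true), (1, 86, true), (5, 5, true), (4, 74, true), (3, 83, true), (2, 86, true), (1, 11, true), (4, 46, true), (3, 73, true), (2, 84, true), (1, 87, true), (0, 12, true), (1, 82, true), (0, 85, true), (3, 72, true), (2, 84, true), (1, 87, true), (0, 89, true), (3, 83, true), (2, 86, true), (1, 88, true), (4, 81, true), (3, 87, true), (2, 89, true), (1, 90, true), (0, 12, true), (2, 9, true), (1, 89, true), (0, 90, true), (4, 71, true), (3, 84, true), (2, 89, true), (1, 90, true),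 (0, 12, true), (2, 83, true), (1, 88, true), (0, 11, true), (1, 8, true), (0, 89, true), (2, 70, true), (1, 88, true), (6, 3, true), (5, 62, true), (4, 75, true), (3, 80, true), (2, 89, true), (1, 90, true), (0, 12, true), (4, 61, true), (3, 74, true), (2, 79, true), (1, 88, true), (0, 11, true), (3, 60, true), (2, 75, true), (1, 80, true), (0, 89, true), (3, 73, true), (2, 80, true), (1, 89, true), (0, 12, true), (1, 78, true), (0, 10, true), (2, 59, true), (1, 74, true), (0, 79, true), (2, 72, true), (1, 80, true), (0, 90, true), (2, 79, true), (1, 11, true), (1, 77, true), (4, 58, true), (3, 71, true), (2, 80, true), (1, 87, true), (0, 12, true), (1, 79, true), (0, 86, true), (2, 76, true), (5, 55, true), (4, 75, true), (3, 80, true), (2, 84, true), (1, 87, true), (0, 90, true), (5, 74, true), (4, 79, true), (3, 83, true), (2, 86, true), (1, 11, true), (8, 14, true), (7, 43, true), (6, 62, true), (5, 69, true), (4, 75, true), (3, 80, true), (2, 84, true), (1, 87, true), (0, 12, true), (5, 60, true), (4, 69, true), (3, 75, true), (2, 80, true), (1, 84, true), (0, 87, true), (5, 67, true),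 (4, 73, true), (3, 80, true), (2, 84, true), (1, 87, true), (0, 12, true), (2, 78, true), (1, 82, true), (0, 85, true), (7, 40, true), (6, 61, true), (5, 68, true), (4, 74, true), (3, 79, true), (2, 83, true), (1, 86, true), (0, 88, true), (7, 57, true), (6, 68, true), (5, 74, true), (4, 79, true), (3, 83, true), (2, 86, true), (1, 88, true), (0, 11, true), (5, 64, true), (4, 70, true), (3, 79, true), (2, 83, true), (1, 86, true), (0, 88, true), (4, 7, true), (7, 39, true), (6, 61, true), (5, 68, true), (4, 74, true), (3, 83, true), (2, 86, true), (1, 88, true), (0, 11, true), (5, 58, true), (4, 65, true), (3, 75, true), (2, 84, true), (1, 87, true), (0, 89, true), (4, 74, true), (3, 83, true), (2, 86, true), (1, 88, true), (5, 71, true), (4, 84, true), (3, 87, true), (2, 89, true), (1, 90, true), (0, 12, true), (3, 83, true), (2, 86, true), (1, 88, true), (0, 11, true), (2, 8, true), (1, 87, true), (0, 89, true), (5, 57, true), (4, 68, true), (3, 74, true), (2, 86, true), (1, 88, true), (5, 64, true), (4, 70, true), (3, 86, true), (2, 88, true), (1, 11, true), (6, 56, true), (5, 68, true),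 (4, 74, true), (3, 79, true), (2, 86, true), (1, 88, true), (6, 63, true), (5, 74, true), (4, 79, true), (3, 86, true), (2, 88, true), (1, 11, true), (4, 6, true), (3, 79, true), (2, 86, true), (1, 88, true), (7, 38, true), (6, 62, true), (5, 69, true), (4, 80, true), (3, 87, true), (2, 89, true), (1, 90, true), (0, 12, true), (5, 61, true), (4, 68, true), (3, 79, true), (2, 86, true), (1, 88, true), (0, 11, true), (4, 60, true), (3, 69, true), (2, 80, true), (1, 87, true), (0, 89, true), (4, 67, true), (3, 78, true), (2, 85, true), (1, 10, true), (4, 57, true), (3, 68, true), (2, 79, true), (1, 86, true), (4, 64, true), (3, 7, true), (4, 55, true), (3, 69, true), (2, 87, true), (1, 90, true), (0, 12, true), (2, 68, true), (1, 86, true), (0, 11, true), (1, 5, true), (0, 86, true), (3, 37, true), (2, 62, true), (1, 87, true), (0, 90, true), (3, 61, true), (2, 86, true), (1, 11, true), (2, 60, true), (1, 87, true), (0, 12, true), (0, 85, true), (2, 58, true), (3, 4, true), (3, 2, true), (2, 83, true), (1, 86, true), (0, 88, true), (3, 82, true), (2, 85, true), (1, 10, true), (2, 8, true),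 (1, 87, true), (0, 90, true), (4, 0, true), (3, 79, true), (2, 86, true), (1, 11, true), (2, 76, true), (2, 76, false), (1, 11, false), (2, 86, false), (3, 79, false), (4, 0, false), (0, 90, false), (1, 87, false), (2, 8, false), (1, 10, false), (2, 85, false), (3, 82, false), (0, 88, false), (1, 86, false), (2, 83, false), (3, 2, false), (3, 4, false), (2, 58, false), (0, 85, false), (0, 12, false), (1, 87, false), (2, 60, false), (1, 11, false), (2, 86, false), (3, 61, false), (0, 90, false), (1, 87, false), (2, 62, false), (3, 37, false), (0, 86, false), (1, 5, false), (0, 11, false), (1, 86, false), (2, 68, false), (0, 12, false), (1, 90, false), (2, 87, false), (3, 69, false), (4, 55, false), (3, 7, false), (4, 64, false), (1, 86, false), (2, 79, false), (3, 68, false), (4, 57, false), (1, 10, false), (2, 85, false), (3, 78, false), (4, 67, false), (0, 89, false), (1, 87, false), (2, 80, false), (3, 69, false), (4, 60, false), (0, 11, false), (1, 88, false), (2, 86, false), (3, 79, false), (4, 68, false), (5, 61, false), (0, 12, false), (1, 90, false), (2, 89, false), (3, 87, false),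 (4, 80, false), (5, 69, false), (6, 62, false), (7, 38, false), (1, 88, false), (2, 86, false), (3, 79, false), (4, 6, false), (1, 11, false), (2, 88, false), (3, 86, false), (4, 79, false), (5, 74, false), (6, 63, false), (1, 88, false), (2, 86, false), (3, 79, false), (4, 74, false), (5, 68, false), (6, 56, false), (1, 11, false), (2, 88, false), (3, 86, false), (4, 70, false), (5, 64, false), (1, 88, false), (2, 86, false), (3, 74, false), (4, 68, false), (5, 57, false), (0, 89, false), (1, 87, false), (2, 8, false), (0, 11, false), (1, 88, false), (2, 86, false), (3, 83, false), (0, 12, false), (1, 90, false), (2, 89, false), (3, 87, false), (4, 84, false), (5, 71, false), (1, 88, false), (2, 86, false), (3, 83, false), (4, 74, false), (0, 89, false), (1, 87, false), (2, 84, false), (3, 75, false), (4, 65, false), (5, 58, false), (0, 11, false), (1, 88, false), (2, 86, false), (3, 83, false), (4, 74, false), (5, 68, false), (6, 61, false), (7, 39, false), (4, 7, false), (0, 88, false), (1, 86, false), (2, 83, false), (3, 79, false), (4, 70, false), (5, 64, false), (0, 11, false), (1,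 88, false), (2, 86, false), (3, 83, false), (4, 79, false), (5, 74, false), (6, 68, false), (7, 57, false), (0, 88, false), (1, 86, false), (2, 83, false), (3, 79, false), (4, 74, false), (5, 68, false), (6, 61, false), (7, 40, false), (0, 85, false), (1, 82, false), (2, 78, false), (0, 12, false), (1, 87, false), (2, 84, false), (3, 80, false), (4, 73, false), (5, 67, false), (0, 87, false), (1, 84, false), (2, 80, false), (3, 75, false), (4, 69, false), (5, 60, false), (0, 12, false), (1, 87, false), (2, 84, false), (3, 80, false), (4, 75, false), (5, 69, false), (6, 62, false), (7, 43, false), (8, 14, false), (1, 11, false), (2, 86, false), (3, 83, false), (4, 79, false), (5, 74, false), (0, 90, false), (1, 87, false), (2, 84, false), (3, 80, false), (4, 75, false), (5, 55, false), (2, 76, false), (0, 86, false), (1, 79, false), (0, 12, false), (1, 87, false), (2, 80, false), (3, 71, false), (4, 58, false), (1, 77, false), (1, 11, false), (2, 79, false), (0, 90, false), (1, 80, false), (2, 72, false), (0, 79, false), (1, 74, false), (2, 59, false), (0, 10, false), (1, 78, false), (0,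 12, false), (1, 89, false), (2, 80, false), (3, 73, false), (0, 89, false), (1, 80, false), (2, 75, false), (3, 60, false), (0, 11, false), (1, 88, false), (2, 79, false), (3, 74, false), (4, 61, false), (0, 12, false), (1, 90, false), (2, 89, false), (3, 80, false), (4, 75, false), (5, 62, false), (6, 3, false), (1, 88, false), (2, 70, false), (0, 89, false), (1, 8, false), (0, 11, false), (1, 88, false), (2, 83, false), (0, 12, false), (1, 90, false), (2, 89, false), (3, 84, false), (4, 71, false), (0, 90, false), (1, 89, false), (2, 9, false), (0, 12, false), (1, 90, false), (2, 89, false), (3, 87, false), (4, 81, false), (1, 88, false), (2, 86, false), (3, 83, false), (0, 89, false), (1, 87, false), (2, 84, false), (3, 72, false), (0, 85, false), (1, 82, false), (0, 12, false), (1, 87, false), (2, 84, false), (3, 73, false), (4, 46, false), (1, 11, false), (2, 86, false), (3, 83, false), (4, 74, false), (5, 5, false), (1, 86, false), (2, 83, false), (3, 74, false), (4, 68, false), (5, 47, false), (1, 11, false), (2, 86, false), (3, 83, false), (4, 63, false), (1, 86, false), (0, 87,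 false), (1, 65, false), (0, 11, false), (0, 12, false), (1, 90, false), (2, 66, false), (2, 10, false), (3, 67, false), (1, 88, false), (2, 68, false), (3, 48, false), (0, 89, false), (1, 8, false), (0, 11, false), (1, 88, false), (2, 83, false), (0, 12, false), (1, 90, false), (2, 89, false), (3, 84, false), (4, 65, false), (2, 82, false), (3, 67, false), (1, 83, false), (2, 68, false), (0, 84, false), (1, 69, false), (2, 50, false), (0, 12, false), (1, 9, false), (0, 87, false), (1, 81, false), (0, 11, false), (1, 86, false), (2, 83, false), (0, 12, false), (1, 90, false), (2, 87, false), (3, 84, false), (4, 66, false), (2, 10, false), (3, 85, false), (4, 82, false), (5, 67, false), (1, 88, false), (2, 86, false), (3, 83, false), (4, 68, false), (0, 89, false), (1, 87, false), (2, 84, false), (3, 69, false), (4, 51, false), (0, 85, false), (1, 82, false), (2, 67, false), (0, 11, false), (1, 86, false), (2, 83, false), (3, 68, false), (4, 52, false), (0, 86, false), (1, 83, false), (2, 68, false), (3, 53, false), (0, 12, false), (1, 87, false), (2, 84, false), (3, 69, false), (4, 54, false),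 (5, 36, false), (4, 4, false), (3, 7, false), (4, 64, false), (1, 11, false), (2, 86, false), (3, 83, false), (4, 79, false), (5, 68, false), (6, 57, false), (3, 76, false), (1, 86, false), (2, 79, false), (0, 87, false), (1, 80, false), (2, 65, false), (3, 58, false), (0, 77, false), (0, 11, false), (1, 79, false), (0, 12, false), (1, 90, false), (2, 80, false), (3, 66, false), (1, 79, false), (2, 68, false), (3, 59, false), (1, 10, false), (2, 78, false), (3, 67, false), (0, 89, false), (1, 80, false), (2, 69, false), (3, 60, false), (4, 46, false), (0, 12, false), (1, 89, false), (2, 8, false), (3, 76, false), (1, 11, false), (2, 88, false), (3, 83, false), (4, 79, false), (0, 90, false), (1, 89, false), (2, 84, false), (3, 80, false), (4, 65, false), (5, 58, false), (1, 82, false), (2, 78, false), (3, 67, false), (0, 12, false), (1, 90, false), (2, 84, false), (3, 80, false), (4, 69, false), (5, 60, false), (1, 83, false), (2, 79, false), (3, 68, false), (4, 61, false), (0, 84, false), (1, 80, false), (2, 69, false), (3, 62, false), (4, 50, false), (0, 10, false), (1, 82, false), (2,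 78, false), (3, 67, false), (0, 12, false), (1, 89, false), (2, 84, false), (3, 80, false), (4, 69, false), (5, 60, false), (1, 11, false), (2, 88, false), (3, 83, false), (4, 79, false), (5, 68, false), (6, 61, false), (7, 52, false), (1, 88, false), (2, 83, false), (3, 79, false), (4, 68, false), (5, 61, false), (6, 53, false), (0, 89, false), (1, 84, false), (2, 80, false), (3, 69, false), (4, 62, false), (5, 54, false), (6, 37, false), (0, 11, false), (1, 88, false), (2, 83, false), (3, 79, false), (4, 6, false), (0, 88, false), (1, 83, false), (2, 79, false), (3, 74, false), (4, 63, false), (0, 11, false), (1, 88, false), (2, 83, false), (3, 79, false), (4, 74, false), (5, 68, false), (6, 56, false), (2, 76, false), (0, 88, false), (1, 79, false), (0, 12, false), (1, 89, false), (2, 80, false), (3, 71, false), (1, 11, false), (2, 88, false), (3, 79, false), (4, 74, false), (0, 90, false), (1, 89, false), (2, 80, false), (3, 75, false), (4, 65, false), (5, 58, false), (0, 12, false), (1, 90, false), (2, 89, false), (3, 9, false), (4, 77, false), (1, 88, false), (2, 86, false), (3, 79,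 false), (0, 89, false), (1, 87, false), (2, 80, false), (3, 72, false), (0, 11, false), (1, 88, false), (2, 86, false), (3, 79, false), (4, 74, false), (0, 12, false), (1, 90, false), (2, 89, false), (3, 87, false), (4, 80, false), (5, 75, false), (6, 66, false), (1, 88, false), (2, 86, false), (3, 79, false), (4, 74, false), (5, 68, false), (6, 59, false), (1, 85, false), (2, 78, false), (0, 87, false), (1, 80, false), (2, 73, false), (3, 67, false), (0, 12, false), (1, 87, false), (2, 80, false), (3, 75, false), (4, 69, false), (5, 60, false), (1, 11, false), (2, 86, false), (3, 79, false), (4, 74, false), (5, 68, false), (6, 61, false), (7, 48, false), (1, 86, false), (2, 70, false), (3, 64, false), (1, 11, false), (2, 86, false), (3, 74, false), (4, 68, false), (5, 57, false), (1, 86, false), (2, 74, false), (3, 68, false), (4, 61, false), (0, 87, false), (1, 75, false), (2, 69, false), (3, 62, false), (4, 49, false), (0, 12, false), (1, 87, false), (2, 8, false), (1, 11, false), (2, 86, false), (3, 83, false), (0, 90, false), (1, 87, false), (2, 84, false), (3, 71, false), (0, 86, false),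 (1, 83, false), (2, 74, false), (0, 12, false), (1, 87, false), (2, 84, false), (3, 75, false), (4, 65, false), (5, 58, false), (1, 10, false), (2, 85, false), (3, 82, false), (0, 89, false), (1, 87, false), (2, 84, false), (3, 73, false), (4, 67, false), (0, 12, false), (1, 89, false), (2, 87, false), (3, 84, false), (4, 75, false), (5, 69, false), (6, 60, false), (1, 11, false), (2, 88, false), (3, 86, false), (4, 83, false), (5, 74, false), (6, 68, false), (7, 61, false), (0, 90, false), (1, 89, false), (2, 87, false), (3, 84, false), (4, 75, false), (5, 69, false), (6, 62, false), (7, 50, false), (0, 88, false), (1, 86, false), (2, 83, false), (3, 74, false), (4, 68, false), (5, 61, false), (6, 53, false), (7, 39, false), (0, 85, false), (1, 82, false), (0, 12, false), (1, 87, false), (2, 84, false), (3, 73, false), (4, 67, false), (0, 87, false), (1, 84, false), (2, 75, false), (3, 69, false), (4, 60, false), (0, 11, false), (1, 86, false), (2, 83, false), (3, 74, false), (4, 68, false), (5, 61, false), (6, 52, false), (0, 12, false), (1, 90, false), (2, 87, false), (3, 84, false),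 (4, 75, false), (5, 69, false), (6, 62, false), (7, 54, false), (8, 43, false), (0, 90, false), (1, 87, false), (2, 84, false), (3, 75, false), (4, 69, false), (5, 62, false), (6, 54, false), (7, 45, false), (8, 15, false), (3, 7, false), (0, 86, false), (1, 83, false), (2, 79, false), (3, 70, false), (4, 64, false), (1, 76, false), (0, 11, false), (1, 86, false), (2, 79, false), (0, 12, false), (1, 90, false), (2, 87, false), (3, 80, false), (4, 71, false), (1, 86, false), (2, 79, false), (3, 74, false), (0, 87, false), (1, 80, false), (2, 75, false), (3, 65, false), (0, 77, false), (0, 11, false), (1, 79, false), (0, 12, false), (1, 90, false), (2, 80, false), (3, 72, false), (1, 79, false), (2, 74, false), (0, 80, false), (1, 75, false), (2, 66, false), (0, 10, false), (1, 78, false), (0, 12, false), (1, 89, false), (2, 80, false), (3, 73, false), (4, 67, false), (5, 46, false), (0, 89, false), (1, 8, false), (2, 76, false), (0, 11, false), (1, 88, false), (2, 83, false), (3, 79, false), (0, 12, false), (1, 90, false), (2, 89, false), (3, 84, false), (4, 80, false), (5, 71, false), (1,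 88, false), (2, 83, false), (3, 79, false), (4, 74, false), (0, 89, false), (1, 84, false), (2, 80, false), (3, 75, false), (4, 65, false), (0, 82, false), (1, 78, false), (0, 12, false), (1, 84, false), (2, 80, false), (3, 73, false), (4, 67, false), (1, 11, false), (2, 83, false), (3, 79, false), (4, 74, false), (5, 68, false), (0, 90, false), (1, 84, false), (2, 80, false), (3, 75, false), (4, 69, false), (5, 50, false), (1, 10, false), (2, 82, false), (3, 78, false), (0, 12, false), (1, 90, false), (2, 89, false), (3, 84, false), (4, 80, false), (5, 73, false), (6, 67, false), (1, 88, false), (2, 83, false), (3, 79, false), (4, 74, false), (5, 68, false), (6, 52, false), (1, 11, false), (2, 88, false), (3, 83, false), (4, 79, false), (5, 74, false), (6, 68, false), (7, 53, false), (0, 90, false), (1, 89, false), (2, 84, false), (3, 80, false), (4, 75, false), (5, 69, false), (6, 54, false), (7, 37, false), (2, 76, false), (0, 88, false), (1, 79, false), (0, 12, false), (1, 89, false), (2, 80, false), (3, 71, false), (1, 11, false), (2, 88, false), (3, 79, false), (4, 74, false), (0,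 90, false), (1, 89, false), (2, 80, false), (3, 75, false), (4, 65, false), (1, 78, false), (0, 12, false), (1, 90, false), (2, 80, false), (3, 73, false), (4, 67, false), (1, 79, false), (2, 74, false), (3, 68, false), (0, 80, false), (1, 75, false), (2, 69, false), (3, 50, false), (0, 11, false), (1, 79, false), (2, 74, false), (3, 68, false), (4, 53, false), (0, 12, false), (1, 90, false), (2, 80, false), (3, 75, false), (4, 69, false), (5, 54, false), (6, 41, false), (2, 10, false), (3, 78, false), (0, 90, false), (1, 89, false), (2, 80, false), (3, 73, false), (4, 67, false), (0, 88, false), (1, 79, false), (2, 74, false), (3, 68, false), (4, 52, false), (0, 12, false), (1, 89, false), (2, 80, false), (3, 75, false), (4, 69, false), (5, 54, false), (6, 43, false), (7, 16, false), (1, 11, false), (2, 88, false), (3, 79, false), (4, 63, false), (0, 90, false), (1, 89, false), (2, 8, false), (3, 76, false), (0, 88, false), (1, 83, false), (2, 79, false), (0, 12, false), (1, 89, false), (2, 84, false), (3, 80, false), (4, 65, false), (0, 89, false), (1, 9, false), (0, 12, false), (1, 89,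 false), (2, 87, false), (3, 81, false), (4, 77, false), (1, 11, false), (2, 88, false), (3, 86, false), (4, 83, false), (5, 79, false), (0, 90, false), (1, 89, false), (2, 87, false), (3, 84, false), (4, 80, false), (5, 66, false), (1, 85, false), (2, 82, false), (3, 78, false), (4, 67, false), (0, 86, false), (1, 83, false), (2, 79, false), (3, 68, false), (4, 48, false), (2, 64, false), (0, 11, false), (1, 86, false), (2, 83, false), (3, 68, false), (0, 12, false), (1, 90, false), (2, 87, false), (3, 84, false), (4, 69, false), (5, 49, false), (1, 86, false), (0, 87, false), (1, 65, false), (0, 10, false), (1, 85, false), (2, 67, false), (0, 11, false), (1, 88, false), (2, 86, false), (3, 68, false), (0, 12, false), (1, 90, false), (2, 89, false), (3, 87, false), (4, 69, false), (5, 50, false), (1, 88, false), (2, 86, false), (3, 68, false), (4, 53, false), (5, 39, false), (3, 7, false), (4, 64, false), (1, 11, false), (2, 88, false), (3, 86, false), (4, 79, false), (5, 68, false), (0, 90, false), (1, 89, false), (2, 87, false), (3, 80, false), (4, 69, false), (5, 49, false), (0, 88, false),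 (1, 86, false), (2, 79, false), (3, 68, false), (4, 53, false), (5, 40, false), (0, 12, false), (1, 89, false), (2, 87, false), (3, 8, false), (4, 76, false), (1, 11, false), (2, 88, false), (3, 86, false), (4, 83, false), (5, 79, false), (0, 90, false), (1, 89, false), (2, 87, false), (3, 84, false), (4, 80, false), (5, 65, false), (1, 85, false), (2, 82, false), (3, 78, false), (4, 67, false), (0, 86, false), (1, 83, false), (2, 79, false), (3, 68, false), (0, 12, false), (1, 87, false), (2, 84, false), (3, 80, false), (4, 69, false), (5, 50, false), (1, 11, false), (2, 86, false), (3, 83, false), (4, 79, false), (5, 68, false), (6, 53, false), (0, 90, false), (1, 87, false), (2, 84, false), (3, 80, false), (4, 69, false), (5, 54, false), (6, 41, false), (0, 12, false), (1, 90, false), (2, 87, false), (3, 84, false), (4, 80, false), (5, 69, false), (6, 54, false), (7, 45, false), (8, 18, false), (4, 64, false), (1, 86, false), (2, 83, false), (3, 68, false), (0, 87, false), (1, 84, false), (2, 69, false), (3, 49, false), (0, 11, false), (1, 86, false), (2, 83, false), (3, 68, false), (4,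 53, false), (5, 40, false), (0, 12, false), (1, 90, false), (2, 87, false), (3, 84, false), (4, 69, false), (5, 54, false), (6, 45, false), (7, 19, false), (1, 86, false), (0, 87, false), (1, 65, false), (0, 10, false), (1, 85, false), (2, 67, false), (0, 11, false), (1, 88, false), (2, 86, false), (3, 68, false), (0, 12, false), (1, 90, false), (2, 89, false), (3, 87, false), (4, 69, false), (5, 50, false), (1, 88, false), (2, 86, false), (3, 68, false), (4, 53, false), (0, 89, false), (1, 87, false), (2, 69, false), (3, 54, false), (4, 41, false), (0, 11, false), (1, 88, false), (2, 86, false), (3, 68, false), (4, 53, false), (5, 44, false), (0, 12, false), (1, 90, false), (2, 89, false), (3, 87, false), (4, 69, false), (5, 54, false), (6, 45, false), (7, 20, false), (1, 88, false), (2, 86, false), (3, 68, false), (4, 53, false), (5, 44, false), (6, 23, false), (0, 89, false), (1, 87, false), (2, 69, false), (3, 54, false), (4, 45, false), (5, 24, false), (2, 7, false), (1, 77, false), (0, 78, false), (0, 12, false), (1, 80, false), (1, 11, false)], [(7, 24, true), (6, 45, true), (5, 54,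 true), (4, 62, true), (3, 75, true), (2, 84, true), (1, 90, true), (0, 12, true), (6, 19, true), (5, 45, true), (4, 54, true), (3, 62, true), (2, 75, true), (1, 84, true), (0, 90, true), (6, 40, true), (5, 53, true), (4, 61, true), (3, 74, true), (2, 83, true), (1, 11, true), (4, 49, true), (3, 62, true), (2, 75, true), (1, 84, true), (0, 12, true), (2, 61, true), (1, 74, true), (0, 83, true), (3, 57, true), (2, 74, true), (1, 83, true), (0, 11, true), (1, 70, true), (0, 83, true), (7, 17, true), (6, 45, true), (5, 54, true), (4, 62, true), (3, 75, true), (2, 80, true), (1, 84, true), (0, 90, true), (7, 43, true), (6, 54, true), (5, 62, true), (4, 75, true), (3, 80, true), (2, 84, true), (1, 90, true), (0, 12, true), (5, 52, true), (4, 61, true), (3, 74, true), (2, 79, true), (1, 83, true), (0, 11, true), (3, 60, true), (2, 75, true), (1, 80, true), (0, 84, true), (3, 73, true), (2, 80, true), (1, 84, true), (0, 12, true), (1, 78, true), (0, 82, true), (6, 40, true), (5, 53, true), (4, 61, true), (3, 74, true), (2, 79, true), (1, 83, true), (0, 88, true), (6, 49, true), (5, 62, true), (4,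 75, true), (3, 80, true), (2, 84, true), (1, 89, true), (0, 90, true), (6, 61, true), (5, 74, true), (4, 79, true), (3, 83, true), (2, 88, true), (1, 11, true), (5, 57, true), (4, 74, true), (3, 79, true), (2, 83, true), (1, 88, true), (5, 70, true), (4, 79, true), (3, 83, true), (2, 88, true), (1, 11, true), (3, 7, true), (6, 38, true), (5, 54, true), (4, 62, true), (3, 75, true), (2, 84, true), (1, 89, true), (0, 12, true), (4, 53, true), (3, 61, true), (2, 74, true), (1, 83, true), (0, 88, true), (5, 52, true), (4, 61, true), (3, 74, true), (2, 83, true), (1, 88, true), (0, 11, true), (3, 60, true), (2, 75, true), (1, 84, true), (0, 89, true), (3, 73, true), (2, 84, true), (1, 89, true), (0, 12, true), (1, 82, true), (0, 10, true), (3, 49, true), (2, 62, true), (1, 75, true), (0, 84, true), (3, 61, true), (2, 74, true), (1, 83, true), (4, 57, true), (3, 74, true), (2, 83, true), (1, 11, true), (2, 70, true), (1, 83, true), (6, 47, true), (5, 61, true), (4, 74, true), (3, 79, true), (2, 83, true), (1, 11, true), (4, 55, true), (3, 75, true), (2, 80, true), (1, 84, true), (0, 12, true),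 (2, 74, true), (1, 79, true), (0, 83, true), (8, 16, true), (7, 43, true), (6, 54, true), (5, 62, true), (4, 69, true), (3, 75, true), (2, 80, true), (1, 84, true), (0, 90, true), (7, 52, true), (6, 61, true), (5, 68, true), (4, 74, true), (3, 79, true), (2, 83, true), (1, 11, true), (5, 60, true), (4, 69, true), (3, 75, true), (2, 80, true), (1, 84, true), (0, 12, true), (3, 67, true), (2, 73, true), (1, 80, true), (0, 84, true), (2, 78, true), (1, 82, true), (8, 41, true), (7, 54, true), (6, 62, true), (5, 69, true), (4, 75, true), (3, 80, true), (2, 84, true), (1, 89, true), (0, 12, true), (6, 53, true), (5, 61, true), (4, 68, true), (3, 74, true), (2, 79, true), (1, 83, true), (0, 88, true), (7, 50, true), (6, 62, true), (5, 69, true), (4, 75, true), (3, 80, true), (2, 84, true), (1, 89, true), (0, 90, true), (7, 61, true), (6, 68, true), (5, 74, true), (4, 79, true), (3, 83, true), (2, 88, true), (1, 11, true), (6, 60, true), (5, 69, true), (4, 75, true), (3, 80, true), (2, 84, true), (1, 89, true), (0, 12, true), (4, 67, true), (3, 73, true), (2, 80, true), (1, 84, true), (0, 89, true),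 (3, 78, true), (2, 82, true), (1, 10, true), (5, 58, true), (4, 65, true), (3, 75, true), (2, 80, true), (1, 84, true), (0, 12, true), (2, 74, true), (1, 79, true), (0, 83, true), (3, 71, true), (2, 80, true), (1, 84, true), (0, 90, true), (3, 79, true), (2, 83, true), (1, 11, true), (2, 76, true), (1, 8, true), (0, 12, true), (5, 37, true), (4, 54, true), (3, 62, true), (2, 69, true), (1, 75, true), (0, 80, true), (5, 53, true), (4, 61, true), (3, 68, true), (2, 74, true), (1, 79, true), (6, 52, true), (5, 61, true), (4, 68, true), (3, 74, true), (2, 79, true), (1, 11, true), (4, 60, true), (3, 69, true), (2, 75, true), (1, 80, true), (0, 12, true), (2, 67, true), (1, 73, true), (0, 80, true), (1, 78, true), (6, 50, true), (5, 62, true), (4, 69, true), (3, 75, true), (2, 80, true), (1, 89, true), (0, 12, true), (4, 61, true), (3, 68, true), (2, 74, true), (1, 79, true), (0, 88, true), (5, 60, true), (4, 69, true), (3, 75, true), (2, 80, true), (1, 89, true), (0, 90, true), (5, 67, true), (4, 73, true), (3, 80, true), (2, 89, true), (1, 90, true), (0, 12, true), (2, 78, true), (1, 10, true),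 (4, 58, true), (3, 65, true), (2, 75, true), (1, 80, true), (0, 90, true), (3, 74, true), (2, 79, true), (1, 11, true), (2, 71, true), (1, 80, true), (0, 12, true), (0, 79, true), (1, 76, true), (6, 46, true), (5, 60, true), (4, 69, true), (3, 75, true), (2, 80, true), (1, 84, true), (0, 90, true), (5, 67, true), (4, 73, true), (3, 80, true), (2, 84, true), (1, 90, true), (0, 12, true), (2, 78, true), (1, 82, true), (6, 59, true), (5, 68, true), (4, 74, true), (3, 79, true), (2, 83, true), (1, 88, true), (0, 11, true), (4, 66, true), (3, 75, true), (2, 80, true), (1, 84, true), (0, 89, true), (4, 74, true), (3, 79, true), (2, 83, true), (1, 88, true), (5, 72, true), (4, 80, true), (3, 84, true), (2, 89, true), (1, 90, true), (0, 12, true), (3, 79, true), (2, 83, true), (1, 88, true), (0, 11, true), (2, 77, true), (1, 81, true), (0, 89, true), (7, 58, true), (6, 65, true), (5, 75, true), (4, 80, true), (3, 84, true), (2, 87, true), (1, 89, true), (0, 12, true), (4, 74, true), (3, 79, true), (2, 83, true), (1, 86, true), (0, 88, true), (5, 71, true), (4, 80, true), (3, 84, true), (2, 87, true),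 (1, 89, true), (0, 90, true), (5, 79, true), (4, 83, true), (3, 86, true), (2, 88, true), (1, 11, true), (4, 76, true), (3, 8, true), (2, 87, true), (1, 89, true), (0, 12, true), (5, 57, true), (4, 68, true), (3, 74, true), (2, 79, true), (1, 86, true), (0, 88, true), (5, 64, true), (4, 70, true), (3, 79, true), (2, 86, true), (1, 88, true), (0, 11, true), (2, 7, true), (4, 4, true), (6, 14, true), (5, 43, true), (4, 54, true), (3, 69, true), (2, 75, true), (1, 87, true), (0, 89, true), (5, 52, true), (4, 68, true), (3, 74, true), (2, 86, true), (1, 88, true), (5, 67, true), (4, 73, true), (3, 87, true), (2, 89, true), (1, 90, true), (0, 12, true), (2, 85, true), (1, 10, true), (5, 40, true), (4, 53, true), (3, 68, true), (2, 74, true), (1, 86, true), (0, 11, true), (3, 49, true), (2, 69, true), (1, 75, true), (0, 87, true), (3, 68, true), (2, 74, true), (1, 86, true), (4, 64, true), (3, 70, true), (2, 86, true), (1, 11, true), (6, 39, true), (5, 53, true), (4, 68, true), (3, 74, true), (2, 79, true), (1, 86, true), (6, 50, true), (5, 69, true), (4, 75, true), (3, 80, true), (2, 87, true),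 (1, 90, true), (0, 12, true), (4, 68, true), (3, 74, true), (2, 79, true), (1, 86, true), (0, 11, true), (3, 67, true), (2, 73, true), (1, 80, true), (0, 87, true), (2, 78, true), (1, 85, true), (5, 65, true), (4, 75, true), (3, 80, true), (2, 87, true), (1, 89, true), (0, 12, true), (3, 74, true), (2, 79, true), (1, 86, true), (0, 88, true), (4, 71, true), (3, 80, true), (2, 87, true), (1, 89, true), (0, 90, true), (4, 79, true), (3, 86, true), (2, 88, true), (1, 11, true), (3, 76, true), (7, 49, true), (6, 69, true), (5, 75, true), (4, 80, true), (3, 84, true), (2, 87, true), (1, 89, true), (0, 12, true), (5, 68, true), (4, 74, true), (3, 79, true), (2, 83, true), (1, 86, true), (0, 88, true), (6, 64, true), (5, 70, true), (4, 79, true), (3, 83, true), (2, 86, true), (1, 88, true), (0, 11, true), (3, 7, true), (5, 48, true), (4, 68, true), (3, 74, true), (2, 83, true), (1, 86, true), (0, 88, true), (5, 67, true), (4, 73, true), (3, 84, true), (2, 87, true), (1, 89, true), (0, 90, true), (4, 82, true), (3, 85, true), (2, 10, true), (5, 66, true), (4, 75, true), (3, 84, true), (2, 87, true),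 (1, 90, true), (0, 12, true), (3, 74, true), (2, 83, true), (1, 86, true), (0, 11, true), (2, 72, true), (1, 84, true), (0, 87, true), (2, 83, true), (1, 86, true), (3, 81, true), (2, 87, true), (1, 90, true), (0, 12, true), (1, 9, true), (0, 90, true), (4, 65, true), (3, 75, true), (2, 84, true), (1, 90, true), (0, 12, true), (2, 74, true), (1, 83, true), (0, 11, true), (1, 71, true), (0, 84, true), (1, 83, true), (2, 8, true), (1, 90, true), (0, 12, true), (2, 63, true), (1, 74, true), (0, 11, true), (0, 6, true), (3, 38, true), (2, 54, true), (1, 69, true), (0, 90, true), (3, 53, true), (2, 68, true), (1, 11, true), (2, 52, true), (1, 68, true), (2, 67, true), (4, 49, true), (3, 69, true), (2, 89, true), (1, 90, true), (0, 12, true), (2, 68, true), (1, 88, true), (0, 11, true), (1, 64, true), (3, 47, true), (2, 68, true), (1, 79, true), (0, 88, true), (3, 5, true), (2, 79, true), (1, 88, true), (0, 11, true), (3, 37, true), (2, 54, true), (1, 80, true), (0, 89, true), (3, 53, true), (2, 79, true), (1, 88, true), (4, 52, true), (3, 79, true), (2, 88, true), (1, 11, true), (2, 78, true),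 (1, 10, true), (2, 50, true), (1, 80, true), (0, 12, true), (0, 79, true), (1, 78, true), (2, 76, true), (4, 46, true), (3, 78, true), (2, 82, true), (1, 10, true), (2, 77, true), (1, 81, true), (0, 90, true), (4, 76, true), (3, 8, true), (2, 87, true), (1, 90, true), (0, 12, true), (2, 7, true), (4, 2, true), (3, 53, true), (2, 61, true), (1, 86, true), (0, 11, true), (2, 52, true), (1, 61, true), (0, 86, true), (2, 60, true), (1, 87, true), (0, 90, true), (2, 85, true), (5, 50, true), (4, 62, true), (3, 87, true), (2, 89, true), (1, 90, true), (0, 12, true), (3, 61, true), (2, 86, true), (1, 88, true), (0, 11, true), (2, 60, true), (1, 87, true), (0, 89, true), (2, 85, true), (1, 10, true), (2, 58, true), (4, 49, true), (3, 62, true), (2, 84, true), (1, 87, true), (0, 12, true), (2, 61, true), (1, 83, true), (0, 86, true), (3, 57, true), (2, 83, true), (1, 86, true), (0, 11, true), (0, 11, false), (1, 86, false), (2, 83, false), (3, 57, false), (0, 86, false), (1, 83, false), (2, 61, false), (0, 12, false), (1, 87, false), (2, 84, false), (3, 62, false), (4, 49, false), (2, 58, false),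 (1, 10, false), (2, 85, false), (0, 89, false), (1, 87, false), (2, 60, false), (0, 11, false), (1, 88, false), (2, 86, false), (3, 61, false), (0, 12, false), (1, 90, false), (2, 89, false), (3, 87, false), (4, 62, false), (5, 50, false), (2, 85, false), (0, 90, false), (1, 87, false), (2, 60, false), (0, 86, false), (1, 61, false), (2, 52, false), (0, 11, false), (1, 86, false), (2, 61, false), (3, 53, false), (4, 2, false), (0, 86, false), (1, 5, false), (0, 11, false), (1, 86, false), (2, 6, false), (0, 86, false), (1, 74, false), (2, 63, false), (0, 12, false), (1, 87, false), (2, 8, false), (1, 11, false), (2, 86, false), (3, 83, false), (0, 90, false), (1, 87, false), (2, 84, false), (3, 71, false), (0, 86, false), (1, 83, false), (2, 74, false), (0, 12, false), (1, 87, false), (2, 84, false), (3, 75, false), (4, 65, false), (0, 81, false), (0, 11, false), (1, 83, false), (0, 12, false), (1, 90, false), (2, 84, false), (3, 72, false), (1, 83, false), (2, 74, false), (0, 84, false), (1, 75, false), (2, 66, false), (0, 10, false), (1, 82, false), (0, 12, false), (1, 89, false), (2,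 84, false), (3, 73, false), (4, 67, false), (1, 11, false), (2, 88, false), (3, 83, false), (4, 74, false), (5, 68, false), (0, 90, false), (1, 89, false), (2, 84, false), (3, 75, false), (4, 69, false), (5, 36, false), (5, 4, false), (0, 88, false), (0, 12, false), (1, 89, false), (2, 71, false), (1, 11, false), (2, 88, false), (3, 74, false), (0, 90, false), (1, 89, false), (2, 75, false), (3, 65, false), (4, 58, false), (0, 12, false), (1, 90, false), (2, 73, false), (3, 67, false), (0, 90, false), (1, 75, false), (2, 69, false), (3, 60, false), (0, 74, false), (1, 68, false), (2, 61, false), (0, 12, false), (1, 75, false), (2, 69, false), (3, 62, false), (4, 37, false), (1, 11, false), (2, 63, false), (1, 68, false), (2, 56, false), (1, 7, false), (2, 64, false), (1, 11, false), (2, 79, false), (3, 68, false), (4, 57, false), (0, 90, false), (1, 8, false), (2, 76, false), (0, 83, false), (1, 79, false), (0, 12, false), (1, 84, false), (2, 80, false), (3, 65, false), (4, 58, false), (1, 11, false), (2, 83, false), (3, 79, false), (4, 68, false), (5, 61, false), (6, 39, false), (2, 76,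 false), (1, 79, false), (0, 80, false), (1, 65, false), (2, 58, false), (0, 11, false), (1, 79, false), (2, 68, false), (3, 61, false), (0, 12, false), (1, 90, false), (2, 80, false), (3, 69, false), (4, 62, false), (5, 41, false), (1, 79, false), (2, 68, false), (3, 61, false), (4, 44, false), (0, 80, false), (1, 69, false), (2, 62, false), (3, 45, false), (0, 12, false), (1, 10, false), (1, 11, false), (2, 88, false), (0, 90, false), (1, 89, false)]),
    ([0, 2], [9, 7, 6, 2, 0], [(8, 20, true), (7, 45, true), (6, 54, true), (5, 62, true), (4, 75, true), (3, 80, true), (2, 84, true), (1, 90, true), (0, 12, true), (6, 44, true), (5, 53, true), (4, 61, true), (3, 74, true), (2, 79, true), (1, 83, true), (0, 11, true), (5, 41, true), (4, 54, true), (3, 62, true), (2, 75, true), (1, 80, true), (0, 84, true), (5, 53, true), (4, 61, true), (3, 74, true), (2, 79, true), (1, 83, true), (6, 50, true), (5, 62, true), (4, 75, true), (3, 80, true), (2, 84, true), (1, 90, true), (0, 12, true), (4, 61, true), (3, 74, true), (2, 79, true), (1, 83, true), (0, 11, true), (3, 60, true), (2, 75, true),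 (1, 80, true), (0, 84, true), (3, 73, true), (2, 80, true), (1, 84, true), (0, 12, true), (1, 78, true), (0, 82, true), (4, 58, true), (3, 71, true), (2, 80, true), (1, 84, true), (0, 89, true), (3, 79, true), (2, 83, true), (1, 88, true), (4, 76, true), (3, 8, true), (2, 89, true), (1, 90, true), (0, 12, true), (7, 18, true), (6, 45, true), (5, 54, true), (4, 62, true), (3, 75, true), (2, 80, true), (1, 89, true), (0, 90, true), (7, 41, true), (6, 54, true), (5, 62, true), (4, 75, true), (3, 80, true), (2, 89, true), (1, 90, true), (0, 12, true), (5, 53, true), (4, 61, true), (3, 74, true), (2, 79, true), (1, 88, true), (0, 11, true), (4, 50, true), (3, 62, true), (2, 75, true), (1, 80, true), (0, 89, true), (4, 61, true), (3, 74, true), (2, 79, true), (1, 88, true), (5, 60, true), (4, 75, true), (3, 80, true), (2, 89, true), (1, 90, true), (0, 12, true), (3, 73, true), (2, 80, true), (1, 89, true), (0, 90, true), (3, 78, true), (2, 10, true), (4, 58, true), (3, 71, true), (2, 80, true), (1, 90, true), (0, 12, true), (1, 79, true), (0, 11, true), (0, 76, true), (5, 40, true), (4, 53, true),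 (3, 61, true), (2, 74, true), (1, 79, true), (0, 83, true), (5, 49, true), (4, 62, true), (3, 75, true), (2, 80, true), (1, 84, true), (0, 90, true), (5, 61, true), (4, 74, true), (3, 79, true), (2, 83, true), (1, 11, true), (4, 57, true), (3, 74, true), (2, 79, true), (1, 83, true), (4, 70, true), (3, 79, true), (2, 83, true), (1, 11, true), (2, 7, true), (5, 39, true), (4, 53, true), (3, 61, true), (2, 74, true), (1, 83, true), (5, 50, true), (4, 62, true), (3, 75, true), (2, 84, true), (1, 90, true), (0, 12, true), (3, 61, true), (2, 74, true), (1, 83, true), (0, 11, true), (2, 60, true), (1, 75, true), (0, 84, true), (2, 73, true), (1, 84, true), (0, 12, true), (0, 82, true), (3, 58, true), (2, 71, true), (1, 84, true), (0, 89, true), (2, 83, true), (1, 88, true), (3, 8, true), (2, 89, true), (1, 90, true), (0, 12, true), (4, 49, true), (3, 62, true), (2, 75, true), (1, 89, true), (0, 90, true), (4, 61, true), (3, 74, true), (2, 88, true), (1, 11, true), (3, 57, true), (2, 74, true), (1, 88, true), (3, 70, true), (2, 88, true), (1, 11, true), (5, 48, true), (4, 61, true), (3, 74, true),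 (2, 79, true), (1, 88, true), (5, 60, true), (4, 75, true), (3, 80, true), (2, 89, true), (1, 90, true), (0, 12, true), (3, 73, true), (2, 80, true), (1, 89, true), (0, 90, true), (3, 78, true), (2, 10, true), (4, 59, true), (3, 74, true), (2, 79, true), (1, 11, true), (2, 72, true), (1, 80, true), (0, 12, true), (0, 79, true), (1, 77, true), (4, 58, true), (3, 71, true), (2, 80, true), (1, 87, true), (0, 90, true), (3, 79, true), (2, 86, true), (1, 11, true), (2, 76, true), (5, 56, true), (4, 74, true), (3, 79, true), (2, 83, true), (1, 86, true), (5, 6, true), (4, 79, true), (3, 83, true), (2, 86, true), (1, 11, true), (7, 17, true), (6, 45, true), (5, 54, true), (4, 62, true), (3, 80, true), (2, 84, true), (1, 87, true), (0, 12, true), (5, 43, true), (4, 54, true), (3, 62, true), (2, 80, true), (1, 84, true), (0, 87, true), (5, 52, true), (4, 61, true), (3, 79, true), (2, 83, true), (1, 86, true), (5, 60, true), (4, 80, true), (3, 84, true), (2, 87, true), (1, 90, true), (0, 12, true), (3, 78, true), (2, 82, true), (1, 85, true), (7, 40, true), (6, 53, true), (5, 61, true), (4, 79, true),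 (3, 83, true), (2, 86, true), (1, 88, true), (0, 11, true), (5, 49, true), (4, 62, true), (3, 80, true), (2, 84, true), (1, 87, true), (0, 89, true), (5, 61, true), (4, 79, true), (3, 83, true), (2, 86, true), (1, 88, true), (6, 57, true), (5, 79, true), (4, 83, true), (3, 86, true), (2, 88, true), (1, 11, true), (4, 7, true), (6, 38, true), (5, 54, true), (4, 62, true), (3, 84, true), (2, 87, true), (1, 89, true), (0, 12, true), (4, 53, true), (3, 61, true), (2, 83, true), (1, 86, true), (0, 88, true), (5, 52, true), (4, 61, true), (3, 83, true), (2, 86, true), (1, 88, true), (0, 11, true), (3, 60, true), (2, 84, true), (1, 87, true), (0, 89, true), (3, 82, true), (2, 85, true), (1, 10, true), (4, 49, true), (3, 62, true), (2, 84, true), (1, 87, true), (0, 12, true), (2, 61, true), (1, 83, true), (0, 86, true), (3, 57, true), (2, 83, true), (1, 86, true), (0, 11, true), (4, 47, true), (3, 61, true), (2, 79, true), (1, 83, true), (0, 86, true), (4, 55, true), (3, 80, true), (2, 84, true), (1, 87, true), (0, 90, true), (4, 79, true), (3, 83, true), (2, 86, true), (1, 11, true), (8, 16, true),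 (7, 43, true), (6, 54, true), (5, 62, true), (4, 69, true), (3, 80, true), (2, 84, true), (1, 87, true), (0, 12, true), (5, 52, true), (4, 61, true), (3, 68, true), (2, 79, true), (1, 83, true), (0, 86, true), (5, 60, true), (4, 69, true), (3, 80, true), (2, 84, true), (1, 87, true), (0, 90, true), (5, 67, true), (4, 78, true), (3, 82, true), (2, 85, true), (9, 41, true), (8, 54, true), (7, 62, true), (6, 69, true), (5, 80, true), (4, 84, true), (3, 87, true), (2, 89, true), (1, 90, true), (0, 12, true), (7, 53, true), (6, 61, true), (5, 68, true), (4, 79, true), (3, 83, true), (2, 86, true), (1, 88, true), (0, 11, true), (6, 50, true), (5, 62, true), (4, 69, true), (3, 80, true), (2, 84, true), (1, 87, true), (0, 89, true), (6, 61, true), (5, 68, true), (4, 79, true), (3, 83, true), (2, 86, true), (1, 88, true), (7, 60, true), (6, 69, true), (5, 80, true), (4, 84, true), (3, 87, true), (2, 89, true), (1, 90, true), (0, 12, true), (5, 67, true), (4, 78, true), (3, 82, true), (2, 85, true), (1, 10, true), (5, 58, true), (4, 65, true), (3, 80, true), (2, 84, true), (1, 87, true), (0, 90, true),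 (4, 79, true), (3, 83, true), (2, 86, true), (1, 11, true), (3, 76, true), (2, 8, true), (1, 87, true), (0, 12, true), (5, 37, true), (4, 54, true), (3, 62, true), (2, 69, true), (1, 80, true), (0, 87, true), (5, 53, true), (4, 61, true), (3, 68, true), (2, 79, true), (1, 86, true), (6, 52, true), (5, 61, true), (4, 68, true), (3, 79, true), (2, 86, true), (1, 11, true), (4, 60, true), (3, 69, true), (2, 80, true), (1, 87, true), (0, 12, true), (2, 67, true), (1, 78, true), (0, 85, true), (5, 50, true), (4, 62, true), (3, 69, true), (2, 80, true), (1, 87, true), (0, 89, true), (5, 61, true), (4, 68, true), (3, 79, true), (2, 86, true), (1, 88, true), (6, 60, true), (5, 69, true), (4, 80, true), (3, 87, true), (2, 89, true), (1, 90, true), (0, 12, true), (4, 67, true), (3, 78, true), (2, 85, true), (1, 10, true), (4, 58, true), (3, 65, true), (2, 80, true), (1, 87, true), (0, 90, true), (3, 79, true), (2, 86, true), (1, 11, true), (2, 76, true), (6, 46, true), (5, 60, true), (4, 69, true), (3, 80, true), (2, 84, true), (1, 87, true), (0, 12, true), (3, 67, true), (2, 78, true), (1, 82, true),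 (0, 85, true), (5, 59, true), (4, 68, true), (3, 79, true), (2, 83, true), (1, 86, true), (0, 88, true), (5, 66, true), (4, 80, true), (3, 84, true), (2, 87, true), (1, 89, true), (0, 90, true), (5, 79, true), (4, 83, true), (3, 86, true), (2, 88, true), (1, 11, true), (4, 77, true), (3, 81, true), (2, 87, true), (1, 89, true), (0, 12, true), (1, 9, true), (0, 89, true), (5, 58, true), (4, 65, true), (3, 80, true), (2, 84, true), (1, 89, true), (0, 12, true), (2, 79, true), (1, 83, true), (0, 88, true), (3, 76, true), (2, 8, true), (1, 89, true), (0, 90, true), (5, 57, true), (4, 68, true), (3, 79, true), (2, 88, true), (1, 11, true), (3, 64, true), (2, 7, true), (3, 4, true), (3, 4, false), (1, 11, false), (2, 88, false), (3, 6, false), (1, 88, false), (2, 74, false), (3, 63, false), (1, 11, false), (2, 88, false), (3, 74, false), (4, 68, false), (5, 56, false), (3, 7, false), (1, 88, false), (2, 79, false), (3, 70, false), (4, 64, false), (1, 11, false), (2, 88, false), (3, 79, false), (4, 74, false), (5, 68, false), (6, 57, false), (0, 90, false), (1, 89, false), (2, 8, false), (3, 76,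 false), (0, 88, false), (1, 83, false), (2, 79, false), (0, 12, false), (1, 89, false), (2, 84, false), (3, 80, false), (4, 71, false), (1, 11, false), (2, 88, false), (3, 83, false), (4, 79, false), (5, 74, false), (0, 90, false), (1, 89, false), (2, 84, false), (3, 80, false), (4, 75, false), (5, 65, false), (6, 58, false), (0, 88, false), (1, 83, false), (2, 79, false), (3, 74, false), (4, 68, false), (5, 61, false), (0, 12, false), (1, 89, false), (2, 84, false), (3, 80, false), (4, 75, false), (5, 69, false), (6, 62, false), (2, 76, false), (1, 78, false), (1, 11, false)], [(7, 24, true), (6, 45, true), (5, 54, true), (4, 62, true), (3, 75, true), (2, 84, true), (1, 90, true), (0, 12, true), (6, 22, true), (5, 45, true), (4, 54, true), (3, 62, true), (2, 75, true), (1, 84, true), (0, 90, true), (6, 44, true), (5, 53, true), (4, 61, true), (3, 74, true), (2, 83, true), (1, 11, true), (5, 43, true), (4, 54, true), (3, 62, true), (2, 75, true), (1, 84, true), (0, 12, true), (3, 52, true), (2, 61, true), (1, 74, true), (0, 83, true), (3, 60, true), (2, 75, true), (1, 84, true), (0, 90,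 true), (3, 73, true), (2, 84, true), (1, 90, true), (0, 12, true), (1, 82, true), (7, 21, true), (6, 45, true), (5, 54, true), (4, 62, true), (3, 75, true), (2, 84, true), (1, 89, true), (0, 90, true), (7, 44, true), (6, 53, true), (5, 61, true), (4, 74, true), (3, 83, true), (2, 88, true), (1, 11, true), (6, 43, true), (5, 54, true), (4, 62, true), (3, 75, true), (2, 84, true), (1, 89, true), (0, 12, true), (4, 52, true), (3, 61, true), (2, 74, true), (1, 83, true), (0, 88, true), (4, 60, true), (3, 75, true), (2, 84, true), (1, 89, true), (0, 90, true), (4, 73, true), (3, 84, true), (2, 89, true), (1, 90, true), (0, 12, true), (2, 82, true), (1, 10, true), (5, 42, true), (4, 54, true), (3, 62, true), (2, 75, true), (1, 84, true), (0, 90, true), (5, 52, true), (4, 61, true), (3, 74, true), (2, 83, true), (1, 11, true), (3, 60, true), (2, 75, true), (1, 84, true), (0, 12, true), (1, 73, true), (0, 84, true), (1, 82, true), (5, 51, true), (4, 62, true), (3, 75, true), (2, 84, true), (1, 89, true), (0, 12, true), (3, 61, true), (2, 74, true), (1, 83, true), (0, 88, true), (4, 60, true), (3,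 75, true), (2, 84, true), (1, 89, true), (0, 90, true), (4, 73, true), (3, 84, true), (2, 89, true), (1, 90, true), (0, 12, true), (2, 82, true), (1, 10, true), (3, 59, true), (2, 74, true), (1, 83, true), (0, 11, true), (1, 72, true), (0, 84, true), (1, 83, true), (2, 81, true), (1, 90, true), (0, 12, true), (7, 18, true), (6, 45, true), (5, 54, true), (4, 62, true), (3, 75, true), (2, 84, true), (1, 87, true), (0, 90, true), (7, 41, true), (6, 54, true), (5, 62, true), (4, 75, true), (3, 84, true), (2, 87, true), (1, 90, true), (0, 12, true), (5, 53, true), (4, 61, true), (3, 74, true), (2, 83, true), (1, 86, true), (0, 11, true), (4, 50, true), (3, 62, true), (2, 75, true), (1, 84, true), (0, 87, true), (4, 61, true), (3, 74, true), (2, 83, true), (1, 86, true), (5, 60, true), (4, 75, true), (3, 84, true), (2, 87, true), (1, 90, true), (0, 12, true), (3, 73, true), (2, 84, true), (1, 87, true), (0, 90, true), (3, 82, true), (2, 85, true), (6, 58, true), (5, 71, true), (4, 84, true), (3, 87, true), (2, 89, true), (1, 90, true), (0, 12, true), (3, 83, true), (2, 86, true), (1, 88, true),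 (0, 11, true), (2, 8, true), (1, 87, true), (0, 89, true), (6, 40, true), (5, 53, true), (4, 61, true), (3, 74, true), (2, 86, true), (1, 88, true), (6, 49, true), (5, 62, true), (4, 75, true), (3, 87, true), (2, 89, true), (1, 90, true), (0, 12, true), (4, 61, true), (3, 74, true), (2, 86, true), (1, 88, true), (0, 11, true), (3, 57, true), (2, 74, true), (1, 86, true), (0, 88, true), (3, 70, true), (2, 86, true), (1, 88, true), (0, 11, true), (6, 39, true), (5, 53, true), (4, 61, true), (3, 74, true), (2, 79, true), (1, 86, true), (0, 88, true), (6, 50, true), (5, 62, true), (4, 75, true), (3, 80, true), (2, 87, true), (1, 89, true), (0, 90, true), (6, 61, true), (5, 74, true), (4, 79, true), (3, 86, true), (2, 88, true), (1, 11, true), (5, 60, true), (4, 75, true), (3, 80, true), (2, 87, true), (1, 89, true), (0, 12, true), (3, 73, true), (2, 80, true), (1, 87, true), (0, 89, true), (3, 78, true), (2, 85, true), (1, 10, true), (4, 58, true), (3, 71, true), (2, 80, true), (1, 87, true), (0, 12, true), (1, 79, true), (0, 86, true), (2, 76, true), (6, 49, true), (5, 62, true), (4, 75, true),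 (3, 80, true), (2, 84, true), (1, 87, true), (0, 90, true), (6, 61, true), (5, 74, true), (4, 79, true), (3, 83, true), (2, 86, true), (1, 11, true), (5, 57, true), (4, 74, true), (3, 79, true), (2, 83, true), (1, 86, true), (5, 70, true), (4, 79, true), (3, 83, true), (2, 86, true), (1, 11, true), (3, 7, true), (5, 48, true), (4, 61, true), (3, 74, true), (2, 83, true), (1, 86, true), (5, 60, true), (4, 75, true), (3, 84, true), (2, 87, true), (1, 90, true), (0, 12, true), (3, 73, true), (2, 84, true), (1, 87, true), (0, 90, true), (3, 82, true), (2, 85, true), (6, 59, true), (5, 74, true), (4, 83, true), (3, 86, true), (2, 88, true), (1, 11, true), (4, 72, true), (3, 84, true), (2, 87, true), (1, 89, true), (0, 12, true), (2, 83, true), (1, 86, true), (0, 88, true), (3, 81, true), (2, 87, true), (1, 89, true), (0, 90, true), (3, 9, true), (2, 89, true), (1, 90, true), (0, 12, true), (4, 58, true), (3, 71, true), (2, 84, true), (1, 89, true), (0, 90, true), (3, 83, true), (2, 88, true), (1, 11, true), (2, 8, true), (1, 89, true), (0, 12, true), (2, 56, true), (1, 74, true), (0, 88, true),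 (2, 6, true), (1, 88, true), (0, 11, true), (4, 17, true), (3, 45, true), (2, 54, true), (1, 62, true), (0, 89, true), (4, 43, true), (3, 54, true), (2, 62, true), (1, 89, true), (0, 12, true), (2, 52, true), (1, 61, true), (0, 88, true), (2, 60, true), (1, 89, true), (0, 90, true), (2, 10, true), (4, 40, true), (3, 53, true), (2, 61, true), (1, 11, true), (2, 49, true), (1, 62, true), (0, 12, true), (0, 61, true), (1, 57, true), (0, 11, true), (3, 38, true), (2, 54, true), (1, 62, true), (0, 80, true), (3, 53, true), (2, 61, true), (1, 79, true), (4, 52, true), (3, 61, true), (2, 79, true), (1, 11, true), (2, 60, true), (1, 80, true), (0, 12, true), (0, 78, true), (3, 49, true), (2, 62, true), (1, 80, true), (0, 89, true), (3, 61, true), (2, 79, true), (1, 88, true), (4, 57, true), (3, 79, true), (2, 88, true), (1, 11, true), (2, 7, true), (3, 47, true), (2, 61, true), (1, 88, true), (3, 55, true), (2, 89, true), (1, 90, true), (0, 12, true), (1, 88, true), (0, 11, true), (5, 14, true), (4, 43, true), (3, 54, true), (2, 62, true), (1, 69, true), (0, 89, true), (4, 52, true), (3, 61, true),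 (2, 68, true), (1, 88, true), (4, 60, true), (3, 69, true), (2, 89, true), (1, 90, true), (0, 12, true), (2, 67, true), (1, 10, true), (4, 40, true), (3, 53, true), (2, 61, true), (1, 68, true), (0, 11, true), (2, 49, true), (1, 62, true), (0, 69, true), (2, 61, true), (1, 68, true), (3, 57, true), (2, 68, true), (1, 11, true), (1, 64, true), (5, 39, true), (4, 53, true), (3, 61, true), (2, 68, true), (1, 79, true), (5, 50, true), (4, 62, true), (3, 69, true), (2, 80, true), (1, 90, true), (0, 12, true), (3, 61, true), (2, 68, true), (1, 79, true), (0, 11, true), (2, 60, true), (1, 69, true), (0, 80, true), (2, 67, true), (1, 78, true), (4, 58, true), (3, 65, true), (2, 80, true), (1, 89, true), (0, 12, true), (1, 79, true), (0, 88, true), (2, 76, true), (6, 49, true), (5, 62, true), (4, 69, true), (3, 80, true), (2, 84, true), (1, 89, true), (0, 90, true), (6, 61, true), (5, 68, true), (4, 79, true), (3, 83, true), (2, 88, true), (1, 11, true), (5, 57, true), (4, 68, true), (3, 79, true), (2, 83, true), (1, 88, true), (5, 64, true), (4, 7, true), (6, 48, true), (5, 61, true), (4, 68, true),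 (3, 83, true), (2, 88, true), (1, 11, true), (4, 60, true), (3, 69, true), (2, 84, true), (1, 89, true), (0, 12, true), (2, 67, true), (1, 82, true), (0, 10, true), (2, 59, true), (1, 68, true), (0, 83, true), (2, 66, true), (1, 84, true), (0, 90, true), (2, 83, true), (1, 11, true), (1, 81, true), (0, 12, true), (3, 58, true), (2, 65, true), (1, 84, true), (0, 87, true), (2, 83, true), (1, 86, true), (3, 8, true), (2, 87, true), (1, 90, true), (0, 12, true), (3, 56, true), (2, 68, true), (1, 86, true), (0, 11, true), (1, 63, true), (0, 86, true), (6, 38, true), (5, 54, true), (4, 62, true), (3, 69, true), (2, 75, true), (1, 87, true), (0, 90, true), (6, 53, true), (5, 61, true), (4, 68, true), (3, 74, true), (2, 86, true), (1, 11, true), (5, 52, true), (4, 61, true), (3, 68, true), (2, 74, true), (1, 86, true), (5, 60, true), (4, 69, true), (3, 75, true), (2, 87, true), (1, 90, true), (0, 12, true), (3, 67, true), (2, 73, true), (1, 87, true), (0, 90, true), (2, 85, true), (7, 49, true), (6, 62, true), (5, 69, true), (4, 75, true), (3, 87, true), (2, 89, true), (1, 90, true), (0, 12, true),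 (5, 61, true), (4, 68, true), (3, 74, true), (2, 86, true), (1, 88, true), (0, 11, true), (4, 57, true), (3, 68, true), (2, 74, true), (1, 86, true), (0, 88, true), (4, 64, true), (3, 70, true), (2, 86, true), (1, 88, true), (0, 11, true), (6, 47, true), (5, 61, true), (4, 68, true), (3, 74, true), (2, 79, true), (1, 86, true), (0, 88, true), (6, 55, true), (5, 69, true), (4, 75, true), (3, 80, true), (2, 87, true), (1, 89, true), (0, 90, true), (6, 68, true), (5, 74, true), (4, 79, true), (3, 86, true), (2, 88, true), (1, 11, true), (5, 5, true), (4, 74, true), (3, 79, true), (2, 86, true), (1, 88, true), (8, 37, true), (7, 54, true), (6, 62, true), (5, 75, true), (4, 80, true), (3, 87, true), (2, 89, true), (1, 90, true), (0, 12, true), (6, 53, true), (5, 61, true), (4, 74, true), (3, 79, true), (2, 86, true), (1, 88, true), (0, 11, true), (5, 52, true), (4, 61, true), (3, 74, true), (2, 79, true), (1, 86, true), (0, 88, true), (5, 60, true), (4, 75, true), (3, 80, true), (2, 87, true), (1, 89, true), (0, 90, true), (5, 73, true), (4, 80, true), (3, 87, true), (2, 89, true), (1, 90, true),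 (0, 12, true), (3, 78, true), (2, 85, true), (1, 10, true), (5, 50, true), (4, 62, true), (3, 75, true), (2, 80, true), (1, 87, true), (0, 90, true), (5, 61, true), (4, 74, true), (3, 79, true), (2, 86, true), (1, 11, true), (4, 60, true), (3, 75, true), (2, 80, true), (1, 87, true), (0, 12, true), (2, 73, true), (1, 80, true), (0, 87, true), (2, 78, true), (1, 85, true), (5, 58, true), (4, 71, true), (3, 80, true), (2, 87, true), (1, 89, true), (0, 12, true), (2, 79, true), (1, 86, true), (0, 88, true), (3, 76, true), (7, 46, true), (6, 60, true), (5, 75, true), (4, 80, true), (3, 84, true), (2, 87, true), (1, 89, true), (0, 90, true), (6, 73, true), (5, 80, true), (4, 84, true), (3, 87, true), (2, 89, true), (1, 90, true), (0, 12, true), (4, 78, true), (3, 82, true), (2, 85, true), (1, 10, true), (5, 59, true), (4, 74, true), (3, 79, true), (2, 83, true), (1, 86, true), (0, 11, true), (3, 72, true), (2, 80, true), (1, 84, true), (0, 87, true), (3, 79, true), (2, 83, true), (1, 86, true), (4, 77, true), (3, 81, true), (2, 87, true), (1, 90, true), (0, 12, true), (1, 9, true), (0, 90, true),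 (5, 58, true), (4, 71, true), (3, 80, true), (2, 84, true), (1, 90, true), (0, 12, true), (2, 79, true), (1, 83, true), (0, 11, true), (1, 76, true), (0, 8, true), (3, 57, true), (2, 74, true), (1, 79, true), (3, 70, true), (2, 79, true), (1, 11, true), (1, 7, true), (2, 4, true), (3, 2, true), (2, 53, true), (1, 74, true), (3, 52, true), (2, 74, true), (1, 11, true), (1, 73, true), (0, 12, true), (2, 50, true), (1, 75, true), (0, 89, true), (2, 74, true), (1, 88, true), (3, 73, true), (2, 89, true), (1, 90, true), (0, 12, true), (1, 10, true), (1, 71, true), (0, 90, true), (1, 11, true), (3, 49, true), (2, 75, true), (1, 84, true), (0, 12, true), (1, 74, true), (0, 83, true), (2, 70, true), (1, 83, true), (0, 11, true), (0, 11, false), (1, 83, false), (2, 70, false), (0, 83, false), (1, 74, false), (0, 12, false), (1, 84, false), (2, 75, false), (3, 49, false), (1, 11, false), (0, 90, false), (1, 71, false), (1, 10, false), (0, 12, false), (1, 90, false), (2, 89, false), (3, 73, false), (1, 88, false), (2, 74, false), (0, 89, false), (1, 75, false), (2, 50, false), (0, 12, false), (1, 73,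 false), (1, 11, false), (2, 74, false), (3, 52, false), (1, 74, false), (2, 53, false), (3, 2, false), (2, 4, false), (1, 11, false), (2, 74, false), (3, 5, false), (1, 74, false), (2, 68, false), (0, 75, false), (1, 69, false), (2, 55, false), (0, 11, false), (1, 63, false), (0, 68, false), (1, 56, false), (0, 12, false), (1, 8, false), (1, 11, false), (2, 83, false), (0, 90, false), (1, 84, false), (2, 65, false), (3, 58, false), (0, 12, false), (1, 90, false), (2, 9, false), (0, 90, false), (1, 87, false), (2, 81, false), (0, 86, false), (1, 83, false), (0, 12, false), (1, 87, false), (2, 84, false), (3, 66, false), (1, 11, false), (2, 86, false), (3, 83, false), (4, 68, false), (5, 59, false), (2, 10, false), (3, 85, false), (4, 82, false), (5, 67, false), (0, 90, false), (1, 89, false), (2, 87, false), (3, 84, false), (4, 69, false), (5, 60, false), (0, 88, false), (1, 86, false), (2, 83, false), (3, 68, false), (4, 61, false), (0, 12, false), (1, 89, false), (2, 87, false), (3, 84, false), (4, 69, false), (5, 62, false), (6, 36, false), (1, 11, false), (2, 88, false), (3, 86, false),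 (0, 90, false), (1, 89, false), (2, 87, false), (3, 65, false), (1, 85, false), (2, 67, false), (0, 86, false), (1, 68, false), (0, 12, false), (1, 87, false), (2, 69, false), (3, 37, false), (1, 11, false), (2, 86, false), (3, 6, false), (1, 86, false), (2, 74, false), (3, 63, false), (2, 7, false), (1, 11, false), (2, 86, false), (3, 79, false), (4, 70, false), (5, 64, false), (0, 90, false), (1, 87, false), (2, 8, false), (3, 76, false), (0, 86, false), (1, 83, false), (2, 79, false), (0, 12, false), (1, 87, false), (2, 84, false), (3, 80, false), (4, 71, false), (1, 11, false), (2, 86, false), (3, 83, false), (4, 79, false), (5, 74, false), (0, 90, false), (1, 87, false), (2, 84, false), (3, 80, false), (4, 75, false), (5, 65, false), (0, 86, false), (1, 83, false), (2, 79, false), (3, 74, false), (4, 68, false), (5, 39, false), (1, 76, false), (0, 11, false), (1, 86, false), (2, 79, false), (0, 12, false), (1, 90, false), (2, 87, false), (3, 80, false), (4, 71, false), (1, 86, false), (2, 79, false), (3, 74, false), (0, 87, false), (1, 80, false), (2, 75, false), (3, 65, false), (0,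 11, false), (1, 86, false), (2, 79, false), (3, 74, false), (4, 68, false), (0, 12, false), (1, 90, false), (2, 87, false), (3, 80, false), (4, 75, false), (5, 69, false), (6, 41, false), (1, 86, false), (2, 79, false), (3, 74, false), (4, 68, false), (5, 44, false), (0, 87, false), (1, 80, false), (2, 75, false), (3, 69, false), (4, 45, false), (0, 77, false), (0, 10, false), (1, 78, false), (0, 12, false), (1, 89, false), (2, 80, false), (1, 10, false), (1, 11, false), (2, 88, false), (0, 90, false), (1, 89, false)]),
    ([0, 3], [9, 8, 7, 6, 3, 0], [(8, 24, true), (7, 45, true), (6, 54, true), (5, 62, true), (4, 75, true), (3, 80, true), (2, 84, true), (1, 90, true), (0, 12, true), (7, 22, true), (6, 45, true), (5, 54, true), (4, 62, true), (3, 75, true), (2, 80, true), (1, 84, true), (0, 90, true), (7, 44, true), (6, 53, true), (5, 61, true), (4, 74, true), (3, 79, true), (2, 83, true), (1, 11, true), (6, 43, true), (5, 54, true), (4, 62, true), (3, 75, true), (2, 80, true), (1, 84, true), (0, 12, true), (4, 52, true), (3, 61, true), (2, 74, true), (1, 79, true), (0, 83, true), (4,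 60, true), (3, 75, true), (2, 80, true), (1, 84, true), (0, 90, true), (4, 73, true), (3, 80, true), (2, 84, true), (1, 90, true), (0, 12, true), (2, 78, true), (1, 82, true), (8, 21, true), (7, 45, true), (6, 54, true), (5, 62, true), (4, 75, true), (3, 80, true), (2, 84, true), (1, 89, true), (0, 90, true), (8, 44, true), (7, 53, true), (6, 61, true), (5, 74, true), (4, 79, true), (3, 83, true), (2, 88, true), (1, 11, true), (7, 43, true), (6, 54, true), (5, 62, true), (4, 75, true), (3, 80, true), (2, 84, true), (1, 89, true), (0, 12, true), (5, 52, true), (4, 61, true), (3, 74, true), (2, 79, true), (1, 83, true), (0, 88, true), (5, 60, true), (4, 75, true), (3, 80, true), (2, 84, true), (1, 89, true), (0, 90, true), (5, 73, true), (4, 80, true), (3, 84, true), (2, 89, true), (1, 90, true), (0, 12, true), (3, 78, true), (2, 82, true), (1, 10, true), (6, 42, true), (5, 54, true), (4, 62, true), (3, 75, true), (2, 80, true), (1, 84, true), (0, 90, true), (6, 52, true), (5, 61, true), (4, 74, true), (3, 79, true), (2, 83, true), (1, 11, true), (4, 60, true), (3, 75, true), (2, 80, true),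 (1, 84, true), (0, 12, true), (2, 73, true), (1, 80, true), (0, 84, true), (2, 78, true), (1, 82, true), (6, 51, true), (5, 62, true), (4, 75, true), (3, 80, true), (2, 84, true), (1, 89, true), (0, 12, true), (4, 61, true), (3, 74, true), (2, 79, true), (1, 83, true), (0, 88, true), (5, 60, true), (4, 75, true), (3, 80, true), (2, 84, true), (1, 89, true), (0, 90, true), (5, 73, true), (4, 80, true), (3, 84, true), (2, 89, true), (1, 90, true), (0, 12, true), (3, 78, true), (2, 82, true), (1, 10, true), (4, 59, true), (3, 74, true), (2, 79, true), (1, 83, true), (0, 11, true), (2, 72, true), (1, 80, true), (0, 84, true), (2, 79, true), (1, 83, true), (3, 77, true), (2, 81, true), (1, 90, true), (0, 12, true), (8, 20, true), (7, 45, true), (6, 54, true), (5, 62, true), (4, 75, true), (3, 80, true), (2, 84, true), (1, 87, true), (0, 90, true), (8, 44, true), (7, 53, true), (6, 61, true), (5, 74, true), (4, 79, true), (3, 83, true), (2, 86, true), (1, 11, true), (7, 41, true), (6, 54, true), (5, 62, true), (4, 75, true), (3, 80, true), (2, 84, true), (1, 87, true), (0, 12, true), (5, 53, true),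 (4, 61, true), (3, 74, true), (2, 79, true), (1, 83, true), (0, 86, true), (6, 50, true), (5, 62, true), (4, 75, true), (3, 80, true), (2, 84, true), (1, 87, true), (0, 90, true), (6, 61, true), (5, 74, true), (4, 79, true), (3, 83, true), (2, 86, true), (1, 11, true), (5, 60, true), (4, 75, true), (3, 80, true), (2, 84, true), (1, 87, true), (0, 12, true), (3, 73, true), (2, 80, true), (1, 84, true), (0, 87, true), (3, 78, true), (2, 82, true), (1, 85, true), (6, 58, true), (5, 71, true), (4, 80, true), (3, 84, true), (2, 87, true), (1, 89, true), (0, 12, true), (3, 79, true), (2, 83, true), (1, 86, true), (0, 88, true), (4, 76, true), (3, 8, true), (2, 87, true), (1, 89, true), (0, 90, true), (9, 19, true), (8, 45, true), (7, 54, true), (6, 62, true), (5, 75, true), (4, 80, true), (3, 87, true), (2, 89, true), (1, 90, true), (0, 12, true), (7, 40, true), (6, 53, true), (5, 61, true), (4, 74, true), (3, 79, true), (2, 86, true), (1, 88, true), (0, 11, true), (5, 49, true), (4, 62, true), (3, 75, true), (2, 80, true), (1, 87, true), (0, 89, true), (5, 61, true), (4, 74, true), (3, 79, true),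 (2, 86, true), (1, 88, true), (6, 57, true), (5, 74, true), (4, 79, true), (3, 86, true), (2, 88, true), (1, 11, true), (4, 70, true), (3, 79, true), (2, 86, true), (1, 88, true), (4, 7, true), (8, 16, true), (7, 43, true), (6, 54, true), (5, 62, true), (4, 75, true), (3, 87, true), (2, 89, true), (1, 90, true), (0, 12, true), (5, 52, true), (4, 61, true), (3, 74, true), (2, 86, true), (1, 88, true), (0, 11, true), (3, 60, true), (2, 75, true), (1, 87, true), (0, 89, true), (3, 73, true), (2, 87, true), (1, 89, true), (0, 12, true), (1, 85, true), (0, 10, true), (4, 41, true), (3, 54, true), (2, 62, true), (1, 75, true), (0, 87, true), (4, 53, true), (3, 61, true), (2, 74, true), (1, 86, true), (5, 50, true), (4, 62, true), (3, 75, true), (2, 87, true), (1, 90, true), (0, 12, true), (3, 61, true), (2, 74, true), (1, 86, true), (0, 11, true), (2, 60, true), (1, 75, true), (0, 87, true), (2, 73, true), (1, 87, true), (0, 12, true), (0, 85, true), (3, 58, true), (2, 71, true), (1, 87, true), (0, 89, true), (2, 86, true), (1, 88, true), (8, 37, true), (7, 54, true), (6, 62, true), (5, 75, true),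 (4, 84, true), (3, 87, true), (2, 89, true), (1, 90, true), (0, 12, true), (6, 53, true), (5, 61, true), (4, 74, true), (3, 83, true), (2, 86, true), (1, 88, true), (0, 11, true), (5, 52, true), (4, 61, true), (3, 74, true), (2, 83, true), (1, 86, true), (0, 88, true), (5, 60, true), (4, 75, true), (3, 84, true), (2, 87, true), (1, 89, true), (0, 90, true), (5, 73, true), (4, 84, true), (3, 87, true), (2, 89, true), (1, 90, true), (0, 12, true), (3, 82, true), (2, 85, true), (1, 10, true), (5, 50, true), (4, 62, true), (3, 75, true), (2, 84, true), (1, 87, true), (0, 90, true), (5, 61, true), (4, 74, true), (3, 83, true), (2, 86, true), (1, 11, true), (4, 60, true), (3, 75, true), (2, 84, true), (1, 87, true), (0, 12, true), (2, 73, true), (1, 84, true), (0, 87, true), (2, 82, true), (1, 85, true), (5, 58, true), (4, 71, true), (3, 84, true), (2, 87, true), (1, 89, true), (0, 12, true), (2, 83, true), (1, 86, true), (0, 88, true), (3, 8, true), (2, 87, true), (1, 89, true), (0, 90, true), (6, 46, true), (5, 60, true), (4, 75, true), (3, 87, true), (2, 89, true), (1, 90, true), (0, 12, true),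 (3, 73, true), (2, 87, true), (1, 89, true), (0, 90, true), (3, 85, true), (2, 10, true), (4, 59, true), (3, 74, true), (2, 86, true), (1, 11, true), (2, 72, true), (1, 87, true), (0, 12, true), (0, 86, true), (1, 9, true), (0, 90, true), (3, 58, true), (2, 71, true), (1, 90, true), (0, 12, true), (0, 11, true), (2, 57, true), (1, 74, true), (0, 83, true), (2, 70, true), (1, 83, true), (0, 11, true), (3, 4, true), (5, 15, true), (4, 45, true), (3, 54, true), (2, 75, true), (1, 80, true), (0, 84, true), (5, 43, true), (4, 54, true), (3, 75, true), (2, 80, true), (1, 84, true), (0, 12, true), (3, 52, true), (2, 74, true), (1, 79, true), (0, 83, true), (3, 73, true), (2, 80, true), (1, 84, true), (0, 90, true), (3, 78, true), (2, 82, true), (7, 39, true), (6, 53, true), (5, 74, true), (4, 79, true), (3, 83, true), (2, 88, true), (1, 11, true), (5, 50, true), (4, 75, true), (3, 80, true), (2, 84, true), (1, 89, true), (0, 12, true), (3, 74, true), (2, 79, true), (1, 83, true), (0, 88, true), (4, 73, true), (3, 80, true), (2, 84, true), (1, 89, true), (0, 90, true), (4, 78, true), (3, 82, true),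 (2, 10, true), (4, 71, true), (3, 80, true), (2, 84, true), (1, 90, true), (0, 12, true), (2, 79, true), (1, 83, true), (0, 11, true), (1, 76, true), (0, 8, true), (3, 49, true), (2, 75, true), (1, 80, true), (0, 12, true), (1, 74, true), (0, 79, true), (2, 70, true), (1, 79, true), (0, 11, true), (0, 7, true), (1, 48, true), (0, 74, true), (1, 73, true), (0, 90, true), (3, 72, true), (2, 89, true), (1, 90, true), (0, 12, true), (1, 88, true), (0, 11, true), (2, 71, true), (1, 87, true), (0, 89, true), (2, 86, true), (1, 88, true), (5, 6, true), (4, 83, true), (3, 86, true), (2, 88, true), (1, 11, true), (5, 37, true), (4, 54, true), (3, 84, true), (2, 87, true), (1, 89, true), (0, 12, true), (3, 53, true), (2, 83, true), (1, 86, true), (0, 88, true), (4, 52, true), (3, 83, true), (2, 86, true), (1, 88, true), (0, 11, true), (2, 82, true), (1, 85, true), (0, 10, true), (2, 50, true), (1, 84, true), (0, 87, true), (2, 83, true), (1, 86, true), (3, 82, true), (2, 85, true), (4, 8, true), (3, 87, true), (2, 89, true), (1, 90, true), (0, 12, true), (3, 46, true), (2, 85, true), (1, 10, true),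 (1, 9, true), (0, 90, true), (6, 36, true), (5, 54, true), (4, 62, true), (3, 80, true), (2, 84, true), (1, 90, true), (0, 12, true), (4, 53, true), (3, 61, true), (2, 79, true), (1, 83, true), (0, 11, true), (3, 52, true), (2, 61, true), (1, 79, true), (0, 83, true), (3, 60, true), (2, 80, true), (1, 84, true), (0, 90, true), (3, 78, true), (2, 82, true), (6, 51, true), (5, 62, true), (4, 80, true), (3, 84, true), (2, 89, true), (1, 90, true), (0, 12, true), (4, 61, true), (3, 79, true), (2, 83, true), (1, 88, true), (0, 11, true), (3, 60, true), (2, 80, true), (1, 84, true), (0, 89, true), (3, 78, true), (2, 82, true), (1, 10, true), (3, 59, true), (2, 79, true), (1, 83, true), (3, 77, true), (2, 81, true), (1, 90, true), (0, 12, true), (5, 50, true), (4, 62, true), (3, 80, true), (2, 84, true), (1, 87, true), (0, 90, true), (5, 61, true), (4, 79, true), (3, 83, true), (2, 86, true), (1, 11, true), (4, 60, true), (3, 80, true), (2, 84, true), (1, 87, true), (0, 12, true), (2, 78, true), (1, 82, true), (0, 85, true), (4, 58, true), (3, 76, true), (2, 8, true), (1, 87, true), (0, 89, true),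 (5, 48, true), (4, 61, true), (3, 79, true), (2, 86, true), (1, 88, true), (5, 60, true), (4, 80, true), (3, 87, true), (2, 89, true), (1, 90, true), (0, 12, true), (3, 78, true), (2, 85, true), (1, 10, true), (3, 59, true), (2, 79, true), (1, 86, true), (0, 11, true), (1, 77, true), (0, 9, true), (2, 58, true), (1, 76, true), (3, 56, true), (2, 79, true), (1, 83, true), (6, 47, true), (5, 61, true), (4, 74, true), (3, 79, true), (2, 83, true), (1, 11, true), (4, 55, true), (3, 75, true), (2, 80, true), (1, 84, true), (0, 12, true), (2, 74, true), (1, 79, true), (0, 83, true), (6, 46, true), (5, 60, true), (4, 69, true), (3, 75, true), (2, 80, true), (1, 84, true), (0, 90, true), (5, 67, true), (4, 73, true), (3, 80, true), (2, 84, true), (1, 90, true), (0, 12, true), (2, 78, true), (1, 82, true), (6, 59, true), (5, 68, true), (4, 74, true), (3, 79, true), (2, 83, true), (1, 88, true), (0, 11, true), (4, 66, true), (3, 75, true), (2, 80, true), (1, 84, true), (0, 89, true), (4, 74, true), (3, 79, true), (2, 83, true), (1, 88, true), (5, 72, true), (4, 80, true), (3, 84, true), (2, 89, true),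 (1, 90, true), (0, 12, true), (3, 79, true), (2, 83, true), (1, 88, true), (0, 11, true), (2, 77, true), (1, 81, true), (0, 89, true), (7, 58, true), (6, 65, true), (5, 75, true), (4, 80, true), (3, 84, true), (2, 87, true), (1, 89, true), (0, 12, true), (4, 74, true), (3, 79, true), (2, 83, true), (1, 86, true), (0, 88, true), (5, 71, true), (4, 80, true), (3, 84, true), (2, 87, true), (1, 89, true), (0, 90, true), (5, 79, true), (4, 83, true), (3, 86, true), (2, 88, true), (1, 11, true), (4, 76, true), (3, 8, true), (2, 87, true), (1, 89, true), (0, 12, true), (5, 57, true), (4, 68, true), (3, 74, true), (2, 79, true), (1, 86, true), (0, 88, true), (5, 64, true), (4, 70, true), (3, 79, true), (2, 86, true), (1, 88, true), (0, 11, true), (2, 7, true), (4, 4, true), (4, 3, true), (3, 69, true), (2, 75, true), (1, 87, true), (0, 89, true), (4, 68, true), (3, 74, true), (2, 86, true), (1, 88, true), (5, 67, true), (4, 73, true), (3, 87, true), (2, 89, true), (1, 90, true), (0, 12, true), (2, 85, true), (1, 10, true), (3, 66, true), (2, 75, true), (1, 87, true), (0, 90, true), (3, 74, true),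 (2, 86, true), (1, 11, true), (2, 72, true), (1, 87, true), (0, 12, true), (0, 86, true), (1, 9, true), (0, 90, true), (3, 65, true), (2, 75, true), (1, 90, true), (0, 12, true), (1, 74, true), (0, 11, true), (0, 71, true), (4, 5, true), (3, 74, true), (2, 83, true), (1, 11, true), (4, 0, true), (3, 44, true), (2, 74, true), (1, 83, true), (4, 41, true), (3, 75, true), (2, 84, true), (1, 90, true), (0, 12, true), (2, 74, true), (1, 83, true), (0, 11, true), (1, 71, true), (0, 84, true), (1, 83, true), (2, 8, true), (1, 90, true), (0, 12, true), (2, 39, true), (1, 74, true), (0, 11, true), (0, 71, true), (3, 70, true), (2, 83, true), (1, 11, true), (3, 6, true), (2, 79, true), (1, 83, true), (4, 38, true), (3, 80, true), (2, 84, true), (1, 90, true), (0, 12, true), (2, 79, true), (1, 83, true), (0, 11, true), (1, 78, true), (0, 82, true), (2, 7, true), (3, 37, true), (2, 69, true), (1, 84, true), (0, 89, true), (3, 68, true), (2, 83, true), (1, 88, true), (4, 67, true), (3, 82, true), (2, 10, true), (3, 65, true), (2, 84, true), (1, 90, true), (0, 12, true), (1, 83, true), (0, 11, true),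 (0, 8, true), (0, 8, false), (0, 11, false), (1, 83, false), (0, 12, false), (1, 90, false), (2, 84, false), (3, 65, false), (2, 10, false), (3, 82, false), (4, 67, false), (1, 88, false), (2, 83, false), (3, 68, false), (0, 89, false), (1, 84, false), (2, 69, false), (3, 37, false), (2, 7, false), (0, 82, false), (1, 78, false), (0, 11, false), (1, 83, false), (2, 79, false), (0, 12, false), (1, 90, false), (2, 84, false), (3, 80, false), (4, 38, false), (1, 83, false), (2, 79, false), (3, 6, false), (1, 11, false), (2, 83, false), (3, 70, false), (0, 71, false), (0, 11, false), (1, 74, false), (2, 39, false), (0, 12, false), (1, 90, false), (2, 8, false), (1, 83, false), (0, 84, false), (1, 71, false), (0, 11, false), (1, 83, false), (2, 74, false), (0, 12, false), (1, 90, false), (2, 84, false), (3, 75, false), (4, 41, false), (1, 83, false), (2, 74, false), (3, 44, false), (4, 0, false), (3, 4, false), (1, 11, false), (2, 83, false), (3, 74, false), (4, 5, false), (1, 83, false), (2, 74, false), (3, 68, false), (0, 84, false), (1, 75, false), (2, 69, false), (3, 55, false), (0, 11, false),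 (1, 83, false), (2, 63, false), (0, 83, false), (1, 68, false), (2, 56, false), (1, 7, false), (2, 64, false), (0, 11, false), (1, 83, false), (2, 79, false), (3, 68, false), (4, 57, false), (1, 10, false), (2, 82, false), (3, 78, false), (4, 67, false), (0, 12, false), (1, 90, false), (2, 89, false), (3, 84, false), (4, 80, false), (5, 69, false), (6, 60, false), (7, 14, false), (1, 88, false), (2, 83, false), (3, 79, false), (0, 89, false), (1, 84, false), (2, 80, false), (3, 55, false), (1, 76, false), (2, 58, false), (0, 12, false), (1, 89, false), (2, 9, false), (3, 77, false), (1, 11, false), (2, 88, false), (3, 86, false), (4, 79, false), (5, 59, false), (2, 85, false), (3, 78, false), (0, 90, false), (1, 87, false), (2, 80, false), (3, 60, false), (0, 86, false), (1, 79, false), (2, 61, false), (0, 12, false), (1, 87, false), (2, 80, false), (3, 62, false), (4, 3, false), (0, 87, false), (1, 8, false), (0, 12, false), (1, 81, false), (1, 10, false), (2, 82, false), (3, 46, false), (1, 11, false), (2, 88, false), (3, 83, false), (4, 6, false), (1, 88, false), (0, 89, false), (1, 71,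 false), (0, 12, false), (1, 89, false), (2, 9, false), (1, 11, false), (2, 88, false), (3, 86, false), (0, 90, false), (1, 89, false), (2, 87, false), (3, 72, false), (1, 85, false), (0, 12, false), (1, 90, false), (2, 87, false), (3, 73, false), (1, 86, false), (2, 74, false), (3, 48, false), (1, 10, false), (2, 85, false), (0, 89, false), (1, 87, false), (2, 73, false), (0, 11, false), (1, 88, false), (2, 86, false), (3, 74, false), (4, 52, false), (0, 12, false), (1, 90, false), (2, 89, false), (3, 87, false), (4, 75, false), (5, 54, false), (6, 15, false), (5, 4, false), (4, 7, false), (1, 88, false), (2, 86, false), (3, 79, false), (4, 70, false), (1, 11, false), (2, 88, false), (3, 86, false), (4, 79, false), (5, 74, false), (6, 57, false), (0, 90, false), (1, 89, false), (2, 87, false), (3, 8, false), (4, 76, false), (0, 88, false), (1, 86, false), (2, 83, false), (3, 79, false), (0, 12, false), (1, 89, false), (2, 87, false), (3, 84, false), (4, 80, false), (5, 71, false), (6, 58, false), (0, 89, false), (1, 81, false), (2, 77, false), (0, 11, false), (1, 88, false), (2, 83, false),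 (3, 79, false), (0, 12, false), (1, 90, false), (2, 89, false), (3, 84, false), (4, 80, false), (5, 72, false), (1, 88, false), (2, 83, false), (3, 79, false), (4, 74, false), (5, 59, false), (1, 82, false), (2, 78, false), (0, 84, false), (1, 80, false), (2, 73, false), (0, 12, false), (1, 84, false), (2, 80, false), (3, 75, false), (4, 60, false), (5, 46, false), (1, 76, false), (1, 11, false), (2, 79, false), (0, 90, false), (1, 80, false), (2, 71, false), (3, 58, false), (1, 10, false), (2, 78, false), (0, 12, false), (1, 90, false), (2, 89, false), (3, 80, false), (4, 73, false), (0, 90, false), (1, 89, false), (2, 80, false), (3, 75, false), (4, 60, false), (0, 88, false), (1, 79, false), (2, 74, false), (3, 61, false), (0, 12, false), (1, 89, false), (2, 80, false), (3, 75, false), (4, 62, false), (5, 50, false), (1, 78, false), (0, 80, false), (1, 73, false), (0, 12, false), (1, 80, false), (2, 75, false), (3, 60, false), (1, 11, false), (2, 79, false), (3, 74, false), (4, 61, false), (5, 52, false), (6, 16, false), (1, 79, false), (2, 56, false), (0, 8, false), (1, 76, false), (2,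 58, false), (0, 12, false), (1, 9, false), (0, 87, false), (1, 81, false), (2, 77, false), (0, 11, false), (1, 86, false), (2, 83, false), (3, 79, false), (4, 59, false), (1, 10, false), (2, 85, false), (3, 82, false), (4, 78, false), (0, 12, false), (1, 90, false), (2, 89, false), (3, 87, false), (4, 84, false), (5, 80, false), (6, 60, false), (1, 88, false), (2, 86, false), (3, 83, false), (4, 79, false), (5, 61, false), (6, 48, false), (1, 11, false), (2, 88, false), (3, 86, false), (4, 83, false), (5, 57, false), (1, 88, false), (2, 86, false), (3, 83, false), (4, 61, false), (0, 89, false), (1, 87, false), (2, 84, false), (3, 62, false), (4, 49, false), (2, 58, false), (0, 85, false), (0, 12, false), (1, 87, false), (2, 60, false), (1, 11, false), (2, 86, false), (3, 61, false), (0, 90, false), (1, 87, false), (2, 62, false), (3, 50, false), (0, 12, false), (1, 90, false), (2, 87, false), (3, 62, false), (4, 54, false), (5, 18, false), (3, 7, false), (1, 86, false), (2, 79, false), (3, 57, false), (1, 11, false), (2, 86, false), (3, 79, false), (4, 61, false), (0, 90, false), (1, 87,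 false), (2, 80, false), (3, 62, false), (4, 49, false), (0, 12, false), (1, 90, false), (2, 87, false), (3, 80, false), (4, 62, false), (5, 54, false), (6, 19, false), (0, 90, false), (1, 87, false), (2, 8, false), (3, 76, false), (4, 58, false), (1, 10, false), (2, 85, false), (3, 82, false), (4, 78, false), (0, 12, false), (1, 90, false), (2, 89, false), (3, 87, false), (4, 84, false), (5, 80, false), (6, 60, false), (1, 88, false), (2, 86, false), (3, 83, false), (4, 79, false), (5, 61, false), (0, 89, false), (1, 87, false), (2, 84, false), (3, 80, false), (4, 62, false), (5, 50, false), (0, 11, false), (1, 88, false), (2, 86, false), (3, 83, false), (4, 79, false), (5, 61, false), (6, 53, false), (0, 12, false), (1, 90, false), (2, 89, false), (3, 87, false), (4, 84, false), (5, 80, false), (6, 62, false), (7, 54, false), (8, 20, false), (1, 88, false), (2, 86, false), (3, 83, false), (4, 79, false), (5, 61, false), (6, 53, false), (7, 23, false), (0, 89, false), (1, 87, false), (2, 84, false), (3, 80, false), (4, 62, false), (5, 54, false), (6, 24, false), (0, 12, false), (1, 10, false),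 (2, 7, false), (1, 11, false), (2, 88, false), (3, 79, false)], [(7, 22, true), (6, 45, true), (5, 54, true), (4, 62, true), (3, 75, true), (2, 84, true), (1, 90, true), (0, 12, true), (5, 44, true), (4, 53, true), (3, 61, true), (2, 74, true), (1, 83, true), (0, 11, true), (4, 43, true), (3, 54, true), (2, 62, true), (1, 75, true), (0, 84, true), (4, 52, true), (3, 61, true), (2, 74, true), (1, 83, true), (4, 60, true), (3, 75, true), (2, 84, true), (1, 90, true), (0, 12, true), (2, 73, true), (1, 84, true), (0, 90, true), (2, 82, true), (8, 21, true), (7, 45, true), (6, 54, true), (5, 62, true), (4, 75, true), (3, 84, true), (2, 89, true), (1, 90, true), (0, 12, true), (6, 44, true), (5, 53, true), (4, 61, true), (3, 74, true), (2, 83, true), (1, 88, true), (0, 11, true), (5, 43, true), (4, 54, true), (3, 62, true), (2, 75, true), (1, 84, true), (0, 89, true), (5, 52, true), (4, 61, true), (3, 74, true), (2, 83, true), (1, 88, true), (5, 60, true), (4, 75, true), (3, 84, true), (2, 89, true), (1, 90, true), (0, 12, true), (3, 73, true), (2, 84, true), (1, 89, true), (0, 90, true), (3,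 82, true), (2, 10, true), (6, 42, true), (5, 54, true), (4, 62, true), (3, 75, true), (2, 84, true), (1, 90, true), (0, 12, true), (4, 52, true), (3, 61, true), (2, 74, true), (1, 83, true), (0, 11, true), (2, 60, true), (1, 75, true), (0, 84, true), (2, 73, true), (1, 84, true), (0, 12, true), (0, 82, true), (4, 51, true), (3, 62, true), (2, 75, true), (1, 84, true), (0, 89, true), (4, 61, true), (3, 74, true), (2, 83, true), (1, 88, true), (5, 60, true), (4, 75, true), (3, 84, true), (2, 89, true), (1, 90, true), (0, 12, true), (3, 73, true), (2, 84, true), (1, 89, true), (0, 90, true), (3, 82, true), (2, 10, true), (4, 59, true), (3, 74, true), (2, 83, true), (1, 11, true), (2, 72, true), (1, 84, true), (0, 12, true), (0, 83, true), (1, 81, true), (0, 90, true), (8, 20, true), (7, 45, true), (6, 54, true), (5, 62, true), (4, 75, true), (3, 84, true), (2, 87, true), (1, 90, true), (0, 12, true), (6, 44, true), (5, 53, true), (4, 61, true), (3, 74, true), (2, 83, true), (1, 86, true), (0, 11, true), (5, 41, true), (4, 54, true), (3, 62, true), (2, 75, true), (1, 84, true), (0, 87, true),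 (5, 53, true), (4, 61, true), (3, 74, true), (2, 83, true), (1, 86, true), (6, 50, true), (5, 62, true), (4, 75, true), (3, 84, true), (2, 87, true), (1, 90, true), (0, 12, true), (4, 61, true), (3, 74, true), (2, 83, true), (1, 86, true), (0, 11, true), (3, 60, true), (2, 75, true), (1, 84, true), (0, 87, true), (3, 73, true), (2, 84, true), (1, 87, true), (0, 12, true), (1, 82, true), (0, 85, true), (4, 58, true), (3, 71, true), (2, 84, true), (1, 87, true), (0, 89, true), (3, 83, true), (2, 86, true), (1, 88, true), (4, 8, true), (3, 87, true), (2, 89, true), (1, 90, true), (0, 12, true), (7, 19, true), (6, 45, true), (5, 54, true), (4, 62, true), (3, 75, true), (2, 87, true), (1, 89, true), (0, 90, true), (7, 40, true), (6, 53, true), (5, 61, true), (4, 74, true), (3, 86, true), (2, 88, true), (1, 11, true), (5, 49, true), (4, 62, true), (3, 75, true), (2, 87, true), (1, 89, true), (0, 12, true), (3, 61, true), (2, 74, true), (1, 86, true), (0, 88, true), (4, 57, true), (3, 74, true), (2, 86, true), (1, 88, true), (0, 11, true), (2, 70, true), (1, 86, true), (0, 88, true), (8, 18, true),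 (7, 45, true), (6, 54, true), (5, 62, true), (4, 75, true), (3, 80, true), (2, 87, true), (1, 89, true), (0, 90, true), (8, 41, true), (7, 54, true), (6, 62, true), (5, 75, true), (4, 80, true), (3, 87, true), (2, 89, true), (1, 90, true), (0, 12, true), (6, 53, true), (5, 61, true), (4, 74, true), (3, 79, true), (2, 86, true), (1, 88, true), (0, 11, true), (5, 50, true), (4, 62, true), (3, 75, true), (2, 80, true), (1, 87, true), (0, 89, true), (5, 61, true), (4, 74, true), (3, 79, true), (2, 86, true), (1, 88, true), (6, 60, true), (5, 75, true), (4, 80, true), (3, 87, true), (2, 89, true), (1, 90, true), (0, 12, true), (4, 73, true), (3, 80, true), (2, 87, true), (1, 89, true), (0, 90, true), (4, 78, true), (3, 85, true), (2, 10, true), (5, 58, true), (4, 71, true), (3, 80, true), (2, 87, true), (1, 90, true), (0, 12, true), (2, 79, true), (1, 86, true), (0, 11, true), (1, 76, true), (6, 40, true), (5, 53, true), (4, 61, true), (3, 74, true), (2, 79, true), (1, 83, true), (0, 86, true), (6, 49, true), (5, 62, true), (4, 75, true), (3, 80, true), (2, 84, true), (1, 87, true), (0, 90, true),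 (6, 61, true), (5, 74, true), (4, 79, true), (3, 83, true), (2, 86, true), (1, 11, true), (5, 57, true), (4, 74, true), (3, 79, true), (2, 83, true), (1, 86, true), (5, 70, true), (4, 79, true), (3, 83, true), (2, 86, true), (1, 11, true), (3, 7, true), (6, 39, true), (5, 53, true), (4, 61, true), (3, 74, true), (2, 83, true), (1, 86, true), (6, 50, true), (5, 62, true), (4, 75, true), (3, 84, true), (2, 87, true), (1, 90, true), (0, 12, true), (4, 61, true), (3, 74, true), (2, 83, true), (1, 86, true), (0, 11, true), (3, 60, true), (2, 75, true), (1, 84, true), (0, 87, true), (3, 73, true), (2, 84, true), (1, 87, true), (0, 12, true), (1, 82, true), (0, 85, true), (4, 58, true), (3, 71, true), (2, 84, true), (1, 87, true), (0, 89, true), (3, 83, true), (2, 86, true), (1, 88, true), (4, 8, true), (3, 87, true), (2, 89, true), (1, 90, true), (0, 12, true), (5, 49, true), (4, 62, true), (3, 75, true), (2, 87, true), (1, 89, true), (0, 90, true), (5, 61, true), (4, 74, true), (3, 86, true), (2, 88, true), (1, 11, true), (4, 57, true), (3, 74, true), (2, 86, true), (1, 88, true), (4, 70, true),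 (3, 86, true), (2, 88, true), (1, 11, true), (6, 48, true), (5, 61, true), (4, 74, true), (3, 79, true), (2, 86, true), (1, 88, true), (6, 60, true), (5, 75, true), (4, 80, true), (3, 87, true), (2, 89, true), (1, 90, true), (0, 12, true), (4, 73, true), (3, 80, true), (2, 87, true), (1, 89, true), (0, 90, true), (4, 78, true), (3, 85, true), (2, 10, true), (5, 59, true), (4, 74, true), (3, 79, true), (2, 86, true), (1, 11, true), (3, 72, true), (2, 80, true), (1, 87, true), (0, 12, true), (1, 79, true), (0, 86, true), (2, 77, true), (1, 9, true), (0, 90, true), (4, 58, true), (3, 71, true), (2, 80, true), (1, 90, true), (0, 12, true), (1, 79, true), (0, 11, true), (0, 76, true), (3, 56, true), (2, 74, true), (1, 79, true), (0, 83, true), (3, 6, true), (2, 79, true), (1, 83, true), (0, 11, true), (5, 17, true), (4, 45, true), (3, 54, true), (2, 62, true), (1, 80, true), (0, 84, true), (5, 43, true), (4, 54, true), (3, 62, true), (2, 80, true), (1, 84, true), (0, 12, true), (3, 52, true), (2, 61, true), (1, 79, true), (0, 83, true), (3, 60, true), (2, 80, true), (1, 84, true), (0, 90, true),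 (3, 78, true), (2, 82, true), (7, 40, true), (6, 53, true), (5, 61, true), (4, 79, true), (3, 83, true), (2, 88, true), (1, 11, true), (5, 49, true), (4, 62, true), (3, 80, true), (2, 84, true), (1, 89, true), (0, 12, true), (3, 61, true), (2, 79, true), (1, 83, true), (0, 88, true), (4, 57, true), (3, 79, true), (2, 83, true), (1, 88, true), (0, 11, true), (2, 7, true), (4, 38, true), (3, 54, true), (2, 62, true), (1, 84, true), (0, 89, true), (4, 53, true), (3, 61, true), (2, 83, true), (1, 88, true), (5, 52, true), (4, 61, true), (3, 83, true), (2, 88, true), (1, 11, true), (3, 60, true), (2, 84, true), (1, 89, true), (0, 12, true), (1, 82, true), (0, 10, true), (2, 49, true), (1, 62, true), (0, 84, true), (2, 61, true), (1, 83, true), (3, 57, true), (2, 83, true), (1, 11, true), (4, 47, true), (3, 61, true), (2, 79, true), (1, 83, true), (4, 55, true), (3, 80, true), (2, 84, true), (1, 90, true), (0, 12, true), (2, 79, true), (1, 83, true), (0, 11, true), (6, 16, true), (5, 43, true), (4, 54, true), (3, 62, true), (2, 69, true), (1, 80, true), (0, 84, true), (5, 52, true), (4, 61, true),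 (3, 68, true), (2, 79, true), (1, 83, true), (5, 60, true), (4, 69, true), (3, 80, true), (2, 84, true), (1, 90, true), (0, 12, true), (3, 67, true), (2, 78, true), (1, 82, true), (7, 41, true), (6, 54, true), (5, 62, true), (4, 69, true), (3, 80, true), (2, 84, true), (1, 89, true), (0, 90, true), (7, 53, true), (6, 61, true), (5, 68, true), (4, 79, true), (3, 83, true), (2, 88, true), (1, 11, true), (6, 50, true), (5, 62, true), (4, 69, true), (3, 80, true), (2, 84, true), (1, 89, true), (0, 12, true), (4, 61, true), (3, 68, true), (2, 79, true), (1, 83, true), (0, 88, true), (5, 60, true), (4, 69, true), (3, 80, true), (2, 84, true), (1, 89, true), (0, 90, true), (5, 67, true), (4, 78, true), (3, 82, true), (2, 10, true), (5, 58, true), (4, 65, true), (3, 80, true), (2, 84, true), (1, 90, true), (0, 12, true), (2, 79, true), (1, 83, true), (0, 11, true), (1, 76, true), (0, 8, true), (5, 37, true), (4, 54, true), (3, 62, true), (2, 69, true), (1, 80, true), (0, 12, true), (3, 53, true), (2, 61, true), (1, 68, true), (0, 79, true), (4, 52, true), (3, 61, true), (2, 68, true), (1, 79, true),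 (0, 11, true), (2, 60, true), (1, 69, true), (0, 80, true), (2, 67, true), (1, 78, true), (5, 50, true), (4, 62, true), (3, 69, true), (2, 80, true), (1, 89, true), (0, 12, true), (3, 61, true), (2, 68, true), (1, 79, true), (0, 88, true), (4, 60, true), (3, 69, true), (2, 80, true), (1, 89, true), (0, 90, true), (4, 67, true), (3, 78, true), (2, 10, true), (4, 58, true), (3, 65, true), (2, 80, true), (1, 90, true), (0, 12, true), (1, 79, true), (0, 11, true), (0, 76, true), (4, 46, true), (3, 60, true), (2, 69, true), (1, 80, true), (0, 84, true), (3, 67, true), (2, 78, true), (1, 82, true), (5, 59, true), (4, 68, true), (3, 79, true), (2, 83, true), (1, 88, true), (5, 66, true), (4, 80, true), (3, 84, true), (2, 89, true), (1, 90, true), (0, 12, true), (3, 79, true), (2, 83, true), (1, 88, true), (0, 11, true), (2, 77, true), (1, 81, true), (0, 89, true), (6, 58, true), (5, 65, true), (4, 80, true), (3, 84, true), (2, 87, true), (1, 89, true), (0, 12, true), (3, 79, true), (2, 83, true), (1, 86, true), (0, 88, true), (4, 76, true), (3, 8, true), (2, 87, true), (1, 89, true), (0, 90, true),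 (6, 57, true), (5, 68, true), (4, 79, true), (3, 86, true), (2, 88, true), (1, 11, true), (4, 64, true), (3, 7, true), (4, 4, true), (4, 4, false), (1, 11, false), (2, 88, false), (3, 86, false), (4, 6, false), (1, 88, false), (2, 86, false), (3, 74, false), (4, 63, false), (1, 11, false), (2, 88, false), (3, 86, false), (4, 74, false), (5, 68, false), (6, 56, false), (0, 90, false), (1, 89, false), (2, 87, false), (3, 8, false), (0, 88, false), (1, 86, false), (2, 83, false), (0, 12, false), (1, 89, false), (2, 87, false), (3, 84, false), (4, 71, false), (1, 11, false), (2, 88, false), (3, 86, false), (4, 83, false), (5, 74, false), (0, 90, false), (1, 89, false), (2, 87, false), (3, 84, false), (4, 75, false), (5, 65, false), (6, 58, false), (0, 88, false), (1, 86, false), (2, 83, false), (3, 74, false), (4, 68, false), (5, 61, false), (0, 12, false), (1, 89, false), (2, 87, false), (3, 84, false), (4, 75, false), (5, 69, false), (6, 62, false), (4, 7, false), (3, 76, false), (2, 77, false), (1, 78, false), (1, 10, false), (1, 11, false), (0, 90, false), (1, 10, false)]),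
    ([0, 4], [9, 7, 6, 4, 0], [(8, 24, true), (7, 45, true), (6, 54, true), (5, 62, true), (4, 75, true), (3, 80, true), (2, 84, true), (1, 90, true), (0, 12, true), (7, 23, true), (6, 44, true), (5, 53, true), (4, 61, true), (3, 74, true), (2, 79, true), (1, 83, true), (0, 11, true), (6, 22, true), (5, 45, true), (4, 54, true), (3, 62, true), (2, 75, true), (1, 80, true), (0, 84, true), (6, 44, true), (5, 53, true), (4, 61, true), (3, 74, true), (2, 79, true), (1, 83, true), (7, 43, true), (6, 54, true), (5, 62, true), (4, 75, true), (3, 80, true), (2, 84, true), (1, 90, true), (0, 12, true), (5, 52, true), (4, 61, true), (3, 74, true), (2, 79, true), (1, 83, true), (0, 11, true), (3, 60, true), (2, 75, true), (1, 80, true), (0, 84, true), (3, 73, true), (2, 80, true), (1, 84, true), (0, 12, true), (1, 78, true), (0, 82, true), (7, 21, true), (6, 45, true), (5, 54, true), (4, 62, true), (3, 75, true), (2, 80, true), (1, 84, true), (0, 89, true), (7, 44, true), (6, 53, true), (5, 61, true), (4, 74, true), (3, 79, true), (2, 83, true), (1, 88, true), (8, 43, true), (7, 54, true), (6, 62,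 true), (5, 75, true), (4, 80, true), (3, 84, true), (2, 89, true), (1, 90, true), (0, 12, true), (6, 52, true), (5, 61, true), (4, 74, true), (3, 79, true), (2, 83, true), (1, 88, true), (0, 11, true), (4, 60, true), (3, 75, true), (2, 80, true), (1, 84, true), (0, 89, true), (4, 73, true), (3, 80, true), (2, 84, true), (1, 89, true), (0, 12, true), (2, 78, true), (1, 82, true), (0, 10, true), (5, 42, true), (4, 54, true), (3, 62, true), (2, 75, true), (1, 80, true), (0, 84, true), (5, 52, true), (4, 61, true), (3, 74, true), (2, 79, true), (1, 83, true), (5, 60, true), (4, 75, true), (3, 80, true), (2, 84, true), (1, 90, true), (0, 12, true), (3, 73, true), (2, 80, true), (1, 84, true), (0, 90, true), (3, 78, true), (2, 82, true), (7, 51, true), (6, 62, true), (5, 75, true), (4, 80, true), (3, 84, true), (2, 89, true), (1, 90, true), (0, 12, true), (5, 61, true), (4, 74, true), (3, 79, true), (2, 83, true), (1, 88, true), (0, 11, true), (4, 60, true), (3, 75, true), (2, 80, true), (1, 84, true), (0, 89, true), (4, 73, true), (3, 80, true), (2, 84, true), (1, 89, true), (0, 12, true), (2,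 78, true), (1, 82, true), (0, 10, true), (3, 59, true), (2, 74, true), (1, 79, true), (0, 83, true), (3, 72, true), (2, 80, true), (1, 84, true), (0, 90, true), (3, 79, true), (2, 83, true), (1, 11, true), (2, 77, true), (1, 81, true), (0, 12, true), (7, 19, true), (6, 45, true), (5, 54, true), (4, 62, true), (3, 75, true), (2, 80, true), (1, 84, true), (0, 87, true), (7, 40, true), (6, 53, true), (5, 61, true), (4, 74, true), (3, 79, true), (2, 83, true), (1, 86, true), (7, 49, true), (6, 62, true), (5, 75, true), (4, 80, true), (3, 84, true), (2, 87, true), (1, 90, true), (0, 12, true), (5, 61, true), (4, 74, true), (3, 79, true), (2, 83, true), (1, 86, true), (0, 11, true), (4, 57, true), (3, 74, true), (2, 79, true), (1, 83, true), (0, 86, true), (4, 70, true), (3, 79, true), (2, 83, true), (1, 86, true), (0, 11, true), (2, 7, true), (6, 18, true), (5, 45, true), (4, 54, true), (3, 62, true), (2, 75, true), (1, 84, true), (0, 87, true), (6, 41, true), (5, 54, true), (4, 62, true), (3, 75, true), (2, 84, true), (1, 87, true), (0, 12, true), (4, 53, true), (3, 61, true), (2, 74, true),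 (1, 83, true), (0, 86, true), (5, 50, true), (4, 62, true), (3, 75, true), (2, 84, true), (1, 87, true), (0, 90, true), (5, 61, true), (4, 74, true), (3, 83, true), (2, 86, true), (1, 11, true), (4, 60, true), (3, 75, true), (2, 84, true), (1, 87, true), (0, 12, true), (2, 73, true), (1, 84, true), (0, 87, true), (2, 82, true), (1, 85, true), (5, 58, true), (4, 71, true), (3, 84, true), (2, 87, true), (1, 89, true), (0, 12, true), (2, 83, true), (1, 86, true), (0, 88, true), (3, 8, true), (2, 87, true), (1, 89, true), (0, 90, true), (7, 40, true), (6, 53, true), (5, 61, true), (4, 74, true), (3, 86, true), (2, 88, true), (1, 11, true), (5, 49, true), (4, 62, true), (3, 75, true), (2, 87, true), (1, 89, true), (0, 12, true), (3, 61, true), (2, 74, true), (1, 86, true), (0, 88, true), (4, 57, true), (3, 74, true), (2, 86, true), (1, 88, true), (0, 11, true), (2, 70, true), (1, 86, true), (0, 88, true), (7, 39, true), (6, 53, true), (5, 61, true), (4, 74, true), (3, 79, true), (2, 86, true), (1, 88, true), (0, 11, true), (5, 50, true), (4, 62, true), (3, 75, true), (2, 80, true), (1, 87, true),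 (0, 89, true), (5, 61, true), (4, 74, true), (3, 79, true), (2, 86, true), (1, 88, true), (6, 60, true), (5, 75, true), (4, 80, true), (3, 87, true), (2, 89, true), (1, 90, true), (0, 12, true), (4, 73, true), (3, 80, true), (2, 87, true), (1, 89, true), (0, 90, true), (4, 78, true), (3, 85, true), (2, 10, true), (5, 58, true), (4, 71, true), (3, 80, true), (2, 87, true), (1, 90, true), (0, 12, true), (2, 79, true), (1, 86, true), (0, 11, true), (1, 76, true), (5, 49, true), (4, 62, true), (3, 75, true), (2, 80, true), (1, 84, true), (0, 87, true), (5, 61, true), (4, 74, true), (3, 79, true), (2, 83, true), (1, 86, true), (6, 57, true), (5, 74, true), (4, 79, true), (3, 83, true), (2, 86, true), (1, 11, true), (4, 70, true), (3, 79, true), (2, 83, true), (1, 86, true), (4, 7, true), (6, 48, true), (5, 61, true), (4, 74, true), (3, 83, true), (2, 86, true), (1, 11, true), (4, 60, true), (3, 75, true), (2, 84, true), (1, 87, true), (0, 12, true), (2, 73, true), (1, 84, true), (0, 87, true), (2, 82, true), (1, 85, true), (5, 59, true), (4, 74, true), (3, 83, true), (2, 86, true), (1, 88, true),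 (5, 72, true), (4, 84, true), (3, 87, true), (2, 89, true), (1, 90, true), (0, 12, true), (3, 83, true), (2, 86, true), (1, 88, true), (0, 11, true), (2, 81, true), (1, 87, true), (0, 89, true), (2, 9, true), (1, 89, true), (0, 12, true), (3, 58, true), (2, 71, true), (1, 84, true), (0, 89, true), (2, 83, true), (1, 88, true), (3, 8, true), (2, 89, true), (1, 90, true), (0, 12, true), (3, 56, true), (2, 74, true), (1, 88, true), (0, 11, true), (1, 6, true), (0, 88, true), (5, 15, true), (4, 45, true), (3, 54, true), (2, 62, true), (1, 89, true), (0, 90, true), (5, 43, true), (4, 54, true), (3, 62, true), (2, 89, true), (1, 90, true), (0, 12, true), (3, 52, true), (2, 61, true), (1, 88, true), (0, 11, true), (1, 60, true), (0, 89, true), (1, 10, true), (3, 39, true), (2, 53, true), (1, 61, true), (3, 50, true), (2, 62, true), (1, 90, true), (0, 12, true), (1, 61, true), (0, 11, true), (0, 60, true), (2, 58, true), (4, 49, true), (3, 62, true), (2, 84, true), (1, 89, true), (0, 12, true), (2, 61, true), (1, 83, true), (0, 88, true), (3, 57, true), (2, 83, true), (1, 88, true), (0, 11, true),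 (4, 48, true), (3, 61, true), (2, 79, true), (1, 83, true), (0, 88, true), (4, 60, true), (3, 80, true), (2, 84, true), (1, 89, true), (0, 90, true), (4, 78, true), (3, 82, true), (2, 10, true), (4, 59, true), (3, 79, true), (2, 83, true), (1, 11, true), (2, 77, true), (1, 81, true), (0, 12, true), (3, 58, true), (2, 76, true), (1, 8, true), (0, 87, true), (3, 56, true), (2, 79, true), (1, 86, true), (7, 37, true), (6, 54, true), (5, 62, true), (4, 75, true), (3, 80, true), (2, 87, true), (1, 90, true), (0, 12, true), (5, 53, true), (4, 61, true), (3, 74, true), (2, 79, true), (1, 86, true), (0, 11, true), (4, 52, true), (3, 61, true), (2, 74, true), (1, 79, true), (0, 86, true), (4, 60, true), (3, 75, true), (2, 80, true), (1, 87, true), (0, 90, true), (4, 73, true), (3, 80, true), (2, 87, true), (1, 90, true), (0, 12, true), (2, 78, true), (1, 85, true), (6, 50, true), (5, 62, true), (4, 75, true), (3, 80, true), (2, 87, true), (1, 89, true), (0, 90, true), (6, 61, true), (5, 74, true), (4, 79, true), (3, 86, true), (2, 88, true), (1, 11, true), (5, 60, true), (4, 75, true), (3, 80, true),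 (2, 87, true), (1, 89, true), (0, 12, true), (3, 73, true), (2, 80, true), (1, 87, true), (0, 89, true), (3, 78, true), (2, 85, true), (1, 10, true), (4, 58, true), (3, 71, true), (2, 80, true), (1, 87, true), (0, 12, true), (1, 79, true), (0, 86, true), (2, 76, true), (6, 46, true), (5, 60, true), (4, 75, true), (3, 80, true), (2, 84, true), (1, 87, true), (0, 90, true), (5, 73, true), (4, 80, true), (3, 84, true), (2, 87, true), (1, 90, true), (0, 12, true), (3, 78, true), (2, 82, true), (1, 85, true), (6, 59, true), (5, 74, true), (4, 79, true), (3, 83, true), (2, 86, true), (1, 88, true), (0, 11, true), (4, 72, true), (3, 80, true), (2, 84, true), (1, 87, true), (0, 89, true), (4, 79, true), (3, 83, true), (2, 86, true), (1, 88, true), (5, 77, true), (4, 81, true), (3, 87, true), (2, 89, true), (1, 90, true), (0, 12, true), (2, 9, true), (1, 89, true), (0, 90, true), (6, 58, true), (5, 71, true), (4, 80, true), (3, 84, true), (2, 89, true), (1, 90, true), (0, 12, true), (3, 79, true), (2, 83, true), (1, 88, true), (0, 11, true), (2, 76, true), (1, 8, true), (0, 89, true), (4, 57, true),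 (3, 74, true), (2, 79, true), (1, 88, true), (4, 70, true), (3, 79, true), (2, 88, true), (1, 11, true), (2, 7, true), (3, 4, true), (4, 36, true), (3, 54, true), (2, 75, true), (1, 89, true), (0, 12, true), (2, 53, true), (1, 74, true), (0, 88, true), (3, 52, true), (2, 74, true), (1, 88, true), (0, 11, true), (1, 73, true), (0, 89, true), (1, 10, true), (2, 51, true), (1, 75, true), (0, 12, true), (0, 74, true), (1, 73, true), (0, 90, true), (3, 72, true), (2, 89, true), (1, 90, true), (0, 12, true), (1, 88, true), (0, 11, true), (3, 50, true), (2, 75, true), (1, 87, true), (0, 89, true), (3, 74, true), (2, 86, true), (1, 88, true), (4, 73, true), (3, 87, true), (2, 89, true), (1, 90, true), (0, 12, true), (2, 85, true), (1, 10, true), (2, 71, true), (1, 87, true), (0, 90, true), (2, 86, true), (1, 11, true), (4, 48, true), (3, 74, true), (2, 83, true), (1, 86, true), (4, 73, true), (3, 84, true), (2, 87, true), (1, 90, true), (0, 12, true), (2, 82, true), (1, 85, true), (4, 72, true), (3, 84, true), (2, 87, true), (1, 89, true), (0, 90, true), (4, 83, true), (3, 86, true), (2, 88, true),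 (1, 11, true), (3, 81, true), (2, 87, true), (1, 89, true), (0, 12, true), (1, 9, true), (0, 89, true), (3, 71, true), (2, 84, true), (1, 89, true), (0, 12, true), (1, 83, true), (0, 88, true), (2, 8, true), (1, 89, true), (0, 90, true), (3, 6, true), (2, 88, true), (1, 11, true), (2, 47, true), (1, 88, true), (4, 46, true), (3, 67, true), (2, 10, true), (2, 66, true), (1, 90, true), (0, 12, true), (0, 11, true), (1, 65, true), (0, 87, true), (1, 86, true), (4, 64, true), (7, 3, true), (6, 62, true), (5, 69, true), (4, 80, true), (3, 84, true), (2, 87, true), (1, 90, true), (0, 12, true), (5, 61, true), (4, 68, true), (3, 79, true), (2, 83, true), (1, 86, true), (0, 11, true), (4, 60, true), (3, 69, true), (2, 80, true), (1, 84, true), (0, 87, true), (4, 67, true), (3, 78, true), (2, 82, true), (1, 85, true), (6, 59, true), (5, 68, true), (4, 79, true), (3, 83, true), (2, 86, true), (1, 88, true), (6, 66, true), (5, 80, true), (4, 84, true), (3, 87, true), (2, 89, true), (1, 90, true), (0, 12, true), (4, 79, true), (3, 83, true), (2, 86, true), (1, 88, true), (0, 11, true), (3, 77, true),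 (2, 81, true), (1, 87, true), (0, 89, true), (2, 9, true), (1, 89, true), (0, 12, true), (4, 58, true), (3, 65, true), (2, 80, true), (1, 84, true), (0, 89, true), (3, 79, true), (2, 83, true), (1, 88, true), (4, 76, true), (3, 8, true), (2, 89, true), (1, 90, true), (0, 12, true), (4, 55, true), (3, 69, true), (2, 80, true), (1, 89, true), (0, 90, true), (4, 68, true), (3, 79, true), (2, 88, true), (1, 11, true), (3, 5, true), (2, 79, true), (1, 88, true), (6, 0, true), (5, 44, true), (4, 61, true), (3, 79, true), (2, 88, true), (1, 11, true), (4, 41, true), (3, 62, true), (2, 80, true), (1, 89, true), (0, 12, true), (2, 61, true), (1, 79, true), (0, 88, true), (3, 58, true), (2, 76, true), (5, 39, true), (4, 61, true), (3, 79, true), (2, 83, true), (1, 88, true), (0, 11, true), (3, 58, true), (2, 76, true), (1, 8, true), (0, 89, true), (3, 57, true), (2, 79, true), (1, 88, true), (3, 7, true), (3, 56, true), (2, 88, true), (1, 11, true), (4, 38, true), (3, 62, true), (2, 75, true), (1, 89, true), (0, 12, true), (2, 61, true), (1, 74, true), (0, 88, true), (3, 60, true), (2, 75, true),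 (1, 89, true), (0, 90, true), (3, 73, true), (2, 89, true), (1, 90, true), (0, 12, true), (1, 10, true), (2, 57, true), (1, 74, true), (0, 11, true), (0, 70, true), (3, 55, true), (2, 75, true), (1, 80, true), (0, 90, true), (3, 74, true), (2, 79, true), (1, 11, true), (5, 37, true), (4, 62, true), (3, 69, true), (2, 75, true), (1, 80, true), (0, 12, true), (3, 61, true), (2, 68, true), (1, 74, true), (0, 79, true), (4, 60, true), (3, 69, true), (2, 75, true), (1, 80, true), (0, 90, true), (4, 67, true), (3, 73, true), (2, 80, true), (1, 90, true), (0, 12, true), (1, 78, true), (5, 58, true), (4, 65, true), (3, 75, true), (2, 80, true), (1, 89, true), (0, 90, true), (4, 74, true), (3, 79, true), (2, 88, true), (1, 11, true), (3, 71, true), (2, 80, true), (1, 89, true), (0, 12, true), (1, 79, true), (0, 88, true), (2, 76, true), (6, 4, true), (6, 4, false), (2, 76, false), (0, 88, false), (1, 79, false), (0, 12, false), (1, 89, false), (2, 80, false), (3, 71, false), (1, 11, false), (2, 88, false), (3, 79, false), (4, 74, false), (0, 90, false), (1, 89, false), (2, 80, false), (3, 75, false),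 (4, 65, false), (5, 58, false), (1, 78, false), (0, 12, false), (1, 90, false), (2, 80, false), (3, 73, false), (4, 67, false), (0, 90, false), (1, 80, false), (2, 75, false), (3, 69, false), (4, 60, false), (0, 79, false), (1, 74, false), (2, 68, false), (3, 61, false), (0, 12, false), (1, 80, false), (2, 75, false), (3, 69, false), (4, 62, false), (5, 37, false), (1, 11, false), (2, 79, false), (3, 74, false), (0, 90, false), (1, 80, false), (2, 75, false), (3, 55, false), (0, 70, false), (0, 11, false), (1, 74, false), (2, 57, false), (1, 10, false), (0, 12, false), (1, 90, false), (2, 89, false), (3, 73, false), (0, 90, false), (1, 89, false), (2, 75, false), (3, 60, false), (0, 88, false), (1, 74, false), (2, 61, false), (0, 12, false), (1, 89, false), (2, 75, false), (3, 62, false), (4, 38, false), (1, 11, false), (2, 88, false), (3, 56, false), (3, 7, false), (1, 88, false), (2, 79, false), (3, 57, false), (0, 89, false), (1, 8, false), (2, 76, false), (3, 58, false), (0, 11, false), (1, 88, false), (2, 83, false), (3, 79, false), (4, 61, false), (5, 39, false), (2, 76, false), (3,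 58, false), (0, 88, false), (1, 79, false), (2, 61, false), (0, 12, false), (1, 89, false), (2, 80, false), (3, 62, false), (4, 41, false), (1, 11, false), (2, 88, false), (3, 79, false), (4, 61, false), (5, 44, false), (6, 0, false), (1, 88, false), (2, 79, false), (3, 5, false), (1, 11, false), (2, 88, false), (3, 79, false), (4, 6, false), (1, 88, false), (2, 79, false), (3, 74, false), (4, 63, false), (1, 11, false), (2, 88, false), (3, 70, false), (4, 64, false), (0, 90, false), (1, 73, false), (2, 67, false), (3, 14, false), (0, 12, false), (1, 90, false), (2, 8, false), (1, 83, false), (0, 84, false), (1, 71, false), (0, 12, false), (1, 9, false), (0, 87, false), (1, 81, false), (0, 11, false), (1, 86, false), (2, 83, false), (0, 12, false), (1, 90, false), (2, 87, false), (3, 84, false), (4, 72, false), (2, 10, false), (3, 85, false), (4, 82, false), (0, 90, false), (1, 89, false), (2, 87, false), (3, 84, false), (4, 73, false), (0, 88, false), (1, 86, false), (2, 83, false), (3, 74, false), (0, 12, false), (1, 89, false), (2, 87, false), (3, 84, false), (4, 75, false), (5, 3, false),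 (5, 4, false), (4, 7, false), (1, 11, false), (2, 88, false), (3, 86, false), (4, 83, false), (5, 79, false), (6, 70, false), (1, 88, false), (2, 86, false), (3, 83, false), (4, 79, false), (5, 74, false), (6, 57, false), (3, 76, false), (1, 11, false), (2, 88, false), (3, 86, false), (4, 79, false), (0, 90, false), (1, 89, false), (2, 87, false), (3, 80, false), (4, 71, false), (5, 58, false), (2, 77, false), (0, 88, false), (1, 79, false), (0, 12, false), (1, 89, false), (2, 80, false), (3, 72, false), (1, 11, false), (2, 88, false), (3, 79, false), (4, 74, false), (5, 59, false), (2, 78, false), (0, 90, false), (1, 80, false), (2, 73, false), (0, 12, false), (1, 90, false), (2, 80, false), (3, 75, false), (4, 60, false), (5, 46, false), (1, 79, false), (2, 56, false), (0, 8, false), (1, 76, false), (2, 58, false), (0, 12, false), (1, 9, false), (0, 87, false), (1, 81, false), (2, 77, false), (0, 11, false), (1, 86, false), (2, 83, false), (3, 79, false), (4, 59, false), (1, 10, false), (2, 85, false), (3, 82, false), (4, 78, false), (0, 12, false), (1, 90, false), (2, 89, false), (3,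 87, false), (4, 84, false), (5, 80, false), (6, 60, false), (1, 88, false), (2, 86, false), (3, 83, false), (4, 79, false), (5, 61, false), (6, 48, false), (1, 85, false), (2, 82, false), (3, 78, false), (0, 87, false), (1, 84, false), (2, 80, false), (3, 60, false), (0, 11, false), (1, 86, false), (2, 83, false), (3, 79, false), (4, 61, false), (5, 52, false), (0, 12, false), (1, 90, false), (2, 87, false), (3, 84, false), (4, 80, false), (5, 62, false), (6, 54, false), (7, 15, false), (2, 10, false), (3, 46, false), (0, 90, false), (1, 89, false), (2, 8, false), (1, 82, false), (0, 83, false), (0, 12, false), (1, 84, false), (2, 50, false), (1, 10, false), (2, 82, false), (1, 11, false), (2, 88, false), (3, 83, false), (4, 52, false), (5, 16, false), (1, 88, false), (2, 83, false), (3, 6, false), (1, 11, false), (2, 88, false), (0, 90, false), (1, 89, false), (2, 71, false), (0, 12, false), (1, 90, false), (2, 89, false), (3, 9, false), (1, 88, false), (2, 86, false), (0, 89, false), (1, 87, false), (2, 72, false), (0, 85, false), (0, 12, false), (1, 87, false), (2, 73, false), (1, 11,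 false), (2, 86, false), (3, 74, false), (4, 48, false), (3, 7, false), (1, 86, false), (2, 79, false), (3, 70, false), (1, 11, false), (2, 86, false), (3, 79, false), (4, 74, false), (0, 90, false), (1, 87, false), (2, 80, false), (3, 75, false), (4, 49, false), (0, 12, false), (1, 90, false), (2, 87, false), (3, 8, false), (4, 76, false), (1, 86, false), (2, 83, false), (3, 79, false), (0, 87, false), (1, 84, false), (2, 80, false), (3, 71, false), (0, 10, false), (1, 85, false), (2, 82, false), (3, 78, false), (0, 12, false), (1, 89, false), (2, 87, false), (3, 84, false), (4, 80, false), (5, 73, false), (1, 11, false), (2, 88, false), (3, 86, false), (4, 83, false), (5, 79, false), (6, 74, false), (0, 90, false), (1, 89, false), (2, 87, false), (3, 84, false), (4, 80, false), (5, 75, false), (6, 50, false), (0, 12, false), (1, 90, false), (2, 89, false), (3, 87, false), (4, 84, false), (5, 80, false), (6, 75, false), (7, 54, false), (8, 18, false), (1, 88, false), (2, 86, false), (3, 83, false), (4, 70, false), (1, 11, false), (2, 88, false), (3, 86, false), (4, 83, false), (5, 74, false),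 (0, 90, false), (1, 89, false), (2, 87, false), (3, 84, false), (4, 75, false), (5, 49, false), (0, 12, false), (1, 90, false), (2, 89, false), (3, 87, false), (4, 84, false), (5, 75, false), (6, 54, false), (7, 19, false), (1, 88, false), (2, 86, false), (0, 89, false), (1, 87, false), (2, 71, false), (0, 85, false), (0, 12, false), (1, 87, false), (2, 73, false), (1, 11, false), (2, 86, false), (3, 74, false), (0, 90, false), (1, 87, false), (2, 75, false), (3, 50, false), (0, 86, false), (1, 74, false), (2, 53, false), (0, 12, false), (1, 87, false), (2, 75, false), (3, 54, false), (4, 20, false), (1, 11, false), (2, 86, false), (3, 74, false), (4, 53, false), (5, 23, false), (0, 90, false), (1, 87, false), (2, 75, false), (3, 54, false), (4, 24, false), (2, 7, false), (1, 77, false), (1, 10, false), (2, 78, false), (0, 88, false), (1, 79, false), (0, 12, false), (1, 89, false), (2, 80, false), (1, 78, false), (1, 11, false)], [(7, 24, true), (6, 45, true), (5, 54, true), (4, 62, true), (3, 75, true), (2, 84, true), (1, 90, true), (0, 12, true), (6, 23, true), (5, 44, true), (4, 53, true),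 (3, 61, true), (2, 74, true), (1, 83, true), (0, 11, true), (5, 22, true), (4, 45, true), (3, 54, true), (2, 62, true), (1, 75, true), (0, 84, true), (5, 44, true), (4, 53, true), (3, 61, true), (2, 74, true), (1, 83, true), (6, 43, true), (5, 54, true), (4, 62, true), (3, 75, true), (2, 84, true), (1, 90, true), (0, 12, true), (4, 52, true), (3, 61, true), (2, 74, true), (1, 83, true), (0, 11, true), (2, 60, true), (1, 75, true), (0, 84, true), (2, 73, true), (1, 84, true), (0, 12, true), (0, 82, true), (6, 21, true), (5, 45, true), (4, 54, true), (3, 62, true), (2, 75, true), (1, 84, true), (0, 89, true), (6, 44, true), (5, 53, true), (4, 61, true), (3, 74, true), (2, 83, true), (1, 88, true), (7, 43, true), (6, 54, true), (5, 62, true), (4, 75, true), (3, 84, true), (2, 89, true), (1, 90, true), (0, 12, true), (5, 52, true), (4, 61, true), (3, 74, true), (2, 83, true), (1, 88, true), (0, 11, true), (3, 60, true), (2, 75, true), (1, 84, true), (0, 89, true), (3, 73, true), (2, 84, true), (1, 89, true), (0, 12, true), (1, 82, true), (0, 10, true), (4, 42, true), (3, 54, true), (2, 62, true),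 (1, 75, true), (0, 84, true), (4, 52, true), (3, 61, true), (2, 74, true), (1, 83, true), (4, 60, true), (3, 75, true), (2, 84, true), (1, 90, true), (0, 12, true), (2, 73, true), (1, 84, true), (0, 90, true), (2, 82, true), (6, 51, true), (5, 62, true), (4, 75, true), (3, 84, true), (2, 89, true), (1, 90, true), (0, 12, true), (4, 61, true), (3, 74, true), (2, 83, true), (1, 88, true), (0, 11, true), (3, 60, true), (2, 75, true), (1, 84, true), (0, 89, true), (3, 73, true), (2, 84, true), (1, 89, true), (0, 12, true), (1, 82, true), (0, 10, true), (2, 59, true), (1, 74, true), (0, 83, true), (2, 72, true), (1, 84, true), (0, 90, true), (2, 83, true), (1, 11, true), (1, 81, true), (0, 12, true), (6, 18, true), (5, 45, true), (4, 54, true), (3, 62, true), (2, 75, true), (1, 84, true), (0, 87, true), (6, 41, true), (5, 54, true), (4, 62, true), (3, 75, true), (2, 84, true), (1, 87, true), (0, 12, true), (4, 53, true), (3, 61, true), (2, 74, true), (1, 83, true), (0, 86, true), (5, 50, true), (4, 62, true), (3, 75, true), (2, 84, true), (1, 87, true), (0, 90, true), (5, 61, true), (4, 74, true),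 (3, 83, true), (2, 86, true), (1, 11, true), (4, 60, true), (3, 75, true), (2, 84, true), (1, 87, true), (0, 12, true), (2, 73, true), (1, 84, true), (0, 87, true), (2, 82, true), (1, 85, true), (5, 58, true), (4, 71, true), (3, 84, true), (2, 87, true), (1, 89, true), (0, 12, true), (2, 83, true), (1, 86, true), (0, 88, true), (3, 8, true), (2, 87, true), (1, 89, true), (0, 90, true), (7, 40, true), (6, 53, true), (5, 61, true), (4, 74, true), (3, 86, true), (2, 88, true), (1, 11, true), (5, 49, true), (4, 62, true), (3, 75, true), (2, 87, true), (1, 89, true), (0, 12, true), (3, 61, true), (2, 74, true), (1, 86, true), (0, 88, true), (4, 57, true), (3, 74, true), (2, 86, true), (1, 88, true), (0, 11, true), (2, 70, true), (1, 86, true), (0, 88, true), (7, 39, true), (6, 53, true), (5, 61, true), (4, 74, true), (3, 79, true), (2, 86, true), (1, 88, true), (0, 11, true), (5, 50, true), (4, 62, true), (3, 75, true), (2, 80, true), (1, 87, true), (0, 89, true), (5, 61, true), (4, 74, true), (3, 79, true), (2, 86, true), (1, 88, true), (6, 60, true), (5, 75, true), (4, 80, true), (3, 87, true),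 (2, 89, true), (1, 90, true), (0, 12, true), (4, 73, true), (3, 80, true), (2, 87, true), (1, 89, true), (0, 90, true), (4, 78, true), (3, 85, true), (2, 10, true), (5, 58, true), (4, 71, true), (3, 80, true), (2, 87, true), (1, 90, true), (0, 12, true), (2, 79, true), (1, 86, true), (0, 11, true), (1, 76, true), (5, 49, true), (4, 62, true), (3, 75, true), (2, 80, true), (1, 84, true), (0, 87, true), (5, 61, true), (4, 74, true), (3, 79, true), (2, 83, true), (1, 86, true), (6, 57, true), (5, 74, true), (4, 79, true), (3, 83, true), (2, 86, true), (1, 11, true), (4, 70, true), (3, 79, true), (2, 83, true), (1, 86, true), (4, 7, true), (6, 48, true), (5, 61, true), (4, 74, true), (3, 83, true), (2, 86, true), (1, 11, true), (4, 60, true), (3, 75, true), (2, 84, true), (1, 87, true), (0, 12, true), (2, 73, true), (1, 84, true), (0, 87, true), (2, 82, true), (1, 85, true), (5, 59, true), (4, 74, true), (3, 83, true), (2, 86, true), (1, 88, true), (5, 72, true), (4, 84, true), (3, 87, true), (2, 89, true), (1, 90, true), (0, 12, true), (3, 83, true), (2, 86, true), (1, 88, true), (0, 11, true),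 (2, 81, true), (1, 87, true), (0, 89, true), (2, 9, true), (1, 89, true), (0, 12, true), (3, 58, true), (2, 71, true), (1, 84, true), (0, 89, true), (2, 83, true), (1, 88, true), (3, 8, true), (2, 89, true), (1, 90, true), (0, 12, true), (3, 56, true), (2, 74, true), (1, 88, true), (0, 11, true), (1, 6, true), (0, 88, true), (5, 15, true), (4, 45, true), (3, 54, true), (2, 62, true), (1, 89, true), (0, 90, true), (5, 43, true), (4, 54, true), (3, 62, true), (2, 89, true), (1, 90, true), (0, 12, true), (3, 52, true), (2, 61, true), (1, 88, true), (0, 11, true), (1, 60, true), (0, 89, true), (1, 10, true), (3, 39, true), (2, 53, true), (1, 61, true), (3, 50, true), (2, 62, true), (1, 90, true), (0, 12, true), (1, 61, true), (0, 11, true), (0, 60, true), (2, 58, true), (4, 49, true), (3, 62, true), (2, 84, true), (1, 89, true), (0, 12, true), (2, 61, true), (1, 83, true), (0, 88, true), (3, 57, true), (2, 83, true), (1, 88, true), (0, 11, true), (4, 48, true), (3, 61, true), (2, 79, true), (1, 83, true), (0, 88, true), (4, 60, true), (3, 80, true), (2, 84, true), (1, 89, true), (0, 90, true),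 (4, 78, true), (3, 82, true), (2, 10, true), (4, 59, true), (3, 79, true), (2, 83, true), (1, 11, true), (2, 77, true), (1, 81, true), (0, 12, true), (3, 58, true), (2, 76, true), (1, 8, true), (0, 87, true), (3, 56, true), (2, 79, true), (1, 86, true), (7, 37, true), (6, 54, true), (5, 62, true), (4, 75, true), (3, 80, true), (2, 87, true), (1, 90, true), (0, 12, true), (5, 53, true), (4, 61, true), (3, 74, true), (2, 79, true), (1, 86, true), (0, 11, true), (4, 52, true), (3, 61, true), (2, 74, true), (1, 79, true), (0, 86, true), (4, 60, true), (3, 75, true), (2, 80, true), (1, 87, true), (0, 90, true), (4, 73, true), (3, 80, true), (2, 87, true), (1, 90, true), (0, 12, true), (2, 78, true), (1, 85, true), (6, 50, true), (5, 62, true), (4, 75, true), (3, 80, true), (2, 87, true), (1, 89, true), (0, 90, true), (6, 61, true), (5, 74, true), (4, 79, true), (3, 86, true), (2, 88, true), (1, 11, true), (5, 60, true), (4, 75, true), (3, 80, true), (2, 87, true), (1, 89, true), (0, 12, true), (3, 73, true), (2, 80, true), (1, 87, true), (0, 89, true), (3, 78, true), (2, 85, true), (1, 10, true),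 (4, 58, true), (3, 71, true), (2, 80, true), (1, 87, true), (0, 12, true), (1, 79, true), (0, 86, true), (2, 76, true), (6, 46, true), (5, 60, true), (4, 75, true), (3, 80, true), (2, 84, true), (1, 87, true), (0, 90, true), (5, 73, true), (4, 80, true), (3, 84, true), (2, 87, true), (1, 90, true), (0, 12, true), (3, 78, true), (2, 82, true), (1, 85, true), (6, 59, true), (5, 74, true), (4, 79, true), (3, 83, true), (2, 86, true), (1, 88, true), (0, 11, true), (4, 72, true), (3, 80, true), (2, 84, true), (1, 87, true), (0, 89, true), (4, 79, true), (3, 83, true), (2, 86, true), (1, 88, true), (5, 77, true), (4, 81, true), (3, 87, true), (2, 89, true), (1, 90, true), (0, 12, true), (2, 9, true), (1, 89, true), (0, 90, true), (6, 58, true), (5, 71, true), (4, 80, true), (3, 84, true), (2, 89, true), (1, 90, true), (0, 12, true), (3, 79, true), (2, 83, true), (1, 88, true), (0, 11, true), (2, 76, true), (1, 8, true), (0, 89, true), (4, 57, true), (3, 74, true), (2, 79, true), (1, 88, true), (4, 70, true), (3, 79, true), (2, 88, true), (1, 11, true), (2, 7, true), (3, 4, true), (4, 36, true),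 (3, 54, true), (2, 75, true), (1, 89, true), (0, 12, true), (2, 53, true), (1, 74, true), (0, 88, true), (3, 52, true), (2, 74, true), (1, 88, true), (0, 11, true), (1, 73, true), (0, 89, true), (1, 10, true), (2, 51, true), (1, 75, true), (0, 12, true), (0, 74, true), (1, 73, true), (0, 90, true), (3, 72, true), (2, 89, true), (1, 90, true), (0, 12, true), (1, 88, true), (0, 11, true), (3, 50, true), (2, 75, true), (1, 87, true), (0, 89, true), (3, 74, true), (2, 86, true), (1, 88, true), (4, 73, true), (3, 87, true), (2, 89, true), (1, 90, true), (0, 12, true), (2, 85, true), (1, 10, true), (2, 71, true), (1, 87, true), (0, 90, true), (2, 86, true), (1, 11, true), (4, 48, true), (3, 74, true), (2, 83, true), (1, 86, true), (4, 73, true), (3, 84, true), (2, 87, true), (1, 90, true), (0, 12, true), (2, 82, true), (1, 85, true), (4, 72, true), (3, 84, true), (2, 87, true), (1, 89, true), (0, 90, true), (4, 83, true), (3, 86, true), (2, 88, true), (1, 11, true), (3, 81, true), (2, 87, true), (1, 89, true), (0, 12, true), (1, 9, true), (0, 89, true), (3, 71, true), (2, 84, true), (1, 89, true),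 (0, 12, true), (1, 83, true), (0, 88, true), (2, 8, true), (1, 89, true), (0, 90, true), (3, 6, true), (2, 88, true), (1, 11, true), (2, 47, true), (1, 88, true), (4, 46, true), (3, 67, true), (2, 10, true), (2, 66, true), (1, 90, true), (0, 12, true), (0, 11, true), (1, 65, true), (0, 87, true), (1, 86, true), (4, 64, true), (7, 3, true), (6, 62, true), (5, 69, true), (4, 80, true), (3, 84, true), (2, 87, true), (1, 90, true), (0, 12, true), (5, 61, true), (4, 68, true), (3, 79, true), (2, 83, true), (1, 86, true), (0, 11, true), (4, 60, true), (3, 69, true), (2, 80, true), (1, 84, true), (0, 87, true), (4, 67, true), (3, 78, true), (2, 82, true), (1, 85, true), (6, 59, true), (5, 68, true), (4, 79, true), (3, 83, true), (2, 86, true), (1, 88, true), (6, 66, true), (5, 80, true), (4, 84, true), (3, 87, true), (2, 89, true), (1, 90, true), (0, 12, true), (4, 79, true), (3, 83, true), (2, 86, true), (1, 88, true), (0, 11, true), (3, 77, true), (2, 81, true), (1, 87, true), (0, 89, true), (2, 9, true), (1, 89, true), (0, 12, true), (4, 58, true), (3, 65, true), (2, 80, true), (1, 84, true),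 (0, 89, true), (3, 79, true), (2, 83, true), (1, 88, true), (4, 76, true), (3, 8, true), (2, 89, true), (1, 90, true), (0, 12, true), (4, 55, true), (3, 69, true), (2, 80, true), (1, 89, true), (0, 90, true), (4, 68, true), (3, 79, true), (2, 88, true), (1, 11, true), (3, 5, true), (2, 79, true), (1, 88, true), (6, 0, true), (5, 44, true), (4, 61, true), (3, 79, true), (2, 88, true), (1, 11, true), (4, 41, true), (3, 62, true), (2, 80, true), (1, 89, true), (0, 12, true), (2, 61, true), (1, 79, true), (0, 88, true), (3, 58, true), (2, 76, true), (5, 39, true), (4, 61, true), (3, 79, true), (2, 83, true), (1, 88, true), (0, 11, true), (3, 58, true), (2, 76, true), (1, 8, true), (0, 89, true), (3, 57, true), (2, 79, true), (1, 88, true), (3, 7, true), (3, 56, true), (2, 88, true), (1, 11, true), (4, 38, true), (3, 62, true), (2, 75, true), (1, 89, true), (0, 12, true), (2, 61, true), (1, 74, true), (0, 88, true), (3, 60, true), (2, 75, true), (1, 89, true), (0, 90, true), (3, 73, true), (2, 89, true), (1, 90, true), (0, 12, true), (1, 10, true), (2, 57, true), (1, 74, true), (0, 11, true),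 (0, 70, true), (3, 55, true), (2, 75, true), (1, 80, true), (0, 90, true), (3, 74, true), (2, 79, true), (1, 11, true), (5, 37, true), (4, 62, true), (3, 69, true), (2, 75, true), (1, 80, true), (0, 12, true), (3, 61, true), (2, 68, true), (1, 74, true), (0, 79, true), (4, 60, true), (3, 69, true), (2, 75, true), (1, 80, true), (0, 90, true), (4, 67, true), (3, 73, true), (2, 80, true), (1, 90, true), (0, 12, true), (1, 78, true), (5, 58, true), (4, 65, true), (3, 75, true), (2, 80, true), (1, 89, true), (0, 90, true), (4, 74, true), (3, 79, true), (2, 88, true), (1, 11, true), (3, 71, true), (2, 80, true), (1, 89, true), (0, 12, true), (1, 79, true), (0, 88, true), (2, 76, true), (6, 4, true), (6, 4, false), (2, 76, false), (0, 88, false), (1, 79, false), (0, 12, false), (1, 89, false), (2, 80, false), (3, 71, false), (1, 11, false), (2, 88, false), (3, 79, false), (4, 74, false), (0, 90, false), (1, 89, false), (2, 80, false), (3, 75, false), (4, 65, false), (5, 58, false), (1, 78, false), (0, 12, false), (1, 90, false), (2, 80, false), (3, 73, false), (4, 67, false), (0, 90, false), (1,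 80, false), (2, 75, false), (3, 69, false), (4, 60, false), (0, 79, false), (1, 74, false), (2, 68, false), (3, 61, false), (0, 12, false), (1, 80, false), (2, 75, false), (3, 69, false), (4, 62, false), (5, 37, false), (1, 11, false), (2, 79, false), (3, 74, false), (0, 90, false), (1, 80, false), (2, 75, false), (3, 55, false), (0, 70, false), (0, 11, false), (1, 74, false), (2, 57, false), (1, 10, false), (0, 12, false), (1, 90, false), (2, 89, false), (3, 73, false), (0, 90, false), (1, 89, false), (2, 75, false), (3, 60, false), (0, 88, false), (1, 74, false), (2, 61, false), (0, 12, false), (1, 89, false), (2, 75, false), (3, 62, false), (4, 38, false), (1, 11, false), (2, 88, false), (3, 56, false), (3, 7, false), (1, 88, false), (2, 79, false), (3, 57, false), (0, 89, false), (1, 8, false), (2, 76, false), (3, 58, false), (0, 11, false), (1, 88, false), (2, 83, false), (3, 79, false), (4, 61, false), (5, 39, false), (2, 76, false), (3, 58, false), (0, 88, false), (1, 79, false), (2, 61, false), (0, 12, false), (1, 89, false), (2, 80, false), (3, 62, false), (4, 41, false), (1, 11,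 false), (2, 88, false), (3, 79, false), (4, 61, false), (5, 44, false), (6, 0, false), (1, 88, false), (2, 79, false), (3, 5, false), (1, 11, false), (2, 88, false), (3, 79, false), (4, 6, false), (1, 88, false), (2, 79, false), (3, 74, false), (4, 63, false), (1, 11, false), (2, 88, false), (3, 70, false), (4, 64, false), (0, 90, false), (1, 73, false), (2, 67, false), (3, 14, false), (0, 12, false), (1, 90, false), (2, 8, false), (1, 83, false), (0, 84, false), (1, 71, false), (0, 12, false), (1, 9, false), (0, 87, false), (1, 81, false), (0, 11, false), (1, 86, false), (2, 83, false), (0, 12, false), (1, 90, false), (2, 87, false), (3, 84, false), (4, 72, false), (2, 10, false), (3, 85, false), (4, 82, false), (0, 90, false), (1, 89, false), (2, 87, false), (3, 84, false), (4, 73, false), (0, 88, false), (1, 86, false), (2, 83, false), (3, 74, false), (0, 12, false), (1, 89, false), (2, 87, false), (3, 84, false), (4, 75, false), (5, 3, false), (5, 4, false), (4, 7, false), (1, 11, false), (2, 88, false), (3, 86, false), (4, 83, false), (5, 79, false), (6, 70, false), (1, 88, false),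 (2, 86, false), (3, 83, false), (4, 79, false), (5, 74, false), (6, 57, false), (3, 76, false), (1, 11, false), (2, 88, false), (3, 86, false), (4, 79, false), (0, 90, false), (1, 89, false), (2, 87, false), (3, 80, false), (4, 71, false), (5, 58, false), (2, 77, false), (0, 88, false), (1, 79, false), (0, 12, false), (1, 89, false), (2, 80, false), (3, 72, false), (1, 11, false), (2, 88, false), (3, 79, false), (4, 74, false), (5, 59, false), (2, 78, false), (0, 90, false), (1, 80, false), (2, 73, false), (0, 12, false), (1, 90, false), (2, 80, false), (3, 75, false), (4, 60, false), (5, 46, false), (1, 79, false), (2, 56, false), (0, 8, false), (1, 76, false), (2, 58, false), (0, 12, false), (1, 9, false), (0, 87, false), (1, 81, false), (2, 77, false), (0, 11, false), (1, 86, false), (2, 83, false), (3, 79, false), (4, 59, false), (1, 10, false), (2, 85, false), (3, 82, false), (4, 78, false), (0, 12, false), (1, 90, false), (2, 89, false), (3, 87, false), (4, 84, false), (5, 80, false), (6, 60, false), (1, 88, false), (2, 86, false), (3, 83, false), (4, 79, false), (5, 61, false), (6,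 48, false), (1, 85, false), (2, 82, false), (3, 78, false), (0, 87, false), (1, 84, false), (2, 80, false), (3, 60, false), (0, 11, false), (1, 86, false), (2, 83, false), (3, 79, false), (4, 61, false), (5, 52, false), (0, 12, false), (1, 90, false), (2, 87, false), (3, 84, false), (4, 80, false), (5, 62, false), (6, 54, false), (7, 15, false), (2, 10, false), (3, 46, false), (0, 90, false), (1, 89, false), (2, 8, false), (1, 82, false), (0, 83, false), (0, 12, false), (1, 84, false), (2, 50, false), (1, 10, false), (2, 82, false), (1, 11, false), (2, 88, false), (3, 83, false), (4, 52, false), (5, 16, false), (1, 88, false), (2, 83, false), (3, 6, false), (1, 11, false), (2, 88, false), (0, 90, false), (1, 89, false), (2, 71, false), (0, 12, false), (1, 90, false), (2, 89, false), (3, 9, false), (1, 88, false), (2, 86, false), (0, 89, false), (1, 87, false), (2, 72, false), (0, 85, false), (0, 12, false), (1, 87, false), (2, 73, false), (1, 11, false), (2, 86, false), (3, 74, false), (4, 48, false), (3, 7, false), (1, 86, false), (2, 79, false), (3, 70, false), (1, 11, false), (2, 86,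 false), (3, 79, false), (4, 74, false), (0, 90, false), (1, 87, false), (2, 80, false), (3, 75, false), (4, 49, false), (0, 12, false), (1, 90, false), (2, 87, false), (3, 8, false), (4, 76, false), (1, 86, false), (2, 83, false), (3, 79, false), (0, 87, false), (1, 84, false), (2, 80, false), (3, 71, false), (0, 10, false), (1, 85, false), (2, 82, false), (3, 78, false), (0, 12, false), (1, 89, false), (2, 87, false), (3, 84, false), (4, 80, false), (5, 73, false), (1, 11, false), (2, 88, false), (3, 86, false), (4, 83, false), (5, 79, false), (6, 74, false), (0, 90, false), (1, 89, false), (2, 87, false), (3, 84, false), (4, 80, false), (5, 75, false), (6, 50, false), (0, 12, false), (1, 90, false), (2, 89, false), (3, 87, false), (4, 84, false), (5, 80, false), (6, 75, false), (7, 54, false), (8, 18, false), (4, 76, false), (1, 88, false), (2, 86, false), (3, 79, false), (0, 89, false), (1, 87, false), (2, 80, false), (3, 71, false), (0, 85, false), (1, 78, false), (0, 12, false), (1, 87, false), (2, 80, false), (3, 73, false), (1, 11, false), (2, 86, false), (3, 79, false), (4, 74, false),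 (0, 90, false), (1, 87, false), (2, 80, false), (3, 75, false), (4, 50, false), (0, 86, false), (1, 79, false), (2, 74, false), (3, 53, false), (0, 12, false), (1, 87, false), (2, 80, false), (3, 75, false), (4, 54, false), (5, 20, false), (1, 11, false), (2, 86, false), (3, 79, false), (4, 74, false), (5, 53, false), (6, 23, false), (0, 90, false), (1, 87, false), (2, 80, false), (3, 75, false), (4, 54, false), (5, 24, false), (1, 77, false), (1, 10, false), (2, 78, false), (0, 88, false), (1, 79, false), (0, 12, false), (1, 89, false), (2, 80, false), (1, 10, false), (1, 11, false), (2, 88, false), (0, 90, false), (1, 89, false)])]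

/-- The certificate. -/
def twoSuzCert : Schur.Tails.Cert where
  p := 2
  q := 4
  n := 13
  rels := [
    ([0, 0], [11, 8, 6, 5, 4]),
    ([1, 1], [12, 11, 10, 7, 6]),
    ([2, 2], [11, 10, 8, 7]),
    ([3, 3], [12, 11, 10, 9, 8, 5]),
    ([4, 4], []),
    ([5, 5], [11]),
    ([6, 6], [11]),
    ([7, 7], []),
    ([8, 8], [12]),
    ([9, 9], [12]),
    ([10, 10], []),
    ([11, 11], []),
    ([12, 12], []),
    ([0, 1], [12, 11, 10, 8, 7, 5, 4, 1, 0]),
    ([0, 2], [10, 7, 6, 5, 4, 2, 0]),
    ([0, 3], [12, 10, 6, 4, 3, 0]),
    ([0, 4], [10, 8, 4, 0]),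
    ([0, 5], [12, 10, 7, 5, 0]),
    ([0, 6], [12, 8, 7, 6, 0]),
    ([0, 7], [12, 7, 0]),
    ([0, 8], [12, 11, 8, 0]),
    ([0, 9], [12, 11, 10, 9, 0]),
    ([0, 10], [12, 11, 10, 0]),
    ([0, 11], [11, 0]),
    ([0, 12], [12, 0]),
    ([1, 2], [12, 11, 8, 6, 5, 4, 2, 1]),
    ([1, 3], [12, 11, 10, 9, 8, 7, 6, 5, 3, 1]),
    ([1, 4], [11, 10, 9, 7, 4, 1]),
    ([1, 5], [12, 11, 10, 9, 8, 5, 1]),
    ([1, 6], [11, 10, 6, 1]),
    ([1, 7], [12, 10, 7, 1]),
    ([1, 8], [11, 10, 8, 1]),
    ([1, 9], [11, 10, 9, 1]),
    ([1, 10], [11, 10, 1]),
    ([1, 11], [12, 11, 1]),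
    ([1, 12], [12, 1]),
    ([2, 3], [12, 11, 10, 9, 8, 6, 5, 4, 3, 2]),
    ([2, 4], [12, 11, 10, 8, 4, 2]),
    ([2, 5], [12, 11, 10, 7, 5, 2]),
    ([2, 6], [11, 8, 7, 6, 2]),
    ([2, 7], [11, 7, 2]),
    ([2, 8], [12, 11, 8, 2]),
    ([2, 9], [12, 10, 9, 2]),
    ([2, 10], [12, 10, 2]),
    ([2, 11], [11, 2]),
    ([2, 12], [12, 2]),
    ([3, 4], [10, 9, 8, 7, 4, 3]),
    ([3, 5], [11, 5, 3]),
    ([3, 6], [11, 10, 9, 8, 6, 3]),
    ([3, 7], [12, 11, 7, 3]),
    ([3, 8], [12, 11, 10, 8, 3]),
    ([3, 9], [12, 11, 10, 9, 3]),
    ([3, 10], [11, 10, 3]),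
    ([3, 11], [11, 3]),
    ([3, 12], [12, 3]),
    ([4, 5], [12, 11, 5, 4]),
    ([4, 6], [11, 6, 4]),
    ([4, 7], [11, 7, 4]),
    ([4, 8], [8, 4]),
    ([4, 9], [11, 9, 4]),
    ([4, 10], [12, 10, 4]),
    ([4, 11], [11, 4]),
    ([4, 12], [12, 4]),
    ([5, 6], [11, 6, 5]),
    ([5, 7], [7, 5]),
    ([5, 8], [12, 11, 8, 5]),
    ([5, 9], [12, 11, 9, 5]),
    ([5, 10], [10, 5]),
    ([5, 11], [11, 5]),
    ([5, 12], [12, 5]),
    ([6, 7], [11, 7, 6]),
    ([6, 8], [12, 11, 8, 6]),
    ([6, 9], [12, 11, 9, 6]),
    ([6, 10], [12, 10, 6]),
    ([6, 11], [11, 6]),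
    ([6, 12], [12, 6]),
    ([7, 8], [8, 7]),
    ([7, 9], [9, 7]),
    ([7, 10], [10, 7]),
    ([7, 11], [11, 7]),
    ([7, 12], [12, 7]),
    ([8, 9], [12, 9, 8]),
    ([8, 10], [10, 8]),
    ([8, 11], [11, 8]),
    ([8, 12], [12, 8]),
    ([9, 10], [10, 9]),
    ([9, 11], [11, 9]),
    ([9, 12], [12, 9]),
    ([10, 11], [11, 10]),
    ([10, 12], [12, 10]),
    ([11, 12], [12, 11])]
  overlaps := twoSuzOverlaps
  fus := [twoSuzFus0, twoSuzFus1, twoSuzFus2, twoSuzFus3, twoSuzFus4, twoSuzFus5]
  mu := [[0, 0, 0, 1, 0, 0, 0, 0, 0, 0, 0, 0, 0, 0, 0, 3, 1, 0, 0, 0, 0, 0, 0, 0, 0, 0, 0, 0, 0, 0, 0, 0, 0, 0, 0, 0, 0, 0, 0, 0, 0, 0, 0, 0, 0, 0, 0, 0, 0, 0, 0, 0, 0, 0, 0, 0, 0, 0, 0, 0, 0, 0, 0, 0, 0, 0, 0, 0, 0, 0, 0, 0, 0, 0, 0, 0, 0, 0, 0, 0, 0, 0, 0, 0, 0, 0, 0, 0, 0, 0, 0, 1, 0, 0, 0, 0, 0, 0, 0, 0, 0, 0, 0, 0, 3, 0, 0, 0, 0, 1], [0, 0, 1, 2, 0, 3, 0, 0, 3, 0, 0, 0, 0, 0, 0, 3, 0, 0, 0, 0, 0, 0, 0, 0, 0, 0, 0, 0, 0, 0, 0, 0, 0, 0, 0, 0, 0, 0, 0, 0, 0, 0, 0, 0, 0, 0, 0, 0, 0, 0, 0, 0, 0, 0, 0, 0, 0, 0, 0, 0, 0, 0, 0, 0, 0, 0, 0, 0, 0, 0, 0, 0, 0, 0, 0, 0, 0, 0, 0, 0, 0, 0, 0, 0, 0, 0, 0, 0,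 0, 0, 0, 3, 0, 0, 0, 0, 0, 0, 0, 0, 0, 0, 0, 0, 1, 0, 0, 0, 0, 0, 0, 0, 0, 0, 0, 0, 0, 1], [2, 0, 1, 2, 0, 1, 0, 0, 2, 0, 0, 0, 0, 0, 0, 1, 3, 1, 0, 0, 0, 0, 0, 0, 0, 0, 0, 0, 0, 0, 0, 0, 0, 0, 0, 0, 0, 0, 0, 0, 0, 0, 0, 0, 0, 0, 0, 0, 0, 0, 0, 0, 0, 0, 0, 0, 0, 0, 0, 0, 0, 0, 0, 0, 0, 0, 0, 0, 0, 0, 0, 0, 0, 0, 0, 0, 0, 0, 0, 0, 0, 0, 0, 0, 0, 0, 0, 0, 0, 0, 0, 0, 0, 0, 0, 0, 0, 0, 0, 0, 0, 0, 0, 0, 1, 0, 0, 0, 0, 3], [1, 1, 2, 0, 0, 1, 0, 0, 1, 0, 0, 0, 0, 0, 0, 3, 3, 1, 0, 0, 0, 0, 0, 0, 0, 0, 0, 0, 0, 0, 0, 0, 0, 0, 0, 0, 0, 0, 0, 0, 0, 0, 0, 0, 0, 0, 0, 0, 0, 0, 0, 0, 0, 0, 0, 0, 0, 0, 0, 0, 0, 0, 0, 0, 0, 0, 0, 0, 0, 0, 0, 0, 0, 0, 0, 0, 0, 0, 0, 0, 0, 0, 0, 0, 0, 0, 0, 0, 0, 0, 0, 1, 0, 0, 0, 0, 0, 0, 0, 0, 0, 0, 0, 0, 3, 0, 0, 0, 0, 1, 0, 0, 0, 0, 0, 0, 0, 1], [0, 3, 1, 0, 0, 0, 0, 0, 2, 0, 0, 0, 0, 0, 0, 1, 1, 2, 0, 0, 0, 0, 0, 0, 0, 0, 0, 0, 0, 0, 0, 0, 0, 0, 0, 0, 0, 0, 0, 0, 0, 0, 0, 0, 0, 0, 0, 0, 0, 0, 0, 0, 0, 0, 0, 0, 0, 0, 0, 0, 0, 0, 0, 0, 0, 0, 0, 0, 0, 0, 0, 0, 0, 0, 0, 0, 0, 0, 0, 0, 0, 0, 0, 0, 0, 0, 0, 0, 0, 0, 0, 2, 0, 0, 0, 0, 0, 0, 0, 0, 0, 0, 0, 0, 0, 0, 0, 0,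 0, 2, 0, 0, 0, 0, 0, 0, 0, 2], [3, 0, 0, 2, 0, 1, 0, 0, 3, 0, 0, 0, 0, 0, 0, 3, 1, 0, 0, 0, 0, 0, 0, 0, 0, 0, 0, 0, 0, 0, 0, 0, 0, 0, 0, 0, 0, 0, 0, 0, 0, 0, 0, 0, 0, 0, 0, 0, 0, 0, 0, 0, 0, 0, 0, 0, 0, 0, 0, 0, 0, 0, 0, 0, 0, 0, 0, 0, 0, 0, 0, 0, 0, 0, 0, 0, 0, 0, 0, 0, 0, 0, 0, 0, 0, 0, 0, 0, 0, 0, 0, 2, 0, 0, 0, 0, 0, 0, 0, 0, 0, 0, 0, 0, 2, 0, 0, 0, 0, 2], [2, 1, 2, 0, 0, 3, 0, 0, 0, 0, 0, 0, 0, 0, 0, 0, 2, 3, 0, 0, 0, 0, 0, 0, 0, 0, 0, 0, 0, 0, 0, 0, 0, 0, 0, 0, 0, 0, 0, 0, 0, 0, 0, 0, 0, 0, 0, 0, 0, 0, 0, 0, 0, 0, 0, 0, 0, 0, 0, 0, 0, 0, 0, 0, 0, 0, 0, 0, 0, 0, 0, 0, 0, 0, 0, 0, 0, 0, 0, 0, 0, 0, 0, 0, 0, 0, 0, 0, 0, 0, 0, 2, 0, 0, 0, 0, 0, 0, 0, 0, 0, 0, 0, 0, 2, 0, 0, 0, 0, 0, 0, 0, 0, 0, 0, 0, 0, 2], [2, 0, 3, 0, 0, 3, 0, 0, 2, 0, 0, 0, 0, 0, 0, 0, 3, 2, 0, 0, 0, 0, 0, 0, 0, 0, 0, 0, 0, 0, 0, 0, 0, 0, 0, 0, 0, 0, 0, 0, 0, 0, 0, 0, 0, 0, 0, 0, 0, 0, 0, 0, 0, 0, 0, 0, 0, 0, 0, 0, 0, 0, 0, 0, 0, 0, 0, 0, 0, 0, 0, 0, 0, 0, 0, 0, 0, 0, 0, 0, 0, 0, 0, 0, 0, 0, 0, 0, 0, 0, 0, 0, 0, 0, 0, 0, 0, 0, 0, 0, 0, 0, 0, 0, 2, 0, 0, 0, 0, 2], [2, 0, 1, 0, 0, 1, 0, 0, 1, 0, 0, 0, 0, 0, 0, 0, 0, 3,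 0, 0, 0, 0, 0, 0, 0, 0, 0, 0, 0, 0, 0, 0, 0, 0, 0, 0, 0, 0, 0, 0, 0, 0, 0, 0, 0, 0, 0, 0, 0, 0, 0, 0, 0, 0, 0, 0, 0, 0, 0, 0, 0, 0, 0, 0, 0, 0, 0, 0, 0, 0, 0, 0, 0, 0, 0, 0, 0, 0, 0, 0, 0, 0, 0, 0, 0, 0, 0, 0, 0, 0, 0, 0, 0, 0, 0, 0, 0, 0, 0, 0, 0, 0, 0, 0, 2, 0, 0, 0, 0, 2], [1, 2, 2, 3, 0, 0, 0, 0, 2, 0, 0, 0, 0, 0, 0, 1, 2, 0, 0, 0, 0, 0, 0, 0, 0, 0, 0, 0, 0, 0, 0, 0, 0, 0, 0, 0, 0, 0, 0, 0, 0, 0, 0, 0, 0, 0, 0, 0, 0, 0, 0, 0, 0, 0, 0, 0, 0, 0, 0, 0, 0, 0, 0, 0, 0, 0, 0, 0, 0, 0, 0, 0, 0, 0, 0, 0, 0, 0, 0, 0, 0, 0, 0, 0, 0, 0, 0, 0, 0, 0, 0, 0, 0, 0, 0, 0, 0, 0, 0, 0, 0, 0, 0, 0, 0, 0, 0, 0, 0, 0, 0, 0, 0, 0, 0, 0, 0, 2], [2, 0, 3, 0, 0, 3, 0, 0, 3, 0, 0, 0, 0, 0, 0, 0, 1, 1, 0, 0, 0, 0, 0, 0, 0, 0, 0, 0, 0, 0, 0, 0, 0, 0, 0, 0, 0, 0, 0, 0, 0, 0, 0, 0, 0, 0, 0, 0, 0, 0, 0, 0, 0, 0, 0, 0, 0, 0, 0, 0, 0, 0, 0, 0, 0, 0, 0, 0, 0, 0, 0, 0, 0, 0, 0, 0, 0, 0, 0, 0, 0, 0, 0, 0, 0, 0, 0, 0, 0, 0, 0, 0, 0, 0, 0, 0, 0, 0, 0, 0, 0, 0, 0, 0, 2, 0, 0, 0, 0, 2], [2, 0, 0, 0, 0, 3, 0, 0, 2, 0, 0, 0, 0, 0, 0, 2, 2], [0, 0, 2, 0, 0, 2, 0, 0, 3, 0, 0, 0, 0, 0, 0, 0, 0, 2]]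
  combos := [
    ([], 0),
    ([], 0),
    ([], 0),
    ([], 0),
    ([(0, 3), (1, 2), (2, 1), (4, 3), (6, 2), (7, 2), (9, 1), (11, 3), (12, 3), (14, 3), (15, 3), (19, 2), (20, 2), (21, 2), (22, 1), (23, 2), (24, 1), (25, 3), (27, 1), (29, 1), (30, 3), (33, 3), (34, 2), (35, 3), (36, 2), (37, 2), (38, 3), (39, 1), (40, 2), (41, 1), (43, 2), (44, 3), (45, 2), (46, 3), (47, 2), (48, 3), (50, 1), (53, 2), (54, 2), (55, 1), (56, 1), (57, 2), (58, 3), (59, 3), (65, 2), (67, 1), (68, 1), (69, 2), (71, 3), (72, 1), (74, 1), (76, 2), (77, 2), (78, 1), (79, 2), (82, 2), (83, 2), (84, 1), (85, 2), (86, 3), (87, 2), (89, 2), (92, 3), (93, 1), (94, 2), (95, 2), (100, 2), (101, 2), (105, 1), (106, 1), (109, 2)], 2),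
    ([], 0),
    ([(0, 3), (2, 1), (3, 3), (4, 2), (5, 1), (6, 1), (8, 1), (9, 3), (10, 2), (12, 2), (13, 3), (14, 2), (15, 1), (16, 2), (17, 3), (18, 3), (19, 2), (21, 1), (22, 3), (23, 2), (24, 1), (26, 2), (27, 2), (29, 3), (32, 1), (33, 1), (34, 2), (35, 1), (37, 3), (39, 1), (40, 1), (41, 3), (42, 2), (43, 2), (44, 1), (45, 3), (46, 3), (47, 1), (48, 3), (49, 2), (50, 3), (53, 1), (56, 1), (57, 1), (58, 2), (59, 1), (61, 3), (65, 3), (67, 3), (69, 1), (70, 2), (71, 1), (72, 1), (73, 1), (74, 2), (76, 1), (77, 3), (80, 2), (86, 3), (89, 2), (90, 2), (92, 2), (93, 2), (94, 2), (95, 2), (100, 2), (101, 2), (103, 2), (104, 2), (105, 1), (107, 1), (109, 2)], 2),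
    ([(3, 3), (4, 3), (5, 3), (6, 2), (7, 3), (8, 2), (9, 1), (10, 2), (12, 3), (13, 3), (14, 1), (15, 1), (16, 2), (18, 1), (19, 2), (20, 2), (21, 3), (22, 1), (24, 2), (28, 1), (29, 1), (30, 2), (32, 2), (33, 3), (34, 1), (35, 2), (36, 2), (40, 3), (41, 2), (42, 3), (43, 2), (44, 2), (45, 1), (46, 3), (47, 3), (48, 2), (49, 2), (50, 3), (51, 2), (52, 2), (54, 3), (55, 3), (56, 3), (57, 1), (58, 3), (59, 1), (60, 1), (61, 3), (62, 2), (63, 3), (64, 1), (66, 2), (68, 2), (69, 2), (74, 1), (79, 2), (81, 2), (82, 2), (86, 2), (88, 2), (89, 2), (91, 2), (92, 2), (93, 2), (97, 2), (98, 2), (99, 2), (100, 2), (101, 2), (103, 2), (104, 2), (105, 2), (108, 2), (109, 2), (111, 2)], 0),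
    ([], 0),
    ([(0, 3), (1, 2), (2, 3), (3, 3), (5, 3), (6, 1), (8, 3), (9, 3), (11, 3), (12, 3), (13, 2), (14, 1), (15, 2), (16, 3), (18, 3), (20, 2), (21, 2), (23, 2), (24, 1), (25, 2), (26, 1), (27, 3), (28, 1), (29, 3), (32, 1), (34, 2), (35, 1), (36, 1), (37, 2), (39, 1), (41, 2), (42, 3), (43, 2), (44, 1), (48, 2), (49, 1), (51, 1), (52, 1), (53, 2), (55, 3), (57, 2), (58, 3), (60, 3), (61, 3), (62, 1), (63, 1), (64, 3), (66, 1), (68, 1), (69, 1), (70, 2), (71, 1), (72, 3), (73, 1), (75, 2), (76, 1), (77, 3), (80, 2), (81, 2), (82, 2), (83, 2), (88, 2), (89, 2), (90, 2), (91, 2), (92, 2), (94, 2), (96, 2), (99, 2), (100, 2), (101, 2), (103, 2), (104, 2), (105, 2), (108, 2), (109, 2), (110, 2), (111, 2)], 0),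
    ([(0, 2), (2, 2), (3, 3), (4, 1), (5, 1), (6, 3), (7, 3), (8, 1), (9, 1), (10, 1), (11, 2), (12, 3), (13, 1), (14, 1), (15, 3), (17, 2), (18, 3), (19, 1), (20, 3), (21, 2), (22, 1), (23, 1), (24, 1), (25, 2), (29, 1), (30, 3), (32, 2), (33, 3), (34, 1), (35, 2), (36, 1), (37, 1), (39, 2), (40, 1), (41, 2), (43, 1), (44, 3), (45, 3), (46, 2), (47, 1), (48, 1), (49, 2), (50, 2), (54, 1), (56, 3), (57, 2), (58, 2), (59, 3), (60, 3), (61, 3), (62, 1), (66, 1), (68, 2), (69, 2), (74, 2), (79, 2), (81, 2), (82, 2), (86, 2), (88, 2), (89, 2), (91, 2), (92, 2), (93, 2), (97, 2), (98, 2), (99, 2), (100, 2), (101, 2), (105, 2), (108, 2), (109, 2), (111, 2)], 0),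
    ([(3, 2), (4, 3), (5, 2), (6, 3), (7, 2), (8, 1), (9, 2), (10, 2), (11, 2), (12, 2), (14, 2), (15, 3), (16, 2), (17, 2), (19, 3), (20, 1), (22, 2), (23, 2), (26, 2), (27, 2), (30, 1), (33, 1), (34, 2), (36, 1), (37, 2), (38, 1), (39, 2), (40, 3), (42, 1), (43, 3), (44, 3), (45, 1), (47, 3), (49, 1), (50, 1), (51, 2), (53, 2), (54, 1), (55, 2), (56, 1), (58, 1), (59, 2), (60, 2), (62, 2), (63, 2), (64, 2), (67, 2), (75, 2), (79, 2), (81, 2), (83, 2), (86, 2), (88, 2), (90, 2), (93, 2), (94, 2), (102, 2), (103, 2), (104, 2)], 0),
    ([(0, 2), (2, 2), (3, 2), (4, 2), (5, 2), (7, 2), (8, 2), (9, 3), (10, 3), (11, 2), (12, 2), (14, 2), (15, 3), (16, 3), (17, 2), (18, 1), (22, 2), (23, 2), (24, 2), (25, 2), (27, 2), (30, 2), (31, 3), (32, 3), (33, 2), (34, 1), (35, 1), (36, 1), (38, 3), (39, 1), (41, 1), (43, 1), (46, 1), (48, 2), (50, 2), (51, 2), (52, 2), (54, 2), (55, 2), (58, 1), (61, 2), (62, 2), (63, 2), (64, 2), (66, 2)], 0),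
    ([(0, 3), (2, 2), (3, 3), (8, 1), (9, 1), (10, 1), (11, 1), (14, 1), (15, 1), (16, 1), (18, 3), (19, 3), (20, 3), (21, 1), (23, 1), (24, 2), (26, 3), (27, 3), (28, 3), (29, 3), (31, 1), (33, 3), (34, 3), (35, 1), (36, 3), (37, 2), (38, 1), (39, 3), (40, 1), (41, 2), (42, 1), (43, 1), (45, 3), (46, 2), (47, 1), (49, 2), (50, 2), (51, 3), (52, 2), (53, 3), (54, 1), (55, 2), (56, 1), (57, 1), (58, 3), (59, 1), (60, 3), (61, 3), (62, 3), (63, 1), (64, 3), (67, 1), (70, 3), (71, 3), (72, 1), (73, 3), (76, 1), (77, 3), (78, 3), (79, 1), (82, 2), (85, 1), (86, 3), (87, 3), (89, 2), (91, 1), (92, 2), (93, 3), (94, 1), (95, 2), (96, 2), (97, 2), (98, 2), (100, 3), (101, 2), (102, 2), (103, 2), (104, 2), (105, 2), (106, 1), (109, 1), (111, 2), (112, 2), (113, 1), (114, 2), (115, 1)], 1),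
    ([(0, 3), (2, 3), (3, 3), (5, 3), (6, 3), (7, 1), (8, 3), (9, 3), (10, 3), (13, 2), (14, 1), (16, 2), (17, 2), (18, 3), (19, 1), (20, 2), (21, 2), (22, 3), (23, 2), (24, 3), (25, 2), (27, 1), (28, 2), (30, 2), (31, 1), (33, 2), (34, 2), (36, 1), (37, 2), (39, 1), (40, 1), (41, 1), (42, 1), (44, 2), (45, 3), (47, 1), (48, 3), (49, 3), (51, 3), (52, 3), (53, 3), (55, 2), (56, 3), (57, 3), (58, 1), (59, 3), (60, 3), (61, 2), (63, 1), (64, 3), (66, 3), (67, 2), (68, 2), (70, 3), (71, 1), (72, 1), (73, 3), (75, 2), (79, 1), (80, 1), (81, 2), (82, 2), (83, 2), (84, 2), (85, 2), (86, 3), (87, 2), (88, 2), (89, 3), (90, 1), (91, 1), (92, 1), (94, 1), (95, 2), (101, 2), (102, 2), (103, 2), (104, 2), (105, 3), (108, 2), (109, 2), (110, 2), (111, 2), (113, 1), (114, 3)], 1),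
    ([], 0),
    ([], 0),
    ([], 0),
    ([(0, 1), (3, 2), (4, 3), (5, 3), (7, 3), (8, 1), (9, 1), (10, 2), (12, 2), (14, 2), (16, 2), (17, 3), (18, 2), (19, 2), (21, 1), (22, 1), (23, 2), (25, 2), (27, 1), (29, 3), (31, 1), (32, 3), (33, 1), (34, 3), (36, 2), (37, 2), (38, 2), (39, 2), (40, 2), (41, 2), (42, 3), (43, 2), (44, 3), (45, 2), (46, 1), (47, 2), (49, 3), (50, 3), (51, 3), (52, 3), (53, 1), (54, 1), (55, 2), (57, 3), (59, 1), (61, 1), (63, 1), (64, 3), (65, 1), (66, 2), (67, 2), (71, 1), (72, 1), (73, 1), (75, 2), (78, 3), (79, 1), (80, 2), (82, 2), (84, 1), (86, 2), (89, 2), (90, 2), (92, 3), (93, 3), (94, 2), (96, 2), (99, 2), (100, 2), (101, 2), (102, 2), (105, 2), (106, 1)], 0),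
    ([(0, 3), (1, 2), (3, 1), (4, 3), (6, 1), (7, 2), (8, 3), (9, 2), (11, 2), (13, 2), (16, 2), (17, 3), (18, 1), (20, 2), (22, 2), (24, 3), (26, 1), (27, 2), (28, 2), (29, 3), (31, 2), (33, 3), (36, 2), (37, 3), (38, 1), (39, 2), (41, 1), (42, 1), (43, 1), (44, 1), (46, 3), (49, 1), (50, 2), (51, 1), (52, 1), (56, 3), (58, 3), (59, 3), (60, 3), (63, 2), (64, 2), (65, 3), (66, 3), (67, 3), (68, 3), (69, 1), (70, 1), (71, 2), (72, 3), (73, 2), (74, 3), (76, 1), (77, 3), (79, 2), (80, 2), (83, 2), (84, 3), (85, 1), (87, 3), (89, 2), (90, 2), (91, 1), (92, 1), (94, 3), (96, 2), (99, 2), (100, 2), (108, 2), (110, 2), (111, 2), (113, 1), (114, 3)], 3),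
    ([(0, 1), (1, 2), (2, 1), (3, 1), (4, 3), (5, 1), (6, 3), (8, 3), (9, 1), (10, 2), (11, 3), (12, 3), (13, 3), (14, 3), (15, 3), (16, 2), (17, 1), (18, 2), (19, 3), (20, 2), (24, 1), (26, 3), (29, 1), (30, 3), (31, 3), (32, 3), (33, 3), (34, 1), (35, 3), (36, 3), (37, 2), (38, 2), (39, 3), (40, 2), (43, 2), (44, 1), (45, 2), (46, 2), (47, 2), (48, 2), (49, 3), (50, 2), (51, 3), (52, 1), (53, 1), (54, 3), (55, 3), (56, 2), (57, 3), (58, 2), (59, 1), (60, 1), (62, 2), (63, 1), (64, 3), (65, 2), (67, 2), (68, 3), (69, 1), (71, 3), (72, 3), (75, 2), (76, 3), (77, 1), (78, 2), (79, 2), (80, 2), (81, 2), (82, 2), (84, 1), (85, 1), (86, 2), (87, 3), (88, 2), (89, 2), (90, 2), (91, 1), (92, 3), (93, 2), (94, 3), (96, 2), (97, 2), (98, 2), (101, 2), (103, 2), (104, 2), (106, 1), (108, 2), (109, 2), (111, 2), (113, 1), (114, 3)], 1),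
    ([(0, 1), (1, 3), (2, 3), (5, 3), (6, 3), (7, 3), (9, 2), (10, 2), (11, 2), (13, 1), (14, 2), (15, 2), (16, 1), (18, 2), (19, 2), (21, 3), (22, 2), (23, 3), (24, 2), (26, 1), (28, 1), (29, 3), (31, 1), (32, 2), (33, 1), (34, 3), (36, 2), (37, 2), (38, 3), (40, 1), (41, 2), (43, 2), (45, 3), (46, 2), (47, 1), (48, 1), (49, 3), (50, 2), (51, 1), (52, 1), (53, 1), (55, 3), (56, 3), (58, 3), (59, 1), (60, 1), (63, 1), (64, 3), (65, 3), (66, 1), (69, 2), (70, 3), (73, 3), (74, 1), (75, 2), (76, 3), (77, 1), (78, 2), (80, 2), (83, 2), (85, 2), (87, 2), (90, 2), (91, 2), (96, 1), (97, 2), (99, 3), (100, 1), (102, 2), (105, 1), (106, 2), (107, 3), (111, 2), (112, 2), (113, 1), (114, 2), (115, 1)], 2),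
    ([(0, 3), (1, 2), (3, 2), (4, 3), (8, 2), (9, 1), (10, 2), (11, 2), (12, 3), (13, 2), (14, 1), (20, 2), (22, 1), (23, 2), (24, 3), (25, 1), (28, 1), (30, 1), (31, 3), (32, 2), (33, 1), (34, 2), (35, 1), (36, 1), (37, 1), (38, 3), (39, 3), (40, 1), (41, 3), (42, 2), (43, 3), (44, 1), (45, 3), (46, 1), (47, 1), (48, 1), (49, 1), (50, 2), (51, 3), (52, 3), (54, 3), (55, 2), (57, 3), (58, 2), (59, 2), (60, 3), (62, 1), (65, 3), (66, 3), (67, 1), (68, 1), (69, 3), (70, 2), (71, 2), (73, 3), (74, 1), (75, 2), (76, 3), (77, 1), (78, 3), (79, 3), (80, 2), (81, 2), (82, 2), (83, 2), (84, 2), (85, 3), (87, 1), (88, 2), (91, 3), (92, 2), (93, 3), (94, 3), (101, 2), (102, 2), (103, 2), (104, 2), (105, 2), (113, 1), (114, 3)], 1),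
    ([(4, 1), (6, 1), (8, 1), (9, 2), (12, 3), (13, 3), (14, 1), (15, 3), (16, 2), (18, 2), (19, 1), (20, 1), (28, 1), (29, 3), (32, 2), (34, 2), (35, 3), (37, 1), (39, 1), (40, 3), (41, 2), (43, 3), (44, 3), (45, 1), (46, 2), (47, 3), (49, 1), (50, 1), (54, 1), (55, 2), (56, 3), (58, 3)], 0),
    ([(9, 2), (19, 3), (20, 1), (28, 2), (35, 1), (36, 3), (37, 1), (39, 2), (40, 1), (42, 2), (43, 1), (44, 2), (45, 3), (47, 1)], 0),
    ([(0, 1), (1, 1), (2, 2), (3, 1), (5, 1), (7, 1), (8, 1), (9, 1), (11, 1), (12, 1), (13, 1), (14, 2), (16, 1), (17, 3), (18, 1), (19, 3), (20, 2), (21, 3), (22, 2), (24, 3), (25, 2), (26, 3), (27, 1), (28, 1), (29, 2), (30, 3), (31, 3), (33, 1), (34, 2), (35, 3), (36, 1), (37, 2), (39, 2), (40, 1), (41, 3), (42, 2), (44, 1), (45, 3), (47, 1), (48, 1), (49, 1), (50, 3), (51, 2), (54, 1), (56, 2), (57, 2), (58, 2), (59, 1), (62, 2), (63, 3), (64, 1), (66, 3), (68, 3), (69, 3), (70, 1), (71, 2), (73, 2), (74, 1), (75, 2), (76, 1), (77, 3), (78, 2), (80, 1), (82, 2), (84, 3), (85, 3), (87, 1), (89, 1), (90, 3), (96, 3), (98, 1), (100, 1), (101, 2), (102, 2)], 0),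
    ([(0, 1), (2, 1), (5, 1), (6, 1), (7, 3), (8, 2), (9, 2), (10, 2), (11, 2), (12, 1), (14, 2), (16, 3), (17, 1), (18, 3), (19, 3), (20, 1), (21, 1), (23, 2), (24, 2), (25, 2), (28, 2), (29, 2), (30, 3), (31, 2), (32, 1), (33, 1), (35, 3), (37, 3), (38, 3), (39, 2), (40, 3), (41, 1), (42, 3), (43, 3), (45, 1), (46, 2), (47, 3), (50, 3), (51, 1), (52, 2), (54, 2), (56, 2), (57, 2), (59, 2), (60, 1), (61, 1), (63, 3), (64, 1), (65, 1), (68, 1), (69, 1), (70, 2), (71, 3), (72, 1), (73, 2), (75, 2), (76, 2), (77, 2), (79, 3), (81, 2), (82, 2), (84, 1), (85, 3), (86, 1), (87, 1), (88, 2), (91, 3), (92, 1), (93, 2), (94, 3), (95, 2), (96, 3), (97, 2), (98, 3), (99, 1), (100, 2), (101, 2), (105, 3), (106, 1), (110, 2), (113, 1), (114, 3)], 1),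
    ([(0, 3), (1, 1), (2, 3), (3, 2), (6, 3), (8, 2), (9, 3), (11, 2), (12, 3), (13, 3), (14, 2), (15, 3), (16, 2), (17, 2), (18, 2), (19, 3), (20, 1), (21, 1), (22, 3), (23, 2), (24, 3), (25, 3), (26, 2), (27, 2), (28, 1), (29, 3), (30, 2), (31, 3), (32, 3), (34, 3), (37, 2), (38, 1), (39, 2), (40, 2), (41, 1), (42, 1), (45, 2), (46, 3), (47, 2), (48, 1), (49, 2), (51, 2), (52, 1), (54, 2), (55, 1), (56, 1), (57, 1), (58, 3), (59, 1), (60, 3), (62, 3), (63, 1), (64, 3), (65, 3), (67, 2), (68, 3), (69, 2), (70, 3), (73, 1), (76, 1), (77, 3), (78, 1), (79, 1), (80, 2), (84, 2), (85, 1), (86, 1), (87, 3), (91, 3), (92, 2), (93, 3), (94, 1), (95, 2), (96, 2), (99, 2), (103, 2), (104, 2), (105, 1), (106, 1), (107, 3), (108, 2), (109, 3), (112, 2), (113, 1), (114, 2), (115, 1)], 1),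
    ([(0, 3), (1, 1), (2, 3), (3, 1), (4, 1), (6, 3), (9, 1), (10, 2), (11, 3), (12, 3), (13, 3), (16, 2), (17, 2), (18, 2), (19, 2), (21, 3), (22, 3), (23, 3), (24, 3), (26, 3), (27, 3), (28, 3), (30, 2), (31, 3), (32, 2), (33, 1), (34, 1), (35, 2), (36, 2), (37, 3), (39, 1), (40, 2), (41, 3), (42, 3), (44, 2), (45, 2), (46, 2), (47, 2), (48, 3), (49, 2), (51, 3), (52, 2), (54, 3), (55, 3), (56, 2), (57, 2), (58, 1), (59, 2), (60, 2), (61, 3), (63, 3), (64, 1), (65, 2), (66, 1), (67, 2), (69, 3), (71, 2), (72, 1), (73, 3), (74, 1), (75, 2), (76, 1), (77, 3), (79, 2), (80, 2), (82, 2), (83, 2), (86, 1), (91, 2), (93, 2), (95, 2), (96, 2), (99, 2), (101, 2), (102, 2), (109, 3), (110, 2), (111, 2), (112, 2), (114, 3), (115, 1)], 2),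
    ([(0, 1), (1, 3), (2, 2), (3, 2), (4, 2), (5, 1), (6, 1), (7, 1), (8, 1), (11, 1), (13, 2), (14, 2), (15, 3), (16, 3), (17, 1), (19, 3), (20, 3), (21, 3), (22, 3), (23, 3), (25, 3), (26, 1), (27, 3), (28, 2), (29, 1), (30, 2), (31, 3), (32, 3), (33, 1), (34, 3), (35, 1), (36, 3), (37, 1), (38, 1), (40, 3), (41, 1), (43, 2), (44, 3), (45, 1), (46, 1), (47, 3), (49, 1), (50, 1), (51, 3), (52, 3), (54, 3), (56, 2), (57, 3), (58, 3), (59, 2), (61, 1), (62, 1), (63, 1), (64, 3), (65, 2), (66, 1), (67, 3), (68, 3), (69, 1), (70, 2), (71, 1), (72, 2), (74, 1), (75, 2), (76, 1), (77, 3), (79, 1), (83, 2), (86, 1), (89, 2), (92, 2), (95, 2), (96, 1), (98, 2), (99, 1), (100, 3), (101, 2), (102, 2), (103, 2), (104, 2), (105, 1), (106, 1), (108, 2), (109, 2), (112, 2), (113, 1), (114, 2), (115, 1)], 2),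
    ([(1, 1), (3, 2), (4, 3), (6, 1), (7, 3), (8, 1), (9, 2), (10, 1), (11, 3), (13, 1), (14, 2), (15, 3), (16, 1), (17, 1), (18, 2), (19, 2), (20, 1), (21, 3), (23, 3), (25, 1), (27, 2), (28, 2), (29, 3), (31, 1), (32, 1), (33, 2), (34, 1), (35, 3), (37, 3), (38, 2), (39, 3), (40, 3), (42, 2), (43, 3), (45, 1), (46, 2), (47, 3), (48, 3), (49, 3), (50, 1), (54, 2), (58, 3), (60, 1), (61, 3), (65, 1), (67, 1), (68, 1), (69, 1), (71, 1), (72, 2), (73, 3), (74, 2), (75, 2), (78, 3), (80, 2), (82, 2), (83, 2), (85, 1), (86, 3), (87, 3), (89, 2), (90, 2), (91, 1), (92, 2), (93, 1), (94, 3), (95, 2), (96, 1), (98, 2), (99, 1), (100, 3), (101, 2), (103, 2), (104, 2), (105, 1), (106, 1), (108, 2), (109, 2), (112, 2), (114, 3), (115, 1)], 1),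
    ([(0, 1), (1, 1), (2, 1), (3, 2), (4, 2), (5, 2), (6, 2), (8, 1), (9, 2), (10, 2), (11, 3), (12, 1), (13, 3), (14, 1), (15, 2), (16, 2), (17, 1), (19, 1), (21, 3), (22, 1), (25, 3), (26, 3), (27, 2), (28, 1), (29, 2), (30, 2), (32, 3), (33, 3), (34, 1), (35, 1), (36, 2), (37, 2), (38, 3), (39, 3), (40, 1), (43, 3), (44, 1), (45, 3), (46, 3), (47, 1), (48, 2), (50, 1), (51, 1), (52, 1), (53, 1), (54, 2), (56, 3), (58, 3), (59, 2), (60, 1), (61, 2), (62, 3), (63, 3), (64, 1), (68, 3), (69, 3), (70, 3), (71, 2), (73, 1), (74, 1), (75, 2), (76, 2), (77, 2), (78, 1), (79, 2), (82, 2), (83, 2), (85, 3), (86, 3), (87, 1), (91, 1), (93, 3), (94, 3), (95, 2), (96, 1), (98, 2), (99, 1), (100, 3), (102, 2), (105, 3), (108, 2), (109, 2), (112, 2), (114, 3), (115, 1)], 1),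
    ([(1, 3), (2, 1), (5, 3), (6, 1), (7, 2), (9, 3), (10, 3), (11, 1), (12, 2), (14, 2), (15, 1), (18, 3), (20, 2), (21, 2), (24, 3), (25, 1), (26, 3), (27, 3), (28, 2), (29, 2), (32, 1), (33, 2), (34, 3), (35, 3), (36, 2), (38, 3), (39, 2), (40, 1), (42, 2), (43, 3), (44, 2), (45, 3), (47, 1), (48, 2), (50, 3), (51, 2), (53, 3), (54, 2), (55, 2), (56, 2), (57, 3), (58, 1), (59, 2), (61, 3), (62, 1), (65, 3), (66, 2), (67, 2), (69, 2), (70, 3), (73, 3), (74, 3), (75, 2), (76, 1), (77, 3), (78, 2), (79, 2), (82, 2), (83, 2), (84, 2), (89, 2), (90, 2), (91, 2), (93, 2), (94, 2), (96, 1), (98, 2), (99, 1), (100, 3), (101, 2), (103, 2), (104, 2), (105, 1), (106, 2), (107, 3), (109, 2), (110, 2), (111, 2), (112, 2), (113, 1), (114, 2), (115, 1)], 0),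
    ([(0, 2), (1, 2), (2, 1), (3, 3), (4, 1), (5, 2), (7, 1), (8, 1), (9, 3), (10, 2), (11, 3), (12, 1), (13, 3), (14, 1), (19, 2), (20, 1), (21, 2), (22, 2), (23, 1), (24, 2), (26, 2), (27, 3), (28, 1), (30, 3), (31, 3), (32, 2), (33, 1), (34, 1), (35, 3), (37, 1), (38, 2), (39, 3), (43, 3), (44, 3), (48, 3), (49, 3), (50, 2), (51, 2), (54, 1), (55, 1), (56, 1), (57, 2), (58, 3), (60, 1), (61, 1), (62, 2), (63, 1), (64, 3), (65, 3), (67, 1), (68, 3), (69, 1), (73, 3), (74, 3), (76, 3), (77, 1), (78, 3), (79, 3), (81, 2), (84, 2), (85, 3), (86, 2), (87, 1), (88, 2), (91, 3), (92, 2), (93, 3), (94, 3), (97, 2), (98, 2), (99, 2), (100, 2), (102, 2), (105, 2), (109, 2), (110, 2), (113, 1), (114, 3)], 3),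
    ([(0, 3), (2, 1), (3, 1), (4, 2), (5, 2), (6, 3), (7, 3), (8, 1), (9, 1), (10, 3), (11, 1), (12, 1), (14, 1), (18, 1), (19, 3), (20, 2), (21, 2), (22, 1), (23, 3), (24, 2), (26, 3), (28, 3), (30, 3), (31, 2), (32, 1), (33, 2), (35, 2), (37, 2), (40, 1), (42, 3), (43, 3), (45, 3), (47, 1), (50, 2), (51, 1), (52, 1), (56, 2), (57, 3), (58, 3), (60, 2), (61, 1), (62, 3), (66, 1), (67, 2), (68, 2), (69, 2), (70, 2), (74, 2), (79, 2), (80, 2), (82, 2), (86, 2), (89, 2), (91, 2), (92, 2), (93, 2), (97, 2), (98, 2), (99, 2), (100, 2), (105, 2), (108, 2), (109, 2), (111, 2)], 0),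
    ([(9, 3), (15, 3), (16, 1), (19, 1), (20, 3), (28, 1), (29, 2), (33, 2), (35, 2), (36, 2), (39, 1), (40, 1), (44, 3), (45, 3), (47, 1), (49, 2), (50, 2), (55, 1), (56, 3), (58, 3)], 0),
    ([(0, 3), (1, 2), (2, 3), (3, 1), (4, 3), (5, 1), (7, 1), (9, 3), (10, 1), (11, 3), (12, 2), (13, 2), (14, 2), (15, 1), (17, 3), (18, 1), (19, 2), (20, 2), (21, 3), (22, 3), (23, 3), (24, 2), (25, 1), (26, 3), (27, 3), (28, 3), (29, 3), (30, 2), (31, 3), (32, 2), (33, 3), (34, 1), (36, 1), (38, 3), (39, 1), (40, 1), (41, 3), (42, 1), (43, 1), (44, 2), (45, 3), (46, 3), (47, 1), (49, 1), (50, 3), (51, 2), (53, 1), (54, 1), (55, 2), (56, 1), (57, 3), (58, 2), (59, 1), (60, 3), (61, 3), (62, 3), (63, 2), (64, 2), (66, 3), (67, 2), (68, 3), (69, 2), (70, 1), (71, 2), (72, 2), (73, 1), (74, 3), (75, 2), (79, 3), (80, 1), (83, 2), (86, 3), (89, 1), (90, 1), (91, 1), (92, 1), (93, 2), (94, 3), (95, 2), (96, 2), (97, 2), (98, 2), (100, 2), (103, 2), (104, 2), (105, 3), (108, 2), (109, 3), (111, 2)], 3),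
    ([(0, 3), (1, 2), (2, 1), (3, 1), (4, 1), (5, 3), (7, 1), (10, 2), (11, 2), (12, 2), (13, 3), (15, 1), (16, 3), (17, 2), (18, 2), (19, 3), (20, 3), (21, 3), (22, 1), (23, 3), (24, 3), (28, 3), (29, 1), (30, 2), (31, 1), (32, 3), (35, 2), (36, 2), (38, 2), (40, 2), (41, 3), (42, 1), (43, 3), (44, 3), (45, 2), (46, 2), (47, 2), (49, 3), (50, 3), (51, 1), (52, 1), (53, 2), (54, 3), (55, 3), (57, 3), (58, 3), (59, 2), (61, 3), (63, 3), (64, 1), (65, 1), (66, 3), (68, 3), (69, 1), (70, 1), (72, 1), (73, 1), (74, 2), (75, 2), (76, 3), (77, 1), (79, 1), (84, 3), (85, 1), (86, 3), (87, 3), (89, 2), (91, 3), (92, 1), (94, 1), (95, 2), (96, 2), (97, 2), (98, 2), (101, 2), (103, 2), (104, 2), (105, 3), (106, 1), (109, 2), (110, 2), (113, 1), (114, 3)], 3),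
    ([(0, 3), (2, 3), (4, 3), (5, 3), (7, 1), (8, 3), (10, 2), (11, 2), (14, 3), (19, 1), (20, 2), (21, 3), (22, 2), (23, 2), (24, 1), (25, 2), (28, 1), (29, 3), (30, 2), (33, 1), (35, 2), (37, 3), (38, 1), (39, 3), (41, 3), (42, 2), (43, 1), (44, 2), (46, 1), (48, 1), (49, 2), (50, 1), (51, 3), (52, 1), (54, 2), (56, 2), (57, 2), (58, 3), (59, 3), (60, 2), (61, 1), (66, 2), (68, 2), (69, 2), (71, 3), (72, 3), (73, 2), (74, 1), (76, 2), (77, 2), (78, 1), (79, 2), (81, 2), (83, 2), (84, 1), (85, 2), (86, 1), (87, 2), (88, 2), (91, 2), (92, 1), (93, 3), (94, 2), (95, 2), (96, 2), (99, 2), (100, 2), (101, 2), (102, 2), (103, 2), (104, 2), (105, 2), (107, 1), (108, 2), (110, 2), (111, 2)], 2),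
    ([(0, 2), (1, 2), (2, 1), (3, 1), (4, 2), (5, 2), (8, 3), (10, 1), (15, 3), (16, 1), (17, 1), (18, 1), (19, 2), (20, 3), (22, 3), (23, 1), (24, 3), (26, 1), (28, 1), (29, 3), (30, 1), (31, 1), (32, 2), (33, 3), (34, 3), (35, 1), (36, 3), (37, 2), (38, 2), (40, 3), (42, 1), (43, 1), (44, 2), (45, 1), (46, 3), (47, 3), (48, 3), (49, 3), (51, 2), (53, 1), (54, 3), (55, 2), (56, 3), (58, 1), (59, 1), (61, 1), (62, 3), (65, 3), (66, 1), (67, 3), (68, 3), (69, 1), (70, 3), (71, 1), (72, 3), (73, 1), (74, 2), (75, 2), (76, 1), (77, 3), (82, 2), (83, 2), (86, 3), (89, 2), (90, 2), (92, 2), (93, 2), (94, 2), (95, 2), (96, 2), (99, 2), (100, 2), (102, 2), (103, 2), (104, 2), (105, 1), (107, 1)], 0),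
    ([(0, 2), (1, 2), (2, 1), (3, 3), (4, 3), (6, 1), (7, 1), (8, 1), (11, 3), (12, 1), (14, 1), (16, 3), (18, 2), (19, 1), (20, 1), (21, 1), (22, 3), (23, 2), (24, 3), (25, 3), (26, 1), (27, 2), (28, 3), (29, 1), (30, 2), (32, 1), (33, 2), (34, 2), (35, 2), (36, 3), (37, 3), (39, 1), (42, 3), (43, 2), (46, 3), (49, 2), (50, 1), (51, 2), (54, 3), (55, 3), (57, 2), (58, 3), (60, 1), (61, 1), (63, 2), (64, 2), (65, 3), (66, 2), (67, 1), (68, 3), (69, 1), (73, 3), (74, 3), (76, 3), (77, 1), (78, 3), (79, 3), (81, 2), (84, 2), (85, 3), (86, 2), (87, 1), (88, 2), (91, 3), (92, 2), (93, 3), (94, 3), (97, 2), (98, 2), (99, 2), (100, 2), (102, 2), (103, 2), (104, 2), (105, 2), (109, 2), (110, 2), (113, 1), (114, 3)], 3),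
    ([(0, 1), (1, 2), (2, 3), (5, 1), (6, 1), (7, 1), (8, 2), (10, 2), (14, 1), (15, 2), (16, 3), (18, 3), (21, 3), (22, 3), (24, 2), (25, 1), (28, 3), (29, 2), (30, 3), (31, 2), (33, 3), (36, 1), (37, 1), (38, 1), (41, 1), (42, 3), (43, 1), (44, 3), (46, 3), (51, 3), (52, 1), (54, 3), (55, 2), (56, 3), (57, 3), (58, 2), (59, 3), (61, 3), (63, 2), (64, 2), (65, 3), (66, 2), (67, 3), (68, 1), (69, 3), (70, 2), (73, 3), (74, 1), (76, 3), (77, 1), (78, 3), (79, 1), (80, 2), (81, 2), (82, 2), (84, 2), (85, 3), (87, 1), (88, 2), (89, 2), (91, 1), (93, 1), (94, 3), (102, 2), (103, 2), (104, 2), (108, 2), (110, 2), (111, 2), (113, 1), (114, 3)], 3),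
    ([(1, 3), (2, 3), (3, 1), (4, 2), (5, 2), (6, 3), (7, 3), (8, 2), (9, 3), (10, 3), (12, 3), (13, 2), (14, 1), (15, 2), (16, 1), (17, 2), (18, 2), (19, 1), (20, 3), (21, 3), (22, 2), (23, 1), (25, 1), (27, 2), (28, 3), (30, 3), (31, 2), (32, 3), (33, 3), (34, 2), (35, 1), (36, 3), (38, 2), (39, 3), (40, 1), (43, 2), (44, 3), (45, 3), (46, 2), (47, 1), (48, 2), (49, 1), (50, 2), (52, 3), (53, 2), (54, 1), (56, 1), (58, 1), (60, 3), (61, 1), (65, 2), (66, 1), (69, 2), (70, 1), (71, 1), (72, 3), (73, 1), (74, 1), (75, 2), (76, 3), (77, 1), (78, 3), (79, 2), (80, 2), (84, 3), (85, 2), (86, 1), (87, 2), (89, 2), (92, 1), (93, 3), (94, 2), (95, 2), (96, 3), (97, 2), (99, 1), (100, 3), (102, 2), (105, 1), (106, 1), (108, 2), (110, 2), (112, 2), (113, 1), (114, 2), (115, 1)], 0),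
    ([(0, 3), (2, 1), (3, 1), (4, 1), (7, 3), (8, 2), (11, 1), (13, 3), (14, 2), (15, 3), (16, 1), (18, 2), (19, 3), (20, 3), (21, 2), (22, 1), (23, 3), (24, 2), (26, 3), (28, 1), (29, 3), (30, 1), (31, 3), (32, 3), (33, 2), (35, 3), (36, 1), (37, 3), (38, 3), (39, 1), (40, 3), (42, 2), (43, 1), (44, 2), (45, 1), (47, 3), (50, 2), (51, 1), (52, 1), (54, 3), (55, 1), (56, 1), (57, 3), (58, 1), (60, 2), (61, 1), (62, 3), (66, 1), (67, 2), (68, 2), (69, 2), (70, 2), (74, 2), (79, 2), (80, 2), (82, 2), (86, 2), (89, 2), (91, 2), (92, 2), (93, 2), (97, 2), (98, 2), (99, 2), (100, 2), (105, 2), (108, 2), (109, 2), (111, 2)], 0),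
    ([(0, 2), (2, 2), (3, 2), (5, 2), (7, 2), (9, 1), (10, 3), (11, 2), (12, 1), (13, 3), (14, 3), (16, 3), (17, 2), (19, 2), (20, 3), (23, 2), (27, 2), (28, 2), (29, 3), (31, 1), (32, 1), (33, 3), (34, 3), (35, 3), (37, 1), (38, 1), (39, 1), (41, 1), (44, 1), (46, 3), (49, 1), (50, 3), (52, 2), (54, 2), (55, 2), (56, 2), (57, 2), (58, 1), (59, 2), (61, 2), (62, 2), (67, 2), (71, 2), (75, 2), (79, 2), (83, 2), (89, 2), (91, 2), (92, 2), (93, 2), (101, 2), (103, 2), (104, 2), (105, 2), (108, 2), (110, 2), (111, 2)], 2),
    ([(9, 3), (19, 3), (28, 2), (29, 1), (33, 3), (37, 2), (39, 3), (40, 2), (42, 3), (43, 3), (45, 2), (47, 2), (49, 1), (50, 1), (58, 1)], 0),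
    ([(0, 3), (1, 3), (2, 3), (3, 1), (4, 1), (5, 2), (6, 2), (9, 2), (10, 1), (11, 2), (12, 1), (13, 2), (15, 3), (17, 1), (18, 3), (19, 3), (21, 1), (22, 1), (25, 2), (26, 2), (27, 2), (28, 1), (30, 1), (31, 3), (32, 3), (33, 1), (34, 1), (35, 1), (36, 2), (38, 3), (40, 3), (41, 1), (42, 1), (43, 2), (44, 1), (45, 1), (46, 2), (47, 3), (48, 1), (51, 2), (52, 3), (53, 3), (54, 1), (55, 1), (56, 2), (57, 2), (58, 1), (59, 3), (60, 1), (61, 2), (62, 1), (63, 1), (64, 3), (65, 3), (67, 2), (68, 1), (70, 3), (71, 1), (72, 2), (73, 2), (74, 2), (76, 3), (77, 1), (78, 1), (79, 1), (82, 2), (83, 2), (84, 3), (86, 3), (89, 2), (91, 2), (92, 1), (93, 1), (95, 2), (96, 3), (97, 2), (99, 1), (100, 1), (101, 2), (102, 2), (105, 2), (106, 1), (108, 2), (109, 3), (111, 2), (113, 1), (114, 3)], 0),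
    ([(0, 3), (2, 2), (3, 3), (5, 3), (7, 2), (8, 2), (9, 3), (10, 3), (11, 1), (12, 1), (13, 3), (14, 3), (16, 2), (17, 1), (18, 2), (19, 3), (21, 2), (22, 2), (24, 3), (25, 3), (26, 1), (27, 2), (29, 1), (31, 3), (32, 3), (33, 1), (34, 2), (35, 2), (36, 1), (39, 1), (40, 2), (41, 3), (43, 1), (44, 3), (45, 2), (46, 1), (47, 2), (48, 1), (49, 2), (51, 3), (52, 1), (54, 1), (55, 1), (56, 2), (57, 1), (58, 1), (59, 3), (60, 3), (62, 3), (66, 3), (67, 2), (68, 2), (69, 2), (71, 3), (72, 3), (73, 3), (74, 1), (75, 2), (79, 1), (81, 2), (83, 2), (86, 3), (88, 2), (90, 2), (91, 2), (94, 2), (95, 2), (97, 2), (98, 2), (99, 2), (100, 2), (105, 2), (107, 1), (108, 2), (109, 2), (111, 2)], 0),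
    ([(1, 2), (2, 2), (3, 2), (4, 2), (5, 2), (7, 1), (9, 2), (10, 1), (11, 2), (12, 1), (13, 3), (17, 2), (18, 2), (19, 3), (20, 2), (21, 2), (25, 2), (27, 3), (28, 2), (29, 3), (30, 3), (31, 1), (32, 2), (33, 3), (34, 2), (35, 2), (36, 3), (38, 1), (40, 2), (42, 2), (43, 1), (45, 2), (46, 1), (47, 2), (48, 2), (49, 2), (50, 3), (51, 1), (52, 2), (53, 3), (54, 1), (57, 3), (58, 2), (60, 3), (61, 3), (62, 3), (63, 2), (64, 2), (65, 2), (66, 1), (68, 2), (69, 1), (70, 1), (71, 2), (72, 1), (74, 2), (76, 1), (77, 3), (78, 2), (79, 2), (80, 2), (83, 2), (84, 3), (85, 3), (87, 1), (89, 2), (90, 2), (91, 3), (92, 1), (93, 2), (94, 1), (96, 2), (97, 2), (98, 2), (100, 2), (101, 2), (105, 1), (106, 2), (107, 3), (109, 1), (111, 2), (112, 2), (113, 1), (114, 2), (115, 1)], 1),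
    ([(0, 3), (2, 1), (3, 2), (4, 3), (5, 3), (6, 2), (7, 1), (8, 2), (9, 3), (10, 3), (11, 1), (12, 3), (13, 3), (14, 3), (15, 2), (16, 1), (17, 3), (18, 3), (21, 1), (22, 3), (23, 2), (24, 1), (25, 2), (27, 3), (28, 1), (30, 2), (31, 3), (33, 3), (35, 2), (37, 1), (38, 1), (40, 2), (41, 3), (43, 2), (44, 1), (45, 2), (46, 3), (47, 2), (48, 3), (49, 1), (50, 3), (51, 3), (52, 3), (55, 1), (56, 2), (57, 3), (58, 1), (59, 3), (60, 2), (61, 1), (63, 1), (64, 3), (66, 2), (70, 3), (72, 1), (73, 1), (75, 2), (76, 2), (77, 2), (78, 3), (79, 3), (80, 2), (81, 2), (84, 3), (85, 2), (86, 2), (87, 2), (88, 2), (90, 2), (92, 3), (93, 1), (96, 2), (97, 2), (98, 2), (101, 2), (102, 2), (109, 2), (110, 2)], 2),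
    ([(1, 1), (2, 2), (3, 1), (4, 2), (5, 2), (7, 3), (8, 3), (9, 2), (10, 2), (11, 2), (12, 2), (13, 1), (14, 2), (16, 1), (17, 1), (18, 1), (19, 2), (21, 3), (22, 3), (23, 1), (24, 2), (25, 3), (26, 3), (27, 1), (29, 2), (30, 3), (32, 1), (33, 2), (36, 3), (38, 3), (39, 3), (40, 3), (43, 1), (44, 1), (45, 1), (46, 1), (47, 3), (48, 3), (49, 2), (50, 1), (53, 3), (54, 1), (55, 3), (58, 2), (59, 1), (61, 2), (62, 2), (63, 2), (64, 2), (66, 1), (68, 3), (69, 3), (70, 3), (73, 1), (74, 3), (78, 1), (79, 2), (80, 2), (84, 2), (85, 1), (86, 3), (87, 3), (91, 3), (92, 2), (93, 3), (94, 1), (95, 2), (96, 1), (97, 2), (99, 3), (100, 1), (103, 2), (104, 2), (105, 1), (111, 2), (112, 2), (114, 3), (115, 1)], 1),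
    ([(0, 1), (1, 3), (3, 1), (4, 3), (7, 2), (8, 3), (9, 2), (10, 2), (11, 2), (12, 1), (13, 2), (14, 1), (15, 3), (16, 2), (17, 2), (18, 2), (19, 2), (20, 1), (21, 2), (22, 1), (23, 3), (24, 2), (25, 2), (26, 2), (27, 2), (28, 2), (29, 2), (30, 1), (32, 3), (33, 3), (34, 1), (35, 1), (36, 2), (37, 2), (38, 1), (39, 1), (40, 2), (41, 3), (43, 3), (44, 2), (45, 2), (46, 1), (47, 2), (48, 1), (49, 3), (50, 3), (51, 1), (52, 1), (53, 1), (55, 1), (56, 1), (58, 1), (59, 1), (60, 2), (62, 2), (63, 2), (64, 2), (65, 3), (66, 2), (69, 2), (70, 3), (73, 3), (74, 1), (75, 2), (76, 3), (77, 1), (78, 2), (80, 2), (83, 2), (85, 2), (87, 2), (90, 2), (91, 2), (96, 1), (97, 2), (99, 3), (100, 1), (102, 2), (103, 2), (104, 2), (105, 1), (106, 2), (107, 3), (111, 2), (112, 2), (113, 1), (114, 2), (115, 1)], 2),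
    ([(0, 2), (1, 2), (2, 1), (3, 3), (4, 3), (5, 3), (6, 1), (7, 3), (8, 3), (9, 3), (10, 1), (11, 3), (12, 1), (13, 3), (14, 1), (15, 3), (18, 3), (19, 3), (20, 2), (21, 2), (22, 2), (23, 1), (25, 1), (26, 3), (27, 2), (28, 2), (31, 1), (32, 3), (33, 3), (37, 1), (38, 3), (41, 2), (43, 1), (44, 1), (46, 1), (48, 2), (49, 2), (51, 2), (54, 3), (57, 2), (58, 2), (60, 1), (61, 1), (62, 3), (65, 3), (67, 1), (68, 3), (69, 1), (73, 3), (74, 3), (76, 3), (77, 1), (78, 3), (79, 3), (81, 2), (84, 2), (85, 3), (86, 2), (87, 1), (88, 2), (91, 3), (92, 2), (93, 3), (94, 3), (97, 2), (98, 2), (99, 2), (100, 2), (102, 2), (105, 2), (109, 2), (110, 2), (113, 1), (114, 3)], 3),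
    ([(6, 1), (7, 2), (8, 1), (9, 2), (10, 2), (15, 3), (16, 2), (17, 2), (18, 2), (19, 1), (22, 3), (24, 2), (25, 3), (27, 2), (29, 2), (30, 3), (31, 1), (34, 2), (35, 2), (36, 3), (37, 1), (38, 1), (39, 2), (41, 3), (42, 3), (43, 2), (44, 1), (46, 3), (50, 1), (55, 3), (57, 3), (62, 1), (63, 3), (64, 1), (66, 1)], 0),
    ([(5, 3), (10, 2), (12, 2), (13, 2), (14, 2), (15, 1), (18, 1), (19, 1), (20, 3), (24, 1), (25, 1), (27, 3), (28, 3), (29, 2), (32, 1), (33, 2), (34, 2), (35, 3), (36, 3), (37, 1), (38, 1), (40, 1), (41, 2), (42, 3), (43, 3), (44, 2), (45, 3), (46, 2), (47, 1), (49, 3), (50, 3), (55, 1), (56, 3), (58, 1)], 0),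
    ([(0, 2), (1, 2), (2, 1), (3, 1), (5, 2), (6, 2), (8, 1), (9, 2), (10, 2), (11, 1), (13, 2), (15, 1), (18, 3), (19, 3), (20, 2), (21, 2), (22, 2), (23, 1), (24, 2), (25, 2), (26, 1), (28, 2), (29, 2), (30, 2), (34, 1), (35, 1), (37, 2), (38, 2), (39, 2), (40, 1), (41, 2), (42, 1), (43, 1), (45, 3), (46, 3), (47, 1), (48, 3), (50, 1), (51, 2), (54, 1), (57, 1), (58, 2), (62, 2), (63, 2), (64, 2), (65, 3), (66, 1), (68, 3), (69, 1), (70, 1), (72, 1), (73, 3), (74, 2), (76, 3), (77, 1), (79, 1), (80, 2), (81, 2), (83, 2), (84, 3), (85, 1), (86, 1), (87, 3), (88, 2), (91, 1), (92, 3), (93, 2), (94, 1), (95, 2), (96, 2), (97, 2), (98, 2), (102, 2), (103, 2), (104, 2), (105, 2), (106, 2), (107, 3), (108, 2), (109, 2), (111, 2), (113, 1), (114, 3)], 1),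
    ([(0, 3), (1, 2), (2, 2), (3, 1), (5, 1), (6, 1), (7, 2), (8, 1), (11, 3), (12, 2), (14, 2), (15, 2), (16, 1), (17, 1), (18, 2), (19, 1), (20, 1), (21, 1), (22, 1), (26, 1), (27, 3), (28, 3), (29, 1), (30, 2), (31, 1), (32, 3), (33, 1), (34, 1), (38, 1), (40, 2), (41, 3), (42, 1), (44, 1), (45, 2), (46, 2), (47, 2), (48, 3), (49, 3), (50, 2), (51, 3), (52, 1), (53, 1), (54, 2), (55, 2), (56, 1), (57, 3), (58, 1), (59, 2), (60, 1), (62, 2), (63, 2), (64, 2), (66, 1), (67, 1), (68, 1), (69, 3), (70, 3), (71, 3), (72, 2), (73, 2), (74, 1), (76, 1), (77, 3), (78, 1), (81, 2), (82, 2), (84, 2), (85, 1), (86, 3), (87, 3), (88, 2), (90, 2), (91, 3), (92, 2), (93, 1), (94, 3), (95, 2), (97, 2), (98, 2), (99, 2), (100, 2), (101, 2), (102, 2), (103, 2), (104, 2), (106, 1), (107, 3), (109, 2), (110, 2), (113, 1), (114, 3)], 3),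
    ([(1, 2), (2, 3), (3, 1), (4, 1), (5, 2), (6, 1), (7, 1), (8, 2), (9, 3), (10, 1), (11, 1), (12, 2), (13, 2), (15, 3), (16, 3), (17, 2), (18, 1), (20, 2), (21, 2), (23, 3), (24, 3), (25, 2), (26, 3), (27, 3), (28, 2), (29, 3), (30, 2), (33, 3), (34, 1), (35, 3), (36, 2), (37, 3), (38, 1), (39, 2), (40, 3), (41, 2), (42, 2), (43, 1), (45, 1), (47, 3), (48, 3), (50, 1), (51, 2), (52, 2), (54, 3), (55, 3), (56, 1), (57, 2), (59, 2), (60, 1), (61, 3), (62, 2), (63, 2), (64, 2), (65, 3), (66, 2), (67, 3), (68, 3), (69, 1), (71, 2), (73, 3), (74, 3), (75, 2), (76, 3), (77, 1), (78, 3), (79, 1), (81, 2), (83, 2), (84, 2), (85, 3), (86, 2), (87, 1), (88, 2), (89, 2), (91, 1), (93, 1), (94, 3), (97, 2), (98, 2), (99, 2), (100, 2), (101, 2), (102, 2), (103, 2), (104, 2), (108, 2), (109, 2), (111, 2), (113, 1), (114, 3)], 1),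
    ([(4, 2), (6, 1), (8, 3), (10, 2), (15, 1), (16, 3), (18, 1), (19, 2), (20, 2), (22, 2), (24, 2), (25, 1), (27, 3), (28, 1), (29, 2), (30, 3), (32, 2), (33, 1), (34, 2), (35, 3), (37, 1), (38, 3), (40, 2), (43, 3), (45, 2), (47, 2), (49, 3), (50, 1), (54, 2), (55, 2), (56, 2), (57, 2), (58, 1), (62, 2), (63, 2), (64, 2), (66, 2)], 0),
    ([(1, 2), (2, 3), (3, 1), (4, 1), (5, 1), (6, 2), (8, 2), (10, 2), (11, 1), (12, 2), (13, 2), (15, 1), (17, 3), (18, 3), (19, 3), (20, 1), (21, 2), (22, 2), (23, 3), (24, 3), (25, 2), (26, 3), (27, 2), (28, 1), (29, 2), (31, 3), (32, 3), (34, 2), (35, 1), (36, 2), (37, 2), (38, 1), (39, 1), (40, 2), (41, 3), (44, 3), (45, 2), (46, 2), (47, 2), (48, 1), (49, 1), (51, 2), (52, 2), (54, 3), (56, 3), (57, 2), (58, 1), (59, 2), (60, 1), (61, 3), (62, 3), (63, 1), (64, 3), (65, 3), (67, 3), (68, 3), (69, 1), (71, 2), (73, 3), (74, 3), (75, 2), (76, 3), (77, 1), (78, 3), (79, 1), (81, 2), (83, 2), (84, 2), (85, 3), (86, 2), (87, 1), (88, 2), (89, 2), (91, 1), (93, 1), (94, 3), (97, 2), (98, 2), (99, 2), (100, 2), (101, 2), (102, 2), (103, 2), (104, 2), (108,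 2), (109, 2), (111, 2), (113, 1), (114, 3)], 1),
    ([(0, 3), (2, 1), (3, 1), (4, 3), (5, 3), (6, 1), (7, 1), (8, 2), (9, 1), (10, 2), (11, 1), (12, 2), (13, 1), (15, 2), (16, 3), (19, 1), (20, 2), (21, 2), (22, 2), (23, 3), (24, 1), (25, 2), (26, 1), (27, 2), (28, 1), (29, 3), (30, 2), (31, 3), (32, 2), (33, 2), (34, 3), (35, 1), (37, 1), (38, 2), (39, 1), (40, 2), (41, 2), (42, 3), (45, 2), (46, 2), (47, 2), (48, 2), (49, 2), (50, 1), (51, 1), (52, 1), (54, 1), (55, 1), (56, 3), (57, 2), (58, 2), (60, 2), (61, 1), (62, 2), (63, 3), (64, 1), (67, 2), (68, 2), (69, 2), (70, 2), (74, 2), (79, 2), (80, 2), (82, 2), (86, 2), (89, 2), (91, 2), (92, 2), (93, 2), (97, 2), (98, 2), (99, 2), (100, 2), (105, 2), (108, 2), (109, 2), (111, 2)], 0),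
    ([(9, 3), (10, 3), (20, 3), (28, 3), (33, 2), (35, 1), (37, 1), (39, 2), (40, 3), (42, 2), (43, 3), (44, 2), (45, 1), (47, 3)], 0),
    ([(10, 1), (19, 3), (29, 3), (33, 1), (36, 1), (37, 1), (39, 2), (40, 3), (42, 2), (43, 3), (44, 2), (45, 1), (47, 3)], 0),
    ([(0, 3), (2, 1), (3, 2), (4, 1), (6, 2), (8, 1), (9, 2), (11, 1), (12, 3), (13, 1), (14, 1), (16, 3), (17, 1), (18, 3), (19, 1), (20, 3), (21, 3), (24, 2), (25, 1), (27, 1), (28, 3), (29, 1), (30, 1), (31, 2), (32, 3), (33, 1), (34, 1), (35, 2), (37, 3), (38, 1), (39, 2), (40, 1), (41, 1), (42, 3), (43, 3), (44, 2), (45, 3), (46, 1), (47, 1), (48, 2), (50, 3), (51, 3), (52, 1), (54, 1), (55, 1), (56, 1), (57, 2), (58, 3), (59, 3), (60, 3), (62, 3), (63, 3), (64, 1), (66, 1), (67, 1), (68, 2), (69, 2), (73, 3), (74, 1), (75, 2), (79, 1), (81, 2), (83, 2), (86, 3), (88, 2), (90, 2), (91, 2), (94, 2), (95, 2), (97, 2), (98, 2), (99, 2), (100, 2), (105, 2), (107, 1), (108, 2), (109, 2), (111, 2)], 0),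
    ([(5, 3), (9, 2), (10, 2), (12, 2), (13, 2), (14, 2), (15, 2), (18, 1), (20, 3), (25, 1), (27, 3), (28, 3), (29, 2), (32, 1), (33, 3), (34, 2), (35, 2), (36, 2), (37, 3), (38, 1), (40, 3), (41, 2), (42, 3), (43, 3), (45, 1), (46, 2), (47, 3), (49, 3), (50, 3), (55, 1), (56, 3)], 0),
    ([(0, 3), (1, 2), (3, 2), (4, 2), (6, 1), (8, 3), (9, 2), (10, 3), (11, 2), (12, 2), (13, 1), (14, 2), (15, 2), (16, 3), (18, 1), (19, 1), (20, 1), (22, 3), (23, 2), (24, 1), (27, 1), (28, 2), (30, 2), (31, 3), (32, 3), (33, 1), (34, 2), (35, 2), (36, 1), (37, 2), (39, 3), (40, 1), (41, 1), (42, 2), (43, 1), (44, 2), (45, 3), (46, 3), (47, 1), (48, 1), (49, 3), (50, 2), (51, 3), (52, 3), (54, 2), (55, 2), (56, 1), (57, 1), (59, 2), (60, 3), (62, 3), (63, 2), (64, 2), (65, 3), (66, 1), (67, 1), (68, 1), (69, 3), (70, 2), (71, 2), (73, 3), (74, 1), (75, 2), (76, 3), (77, 1), (78, 3), (79, 3), (80, 2), (81, 2), (82, 2), (83, 2), (84, 2), (85, 3), (87, 1), (88, 2), (91, 3), (92, 2), (93, 3), (94, 3), (101, 2), (102, 2), (103, 2), (104, 2), (105, 2), (113, 1), (114, 3)], 1),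
    ([(0, 3), (1, 2), (3, 2), (4, 2), (5, 1), (6, 2), (7, 2), (9, 3), (10, 2), (11, 2), (12, 2), (13, 1), (14, 2), (16, 1), (17, 2), (18, 1), (19, 2), (22, 3), (23, 2), (24, 3), (25, 2), (28, 1), (29, 3), (30, 2), (32, 1), (33, 1), (35, 1), (36, 1), (37, 1), (38, 3), (39, 3), (41, 3), (43, 2), (44, 2), (46, 2), (48, 3), (49, 1), (50, 2), (51, 3), (52, 3), (54, 2), (56, 2), (59, 2), (60, 3), (63, 1), (64, 3), (65, 3), (66, 1), (67, 1), (68, 1), (69, 3), (70, 2), (71, 2), (73, 3), (74, 1), (75, 2), (76, 3), (77, 1), (78, 3), (79, 3), (80, 2), (81, 2), (82, 2), (83, 2), (84, 2), (85, 3), (87, 1), (88, 2), (91, 3), (92, 2), (93, 3), (94, 3), (101, 2), (102, 2), (103, 2), (104, 2), (105, 2), (113, 1), (114, 3)], 1),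
    ([(4, 2), (5, 1), (6, 1), (7, 2), (8, 1), (9, 2), (12, 2), (13, 2), (14, 2), (15, 3), (16, 3), (17, 2), (20, 3), (22, 3), (24, 3), (28, 1), (29, 2), (30, 1), (34, 2), (35, 2), (36, 1), (37, 3), (38, 3), (41, 3), (42, 3), (44, 2), (46, 3), (50, 1), (54, 2), (55, 2), (56, 3), (57, 3), (58, 2), (62, 1), (63, 3), (64, 1), (66, 1)], 0),
    ([(9, 2), (20, 2), (28, 2), (37, 2), (39, 1), (40, 2), (42, 1), (43, 1), (44, 1), (45, 2), (47, 2), (49, 2), (50, 2)], 0),
    ([(9, 1), (19, 2), (20, 3), (28, 3), (29, 2), (33, 2), (37, 3), (40, 1), (43, 1), (44, 3), (45, 3), (47, 1), (49, 3), (50, 3)], 0),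
    ([(1, 2), (2, 3), (3, 1), (5, 3), (7, 1), (8, 1), (9, 1), (10, 3), (11, 1), (12, 1), (13, 1), (14, 1), (16, 1), (19, 3), (20, 1), (21, 2), (22, 2), (23, 3), (24, 3), (25, 1), (26, 1), (28, 2), (29, 2), (30, 1), (31, 2), (32, 3), (33, 2), (34, 2), (35, 1), (36, 3), (38, 3), (39, 3), (40, 2), (41, 1), (42, 3), (43, 1), (44, 2), (45, 2), (46, 3), (47, 2), (48, 1), (50, 1), (51, 2), (52, 2), (54, 2), (56, 1), (57, 2), (58, 3), (59, 2), (60, 1), (61, 3), (63, 2), (64, 2), (65, 3), (67, 3), (68, 3), (69, 1), (71, 2), (73, 3), (74, 3), (75, 2), (76, 3), (77, 1), (78, 3), (79, 1), (81, 2), (83, 2), (84, 2), (85, 3), (86, 2), (87, 1), (88, 2), (89, 2), (91, 1), (93, 1), (94, 3), (97, 2), (98, 2), (99, 2), (100, 2), (101, 2), (102, 2), (103, 2), (104, 2), (108, 2), (109, 2), (111, 2), (113, 1), (114, 3)], 1),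
    ([(0, 3), (1, 2), (3, 2), (4, 1), (6, 3), (8, 3), (11, 2), (12, 3), (13, 2), (14, 1), (15, 3), (16, 1), (18, 3), (19, 1), (22, 3), (23, 2), (24, 1), (25, 1), (30, 2), (31, 3), (37, 3), (39, 2), (40, 2), (41, 3), (42, 1), (43, 3), (45, 2), (46, 1), (47, 2), (48, 1), (50, 3), (51, 3), (52, 3), (54, 1), (56, 2), (57, 1), (58, 1), (59, 2), (60, 3), (62, 3), (63, 2), (64, 2), (65, 3), (66, 1), (67, 1), (68, 1), (69, 3), (70, 2), (71, 2), (73, 3), (74, 1), (75, 2), (76, 3), (77, 1), (78, 3), (79, 3), (80, 2), (81, 2), (82, 2), (83, 2), (84, 2), (85, 3), (87, 1), (88, 2), (91, 3), (92, 2), (93, 3), (94, 3), (101, 2), (102, 2), (103, 2), (104, 2), (105, 2), (113, 1), (114, 3)], 1),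
    ([(0, 3), (1, 2), (3, 2), (4, 1), (5, 3), (6, 1), (7, 1), (8, 3), (9, 1), (10, 3), (11, 2), (12, 3), (13, 2), (14, 1), (16, 3), (17, 2), (18, 3), (19, 1), (20, 3), (22, 2), (23, 2), (24, 2), (25, 3), (26, 2), (27, 2), (28, 1), (30, 2), (31, 1), (32, 3), (33, 3), (35, 1), (36, 2), (37, 1), (39, 1), (40, 2), (41, 1), (44, 2), (45, 2), (46, 2), (47, 2), (49, 3), (50, 3), (51, 3), (52, 3), (54, 1), (55, 1), (56, 3), (57, 1), (58, 3), (59, 2), (60, 3), (63, 3), (64, 1), (65, 3), (66, 2), (67, 1), (68, 1), (69, 3), (70, 2), (71, 2), (73, 3), (74, 1), (75, 2), (76, 3), (77, 1), (78, 3), (79, 3), (80, 2), (81, 2), (82, 2), (83, 2), (84, 2), (85, 3), (87, 1), (88, 2), (91, 3), (92, 2), (93, 3), (94, 3), (101, 2), (102, 2), (103, 2), (104, 2), (105, 2), (113, 1), (114, 3)], 1),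
    ([(0, 3), (2, 1), (3, 1), (6, 3), (7, 3), (11, 1), (12, 1), (14, 1), (15, 2), (16, 2), (18, 2), (20, 1), (21, 2), (22, 1), (23, 3), (24, 2), (26, 3), (28, 3), (29, 3), (30, 1), (31, 1), (34, 2), (36, 3), (37, 1), (38, 1), (39, 1), (40, 2), (41, 2), (42, 3), (43, 3), (45, 2), (46, 2), (47, 2), (50, 2), (51, 1), (52, 1), (54, 2), (55, 3), (56, 1), (57, 3), (58, 3), (60, 2), (61, 1), (62, 3), (66, 1), (67, 2), (68, 2), (69, 2), (70, 2), (74, 2), (79, 2), (80, 2), (82, 2), (86, 2), (89, 2), (91, 2), (92, 2), (93, 2), (97, 2), (98, 2), (99, 2), (100, 2), (105, 2), (108, 2), (109, 2), (111, 2)], 0),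
    ([(9, 3), (10, 1), (28, 3), (29, 2), (33, 3), (35, 3), (36, 1), (37, 3), (39, 3), (40, 2), (42, 3), (43, 2), (44, 3), (45, 2), (47, 2), (49, 2), (50, 2)], 0),
    ([(9, 3), (10, 3), (19, 3), (20, 2), (28, 1), (29, 3), (33, 1), (36, 3), (39, 2), (42, 2), (44, 2), (49, 1), (50, 1)], 0),
    ([(4, 3), (6, 3), (8, 3), (10, 1), (12, 1), (13, 1), (14, 3), (15, 1), (16, 2), (18, 2), (19, 1), (20, 3), (28, 1), (29, 1), (32, 1), (33, 2), (34, 2), (35, 1), (36, 3), (37, 1), (40, 1), (41, 2), (43, 1), (44, 2), (45, 3), (46, 2), (47, 1), (49, 1), (50, 1), (54, 3), (55, 2), (56, 1), (58, 1)], 0),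
    ([(4, 1), (5, 3), (6, 1), (8, 1), (10, 1), (12, 3), (13, 3), (14, 1), (16, 2), (17, 1), (22, 1), (24, 2), (25, 1), (26, 3), (27, 3), (29, 2), (31, 3), (32, 2), (33, 2), (34, 2), (35, 3), (36, 3), (37, 1), (38, 1), (39, 3), (40, 2), (41, 2), (42, 3), (43, 2), (44, 2), (45, 2), (47, 2), (48, 2), (49, 1), (50, 3), (54, 1), (55, 1), (56, 1), (57, 2), (62, 3), (63, 2), (64, 2), (66, 3)], 0),
    ([(9, 2), (20, 1), (28, 2), (29, 1), (37, 2), (39, 3), (40, 2), (43, 2), (44, 3), (45, 2), (47, 2), (49, 2), (50, 2)], 0),
    ([(9, 2), (20, 3), (28, 1), (29, 2), (33, 1), (36, 1), (39, 1), (40, 1), (42, 1), (43, 2), (44, 1), (45, 3), (47, 1), (49, 2), (50, 2)], 0),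
    ([(9, 3), (19, 2), (20, 2), (28, 1), (29, 1), (33, 2), (37, 1), (40, 3), (43, 3), (44, 1), (45, 1), (47, 3), (49, 1), (50, 1)], 0),
    ([(0, 3), (2, 1), (3, 1), (4, 2), (5, 3), (6, 1), (7, 3), (8, 2), (9, 3), (11, 1), (12, 1), (14, 1), (15, 2), (16, 3), (17, 1), (18, 3), (19, 3), (20, 1), (21, 2), (23, 3), (24, 2), (25, 1), (26, 2), (27, 3), (29, 1), (30, 1), (31, 1), (32, 1), (33, 3), (34, 1), (36, 3), (37, 2), (38, 3), (39, 1), (41, 1), (42, 3), (43, 1), (48, 3), (49, 2), (51, 1), (52, 1), (56, 1), (57, 3), (58, 3), (60, 2), (61, 1), (66, 2), (67, 2), (68, 2), (69, 2), (70, 2), (74, 2), (79, 2), (80, 2), (82, 2), (86, 2), (89, 2), (91, 2), (92, 2), (93, 2), (97, 2), (98, 2), (99, 2), (100, 2), (105, 2), (108, 2), (109, 2), (111, 2)], 0),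
    ([(9, 3), (19, 3), (20, 3), (28, 3), (29, 3), (33, 2), (35, 1), (36, 2), (37, 3), (40, 2), (43, 2), (45, 2), (47, 2)], 0),
    ([(9, 2), (19, 3), (28, 1), (33, 2), (36, 3), (37, 2), (39, 3), (42, 3), (44, 3), (49, 2), (50, 2)], 0),
    ([(9, 3), (19, 2), (20, 2), (28, 1), (29, 1), (33, 2), (37, 2), (40, 3), (43, 3), (45, 1), (47, 3), (49, 1), (50, 1)], 0),
    ([(4, 2), (6, 1), (7, 2), (8, 1), (9, 1), (10, 1), (12, 2), (13, 2), (14, 2), (16, 3), (17, 3), (18, 2), (24, 1), (25, 1), (26, 3), (27, 3), (28, 3), (29, 3), (30, 1), (31, 3), (33, 2), (34, 2), (35, 1), (36, 3), (37, 3), (39, 1), (40, 3), (41, 2), (42, 1), (43, 3), (45, 1), (46, 1), (47, 3), (48, 3), (49, 1), (54, 2), (55, 1), (56, 1), (57, 1), (58, 3), (63, 1), (64, 3)], 0),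
    ([(9, 2), (19, 1), (20, 3), (28, 3), (29, 1), (33, 2), (36, 2), (37, 2), (39, 2), (42, 1), (43, 3), (44, 1), (48, 1), (49, 2), (50, 3)], 0),
    ([(9, 2), (19, 3), (20, 1), (28, 1), (29, 3), (33, 2), (36, 2), (37, 2), (39, 2), (42, 3), (43, 1), (44, 3), (48, 3), (49, 2), (50, 2)], 0),
    ([(9, 2), (19, 1), (28, 3), (33, 2), (36, 2), (37, 2), (39, 1), (42, 1), (44, 1), (49, 2), (50, 2)], 0),
    ([(9, 1), (19, 2), (20, 2), (28, 3), (29, 3), (33, 2), (37, 3), (40, 1), (43, 1), (45, 3), (47, 1), (49, 3), (50, 3)], 0),
    ([(19, 1), (20, 3), (29, 2), (33, 3), (36, 3), (37, 2), (39, 2), (40, 1), (42, 2), (43, 1), (44, 2), (45, 3), (47, 1)], 0)]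
  tau := [0, 0, 0, 0, 0, 0, 0, 0, 0, 0, 0, 0, 0, 0, 0, 0, 0, 0, 0, 0, 0, 0, 0, 0, 0, 0, 0, 0, 0, 0, 0, 0, 0, 0, 0, 0, 0, 0, 0, 0, 0, 0, 0, 0, 0, 0, 0, 0, 0, 0, 0, 0, 0, 0, 0, 0, 0, 0, 0, 0, 0, 0, 0, 0, 0, 0, 0, 0, 0, 0, 0, 0, 0, 0, 0, 0, 0, 0, 0, 0, 0, 1, 0, 0, 0, 0, 0, 0, 0, 0, 0, 0, 0, 0, 0, 0, 0, 0, 0, 0, 1, 0, 0, 0, 0, 0, 0, 0, 0, 0, 0, 0, 0, 0, 0, 0, 0, 0, 0, 0, 0, 0, 0, 0, 1]
  tauCombo := [(0, 2), (1, 2), (3, 2), (5, 1), (8, 1), (9, 1), (10, 1), (11, 2), (14, 2), (15, 2), (16, 2), (17, 1), (18, 3), (19, 3), (20, 3), (22, 1), (23, 3), (24, 1), (25, 1), (27, 3), (30, 3), (31, 1), (33, 2), (35, 2), (36, 1), (37, 3), (38, 2), (39, 2), (43, 1), (44, 2), (50, 2), (52, 3), (53, 3), (54, 3), (55, 2), (57, 2), (58, 2), (60, 1), (61, 2), (62, 3), (63, 1), (64, 3), (65, 1), (66, 1), (67, 3), (68, 1), (69, 3), (70, 1), (71, 1), (72, 3), (74, 1), (75, 2), (76, 1), (77, 3), (79, 3), (81, 2), (82, 2), (83, 2), (86, 2), (88, 2), (96, 2), (97, 2), (98, 2), (101, 2), (102, 2), (109, 2), (110, 2)]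

/-- The words of the generators. -/
def twoSuzGens : List (List ℕ) := [
  [1, 2, 1, 0, 1, 3, 2, 3, 2, 1, 0, 4, 3, 5, 1, 2, 3, 2, 1, 5, 0, 1, 2, 3, 4, 2, 3, 1, 3, 2, 5, 1, 0, 1, 0, 2, 1, 3, 4, 2, 3, 2, 1, 5, 2, 3, 2, 0, 3, 5, 1, 2, 1, 5, 3, 1, 3, 4, 3, 2, 6, 1, 2, 3, 2, 1, 4, 3, 2, 1, 5, 6, 1, 0, 1],
  [1, 3, 4, 3, 2, 3, 2, 4, 5, 1, 0, 2, 3, 2, 1, 5, 2, 3, 4, 3, 2, 3, 0, 1, 2, 1, 5, 1, 0, 1, 0, 2, 3, 2, 1, 0, 5, 4, 1, 2, 3, 2, 0, 1, 5, 4, 0, 1, 0, 2, 1, 0, 1, 2, 3, 2, 4, 3, 5, 2, 3, 4, 1, 0, 1, 2, 3, 2, 1, 3, 5, 1, 0, 1, 0, 2, 0, 4, 3, 2, 1, 3, 6, 1, 0, 1, 2, 3, 2, 1, 4, 3, 2, 1, 0],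
  [3, 2, 4, 3, 5, 1, 0, 1, 2, 3, 2, 1, 0, 1, 5, 3, 4, 3, 2, 3, 2, 1, 4, 3, 2, 1, 0, 1, 2, 3, 4, 2, 3, 1, 2, 1, 0, 1, 3, 4, 5, 1, 0, 2, 3, 2, 1, 4, 5, 4, 3, 2, 3, 4, 5, 1, 0, 1, 6, 1, 2, 3, 2, 1, 4, 3, 2, 5, 1, 0, 2, 6],
  [0, 1, 0, 1, 2, 3, 2, 4, 5, 1, 0, 1, 5, 0, 1, 2, 3, 2, 1, 5, 4, 1, 2, 3, 5, 1, 0, 1, 2, 1, 0, 1, 3, 2, 5, 0, 2, 1, 3, 2, 1, 3, 5, 2, 1, 0, 1, 4, 3, 2, 5, 1, 2, 6, 1, 0, 2, 3, 2, 1, 4, 3, 5],
  [4, 3, 2, 1, 5, 1, 2, 3, 2, 1, 3, 4, 3, 2, 5, 3, 2, 1, 0, 1, 2, 3, 4, 3, 2, 3, 1, 2, 1, 3, 2, 3, 5, 1, 2, 1, 5, 3, 4, 3, 2, 1, 3, 4, 5, 6, 1, 2, 3, 2, 1, 4, 3, 2, 5, 1, 0, 2, 6, 1],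
  [1, 3, 4, 3, 2, 3, 2, 4, 5, 1, 0, 2, 3, 2, 1, 5, 2, 3, 4, 3, 2, 3, 0, 2, 1, 0, 1, 3, 2, 3, 2, 1, 0, 4, 3, 5, 1, 2, 3, 2, 1, 5, 0, 1, 2, 3, 4, 2, 3, 0, 2, 3, 5, 1, 0, 2, 1, 0, 3, 4, 2, 3, 1, 2, 0, 1, 5, 4, 2, 0, 3, 2, 4, 5, 1, 2, 3, 2, 1, 5, 4, 1, 0, 3, 4, 5, 1, 2, 6, 1, 0, 2, 1, 3, 2, 1, 4, 3, 2, 5, 6, 1],
  [1, 2, 3, 2, 1, 5, 1, 0, 1, 2, 1, 3, 2, 5, 4, 3, 2, 1, 0, 1, 5, 4, 3, 1, 3, 5, 1, 0, 2, 1, 0, 3, 4, 2, 3, 1, 2, 0, 1, 5, 4, 2, 0, 3, 2, 1, 0, 3, 5, 1, 0, 1, 5, 0, 1, 4, 3, 6, 1, 2, 3, 2, 4, 5],
  [1, 2, 3, 2, 1, 5, 1, 0, 1, 2, 1, 3, 2, 5, 4, 3, 2, 1, 0, 1, 5, 4, 3, 1, 5, 1, 0, 2, 3, 2, 4, 3, 2, 1, 5, 1, 2, 0, 1, 3, 2, 5, 1, 2, 3, 2, 1, 4, 5, 3, 2, 1, 0, 1, 5, 1, 0, 5, 1, 6, 1, 2, 3, 2, 6, 1, 0, 2, 3, 2, 1, 4, 3, 2, 1, 3, 5],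
  [1, 3, 4, 3, 2, 3, 2, 4, 5, 1, 0, 2, 3, 2, 1, 5, 2, 3, 4, 3, 2, 3, 0, 1, 2, 1, 5, 1, 0, 1, 0, 2, 3, 2, 1, 0, 5, 4, 1, 2, 3, 2, 0, 1, 5, 4, 0, 1, 0, 2, 1, 0, 1, 0, 2, 3, 2, 1, 4, 5, 1, 0, 1, 2, 3, 2, 1, 5, 4, 1, 0, 2, 1, 3, 2, 3, 5, 1, 2, 1, 5, 4, 3, 2, 1, 0, 3, 2, 1, 6, 1, 0, 2, 1, 3, 2, 1, 0, 4, 3, 2, 5],
  [0, 1, 0, 1, 2, 3, 2, 4, 5, 1, 0, 1, 5, 0, 1, 2, 3, 2, 1, 5, 4, 5, 1, 2, 3, 2, 1, 3, 2, 4, 3, 2, 3, 4, 2, 3, 1, 2, 3, 2, 1, 5, 1, 0, 2, 1, 0, 1, 0, 3, 2, 5, 1, 2, 3, 2, 1, 3, 0, 4, 3, 2, 5, 1, 2, 6, 1, 0, 2, 1, 3, 2, 4, 3, 2, 1, 5, 1, 2],
  [1, 3, 4, 3, 2, 3, 2, 4, 5, 1, 0, 2, 3, 2, 1, 5, 2, 3, 4, 3, 2, 3, 0, 1, 0, 1, 2, 3, 2, 1, 3, 4, 3, 2, 1, 3, 2, 1, 5, 3, 4, 2, 3, 1, 2, 3, 2, 1, 5, 4, 2, 0, 2, 4, 5, 1, 2, 3, 2, 1, 0, 5, 4, 1, 2, 3, 2, 1, 0, 1, 3, 2, 3, 2, 1, 5, 1, 0, 1, 0, 3, 4, 3, 2, 3, 4, 5, 1, 6, 1, 2, 3, 2, 1, 0, 4, 3, 2, 3, 4, 5, 1, 2],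
  [2, 1, 5, 1, 2, 3, 2, 1, 4, 3, 2, 1, 0, 1, 3, 4, 2, 3, 2, 1, 0, 1, 5, 3, 2, 3, 1, 2, 5, 1, 2, 3, 2, 1, 3, 2, 4, 3, 2, 3, 4, 2, 3, 1, 2, 3, 2, 1, 5, 2, 3, 5, 1, 0, 2, 1, 0, 5, 2, 1, 5, 3, 0, 4, 6, 1, 2, 3, 2, 1, 4, 3, 2, 1, 3, 4, 5],
  [1, 0, 3, 2, 3, 4, 3, 2, 3, 5, 1, 2, 3, 2, 1, 5, 3, 4, 2, 3, 2, 3, 4, 3, 2, 1, 3, 5, 1, 2, 3, 2, 1, 0, 4, 5, 1, 2, 3, 2, 1, 5, 3, 0, 1, 2, 3, 2, 0, 2, 1, 0, 1, 2, 3, 2, 4, 3, 5, 2, 3, 4, 1, 0, 1, 2, 1, 2, 3, 2, 1, 0, 1, 2, 3, 0, 1, 0, 3, 4, 3, 2, 5, 6, 1, 0, 2, 1, 5, 6, 1, 0, 2, 3, 2, 1, 4, 3, 2, 1, 3, 4, 6]]

/-- The words of the conjugating elements. -/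
def twoSuzHs : List (List ℕ) := [
  [1, 3, 4, 3, 2, 3, 2, 4, 5, 1, 0, 2, 3, 2, 1, 5, 2, 3, 4, 3, 2, 3, 0, 1, 5, 1, 2, 3, 2, 1, 3, 2, 4, 3, 2, 3, 4, 2, 3, 1, 2, 3, 2, 1, 5, 1, 0, 1, 3, 2, 1, 0, 5, 1, 0, 2, 3, 2, 0, 3, 4, 3, 2, 3, 5, 6, 1, 0, 2, 1, 3, 2, 1, 4, 3, 2, 1, 3],
  [0, 1, 0, 1, 0, 3, 2, 3, 4, 5, 1, 2, 3, 1, 0, 1, 2, 3, 4, 3, 0, 1, 2, 3, 0, 1, 4, 3, 2, 1, 0, 3, 2, 5, 1, 2, 3, 0, 1, 0, 1, 2, 3, 4, 0, 2, 1, 0, 1, 0, 3, 2, 5, 1, 2, 3, 2, 1, 3, 4, 3, 2, 5, 1, 0, 1, 2, 5, 6, 1, 0, 2, 1, 3, 4, 6, 1, 2, 3, 2, 1, 0, 4, 3, 2, 3, 4, 5, 1, 0],
  [1, 3, 2, 3, 4, 3, 2, 1, 0, 1, 3, 2, 1, 6, 1, 0, 2, 1, 3, 2, 3, 4, 3, 2, 1, 3],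
  [1, 0, 3, 2, 3, 4, 3, 2, 3, 5, 1, 2, 3, 2, 1, 5, 3, 4, 2, 3, 2, 3, 4, 3, 1, 3, 2, 4, 3, 5, 1, 0, 1, 2, 3, 2, 1, 0, 1, 5, 3, 4, 3, 2, 3, 0, 4, 5, 1, 2, 3, 2, 1, 0, 3, 5, 2, 1, 0, 1, 2, 3, 4, 2, 0, 1, 2, 3, 2, 1, 0, 1, 2, 3, 0, 4, 3, 2, 1, 6, 1, 0, 1, 2, 3, 2, 1, 4],
  [1, 3, 4, 3, 2, 3, 2, 4, 5, 1, 0, 2, 3, 2, 1, 5, 2, 3, 4, 3, 2, 3, 1, 4, 3, 2, 1, 0, 3, 2, 5, 1, 2, 0, 1, 5, 3, 4, 2, 0, 3, 2, 1, 5, 1, 2, 3, 2, 1, 3, 0, 4, 3, 2, 6, 1, 2, 5, 6, 1, 2, 3, 2, 4, 3, 2, 1, 0, 5, 1, 0, 1],
  [0, 2, 1, 3, 4, 5, 1, 0, 1, 2, 1, 3, 2, 5, 4, 3, 2, 1, 0, 1, 5, 1, 2, 3, 2, 0, 1, 2, 3, 2, 3, 4, 5, 1, 0, 2, 3, 2, 1, 5, 4, 2, 3, 2, 1, 0, 2, 1, 3, 2, 1, 0, 1, 2, 0, 1, 3, 4, 3, 2, 5, 1, 0, 1, 2, 6, 1, 0, 2, 1, 5]]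

/-- Orbits giving the order. -/
def twoSuzOrb : List (ℕ × List (List ℕ)) := [
  (873, [[], [1]]),
  (453, [[], [3], [6], [0]]),
  (45, [[], [9, 11], [4, 5, 6, 11], [4, 5, 6, 9], [9], [2, 4], [4, 6, 11], [5, 9, 11], [5], [5, 9], [2, 4, 11], [11], [5, 11], [4, 6], [0, 3, 5, 6], [4, 5, 6]]),
  (177, [[], [0, 2, 3, 5], [0, 3, 4, 11], [7, 9]]),
  (57, [[], [12], [8, 11], [8, 10]]),
  (264, [[2, 6, 11], []]),
  (0, [[], [10, 11, 12]])]

end CfsgLib.TailsData
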