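import Cfsg.Agent.Lib.Tails.SuzBase
import Cfsg.Agent.Lib.Tails.TwoSuzData

/-!
# The relations at two
-/

set_option autoImplicit false
set_option maxRecDepth 100000

namespace CfsgLib.Schur.Tails.SuzM

open CfsgLib.TailsData

theorem two_rels : Words.relsT CfsgLib.Suz.tab base twoSuzGens twoSuzCert twoSuzHs = true := by
  decide +kernel

theorem two_orb : Words.orbB CfsgLib.Suz.tab twoSuzGens [] twoSuzOrb = true := by
  decide +kernel

end CfsgLib.Schur.Tails.SuzM
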