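import Cfsg.Agent.Lib.Tails.SuzCertTwo
import Cfsg.Agent.Lib.Tails.SuzCertOdd
import Cfsg.Agent.Lib.Tails.SuzRelsTwo
import Cfsg.Agent.Lib.Tails.SuzRelsOdd

/-!
# The checks of the certificates for Suz
-/

set_option autoImplicit false
set_option maxRecDepth 100000

namespace CfsgLib.Schur.Tails.SuzM

open CfsgLib.TailsData

theorem size_facts :
    (twoSuzCert.p = 2 ∧ twoSuzCert.q = 4 ∧ twoSuzCert.n = 13 ∧ (twoSuzOrb.map fun l => l.2.length).prod = 8192) ∧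
    (threeSuzCert.p = 3 ∧ threeSuzCert.q = 9 ∧ threeSuzCert.n = 7 ∧ (threeSuzOrb.map fun l => l.2.length).prod = 2187) ∧
    (fiveSuzCert.p = 5 ∧ fiveSuzCert.q = 5 ∧ fiveSuzCert.tau = [] ∧ fiveSuzCert.n = 2 ∧ (fiveSuzOrb.map fun l => l.2.length).prod = 25) := by
  refine ⟨⟨?_, ?_, ?_, ?_⟩, ⟨?_, ?_, ?_, ?_⟩, ?_, ?_, ?_, ?_, ?_⟩ <;> decide +kernel


end CfsgLib.Schur.Tails.SuzM
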