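import Cfsg.Agent.Lib.Tails.SuzCoverChecks
import Cfsg.Agent.Lib.Suz.Perm
import Cfsg.Prelude.Def_KGroupFacts

/-!
# The six-fold cover of Suz by matrices of degree twelve over seven elements
-/

set_option autoImplicit false
set_option maxRecDepth 100000

namespace CfsgLib.Schur.Tails.SuzM

open Matrix CfsgLib.PresCert CfsgLib.TailsData
open scoped commutatorElement

theorem toM_scalM_one : toM (scalM 1) = (1 : Matrix (Fin 12) (Fin 12) (ZMod 7)) := by
  rw [toM_scalM (by norm_num), Nat.cast_one, map_one]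

theorem first_not_scalar : toM (suzCoverGens.getD 0 []) ∉
    Set.range (Matrix.scalar (Fin 12) : ZMod 7 → Matrix (Fin 12) (Fin 12) (ZMod 7)) := by
  rintro ⟨a, ha⟩
  have key : ∀ a : ZMod 7, ∃ i j : Fin 12,
      (if i = j then a else 0) ≠ ((entry (suzCoverGens.getD 0 []) i.val j.val : ℕ) : ZMod 7) := by
    decide +kernel
  obtain ⟨i, j, hij⟩ := key a
  refine hij ?_
  have h := congrFun (congrFun ha i) j
  rw [Matrix.scalar_apply, Matrix.diagonal_apply] at h
  exact h

attribute [local irreducible] suzCoverGens suzCoverInvs suzCoverRels suzCoverWits scalM chainB prodB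

/-- The ambient group. -/
abbrev G7 : Type := (Matrix (Fin 12) (Fin 12) (ZMod 7))ˣ

/-- The lifts of the generators as units. -/
noncomputable def unitGen (g : ℕ) : G7 :=
  if h : g < 7 then
    ⟨toM (suzCoverGens.getD g []), toM (suzCoverInvs.getD g []), by
      have := (List.all_eq_true.1 gens_checks.2 g (List.mem_range.2 h))
      rw [Bool.and_eq_true] at this
      rw [toM_prod this.1, toM_scalM_one], by
      have := (List.all_eq_true.1 gens_checks.2 g (List.mem_range.2 h))
      rw [Bool.and_eq_true] at this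
      rw [toM_prod this.2, toM_scalM_one]⟩
  else 1

theorem unitGen_val : ∀ g, g < suzCoverGens.length →
    (unitGen g : Matrix (Fin 12) (Fin 12) (ZMod 7)) = toM (suzCoverGens.getD g []) := by
  intro g hg
  rw [gens_checks.1] at hg
  rw [unitGen, dif_pos hg]

/-- The scalars. -/
noncomputable def scalU : (ZMod 7)ˣ →* G7 :=
  Units.map (Matrix.scalar (Fin 12) : ZMod 7 →+* Matrix (Fin 12) (Fin 12) (ZMod 7)).toMonoidHom

theorem scalU_injective : Function.Injective scalU := fun a b h => by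
  have := congrArg (fun x : G7 => (x : Matrix (Fin 12) (Fin 12) (ZMod 7)) 0 0) h
  exact Units.ext (by simpa [scalU, Matrix.scalar_apply] using this)

theorem scalU_comm (c : (ZMod 7)ˣ) (x : G7) : x * scalU c = scalU c * x :=
  Units.ext (Matrix.scalar_commute (c : ZMod 7) (fun r => Commute.all _ r) x.val).symm

/-- The cover. -/
def Gam : Subgroup G7 := Subgroup.closure (unitGen '' {g | g < 7})

theorem unitGen_mem (g : ℕ) : unitGen g ∈ Gam := by
  by_cases h : g < 7
  · exact Subgroup.subset_closure ⟨g, h, rfl⟩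
  · rw [unitGen, dif_neg h]
    exact one_mem _

theorem act_mem : ∀ w : List ℕ, act unitGen w ∈ Gam
  | [] => by rw [act_nil]; exact one_mem _
  | g :: w => by rw [act_cons]; exact mul_mem (act_mem w) (unitGen_mem g)

/-- The scalars in the cover. -/
noncomputable def Zs : Subgroup ↥Gam := (scalU.range).subgroupOf Gam

theorem Zs_le_center : Zs ≤ Subgroup.center ↥Gam := by
  rintro x ⟨c, hc⟩
  refine Subgroup.mem_center_iff.2 fun y => Subtype.ext ?_
  change (y : G7) * x = x * y
  rw [show (x : G7) = scalU c from hc.symm]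
  exact scalU_comm c y

instance : Zs.Normal := ⟨fun x hx g => by
  rw [Subgroup.mem_center_iff.1 (Zs_le_center hx) g, mul_inv_cancel_right]
  exact hx⟩

/-- The generators by number in the quotient. -/
noncomputable def quotGen (g : ℕ) : ↥Gam ⧸ Zs := QuotientGroup.mk' Zs ⟨unitGen g, unitGen_mem g⟩

theorem act_quot : ∀ w : List ℕ,
    act quotGen w = QuotientGroup.mk' Zs ⟨act unitGen w, act_mem w⟩
  | [] => by
    rw [act_nil]
    exact (map_one (QuotientGroup.mk' Zs)).symm
  | g :: w => by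
    rw [act_cons, act_quot w, quotGen, ← map_mul]
    rfl

theorem quot_rel {w : List ℕ} (hw : w ∈ CfsgLib.Suz.relData) : act quotGen w = 1 := by
  rw [← rel_checks.2, List.mem_map] at hw
  obtain ⟨e, he, rfl⟩ := hw
  have h := List.all_eq_true.1 rel_checks.1 e he
  simp only [Bool.and_eq_true, Nat.blt_eq, beq_iff_eq] at h
  obtain ⟨⟨⟨hc, h7⟩, h0⟩, hs⟩ := h
  rw [act_quot]
  refine (QuotientGroup.eq_one_iff _).2 ?_
  have hne : ((e.2.1 : ℕ) : ZMod 7) ≠ 0 := by
    rw [Ne, ZMod.natCast_eq_zero_iff]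
    exact fun h => by have := Nat.le_of_dvd h0 h; omega
  have : Fact (Nat.Prime 7) := ⟨by norm_num⟩
  refine ⟨Units.mk0 _ hne, Units.ext ?_⟩
  show Matrix.scalar (Fin 12) ((e.2.1 : ℕ) : ZMod 7) = _
  rw [← toM_scalM h7, ← hs, ← chainB_spec unitGen_val hc]
  rfl

theorem quot_sq {g : ℕ} (hg : g < 7) : quotGen g * quotGen g = 1 := by
  have hm : ∀ g < 7, [g, g] ∈ CfsgLib.Suz.relData := by decide +kernel
  have := quot_rel (hm g hg)
  rwa [act_cons, act_cons, act_nil, one_mul] at this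

theorem lift_eq_act' (L : List (Cfsg.Spor.Suz.Gen × Bool)) :
    FreeGroup.lift (fun x => quotGen (CfsgLib.Suz.genIx x)) (FreeGroup.mk L) =
      act quotGen (L.map fun p => CfsgLib.Suz.genIx p.1).reverse := by
  induction L with
  | nil =>
    rw [← FreeGroup.one_eq_mk, map_one]
    rfl
  | cons p L ih =>
    obtain ⟨x, b⟩ := p
    rw [show FreeGroup.mk ((x, b) :: L) = FreeGroup.mk [(x, b)] * FreeGroup.mk L from rfl, map_mul,
      ih, List.map_cons, List.reverse_cons, act_append, act_cons, act_nil, one_mul]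
    congr 1
    cases b
    · have e : FreeGroup.mk [(x, false)] = (FreeGroup.of x)⁻¹ := rfl
      rw [e, map_inv, FreeGroup.lift_apply_of]
      exact inv_eq_of_mul_eq_one_right (quot_sq (CfsgLib.Suz.suz_ok.ix_lt x))
    · exact FreeGroup.lift_apply_of

theorem pres_rels : ∀ r ∈ Cfsg.Spor.coxRelators Cfsg.Spor.Suz.edges ∪ {r | r ∈ Cfsg.Spor.Suz.extra},
    FreeGroup.lift (fun x => quotGen (CfsgLib.Suz.genIx x)) r = 1 := by
  intro r hr
  rw [← FreeGroup.mk_toWord (x := r), lift_eq_act']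
  have hw : ((r.toWord.map fun p => CfsgLib.Suz.genIx p.1)).reverse ∈ CfsgLib.Suz.suzData.rels :=
    List.mem_map.2 ⟨r, CoxData.relList_mem.2 hr, rfl⟩
  have h := CfsgLib.Suz.rels_covered
  simp only [CoxData.covered, List.all_eq_true, Bool.and_eq_true, Bool.or_eq_true, Nat.blt_eq,
    List.contains_iff_mem] at h
  obtain ⟨hlt, hm | hm⟩ := h _ hw
  · exact quot_rel hm
  · have h2 := quot_rel hm
    rw [act_reverse (ng := 7) (fun g hg => quot_sq hg) hlt, inv_eq_one] at h2
    exact h2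

/-- The map from the presented group. -/
noncomputable def toQuot : Cfsg.Spor.Suz →* ↥Gam ⧸ Zs := PresentedGroup.toGroup pres_rels

theorem toQuot_bijective : Function.Bijective toQuot := by
  have hgen : ∀ x, toQuot (PresentedGroup.of x) = quotGen (CfsgLib.Suz.genIx x) := fun x =>
    PresentedGroup.toGroup.of pres_rels
  refine ⟨?_, ?_⟩
  · have := CfsgLib.Suz.simple
    refine (MonoidHom.ker_eq_bot_iff _).1 ((IsSimpleGroup.eq_bot_or_eq_top_of_normal toQuot.ker
      inferInstance).resolve_right fun h => ?_)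
    have h1 : quotGen 0 = 1 := by
      rw [show (0 : ℕ) = CfsgLib.Suz.genIx .a from rfl, ← hgen]
      exact MonoidHom.mem_ker.1 (h ▸ Subgroup.mem_top _)
    obtain ⟨c, hc⟩ := (QuotientGroup.eq_one_iff _).1 h1
    refine first_not_scalar ⟨(c : ZMod 7), ?_⟩
    rw [← unitGen_val 0 (by rw [gens_checks.1]; norm_num)]
    exact congrArg Units.val hc
  · intro y
    obtain ⟨⟨x, hx⟩, rfl⟩ := QuotientGroup.mk'_surjective Zs y
    induction hx using Subgroup.closure_induction with
    | mem z hz =>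
      obtain ⟨g, hg, rfl⟩ := hz
      refine ⟨PresentedGroup.of ([Cfsg.Spor.Suz.Gen.a, .b, .c, .d, .e, .f, .g].getD g .a), ?_⟩
      rw [hgen, show CfsgLib.Suz.genIx ([Cfsg.Spor.Suz.Gen.a, .b, .c, .d, .e, .f, .g].getD g .a) = g
        from CfsgLib.Suz.suz_ok.ix_at g hg]
      rfl
    | one => exact ⟨1, (map_one _).trans (map_one (QuotientGroup.mk' Zs)).symm⟩
    | mul z w hz hw a b =>
      obtain ⟨p, hp⟩ := a
      obtain ⟨q, hq⟩ := b
      exact ⟨p * q, by rw [map_mul, hp, hq, ← map_mul]; rfl⟩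
    | inv z hz a =>
      obtain ⟨p, hp⟩ := a
      exact ⟨p⁻¹, by rw [map_inv, hp, ← map_inv]; rfl⟩

/-- The covering map. -/
noncomputable def sigma : ↥Gam →* Cfsg.Spor.Suz :=
  (MulEquiv.ofBijective toQuot toQuot_bijective).symm.toMonoidHom.comp (QuotientGroup.mk' Zs)

theorem sigma_surjective : Function.Surjective sigma :=
  (MulEquiv.ofBijective toQuot toQuot_bijective).symm.surjective.comp (QuotientGroup.mk'_surjective _)

theorem sigma_ker : sigma.ker = Zs := by
  ext x
  simp [sigma, MonoidHom.mem_ker, QuotientGroup.eq_one_iff]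

theorem wit_mem {z : ℕ} (hz : z ∈ suzCoverWits.map fun e => e.2.2.1) {c : (ZMod 7)ˣ}
    (hc : (c : ZMod 7) = z) : ∃ x : ↥Gam, x ∈ commutator ↥Gam ∧ (x : G7) = scalU c := by
  obtain ⟨e, he, rfl⟩ := List.mem_map.1 hz
  have h := List.all_eq_true.1 wit_checks.1 e he
  simp only [Bool.and_eq_true, Nat.blt_eq] at h
  obtain ⟨⟨⟨h1, h2⟩, h7⟩, h3⟩ := h
  let V : ↥Gam := ⟨act unitGen e.1, act_mem _⟩
  let U : ↥Gam := ⟨act unitGen e.2.1, act_mem _⟩
  refine ⟨⁅U, V⁆, Subgroup.commutator_mem_commutator (Subgroup.mem_top U) (Subgroup.mem_top V), ?_⟩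
  have hu : (U : G7) * V = act unitGen (e.1 ++ e.2.1) := (act_append unitGen _ _).symm
  have hv : (V : G7) * U = act unitGen (e.2.1 ++ e.1) := (act_append unitGen _ _).symm
  have he' : (U : G7) * V = scalU c * ((V : G7) * U) := by
    rw [hu, hv]
    refine Units.ext ?_
    rw [Units.val_mul, chainB_spec unitGen_val h1, chainB_spec unitGen_val h2, ← toM_prod h3,
      toM_scalM h7, ← hc]
    rfl
  show (U : G7) * V * (U : G7)⁻¹ * (V : G7)⁻¹ = _
  rw [he']
  group

theorem scalar_mem (c : (ZMod 7)ˣ) :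
    ∃ x : ↥Gam, x ∈ commutator ↥Gam ∧ (x : G7) = scalU c := by
  have key : ∀ c : (ZMod 7)ˣ, ∃ i < 6, ∃ j < 6,
      (4 : ZMod 7) ^ (i : ℕ) * (6 : ZMod 7) ^ (j : ℕ) = (c : ZMod 7) := by decide +kernel
  obtain ⟨i, -, j, -, hij⟩ := key c
  let a : (ZMod 7)ˣ := ⟨4, 2, rfl, rfl⟩
  let b : (ZMod 7)ˣ := ⟨6, 6, rfl, rfl⟩
  obtain ⟨x, hx, ex⟩ := wit_mem (z := 4) (c := a) (by rw [wit_checks.2]; simp) rfl
  obtain ⟨y, hy, ey⟩ := wit_mem (z := 6) (c := b) (by rw [wit_checks.2]; simp) rfl
  refine ⟨x ^ i * y ^ j, mul_mem (pow_mem hx i) (pow_mem hy j), ?_⟩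
  rw [Subgroup.coe_mul, SubmonoidClass.coe_pow, SubmonoidClass.coe_pow, ex, ey, ← map_pow, ← map_pow,
    ← map_mul]
  exact congrArg scalU (Units.ext hij)

theorem sigma_stem : Cfsg.IsStemExtension sigma := by
  refine ⟨sigma_surjective, sigma_ker.le.trans Zs_le_center, ?_⟩
  rw [sigma_ker]
  rintro x ⟨c, hc⟩
  obtain ⟨y, hy, e⟩ := scalar_mem c
  rwa [show x = y from Subtype.ext (hc.symm.trans e.symm)]

theorem card_sigma_ker : Nat.card sigma.ker = 6 ∧ IsCyclic sigma.ker := by
  have hle : scalU.range ≤ Gam := by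
    rintro _ ⟨c, rfl⟩
    obtain ⟨y, -, e⟩ := scalar_mem c
    exact e ▸ y.2
  have e : (ZMod 7)ˣ ≃* ↥sigma.ker :=
    (MonoidHom.ofInjective scalU_injective).trans
      ((Subgroup.subgroupOfEquivOfLe hle).symm.trans (MulEquiv.subgroupCongr sigma_ker.symm))
  have : Fact (Nat.Prime 7) := ⟨by norm_num⟩
  refine ⟨?_, isCyclic_of_surjective e e.surjective⟩
  rw [← Nat.card_congr e.toEquiv, Nat.card_eq_fintype_card, ZMod.card_units]

end CfsgLib.Schur.Tails.SuzM
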