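import Cfsg.Agent.Lib.Tails.SuzMat
import Cfsg.Agent.Lib.Tails.SuzCoverData
import Cfsg.Agent.Lib.Suz.PermCheck

/-!
# The checks of the lifted generators of Suz
-/

set_option autoImplicit false
set_option maxRecDepth 100000

namespace CfsgLib.Schur.Tails.SuzM

open CfsgLib.TailsData

theorem gens_checks : suzCoverGens.length = 7 ∧ ((List.range 7).all fun g =>
    prodB (suzCoverGens.getD g []) (suzCoverInvs.getD g []) (scalM 1) &&
      prodB (suzCoverInvs.getD g []) (suzCoverGens.getD g []) (scalM 1)) = true := by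
  constructor <;> decide +kernel

theorem rel_checks : suzCoverRels.all (fun e => chainB suzCoverGens e.1 e.2.2 &&
      Nat.blt e.2.1 7 && Nat.blt 0 e.2.1 && e.2.2.headD (scalM 1) == scalM e.2.1) = true ∧
    suzCoverRels.map (·.1) = CfsgLib.Suz.relData := by
  constructor <;> decide +kernel

theorem wit_checks : suzCoverWits.all (fun e => chainB suzCoverGens (e.1 ++ e.2.1) e.2.2.2.1 &&
    chainB suzCoverGens (e.2.1 ++ e.1) e.2.2.2.2 && Nat.blt e.2.2.1 7 &&
    prodB (scalM e.2.2.1) (e.2.2.2.2.headD (scalM 1)) (e.2.2.2.1.headD (scalM 1))) = true ∧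
    suzCoverWits.map (fun e => e.2.2.1) = [4, 6] := by
  constructor <;> decide +kernel

end CfsgLib.Schur.Tails.SuzM
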