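import Mathlib
import Cfsg.Agent.Lib.PresCert.Check

/-!
# Matrices of degree twelve over seven elements by coded rows

A row is a number whose octal digits are the entries; products of words are checked step by step
against listed intermediate matrices.
-/

set_option autoImplicit false

namespace CfsgLib.Schur.Tails.SuzM

open Matrix CfsgLib.PresCert

/-- An entry. -/
def entry (A : List ℕ) (i j : ℕ) : ℕ := (A.getD i 0 >>> (3 * j)) % 8

/-- An entry of a product. -/
def dot (A B : List ℕ) (i j : ℕ) : ℕ :=
  ((List.range 12).map fun k => entry A i k * entry B k j).sum % 7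

/-- The product is as given. -/
def prodB (A B C : List ℕ) : Bool :=
  (List.range 12).all fun i => (List.range 12).all fun j => Nat.beq (dot A B i j) (entry C i j % 7)

/-- The matrix of a code. -/
def toM (A : List ℕ) : Matrix (Fin 12) (Fin 12) (ZMod 7) :=
  Matrix.of fun i j => ((entry A i.val j.val : ℕ) : ZMod 7)

theorem toM_prod {A B C : List ℕ} (h : prodB A B C = true) : toM A * toM B = toM C := by
  simp only [prodB, List.all_eq_true, List.mem_range, Nat.beq_eq] at h
  ext i j
  rw [Matrix.mul_apply]
  show ∑ k : Fin 12, ((entry A i.val k.val : ℕ) : ZMod 7) * ((entry B k.val j.val : ℕ) : ZMod 7) =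
    ((entry C i.val j.val : ℕ) : ZMod 7)
  rw [← ZMod.natCast_mod (entry C i.val j.val), ← h i.val i.isLt j.val j.isLt, dot, ZMod.natCast_mod,
    Fin.sum_univ_eq_sum_range fun k => ((entry A i.val k : ℕ) : ZMod 7) * ((entry B k j.val : ℕ) : ZMod 7)]
  rw [Nat.cast_list_sum, List.map_map]
  simp only [Finset.sum, Finset.range_val, Multiset.range, Multiset.map_coe, Multiset.sum_coe,
    Function.comp_def, Nat.cast_mul]

/-- The code of a scalar. -/
def scalM (c : ℕ) : List ℕ := (List.range 12).map fun i => c * 8 ^ i

theorem toM_scalM {c : ℕ} (hc : c < 7) : toM (scalM c) = Matrix.scalar (Fin 12) ((c : ℕ) : ZMod 7) := by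
  have key : ∀ c < 7, ∀ i j : Fin 12, entry (scalM c) i.val j.val = if i = j then c else 0 := by
    decide +kernel
  ext i j
  rw [Matrix.scalar_apply, Matrix.diagonal_apply]
  show ((entry (scalM c) i.val j.val : ℕ) : ZMod 7) = _
  rw [key c hc i j]
  split <;> simp

/-- The listed matrices are the partial products of a word. -/
def chainB (L : List (List ℕ)) : List ℕ → List (List ℕ) → Bool
  | [], [] => true
  | g :: w, m :: ms =>
    Nat.blt g L.length && prodB (ms.headD (scalM 1)) (L.getD g []) m && chainB L w ms
  | _, _ => false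

theorem chainB_spec {L : List (List ℕ)} {U : ℕ → (Matrix (Fin 12) (Fin 12) (ZMod 7))ˣ}
    (hU : ∀ g, g < L.length → (U g : Matrix (Fin 12) (Fin 12) (ZMod 7)) = toM (L.getD g [])) :
    ∀ {w : List ℕ} {ms : List (List ℕ)}, chainB L w ms = true →
      ((act U w : (Matrix (Fin 12) (Fin 12) (ZMod 7))ˣ) : Matrix (Fin 12) (Fin 12) (ZMod 7)) =
        toM (ms.headD (scalM 1))
  | [], [], _ => by
    rw [act_nil, Units.val_one, List.headD_nil, toM_scalM (by norm_num), Nat.cast_one, map_one]
  | [], _ :: _, h => by simp [chainB] at h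
  | _ :: _, [], h => by simp [chainB] at h
  | g :: w, m :: ms, h => by
    simp only [chainB, Bool.and_eq_true, Nat.blt_eq] at h
    rw [act_cons, Units.val_mul, chainB_spec hU h.2, hU g h.1.1, toM_prod h.1.2, List.headD_cons]

end CfsgLib.Schur.Tails.SuzM
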