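import Cfsg.Agent.Lib.Tails.SuzCheck
import Cfsg.Agent.Lib.Tails.SuzCover
import Cfsg.Agent.Lib.Tails.Finish

/-!
# The multiplier of Suz
-/

set_option autoImplicit false
set_option maxRecDepth 100000

namespace CfsgLib.Schur.Tails.SuzM

open Cfsg CfsgLib.TailsData

attribute [local irreducible] twoSuzCert threeSuzCert fiveSuzCert twoSuzGens threeSuzGens fiveSuzGens
  twoSuzHs threeSuzHs fiveSuzHs twoSuzOrb threeSuzOrb fiveSuzOrb

theorem squarefree_rest : Squarefree (7 * 11 * 13) := by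
  have e : ∀ p : ℕ, p.Prime → Squarefree p := fun p hp => hp.squarefree
  rw [Nat.squarefree_mul (by norm_num), Nat.squarefree_mul (by norm_num)]
  exact ⟨⟨e _ (by norm_num), e _ (by norm_num)⟩, e _ (by norm_num)⟩

theorem bound (Γ : Type) [Group Γ] [Finite Γ] (σ : Γ →* Cfsg.Spor.Suz)
    (hσ : Cfsg.IsStemExtension σ) : IsCyclic σ.ker ∧ Nat.card σ.ker ∣ 6 := by
  haveI := CfsgLib.Suz.card_suz.1
  have hcard := CfsgLib.Suz.card_suz.2
  obtain ⟨⟨a2, b2, n2, o2⟩, ⟨a3, b3, n3, o3⟩, a5, b5, t5, n5, o5⟩ := size_facts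
  have R := CfsgLib.Suz.realised
  have hb : PresCert.fixSub CfsgLib.Suz.phi base = ⊥ := CfsgLib.Suz.base_trivial
  have h2 : ¬ 2 ^ 2 ∣ Nat.card σ.ker := by
    have : Fact (Nat.Prime 2) := ⟨Nat.prime_two⟩
    have : Fact twoSuzCert.p.Prime := ⟨a2 ▸ Nat.prime_two⟩
    exact (Words.realised R hb two_cert two_rels two_orb (by rw [a2, n2, o2]; norm_num)
      (by rw [a2, n2, hcard]; decide)).sq_not_dvd a2 b2 hσ
  have h3 : ¬ 3 ^ 2 ∣ Nat.card σ.ker := by
    have : Fact (Nat.Prime 3) := ⟨Nat.prime_three⟩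
    have : Fact threeSuzCert.p.Prime := ⟨a3 ▸ Nat.prime_three⟩
    exact (Words.realised R hb three_cert three_rels odd_orbs.1 (by rw [a3, n3, o3]; norm_num)
      (by rw [a3, n3, hcard]; decide)).sq_not_dvd a3 b3 hσ
  have hother : ∀ p : ℕ, p.Prime → p ≠ 2 → p ≠ 3 → ¬ p ∣ Nat.card σ.ker := by
    intro p hp hp2 hp3
    have := Fact.mk hp
    by_cases hp5 : p = 5
    · subst hp5
      have : Fact fiveSuzCert.p.Prime := ⟨a5 ▸ hp⟩
      exact (Words.realised R hb five_cert five_rels odd_orbs.2 (by rw [a5, n5, o5]; norm_num)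
        (by rw [a5, n5, hcard]; decide)).not_dvd a5 b5 t5 hσ
    · refine not_dvd_of_sq hσ fun hsq => ?_
      rw [hcard, show (448345497600 : ℕ) = (2 ^ 13 * 3 ^ 7 * 5 ^ 2) * (7 * 11 * 13) by norm_num] at hsq
      have hco : Nat.Coprime (p ^ 2) (2 ^ 13 * 3 ^ 7 * 5 ^ 2) :=
        Nat.Coprime.mul_right (Nat.Coprime.mul_right
          (Nat.Coprime.pow 2 13 ((Nat.coprime_primes hp Nat.prime_two).2 hp2))
          (Nat.Coprime.pow 2 7 ((Nat.coprime_primes hp Nat.prime_three).2 hp3)))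
          (Nat.Coprime.pow 2 2 ((Nat.coprime_primes hp (by norm_num)).2 hp5))
      exact hp.not_isUnit (squarefree_rest p (by rw [← pow_two]; exact hco.dvd_of_dvd_mul_left hsq))
  have hsqf : Squarefree (Nat.card σ.ker) := by
    rw [Nat.squarefree_iff_prime_squarefree]
    intro p hp hd
    rw [← pow_two] at hd
    by_cases hp2 : p = 2
    · exact h2 (hp2 ▸ hd)
    by_cases hp3 : p = 3
    · exact h3 (hp3 ▸ hd)
    exact hother p hp hp2 hp3 ((dvd_pow_self p two_ne_zero).trans hd)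
  refine ⟨?_, ?_⟩
  · open scoped IsMulCommutative in
    have : IsMulCommutative σ.ker :=
      ⟨⟨fun a b => Subtype.ext (Subgroup.mem_center_iff.1 (hσ.2.1 b.2) a.1)⟩⟩
    open scoped IsMulCommutative in
    refine IsCyclic.of_exponent_eq_card (Nat.dvd_antisymm Group.exponent_dvd_nat_card ?_)
    rw [Nat.dvd_iff_prime_pow_dvd_dvd]
    intro p k hp hk
    rcases Nat.eq_zero_or_pos k with rfl | hk0
    · simp
    have hk1 : k ≤ 1 := by
      by_contra hcon
      have h : p * p ∣ Nat.card σ.ker := by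
        rw [← pow_two]
        exact (pow_dvd_pow p (by omega)).trans hk
      exact hp.not_isUnit (hsqf p h)
    obtain rfl : k = 1 := by omega
    have := Fact.mk hp
    rw [pow_one] at hk ⊢
    obtain ⟨x, hx⟩ := exists_prime_orderOf_dvd_card' p hk
    exact hx ▸ Monoid.order_dvd_exponent x
  · rw [Nat.dvd_iff_prime_pow_dvd_dvd]
    intro p k hp hk
    rcases Nat.eq_zero_or_pos k with rfl | hk0
    · simp
    have hk1 : k ≤ 1 := by
      by_contra hcon
      have h : p * p ∣ Nat.card σ.ker := by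
        rw [← pow_two]
        exact (pow_dvd_pow p (by omega)).trans hk
      exact hp.not_isUnit (hsqf p h)
    obtain rfl : k = 1 := by omega
    rw [pow_one] at hk ⊢
    by_cases hp2 : p = 2
    · subst hp2; norm_num
    by_cases hp3 : p = 3
    · subst hp3; norm_num
    exact absurd hk (hother p hp hp2 hp3)

theorem multiplier_Suz : Cfsg.HasCyclicSchurMultiplier Cfsg.Spor.Suz 6 := by
  haveI := CfsgLib.Suz.card_suz.1
  obtain ⟨hc, hcyc⟩ := card_sigma_ker
  refine hasCyclic_of_bound ⟨↥Gam, inferInstance, inferInstance, sigma, sigma_stem, ?_⟩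
    fun Γ _ _ σ hσ => bound Γ σ hσ
  exact ⟨(zmodCyclicMulEquiv hcyc).symm.trans
    (AddEquiv.toMultiplicative (ZMod.ringEquivCongr hc).toAddEquiv)⟩

end CfsgLib.Schur.Tails.SuzM
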