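import Cfsg.Agent.Lib.Tails.SuzTwoEqsData

/-!
Part of the computation of the equations for Suz at two.
-/

set_option autoImplicit false
set_option maxRecDepth 100000

namespace CfsgLib.Schur.Tails.SuzM

open CfsgLib.TailsData

theorem twoEqs_part0 : (twoSuzCert.eqs.drop 0).take 8 = ((twoSuzEqs.map some).drop 0).take 8 := by
  have h : ((twoSuzCert.eqs.drop 0).take 8 == ((twoSuzEqs.map some).drop 0).take 8) = true := by
    decide +kernel
  exact eq_of_beq h

end CfsgLib.Schur.Tails.SuzM
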