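import Cfsg.Agent.Lib.Tails.CocycleCover

/-!
# Stem extensions from tables

A subgroup given by a multiplication table with a table for a cocycle, representatives of its
cosets separated by an invariant, and the coordinates of two commuting elements.
-/

set_option autoImplicit false

namespace CfsgLib.Schur.Tails.CocycleCover

universe u

variable {G : Type u} [Group G]

/-- A table with representatives and two commuting elements gives a stem extension. -/
theorem exists_stem_of_table [Finite G] {q m N : ℕ} [NeZero q] {el t : ℕ → G} {mt : ℕ → ℕ → ℕ}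
    {T : ℕ → ℕ → ZMod q} {K : Type*} (key : G → K) (hm : 0 < m)
    (hmul : ∀ a < m, ∀ b < m, mt a b < m ∧ el a * el b = el (mt a b))
    (h1 : el 0 = 1) (hinj : ∀ a < m, ∀ b < m, el a = el b → a = b)
    (hkey : ∀ g, ∀ a < m, key (g * el a) = key g)
    (hsep : ∀ i < N, ∀ j < N, key (t i) = key (t j) → i = j)
    (hcard : Nat.card G = N * m) (par gen : ℕ → ℕ)
    (hbase : ∀ a < m, ∀ b < m, T a b + T (mt a b) 0 = T a (mt b 0) + T b 0)
    (hpar : ∀ c, 0 < c → c < m → par c < c ∧ gen c < m ∧ mt (par c) (gen c) = c ∧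
      ∀ a < m, ∀ b < m, T a b + T (mt a b) (gen c) = T a (mt b (gen c)) + T b (gen c))
    {x y : G} (hxy : x * y = y * x) (jx kx jy ky : ℕ → ℕ)
    (hx : ∀ i < N, jx i < N ∧ kx i < m ∧ x * t i = t (jx i) * el (kx i))
    (hy : ∀ i < N, jy i < N ∧ ky i < m ∧ y * t i = t (jy i) * el (ky i))
    (hgen : IsUnit ((∑ i ∈ Finset.range N, T (kx (jy i)) (ky i)) -
      ∑ i ∈ Finset.range N, T (ky (jx i)) (kx i))) :
    ∃ (Γ : Type u) (_ : Group Γ) (_ : Finite Γ) (σ : Γ →* G),
      Cfsg.IsStemExtension σ ∧ Nonempty (σ.ker ≃* Multiplicative (ZMod q)) := by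
  classical
  let M : Submonoid G :=
    { carrier := {g | ∃ a < m, el a = g}
      one_mem' := ⟨0, hm, h1⟩
      mul_mem' := by
        rintro _ _ ⟨a, ha, rfl⟩ ⟨b, hb, rfl⟩
        exact ⟨mt a b, (hmul a ha b hb).1, (hmul a ha b hb).2.symm⟩ }
  let S : Subgroup G :=
    { M with
      inv_mem' := fun {g} hg => by
        have e : g⁻¹ = g ^ (orderOf g - 1) := by
          refine inv_eq_of_mul_eq_one_right ?_
          rw [← pow_succ', Nat.sub_add_cancel (orderOf_pos g), pow_orderOf_eq_one]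
        rw [e]
        exact M.pow_mem hg _ }
  have hmemS : ∀ a, a < m → el a ∈ S := fun a ha => ⟨a, ha, rfl⟩
  let idx : S → ℕ := fun s => Classical.choose s.2
  have hidx : ∀ s : S, idx s < m ∧ el (idx s) = s.1 := fun s => Classical.choose_spec s.2
  have hidx' : ∀ a (ha : a < m), idx ⟨el a, hmemS a ha⟩ = a := fun a ha =>
    hinj _ (hidx _).1 _ ha (hidx _).2
  have hidxm : ∀ r s : S, idx (r * s) = mt (idx r) (idx s) := fun r s =>
    hinj _ (hidx _).1 _ (hmul _ (hidx r).1 _ (hidx s).1).1 (by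
      rw [(hidx _).2, ← (hmul _ (hidx r).1 _ (hidx s).1).2, (hidx r).2, (hidx s).2, Subgroup.coe_mul])
  have hassoc : ∀ a < m, ∀ b < m, ∀ c < m, mt (mt a b) c = mt a (mt b c) := fun a ha b hb c hc => by
    have hab := hmul a ha b hb
    have hbc := hmul b hb c hc
    refine hinj _ (hmul _ hab.1 c hc).1 _ (hmul a ha _ hbc.1).1 ?_
    rw [← (hmul _ hab.1 c hc).2, ← hab.2, ← (hmul a ha _ hbc.1).2, ← hbc.2, mul_assoc]
  have hT := coc_of_generators (T := T) par gen (fun a ha b hb => (hmul a ha b hb).1) hassoc hbase hpar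
  let f : S → S → ZMod q := fun r s => T (idx r) (idx s)
  have hf : IsCoc f := fun a b c => by
    simp only [f, hidxm]
    exact hT _ (hidx c).1 _ (hidx a).1 _ (hidx b).1
  have hSm : Nat.card S = m := by
    refine (Nat.card_congr (Equiv.ofBijective (fun i : Fin m => (⟨el i, hmemS i i.2⟩ : S))
      ⟨fun i j h => Fin.ext (hinj _ i.2 _ j.2 (congrArg Subtype.val h)), ?_⟩)).symm.trans
      (Nat.card_fin m)
    rintro ⟨_, a, ha, rfl⟩
    exact ⟨⟨a, ha⟩, rfl⟩
  have hq : Nat.card (G ⧸ S) = N := by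
    have h := Subgroup.card_eq_card_quotient_mul_card_subgroup S
    rw [hcard, hSm] at h
    exact (Nat.eq_of_mul_eq_mul_right hm h).symm
  let t' : Fin N → G := fun i => t i
  have ht : Function.Injective fun i => (t' i : G ⧸ S) := fun i j h => by
    obtain ⟨a, ha, e⟩ := QuotientGroup.eq.1 h
    refine Fin.ext (hsep _ i.2 _ j.2 ?_)
    have e' : t' j = t' i * el a := by rw [e, mul_inv_cancel_left]
    show key (t' i) = key (t' j)
    rw [e', hkey _ a ha]
  have hb : Function.Bijective fun i => (t' i : G ⧸ S) :=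
    ht.bijective_of_nat_card_le (by rw [hq, Nat.card_fin])
  obtain ⟨act, co, hcoc, hspec⟩ := exists_transfer S t' hb hf
  refine exists_stem_of_cocycle hcoc hxy ?_
  have hev : ∀ (g : G) (j k : ℕ → ℕ),
      (∀ i < N, j i < N ∧ k i < m ∧ g * t i = t (j i) * el (k i)) →
      ∀ i : Fin N, (act g i).1 = j i ∧ idx (co g i) = k i := by
    intro g j k h i
    obtain ⟨hj, hk, e⟩ := h i i.2
    obtain ⟨e1, e2⟩ := act_co_eq ht (g := g) (i := i) (j := act g i) (k := ⟨j i, hj⟩)
      (a := co g i) (b := ⟨el (k i), hmemS _ hk⟩) (hspec g i) e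
    exact ⟨congrArg Fin.val e1, by rw [e2, hidx' _ hk]⟩
  have hx' := hev x jx kx hx
  have hy' := hev y jy ky hy
  have e1 : transfer act co f x y = ∑ i ∈ Finset.range N, T (kx (jy i)) (ky i) := by
    rw [Finset.sum_range]
    refine Finset.sum_congr rfl fun i _ => ?_
    show T (idx (co x (act y i))) (idx (co y i)) = _
    rw [(hx' _).2, (hy' i).2, (hy' i).1]
  have e2 : transfer act co f y x = ∑ i ∈ Finset.range N, T (ky (jx i)) (kx i) := by
    rw [Finset.sum_range]
    refine Finset.sum_congr rfl fun i _ => ?_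
    show T (idx (co y (act x i))) (idx (co x i)) = _
    rw [(hy' _).2, (hx' i).2, (hx' i).1]
  rw [e1, e2]
  exact hgen

end CfsgLib.Schur.Tails.CocycleCover
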