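import Cfsg.Agent.Lib.Chev.Twist.Tits
import Cfsg.Agent.Lib.Tails.Coded

/-!
# Matrices of degree 52 over two elements packed into numbers

The bit `52 * j + i` is the entry in row `i` and column `j`; a code of a unit carries its inverse above.
-/

set_option autoImplicit false
set_option maxRecDepth 100000

namespace CfsgLib.Schur.Tails.TitsMat

open Cfsg.Lie CfsgLib.Golay CfsgLib.Chev.TwF4 Bin Matrix

/-- Evaluate a number before use. -/
noncomputable def forceN {α : Type} (x : ℕ) (k : ℕ → α) : α :=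
  Nat.rec (k 0) (fun n _ => k (Nat.succ n)) x

theorem forceN_eq {α : Type} (x : ℕ) (k : ℕ → α) : forceN x k = k x := by
  cases x <;> rfl

/-- One bit at the start of each of the first blocks. -/
def gridU : ℕ → ℕ
  | 0 => 0
  | n + 1 => 1 + 2 ^ 52 * gridU n

/-- The column of a packed matrix. -/
def colK (A k : ℕ) : ℕ := (A >>> (52 * k)) % 2 ^ 52

/-- The partial products. -/
def mulK (U A B : ℕ) : ℕ → ℕ
  | 0 => 0
  | n + 1 => mulK U A B n ^^^ (((B >>> n) &&& U) * colK A n)

/-- The product of packed matrices. -/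
noncomputable def mulM (A B : ℕ) : ℕ :=
  forceN A fun A => forceN B fun B => forceN (gridU 52) fun U => mulK U A B 52

theorem mulM_eq (A B : ℕ) : mulM A B = mulK (gridU 52) A B 52 := by simp only [mulM, forceN_eq]

theorem and_gridU_succ (X N : ℕ) :
    X &&& gridU (N + 1) = 2 ^ 52 * ((X >>> 52) &&& gridU N) + X % 2 := by
  refine Nat.eq_of_testBit_eq fun m => ?_
  rw [Nat.testBit_and, gridU, add_comm 1, Nat.testBit_two_pow_mul_add _ (by norm_num : (1 : ℕ) < 2 ^ 52),
    Nat.testBit_two_pow_mul_add _ ((Nat.mod_lt X two_pos).trans (by norm_num))]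
  by_cases hm : m < 52
  · rw [if_pos hm, if_pos hm]
    rcases m with _ | m
    · simp [Nat.testBit_zero]
    · rcases Nat.mod_two_eq_zero_or_one X with h | h <;>
        simp [h, Nat.testBit_succ]
  · rw [if_neg hm, if_neg hm, Nat.testBit_and, Nat.testBit_shiftRight,
      show 52 + (m - 52) = m by omega]

theorem spread_bit {c : ℕ} (hc : c < 2 ^ 52) : ∀ (N X j i : ℕ), j < N → i < 52 →
    ((X &&& gridU N) * c).testBit (52 * j + i) = (X.testBit (52 * j) && c.testBit i)
  | 0, _, j, _, h, _ => absurd h (Nat.not_lt_zero j)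
  | N + 1, X, j, i, hj, hi => by
    have hlow : X % 2 * c < 2 ^ 52 := by
      rcases Nat.mod_two_eq_zero_or_one X with h | h <;> rw [h]
      · rw [Nat.zero_mul]; exact Nat.two_pow_pos _
      · rw [Nat.one_mul]; exact hc
    rw [and_gridU_succ, add_mul, mul_assoc, Nat.testBit_two_pow_mul_add _ hlow]
    rcases j with _ | j
    · rw [if_pos (by omega), Nat.mul_zero, Nat.zero_add, Nat.testBit_zero]
      rcases Nat.mod_two_eq_zero_or_one X with h | h <;> simp [h]
    · rw [if_neg (by omega), show 52 * (j + 1) + i - 52 = 52 * j + i by omega,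
        spread_bit hc N _ j i (by omega) hi, Nat.testBit_shiftRight,
        show 52 + 52 * j = 52 * (j + 1) by omega]

theorem gridU_mul : ∀ N, gridU N * (2 ^ 52 - 1) + 1 = 2 ^ (52 * N)
  | 0 => by simp [gridU]
  | N + 1 => by
    have ih := gridU_mul N
    obtain ⟨M, hM⟩ : ∃ M, 2 ^ 52 = M + 1 := ⟨_, (Nat.sub_add_cancel Nat.one_le_two_pow).symm⟩
    rw [Nat.mul_succ, pow_add, gridU, ← ih, hM, Nat.add_sub_cancel]
    ring

theorem colK_lt (A k : ℕ) : colK A k < 2 ^ 52 := Nat.mod_lt _ (by norm_num)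

theorem mulK_lt (A B : ℕ) : ∀ n, mulK (gridU 52) A B n < 2 ^ (52 * 52)
  | 0 => Nat.two_pow_pos _
  | n + 1 => by
    refine Nat.xor_lt_two_pow (mulK_lt A B n) ?_
    have h1 : (B >>> n) &&& gridU 52 ≤ gridU 52 := Nat.and_le_right
    have h2 : colK A n ≤ 2 ^ 52 - 1 := Nat.le_sub_one_of_lt (colK_lt A n)
    calc _ ≤ gridU 52 * (2 ^ 52 - 1) := Nat.mul_le_mul h1 h2
      _ < 2 ^ (52 * 52) := by rw [← gridU_mul 52]; exact Nat.lt_succ_self _

theorem mulM_lt (A B : ℕ) : mulM A B < 2 ^ (52 * 52) := mulM_eq A B ▸ mulK_lt A B 52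

theorem mulK_bit (A B : ℕ) {i j : ℕ} (hi : i < 52) (hj : j < 52) : ∀ n,
    bz ((mulK (gridU 52) A B n).testBit (52 * j + i)) =
      ∑ k ∈ Finset.range n, bz (A.testBit (52 * k + i)) * bz (B.testBit (52 * j + k))
  | 0 => by simp [mulK, bz]
  | n + 1 => by
    rw [mulK, Nat.testBit_xor, bz_xor, mulK_bit A B hi hj n, Finset.sum_range_succ,
      spread_bit (colK_lt A n) 52 _ j i hj hi, Nat.testBit_shiftRight, colK, Nat.testBit_mod_two_pow,
      Nat.testBit_shiftRight, Nat.add_comm n]
    congr 1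
    cases B.testBit (52 * j + n) <;> simp [bz, hi]

/-- The matrix of a code. -/
def mat (A : ℕ) : Matrix chevF4.Idx chevF4.Idx (ZMod 2) := fun x y =>
  bz (A.testBit (52 * (eB.symm y).val + (eB.symm x).val))

theorem mat_mulM (A B : ℕ) : mat (mulM A B) = mat A * mat B := by
  funext x y
  rw [Matrix.mul_apply, ← eB.sum_comp, mat, mulM_eq, mulK_bit A B (eB.symm x).isLt (eB.symm y).isLt,
    Finset.sum_range (fun k => bz (A.testBit (52 * k + (eB.symm x).val)) *
      bz (B.testBit (52 * (eB.symm y).val + k)))]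
  exact Finset.sum_congr rfl fun k _ => by simp [mat]

/-- The code of the identity matrix. -/
def oneM : ℕ := (List.range 52).foldr (fun k r => 2 ^ (53 * k) ||| r) 0

theorem oneM_lt : oneM < 2 ^ (52 * 52) := by decide +kernel

theorem oneM_bits : (List.finRange 52).all (fun i => (List.finRange 52).all fun j =>
    oneM.testBit (52 * j.val + i.val) == decide (i = j)) = true := by decide +kernel

theorem mat_oneM : mat oneM = 1 := by
  funext x y
  have h := List.all_eq_true.1 (List.all_eq_true.1 oneM_bits (eB.symm x) (List.mem_finRange _))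
    (eB.symm y) (List.mem_finRange _)
  rw [beq_iff_eq] at h
  rw [mat, h, Matrix.one_apply]
  by_cases e : x = y <;> simp [e, bz]

theorem mat_inj {A B : ℕ} (hA : A < 2 ^ (52 * 52)) (hB : B < 2 ^ (52 * 52)) (h : mat A = mat B) :
    A = B := by
  refine Nat.eq_of_testBit_eq fun m => ?_
  by_cases hm : m < 52 * 52
  · have e := congrFun (congrFun h (eB ⟨m % 52, Nat.mod_lt _ (by norm_num)⟩))
      (eB ⟨m / 52, by omega⟩)
    simp only [mat, Equiv.symm_apply_apply, Nat.div_add_mod] at e
    revert e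
    cases A.testBit m <;> cases B.testBit m <;> simp [bz]
  · have hp : 2 ^ (52 * 52) ≤ 2 ^ m := Nat.pow_le_pow_right two_pos (by omega)
    rw [Nat.testBit_lt_two_pow (hA.trans_le hp), Nat.testBit_lt_two_pow (hB.trans_le hp)]

/-- The matrix part. -/
def lo (a : ℕ) : ℕ := a % 2 ^ 2704

/-- The inverse part. -/
def hi (a : ℕ) : ℕ := a / 2 ^ 2704

/-- The code is that of a unit. -/
noncomputable def okU (a : ℕ) : Bool :=
  forceN a fun a => Nat.blt (hi a) (2 ^ 2704) && (mulM (lo a) (hi a) == oneM) &&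
    (mulM (hi a) (lo a) == oneM)

theorem okU_iff {a : ℕ} :
    okU a = true ↔ hi a < 2 ^ 2704 ∧ mulM (lo a) (hi a) = oneM ∧ mulM (hi a) (lo a) = oneM := by
  simp [okU, forceN_eq, and_assoc]

/-- The product of codes of units. -/
noncomputable def mulU (a b : ℕ) : ℕ :=
  forceN a fun a => forceN b fun b =>
    forceN (mulM (lo a) (lo b)) fun c => forceN (mulM (hi b) (hi a)) fun d => c + 2 ^ 2704 * d

theorem lo_mulU (a b : ℕ) : lo (mulU a b) = mulM (lo a) (lo b) := by
  simp only [mulU, forceN_eq, lo, Nat.add_mul_mod_self_left]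
  exact Nat.mod_eq_of_lt (mulM_lt _ _)

theorem hi_mulU (a b : ℕ) : hi (mulU a b) = mulM (hi b) (hi a) := by
  simp only [mulU, forceN_eq, hi, lo]
  rw [Nat.add_mul_div_left _ _ (Nat.two_pow_pos _), Nat.div_eq_of_lt (mulM_lt _ _), Nat.zero_add]

/-- The unit of a code. -/
noncomputable def valU (a : ℕ) : GL chevF4.Idx (ZMod 2) :=
  if h : okU a = true then
    ⟨mat (lo a), mat (hi a), by rw [← mat_mulM, (okU_iff.1 h).2.1, mat_oneM],
      by rw [← mat_mulM, (okU_iff.1 h).2.2, mat_oneM]⟩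
  else 1

theorem valU_val {a : ℕ} (h : okU a = true) :
    (valU a : Matrix chevF4.Idx chevF4.Idx (ZMod 2)) = mat (lo a) := by
  rw [valU, dif_pos h]

theorem valU_inv_val {a : ℕ} (h : okU a = true) :
    (((valU a)⁻¹ : GL chevF4.Idx (ZMod 2)) : Matrix chevF4.Idx chevF4.Idx (ZMod 2)) = mat (hi a) := by
  rw [valU, dif_pos h]; rfl

theorem mulU_ok {a b : ℕ} (ha : okU a = true) (hb : okU b = true) : okU (mulU a b) = true := by
  obtain ⟨-, a1, a2⟩ := okU_iff.1 ha
  obtain ⟨-, b1, b2⟩ := okU_iff.1 hb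
  have key : ∀ w x y z : ℕ, mulM w z = oneM → mulM x y = oneM →
      mulM (mulM w x) (mulM y z) = oneM := fun w x y z h1 h2 => by
    refine mat_inj (mulM_lt _ _) oneM_lt ?_
    have e1 : mat w * mat z = 1 := by rw [← mat_mulM, h1, mat_oneM]
    have e2 : mat x * mat y = 1 := by rw [← mat_mulM, h2, mat_oneM]
    simp only [mat_mulM, mat_oneM]
    rw [mul_assoc, ← mul_assoc (mat x), e2, one_mul, e1]
  refine okU_iff.2 ⟨?_, ?_, ?_⟩
  · rw [hi_mulU]; exact mulM_lt _ _
  · rw [lo_mulU, hi_mulU]; exact key _ _ _ _ a1 b1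
  · rw [lo_mulU, hi_mulU]; exact key _ _ _ _ b2 a2

/-- The code of the identity. -/
def oneU : ℕ := oneM + 2 ^ 2704 * oneM

theorem oneU_ok : okU oneU = true := by decide +kernel

theorem oneU_lo : lo oneU = oneM := by decide +kernel

/-- The coded units; no points are coded. -/
noncomputable def ops : Bsgs.Ops (GL chevF4.Idx (ZMod 2)) (GL chevF4.Idx (ZMod 2)) where
  val := valU
  ok := okU
  one := oneU
  mul := mulU
  pt _ := 1
  ptOk _ := false
  img _ _ := 0
  ok_one := oneU_ok
  val_one := Units.ext (by rw [valU_val oneU_ok, oneU_lo, mat_oneM]; rfl)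
  ok_mul _ _ := mulU_ok
  val_mul a b ha hb := Units.ext (by
    rw [Units.val_mul, valU_val (mulU_ok ha hb), valU_val ha, valU_val hb, lo_mulU, mat_mulM])
  pt_img _ _ _ h := absurd h (by simp)
  pt_inj _ _ h := absurd h (by simp)

theorem mul_one_inj : ∀ a b, ops.ok a = true → ops.ok b = true → ops.val a = ops.val b →
    ops.mul a ops.one = ops.mul b ops.one := by
  intro a b ha hb e
  have hlt : ∀ c, lo c < 2 ^ (52 * 52) := fun c => Nat.mod_lt _ (Nat.two_pow_pos _)
  have e1 : lo a = lo b := mat_inj (hlt a) (hlt b) (by rw [← valU_val ha, ← valU_val hb]; exact congrArg Units.val e)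
  have e2 : hi a = hi b := mat_inj (okU_iff.1 ha).1 (okU_iff.1 hb).1 (by
    rw [← valU_inv_val ha, ← valU_inv_val hb]; exact congrArg (fun g => (g⁻¹).val) e)
  have : a = b := by rw [← Nat.mod_add_div a (2 ^ 2704), ← Nat.mod_add_div b (2 ^ 2704)]; exact congrArg₂ (fun x y => x + 2 ^ 2704 * y) e1 e2
  rw [this]

/-- The columns of a code. -/
def colsOf (A : ℕ) : List ℕ := (List.range 52).map (colK A)

theorem enc_mat (A : ℕ) : Enc (mat A) (colsOf A) := by
  refine ⟨by simp [colsOf], fun i j => ?_⟩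
  rw [colsOf, List.getD_eq_getElem _ _ (by simp [j.isLt]), List.getElem_map, List.getElem_range, colK,
    Nat.testBit_mod_two_pow, Nat.testBit_shiftRight, mat, Equiv.symm_apply_apply, Equiv.symm_apply_apply]
  simp [i.isLt]

end CfsgLib.Schur.Tails.TitsMat
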