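import Cfsg.Agent.Lib.Tails.TitsData
import Cfsg.Agent.Lib.Tails.TitsMat
import Cfsg.Agent.Lib.Chev.Twist.TitsTr

/-!
# Checks of the certificates for the derived group of type F four twisted over two elements
-/

set_option autoImplicit false
set_option maxRecDepth 100000

namespace CfsgLib.Schur.Tails.TitsMat

open CfsgLib.Golay CfsgLib.TailsData CfsgLib.Chev.TwF4 Bin

/-- The codes of the six generators match their roots. -/
noncomputable def genB : Bool :=
  (List.finRange 6).all fun k => okU (titsGenCodes.getD k.val oneU) &&
    (colsOf (lo (titsGenCodes.getD k.val oneU)) == rootsC (Tits.genR k))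

/-- The code of a word. -/
noncomputable def wordU (w : List (Fin 6)) : ℕ := Coded.evO ops titsGenCodes (w.map Fin.val)

/-- The data at one prime; the program starts from words of even parity. -/
noncomputable def primeB (c : Cert) (gens hs base : List ℕ) (words : List (List (Fin 6)))
    (stp : List (ℕ × Bool × ℕ × ℕ)) : Bool :=
  Coded.relsB ops [ops.one] gens c hs &&
    Bsgs.slpCheck ops base stp && (words.map wordU == base) &&
    (words.all fun w => (w.countP fun k => decide (k = 2 ∨ k = 4)) % 2 == 0) &&
    ((gens ++ hs).all fun g => (base ++ stp.map (·.1)).contains g)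

/-- The images of a vector under the products of the generators, each taken at most once. -/
noncomputable def imgs : List ℕ → ℕ → List ℕ
  | [], v => [v]
  | g :: gs, v =>
    let r := imgs gs v
    r ++ Tits.Tr.fvals (r.map fun x => mulM (lo g) x)

/-- The images are different, so many elements are generated. -/
noncomputable def regularB (gens : List ℕ) (v : ℕ) (bits : List ℕ) (m : ℕ) : Bool :=
  forceN v fun v =>
    let E := imgs gens v
    Nat.blt v (2 ^ 52) && Nat.ble m E.length && Tits.Tr.dist bits E

theorem gen_codes : genB = true ∧ titsGenCodes.length = 6 := by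
  constructor <;> decide +kernel

theorem two_cert : twoTitsCert.checkB = true := by decide +kernel

theorem three_cert : threeTitsCert.checkB = true := by decide +kernel

theorem five_cert : fiveTitsCert.checkB = true := by decide +kernel

theorem two_data : primeB twoTitsCert twoTitsGens twoTitsHs twoTitsBase twoTitsWords
    twoTitsSlp = true := by decide +kernel

theorem three_data : primeB threeTitsCert threeTitsGens threeTitsHs threeTitsBase
    threeTitsWords threeTitsSlp = true := by decide +kernel

theorem five_data : primeB fiveTitsCert fiveTitsGens fiveTitsHs fiveTitsBase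
    fiveTitsWords fiveTitsSlp = true := by decide +kernel

theorem two_many : regularB twoTitsGens twoTitsVec twoTitsBits 2048 = true := by decide +kernel

theorem odd_many : Coded.manyB ops 3 threeTitsGens threeTitsIdx 27 = true ∧
    Coded.manyB ops 5 fiveTitsGens fiveTitsIdx 25 = true := by
  constructor <;> decide +kernel

theorem sizes : (twoTitsCert.p = 2 ∧ twoTitsCert.q = 2 ∧ twoTitsCert.tau = [] ∧ twoTitsCert.n = 11) ∧
    (threeTitsCert.p = 3 ∧ threeTitsCert.q = 3 ∧ threeTitsCert.tau = [] ∧ threeTitsCert.n = 3) ∧
    (fiveTitsCert.p = 5 ∧ fiveTitsCert.q = 5 ∧ fiveTitsCert.tau = [] ∧ fiveTitsCert.n = 2) := by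
  refine ⟨⟨?_, ?_, ?_, ?_⟩, ⟨?_, ?_, ?_, ?_⟩, ⟨?_, ?_, ?_, ?_⟩⟩ <;> decide +kernel

end CfsgLib.Schur.Tails.TitsMat
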