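import Cfsg.Agent.Lib.Tails.TitsChecks
import Cfsg.Agent.Lib.Tails.Finish
import Cfsg.Agent.Lib.Schur.Trivial
import Cfsg.Agent.Lib.Chev.Twist.TitsSimple

/-!
# The multiplier of the derived group of type F four twisted over two elements is trivial
-/

set_option autoImplicit false

namespace CfsgLib.Schur.Tails.TitsMat

open Cfsg.Lie CfsgLib.Golay CfsgLib.TailsData CfsgLib.Chev.TwF4 Bin Matrix

attribute [local irreducible] titsGenCodes twoTitsCert threeTitsCert fiveTitsCert twoTitsGens
  threeTitsGens fiveTitsGens twoTitsHs threeTitsHs fiveTitsHs twoTitsBase threeTitsBase fiveTitsBase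
  twoTitsVec twoTitsBits threeTitsIdx fiveTitsIdx twoTitsWords threeTitsWords fiveTitsWords twoTitsSlp
  threeTitsSlp fiveTitsSlp

/-- The derived group inside the matrices. -/
noncomputable abbrev D : Subgroup (GL chevF4.Idx (ZMod 2)) :=
  (commutator ↥Tits.G).map Tits.G.subtype

theorem gen_ok (k : Fin 6) : okU (titsGenCodes.getD k.val oneU) = true ∧
    valU (titsGenCodes.getD k.val oneU) = (Tits.gk k : GL chevF4.Idx (ZMod 2)) := by
  have h := List.all_eq_true.1 gen_codes.1 k (List.mem_finRange k)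
  simp only [Bool.and_eq_true, beq_iff_eq] at h
  refine ⟨h.1, Units.ext ?_⟩
  rw [valU_val h.1]
  show mat _ = (rootsU (Tits.genR k) : GL chevF4.Idx (ZMod 2)).val
  exact enc_inj (enc_mat _) (h.2 ▸ rootsU_enc _ (Tits.genR_ok k))

theorem genCodes_ok : ∀ g ∈ titsGenCodes, ops.ok g = true := by
  intro g hg
  obtain ⟨i, hi, rfl⟩ := List.getElem_of_mem hg
  have h := (gen_ok ⟨i, gen_codes.2 ▸ hi⟩).1
  rwa [List.getD_eq_getElem _ _ hi] at h

theorem wordU_spec {w : List (Fin 6)}
    (hw : (w.countP fun k => decide (k = 2 ∨ k = 4)) % 2 = 0) :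
    ops.ok (wordU w) = true ∧ ops.val (wordU w) ∈ D := by
  obtain ⟨h1, h2⟩ := Coded.evO_spec genCodes_ok (w.map Fin.val)
  refine ⟨h1, Tits.gw w, ?_, ?_⟩
  · obtain ⟨hq, hsq⟩ := Tits.q_word w
    obtain ⟨m, hm⟩ := Nat.dvd_of_mod_eq_zero hw
    rw [hm, pow_mul, pow_two, hsq, one_pow] at hq
    exact (QuotientGroup.eq_one_iff _).1 hq
  · rw [wordU, h2]
    simp only [evW, List.map_map, Tits.gw, map_list_prod]
    congr 1
    exact List.map_congr_left fun k _ => (gen_ok k).2.symm

theorem card_tits : Nat.card TitsGroup = 2 ^ 11 * 3 ^ 3 * 5 ^ 2 * 13 :=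
  Tits.card_commutator.trans (by norm_num)

theorem tits_finite : Finite TitsGroup :=
  Nat.finite_of_card_ne_zero (by rw [card_tits]; norm_num)

theorem le_card_of_regularB {gens bits : List ℕ} {v m : ℕ}
    (h : regularB gens v bits m = true) {K : Subgroup (GL chevF4.Idx (ZMod 2))}
    (hg : ∀ g ∈ gens, ops.ok g = true ∧ ops.val g ∈ K) : m ≤ Nat.card K := by
  simp only [regularB, forceN_eq, Bool.and_eq_true, Nat.ble_eq, Nat.blt_eq] at h
  obtain ⟨⟨hv, hlen⟩, hdist⟩ := h
  have hnd := Tits.Tr.dist_nodup _ _ hdist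
  have hv' : v < 2 ^ (52 * 52) := hv.trans_le (Nat.pow_le_pow_right two_pos (by norm_num))
  have spec : ∀ gs : List ℕ, (∀ g ∈ gs, ops.ok g = true ∧ ops.val g ∈ K) → ∀ x ∈ imgs gs v,
      x < 2 ^ (52 * 52) ∧ ∃ k ∈ K, mat x = (k : Matrix chevF4.Idx chevF4.Idx (ZMod 2)) * mat v := by
    intro gs
    induction gs with
    | nil =>
      intro _ x hx
      rw [imgs, List.mem_singleton] at hx
      subst hx
      exact ⟨hv', 1, one_mem K, by rw [Units.val_one, one_mul]⟩
    | cons g gs ih =>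
      intro hgs x hx
      have ih := ih fun y hy => hgs y (List.mem_cons_of_mem _ hy)
      simp only [imgs, Tits.Tr.fvals_eq, List.mem_append, List.mem_map] at hx
      rcases hx with hx | ⟨y, hy, rfl⟩
      · exact ih x hx
      · obtain ⟨-, k, hk, e⟩ := ih y hy
        obtain ⟨hok, hgK⟩ := hgs g List.mem_cons_self
        refine ⟨mulM_lt _ _, ops.val g * k, mul_mem hgK hk, ?_⟩
        rw [mat_mulM, e, Units.val_mul, ← mul_assoc,
          show (ops.val g : Matrix chevF4.Idx chevF4.Idx (ZMod 2)) = mat (lo g) from valU_val hok]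
  choose hlt k hk he using fun i : Fin (imgs gens v).length =>
    spec gens hg _ (List.getElem_mem i.isLt)
  refine hlen.trans ?_
  rw [← Nat.card_fin (imgs gens v).length]
  refine Nat.card_le_card_of_injective (fun i => (⟨k i, hk i⟩ : K)) fun i j e => ?_
  have e' : k i = k j := congrArg Subtype.val e
  exact Fin.ext (hnd.getElem_inj_iff.1 (mat_inj (hlt i) (hlt j) (by rw [he i, he j, e'])))

theorem realised {c : Cert} {gens hs base : List ℕ} {words : List (List (Fin 6))}
    {stp : List (ℕ × Bool × ℕ × ℕ)} (hc : c.checkB = true)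
    (h : primeB c gens hs base words stp = true)
    (hsize : ∀ K : Subgroup (GL chevF4.Idx (ZMod 2)),
      (∀ g ∈ gens, ops.ok g = true ∧ ops.val g ∈ K) → c.p ^ c.n ≤ Nat.card K)
    (hdiv : ¬ c.p ^ (c.n + 1) ∣ Nat.card TitsGroup) : c.Realised TitsGroup := by
  simp only [primeB, Bool.and_eq_true, List.all_eq_true, List.contains_iff_mem, beq_iff_eq] at h
  obtain ⟨⟨⟨⟨hr, hslp⟩, hwords⟩, hpar⟩, hall⟩ := h
  have hb : ∀ b ∈ base, ops.ok b = true ∧ ops.val b ∈ D := fun b hb => by
    rw [← hwords, List.mem_map] at hb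
    obtain ⟨w, hw, rfl⟩ := hb
    exact wordU_spec (hpar w hw)
  have hmem : ∀ g ∈ gens ++ hs, ops.ok g = true ∧ ops.val g ∈ D :=
    fun g hg => Bsgs.slp_sound ops _ hslp hb g (hall g hg)
  let e : ↥(commutator ↥Tits.G) ≃* ↥D :=
    Subgroup.equivMapOfInjective _ _ Tits.G.subtype_injective
  refine Coded.realised (O := ops) (H := D) e.symm.toMonoidHom hc
    (fun g hg => (hmem g (List.mem_append_left _ hg)).2)
    (fun g hg => (hmem g (List.mem_append_right _ hg)).2) (fun z hz => ?_) hr (fun g hg => ?_) hdiv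
  · rw [List.mem_singleton.1 hz]
    refine ⟨by rw [ops.val_one]; exact one_mem _, ?_⟩
    rw [show (⟨ops.val ops.one, _⟩ : ↥D) = 1 from Subtype.ext ops.val_one, map_one]
  · let f : TitsGroup →* GL chevF4.Idx (ZMod 2) := D.subtype.comp e.toMonoidHom
    have hf : Function.Injective f := D.subtype_injective.comp e.injective
    show c.p ^ c.n ≤ Nat.card (Subgroup.closure ((fun i => e.symm (g i)) '' {k | k < c.n}))
    rw [← Subgroup.card_map_of_injective hf]
    refine hsize _ fun x hx => ?_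
    obtain ⟨i, hi, rfl⟩ := List.getElem_of_mem hx
    refine ⟨(hmem _ (List.mem_append_left _ (List.getElem_mem hi))).1, e.symm (g i), ?_, ?_⟩
    · have hlen : gens.length = c.n := by
        simp only [Coded.relsB, Bool.and_eq_true, decide_eq_true_eq] at hr
        exact hr.1.1.1.2
      exact Subgroup.subset_closure ⟨i, show i < c.n by omega, rfl⟩
    · show ((e (e.symm (g i)) : ↥D) : GL chevF4.Idx (ZMod 2)) = _
      rw [MulEquiv.apply_symm_apply, hg i hi, List.getD_eq_getElem _ _ hi]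

theorem multiplier : Cfsg.HasCyclicSchurMultiplier TitsGroup 1 := by
  have := tits_finite
  refine CfsgLib.Schur.hasCyclicSchurMultiplier_one fun Γ _ _ σ hσ => ?_
  obtain ⟨⟨a2, b2, t2, n2⟩, ⟨a3, b3, t3, n3⟩, a5, b5, t5, n5⟩ := sizes
  rw [← MonoidHom.ker_eq_bot_iff, ← Subgroup.card_eq_one, Nat.eq_one_iff_not_exists_prime_dvd]
  intro p hp
  have := Fact.mk hp
  by_cases hsq : p ^ 2 ∣ Nat.card TitsGroup
  · have h235 : p = 2 ∨ p = 3 ∨ p = 5 := by
      by_contra hcon
      push Not at hcon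
      rw [card_tits] at hsq
      have cop : ∀ r k : ℕ, r.Prime → p ≠ r → Nat.Coprime (p ^ 2) (r ^ k) := fun r k hr hne =>
        Nat.Coprime.pow 2 k ((Nat.coprime_primes hp hr).2 hne)
      have hco : Nat.Coprime (p ^ 2) (2 ^ 11 * 3 ^ 3 * 5 ^ 2) :=
        ((cop 2 11 Nat.prime_two hcon.1).mul_right (cop 3 3 Nat.prime_three hcon.2.1)).mul_right
          (cop 5 2 Nat.prime_five hcon.2.2)
      have h13 : p ^ 2 ∣ 13 := hco.dvd_of_dvd_mul_left hsq
      exact hp.not_isUnit ((by norm_num : Nat.Prime 13).squarefree p (by rwa [← pow_two]))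
    rcases h235 with rfl | rfl | rfl
    · have : Fact twoTitsCert.p.Prime := ⟨a2 ▸ hp⟩
      exact (realised two_cert two_data (fun K hK => by
        rw [a2, n2]; exact le_card_of_regularB two_many hK) (by rw [a2, n2, card_tits]; decide)).not_dvd a2 b2 t2 hσ
    · have : Fact threeTitsCert.p.Prime := ⟨a3 ▸ hp⟩
      exact (realised three_cert three_data (fun K hK => by
        rw [a3, n3]; exact Coded.le_card_of_manyB mul_one_inj odd_many.1 hK) (by rw [a3, n3, card_tits]; decide)).not_dvd a3 b3 t3 hσ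
    · have : Fact fiveTitsCert.p.Prime := ⟨a5 ▸ hp⟩
      exact (realised five_cert five_data (fun K hK => by
        rw [a5, n5]; exact Coded.le_card_of_manyB mul_one_inj odd_many.2 hK) (by rw [a5, n5, card_tits]; decide)).not_dvd a5 b5 t5 hσ
  · exact not_dvd_of_sq hσ hsq

end CfsgLib.Schur.Tails.TitsMat
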