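import Cfsg.Agent.Lib.Golay.PackPerm
import Cfsg.Agent.Lib.Tails.G2FourLiftData

/-!
# 12 × 12 matrices over three elements in lanes of eight bits
-/

set_option autoImplicit false
set_option maxRecDepth 100000
set_option exponentiation.threshold 4000

namespace CfsgLib.Schur.Tails.Twelve

open CfsgLib.Golay CfsgLib.Golay.PackPerm CfsgLib.TailsData Matrix

attribute [local irreducible] laneThree laneFifteen laneOne laneFirst twelveOne twelveNeg

/-- One folding of the lanes, four being congruent to one. -/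
def foldL (X : ℕ) : ℕ := (X &&& laneThree) + ((X >>> 2) &&& laneFifteen)

/-- Replace the lanes equal to three by zero. -/
def fixL (X : ℕ) : ℕ := X ^^^ (3 * ((X &&& (X >>> 1)) &&& laneOne))

/-- The contribution of one middle index. -/
def termL (A B k : ℕ) : ℕ :=
  ((A >>> (8 * k)) &&& laneFirst) * ((B >>> (96 * k)) % 79228162514264337593543950336)

/-- The unreduced product. -/
def rawL (A B : ℕ) : ℕ :=
  termL A B 0 + termL A B 1 + termL A B 2 + termL A B 3 + termL A B 4 + termL A B 5 + termL A B 6 +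
    termL A B 7 + termL A B 8 + termL A B 9 + termL A B 10 + termL A B 11

/-- The product. -/
def mulL (A B : ℕ) : ℕ := fixL (foldL (foldL (foldL (rawL A B))))

/-- The entries are below three and nothing lies above. -/
def smallL (A : ℕ) : Bool := Nat.blt A (256 ^ 144) && (List.range 144).all fun i => Nat.blt (getP A i) 3

theorem getP_lt (A i : ℕ) : getP A i < 256 := Nat.mod_lt _ (by norm_num)

theorem pack_eq_sum : ∀ (n : ℕ) (f : ℕ → ℕ),
    pack ((List.range n).map f) = ∑ i ∈ Finset.range n, f i * 256 ^ i := by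
  intro n
  induction n with
  | zero => intro f; simp [pack]
  | succ n ih =>
    intro f
    rw [List.range_succ_eq_map, List.map_cons, List.map_map, pack, ih, Finset.sum_range_succ',
      pow_zero, mul_one, add_comm, Finset.mul_sum]
    refine congrArg₂ (· + ·) (Finset.sum_congr rfl fun i _ => ?_) rfl
    rw [pow_succ, Function.comp_apply, Nat.succ_eq_add_one]
    ring

theorem sum_getP (X : ℕ) : ∀ n, ∑ i ∈ Finset.range n, getP X i * 256 ^ i = X % 256 ^ n := by
  intro n
  induction n with
  | zero => simp [Nat.mod_one]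
  | succ n ih =>
    have h8 : (256 : ℕ) ^ n = 2 ^ (8 * n) := by rw [pow_mul]; rfl
    rw [Finset.sum_range_succ, ih, pow_succ, Nat.mod_mul, getP, Nat.shiftRight_eq_div_pow, h8]
    ring

theorem getP_sum {n : ℕ} {f : ℕ → ℕ} (h : ∀ i < n, f i < 256) {i : ℕ} (hi : i < n) :
    getP (∑ k ∈ Finset.range n, f k * 256 ^ k) i = f i := by
  rw [← pack_eq_sum, getP_pack (fun a ha => by
    obtain ⟨k, hk, rfl⟩ := List.mem_map.1 ha
    exact h k (List.mem_range.1 hk)) i, List.getD_eq_getElem _ _ (by simpa using hi)]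
  simp

theorem sum_lt {n : ℕ} {f : ℕ → ℕ} (h : ∀ i < n, f i < 256) :
    ∑ k ∈ Finset.range n, f k * 256 ^ k < 256 ^ n := by
  induction n with
  | zero => simp
  | succ n ih =>
    rw [Finset.sum_range_succ, pow_succ]
    have h1 := ih fun i hi => h i (by omega)
    have h2 := h n (by omega)
    calc _ < 256 ^ n + f n * 256 ^ n := Nat.add_lt_add_right h1 _
      _ = 256 ^ n * (f n + 1) := by ring
      _ ≤ _ := Nat.mul_le_mul_left _ (by omega)

theorem ext_lanes {A B : ℕ} (hA : A < 256 ^ 144) (hB : B < 256 ^ 144)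
    (h : ∀ i < 144, getP A i = getP B i) : A = B := by
  rw [← Nat.mod_eq_of_lt hA, ← Nat.mod_eq_of_lt hB, ← sum_getP, ← sum_getP]
  exact Finset.sum_congr rfl fun i hi => by rw [h i (Finset.mem_range.1 hi)]

theorem testBit_getP (X i j : ℕ) :
    (getP X i).testBit j = (decide (j < 8) && X.testBit (8 * i + j)) := by
  rw [getP, show (256 : ℕ) = 2 ^ 8 from rfl, Nat.testBit_mod_two_pow, Nat.testBit_shiftRight]

theorem getP_and (X Y i : ℕ) : getP (X &&& Y) i = getP X i &&& getP Y i := by
  refine Nat.eq_of_testBit_eq fun j => ?_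
  simp only [testBit_getP, Nat.testBit_and]
  cases decide (j < 8) <;> simp

theorem getP_xor (X Y i : ℕ) : getP (X ^^^ Y) i = getP X i ^^^ getP Y i := by
  refine Nat.eq_of_testBit_eq fun j => ?_
  simp only [testBit_getP, Nat.testBit_xor]
  cases decide (j < 8) <;> simp

theorem getP_shift_and (X Y i s : ℕ) {m : ℕ} (hY : getP Y i < 2 ^ m) (hm : m + s ≤ 8) :
    getP ((X >>> s) &&& Y) i = (getP X i >>> s) &&& getP Y i := by
  refine Nat.eq_of_testBit_eq fun j => ?_
  simp only [getP_and, Nat.testBit_and, Nat.testBit_shiftRight, testBit_getP]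
  by_cases hj : j < m
  · rw [show s + (8 * i + j) = 8 * i + (s + j) by omega]
    simp [show j < 8 by omega, show s + j < 8 by omega]
  · have h0 : (getP Y i).testBit j = false :=
      Nat.testBit_lt_two_pow (lt_of_lt_of_le hY (Nat.pow_le_pow_right (by norm_num) (by omega)))
    rw [testBit_getP] at h0
    simp [h0]

theorem lanes_spec : ∀ i < 144, getP laneThree i = 3 ∧ getP laneFifteen i = 15 ∧ getP laneOne i = 1 ∧
    getP laneFirst i = (if i % 12 = 0 then 255 else 0) := by
  have h : (List.range 144).all (fun i => getP laneThree i == 3 && getP laneFifteen i == 15 &&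
      getP laneOne i == 1 && getP laneFirst i == (if i % 12 = 0 then 255 else 0)) = true := by
    decide +kernel
  simp only [List.all_eq_true, List.mem_range, Bool.and_eq_true, beq_iff_eq] at h
  intro i hi
  obtain ⟨⟨⟨h1, h2⟩, h3⟩, h4⟩ := h i hi
  exact ⟨h1, h2, h3, h4⟩

theorem masks_lt : laneThree < 256 ^ 144 ∧ laneFifteen < 256 ^ 144 ∧ laneOne < 256 ^ 144 := by
  decide +kernel

theorem getP_add {A B : ℕ} (hA : A < 256 ^ 144) (hB : B < 256 ^ 144)
    (h : ∀ i < 144, getP A i + getP B i < 256) {i : ℕ} (hi : i < 144) :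
    getP (A + B) i = getP A i + getP B i ∧ A + B < 256 ^ 144 := by
  have e : A + B = ∑ k ∈ Finset.range 144, (getP A k + getP B k) * 256 ^ k := by
    conv_lhs => rw [← Nat.mod_eq_of_lt hA, ← Nat.mod_eq_of_lt hB, ← sum_getP, ← sum_getP]
    rw [← Finset.sum_add_distrib]
    exact Finset.sum_congr rfl fun k _ => by ring
  rw [e]
  exact ⟨getP_sum h hi, sum_lt h⟩

theorem getP_foldL {X : ℕ} (h : ∀ i < 144, getP X i < 64) :
    foldL X < 256 ^ 144 ∧ ∀ i < 144, getP (foldL X) i = (getP X i &&& 3) + ((getP X i >>> 2) &&& 15) := by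
  obtain ⟨m3, m15, -⟩ := masks_lt
  have hA : X &&& laneThree < 256 ^ 144 := Nat.and_le_right.trans_lt m3
  have hB : (X >>> 2) &&& laneFifteen < 256 ^ 144 := Nat.and_le_right.trans_lt m15
  have ev : ∀ i < 144, getP (X &&& laneThree) i = getP X i &&& 3 ∧
      getP ((X >>> 2) &&& laneFifteen) i = (getP X i >>> 2) &&& 15 := fun i hi => by
    obtain ⟨a, b, -⟩ := lanes_spec i hi
    exact ⟨by rw [getP_and, a], by rw [getP_shift_and _ _ _ _ (m := 4) (by rw [b]; norm_num) (by norm_num), b]⟩
  have hb : ∀ x < 64, (x &&& 3) + ((x >>> 2) &&& 15) < 256 := by decide +kernel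
  have hs : ∀ i < 144, getP (X &&& laneThree) i + getP ((X >>> 2) &&& laneFifteen) i < 256 := fun i hi => by
    rw [(ev i hi).1, (ev i hi).2]; exact hb _ (h i hi)
  refine ⟨?_, fun i hi => ?_⟩
  · exact (getP_add hA hB hs (i := 0) (by norm_num)).2
  · unfold foldL
    rw [(getP_add hA hB hs hi).1, (ev i hi).1, (ev i hi).2]

theorem getP_fixL {X : ℕ} (hX : X < 256 ^ 144) :
    fixL X < 256 ^ 144 ∧ ∀ i < 144, getP (fixL X) i =
      getP X i ^^^ 3 * (getP X i &&& (getP X i >>> 1) &&& 1) := by
  obtain ⟨-, -, m1⟩ := masks_lt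
  set Y := (X &&& (X >>> 1)) &&& laneOne with hY
  have hY2 : ∀ i < 144, getP Y i = getP X i &&& (getP X i >>> 1) &&& 1 := fun i hi => by
    obtain ⟨-, -, c, -⟩ := lanes_spec i hi
    rw [hY, Nat.and_assoc, getP_and, getP_shift_and _ _ _ _ (m := 1) (by rw [c]; norm_num) (by norm_num), c,
      Nat.and_assoc]
  have hY1 : Y < 256 ^ 144 := Nat.and_le_right.trans_lt m1
  have hle : ∀ i < 144, getP Y i ≤ 1 := fun i hi => by rw [hY2 i hi]; exact Nat.and_le_right
  have e : 3 * Y = ∑ k ∈ Finset.range 144, 3 * getP Y k * 256 ^ k := by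
    conv_lhs => rw [← Nat.mod_eq_of_lt hY1, ← sum_getP, Finset.mul_sum]
    exact Finset.sum_congr rfl fun k _ => (mul_assoc _ _ _).symm
  have h3 : ∀ i < 144, 3 * getP Y i < 256 := fun i hi => by have := hle i hi; omega
  have hlt : 3 * Y < 256 ^ 144 := e ▸ sum_lt h3
  have h2 : (256 : ℕ) ^ 144 = 2 ^ 1152 := by rw [show (256 : ℕ) = 2 ^ 8 from rfl, ← pow_mul]
  refine ⟨?_, fun i hi => ?_⟩
  · rw [h2] at hX hlt ⊢
    exact Nat.xor_lt_two_pow hX hlt
  · show getP (X ^^^ 3 * Y) i = _
    rw [getP_xor, e, getP_sum h3 hi, hY2 i hi]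

theorem reduce_lane : ∀ x < 64,
    let f := fun y : ℕ => (y &&& 3) + ((y >>> 2) &&& 15)
    f x < 64 ∧ f (f x) < 64 ∧ f (f (f x)) ^^^ 3 * (f (f (f x)) &&& (f (f (f x)) >>> 1) &&& 1) = x % 3 := by
  decide +kernel

theorem getP_reduce {X : ℕ} (h : ∀ i < 144, getP X i < 64) :
    fixL (foldL (foldL (foldL X))) < 256 ^ 144 ∧
      ∀ i < 144, getP (fixL (foldL (foldL (foldL X)))) i = getP X i % 3 := by
  have h1 := (getP_foldL h).2
  have b1 : ∀ i < 144, getP (foldL X) i < 64 := fun i hi => h1 i hi ▸ (reduce_lane _ (h i hi)).1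
  have h2 := (getP_foldL b1).2
  have b2 : ∀ i < 144, getP (foldL (foldL X)) i < 64 := fun i hi => by
    rw [h2 i hi, h1 i hi]; exact (reduce_lane _ (h i hi)).2.1
  obtain ⟨l3, h3⟩ := getP_foldL b2
  refine ⟨(getP_fixL l3).1, fun i hi => ?_⟩
  rw [(getP_fixL l3).2 i hi, h3 i hi, h2 i hi, h1 i hi]
  exact (reduce_lane _ (h i hi)).2.2

theorem sum_rows (g : ℕ → ℕ) : ∀ n, ∑ m ∈ Finset.range (12 * n), g m * 256 ^ m =
    ∑ i ∈ Finset.range n, 256 ^ (12 * i) * ∑ j ∈ Finset.range 12, g (12 * i + j) * 256 ^ j := by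
  intro n
  induction n with
  | zero => simp
  | succ n ih =>
    rw [Nat.mul_succ, Finset.sum_range_add, ih]; conv_rhs => rw [Finset.sum_range_succ]
    refine congrArg (HAdd.hAdd _) ?_
    rw [Finset.mul_sum]
    exact Finset.sum_congr rfl fun j _ => by rw [pow_add]; ring

theorem getP_shr (A k m : ℕ) : getP (A >>> (8 * k)) m = getP A (k + m) := by
  simp only [getP, ← Nat.shiftRight_add]
  congr 2
  ring

theorem termL_eq (A B : ℕ) {k : ℕ} (hk : k < 12) : termL A B k =
    ∑ m ∈ Finset.range 144, getP A (12 * (m / 12) + k) * getP B (12 * k + m % 12) * 256 ^ m := by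
  have hcol : (A >>> (8 * k)) &&& laneFirst =
      ∑ i ∈ Finset.range 12, 256 ^ (12 * i) * getP A (12 * i + k) := by
    have hlt : (A >>> (8 * k)) &&& laneFirst < 256 ^ 144 :=
      Nat.and_le_right.trans_lt (by decide +kernel)
    conv_lhs => rw [← Nat.mod_eq_of_lt hlt, ← sum_getP]
    rw [show (144 : ℕ) = 12 * 12 from rfl, sum_rows]
    refine Finset.sum_congr rfl fun i hi => ?_
    rw [Finset.mem_range] at hi
    congr 1
    rw [Finset.sum_eq_single 0]
    · rw [pow_zero, mul_one, getP_and, getP_shr, (lanes_spec _ (by omega)).2.2.2, if_pos (by omega),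
        show k + (12 * i + 0) = 12 * i + k by omega, show (255 : ℕ) = 2 ^ 8 - 1 from rfl,
        Nat.and_two_pow_sub_one_eq_mod, Nat.mod_eq_of_lt (getP_lt _ _)]
    · intro j hj h0
      rw [Finset.mem_range] at hj
      rw [getP_and, (lanes_spec _ (by omega)).2.2.2, if_neg (by omega), Nat.and_zero, zero_mul]
    · intro h; simp at h
  have hrow : (B >>> (96 * k)) % 79228162514264337593543950336 =
      ∑ j ∈ Finset.range 12, getP B (12 * k + j) * 256 ^ j := by
    rw [show (79228162514264337593543950336 : ℕ) = 256 ^ 12 by norm_num, ← sum_getP,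
      show 96 * k = 8 * (12 * k) by omega]
    exact Finset.sum_congr rfl fun j _ => by rw [getP_shr]
  rw [termL, hcol, hrow, show (144 : ℕ) = 12 * 12 from rfl, sum_rows, Finset.sum_mul]
  refine Finset.sum_congr rfl fun i _ => ?_
  rw [mul_assoc, Finset.mul_sum]
  refine congrArg _ (Finset.sum_congr rfl fun j hj => ?_)
  rw [Finset.mem_range] at hj
  rw [show (12 * i + j) / 12 = i by omega, show (12 * i + j) % 12 = j by omega]
  ring

theorem smallL_iff {A : ℕ} : smallL A = true ↔ A < 256 ^ 144 ∧ ∀ i < 144, getP A i < 3 := by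
  simp [smallL, List.all_eq_true]

theorem mulL_spec {A B : ℕ} (hA : smallL A = true) (hB : smallL B = true) :
    smallL (mulL A B) = true ∧ ∀ m < 144, getP (mulL A B) m =
      (∑ k ∈ Finset.range 12, getP A (12 * (m / 12) + k) * getP B (12 * k + m % 12)) % 3 := by
  obtain ⟨-, hA'⟩ := smallL_iff.1 hA
  obtain ⟨-, hB'⟩ := smallL_iff.1 hB
  let g := fun m => ∑ k ∈ Finset.range 12, getP A (12 * (m / 12) + k) * getP B (12 * k + m % 12)
  have hg : ∀ m < 144, g m < 64 := fun m hm => by
    have : g m ≤ ∑ _k ∈ Finset.range 12, 4 := Finset.sum_le_sum fun k hk => by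
      rw [Finset.mem_range] at hk
      have h1 : getP A (12 * (m / 12) + k) ≤ 2 := by have := hA' (12 * (m / 12) + k) (by omega); omega
      have h2 : getP B (12 * k + m % 12) ≤ 2 := by have := hB' (12 * k + m % 12) (by omega); omega
      exact Nat.mul_le_mul h1 h2
    simp at this
    omega
  have hraw : rawL A B = ∑ m ∈ Finset.range 144, g m * 256 ^ m := by
    have e : rawL A B = ∑ k ∈ Finset.range 12, termL A B k := by
      simp only [rawL, Finset.sum_range_succ, Finset.sum_range_zero, zero_add]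
    rw [e, Finset.sum_congr rfl fun k hk => termL_eq A B (Finset.mem_range.1 hk), Finset.sum_comm]
    exact Finset.sum_congr rfl fun m _ => (Finset.sum_mul _ _ _).symm
  have hlane : ∀ m < 144, getP (rawL A B) m = g m := fun m hm => by
    rw [hraw]; exact getP_sum (fun i hi => (hg i hi).trans (by norm_num)) hm
  obtain ⟨hlt, hred⟩ := getP_reduce (X := rawL A B) fun m hm => hlane m hm ▸ hg m hm
  refine ⟨smallL_iff.2 ⟨hlt, fun m hm => ?_⟩, fun m hm => ?_⟩
  · show getP (fixL (foldL (foldL (foldL (rawL A B))))) m < 3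
    rw [hred m hm]; exact Nat.mod_lt _ (by norm_num)
  · show getP (fixL (foldL (foldL (foldL (rawL A B))))) m = _
    rw [hred m hm, hlane m hm]

/-- The matrix of a code. -/
def toMatL (A : ℕ) : Matrix (Fin 12) (Fin 12) (ZMod 3) := fun i j => (getP A (12 * i.val + j.val) : ZMod 3)

theorem toMatL_mulL {A B : ℕ} (hA : smallL A = true) (hB : smallL B = true) :
    toMatL (mulL A B) = toMatL A * toMatL B := by
  ext i j
  have hi := i.isLt
  have hj := j.isLt
  rw [toMatL, (mulL_spec hA hB).2 _ (by omega), ZMod.natCast_mod, Nat.cast_sum, Finset.sum_range,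
    Matrix.mul_apply]
  refine Finset.sum_congr rfl fun k _ => ?_
  rw [show (12 * i.val + j.val) / 12 = i.val by omega, show (12 * i.val + j.val) % 12 = j.val by omega,
    Nat.cast_mul]
  rfl

theorem units_small : smallL twelveOne = true ∧ smallL twelveNeg = true ∧
    (List.range 144).all (fun m => getP twelveOne m == (if m / 12 = m % 12 then 1 else 0)) = true ∧
    (List.range 144).all (fun m => getP twelveNeg m == (if m / 12 = m % 12 then 2 else 0)) = true := by
  refine ⟨?_, ?_, ?_, ?_⟩ <;> decide +kernel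

theorem toMatL_one : toMatL twelveOne = 1 := by
  ext i j
  have hi := i.isLt
  have hj := j.isLt
  have h := List.all_eq_true.1 units_small.2.2.1 (12 * i.val + j.val) (List.mem_range.2 (by omega))
  simp only [beq_iff_eq, show (12 * i.val + j.val) / 12 = i.val by omega,
    show (12 * i.val + j.val) % 12 = j.val by omega] at h
  rw [toMatL, h, Matrix.one_apply]
  simp only [Fin.ext_iff]
  split_ifs <;> simp

theorem toMatL_neg : toMatL twelveNeg = -1 := by
  ext i j
  have hi := i.isLt
  have hj := j.isLt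
  have h := List.all_eq_true.1 units_small.2.2.2 (12 * i.val + j.val) (List.mem_range.2 (by omega))
  simp only [beq_iff_eq, show (12 * i.val + j.val) / 12 = i.val by omega,
    show (12 * i.val + j.val) % 12 = j.val by omega] at h
  rw [toMatL, h, Matrix.neg_apply, Matrix.one_apply]
  simp only [Fin.ext_iff]
  have h2 : ((2 : ℕ) : ZMod 3) = -1 := by decide
  split_ifs <;> first | exact h2 | simp

end CfsgLib.Schur.Tails.Twelve
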