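import Cfsg.Agent.Lib.Tails.CertMulti
import Cfsg.Agent.Lib.Golay.Bsgs

/-!
Generated data: certificates for the multiplier of the unitary group of dimension four over nine elements
-/

set_option autoImplicit false
set_option maxRecDepth 20000

namespace CfsgLib.TailsData

open CfsgLib

/-- The generators on the 126 sets. -/
def uFourBase : List ℕ := [0x7c7524407d6c7a6e797b6106650c5e4e276f722f4425785b49516a585c22774a765550743d00737170103c6d2b35126b3e69686766631a3a37646208605f185d46545a5957564c535242284f4d2a4b162d4847454341383f021e330e3b390a36343231302e042c202914261c23211f1d1b19171513110f0d0b0907050301, 0x705a45565d777b437d7c747a6b4b6673294d760152623b136d6915797868711d11607559642e3f72306f266e67536c174f6a34395703655f092c6361311f475e5c215b0d58365554485150004e324c414a4919464442400f3e3d3c07233a383735330b052f1b2d2b2a2827252422201e1c1a18161412100e0c0a08060402]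

/-- The overlaps. -/
def twoUFourOverlaps : List (List ℕ × List Schur.Tails.Step × List Schur.Tails.Step) := [
  ([0, 1, 2], [(0, 7, true), (3, 8, true), (2, 21, true), (1, 26, true), (0, 27, true)], [(1, 13, true), (0, 8, true), (1, 7, true)]),
  ([0, 1, 3], [(0, 7, true), (3, 9, true), (2, 20, true), (1, 26, true), (0, 27, true), (2, 4, true), (3, 19, true), (2, 22, true), (1, 27, true), (0, 6, true), (3, 18, true), (2, 23, true), (1, 26, true), (0, 27, true), (2, 25, true), (1, 27, true), (0, 6, true), (0, 5, true), (1, 22, true), (0, 26, true), (1, 4, true)], [(1, 14, true), (0, 12, true), (1, 11, true), (0, 21, true), (1, 20, true), (0, 6, true), (2, 18, true), (1, 23, true), (0, 26, true), (1, 25, true), (0, 6, true), (2, 22, true), (1, 26, true), (0, 27, true), (2, 4, true), (3, 2, true), (4, 10, true), (3, 16, true), (2, 22, true), (1, 27, true), (0, 6, true), (2, 3, true), (1, 26, true), (0, 27, true), (3, 14, true), (2, 26, true), (1, 27, true), (0, 6, true), (1, 25, true), (0, 27, true), (1, 5, true), (1, 4, true), (3, 8, true), (2, 17, true), (1, 20, true), (0, 6,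 true), (2, 19, true), (1, 22, true), (0, 26, true), (1, 4, true), (2, 18, true), (1, 23, true), (0, 6, true), (1, 22, true), (0, 27, true), (6, 7, true), (5, 16, true), (4, 19, true), (3, 22, true), (2, 26, true), (1, 27, true), (0, 6, true), (1, 4, true), (2, 18, true), (1, 23, true), (0, 27, true), (1, 5, true), (1, 22, true), (0, 6, true), (3, 15, true), (2, 19, true), (1, 22, true), (0, 26, true), (1, 4, true), (2, 2, true), (2, 13, true)]),
  ([0, 1, 4], [(0, 7, true), (3, 10, true), (2, 20, true), (1, 26, true), (0, 27, true), (2, 4, true), (3, 18, true), (2, 23, true), (1, 27, true), (0, 6, true), (0, 5, true), (0, 22, true)], [(1, 15, true), (0, 10, true), (2, 8, true), (1, 24, true), (0, 27, true), (3, 7, true), (2, 23, true), (1, 27, true), (0, 6, true), (0, 5, true), (0, 22, true)]),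
  ([0, 1, 5], [(0, 7, true), (3, 11, true), (2, 21, true), (1, 26, true), (0, 27, true), (3, 20, true), (2, 26, true), (1, 27, true), (0, 6, true), (1, 4, true), (2, 18, true), (1, 23, true), (0, 27, true), (1, 5, true), (1, 22, true), (0, 6, true), (2, 2, true)], [(1, 16, true), (0, 10, true), (2, 9, true), (1, 23, true), (0, 27, true), (1, 5, true), (1, 22, true), (0, 6, true), (1, 3, true), (0, 26, true), (3, 7, true), (2, 16, true), (1, 4, true), (2, 15, true), (1, 22, true), (0, 6, true), (3, 13, true), (2, 2, true)]),
  ([0, 1, 6], [(0, 7, true), (3, 12, true), (2, 2, true)], [(1, 17, true), (0, 11, true), (5, 10, true), (4, 16, true), (3, 19, true), (2, 22, true), (1, 27, true), (0, 6, true), (3, 18, true), (2, 23, true), (1, 26, true), (0, 27, true), (2, 25, true), (1, 27, true), (0, 6, true), (0, 5, true), (1, 22, true), (0, 26, true), (1, 4, true), (3, 14, true), (2, 21, true), (1, 24, true), (0, 6, true), (1, 20, true), (0, 24, true), (1, 22, true), (0, 6, true), (1, 3, true), (0, 26, true), (2, 19, true), (1, 4, true), (1, 2, true), (2, 9, true), (1, 16, true), (3,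 15, true), (2, 22, true), (1, 26, true), (0, 6, true), (0, 4, true), (2, 14, true), (1, 21, true), (0, 24, true), (2, 20, true), (1, 24, true), (0, 6, true), (0, 22, true), (2, 3, true), (1, 26, true), (0, 6, true), (1, 19, true), (0, 4, true), (0, 2, true), (0, 1, true), (5, 7, true), (4, 20, true), (3, 24, true), (2, 26, true), (1, 27, true), (0, 6, true), (2, 22, true), (1, 26, true), (0, 27, true), (2, 4, true), (2, 3, true), (1, 27, true), (0, 6, true), (1, 19, true), (2, 2, true)]),
  ([0, 2, 3], [(0, 8, true), (1, 9, true)], [(1, 18, true), (0, 11, true), (5, 10, true), (4, 16, true), (3, 19, true), (2, 22, true), (1, 27, true), (0, 6, true), (3, 18, true), (2, 23, true), (1, 26, true), (0, 27, true), (2, 25, true), (1, 27, true), (0, 6, true), (0, 5, true), (1, 22, true), (0, 26, true), (1, 4, true), (3, 14, true), (2, 21, true), (1, 24, true), (0, 6, true), (1, 20, true), (0, 24, true), (1, 22, true), (0, 6, true), (1, 3, true), (0, 26, true), (2, 19, true), (1, 4, true), (1, 2, true), (2, 8, true), (1, 17, true)]),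
  ([0, 2, 4], [(0, 8, true), (1, 10, true)], [(1, 19, true), (0, 10, true), (2, 8, true), (1, 24, true), (0, 27, true)]),
  ([0, 2, 5], [(0, 8, true), (1, 11, true), (0, 6, true)], [(1, 20, true), (0, 12, true), (1, 10, true), (0, 20, true), (3, 18, true), (2, 23, true), (1, 26, true), (0, 6, true), (0, 25, true), (3, 22, true), (2, 26, true), (1, 27, true), (0, 6, true), (1, 4, true), (3, 9, true), (2, 20, true), (1, 24, true), (0, 27, true), (2, 22, true), (1, 27, true), (0, 6, true), (2, 3, true), (1, 26, true), (0, 27, true), (3, 19, true), (2, 4, true), (2, 18, true), (1, 5, true), (4, 8, true), (3, 17, true), (2, 20, true), (1, 26, true), (0, 6, true), (0, 4, true), (1, 19, true), (0, 22, true), (3, 18, true), (2, 23, true), (1, 26, true), (0, 6, true), (0, 25, true), (3, 22, true), (2, 26, true), (1, 27, true), (0, 6, true), (1, 4, true)]),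
  ([0, 2, 6], [(0, 8, true), (1, 12, true)], [(1, 21, true), (0, 12, true), (1, 8, true), (0, 21, true)]),
  ([0, 3, 4], [(0, 9, true), (4, 10, true), (3, 16, true), (2, 22, true), (1, 26, true), (0, 27, true), (2, 4, true), (2, 3, true), (1, 27, true), (0, 6, true), (1, 14, true), (0, 27, true), (1, 5, true)], [(1, 22, true), (0, 12, true), (1, 10, true), (0, 20, true), (3, 18, true), (2, 23, true), (1, 26, true), (0, 6, true), (0, 25, true), (3, 22, true), (2, 26, true), (1, 27, true), (0, 6, true), (1, 4, true), (3, 9, true), (2, 20, true), (1, 24, true), (0, 27, true), (2, 22, true), (1, 27, true), (0, 6, true), (2, 3, true), (1, 26, true), (0, 27, true), (3, 19, true), (2, 4, true), (2, 18, true), (1, 5, true)]),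
  ([0, 3, 5], [(0, 9, true), (4, 11, true), (3, 17, true), (2, 23, true), (1, 26, true), (0, 27, true), (2, 25, true), (1, 27, true), (0, 6, true), (0, 5, true), (1, 22, true), (0, 26, true), (1, 4, true), (1, 3, true), (0, 6, true), (0, 16, true), (2, 14, true), (1, 24, true), (0, 26, true), (2, 23, true), (1, 26, true), (0, 6, true), (0, 25, true), (3, 22, true), (2, 26, true), (1, 27, true), (0, 6, true), (1, 4, true), (3, 13, true), (2, 2, true), (2, 1, true), (1, 24, true), (0, 27, true), (2, 23, true), (1, 27, true), (0, 6, true), (0, 5, true), (0, 22, true), (2, 3, true), (1, 26, true), (0, 6, true)], [(1, 23, true), (0, 12, true), (1, 11, true), (0, 21, true), (1, 20, true), (0, 6, true), (2, 18, true), (1, 23, true), (0, 26, true), (1, 25, true), (0, 6, true), (2, 22, true), (1, 26, true), (0, 27, true), (2, 4, true), (3, 2, true), (4, 9, true), (3, 16, true), (2, 22, true), (1, 27, true), (0, 6, true), (2, 3, true), (1, 26, true), (0, 27, true), (3, 15, true), (2, 4, true), (3, 14, true), (2, 21, true), (1, 27, true), (0, 6, true), (1, 20, true), (0, 27, true), (4, 19,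 true), (3, 22, true), (2, 26, true), (1, 27, true), (0, 6, true), (1, 4, true), (2, 2, true), (2, 1, true), (1, 24, true), (0, 27, true), (2, 23, true), (1, 27, true), (0, 6, true), (0, 5, true), (0, 22, true), (2, 3, true), (1, 26, true), (0, 6, true)]),
  ([0, 3, 6], [(0, 9, true), (4, 12, true), (3, 13, true)], [(1, 24, true), (0, 12, true), (1, 9, true), (0, 20, true), (3, 19, true), (2, 22, true), (1, 26, true), (0, 6, true), (0, 4, true), (1, 18, true), (0, 23, true), (2, 22, true), (1, 27, true), (0, 6, true)]),
  ([0, 4, 5], [(0, 10, true), (2, 11, true), (1, 24, true), (0, 27, true), (2, 23, true), (1, 27, true), (0, 6, true), (0, 5, true), (0, 3, true)], [(1, 25, true), (0, 12, true), (1, 11, true), (0, 21, true), (1, 20, true), (0, 6, true), (2, 18, true), (1, 23, true), (0, 26, true), (1, 25, true), (0, 6, true), (2, 22, true), (1, 26, true), (0, 27, true), (2, 4, true), (3, 2, true), (4, 10, true), (3, 16, true), (2, 22, true), (1, 27, true), (0, 6, true), (2, 3, true), (1, 26, true), (0, 27, true), (3, 14, true), (2, 26, true), (1, 27, true), (0, 6, true), (1, 25,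 true), (0, 27, true), (1, 5, true), (1, 4, true)]),
  ([0, 4, 6], [(0, 10, true), (2, 12, true)], [(1, 26, true), (0, 12, true), (1, 10, true), (0, 20, true), (3, 18, true), (2, 23, true), (1, 26, true), (0, 6, true), (0, 25, true), (3, 22, true), (2, 26, true), (1, 27, true), (0, 6, true), (1, 4, true)]),
  ([1, 2, 3], [(0, 13, true), (1, 14, true), (0, 21, true), (1, 20, true), (0, 6, true), (2, 19, true), (1, 22, true), (0, 26, true), (1, 4, true), (2, 2, true)], [(1, 18, true), (0, 16, true), (2, 15, true), (1, 22, true), (0, 26, true), (1, 4, true), (3, 13, true), (2, 2, true)]),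
  ([1, 2, 5], [(0, 13, true), (1, 16, true), (0, 19, true), (1, 18, true), (0, 25, true), (2, 4, true)], [(1, 20, true), (0, 17, true), (3, 15, true), (2, 22, true), (1, 26, true), (0, 27, true), (2, 4, true), (4, 14, true), (3, 21, true), (2, 24, true), (1, 27, true), (0, 6, true), (2, 20, true), (1, 24, true), (0, 27, true), (2, 22, true), (1, 27, true), (0, 6, true), (2, 3, true), (1, 26, true), (0, 27, true), (3, 19, true), (2, 4, true), (2, 2, true), (2, 13, true)]),
  ([1, 2, 6], [(0, 13, true), (1, 17, true), (0, 20, true), (3, 19, true), (2, 22, true), (1, 26, true), (0, 6, true), (0, 4, true), (1, 18, true), (0, 23, true), (2, 22, true), (1, 27, true), (0, 6, true)], [(1, 21, true), (0, 17, true), (3, 13, true)]),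
  ([1, 3, 4], [(0, 14, true), (4, 15, true), (3, 19, true), (2, 4, true), (2, 2, true)], [(1, 22, true), (0, 17, true), (3, 15, true), (2, 22, true), (1, 26, true), (0, 27, true), (2, 4, true), (4, 14, true), (3, 21, true), (2, 24, true), (1, 27, true), (0, 6, true), (2, 20, true), (1, 24, true), (0, 27, true), (2, 22, true), (1, 27, true), (0, 6, true), (2, 3, true), (1, 26, true), (0, 27, true), (3, 19, true), (2, 4, true), (2, 2, true)]),
  ([1, 3, 5], [(0, 14, true), (4, 16, true), (3, 19, true), (2, 4, true), (2, 18, true), (1, 5, true)], [(1, 23, true), (0, 17, true), (3, 16, true), (2, 22, true), (1, 26, true), (0, 27, true), (2, 4, true), (2, 3, true), (1, 27, true), (0, 6, true), (1, 14, true), (0, 27, true), (1, 5, true)]),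
  ([0, 0, 1], [(0, 0, true)], [(1, 7, true), (0, 11, true), (5, 10, true), (4, 16, true), (3, 19, true), (2, 22, true), (1, 27, true), (0, 6, true), (3, 18, true), (2, 23, true), (1, 26, true), (0, 27, true), (2, 25, true), (1, 27, true), (0, 6, true), (0, 5, true), (1, 22, true), (0, 26, true), (1, 4, true), (3, 14, true), (2, 21, true), (1, 24, true), (0, 6, true), (1, 20, true), (0, 24, true), (1, 22, true), (0, 6, true), (1, 3, true), (0, 26, true), (2, 19, true), (1, 4, true), (1, 2, true), (2, 8, true), (1, 17, true), (5, 0, true), (4, 17, true), (3, 23, true), (2, 26, true), (1, 27, true), (0, 6, true), (1, 25, true), (0, 27, true), (1, 5, true), (2, 22, true), (1, 26, true), (0, 6, true), (0, 4, true), (0, 3, true), (1, 13, true)])]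

/-- A conjugation. -/
def twoUFourFus0 : Schur.Tails.Fus where
  xs := [[6, 3, 2, 1], [2, 0], [6, 2], [5, 4, 3, 2]]
  ys := [[5, 4, 2, 1, 0], [6, 5, 4, 3], [5, 4, 3, 0], [5, 4, 3, 2]]
  rels := [
    ([0, 0], [], [(3, 17, true), (2, 20, true), (1, 24, true), (0, 6, true), (0, 22, true), (2, 3, true), (1, 26, true), (0, 6, true), (1, 19, true), (0, 4, true), (0, 18, true), (3, 14, true), (2, 21, true), (1, 26, true), (0, 27, true), (3, 20, true), (2, 26, true), (1, 27, true), (0, 6, true), (1, 4, true), (2, 19, true), (1, 22, true), (0, 27, true), (4, 2, true), (4, 13, true), (5, 1, true), (4, 21, true), (3, 24, true), (2, 26, true), (1, 27, true), (0, 6, true), (3, 20, true), (2, 24, true), (1, 26, true), (0, 27, true), (3, 22, true), (2, 26, true), (1, 27, true), (0, 6, true), (1, 4, true), (1, 3, true), (0, 27, true), (2, 19, true), (3, 18, true), (2, 25, true), (1, 27, true), (0, 6, true), (0, 5, true), (0, 4, true), (0, 2, true)], [(4, 11, true), (3, 17, true), (2, 20, true), (1, 26, true), (0, 27, true), (2, 4, true), (3, 19, true), (2, 22, true), (1, 27, true), (0, 6, true),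 (3, 18, true), (2, 23, true), (1, 26, true), (0, 27, true), (2, 25, true), (1, 27, true), (0, 6, true), (0, 5, true), (1, 22, true), (0, 26, true), (1, 4, true), (3, 16, true), (2, 19, true), (1, 22, true), (0, 6, true), (2, 18, true), (1, 23, true), (0, 26, true), (1, 25, true), (0, 6, true), (2, 22, true), (1, 26, true), (0, 27, true), (2, 4, true), (4, 14, true), (3, 21, true), (2, 24, true), (1, 27, true), (0, 6, true), (2, 20, true), (1, 24, true), (0, 27, true), (2, 22, true), (1, 27, true), (0, 6, true), (2, 3, true), (1, 26, true), (0, 27, true), (3, 19, true), (2, 4, true), (2, 2, true), (2, 13, true), (3, 1, true), (2, 21, true), (1, 27, true), (0, 6, true), (1, 20, true), (0, 27, true), (4, 19, true), (3, 22, true), (2, 26, true), (1, 27, true), (0, 6, true), (1, 4, true), (2, 18, true), (1, 23, true), (0, 27, true), (1, 5, true), (1, 22, true), (0, 6, true), (2, 2, true), (2, 10, true), (1, 23, true), (0, 26, true), (1, 25, true), (0, 6, true), (2, 3, true), (1, 26, true), (0, 27, true), (3, 8, true), (2, 26, true), (1, 27, true), (0, 6, true), (2, 7, true), (1, 25,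 true), (0, 27, true), (1, 5, true), (1, 4, true), (2, 0, true), (1, 21, true), (0, 6, true), (0, 2, true)]),
    ([1, 1], [], [(1, 8, true), (0, 21, true), (2, 0, true), (1, 21, true), (0, 6, true), (0, 2, true)], [(3, 24, true), (2, 26, true), (1, 27, true), (0, 6, true), (2, 23, true), (1, 26, true), (0, 27, true), (2, 25, true), (1, 27, true), (0, 6, true), (0, 5, true), (1, 22, true), (0, 26, true), (1, 4, true), (1, 3, true), (0, 6, true)]),
    ([2, 2], [], [(1, 21, true), (0, 6, true), (0, 2, true)], [(3, 11, true), (2, 24, true), (1, 26, true), (0, 27, true), (3, 23, true), (2, 26, true), (1, 27, true), (0, 6, true), (1, 25, true), (0, 27, true), (1, 5, true), (2, 3, true), (1, 26, true), (0, 6, true), (3, 10, true), (2, 16, true), (1, 19, true), (0, 4, true), (0, 18, true), (3, 14, true), (2, 21, true), (1, 26, true), (0, 27, true), (3, 20, true), (2, 26, true), (1, 27, true), (0, 6, true), (1, 4, true), (2, 19, true), (1, 22, true), (0, 27, true), (4, 2, true), (5, 9, true), (4, 16, true), (3, 22, true), (2, 26, true), (1, 27, true), (0, 6, true), (1, 4, true), (1, 3,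 true), (0, 27, true), (2, 15, true), (4, 14, true), (3, 21, true), (2, 26, true), (1, 27, true), (0, 6, true), (2, 20, true), (1, 26, true), (0, 27, true), (2, 4, true), (3, 19, true), (2, 22, true), (1, 27, true), (0, 6, true), (3, 2, true), (3, 1, true), (2, 24, true), (1, 26, true), (0, 27, true), (3, 23, true), (2, 26, true), (1, 27, true), (0, 6, true), (1, 25, true), (0, 27, true), (1, 5, true), (2, 22, true), (1, 26, true), (0, 6, true), (0, 4, true), (0, 3, true), (2, 0, true), (1, 21, true), (0, 6, true), (0, 2, true)]),
    ([0, 1], [1, 0], [(3, 13, true), (2, 2, true), (2, 2, false), (3, 13, false), (1, 4, false), (0, 26, false), (1, 22, false), (2, 15, false), (0, 16, false), (1, 7, false), (0, 6, false), (1, 3, false), (1, 4, false), (0, 26, false), (1, 22, false), (0, 5, false), (0, 6, false), (1, 27, false), (2, 25, false), (0, 27, false), (1, 26, false), (2, 23, false), (3, 17, false), (4, 8, false), (0, 9, false), (0, 2, false), (1, 12, false)], [(4, 12, true), (3, 13, true), (2, 2, true), (3, 11, true), (2, 17, true), (1, 25, true), (0, 27, true), (1, 5, true),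 (1, 4, true), (2, 16, true), (1, 22, true), (0, 6, true), (1, 3, true), (0, 26, true), (2, 14, true), (1, 26, true), (0, 6, true), (0, 25, true), (2, 4, true), (3, 13, true), (2, 2, true), (2, 1, true), (1, 27, true), (0, 6, true), (0, 5, true), (3, 10, true), (2, 20, true), (1, 24, true), (0, 26, true), (2, 22, true), (1, 26, true), (0, 6, true), (0, 4, true), (0, 3, true), (1, 18, true), (4, 9, true), (3, 20, true), (2, 26, true), (1, 27, true), (0, 6, true), (1, 4, true), (2, 19, true), (1, 22, true), (0, 27, true), (4, 18, true), (3, 23, true), (2, 26, true), (1, 27, true), (0, 6, true), (1, 25, true), (0, 27, true), (1, 5, true), (2, 22, true), (1, 26, true), (0, 6, true), (0, 4, true), (0, 4, false), (0, 6, false), (1, 26, false), (2, 22, false), (1, 5, false), (0, 27, false), (1, 25, false), (0, 6, false), (1, 27, false), (2, 26, false), (3, 23, false)])]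

/-- A conjugation. -/
def twoUFourFus1 : Schur.Tails.Fus where
  xs := [[6, 4, 2, 1]]
  ys := [[6, 3, 1, 0]]
  rels := [
    ([0, 0], [], [(3, 17, true), (2, 20, true), (1, 26, true), (0, 6, true), (0, 4, true), (1, 19, true), (0, 22, true), (3, 18, true), (2, 23, true), (1, 26, true), (0, 6, true), (0, 25, true), (3, 22, true), (2, 26, true), (1, 27, true), (0, 6, true), (1, 4, true), (3, 15, true), (2, 19, true), (1, 22, true), (0, 27, true), (4, 2, true), (4, 13, true), (5, 1, true), (4, 21, true), (3, 24, true), (2, 26, true), (1, 27, true), (0, 6, true), (3, 20, true), (2, 24, true), (1, 26, true), (0, 27, true), (3, 22, true), (2, 26, true), (1, 27, true), (0, 6, true), (1, 4, true), (1, 3, true), (0, 27, true), (2, 19, true), (3, 18, true), (2, 25, true), (1, 27, true), (0, 6, true), (0, 5, true), (0, 4, true), (0, 2, true)], [(3, 12, true), (2, 13, true), (4, 9, true), (3, 16, true), (2, 19, true), (1, 22, true), (0, 6, true), (2, 18, true), (1, 23, true), (0, 26, true), (1, 25, true), (0, 6, true), (2, 22, true), (1, 26, true), (0, 27, true), (2, 4, true), (4, 15, true),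 (3, 19, true), (2, 22, true), (1, 27, true), (0, 6, true), (3, 2, true), (3, 14, true), (2, 24, true), (1, 26, true), (0, 27, true), (3, 23, true), (2, 26, true), (1, 27, true), (0, 6, true), (1, 25, true), (0, 27, true), (1, 5, true), (2, 22, true), (1, 26, true), (0, 6, true), (0, 4, true), (2, 1, true), (1, 21, true), (0, 24, true), (2, 20, true), (1, 24, true), (0, 6, true), (0, 22, true), (2, 3, true), (1, 26, true), (0, 6, true), (1, 19, true), (0, 4, true), (0, 18, true), (2, 2, true), (2, 7, true), (1, 25, true), (0, 27, true), (1, 5, true), (1, 4, true), (2, 0, true), (1, 21, true), (0, 6, true), (0, 2, true)])]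

/-- A conjugation. -/
def twoUFourFus2 : Schur.Tails.Fus where
  xs := [[5, 4, 1], [6, 2], [6, 5, 4], [4], [6], [4, 3]]
  ys := [[6, 4, 2, 1], [6, 5, 4, 3, 2], [4, 3, 1], [4], [5, 4, 3, 2], [6, 5, 4, 2, 1]]
  rels := [
    ([0, 0], [], [(2, 16, true), (1, 4, true), (2, 15, true), (1, 22, true), (0, 27, true), (5, 1, true), (4, 21, true), (3, 24, true), (2, 26, true), (1, 27, true), (0, 6, true), (3, 20, true), (2, 24, true), (1, 26, true), (0, 27, true), (3, 22, true), (2, 26, true), (1, 27, true), (0, 6, true), (1, 4, true), (1, 3, true), (0, 27, true), (2, 19, true), (3, 18, true), (2, 25, true), (1, 27, true), (0, 6, true), (0, 5, true), (0, 4, true), (0, 2, true)], [(3, 17, true), (2, 20, true), (1, 26, true), (0, 6, true), (0, 4, true), (1, 19, true), (0, 22, true), (3, 18, true), (2, 23, true), (1, 26, true), (0, 6, true), (0, 25, true), (3, 22, true), (2, 26, true), (1, 27, true), (0, 6, true), (1, 4, true), (3, 15, true), (2, 19, true), (1, 22, true), (0, 27, true), (4, 2, true), (4, 13, true), (5, 1, true), (4, 21, true), (3, 24, true), (2, 26, true), (1, 27, true), (0,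 6, true), (3, 20, true), (2, 24, true), (1, 26, true), (0, 27, true), (3, 22, true), (2, 26, true), (1, 27, true), (0, 6, true), (1, 4, true), (1, 3, true), (0, 27, true), (2, 19, true), (3, 18, true), (2, 25, true), (1, 27, true), (0, 6, true), (0, 5, true), (0, 4, true), (0, 2, true)]),
    ([1, 1], [], [(1, 21, true), (0, 6, true), (0, 2, true)], [(4, 21, true), (3, 24, true), (2, 26, true), (1, 27, true), (0, 6, true), (3, 20, true), (2, 24, true), (1, 26, true), (0, 27, true), (3, 22, true), (2, 26, true), (1, 27, true), (0, 6, true), (1, 4, true), (1, 3, true), (0, 27, true), (2, 19, true), (3, 18, true), (2, 25, true), (1, 27, true), (0, 6, true), (0, 5, true), (0, 4, true), (0, 2, true)]),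
    ([2, 2], [4], [(2, 26, true), (1, 27, true), (0, 6, true), (1, 25, true), (0, 27, true), (1, 5, true), (1, 4, true)], [(2, 15, true), (1, 22, true), (0, 26, true), (1, 4, true), (3, 14, true), (2, 21, true), (1, 24, true), (0, 6, true), (1, 20, true), (0, 24, true), (1, 22, true), (0, 6, true), (1, 3, true), (0, 26, true), (2, 19, true), (1, 4, true), (1, 2, true), (1, 1, true), (0, 6, true)]),
    ([3, 3], [], [(0, 4, true)], [(0, 4, true)]),
    ([4, 4], [], [(0, 6, true)], [(3, 20, true), (2, 24, true), (1, 26, true), (0, 27, true), (3, 22, true), (2, 26, true), (1, 27, true), (0, 6, true), (1, 4, true), (1, 3, true), (0, 27, true), (2, 19, true), (3, 18, true), (2, 25, true), (1, 27, true), (0, 6, true), (0, 5, true), (0, 4, true), (0, 2, true)]),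
    ([5, 5], [], [(1, 22, true), (0, 26, true), (1, 4, true), (1, 3, true), (0, 6, true)], [(4, 17, true), (3, 20, true), (2, 26, true), (1, 27, true), (0, 6, true), (1, 4, true), (2, 19, true), (1, 22, true), (0, 27, true), (4, 18, true), (3, 23, true), (2, 26, true), (1, 27, true), (0, 6, true), (1, 25, true), (0, 27, true), (1, 5, true), (2, 22, true), (1, 26, true), (0, 6, true), (0, 4, true), (2, 16, true), (1, 19, true), (0, 22, true), (3, 18, true), (2, 23, true), (1, 26, true), (0, 6, true), (0, 25, true), (3, 22, true), (2, 26, true), (1, 27, true), (0, 6, true), (1, 4, true), (3, 15, true), (2, 19, true), (1, 22, true), (0, 27, true), (4, 2, true), (4, 13, true), (5, 1, true), (4, 21, true), (3, 24, true), (2, 26, true), (1, 27, true), (0, 6, true), (3, 20, true), (2, 24, true), (1, 26, true), (0, 27, true), (3, 22, true), (2, 26, true), (1, 27, true), (0, 6, true), (1, 4, true), (1, 3, true), (0, 27, true), (2, 19, true), (3, 18, true), (2, 25, true), (1, 27, true), (0, 6, true), (0, 5, true), (0, 4, true), (0, 2, true)]),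
    ([0, 1], [1, 0], [(2, 17, true), (1, 25, true), (0, 27, true), (1, 5, true), (1, 4, true), (2, 13, true), (1, 4, false), (0, 26, false), (1, 22, false), (2, 19, false), (0, 6, false), (1, 20, false)], [(3, 17, true), (2, 20, true), (1, 26, true), (0, 6, true), (0, 4, true), (1, 19, true), (0, 22, true), (3, 18, true), (2, 23, true), (1, 26, true), (0, 6, true), (0, 25, true), (3, 22, true), (2, 26, true), (1, 27, true), (0, 6, true), (1, 4, true), (3, 16, true), (2, 19, true), (1, 22, true), (0, 27, true), (4, 18, true), (3, 23, true), (2, 26, true), (1, 27, true), (0, 6, true), (1, 25, true), (0, 27, true), (1, 5, true), (2, 22, true), (1, 26, true), (0, 6, true), (0, 4, true), (2, 15, true), (1, 19, true), (0, 22, true), (3, 2, true), (3, 14, true), (2, 24, true), (1, 26, true), (0, 6, true), (1, 23, true), (0, 26, true), (1, 25, true), (0, 6, true), (2, 22, true), (1, 26, true), (0, 27, true), (2, 4, true), (4, 13, true), (3, 2, true), (3, 2, false), (2, 4, false), (0, 27, false), (1, 26, false), (2, 22, false), (3, 19, false), (0, 6, false), (1, 27, false), (2, 26, false),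 (3, 24, false), (4, 21, false)]),
    ([0, 2], [5, 3, 1, 0], [(2, 17, true), (1, 25, true), (0, 27, true), (1, 5, true), (1, 4, true), (2, 16, true), (1, 22, true), (0, 6, true), (1, 3, true), (0, 26, true), (2, 15, true), (1, 4, true), (1, 4, false), (2, 19, false), (0, 26, false), (1, 3, false), (0, 6, false), (1, 22, false), (0, 24, false), (1, 20, false), (0, 6, false), (1, 24, false), (1, 4, false), (0, 26, false), (1, 22, false)], [(3, 15, true), (2, 19, true), (1, 4, true), (1, 2, true), (1, 14, true), (0, 6, true), (3, 1, true), (2, 21, true), (1, 26, true), (0, 27, true), (3, 20, true), (2, 26, true), (1, 27, true), (0, 6, true), (1, 4, true), (2, 19, true), (1, 22, true), (0, 27, true), (4, 18, true), (3, 23, true), (2, 26, true), (1, 27, true), (0, 6, true), (1, 25, true), (0, 27, true), (1, 5, true), (2, 22, true), (1, 26, true), (0, 6, true), (0, 4, true), (1, 2, true), (1, 2, false), (0, 4, false), (0, 6, false), (1, 26, false), (2, 22, false), (1, 5, false), (0, 27, false), (1, 25, false), (0, 6, false), (1, 27, false), (2, 26, false), (3, 23, false), (4, 18, false),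 (0, 27, false), (1, 22, false), (2, 19, false), (1, 4, false), (0, 6, false), (1, 27, false), (2, 26, false), (3, 20, false), (0, 27, false), (1, 26, false), (2, 21, false), (3, 1, false), (2, 13, false), (2, 2, false), (1, 19, false), (2, 15, false), (1, 4, false), (0, 6, false), (1, 25, false), (2, 18, false), (1, 19, false), (0, 3, false), (0, 4, false), (0, 6, false), (1, 26, false), (2, 22, false), (0, 26, false), (1, 24, false), (2, 20, false), (3, 17, false), (2, 13, false), (2, 2, false), (0, 6, false), (1, 22, false), (2, 19, false), (1, 4, false), (0, 26, false), (1, 20, false), (0, 6, false), (1, 26, false), (2, 21, false), (3, 14, false), (1, 15, false), (0, 3, false), (0, 4, false), (0, 6, false), (1, 26, false), (2, 22, false), (3, 16, false), (1, 5, false), (2, 17, false), (2, 2, false), (2, 4, false), (3, 19, false), (4, 15, false)]),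
    ([0, 4], [5, 3, 2, 0], [(2, 17, true), (1, 25, true), (0, 27, true), (1, 5, true), (1, 4, true), (1, 4, false), (0, 26, false), (1, 22, false), (0, 5, false), (0, 6, false), (1, 27, false), (2, 25, false), (0, 27, false), (1, 26, false), (2, 23, false), (0, 6, false), (1, 27, false), (2, 22, false), (0, 23, false), (0, 6, false), (1, 24, false), (1, 4, false), (0, 26, false), (1, 22, false)], [(3, 16, true), (2, 19, true), (1, 4, true), (1, 18, true), (4, 15, true), (3, 19, true), (2, 4, true), (2, 2, true), (2, 14, true), (1, 27, true), (0, 6, true), (0, 5, true), (2, 13, true), (1, 2, true), (1, 2, false), (0, 19, false), (0, 6, false), (1, 21, false), (0, 3, false), (0, 4, false), (0, 6, false), (1, 26, false), (2, 22, false), (1, 5, false), (0, 27, false), (1, 25, false), (0, 6, false), (1, 27, false), (2, 26, false), (3, 23, false), (0, 27, false), (1, 26, false), (2, 24, false), (3, 1, false), (3, 2, false), (0, 6, false), (1, 27, false), (2, 22, false), (3, 19, false), (2, 4, false), (0, 27, false), (1, 26, false), (2, 20, false), (0, 6, false), (1, 27, false), (2, 26,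 false), (3, 21, false), (4, 14, false), (2, 15, false), (2, 2, false), (2, 4, false), (3, 19, false), (4, 15, false)])]

/-- A conjugation. -/
def twoUFourFus3 : Schur.Tails.Fus where
  xs := [[6, 4, 2], [2], [6, 5, 3], [6, 2]]
  ys := [[6, 4, 2], [6, 4], [5, 3, 2], [6, 2]]
  rels := [
    ([1, 1], [], [(0, 2, true)], [(1, 26, true), (0, 6, true), (0, 4, true)])]

/-- The certificate. -/
def twoUFourCert : Schur.Tails.MultiCert where
  base :=
    { p := 2
      q := 8
      n := 7
      rels := [
        ([0, 0], [6, 2]),
        ([1, 1], [6, 5, 4, 3, 2]),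
        ([2, 2], []),
        ([3, 3], [6]),
        ([4, 4], []),
        ([5, 5], []),
        ([6, 6], []),
        ([0, 1], [5, 4, 2, 0]),
        ([0, 2], [6, 0]),
        ([0, 3], [5, 4, 3, 1, 0]),
        ([0, 4], [5, 3, 0]),
        ([0, 5], [6, 5, 3, 2, 1, 0]),
        ([0, 6], [2, 0]),
        ([1, 2], [2, 1]),
        ([1, 3], [6, 5, 4, 2, 1]),
        ([1, 4], [4, 2, 1]),
        ([1, 5], [4, 3, 1]),
        ([1, 6], [5, 4, 3, 1]),
        ([2, 3], [5, 4, 2]),
        ([2, 4], [4, 2]),
        ([2, 5], [6, 4, 3, 2]),
        ([2, 6], [6, 2]),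
        ([3, 4], [6, 4, 3]),
        ([3, 5], [6, 5, 3]),
        ([3, 6], [6, 3]),
        ([4, 5], [6, 5, 4]),
        ([4, 6], [6, 4]),
        ([5, 6], [6, 5])]
      overlaps := twoUFourOverlaps
      fus := [twoUFourFus0, twoUFourFus1, twoUFourFus2, twoUFourFus3]
      mu := [[0, 7, 1, 7, 0, 1, 0, 2, 1, 0, 0, 0, 0, 0, 0, 0, 0, 0, 0, 0, 0, 0, 0, 0, 0, 0, 0, 0, 1, 0, 0, 0, 0, 0, 0, 0, 0, 0, 0, 0, 2], [7, 6, 0, 5, 0, 6, 0, 7, 2, 0, 0, 0, 0, 0, 0, 0, 0, 0, 0, 0, 0, 0, 0, 0, 0, 0, 0, 0, 7, 0, 0, 0, 7, 0, 0, 0, 0, 0, 0, 0, 3], [7, 4, 2, 5, 0, 6, 0, 0, 6, 0, 0, 0, 0, 0, 0, 0, 0, 0, 0, 0, 0, 0, 0, 0, 0, 0, 0, 0, 0, 0, 0, 0, 6, 0, 0, 0, 0, 0, 0, 0, 2], [5, 5, 0, 4, 0, 2, 0, 2, 6, 0, 0, 0, 0, 0, 0, 0, 0, 0, 0, 0, 0, 0, 0, 0, 0, 0, 0, 0, 5, 0, 0, 0, 5, 0, 0, 0, 0, 0, 0, 0, 1], [0, 0, 0, 0, 0, 0, 0, 0, 3, 0, 0, 0, 0, 0, 0, 0, 0, 0, 0, 0, 0, 0, 0, 0, 0, 0, 0, 0, 0, 0, 0, 0, 0, 0, 0, 0, 0, 0, 0, 0, 1], [0, 2, 6, 0, 0, 0, 0, 0, 1, 0, 0, 0, 0, 0, 0, 0, 0, 0, 0, 0, 0, 0, 0, 0, 0, 0, 0, 0, 7, 0, 0, 0, 1], [2, 2, 0, 1, 0, 4, 0, 4, 4, 0, 0, 0, 0, 0, 0, 0, 0, 0, 0, 0, 0, 0, 0, 0, 0, 0, 0, 0,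 2, 0, 0, 0, 2, 0, 0, 0, 0, 0, 0, 0, 2]]
      combos := [
        ([], 0),
        ([], 0),
        ([(0, 1), (1, 2), (2, 4), (3, 5), (5, 7), (6, 1), (7, 6), (8, 3), (11, 2), (12, 2), (13, 5), (14, 6), (15, 5), (16, 3), (17, 7), (18, 5), (19, 2), (21, 4), (24, 6), (25, 4), (27, 4), (28, 6), (29, 3), (30, 6), (32, 2), (33, 2), (34, 4)], 0),
        ([], 0),
        ([(0, 3), (1, 6), (3, 1), (4, 4), (5, 1), (6, 3), (7, 2), (9, 5), (10, 2), (12, 1), (13, 6), (14, 5), (15, 4), (16, 2), (17, 3), (19, 4), (22, 4), (24, 4), (25, 4), (26, 6), (28, 6), (29, 3), (30, 6), (32, 6), (33, 6), (34, 5)], 0),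
        ([(0, 1), (2, 5), (4, 7), (5, 4), (6, 4), (8, 1), (10, 2), (13, 1), (14, 6), (15, 5), (16, 3), (18, 7), (19, 3), (20, 1), (21, 4), (23, 1), (24, 3), (26, 5), (28, 6), (29, 7), (30, 6), (32, 2), (33, 2)], 0),
        ([(0, 3), (1, 2), (2, 4), (3, 1), (4, 6), (5, 5), (6, 5), (7, 6), (8, 1), (10, 6), (11, 6), (12, 6), (13, 4), (14, 7), (15, 6), (16, 2), (17, 6), (18, 7), (19, 6), (20, 6), (23, 6), (24, 6), (27, 4), (28, 6), (29, 7), (30, 6), (32, 2), (33, 2), (34, 4)], 0),
        ([], 0),
        ([(0, 5), (1, 4), (2, 3), (3, 5), (4, 5), (5, 5), (6, 1), (7, 7), (8, 4), (9, 2), (10, 4), (11, 4), (13, 1), (14, 1), (15, 5), (16, 6), (17, 6), (18, 4), (19, 4), (20, 1), (21, 4), (22, 4), (23, 5), (24, 2), (26, 2), (27, 4), (32, 4), (33, 4), (34, 4)], 0),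
        ([(2, 7), (3, 5), (4, 5), (5, 3), (6, 4), (7, 6), (8, 6), (9, 4), (12, 1), (13, 2), (14, 6), (16, 7), (17, 2), (18, 2), (19, 1), (20, 7), (21, 4), (23, 3), (24, 4), (26, 6), (27, 4), (28, 6), (29, 5), (30, 2), (32, 6), (33, 6), (34, 4)], 0),
        ([(0, 7), (1, 5), (2, 4), (3, 7), (4, 5), (5, 7), (6, 2), (7, 5), (8, 7), (9, 2), (11, 3), (12, 6), (13, 7), (14, 3), (15, 5), (16, 7), (17, 3), (18, 1), (19, 3), (20, 6), (23, 2), (24, 7), (26, 1), (27, 3), (29, 1), (32, 5), (33, 3), (34, 5)], 0),
        ([(0, 6), (1, 1), (2, 6), (3, 1), (4, 4), (5, 1), (6, 5), (7, 5), (8, 2), (9, 2), (10, 2), (12, 2), (13, 1), (14, 4), (15, 4), (16, 6), (17, 5), (18, 6), (19, 3), (20, 3), (21, 4), (23, 1), (24, 6), (27, 3), (29, 5), (32, 1), (33, 7), (34, 3)], 0),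
        ([(1, 6), (2, 6), (3, 1), (4, 1), (5, 4), (8, 5), (9, 6), (10, 6), (11, 3), (12, 6), (13, 3), (14, 3), (15, 6), (16, 5), (17, 6), (18, 3), (19, 6), (20, 7), (23, 1), (24, 6), (26, 2), (27, 6), (29, 2), (32, 2), (33, 6), (34, 6)], 0),
        ([(0, 5), (1, 1), (2, 7), (3, 2), (4, 4), (6, 5), (7, 7), (8, 7), (9, 2), (11, 3), (12, 6), (13, 3), (16, 7), (17, 7), (18, 1), (21, 4), (23, 4), (24, 4), (25, 4), (27, 2), (29, 6), (32, 6), (33, 2), (34, 2)], 0),
        ([(0, 5), (1, 4), (4, 6), (6, 2), (7, 2), (8, 4), (9, 1), (10, 4), (11, 6), (12, 7), (13, 6), (14, 3), (15, 6), (16, 4), (17, 6), (18, 4), (19, 5), (20, 6), (21, 4), (23, 5), (24, 2), (27, 6), (28, 6), (29, 7), (30, 2), (32, 4), (34, 6)], 0),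
        ([(1, 1), (3, 5), (5, 1), (6, 6), (7, 6), (8, 2), (9, 1), (10, 4), (11, 3), (12, 5), (13, 7), (14, 6), (15, 3), (16, 5), (17, 4), (18, 6), (19, 5), (20, 4), (21, 4), (24, 7), (26, 3), (29, 2), (30, 4), (34, 3)], 0),
        ([(0, 2), (1, 7), (2, 1), (3, 1), (4, 1), (5, 1), (6, 7), (7, 4), (8, 6), (9, 6), (11, 1), (12, 6), (14, 1), (15, 5), (16, 1), (17, 6), (18, 2), (19, 7), (20, 3), (21, 4), (23, 2), (24, 6), (27, 4), (28, 6), (29, 5), (30, 2), (32, 6), (33, 6), (34, 7)], 0),
        ([(0, 6), (1, 7), (2, 3), (3, 7), (5, 1), (7, 1), (8, 7), (9, 5), (10, 4), (11, 4), (12, 3), (13, 2), (14, 2), (16, 4), (17, 5), (18, 1), (19, 6), (20, 5), (22, 4), (23, 1), (24, 2), (26, 6), (27, 4), (29, 4), (32, 4), (33, 4), (34, 4)], 0),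
        ([(0, 7), (1, 7), (2, 3), (3, 1), (4, 4), (5, 4), (6, 7), (7, 2), (8, 1), (9, 4), (10, 4), (11, 5), (12, 7), (13, 1), (14, 5), (15, 1), (17, 3), (18, 7), (19, 2), (20, 1), (23, 1), (24, 2), (26, 6), (27, 2), (29, 6), (32, 6), (33, 2), (34, 2)], 0),
        ([(0, 6), (1, 2), (2, 2), (3, 5), (5, 7), (6, 2), (8, 6), (9, 1), (10, 4), (11, 5), (12, 5), (13, 3), (14, 6), (15, 3), (16, 4), (17, 4), (18, 2), (20, 4), (24, 4), (25, 4), (26, 6), (28, 6), (29, 1), (30, 2), (32, 2), (33, 2), (34, 2)], 0),
        ([(0, 1), (1, 6), (2, 3), (3, 5), (4, 5), (5, 2), (6, 4), (7, 3), (8, 3), (9, 4), (11, 5), (12, 5), (13, 3), (14, 6), (15, 1), (16, 5), (17, 3), (18, 5), (19, 3), (20, 4), (23, 4), (24, 3), (25, 4), (26, 3), (27, 2), (29, 4), (30, 4), (32, 6), (33, 2), (34, 6)], 0),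
        ([(0, 2), (1, 1), (2, 3), (3, 4), (4, 4), (6, 7), (7, 1), (8, 3), (9, 5), (10, 2), (11, 3), (12, 3), (14, 7), (15, 1), (16, 7), (17, 2), (18, 5), (20, 4), (21, 4), (23, 4), (27, 2), (29, 2), (32, 6), (33, 2), (34, 2)], 0),
        ([(0, 7), (2, 1), (4, 1), (5, 7), (6, 5), (7, 3), (8, 1), (9, 1), (11, 2), (12, 6), (13, 3), (14, 7), (15, 2), (16, 3), (17, 1), (18, 7), (19, 1), (20, 5), (21, 4), (22, 4), (23, 1), (24, 5), (25, 4), (26, 5), (29, 4), (32, 4), (33, 4), (34, 7)], 0),
        ([(0, 1), (1, 4), (2, 5), (4, 1), (5, 2), (6, 1), (7, 6), (8, 5), (10, 6), (11, 4), (12, 2), (13, 2), (14, 4), (15, 5), (16, 3), (17, 2), (18, 3), (19, 1), (20, 1), (21, 4), (23, 5), (24, 5), (25, 4), (26, 5), (27, 6), (29, 6), (32, 6), (33, 2), (34, 5)], 0),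
        ([(0, 3), (2, 4), (3, 6), (6, 6), (7, 6), (8, 4), (9, 5), (10, 6), (11, 7), (12, 3), (13, 3), (14, 1), (15, 7), (16, 7), (17, 5), (18, 4), (20, 4), (24, 4), (25, 4), (29, 4)], 0),
        ([(0, 5), (1, 5), (2, 4), (3, 7), (4, 5), (5, 4), (6, 2), (7, 2), (9, 7), (10, 2), (12, 2), (13, 7), (14, 6), (15, 2), (16, 1), (17, 3), (19, 1), (20, 1), (23, 1), (24, 1), (26, 3), (27, 6), (28, 6), (29, 5), (30, 6), (32, 4), (34, 3)], 0),
        ([(0, 5), (1, 2), (2, 2), (3, 1), (5, 7), (6, 7), (7, 4), (8, 6), (9, 3), (11, 4), (12, 3), (13, 1), (15, 1), (16, 3), (17, 6), (18, 2), (20, 4), (24, 4), (25, 4), (26, 6), (28, 6), (29, 1), (30, 2), (32, 2), (33, 2), (34, 2)], 0),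
        ([(0, 3), (1, 2), (2, 2), (3, 5), (5, 5), (6, 3), (7, 6), (8, 2), (9, 2), (10, 6), (12, 4), (13, 6), (14, 1), (15, 2), (16, 5), (17, 3), (18, 6), (20, 4), (24, 4), (25, 4), (26, 2), (28, 6), (29, 3), (30, 6), (32, 6), (33, 6), (34, 6)], 0)]
      tau := []
      tauCombo := [] }
  e := 3
  taus := [
    ([0, 0, 0, 0, 0, 0, 0, 0, 0, 0, 7, 0, 0, 0, 0, 0, 0, 0, 0, 0, 0, 0, 0, 0, 0, 0, 0, 0, 0, 0, 0, 0, 0, 0, 3, 0, 0, 6, 0, 0, 6], 4, [(0, 2), (1, 1), (2, 7), (3, 3), (4, 6), (5, 7), (6, 1), (7, 7), (8, 4), (9, 2), (10, 4), (11, 6), (12, 4), (13, 6), (14, 5), (15, 3), (16, 4), (17, 6), (18, 4), (19, 6), (20, 4), (22, 4), (23, 6), (26, 2), (27, 6), (28, 6), (29, 1), (30, 6), (31, 1), (33, 4), (34, 4)])]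
  mults := [[0],[0],[2],[0],[2],[0],[2],[0],[0],[2],[7],[5],[6],[6],[4],[2],[6],[0],[2],[6],[0],[6],[2],[4],[0],[6],[6],[2]]

/-- The generators. -/
def twoUFourGens : List ℕ := [
  0x533e174455540934100121244a57033d3a623179501c6a126505456927073841477c374c6b2b2226671d1649566c597a4874333f1a585e7d610651755d3c0a3676042560355f775c6f6e1b4b4f40200e0f0b4d42112d63433b2c08001e152f131464320d181923461f787366292a022e520c72715b7b6d4e683039285a70,
  0x7024300416717c5d3b4659510d405e3e296a1e614a6249600e2f57014412756f7639411a134e6934585a7b230928731f0048726306645b1c686c03250b3f7d6e567410665c4226774332353d21024c0c521b17380727082c2a3614786b0a5531673c37051918157a0f2d4f3a6d5f2b65222e474d4b50111d547933534520,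
  0x1d415a7122165b39422313727a676e6f3a4d3100580f702965281f2b2007383e5c5d777b4f6955435753543c5148594a6c084b4e40503614150a56757c49065e3552256d765f37473d0332336b1a272e1c2c621066642f263b0b74791e6163217d2d1b301918017845467311122a680e040c2444094c603f020d3405176a,
  0x283d4d272f68562625694f3e5045514b661c13307b7d62072e0d5a222d114237720932201e025277144e556a760621467404393c4c67030a791a24383464152c474475121b2a5c3541360b5b735770651f5d715f6d783f6f104363483123056b08586e4a191849017a0059603a3b400c0f0e33545e16292b61177c6c1d53,
  0x1d03237a7916563e605a312671705d5c2a61130a63086738651769486c7529396f6e43741e1f4e774a523c542c2b2157200f375540623d302f005b0734493f76475311105e664b3536410b247346452e0251506d5f01157212327b224f4d58597d05091419186478271a6b253b3a4c0e040c336a1b6842061c0d7c2d2844,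
  0x64475848500f0b37666c736e2f2b097225745930020d15752e7d053f235f60264b515b1f6b7b5233140a00575c7931461c1d5d3c087a7c4e061a43124128621b3d4a07382c3a7636343556324f6a7165203970111040225e6d246127212d5a1e4c4d3e4419181617675513422a29780c680e77546f493b45630103690453,
  0x7847743f707d776f107b212c06797639075859574d282229650f20481f3a385c3e5e5b236b6c6a5600461430262b310a69171b4404627c542f4a432a360d7a5d031a25606e5f0941343533324f52452e05725042666815513b245a677363611316024b3c19184c1d27531e111275640e400c0b4e37016d712d493d1c0855]

/-- The conjugating elements. -/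
def twoUFourHs : List ℕ := [
  0x1d411c77793c7a64756e256a572417742e2f1372583444296576481f200e1e363e47553d386971565b401430512b214e450f433746635c494d674b187c543f5d5a78313a02594a5e2d6826323b526c6d3506502a66051533737001094f61625f7d7b1b1610426f1a27536b1112194c60040c0a0b2203072c280d08392300,
  0x4e092f640247037c3d2b2e137b1e3160345d3e525010514027445320655872214b361762456e0c1d5e1a461816063c3b382d6c320a6861662a156a74003f263a55145a1c1b797d083763350f5624715c5469424d0523016d0457194c29336f127a115976250e754f1f485f702c670d307343780b074a226b5b4128394977,
  0x156620223f503a7c51696b5667794136373c1e6a467d705e2e403008532c6e3d3435606373544a1044747b5a242821551a165b00626811020f4e7526294806033b23760947394312255f422a132d4c0e1f32014b5c0d17776f6d4d7a4f14523127610b051918492b641c595d3e1b7865450c070a331d72716c2f38580457,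
  0x335d7b0679244941087457277122034764546a6b14606738656d1a0952685f367c3d0d5a443c73404f6c1f612f375531303a2b21771b6e202c59042876563f345c583b4c3566505e393e7d164e4d510e02454b1729427215127823704a4653000b0548630c182a3226690a25110f102e5b191d136275017a1c436f2d071e]

/-- The program from the generators. -/
def twoUFourSlp : List (ℕ × Bool × ℕ × ℕ) := [
  (0x7d7c7b7a797877767574737271706f6e6d6c6b6a696867666564636261605f5e5d5c5b5a595857565554535251504f4e4d4c4b4a494847464544434241403f3e3d3c3b3a393837363534333231302f2e2d2c2b2a292827262524232221201f1e1d1c1b1a191817161514131211100f0e0d0c0b0a09080706050403020100, true, 0, 0),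
  (0x4b590972117b4563705a7c5676341374444f43046e795b2729522a5d77626b3524687d646941477a32660f733b264d2d6c0151583f086d71144915784e38651d6023751c2e54306f0367530217006a3139572f5f2c611f205e5c21103c0d36554850180c4c0b4a194642403e3d073a3733051b2b2825221e1a16120e0a06, false, 1, 1),
  (0x59705c384b4f72741109771e2905352d1f13566a495e7b7d3f3b0441681045586332265a60067c76340723442f033e431d6e795b272a0c1c30525d25626b0b2471666469477a010f7378614d6c5f511939086d14154e54650e555337752e2b6f670217003116570d2c422050213c3648184c4a46403d3a331b28221a120a, false, 3, 0),
  (0x7011556b5913382d4b5c68333f4c584354351e51520e4f26272f6a063237725b74340309710a7729053c661f6d73505624495e7b7d040069013b413d104516631c075a607c766e2344254e3e1d14790d392a0c305d627a0b1a6f61486447460f784d6c5f1928082e1542650253752b671731572c202136184a403a1b2212, false, 4, 0),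
  (0x4c0901297438554170115c6b1e5e26685d242d221f065a6554521559130e3f7853374b712f0d163314580b434f6635085051257c773a2772202a6a321d46005b346403170a23053c046d7312563e49107b7d19693b3d452b631c07366160766e444e574a796c390c30627a1a6f48470f4d5f282e42027567312c2118401b, false, 5, 1),
  (0x9701c464c24296874011367545f780845266b492a63384b774f220d3736557c41146611341b5c1e5e48645d19041a2d5b1f065a65154a17055259020e3f6c537258712f1633510b43323d355069250c7b3a27206a1d2300186e730f030a2e3c6d12563e102c7d603b622b4e07617644577939307a6f474d284275312140, false, 6, 0),
  (0x5f11051e41291c59097001466b064b136a5b68215d0d712b452a3b4c2463546d073674344f0c6c67697800083864267d1a4932165c7577557a3a2237502e4a7c140366571b0b5e48151904402d351f0e5a65101752023f7653725847732f3351433d392825567b27201d23186e0f0a3c123e2c60624e614479306f4d4231, false, 7, 1),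
  (0x1109722e5f5b1e1341052444453e6d7d3f4b461f3a5329745c38210c36471c16596964701431016b060f036a101518687c5d0d712b3b28575e2a4c4e635456075578344f6c674900083702261a1732275a75777a22500b4a4d51043c661b604819402d350e30652f521d763d5873334339257b20236e0a122c6261796f42, false, 8, 0),
  (0x3e705e6b591e724c1109052e460d7424227c136f6a0c34763f3a525f5b5345195847411438275644176d4a7d29034b65181f376c01615c1c237521361a602816696664393100060f3b10154268265d63712b0e572a4e54330755780a044f674908027b2c322d5a777a500b4d513c1b484035302f1d3d734325206e126279, false, 9, 1),
  (0xd14234458725e213e70096b133776052a184c627d5f640b226a7a591e0c4608515311383a63282e26743324344a7c5a4b6f1031566e3f451d2b525b68675c1947044140270f176d6129037965421f1a6c01321c7536601b16696673783900063b1530255d7b710e574e5407550a4f49022c2d77504d3c48352f3d432012, false, 10, 1),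
  (0x37381d2e515e23520d1470444c100b09754b2120245941542a7d5758725f133b550c3e3a6a1a5c6b42761b05643318717c622927283d224650017a1e65003f0853781102636d26746e344a125a796f6831565d452b5b674f1947043c66400f1761032d351f306c321c3660166973390615257b0e4e070a492c774d482f43, false, 11, 1),
  (0x380d4700374b2e09511d72492a253b71670b446f01195e3e2864201a0c3c2327524233145343704c107378755d6e16210824594154573502267d58075f13305546763a6a5c6b621b051e5b187c452932313d22507a656d3f48174a0611630e7434125a79687756402b364f0304660f612d1f6c1c606939157b4e0a2c4d2f, false, 12, 0),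
  (0x6b2d352f625932605d34495450483a2a5e6c7d3b4d682755656463791f764a6d75075b367858252466724b51527140116917535f7370052c3f384339234f451002096a6f42441a5a7b7433770d267a187c46066e00286730575641150420611d1e031437192e4c13221b160a4e3e0f0c310e0b123c015c2b47211c3d0829, false, 13, 13),
  (0xc743771767a24627c757b4072685b61433e6e036d585a262744297d6c2565342322793d511618062a5e3f4e783c6f2c122f42577307497713486a5c4d0a1a4a553b501b00537010632b35016b4f696067662e3a64085f1f5d46540f3359564c5228170b4b312d47454138021e0e393632300420141c211d1915110d0905, false, 0, 1),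
  (0x683d13062324376a0c7475716e42267b641262094e7d5038436d45767a5872521e257c5144601a404f5b1f615a3f3e2d6f032b00181127651466296c6b5649342233793216102a5e07783c052c012f4d57734b77485c0a394a553b21541b5370633504196917672e3a085f5d460f594c280b314741020e3630201c1d150d, false, 15, 1),
  (0x3d0c55566812067b23137a36430b522d0a26712f664a247c185a0960252137006a4f3f74220d756e420f33644b075d62344e7d50384519322a6d76025872171e655b51441a40031f616c5c3e6f772b2e57112714296b10491d703c4c7916475e78052c014d20731b480839353b5453630469673a5f46592831410e301c15, false, 16, 0),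
  (0xb742a6e6a0655763d0c1356717d7c7a29347b1c646051390a664868124a43783b2123225a2e17367752492d243326735d2f6c1a750e18375f1109256f4719004f793f040d1f420f454b0715623e4e5850384d326d0272531e655b593c444003615c67312b2c5727146b101d704c165e0501201b08355463693a46284130, false, 17, 1),
  (0x7d225f363b552a090b740c6e7b6c39136d5d76412d683f102964146a06607161704a3d5a665819563e7c537a51493457261c4b0d17460a430838481262401878213c23052e0f77520e24333073152f6f1a752b3711254716004f79545b041f42450720694e67504d3202721e655944035c312c276b1d4c5e011b35633a28, false, 18, 1),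
  (0x220b4f407d5d36133b5f065e2931615747396e2f3800553d175141584a542a0d093e497421280c7b6c593c6d2b0e1e76782d683f1014690577646a1d60716770437c5a6619561c537a12253426374b4d1a460a0848620f1863423303232e2752243073156f1b750411021607795b1f45204e50327265445c2c6b4c01353a, false, 19, 0),
  (0x3174777b09364f6a220b5f406e683d06487813356d585a164738117d5d00292479543b21514d675e37611857553c39751e2f12190c4c172a7246414a2627690d3e23492028536c59142b0e3a76342d603f106f05641d711f70437c443366561c7a25502c4b731a0a08620f6342032e5230151b0402075b454e32655c6b01, false, 20, 1),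
  (0x7422432731787b0609775d4547152475713d402d4670363b0c55354d54444f196a373c0b3e015f6e680323486f1463130d6d585a16112c206c387d07002973792a612151675e2f18574a1d391e05120a3f4c1772412653695c1c0e52492804592b3a76346032106664621f257c33567a504b1a080f422e301b025b4e656b, false, 21, 0),
  (0x22091c29743d2775314354300c4b191353244512385c783c166f2d0137527b5a066814772a6b5d471533617117572540794670363b3534512f554d42444f326a20030b3e5f6e6d23480726630d7258663f112c6c7d005e734e591d7a216708184a391e050a024c284162693a0e49042b766010641f7c56501a0f2e1b5b65, false, 22, 0),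
  (0x4b772f4706271c4d2209432945703c547d79755b71010b69533841743d5c0c4a0e52312a6f663230721973137861244c2512075f5d2e167b1f112d370d08345a682114766b2315333517576540634644363b0a5155424f046a2003561d3e6e6d4826101a581e3f2c6c005e4e597a671839050228623a492b60647c500f1b, false, 23, 1),
  (0x702a1f300e1c2f2d4b7709477507694355254d0f1374145e7d716c0627014548595c226f38443429633c04540b73793f245b176b327c530c623b413d406e164a521d3139663372192e78611b4c65120d5f5d587b113708675a68214903762315355702604610360a51424f6a20563e6d261a1e2c004e7a1805283a2b6450, false, 24, 1),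
  (0x76f6229592f1f41702a77304d175e0911242d645406314f5513510e1c74753520014b38710d16476569674314042536790f7866343a7d45005d6c274c2353485c0322264419633c7c0b73503f1b5b406b32460c3b3d6e3e4a521d7a213933722e611e0512025f587b37085a684976155760100a426a566d1a2c4e18282b, false, 25, 1),
  (0x6f7052230724290959621c6d556035366e5e305b5d4a2f4b3414640d017a1f664165042a5c2b774d17490311467c5a2d485406314f51052663130e6a747502204569387116470f6743273d25790c78586b3a7d006c4c19531872731522440a3c0b503f1b402c32393b373e611d21332e1e125f7b086876571042561a4e28, false, 26, 0),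
  (0x602a634d4129520e6f70622330064b1c6c48094e110d383e6e5d3b07244a550b1d7a595c1458026d0c3553362f035e325a5b27167756341f083a6401790a05666522041e2b67174951467c282d255474314f4026136a7533204569767371470f433d5f10783f6b7d004c19187215443c501b2c393761212e127b6857421a, false, 27, 1),
  (0x2a6f450a60484d1c4163242e6e1b0b32754b23543a202959772f4e587a7652160e0c0370651a62300615226c4051180966110d383e3b101e175d07614a553f1d1f355c14026d5b5336016a5e5a26277d3156340864796705570f7c3c042b394946282d25747b4f71134c333d697347435f786b00197244502c3721126842, false, 28, 0),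
  (0x1b7017300e4d45072a6f630a230d592464661c686c585c33753a136048206e46697641652f7d3f2e260b053229224b4f185401026221775219564e7a5a3910160c04035f1a5306153b405142095e114a383e741e5d6155471d1f35447c146d5b366a6b2c272d3134087967570f3c2b4928257b714c3d7343780072503712, false, 29, 1),
  (0xd65192e6945174e1b706f301c0133635d18073732600367646c080e4d5823360f202a2f3a4a100a5e5947245c0566314b68401a3f72756e4c3e1348096d7746767c41287d15260b212922124f42545a02622752567a392b160c0473355f53063b517b78116b38741e61551d1f44145b6a2c2d3479573c4925713d430050, false, 30, 1),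
  (0x651b0c6d0d182e6369194d49642c3631393330543e16452a3f5c374a2073171a4e5e057076506f1c01447c5d27211d074632600367087828266c0e5758236b0f6e592f3a100a684724487a664b5240740272754c130915774306225b417d340b29124f425a71625f56612b510435533b7b11381e551f146a2d793c253d00, false, 31, 0),
  (0x1b69062365336d310d0c206a3f111a07153649406c431805672754505e5b2e03630121196e004d642c355939752451300f3e16452a37423a685c4a1f7317714e284470766f1c327c5d57091d464c605f020878260e580a6b250b7a3b2f101e4748664b527479727d13617712224134294f5a62562b04537b3855142d3c3d, false, 32, 0),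
  (0x4b6c7b7a670915464f5a104071225253137c2a17364a7938180a352403215f14543c2f74073d0f27085d6e6f0d0b754c344e7d6826321f764301451e20723f30585c11311a661d69634d2b483a3e5b2e2d04336b290056492562237060414742370516390c656a1b775e6d123b73570e51195064785559061c2c61024428, false, 33, 33),
  (0x75791e5f7c6f404e7d245c0d49194a6b385e064b64026c50662b2f00550e7a676e70357b460161650c21542747521c725d4425785b6a30594c515811227704763a10743d7371693c6d0841123e4568202d631a37626056180536281d5a571553424f4d2a1609483943143f32333b0a34312e2c2926231f1b17130f0b0703, false, 0, 0),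
  (0x197b4c656e401e587579245f0625505c625d4e072700743f3864437c6f024942330e7d462b20040d454a186b6c545e481c4b0873610f667a26632f553e153067705a3531013c0c216a47520372124422785b16595111770a763a101f283d71696d412c17684d2d1a37605605361d57534f2a093914323b342e29231b130b, false, 35, 1),
  (0x2546260d331e4c2f197b79654e083f24511c58136b7c35566227376e4000066d3602752b6422305f12500a5c74185d2d5e07470104233849145b436f727166420e287d4f2021454a0f6c540b48034b3e7361687a6355155767705a3b10313c0c6a52092e442c7816591177763a1f3d6941174d1a60051d532a393234291b, false, 36, 1),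
  (0x46197071251c0d243326405362176d2d153f654b5b671e7504741322023b4c012f12187b0e1b794e081f2851680f7658426b7c3556372e4f45276e0500062c3649502b64305f070a5c6f555d5e7a47167323381443722166340c54697d201a4a6c0b48033e396131631157525a103c6a09447859773a3d414d601d2a3229, false, 37, 0),
  (0x177b454e2f0d706e46192671657c75404342243251222b57155b63251c67626c5a3b330e74162c537a6d662d1e283f61764b6f30791d044c772313025e1a2e01127d18091b0a081f37680f29585d6b0035563e4f2705063c3649503d54645f075c55784d47487338147221340c69204a0b0339311152106a44593a41602a, false, 38, 1),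
  (0x7b46491a17424e402f451c6a15036c610675716b23360d33791e32163b3d70306e7a2819122a26657c697d433e3734240151222b57634d09085b25526762485a4c6d0e742c534b662d02053f764f6f38351d0477135e0a2e41070f4a181b311f6829585d0059566427723c5550545f5c78477314210c200b391110443a60, false, 39, 0),
  (0x462f07627b751a6117493b0b794730240a6c6a6f5b414228573e6b2a7a4a4e2b407c37454c601c1503546d06042d55715a23360d33325d744b1e160c3d70596e096919122665517d43525e340177226435634d0825675348441f055c0e2c1466023f764f38111d1b13722e290f183168580056273c505f7873212039103a, false, 40, 0),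
  (0x47454b15401a0716462f49626a36283b255a6110062a192e0a5b137b754179020f4a174c3e64590b77304824426d6c1d556f52261c20574e3c636b7a01145d2b7c0e3758607d035432042d3a7134233d0d3338741e0c70316e09695f05126551435e56732276354d086753441f5c2c663f4f111b72291868002750782139, false, 41, 1),
  (0x45460914475a153b404b75680a4f021d70286223636e1a171c4210644a5f072616776d2f7c39496a365c0e25383244612b062a192e137358035b7b294179760f4e304c3e590b6f48247a0c6c5574524d0d20573c6b017d5d78512d6637601b54043a71343d2733121e67315e6905654356223508531f2c3f117218005021, false, 42, 0),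
  (0x4f2f036a1615097b45464b14622a17756b2b3b5025644c3170631e475a6e0a04695f407c424d766874025d1d1a0e283344237a5949181c075320104a551b732677376d563948365c13383221616c0641192e3d585b2979650f4e302c2d3e0b6f240c351152710d573c017d78516660543a342712675e054322081f3f7200, false, 43, 1),
  (0x2a7c5368690903104f2f466a3b7a314b5b447b721d476d7d6b253c1615646224516e4542634173146c1765754c5d2b0d28503839761f700a672e1e5a610b1c045f2d403a4d5c7402181a0e003321235559495207204a1b602677370530564836133227220635193d5829790f4e2c3e6f0c1171570178665434125e43083f, false, 44, 1),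
  (0x7c4f770b2a44684b695315546b11240d1b316a232e260945764c72416e050339106c5d2f5f3f463b7a2c2d5b52180f7b041d476d7d3c223a74251678646235510a17426373145065755a4a2b2807383d591f70671e615c1c43360e6f404d57021a00332155124956202960323730481327061958794e3e0c710166345e08, false, 45, 0),
  (0x112f743b106877167c4f530b6a4745151e044b5e5b4142601b2e202a44266b1a3705695f4c3d355407241c0d092d31490f235a7346667603791f726e285722396c405d273f657a2c3c5218087b2b1d646d7d553a25786248510a173e0e631450754a19713833597067615c43366f4d02002112562932301306584e0c0134, false, 46, 1),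
  (0x475f795437777472112f4f3b4b5a6053250f16010d2a5d5c1e5b671068416a7536267c4c2e64220b2b454815421c0459315e523f354e1b6b297d20447b14761a050e69003d2c072466092d3449082328734638031f6e574d396c40301727657a3c1812061d196d553a7862510a3e63504a71337061436f0221563213580c, false, 47, 1),
  (0x5a4c290b36747920475f2f5416525c4f1f31725815106962250d3a37772a4b3c0a41112e5b28763b08604d535d480f6d0401093d22321e6a6146676849651b7526177c4a64242b454e421c0c59345e7b3f351d6b7d4414631a050e6f40002c07662d332123127338036e57396c30277a1806195578513e50717043025613, false, 48, 1),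
  (0x522e613b0a7929675a4c5f0b7209622f7d04205653377c571f150336741016666c2a475b0d7b1b54345c634f694d31730f5842647643254b78353a77592c1e3c4140111828450860325d48136d0c01493d22236a466865277526173e0e4a242b4e1c19715e333f1d6b44141a056f00072d2112386e39307a065551507002, false, 49, 1),
  (0x2e5a262c52043b2f0a61747a1f21667365620b01357579477669567b2a3e296467344d4c41025f72096f407d23321a203c53377c57037118081536391016336c4b5c5b0d1b5458634f7768310f6a421d3d4325783a59451e502b4807112838605d136d0c4955224a4644271c170e244e195e3f6b1405002d126e30065170, false, 50, 0),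
  (0x214c0872673b26362e5a612c0b3747743a3c2f517d7b5b276535465204751f5d173e0a41691d337a6a661e73794062221a01771b5f3076291443562a0f38716434114d190263096f03233270203153107c574918153916246c4b5c00480d54584f683f12426d3d25785945502b072860130c554a441c0e4e5e6b052d6e06, false, 51, 1),
  (0x48011c2c5b4d246f104104575509765a1911537921080a16650329736b2e54173d644a0f7d4f32725127586167385200126e263f1f31361559567a1828630b35232b1a422d464447055c70370d201e074c335f6d7802254b3c773e063013661d627b71502a3a346c3b691440490e3975450c6a1b436860225d2f5e7c744e, false, 52, 52),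
  (0x306e68570a1a4b47070f6b336a443641422b1e67481c4a25650515612f10663d34351b282162702c79161d045b6373065074247154206f78697a726d394655035c49122a7c2943765e3e3709130d580e01321f3a3b2d6c771126644e3145274f52080b401819233c4d7d59385f60022e140c513f567b750017535d4c5a22, false, 52, 53),
  (0xd411c703f40246f75021e37677a76396d1f4f4a2008711165174d2f5860255c3e5e0b2d316144320a3c52531b156b00630f266a1645361a485733427c78795d3554383a6e3b72473d0343565914622e5a09272a12012b4b5f77050613696c73047b5146191864495030212966104c0e7d0c5b552c680722231d3474284e, false, 54, 54),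
  (0x512005223f7262524f02421d797a461a134775684155713b186a345b3d21253c3014502d3a030148645c6f6e16772a28355749171b436939320f2b1e6c096754635d66315311401f58614527075e242e7478566b1244337d5f151c066d367c102c7b0d760c650a260b3e602938734e0e4b192f08044a597023374d5a004c, false, 34, 55),
  (0x16362306671d5b6e2a5a1e2c3f22397660694f556c64796665686150636d5f5d5e3e7774314d00436a14461a26626b4458011b0a0d2b4153274e56104704715c34303b076f38097c033d3233593c152e02724875290f4551250b7b70131f207378054b521918087d2f5421121142280e490c244a37173a7a1c40352d4c57, false, 56, 56),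
  (0x1439084455462636074c4f434a57477c42277371457b6a5f6523505862101135033d5101132f7a093f49041d0b4d1e22150277673c6976402070376d6e1a0a345e16292a4112336f5c5d722c217d610e28566c3a385a1f24664b170059482b6b53685b7818190554630d313b2560742e300c1b79321c754e64523e0f2d06, false, 54, 55),
  (0x546f174e6a53517c3a016b560a00413610451e3f2723555f657b624d504211033534264c21150637710d4078245873702f2d5b79306c6e041f22096076524a3d5d7d2975471232393e5e2c721316630e0f4369073874200b661b0857312b484f4664771d18191c146149593b256d5a2e3c0c4b6733052a44681a5c28027a, false, 57, 58),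
  (0x31230348454f563a5d3d1d1a272f60425e61405f2001504e654c697a58765707106d0b7c0d1f38771209514b14227d29630f303b133f5a37702533392d5962757b72446f2a6a5405021c4324781b7918363c676e0a0806534a32472b164d6c492135522c192e647371260400553e170c6b0e5b6646685c15411e74342811, false, 14, 55),
  (0x7847743f707d776f107b212c06797639075859574d282229650f20481f3a385c3e5e5b236b6c6a5600461430262b310a69171b4404627c542f4a432a360d7a5d031a25606e5f0941343533324f52452e05725042666815513b245a677363611316024b3c19184c1d27531e111275640e400c0b4e37016d712d493d1c0855, false, 60, 60),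
  (0x797d3677755e5f6b7c1e551b662e6772564a0d6851056f355b474b01701d40784e0c52243a035c49193b10381a6d32067664026c502f2a3d692b00230e7a096e59217b46616544542711601c5d3725392d6a304c582271040b5341347473293c08123e45201363576214184f285a15424d1648433f330a312c261f170f07, false, 35, 0),
  (0x7d7c537a794a7772753670315b16780671671b252b0b5e52501a68030c345f6c6b196d1e590755662e5a215630274f0d6e51056f354b4546444701331d40134e3d3b243a5c49641038232232764c02572d2f2a69000e6509173c60427b614354111c5d3739266a7358140412417429083e2063621828154d483f0a2c1f0f, false, 62, 0),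
  (0x161e44666b7753017d7c367a1b055270006e721f56032404712b58794a0b5b11413475591a5713314c7809065e21676a4f25235c550a505f182f680c7643456c197b6d3e07102e5a4b30270f0d32511d6f353946473340294e3d3b15603a496438226348025d2d2a690e65173c4261541c372673141274082062284d3f2c, false, 63, 1),
  (0x559183141534468161e7c6672230436474f013f06796d650056696b77031b383c0b7d1a2b1d457a3252297024096e2d671f30071328715b1435584a0d4950113460751c575a4c780a5e212c6a0f25765c55025f2f0c43616c197b743b3e102e4b27262051636f394633404e3d153a6422485d2a0e17425437731208624d, false, 64, 1),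
  (0x231a147a3c44185805591e310130657c2f676862706b7540470646415379724b3d03162b567650660f0461366d294f6f6e3f5e574512001b0e5569776a1071380b3b7d221d7832522824094d2d2c1f0d0713515b354a493a113460427b1c5a4c0a215d3725265c025f0c436c19743e2e27206339334e1564482a17547308, false, 65, 1),
  (0x302b0e663d181469231a597a685e401e356e587336417d432f705f3c446b010a19790556060d71312c653a7c7561675c4f62241d50174772331346532d5a004b037b162776520f04126d29086f4d3f6a5745251b5577103e380b3b1560227832280963481f5d07515b4a491134421c4c213726020c6c742e20394e642a54, false, 66, 1),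
  (0x2b230b5a306e661e3d0e442e2f370a5c10407a3f133818055075730d7915141d692c611a035459685e427b35251211584b36417d435f48270f703c6c6b015d19726556067131623a7c5377674f1b245157174733462d52006432294c167602046d086f4d6a394522554a3e093b607828631f075b49341c21260c74204e2a, false, 67, 0),
  (0x233d32012b405a5c300b7921501f1d58520a2e2470646e6143253f542c4c667d1e5e120e722a442f37606510477c097a1913381805734d0662750d341514396927421a035968367b356c2d114b334122575f480f3c6b315d2004772856715b3a53674f1b510c1776464a00082916026d6f6a45553e3b786307491c26744e, false, 68, 0),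
  (0x1f0e622f1e5a320d233d0b012e3861793c195c7410541a005270462b40645053294c307225223921331d5d586e650a1709246c59441c43663e5f3f2c4b5b4d7d5e56126f2a7b376073477c4e7a11131518055106753414026927427877036836352d4507414f57480f6b31200428713a671b0c764a08166d6a553b634926, false, 69, 1),
  (0xe23275b1f192f791e62406d521b5317146101135f695a30446e74224c7832590d33653d5e260b2e3828563c5173205c7d10541a0046076f37702b0864504f29661d72253921245d582c340a09066c48181c433e3f4b7b4d63367c3a122a7660474e7a1115550503756b022d427768354541570f310471670c4a166a3b49, false, 70, 0),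
  (0x231e36500e615b171f274c674441595c7b536d6c7063196500511326333a2f1a79387362664940521b771d1443582d01295f695a30741125246e22047832550d6f283d5e0b2e10563c084b207d3e5403184607372b64214f6a60343572390f5d2c0a0906484a1c2a3f6b4d4e7c1276477a150575024268455731710c163b, false, 71, 0),
  (0x1e1f60322353505c0e36334500151a01215967546e6a617330436c4938355b5a171b58276f3b4c444112287b073c4e6d0d7063196513065e105126423a2f4a792577626640525f1d1404642d2937692a1874112422782e550c5d4b473d0b755608207d3e033146392b6b4f0a34720f2c09481c3f4d7c767a050268577116, false, 72, 0),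
  (0x1f0e5d2f1e5932012360387a30485a6d2e1a4569510c53586507543b1b4750195c413c36251633001572772111140a67796e6a61736c3e665f43497c355b31175e12276f4c4470287b42784e0d24633918130610263a524a5756642c62403f1d042d29372a02740b226b55204b3d75087d03462b4f340f091c4d76056871, false, 73, 0),
  (0xe23565b1f1a2f6d1e5d1b0965031967525a7a634357593c73116916412c3261011514605e713830483d122e067b204517510c535854376f70073b344750025c6672362533006e77217c3a0a79106a0b186c3e5f49354431051d7808274c2b28424e0d24394d1340266b4a2d64623f04292a7422554b757d464f0f1c7668, false, 74, 0),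
  (0x3607030012f563b0e235d5b7a0c3c1b49176d762e16364a5243261f1a576542642c1e5e110b02091019316759125a1320637c33380f7332556c6941792b3761152714297177483d54067b68450a51475358396f0734503f5c6672757825006e213a74466a0d183e5f3544051d084c284e244d406b2d62042a224b7d4f1c, false, 75, 1),
  (0xc5e550964567069036023306d7c4a5d07203b4f671f1444492e5f012f167a211d570e114347375b0a3c3f1b363117185a760671024b52656b58261a450073422c781e4e0b3d10190f59121c1368637933386a326c412b4c6115276272297748547b4d2a517453396f34505c6675256e3a460d3e3505082824402d04227d, false, 76, 1),
  (0x5e0315000c20095d64552f28494621182b4a30635861560e02364f4757627071690a31602c7d236d7c7578076a0f5c3b42671f14445f2a4e102e0105167a741d653c1143375b763f1b1a41175a320639334b526b26453d730448126e1e0b3e19591c1368794038296c344c7b277277544d51536f5066253a0d3508242d22, false, 77, 0),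
  (0x4660106d690915015e035500301f0e2f26425d2d0747114c2b586c0c206149592762642c363974283221731856784a385c631a3723080270504b4f575a3e2a710a1e314d7d3f7c755f6a0f223b1767161444794e2e057a771d653c2512435b761b41530d061333526b453d04486e0b191c684029347b7254516f663a3524, false, 78, 1),
  (0x70616e2607346b3559663224175b1967775727147202486379394268432023367a0c5844757d0305221255132809373f626c0d7c3c7b3a1f781a4a742c714e3029763b5c462a605e492d0b2531331152454b693816516d151b2b1e1d044f6401535a731c543d0f185d500a6f082f400641473e2e6a100021560e4c4d5f65, false, 79, 79),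
  (0x5b436715002d27497563252b0f5854486b036d50244d7b42074674024a4f1e5e26477d1a59704c561d6f220a516a604e68574161766e5c64341c7c664b173f3316353b0c1f3820363c453e1b310b0813780d722a1828775d736901530e37395f5544325a1229403d7a092e19101171212c3a3052142f650405066c622379, false, 80, 80),
  (0x2c4b44583f17695475625f207b15491f6b396061372f0f1007406808704f7347335e3078314a1c1b52350a22327a6d7974715d503d34365a6e4c3e66432d00263c6f380c483b2b5c166c7c56590902131a14772a192372411e2705042e24032506675164122946766a0b0e18421157215b3a7d1d0d4d655301554563284e, false, 81, 55),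
  (0x145d4c4a0046373575087324446a3d0360484f702b025711652d2f4d156d5f367c4709175950675122161d0456586b3f627b337a3c6c5c781f7126103e1a4e416f493b3a3438775e76394b1b310d630e640b692a12052043257201551327451e530f324018195a54617d212966421c2e300c2c065b74070a28526e682379, false, 82, 82),
  (0x533e174455540934100121244a57033d3a623179501c6a126505456927073841477c374c6b2b2226671d1649566c597a4874333f1a585e7d610651755d3c0a3676042560355f775c6f6e1b4b4f40200e0f0b4d42112d63433b2c08001e152f131464320d181923461f787366292a022e520c72715b7b6d4e683039285a70, false, 61, 83),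
  (0x55a307663725c5d5970093856797d77151d7412444164201f492c4b4f5e2967211011603b190b1e5f35652d7b2313573e6a78477c223f45400804686c2b0c5832752618060f34072a2f030a434d6e625b27311c52256b362471663a53697a0173614a1b5117396d144e540e55372e6f0200160d42503c484c463d33281a, false, 4, 1),
  (0x7960401e215c3004055a707674782009523e5d282d4b26541544146372415673555e593b49620c384d7d367764651d3913122f060b3d1f2942272c4f437a3f671053110219075f35227b231a570a6a6c477c514508682b2e5832753c66180f342a03164c6e4a5b311c256b24713a6901611b176d4e0e376f000d50484633, false, 85, 1),
  (0x783b42385530402c79605a1e5d2f5470081304467763116b522d1c215c4b742a71410549446c3f760a202e0926363e5b1d287b190c5015564e7c1472570f1f735e66596162354d7d3d646533391a1243060b6e29274f7a69671053377502075f222317006a16475145682b58323c1834034c4a3125243a011b6d0e6f0d48, false, 86, 1),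
  (0x2f494e7671404214783b6038047b6b5a271d2c0d0921592b0877455530635d22324b79442d431f1e1a546970112e13473e4664623f0e5274250b1c5c3907152a417505036c7d0a20502636485b332857190c6a567c720f18735e663a5361354d3d654a1b1217066e294f7a671037025f2300165168583c344c3124016d6f, false, 87, 1),
  (0x7b44251e32424e1c2f493b762c642b607c3e146d7055057a270929714021043d1063782d77571538336b185a59691d06130d266c1f24085d680c45305b3552224b53792343201a540e112e6f47484639623f12740b5c07022a41753c66037d0a5036164c284a196a56720f735e3a614d651b176e4f67375f005158343101, false, 88, 1),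
  (0x642d6838104e25457b44491e14267a3b0b131c315a71790f7c70563242552c505e212f7709395276482b026005183e191d6d1143155827044f3f2940477d083d636678655754336b24596901066f0d5b6c1f285d0c303561224b53377523201a0e2e170046166212745c072a413c030a364c4a6a72733a4d1b6e675f5134, false, 89, 1),
  (0x2d7b4b7d6413383b1068424d7c4c5019357a1e0d3f224e2f15053139213725434548184463344914263c660b28242a1c3d5a71790f56006533703273552c165e042b770952766d026040303e1d5d11126c58274f294754085f1a690a78576a6b5901066f5b6e1f230c5c612e5375200e17466274074103364a723a1b6751, false, 90, 0),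
  (0x7b101a2c2d7a7d19644b21361546431c54504d11705f13180f280d34480a38793b2624680451427c4c752b3527602e1e5e3f224e2f316f096d05394137256e45653c446349145a660b73472a3d4f71236c560033325576161b6b300e77527402403e1d5d12725857295c080169786a59065b1f0c615320176207034a3a67, false, 91, 0),
  (0x10646b257b502c1c2d1a48170f5b791e76433671051b7a242f271151260e7d4e194c604b6567211546783c54000b014d45705f13180d5d635a2834530a38723b09756804427c3f2b3541552e5e3322576c316f6d3937146e4a02475944490c66732a3d4f23075652325c163e307774401d12582908696a061f612062033a, false, 92, 0),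
  (0x642d02381043251e7b6b26062f124e4d14791722284a5060180071674c592c131c460b1a093a480f5b7775766f353e363b051b7a24114f043f2751690e7d071963784b652115703c54533701456d5f526c0d5d5a340a7c72626655406842292b412e5e3357613149395c6e2a47440c733d2356321630741d58086a1f2003, false, 93, 0),
  (0x121a3f0f1c250251642d6b38171b6026343b1e2076674b6e14283910434a2f4147597b09005207066d4e724d507579313e225321486a182c160d714c45294f1346680b3d3a3c5b77116f35033601050e7a24570427697d0c1963787455651570543756585f5e6c5d5a0a7c626640422b2e3361495c2a44732332301d081f, false, 94, 1),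
  (0x1b09160647023f71121a2d0f1e536e6b273e51084d100b7c34765a1c25671754664a6400280e4f3801600c264b723b6c79206f3a0730142f5c2439433615184159557b2e52776d4e6a50751f3103224521485f2c0d4c294213466844783d3c5b1135612305567a5704697d196374657037585e5d0a62402b33492a73321d, false, 95, 1),
  (0x91246151b3e066b4716252b3458546c296e0f2224130264074b080e4a443f3a7101721a591d2d1e537455275f6a1951414d100b7c5a232e6d761c62671756662f6000284f38200c26434c3b792c6f572130145c39367718735b75707b525d4e501f31034549483d0d69423568783c1161057a047d6365375e0a40332a32, false, 96, 0),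
  (0x581a6d1e7106461c091216150f10642539416b2a270e004229240d1b3e133450684447594b57562b2c54186c02556e481922434f2d40073f7d30084a795d233a017b72611d0c53745a5f6a32513b4d670b7c452e7662173c662f606575283820264c7a5e6f3121145c3677735b70524e1f03493d69357811050463370a33, false, 97, 1),
  (0x10597d2b68466d08581a121e6b43421676191c0a6c1b727739275c71060e0f265b13094b246723153b643c25001841216e2a5f1d56632934697c0d3e513807504475471f57742c5440025533483222794f2d6f3f304a5d523a017b7860610c535a6a49054d7a0b452e6217662f6528204c5e31143673704e033d35110437, false, 98, 1),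
  (0x434b69155b6d7d0d10591a2b1c5f7712306e080425714717766c2e68461b6b5a2f0e58242779071e32425216723c190b410a02572335390f362d5c06480c29261360094c67543b646300183721332a511d564d347c3e3828504475707b1f742c4055310322494f6f3f4a5d3a017861536a057a45626665205e14734e3d11, false, 99, 1),
  (0x5f24361e2f7d695c434b59150802171a7c410d3d1668095d30253f5b6d711c40011b10276c51292b3377281247526e4f190400670773766b62562e462174395a0e7b586a7964324235723c110b370a485723220f2d060c6126136065754c543b63187a5e2a311d4d343e385044701f2c5503496f4a3a785305456620144e, false, 100, 1),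
  (0x227622b0169362e5f244b1e0d005d592d195c14125b58387c16342f7d6808634471436c254839153717611a0928411d6e3d72792966301c4a233f6d0b5476401b751055514233777347524e4f11042167072a6b5646741f5a0e7b78606a6432353c49050a7a57220f060c2613654c3b185e314d3e50702c036f3a534520, false, 101, 1),
  (0x53742f2a45127721080e723218204425670a71062643484227224704025b5034230d3f195a66510f33577d053e460b35591b1e015638113c797b762d31172e54495f6537096d52364b301a1d41136f6058706b5c151c24646c3b62696814164e737529034d2b39784c2c5e1f0c7c3d107a634f6e402800073a5d55614a6a, false, 102, 102),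
  (0x7d0e6f5c791f77682810321d2b147b6c486e18076476382d2469115d613f4630627a2e4d19423e3d1a51533a543c4f4b5a294e4a0f6d0c5f452f21584139605756502752406705361e130373315e445b6620710d4c753b220a650426432c783572081555596b09121b7034166374497c2a470b25171c6a00372333020106, false, 103, 103),
  (0x1a6f0f5544304b3660683132000a477c75622170502d4e3b65024520272a2935033d1b641e2b672c22787d0d771f133f48230b7a53616e165871723a761457345d401110416656393e5e37097304690e1733636d251c4d5b1226284a6b152f593c4c2449181974526c1d4f5f3807052e460c5106435a426a01545c087b79, false, 54, 61),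
  (0x4947052271040b392a2d730979066e6f60206b0a1f173f11650858154d6d253e5c5d240259634e334a301a464b2f4f57612851557d277c522b003210361d675e03143807763b2c41343556433154502e74374575124c481b5f5b1c7a216c691e402326531918680d623c13296642010e160c776a72643a707b783d5a0f44, false, 105, 105),
  (0xf0c37262b230b400d66321779006c7b3f2c182578096063241c421b5a480a577a62650219114b034a5e555f4e444f3e6175541a7d3b0e3a71067374367238303370676a68272041131e3d2131513c5b1005452816296d15462e085c436e643539042253596b762a5d50344c2d58017c124777071d6952146f1f564d492f, false, 104, 106),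
  (0x147201545087772126321762b2f2c3738056b46231d48422e047422023b074b261b244d592d54561a574a0a3e064f305a0d5e530f677c6a79143266411727513d006025096d6e3634353343314e7065586f71292a163f5d3a5b6962737b1c13681f5c55191840287a441e751011490c4c0e0b5239785f506c6403617d3c, false, 107, 107),
  (0x545e010a575309032a171e0b4e5534356d2b6b22482d0011650215582f605f7c3641370831627926707d7840434d4f715023320630693e1d203f51425c524447390d3b073d385b5d6e6f1b4b5949610e68246c75121c1f56252c4c6a214527734628330418197414631613296610052e3c0c727a775a3a4a0f1a76647b67, false, 83, 57),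
  (0x574b7d52544a39032940130b301a353438716b6267583c102e617a2d703b074736416e783122455d2f010817325a4f2b066943504e2351687b273e661b0a147c094c605f3d6d2426372c5c5e590f020c1d5b0512751f1c563a6f0d4673793f216a1633641819634474281e2a42116c65000e7615774d2553495572042048, false, 108, 109),
  (0x7024300416717c5d3b4659510d405e3e296a1e614a6249600e2f57014412756f7639411a134e6934585a7b230928731f0048726306645b1c686c03250b3f7d6e567410665c4226774332353d21024c0c521b17380727082c2a3614786b0a5531673c37051918157a0f2d4f3a6d5f2b65222e474d4b50111d547933534520, false, 54, 110),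
  (0x1d415a7122165b39422313727a676e6f3a4d3100580f702965281f2b2007383e5c5d777b4f6955435753543c5148594a6c084b4e40503614150a56757c49065e3552256d765f37473d0332336b1a272e1c2c621066642f263b0b74791e6163217d2d1b301918017845467311122a680e040c2444094c603f020d3405176a, false, 61, 57),
  (0x163d5a3f701d565d3a234f5106793e5e421f1e4e2001225f654c4d625810666e7639437b13610a7744301a467250736a636409000d48035245555b6d35047a6f7c1412755c291b3441360b2421542f2e1c262b073808272c1132746731696c6b782d375319180f7d153c593b2560170e490c33574b282a7102404705684a, false, 54, 109),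
  (0x283d4d272f68562625694f3e5045514b661c13307b7d62072e0d5a222d114237720932201e025277144e556a760621467404393c4c67030a791a24383464152c474475121b2a5c3541360b5b735770651f5d715f6d783f6f104363483123056b08586e4a191849017a0059603a3b400c0f0e33545e16292b61177c6c1d53, false, 108, 113),
  (0x1d03237a7916563e605a312671705d5c2a61130a63086738651769486c7529396f6e43741e1f4e774a523c542c2b2157200f375540623d302f005b0734493f76475311105e664b3536410b247346452e0251506d5f01157212327b224f4d58597d05091419186478271a6b253b3a4c0e040c336a1b6842061c0d7c2d2844, false, 54, 84),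
  (0x5239286a4e3c1b7c6d645933574a41362a5013226202443b652d271f4575290335344b6873487972701d16495b2021712b7b24064663767d4d3f2c076e54003d5e0411424766436f5c5d09371e406c0e083261602505587712510f0a4f2f153130010b0d18195a1a69786b5f383a1c2e530c267a567410554c143e172367, false, 61, 54),
  (0x47c2d6706490b6e42052137707139763a63594e614c7a1265016c2769073b5d5e3e241c6b200a3344523c541b45316a1f68260078154730505532754116225c3d535f6d6f257236353456434f462b2e7b092f101117624b385b023f73584d130d5a511419182840481a1e66292a080e1d0c77572c0f6079747d0323644a, false, 54, 116),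
  (0x64475848500f0b37666c736e2f2b097225745930020d15752e7d053f235f60264b515b1f6b7b5233140a00575c7931461c1d5d3c087a7c4e061a43124128621b3d4a07382c3a7636343556324f6a7165203970111040225e6d246127212d5a1e4c4d3e4419181617675513422a29780c680e77546f493b45630103690453, false, 108, 117),
  (0xc2370723d26562d68552528186900621052362b6d1d123f384b2f0d4f4c06507b42071365157a430b545b0a276135711e664a247c090144035a60462137206a320f7422756e4e3364026b5d34147d1b5745192a76584017305e5c63511a3a1f6c3e6f772e411116290849053c7947782c4d7348393b5304675f59310e1c, false, 17, 0),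
  (0x691303437b5670600c235572364a3f25761e2d0e0a0d7449106d293d261d186c3c4c68654b1b202814001762125b5211352b02757a59380639452f4f343a01504251072c15330b540927611c715d6621247c2e445a4637476a320f535c226e4e646b73677d6f57192a5840305e631a1f3e774116080579784d483b045f31, false, 119, 1),
  (0x130c323a691e43257b03267810776c11373f7266456a56687a120e1b4c53707560145b23423155364a6351762e09302d500a0d744929672c0b6d3d051d186f3c0600654b20282b17624f465235440219245938392f343301044e611f07151654271c715d21487c225a58476b0f5c6e64737d572a405e1a3e4108794d3b5f, false, 120, 0),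
  (0x77230b366043323d130c033a720d68262f50253b761b654737455a691e6a10270f537b4212196f78446c011156513f7c30664f2055797a7040590e4c3516677514075b7331174a63292e095f2d520a1d7449212c6d05186e3c06001a614b282b6246574102712438393433044e1f15541c5d4822586b5c647d2a5e3e084d, false, 121, 1),
  (0x2313061677503626600b1e64375d277c18683a0a593c437b55563b19531a32203d44510c144d03720d1f072f2129042575761b65475a41734a45696b6a10710f706c42126f786601114c053f302c4f3874797a400e3517673e2b09545b3122632e5f2d521d2a494b6d346e460061286257022439334e151c48585c7d5e08, false, 122, 0),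
  (0x5d0c4a723d36066923130b163a1b7b1e0e75265e2f19426e18596d77503c372e001a6014563871642c27677c43076849040a4c6f035c553233793b5330224120445b51574d010d1f5a212908253f766a65471d73456b10280f706c1509127866110524484f2d747a4035173e2b5431635f522a4b3446616202394e1c587d, false, 123, 1),
  (0xc2370225d75721e3d4a506218522e49107b1676790f366003435e381a15066f692c0713447d0b3a1b545b0e1d5a3e26202f19426e6d48570d5977463c372d003227145671640a677c536b6804734c7a655c55333b3001411c662963514d4b1f2108253f6a394712453528056c097811244f7440172b315f2a3461024e58, false, 124, 0),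
  (0x233d66370c7b22495d701a5f034f6f26012e624c591c75076e1d767d2c6372421e1b5a4a3258501852092710557c051600790f36605e3f560a43382b15063969575413440b3a2f5b0e46303e20331912656d480d773c642d021f6b1114714067536804737a345c4d3b35410829514b21256a4745286c78247417312a614e, false, 125, 0),
  (0x3d5d1f06232e37260c662c246e6a4216646f5f1943027b5a60554c581b11223649527c70574e1a034f515401480e086269591c75077673442f1d7d6c6372341e56094a3250187927102b3c05000d0f4d655e3f0a38153a392a673021130b455b463e203312176d7177352d686b144053047a5c3b41294b25472878743161, false, 126, 0),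
  (0x6a702f0349371f7d3d5d66065f1c5a2c3869263101584a2d644377232e026e466b110c57554d34240d4239167b546f6d08192b501a786022415e4c1b0045733652137c044e274f5176480e6162055963750712441d6c72401e56094b30321879103c5c470f20653f0a153a2a67210b5b3e331771356814537a3b29252874, false, 127, 1),
  (0x1c5741246b1f2f4c6a705d03262b2d661d087d2816237c3a38010a4937585f1067023d5543637306055a402c4a3969656f31484e3429646e3507772e6218604611300c3e4d510d42787b54746d611900501a0f225e1b450b365213140904274f760e177a595c7512446c721e564b32793c47203f152a215b337168533b25, false, 128, 1),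
  (0x576a52181c0824666b41375b38471065452d031907361f3d344a286302142f4e4c05397011255d262b4b301d0f781e7d4616237c3a0a7a3e0d01492a585f5c676e5a5543730631402c2e1b696f2248125029643577625160534f54790c4d3f427b746d6100711a045e6c0b0e13092776175975447256323c20152133683b, false, 129, 0),
  (0x6a6b4f5f572d18651c52023c34594e7d51105b48015308393a0f19250579247c662b78416e3b373847095a45642c0e036707361f3d286143314a6356142f714c3e4b70115d2616301d2a621e46352304500a7a0d4958065c33421b76557344402e696f221215294d776c6074540c3f7b6d001a5e0b132717757232202168, false, 130, 0),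
  (0x6d146959712f424e1c204016085f655d51440e1f731334543a2967233b79332b4c7c1a5046054a1e5e4b455a6f775b68193f5c484d313022283762566b2d57661d0926117d703c613e3263386e6c2504410b060d74217a362418751760011002724f644312150f3d2c355549390c077b6a0078470a5327761b2e2a525803, false, 131, 55),
  (0x6e5e0e2b605b1522051220043f3b1b590d147c7d1c004d5d7651433347137a0a39266b5370287942211168746d2d7b6f163e3c44296a5531521f46245a1e0f3d497258656656574b307125034536401d78505c3417480738625f2f1a01024a323575230b63770637184108193a6c644f2a10092c54674c27612e4e73690c, true, 131, 2),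
  (0x5d2b7b06791a2c171b49012e572664466a35146d4f03194c4e6f6263305559477d360e455f21715660391320514169653d660937741f5e6e5a1022185002071d4d16053a541e4a5c6c08242a28612d722f777c320f31277023332543585248383e1c75786742763c156b53121144295b0d0c0a0b4b343f7a3b0468407300, false, 132, 133),
  (0x3e271c223f4609645116282e444b171a4a3d306d6b34190f00762f4d140a31360d470e4825136732606e21691b7c206535112c72026c5c392d100618157407046349233a3c736a5e1f68772a01585a37622441564c592b7a05435f336153453b5d7b754071426f54504f52296657120b7d0c555b26037970381d08781e4e, false, 55, 134),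
  (0x42b7b33073926761b545937102c6f407263584a306871124e645a354f5b015e7d5c0b6c0552192a0a1a616b752753001f66242e783d473c625770425016791d2f025f3a49286d36453409561e13486a4d431532112541223806317714212d230d1c51744418176e7c20694c0f6729553e0c600e7a083f4b735d03463b65, false, 135, 135),
  (0x1d411c77793c7a64756e256a572417742e2f1372583444296576481f200e1e363e47553d386971565b401430512b214e450f433746635c494d674b187c543f5d5a78313a02594a5e2d6826323b526c6d3506502a66051533737001094f61625f7d7b1b1610426f1a27536b1112194c60040c0a0b2203072c280d08392300, false, 135, 136),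
  (0x7b753a15195d655c6e4c6f34382a424877505f446376407d616c07200e1f1e7358455479700b2406251d5a62166a054e672700743f4317310c647c3202494d337a4a462b040d4b186b55115e1c59081a780f66262f3e3c301b695253350139214703721222295b3d51600a411028716d2c682d375636574f09143b2e2313, false, 36, 0),
  (0x756e69497b501548193a0e4f6168734e3c423408641b5d543f16440b455365745c256a4c7a136f382a284a77666b415f336376407d07122b4b6c20361f1e2958311d79702406275a62323e056726003d7843170c7c020d4d2e21116d46043718555e1c591a140f012f6030035235394772225b510a10712c2d5657093b23, false, 138, 0),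
  (0x6e19211e7542494e7b69452c3f22745f0d734f006c2e506a7d660813256d1540482a6b3a31230e6168351d3c1762033458641b5d5444597027160b105365145c2b284c7a6f38634a77360241330c76017807124b201f062909183e477924515a320567263d5643047c604d5e114637551c1a0f2f305239725b0a712d573b, false, 139, 0),
  (0x197b18656e731e5f752125727d1a403406742c761609426b541700232a47495d4e6862692b3b453f2246280d12775e4f5c6c2e506a08267a636613526d15564870353a310e61641d3c101f03584b1b04784459270b5338142d5a02554c6f2f4a3641330c010a0724206029053e795132673d437c4d11371c0f30395b7157, false, 140, 0),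
  (0x1a69633f4e1e1813197b21652c2e6b250b5c5f710d233a290616206e73097d363e47752b170456724b401434422874075e76100e453954494d44002a582f265d684c62673b1d2246081277574f036c6d506a017a6652155148703537023161643c1f430f1b3378592753382d5a556f4a410c0a24600579323d7c111c305b, false, 141, 1),
  (0x2e2b4d723e1863001a697b3f5f102921665e1330346e62380b0d274e1e232c3c5a091917166d2665036b51253a145c787471123b5611067d606a20734f6154364702754104464b403942285b075776580e451b49442a2f6f5d684c7935671d2208770a3d6c4350017a521548703731641f0f3359532d554a0c2405327c1c, false, 142, 1),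
  (0x101760655a634d202e2b69721312387b4474007c254e751566347a3e186e5f0870231a160d58543f57296f2162515e505c30420426050b2c5345271e071d063c0935191f6d40036b113a141c785b714f3b566c7d6a736131364702554c41464b3928330c760a0e1b492a2f5d68796722773d4301524837640f592d4a2432, false, 143, 1),
  (0x172e471d1074657b5a601864663d0850613872714536631a26627c5823554d042057512b09326913127935446c115d003c254e75157a0c1f03343e486e5f0a702c29160d543f306f211e735e5c7d421b3b050b53270740064a4b1422196d016b3a1c785b4f5956416a2a3128024c463933760e492f6867774352370f2d24, false, 144, 0),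
  (0x3d2b03132065473e172e601d724e1a18273c7b2d4458163161456a107436663a02555a09621b0a647d080650633538565d711e546937264d2f057c235c010c0457195133326f12797a6c1124005e256e75154f1f34485f46702c2967140d3f3021730e4342783b0b5307404a4b226d6b1c5b59412a284c3976496877520f, false, 145, 1),
  (0x4e092f640247037c3d2b2e137b1e3160345d3e525010514027445320655872214b361762456e0c1d5e1a461816063c3b382d6c320a6861662a156a74003f263a55145a1c1b797d083763350f5624715c5469424d0523016d0457194c29336f127a115976250e754f1f485f702c670d307343780b074a226b5b4128394977, false, 146, 1),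
  (0x41622452795b3622231e27506d69654c2b29171614263d4d7b703f0e6163442c7c3a1f66510355673e594f5c191d531c2d6c080b4071002f024613337d0f111a3872737a49561b777443583b01205f785a3048256e0432760d6f2868345e2e103c4b0557540918073764216a6035395d0a064a2a6b4e124715754245310c, false, 72, 1),
  (0x696602677c36241341621e5217084d276e2d22315c0e73212b1437795b266d3c60632351707811502065764c3d4f29185316434955427b446b303f61012e002c3a341f0a03773e5971191d0c1c3b6c7d0b40542f46330f391a387212287a561b74584a155f055a482504320d6f685e104b570907646a355d062a4e477545, false, 148, 1),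
  (0x8516b506024023f696662672243211e465313754c791f326e5c257c360e17746f264170147d00523b4d392773762d5a29311903114e2b6d6440375b1c567b3c6328234b78592065423d4f45180c160149555f4430612e5e2c3a3435720a773e711d09066c4a0b542f330f1a38127a1b58150548040d681057076a5d2a47, false, 149, 1),
  (0x51693a560853501e606b36106e15745a2e216716402c24411173757d263502033f3b766663476222431228465f421a133c4c791f3225064b205c7c0d0e174a6f6d4d701400523139275b612d29441954494e2b64371c597b5d3e4f1b237848653d45180c0107550a30335e1d34727771096c0b2f0f387a58050468576a2a, false, 150, 0),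
  (0x156620223f503a7c51696b5667794136373c1e6a467d705e2e403008532c6e3d3435606373544a1044747b5a242821551a165b00626811020f4e7526294806033b23760947394312255f422a132d4c0e1f32014b5c0d17776f6d4d7a4f14523127610b051918492b641c595d3e1b7865450c070a331d72716c2f38580457, false, 151, 1),
  (0x2e2469494e5f3600797d1e770d02355558766b0f38017b18565162755e056608281d7c3a4739091b376704726f104a63326811615c1f5b403f6a4b705d292a780c74524d0354193b2f1a6d07061c640e6c50203d2b237a156e59210a414665442760482c253e2d304c22710b5334733c12451357144f5a42164333312617, false, 62, 1),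
  (0x247959292e7649554e695e42564508637a3577646a6e5f7c5c6f0f391d0a36610037107d0c171e0d02347458202f0b6b7838017b18622c4d1951754f05663e2840673a47091b68047270234a323d11306c1f5b3f4b5d542a31446d3c5203573b1a07061c0e4350462b2215602141652748252d4c7153731213145a163326, false, 153, 0),
  (0x794e4466243529632e591d125c25616b540842115131761018206417373c497b55022f6940265e564541677a5b726077286a6e5f7c0f1c47686f39530a3643004d347d0c1e0d3874584f5d0b783f01466c622c1975051b3e163b23273a094c04704a323d30141f034b222a076d52571a060e502b152165482d7173135a33, false, 154, 0),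
  (0x4e2e3b367908666b24443748180e7b771b6112016f16352f7c5b11260227295f634572594d331d5c255234542c5807420051317610643d0c382017213c491455474169405e566a677a53056028196e036c0f1c68390a0d4313045d1a7d1e2b744f0b783f4671620975223e4a233a4c7032301f4b2a6d57065015652d735a, false, 155, 0),
  (0x2e2404494e613677793b02067c305f420d7b486e20130872102c0133451a66766b255844475a37180e3a411b1c7a4a12556f16352f113f406a5b266d272971630c52594d1d5c513454210a07006831096c643d38173c56142d740570695e4b675360281903150f1e3922430b5d7d2b4f784662753e234c321f2a57506573, false, 156, 0),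
  (0x30446a186b3604262e243b4948167202175577651b3359430d20394e61137c535d1a79472c097106685f144208417b0f4a6e211d375710663e640145004b3f76256958785a340e3a111c7a7312076f27352f03405b6d292b630c524c054d5c51540a621f31286c3d383c562d74705e676019151e220b7d4f467523322a50, false, 157, 1),
  (0x442e0c4b305518026b6a614f0d19530f2972496f64633679370865091a4c041d2668412425503b481670691703112d77761b335943391f780e204e0b137c285d665f472c71066e1442456d7b4a40213d3557103e0100343f32517a67585a1e3a1c73120727752f4d5b3c2b0a52055c5462316c3856745e6015227d46232a, false, 158, 0),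
  (0x2e6b517c44724b0f300c1a6037311d7734534f212032554143036f50686718590216116a662a610d19055f2910420a495d6463367965072c6e0809744c047526787024253b481b69170b002d763e334d35391f0e4e130628463a6d5447713814457b4a403d22575a013c3f737a581e1c12272f5b2b525c626c565e157d23, false, 159, 0),
  (0x6b303a042e537c774451686243275949061d6033084672117910212a16544b360f19420c78231a37315870341f17734f26203255416f40251b035052671822022c056a66610d645f2974130a5d0e635a3565076e094c48751514001c243b5b690b2d763e4d5639714e3c287b6d4738454a3d57013f7a1e122f2b5c6c5e7d, false, 160, 0),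
  (0x270c1b370f7c3a506b305104603211680926775e342a6a2806084e2e5346430b6d544478105a22620e59754972701d39733374611a5c794b3f6521165d5b40361924424a235f31586f1f177d4f0a206755414d2503521838022c051e00660d642913572f637635076e4c4815141c3b692d3e56713c7b47453d017a122b6c, false, 161, 1),
  (0xc6b2c5b272637680f1b5345063e0b391811042065027c441a725e5a541e3a61500e7030196c5160321c24094d6f157736342a6a284e2f4a31082e7b4643766d4b597810226233754916521d73257407555c793f215d5f4012641769422371581f7d4f0a67014166034c381305000d295763356e48143b2d563c473d7a2b, false, 162, 0),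
  (0x3e30316050372c2e0c6b1b5b042a44532136687a095a7838186503272602061f051e0f1972077645250b40397c2411411520162251471a3a485c5e5473712f610e4270576c75321c4e4d6f2b771d34466a28674a087b430d6d4b593b1710623349523556744f55793f5d5f12646923587d0a01664c130029636e142d3c3d, false, 163, 1),
  (0x2a194845052c315e3e306b606816381b08152e3c3927705f21093f50375a044964020c7265462f5b1d440d5378403655117a4d6c761418064c28032677621a1f1e170f7d071c250b477c243d412b20732251743a5c547123610e4200595775324e6f016334356a674a7b436d4b3b103352564f795d1269580a6613296e2d, false, 164, 1),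
  (0x193e0e622a15451b05483758215649557138602028612c0c76783c460200316c5e1d40301e2d6b68163b170874476d2e1f3927705f3f637d250950125a043564064472652f5b7a0d53265436113a4d672214184c03771c1a293224330f07790b7c3d412b736651575c7b236f4259754e01346a4a434b10524f5d690a136e, false, 165, 0),
  (0x563025685e450e50193e486260270c37031f1b130846722371285c2a1561217c4200051e786735583a491a552c1738516d20262f6b69763143143c021179636c1d0f40012d0d163b3f74476e2e36395a705f737d091204756406441024655b7a53546a4f4d4122184c771c293233070b3d2b66577b6f594e344a4b525d0a, false, 166, 1),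
  (0x30190679561f68375e25154e712b7c51040c6239146445056b2c136700100e2f503a173e1d0a486027330f03733f291b6c084672235c4f0116282a6f6121414231491e783558201a550212386d7d2618706976433c110d63527a470b402d573b746e2e365a4a5f650977755444245b536a4d224c1c32073d667b59344b5d, false, 167, 0),
  (0x195e7a21300c79515606003d6b4d2f1b0d7c4e2628521f172373390a3a0b687237273f25315d15712b244904765554624214644505133678202c6732100e4a5001333e1d4860080f036f11296c434665705c4f162a615841343b12531e354c1a02386d7d187b692d3c77636e474057742e5a5f0975445b6a221c0766594b, false, 168, 0),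
  (0x2d0f126a1f023f1b16251a5c4a5348510b28542b7c73301723523a55390d6837725079066c424b672677787d410a4e2c5d596d092e4f104958627140361c6b276f433e5b2f60755e0701291131333c65663d13562a572076345f7a4d634c35000c226404187b441946241e6e47326174055a3b4508691d21380e03701415, false, 169, 57),
  (0x1a6c187b77461451090e645e562d34121b317106175f43022e4b134e28380b7c582c070c01270f75504f2268763e2b6b701f003f5339112f4a08304d26105b3b72152461631c5d4720253c4259796f0d1644552932695c6a5a5465057a4567213a046e1e7d19662a574c4823334136406d7860620a3703744952351d3d73, true, 169, 2),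
  (0x4287b123f492441087452376766016e64314a2144687170656d1e2c57603b0f423d1d5a142061160a4e4d731b2713545335156b782f473c0969335d7632793e5c465f393a2272104c3443406c1f48051962262a117c502b067723386a5830635b0e51002d1817564b594f7a29365e1c0b020d55457503252e7d070c6f1a, false, 170, 171),
  (0x400f2312710d0b47175a1a0979664c7668590a134e643f2265607372006d3b2810347874541f637d4a44581e4b45211446032f4f1d154130376c325e6e33675c3e535f6f07702c42013d560469202b1c19505175113662487a5b7b38554d3c61770e2657021808431b316b06297c5d05242d496a272a35252e163a0c3952, false, 57, 172),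
  (0x335d7b0679244941087457277122034764546a6b14606738656d1a0952685f367c3d0d5a443c73404f6c1f612f375531303a2b21771b6e202c59042876563f345c583b4c3566505e393e7d164e4d510e02454b1729427215127823704a4653000b0548630c182a3226690a25110f102e5b191d136275017a1c436f2d071e, false, 173, 173)]

/-- The chain. -/
def twoUFourLevels : List CfsgLib.Golay.Bsgs.Lvl := [
  ⟨0, [0x533e174455540934100121244a57033d3a623179501c6a126505456927073841477c374c6b2b2226671d1649566c597a4874333f1a585e7d610651755d3c0a3676042560355f775c6f6e1b4b4f40200e0f0b4d42112d63433b2c08001e152f131464320d181923461f787366292a022e520c72715b7b6d4e683039285a70,0x7024300416717c5d3b4659510d405e3e296a1e614a6249600e2f57014412756f7639411a134e6934585a7b230928731f0048726306645b1c686c03250b3f7d6e567410665c4226774332353d21024c0c521b17380727082c2a3614786b0a5531673c37051918157a0f2d4f3a6d5f2b65222e474d4b50111d547933534520,0x1d415a7122165b39422313727a676e6f3a4d3100580f702965281f2b2007383e5c5d777b4f6955435753543c5148594a6c084b4e40503614150a56757c49065e3552256d765f37473d0332336b1a272e1c2c621066642f263b0b74791e6163217d2d1b301918017845467311122a680e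040c2444094c603f020d3405176a,0x283d4d272f68562625694f3e5045514b661c13307b7d62072e0d5a222d114237720932201e025277144e556a760621467404393c4c67030a791a24383464152c474475121b2a5c3541360b5b735770651f5d715f6d783f6f104363483123056b08586e4a191849017a0059603a3b400c0f0e33545e16292b61177c6c1d53,0x1d03237a7916563e605a312671705d5c2a61130a63086738651769486c7529396f6e43741e1f4e774a523c542c2b2157200f375540623d302f005b0734493f76475311105e664b3536410b247346452e0251506d5f01157212327b224f4d58597d05091419186478271a6b253b3a4c0e040c336a1b6842061c0d7c2d2844,0x64475848500f0b37666c736e2f2b097225745930020d15752e7d053f235f60264b515b1f6b7b5233140a00575c7931461c1d5d3c087a7c4e061a43124128621b3d4a07382c3a7636343556324f6a7165203970111040225e6d246127212d5a1e4c4d3e4419181617675513422a29780c680e77546f493b45630103690453,0x7847743f707d776f107b212c06797639075859574d282229650f20481f3a385c3e5e5b236b6c6a5600461430262b310a69171b4404627c542f4a432a360d7a5d031a25606e5f0941343533324f52452e05725042666815513b245a677363611316024b3c19184c1d27531e111275640e400c0b4e37016d712d493d1c0855], [0x7d7c7b7a797877767574737271706f6e6d6c6b6a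696867666564636261605f5e5d5c5b5a595857565554535251504f4e4d4c4b4a494847464544434241403f3e3d3c3b3a393837363534333231302f2e2d2c2b2a292827262524232221201f1e1d1c1b1a191817161514131211100f0e0d0c0b0a09080706050403020100,0x533e174455540934100121244a57033d3a623179501c6a126505456927073841477c374c6b2b2226671d1649566c597a4874333f1a585e7d610651755d3c0a3676042560355f775c6f6e1b4b4f40200e0f0b4d42112d63433b2c08001e152f131464320d181923461f787366292a022e520c72715b7b6d4e683039285a70,0x7024300416717c5d3b4659510d405e3e296a1e614a6249600e2f57014412756f7639411a134e6934585a7b230928731f0048726306645b1c686c03250b3f7d6e567410665c4226774332353d21024c0c521b17380727082c2a3614786b0a5531673c37051918157a0f2d4f3a6d5f2b65222e474d4b50111d547933534520,0x1d415a7122165b39422313727a676e6f3a4d3100580f702965281f2b2007383e5c5d777b4f6955435753543c5148594a6c084b4e40503614150a56757c49065e3552256d765f37473d0332336b1a272e1c2c621066642f263b0b74791e6163217d2d1b301918017845467311122a680e040c2444094c603f020d3405176a,0x283d4d272f68562625694f3e5045514b661c13307b7d62072e0d5a222d114237720932201e025277144e556a760621467404393c4c67030a79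1a24383464152c474475121b2a5c3541360b5b735770651f5d715f6d783f6f104363483123056b08586e4a191849017a0059603a3b400c0f0e33545e16292b61177c6c1d53,0x1d03237a7916563e605a312671705d5c2a61130a63086738651769486c7529396f6e43741e1f4e774a523c542c2b2157200f375540623d302f005b0734493f76475311105e664b3536410b247346452e0251506d5f01157212327b224f4d58597d05091419186478271a6b253b3a4c0e040c336a1b6842061c0d7c2d2844,0x7847743f707d776f107b212c06797639075859574d282229650f20481f3a385c3e5e5b236b6c6a5600461430262b310a69171b4404627c542f4a432a360d7a5d031a25606e5f0941343533324f52452e05725042666815513b245a677363611316024b3c19184c1d27531e111275640e400c0b4e37016d712d493d1c0855,0x16362306671d5b6e2a5a1e2c3f22397660694f556c64796665686150636d5f5d5e3e7774314d00436a14461a26626b4458011b0a0d2b4153274e56104704715c34303b076f38097c033d3233593c152e02724875290f4551250b7b70131f207378054b521918087d2f5421121142280e490c244a37173a7a1c40352d4c57,0x7b6e156c585a4b325f456b366369335666012116283c613a0e54684a0811420b5b2426481e17782c49677a06346a13046446357d054e6f70441d093b76744d775d792a1243757c395e3e3772733f0a652b4700256d525703101b5020310f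4c4f2d2f3d221819141c557159600738530c232e510d4130291f62025c271a40,0x545e010a575309032a171e0b4e5534356d2b6b22482d0011650215582f605f7c3641370831627926707d7840434d4f715023320630693e1d203f51425c524447390d3b073d385b5d6e6f1b4b5949610e68246c75121c1f56252c4c6a214527734628330418197414631613296610052e3c0c727a775a3a4a0f1a76647b67,0x552c491a144e5e363b1d31433c527c471222732f065830602e61797b3f292a34033d5c041371486f6208014c771c1e2767690b154a0237282d2b7625724454352617101141425609514b6e392164230c403374383a1f5a24755d16536b7a7059000d5b0f1819630a05684f076d5f6c656a0e3e50324d66467d571b782045,0x1b161a140a6f35290421243c52033d383f4f50794d30422e630602223b3a417c47761d5970275e154c170833746b487a6c5662447b266423455c664b4a543637016d5f34600b5109723e5d31282d0c78771c122a200543073949531e677113557d32681819614e5a0f737510116965570e6e2f5b5825460d6a2c401f2b,0x145d4c4a0046373575087324446a3d0360484f702b025711652d2f4d156d5f367c4709175950675122161d0456586b3f627b337a3c6c5c781f7126103e1a4e416f493b3a3438775e76394b1b310d630e640b692a12052043257201551327451e530f324018195a54617d212966421c2e300c2c065b74070a28526e682379,0x143908445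5462636074c4f434a57477c42277371457b6a5f6523505862101135033d5101132f7a093f49041d0b4d1e22150277673c6976402070376d6e1a0a345e16292a4112336f5c5d722c217d610e28566c3a385a1f24664b170059482b6b53685b7818190554630d313b2560742e300c1b79321c754e64523e0f2d06,0x572c4030464a3e47257d6b56523c4136117913273f691a072e20225a0666100334355d0d737a506e2b4c17085b2d212f705824454e0537641c62393b720a533d26012a127c754309514b6f761e28740c4932235f6d637b0b425c78543171674f6a04776818191f44020f59603a384d65000e5e48336c29141d551b166115,0x403602797a0d2476101c1309223f6f6e0761314463010612654c69456c3a3b5e5d5c0b054f1f4a324e1a30144b275955206451571d2f413c626a332a477d703e34465f6039252c7c033d43566b53482e233715421108501b38772d711e4d58214974265419180f042b5273662975170e780c5b0072286d675a16357b680a,0x670b1a0d787a415c25144f5104493e5e660021204e2b40070e2755170a11426e39767c30734a5803697b5a74096413636a50721f3f28772d0f4d343b24061d6f43232a295d75265b56333d351e05080c3c1b015f602f4c2c104746163144576b7052370219184571681c596d3a386265792e366c4b48127d532232541561,0x4543571701503d72750a1e760f64372c6d306b2d3c224c110c70521d1a602551261b344a59467b36022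04d635e784f0553673e5a2b0d32587d1c7c103315284b77693b0709386f56245b4147316c040e6a6e492a293f165d5f3500681354147362445c6119187a27401f21126642712e4865037439063a084e2f0b557923,0x7032460d7871036f11301e2c044939765f0a596c554840750e454e280025605d3e5e34146b5763411f74237b1b013158446226690617430508617c12333f1d5c775a3a386e0772565b2436474f2d0f0c54096466421568516d351a16136a4a7367534b1c1918277a4c0221102a295065222e3d20372b3b7d52790b3c2f4d,0x2b246a01172f474b074e6b5c6828261b10301e233c3f085f0c7152041a426609372c4144134602357b1f58616f40735a537a6e05457d5b4d0d74036d77626472336c297551125e0b4332343d21691d0e573e163a3b2249391136550f5954144f154a766319186748782031382560702e27657c1c5d792a4c0a505600062d,0x792452491d06473e25546b26400d5c5d6657131f4448043a0e456a084a1110766f6e363c1e0a4d356c23745a3768216155622c20710f5b0228583d3b0b7a7839567b75295e2a517743323403731c170c304b4c5f6d1501724241537d594e004f221a092d1918273f6405316007385065672e7c691b2b1216467033142f63,0x83420504801321b3863593e27624b51127473530240456d2e78057123292a2c0972564d217b142452554e4476671e3c1c163946640635007a5477253d4c2b37416a106626425c03477c5b0b134a3f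65585d223b070d706f7533692f6b2d5a31281f6e5719181d68790a4f3a605f7d0c170e431a5e0411156c0f36614930,0x2d764863201c26433b5059366c615633126473401753696d0e524c000f297577245b4b1513284909787a6779344e1e7d01303504746a3971550d2c5f6e051f0b5e06106632427c6f5d5c7237212257652f474a383a540a032a5145584f0868317b2b3d3f18191a5a44706b0760253c0c022e1b1d4146114d27233e621416,0x275600084c62342c2a4a736e28680972603c4f02307001110c221a78526d2526514b3d0a3153237c2d1f58615d1d6b1c46795c744849334d16053642322f0f1b5b6c3b3a373839430b7747415969400e55760d7529717d5e5f0357642114541e504e3e63191806450420131266103f2e2b65355a6f7a07174415246a677b,0x64356c2f270f43263b58595e4815514b292d731a5a1d2b602e047b791c1275377209336121053c5b464a5700393f1e14230d76520870344422300b5f0328452c360a42111b105d3d7c47247713556765635c7a383a16066e2a561f506b7402314c696f4e19184017716a4f076d25490c680e32533e7866622001414d7d54,0x147201545087772126321762b2f2c3738056b46231d48422e047422023b074b261b244d592d54561a574a0a3e064f305a0d5e530f677c6a79143266411727513d006025096d6e3634353343314e7065586f71292a163f5d3a5b6962737b1c13681f5c55191840287a441e751011490c4c0e0b523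9785f506c6403617d3c,0x68036915452856513b4d315d2b2f261b29021e527478486d2e40236705122a092c373263131c3077530a00576f7173547b496e1a17223d4e703c245f350f27727c4a10114b425e3436410b5b216a7965613e0638077d7a76754320624f5a2d59016c3944191804083f556b3a60250d0c640e33465c1d66501f4c47581614,0x67331404167a346e121a212c0d40763938444f4d575049420e154a646a3b075c5e3e034631551f7c6323745a1b176b690a2b26583f0156024c20411132067d5d5b7b6d5f6f607243770b4736591c680c5309282975450f513a3d307873004e1370544b2d19182f7108051e2a10664865792e35613762251d3c222452276c,0x87c63272f01772c1120736f504572095f2d59545a16622a2e497b671c256d1b514b24696b0546563c6a444e5d71315223405c146422475770533229364c152603553a3b37073941353433434f0a79656c760666421d7a3e605b4d482174021e28615e0019180d683f4a13107512040c170e0b306e7d382b580f3d1f781a,0x163d5a3f701d565d3a234f5106793e5e421f1e4e2001225f654c4d625810666e7639437b13610a7744301a467250736a636409000d48035245555b6d35047a6f7c1412755c291b3441360b2421542f2e1c262b073808272c1132746731696c6b782d375319180f7d153c593b2560170e490c33574b282a7102404705684a,0x715b467d40707c5e5f306b1b1d165d5c114e1369002778070e2b0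a64556642396e6f41141e6a6134201c2d022c17214d4a15376c7901245a4c6303387722047633052a123e754b0b3243353d7323680c5451282560620f0910361a495957444f7a53727419184867087b316d3a3b2f653f2e471f2645290d5206563c5058,0x465c084e6a14373d424c130b0a0035340750596762055512651c276c453a3847413609014f48705179787d0d436931062b5a3271524d5d16637a262a5e304a7c6e40256d035f5b3e39764b1b6b041f0e28245810110261563b721757732f15215468334918197b53201d1e6629752d2e1a0c2c3f77236044643c6f0f7422,0x7a77141d4967413e381a311b7d785c5d124a73586a2f16600e624428572975766f6e7c4621002003612d1c052c011e6c4e45374d22170b7b081f345f5b790d39320210115e424b2433563d3513740f0c5351643b072b68092a4730404f550a5971547223191850704c5a6b3a6d252765062e3663261566043c3f43524869,0x135632b6208324b5f206b5d15481b26117b21141c0d2f072e7d2d065a664272372c56697374532430000a4a6f22131a021d6e540f7134553f46773b0317500936577529512a5e3d7c475b0b1e447a656c3e67256d40797610334d455905234f6861396a19181628704e31603a38780c4c0e433c5c4912275864411f0452,0x78357b06677d435c6d7459513f225e3e7563214a6117793865086c2b692a296f3976565a7320445b0a1a3014724813001f28096a0450343c1557773a3d0d716e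414611425d661b037c47240b1e53272e2d2662605f4c2f2c123323706b584d31161c37541918681d45524f253b07010e400c32554b64107a054936020f4e,0x303e0f6a4e1a723d75681e77574a353460456b7a27744466655a6263506d254741362c643115711b0649041d32614f792f1c4370541f5e406c674b105d46007c7616383a033b245c6f6e2651597d4d0e175b202a292369335f37280a212b4873524c567818192d3c580d131211427b2e140c09220b02075501533908053f,0x5a6f454d697b4b33381531471f58324329171e786452206d0e530f4e4c127524770b26502101162c4070713f0300730d28143d1d024a6e670a7d092539236c5b5c221011564241763e5e37721306446562366a3b3a3c55342a1b48616b6808591c2735791819462d577a4f07605f540c742e51047c1a66632b055d2f3049,0x4d4b7a1c0220395b427913355a7b0b77071d310178442d120c4e7d3c163a383332436f676b49685d4c62272b363059170d0a4128614651451a085e7526697456722f5f6024253d1b372c5c3e4f15542e71035310666a527c3b6e0623734004211f7047481819005814501e11292a550e6365760f34576d05226c093f4a64,0x587267747b1f5d32600659360502563375042117404a23380c0a0d3c492a12775b245e7a1e160f3908154845353013017d4e34646346092b1a4c6f07376c1c0b4b5011424366472c261b766e7362542e707c536d25575203293e792d4f781d3120713d2718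19554d142f6b5f3b3a000e61655c68416a105a3f6951224428,0x743927586c231b32382f5941204d33562908731d681a1f600e46284401122a0b5b245162134c7d7204223f7135571e490f5434782d0a76794a1637256f7b69773e7042114310476e5c5d092c217a4e65507c553b07306a3d754b2b634f641731054503671819530200066b3a6d5f140c5a2e264036526661481c5e153c0d,0x1c5d484d692d2c5b125013341f58770b3b4c4f040f1a20420e46644a17383a563243091559080d4b1d3f2270366a6b1668544140234e5c06444926665e026c336e71605f246d3d3e7639511b31670a652f0300297530574707724561732801215a2b7c7a1819537b55791e2a1011140c052e37783552256327746f623c7d,0x4e371d5452555e7c5f496b334614364166711348671f533a2e6c7a027011423d35345c1673222f6f452868642474215006635b2b577b2c0823157638096a1a031b0f7529472a32724b516e391e4c2d0c7d431c2560580577105d043031793f4f0a780b17181969005a01596d073b6165440e3e275620123c404a260d4d62,0x581b06052d1f6f77106721037423245b3a78594c1d4e02120c4416307d073832335639794f0d645e015045487c3c3108494a470f6353262752175d2a516c5a432c155f6d0b25344b09723e5c6b2f142e3f35464266551a363b767a7b1e0440132022412b1819574d5462731129756a0e61656e283d00601c706937710a68,0x4a5140141a573935117d7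35b5354033d25223145061f46752e6c79233f5f6d417c476e0d6b71625d4868280f5605591567633327552d4b0102503e122600523672643a3b3407771b2c375c5e4f177b0c490b5a6610587432606f783c137a701e4404434c1819696a1c0821422a2961650a0e762b242038301d4e09164d2f,0x554b1d3c534e7634664973241a303d035f7a312b7069522a2e20711c67256036477c6f166b79155c27174c01337b59623f5856484a74510f5a2f5e291b44464109080738353a0b26372c5d3e4f68050c7d77021142632d436d6e04141322061e0078322818191f0a2364211075124d656a0e39455b6c3b544057720d6150,0x20377a052d4d5e4307796b3674233356427d7328160002250c571d537810660b245b5d671340086f0f48155035461e64046a34016c302c2f1468396072635a7726452975321247094b516e762127522e717c3c3a380a5403115c067b31490d4f58703d621819441f1a2b593b5f6d4a0e69653e4c414e2a1c22611b3f5517,0x536e014a005451416d173143446a7c472a1521062f745738655a2b6c487512343d0326081e453f377a0449160b691367271c77221a4d6f0d63790907393c4e355c1d6642361133765e3e2c7273781f0e685658605f236124291b4c556b62505914285b7d18192d4620404f253b3a7b2e520c4b703202100a0f305d640571,0x2d5c506c581c2c771148730363695b242508590d683061750e14284e015f6d43335609454f4c044b7d0679674700317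80f537c49744a5d3f0a4026293e054d326f7a07380b3a355e3976511b6b70446527346a66421a5536607215201364171e7b6241711819545a572221102a12460c022e37163d3c3b1f2f236e2b521d,0x220b3c407d3f365e3b53312649045d5c295573630a500d6d0e15004c4e122a396e6f475221446c3d4d74237b370f1e20572b2c617a6877056469352524711676435a42663e10515b56330334132d010c1a4b08383a451772757c541d4f4a6a597930091c19182f0628026b07605f4865702e41581b62117814673246271f,0x691b3f021c636e5b2a701e3423740b776d164f087d4a05110c0a781a1d605f33324376225904283e1748155041526b4c404e36681f54262f3c015c10514d7b562c45383a243b034b09725e5d3127462e063d1475295730472539715a210d497361797c621819556c532b13126642000e20656f64356a072d6758377a440f,0x525d64570a3c2c03102813776a4434353a2f593f157b4a29652348202b073b7c3641720f4f27064b71044916321f31704502437946615c0d58221b753e5455476f1d5f603d25245e763951266b78690e4c5b6342665a4d333809684e735062213017567d1819051a6c401e11122a742e530c37670b1c6d0008146e012d7a,0x4e5149463055763d121d1377545334353b796b153f6314422e4d227406383a7c41366f04317a2b5c500f646843024f45701f322f571c4b1705485e11266a3c4772286d2503605b1b2c375d3e59015a0c40247b292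a692333076e1652737167210a0d5608181958002d4c1e7510662065440e39620b615f1a7d4a09786c27,0x574b7d52544a39032940130b301a353438716b6267583c102e617a2d703b074736416e783122455d2f010817325a4f2b066943504e2351687b273e661b0a147c094c605f3d6d2426372c5c5e590f020c1d5b0512751f1c563a6f0d4673793f216a1633641819634474281e2a42116c65000e7615774d2553495572042048,0x615122235a6c7624107113340205770b3a40310f040074290c5749140d073b5643326e3f6b7d175c2815484541545968166a364c4d524b2b53643e2a1b1f2d330950256d5b5f03262c375d5e4f62302e793d1a42110a4647386f701c731d782169067c27181944633c2f1e6612754a0e58653901354e607b7a2072675508,0x1556550117483572424421396828372c3a1a311c527908120c673c7d30073b51261b034e4f145a4705616c1f3e16590254705e7b620433691d2d412a3245644b5b582560095f6e430b777c366b4d0d0e006f40106606785c383d6a0f735346132b0a5d201918712f49631e1129757a2e50653423763f6d4c4a2724572274,0x2f436a4c082b032c104e136f640f0972075259051a6717120c7930163c3a3b26514b35446b5474411c6369205c7d312d14225d235040326c780247753327681b774d256d375f7656245b367c4f58490e57390442667a1d3e383455281e465321484a5e1f19183f150d617311292a062e62653d7b6e7160010a4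50b00705a,0x502457084c457c1b6d0a595e2868514b7552135a1a7a01380c0630493c2a29370972364a1e541c3474616c1f760d2123143f392d2f785b69407b3d0777480f2c3358661026115c0b43323503734d160e6a5d1d602567046e124100646b46533127446f20191822627d634f5f3b3a792e156547023e7042174e2b56557105,0x2b324e680f2f03092a6a1e3901082c3760546b74147a28660c064640536d5f4b1b263555595205415a6c61583e044f7b1a3f5e02451643634923474256624c510b1f383a723b6e335b24367c3120780e0a6f7d7512670d5c2534441713303c7315005d4d191822481d6921291110792e27653d2d767007645750774a711c,0x50320a2864453d374257136e080172093a46597b533f68290c71540d1407381b4b5134006b302d3623581f6c5d4931743c7a5c1c2f1d4320045a7c2a564817260b615f602c2539335b2441474f637d0e4e7678101122405e3b354a4c1e521a2127553e6919186762164d73661275702e156503056f796d0f6a2b77440602,0x68414d2b6228240966691e761548372c255a313c2d492f2a2e161c717b5f6d511b2677204f231a32544a57003e67595305785e30170636447a525612470f504b340a3a3872076e7c3d0343336b553f651f6f22114204705d600b63451302747301585c4e19187d08796a211075291d0c640e5b14390d3b27614c356c4046,0x1c39501f612d265625484f474d204332112813490154583a0e3c086a686642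5b0b774b457364400916717022034a211d171a3d0d2300767a57042c386f0263243e3f2a293375416e5c5d72371e79556527364e5f6d53443410511569594c0f6b5a6235061819307b0a673160073b520c052e1b7d7c14126c2f745e2b4678,0x1f26675a23586f2475061e351c2d770b600d4f6449557b660c6a0453406d25564332397a59784c5e6827622f36466b281d57411769301b50140f5d424b610533372b3b075b383d5172093e5c3148522e70033c2a124e547c5f76790221167d734d71471518194a201a4513291110440e6c656e08340a3a743f632c220001,0x5a5e151f617b092466451e344d200b775f68317d081458750e30010028256d3343322c486b0f1d260d223f71364e59404c524116026a3e7955784b125d2363567670073b5b3a3d5c6e6f1b514f7a57652b034a1142460a4760375069211764731c2f7c6718193c2d440613102a291a0c742e72493554386c620539275304,0x205179747b4d390b2a7a730305025b246d496b680d6a23660c5540460460254356336f06311d015d644550157c534f0f780047086c3c4b6254285e101b631c3209483b3a773834262c375c3e592b1a2e22353075124414365f6e672d137d161e583f412f18190a1f5227212911424e0e696576173d4a075a71617270574c],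
    [(0, 0), (1, 0), (2, 0), (3, 0), (4, 0), (6, 0), (0, 1), (1, 1), (2, 1), (3, 1), (5, 1), (6, 1), (7, 1), (0, 2), (1, 2), (2, 2), (3, 2), (4, 2), (5, 2), (6, 2), (3, 3), (0, 4), (1, 4), (2, 4), (4, 4), (6, 4), (1, 5), (3, 5), (6, 5), (1, 6), (0, 7), (1, 7), (3, 7), (4, 7), (1, 8), (2, 8), (3, 8), (5, 8), (6, 8), (7, 8), (3, 9), (1, 10), (4, 10), (7, 10), (1, 11), (3, 11), (1, 13), (0, 14), (1, 14), (3, 14), (4, 14), (7, 14), (0, 17), (2, 17), (6, 17), (7, 17), (5, 18), (4, 19), (4, 21), (2, 22), (3, 22), (7, 22), (3, 36)], [[[1, 0], [7, 0], [14, 0], [12, 0], [22, 0], [13, 0], [9, 0], [31, 0], [25, 1], [3, 0], [16, 0], [18, 0], [6, 0], [34, 0], [48, 0], [46, 1], [51, 1], [53, 0], [52, 0], [49, 1], [10, 0], [8, 0], [59, 1], [45, 1], [47, 1], [62, 0], [60, 0], [41, 1], [39, 1], [35, 1], [11, 1], [0, 0], [44, 1], [36, 0], [50, 1], [15, 0], [28, 1], [56, 1], [19, 0], [33, 0], [4, 1], [32, 0], [57, 0], [2, 1], [27, 0], [17, 1], [29, 0], [26, 1], [43, 1], [58, 0], [5, 1], [20, 1], [30, 1], [23, 0], [61, 0], [63, 0], [42, 1], [37, 0], [38, 1], [40, 0], [24, 0], [55, 0], [21, 1], [54,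 0]], [[2, 0], [8, 0], [15, 0], [16, 0], [23, 0], [27, 0], [30, 0], [32, 0], [35, 0], [36, 0], [42, 0], [45, 0], [22, 0], [47, 0], [49, 0], [18, 1], [5, 1], [26, 0], [0, 1], [33, 1], [7, 0], [58, 0], [50, 0], [21, 0], [55, 0], [54, 1], [19, 1], [3, 1], [56, 0], [20, 1], [34, 1], [60, 0], [29, 1], [17, 0], [48, 1], [40, 1], [13, 1], [43, 1], [51, 0], [31, 0], [1, 1], [61, 0], [41, 0], [63, 1], [38, 0], [14, 1], [39, 1], [9, 1], [6, 0], [11, 1], [62, 1], [53, 1], [37, 1], [44, 1], [59, 1], [28, 1], [24, 1], [25, 1], [4, 0], [57, 1], [46, 1], [10, 0], [12, 1], [52, 1]], [[3, 0], [9, 0], [16, 0], [0, 0], [24, 0], [15, 1], [7, 0], [6, 0], [36, 0], [1, 0], [14, 0], [41, 1], [31, 0], [35, 1], [10, 0], [5, 1], [2, 0], [54, 0], [27, 0], [57, 1], [48, 0], [28, 1], [60, 0], [55, 0], [4, 0], [33, 1], [59, 1], [18, 0], [21, 1], [34, 0], [32, 0], [12, 0], [30, 0], [25, 1], [29, 0], [13, 1], [8, 0], [38, 1], [37, 1], [62, 1], [47, 0], [11, 1], [49, 0], [51, 0], [52, 0], [61, 1], [50, 1], [40, 0], [20, 0], [42, 0], [46, 1], [43, 0], [44, 0], [63, 0], [17, 0], [23, 0], [58, 1], [19, 1], [56, 1],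 [26, 1], [22, 0], [45, 1], [39, 1], [53, 0]], [[4, 0], [10, 0], [17, 0], [21, 0], [6, 0], [28, 0], [26, 0], [33, 0], [37, 0], [41, 0], [12, 0], [46, 0], [43, 1], [11, 0], [50, 0], [24, 0], [19, 1], [20, 0], [54, 1], [48, 1], [55, 0], [7, 0], [61, 0], [18, 1], [34, 1], [5, 0], [0, 0], [57, 1], [29, 0], [25, 0], [58, 0], [52, 1], [23, 0], [3, 0], [59, 0], [14, 0], [63, 0], [39, 0], [60, 1], [49, 0], [38, 0], [31, 0], [40, 1], [1, 1], [13, 0], [36, 1], [44, 0], [53, 1], [56, 1], [8, 0], [51, 1], [35, 1], [9, 1], [22, 0], [32, 0], [2, 0], [16, 1], [30, 0], [27, 1], [15, 1], [42, 0], [47, 1], [45, 0], [62, 1]], [[5, 0], [1, 1], [18, 0], [15, 1], [25, 0], [0, 0], [29, 0], [34, 0], [36, 1], [9, 1], [43, 0], [44, 1], [12, 1], [13, 1], [51, 0], [3, 1], [27, 0], [23, 1], [2, 0], [58, 0], [32, 1], [59, 0], [60, 1], [17, 1], [33, 1], [4, 0], [28, 0], [16, 0], [26, 0], [6, 0], [48, 1], [31, 1], [20, 1], [24, 1], [7, 0], [35, 1], [8, 1], [45, 0], [61, 0], [62, 0], [47, 1], [52, 0], [53, 1], [10, 0], [11, 1], [37, 0], [46, 1], [40, 1], [30, 1], [63, 1], [50, 1], [14, 0], [41, 0], [42, 1], [55,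 1], [54, 1], [57, 0], [56, 0], [19, 0], [21, 0], [22, 1], [38, 0], [39, 0], [49, 1]], [[4, 1], [11, 0], [19, 0], [21, 1], [0, 1], [28, 1], [26, 1], [33, 1], [38, 0], [14, 1], [13, 0], [1, 0], [44, 0], [10, 0], [9, 1], [24, 1], [17, 1], [16, 1], [57, 0], [2, 0], [56, 0], [3, 1], [45, 0], [30, 1], [15, 1], [29, 1], [6, 1], [54, 0], [5, 1], [25, 1], [23, 1], [51, 0], [58, 1], [7, 1], [59, 1], [41, 1], [53, 1], [40, 0], [8, 0], [42, 1], [37, 0], [35, 1], [39, 1], [46, 1], [12, 0], [22, 0], [43, 1], [63, 0], [55, 1], [60, 1], [52, 0], [31, 0], [50, 0], [36, 1], [27, 0], [48, 1], [20, 0], [18, 0], [32, 1], [34, 1], [49, 1], [62, 0], [61, 0], [47, 0]], [[6, 0], [12, 0], [20, 0], [7, 0], [26, 0], [29, 0], [0, 0], [3, 0], [39, 0], [31, 0], [43, 1], [44, 0], [1, 0], [46, 0], [51, 1], [34, 1], [48, 0], [55, 0], [32, 1], [56, 0], [2, 0], [33, 0], [47, 1], [54, 0], [59, 1], [28, 0], [4, 0], [30, 1], [25, 0], [5, 0], [27, 1], [9, 0], [18, 1], [21, 0], [15, 1], [50, 0], [62, 1], [49, 0], [42, 1], [8, 0], [60, 1], [52, 1], [38, 1], [10, 1], [11, 0], [63, 1], [13, 0], [22, 1], [16, 0], [37, 0],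 [35, 0], [14, 1], [41, 1], [61, 0], [23, 0], [17, 0], [19, 0], [58, 0], [57, 0], [24, 1], [40, 1], [53, 0], [36, 1], [45, 1]], [[0, 1], [13, 0], [16, 1], [3, 1], [26, 1], [5, 1], [6, 1], [7, 1], [40, 0], [35, 1], [44, 0], [43, 1], [46, 0], [1, 0], [52, 0], [15, 1], [2, 1], [56, 0], [27, 1], [55, 0], [48, 1], [33, 1], [62, 0], [57, 1], [59, 0], [28, 1], [4, 1], [18, 1], [25, 1], [29, 1], [32, 1], [50, 1], [30, 1], [21, 1], [34, 1], [9, 1], [47, 0], [42, 1], [49, 0], [60, 1], [8, 0], [51, 0], [37, 1], [11, 1], [10, 0], [53, 0], [12, 0], [36, 0], [20, 1], [38, 0], [31, 1], [41, 0], [14, 0], [45, 0], [58, 1], [19, 0], [17, 0], [23, 1], [54, 1], [24, 0], [39, 1], [63, 1], [22, 0], [61, 1]]]⟩,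
  ⟨1, [0x403d1c22710d335e6d02311b79065c5d754d136a58643f3b65681f27202a12766e6f322d1e69570b554614303745214e6c012c4a1d1503545044243a357d67397c1a66423e1151344136775b73522b2e5a4b2f60250f62092943057a4f616359497b723c1918080448536b5f3807280e780c560a26171070231647744c00], [0x7d7c7b7a797877767574737271706f6e6d6c6b6a696867666564636261605f5e5d5c5b5a595857565554535251504f4e4d4c4b4a494847464544434241403f3e3d3c3b3a393837363534333231302f2e2d2c2b2a292827262524232221201f1e1d1c1b1a191817161514131211100f0e0d0c0b0a09080706050403020100,0x403d1c22710d335e6d02311b79065c5d754d136a58643f3b65681f27202a12766e6f322d1e69570b554614303745214e6c012c4a1d1503545044243a357d67397c1a66423e1151344136775b73522b2e5a4b2f60250f62092943057a4f616359497b723c1918080448536b5f3807280e780c560a26171070231647744c00],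
    [(0, 0)], [[[1], [0]]]⟩]

/-- The program inside the subgroup. -/
def twoUFourSubSlp : List (ℕ × Bool × ℕ × ℕ) := [
  (0x7d7c7b7a797877767574737271706f6e6d6c6b6a696867666564636261605f5e5d5c5b5a595857565554535251504f4e4d4c4b4a494847464544434241403f3e3d3c3b3a393837363534333231302f2e2d2c2b2a292827262524232221201f1e1d1c1b1a191817161514131211100f0e0d0c0b0a09080706050403020100, true, 0, 0),
  (0x403d1c22710d335e6d02311b79065c5d754d136a58643f3b65681f27202a12766e6f322d1e69570b554614303745214e6c012c4a1d1503545044243a357d67397c1a66423e1151344136775b73522b2e5a4b2f60250f62092943057a4f616359497b723c1918080448536b5f3807280e780c560a26171070231647744c00, false, 5, 3)]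

/-- The overlaps. -/
def threeUFourOverlaps : List (List ℕ × List Schur.Tails.Step × List Schur.Tails.Step) := [
  ([0, 1, 2], [(0, 6, true), (4, 7, true), (3, 13, true), (2, 16, true), (1, 18, true), (2, 18, true), (5, 16, true), (4, 18, true), (3, 18, true), (1, 4, true), (2, 18, true), (1, 18, true), (2, 3, true), (2, 15, true), (1, 4, true), (2, 11, true), (1, 16, true), (4, 16, true), (3, 18, true), (1, 4, true), (1, 18, true), (4, 15, true), (3, 18, true), (2, 18, true), (4, 18, true), (3, 18, true), (1, 4, true), (3, 15, true), (2, 18, true), (1, 18, true), (3, 18, true), (2, 18, true)], [(1, 11, true), (0, 9, true), (7, 9, true), (6, 17, true), (5, 17, true), (4, 19, true), (3, 19, true), (2, 20, true), (0, 5, true), (2, 18, true), (1, 18, true), (3, 18, true), (2, 18, true), (0, 4, true), (0, 3, true), (1, 16, true), (0, 18, true), (1, 18, true), (4, 16, true), (3, 18, true), (2, 18, true), (0, 4, true), (1, 18, true), (0, 18, true), (1, 3, true), (1, 15, true), (0, 4, true), (0, 15, true), (3, 17, true), (2, 17, true), (1, 20, true), (0, 20, true), (1, 4, true), (4,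 16, true), (3, 18, true), (2, 18, true), (4, 18, true), (3, 18, true), (1, 4, true), (1, 3, true), (1, 16, true), (4, 15, true), (3, 18, true), (1, 4, true), (1, 18, true), (3, 15, true), (2, 18, true), (3, 18, true), (1, 4, true), (3, 16, true), (2, 16, true), (1, 18, true), (2, 18, true), (5, 16, true), (4, 18, true), (3, 18, true), (1, 4, true), (2, 18, true), (1, 18, true), (2, 3, true), (2, 15, true), (1, 4, true), (2, 15, true), (1, 16, true), (4, 16, true), (3, 18, true), (1, 4, true), (1, 18, true), (5, 15, true), (4, 16, true), (3, 18, true), (2, 18, true), (4, 18, true), (3, 18, true), (1, 4, true), (1, 3, true), (1, 16, true), (4, 2, true), (5, 8, true), (4, 17, true), (3, 19, true), (2, 20, true), (1, 20, true), (4, 18, true), (2, 4, true), (2, 18, true), (3, 3, true), (3, 15, true), (2, 4, true), (2, 15, true), (6, 8, true), (5, 17, true), (4, 17, true), (3, 20, true), (2, 20, true), (0, 5, true), (0, 4, true), (3, 16, true), (2, 18, true), (1, 18, true), (3, 18, true), (2, 18, true), (0, 4, true), (0, 3, true), (0, 16, true), (3, 15, true), (2, 18, true), (0, 4, true),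 (0, 18, true), (2, 15, true), (1, 18, true), (2, 18, true), (0, 4, true), (2, 15, true), (1, 16, true), (0, 18, true), (1, 18, true), (4, 16, true), (3, 18, true), (2, 18, true), (0, 4, true), (1, 18, true), (0, 18, true), (1, 3, true), (2, 15, true), (1, 16, true), (0, 4, true), (1, 16, true), (0, 18, true), (1, 18, true), (4, 2, true), (4, 7, true), (3, 18, true), (2, 18, true), (0, 4, true), (4, 6, true), (3, 14, true), (2, 17, true), (1, 19, true), (0, 19, true), (2, 18, true), (1, 18, true), (3, 18, true), (2, 18, true), (3, 3, true), (5, 12, true), (4, 16, true), (3, 18, true), (1, 4, true), (1, 18, true), (4, 16, true), (3, 18, true), (2, 18, true), (4, 18, true), (3, 18, true), (1, 4, true), (1, 3, true), (2, 11, true), (1, 16, true), (4, 16, true), (3, 18, true), (1, 4, true), (1, 18, true), (4, 15, true), (3, 18, true), (2, 18, true), (4, 18, true), (3, 18, true), (1, 4, true), (3, 15, true), (2, 18, true), (1, 18, true), (3, 18, true), (2, 18, true)]),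
  ([0, 1, 3], [(0, 6, true), (4, 8, true), (3, 14, true), (2, 17, true), (1, 19, true), (2, 18, true), (3, 18, true), (4, 3, true), (5, 12, true), (4, 16, true), (2, 4, true), (4, 16, true), (3, 18, true), (4, 18, true), (2, 4, true), (5, 12, true), (4, 16, true), (3, 18, true), (2, 18, true), (4, 18, true), (3, 18, true), (4, 3, true), (4, 16, true), (2, 4, true), (5, 11, true), (4, 16, true), (3, 18, true), (4, 18, true), (2, 4, true), (4, 16, true), (3, 18, true), (2, 18, true), (4, 18, true), (3, 18, true), (4, 3, true), (4, 15, true), (2, 4, true), (3, 15, true), (2, 4, true)], [(1, 12, true), (0, 9, true), (7, 9, true), (6, 17, true), (5, 17, true), (4, 19, true), (3, 19, true), (2, 20, true), (0, 5, true), (2, 18, true), (1, 18, true), (3, 18, true), (2, 18, true), (0, 4, true), (0, 3, true), (1, 16, true), (0, 18, true), (1, 18, true), (4, 16, true), (3, 18, true), (2, 18, true), (0, 4, true), (1, 18, true), (0, 18, true), (1, 3, true), (1, 15, true), (0, 4, true), (0, 15, true), (3, 17, true), (2, 17, true), (1, 20, true), (0, 20, true), (1, 4, true), (4, 16, true), (3,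 18, true), (2, 18, true), (4, 18, true), (3, 18, true), (1, 4, true), (1, 3, true), (1, 16, true), (4, 15, true), (3, 18, true), (1, 4, true), (1, 18, true), (3, 15, true), (2, 18, true), (3, 18, true), (1, 4, true), (3, 16, true), (2, 16, true), (1, 18, true), (2, 18, true), (5, 16, true), (4, 18, true), (3, 18, true), (1, 4, true), (2, 18, true), (1, 18, true), (2, 3, true), (2, 15, true), (1, 4, true), (2, 15, true), (1, 16, true), (4, 16, true), (3, 18, true), (1, 4, true), (1, 18, true), (5, 15, true), (4, 16, true), (3, 18, true), (2, 18, true), (4, 18, true), (3, 18, true), (1, 4, true), (1, 3, true), (1, 16, true), (4, 2, true), (5, 6, true), (4, 17, true), (3, 19, true), (2, 20, true), (1, 20, true), (4, 18, true), (2, 4, true), (2, 18, true), (3, 3, true), (3, 15, true), (2, 4, true)]),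
  ([0, 1, 4], [(0, 6, true), (4, 9, true), (3, 14, true), (2, 17, true), (1, 19, true), (2, 18, true), (3, 18, true), (4, 3, true), (5, 14, true), (4, 17, true), (3, 20, true), (2, 20, true), (0, 5, true), (0, 4, true), (4, 13, true), (3, 16, true), (2, 18, true), (1, 18, true), (3, 18, true), (2, 18, true), (0, 4, true), (0, 3, true), (0, 16, true), (3, 15, true), (2, 18, true), (0, 4, true), (0, 18, true), (3, 12, true), (2, 16, true), (1, 18, true), (2, 18, true), (0, 4, true), (2, 16, true), (1, 18, true), (0, 18, true), (2, 18, true), (1, 18, true), (2, 3, true), (3, 12, true), (2, 16, true), (0, 4, true), (2, 16, true), (1, 18, true), (2, 18, true), (0, 4, true), (3, 11, true), (2, 16, true), (1, 18, true), (0, 18, true), (2, 18, true), (1, 18, true), (2, 3, true), (2, 16, true), (0, 4, true), (2, 15, true), (1, 18, true), (2, 18, true), (0, 4, true), (1, 15, true), (0, 18, true), (1, 18, true), (5, 11, true), (4, 16, true), (3, 16, true), (2, 18, true), (0, 4, true), (0, 18, true), (3, 16, true), (2, 18, true), (1, 18, true), (3, 18, true), (2, 18, true), (0, 4, true), (0,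 3, true), (0, 15, true), (3, 16, true), (2, 16, true), (0, 4, true), (2, 16, true), (1, 18, true), (2, 18, true), (0, 4, true), (2, 15, true), (1, 18, true), (0, 18, true), (2, 18, true), (1, 18, true), (5, 15, true), (4, 16, true), (3, 18, true), (2, 18, true), (0, 4, true), (1, 18, true), (0, 18, true), (1, 3, true), (1, 16, true), (0, 4, true), (2, 15, true), (1, 16, true), (0, 18, true), (1, 18, true), (4, 16, true), (3, 18, true), (2, 18, true), (0, 4, true), (1, 18, true), (0, 18, true), (1, 3, true), (1, 2, true)], [(1, 13, true), (0, 9, true), (7, 9, true), (6, 17, true), (5, 17, true), (4, 19, true), (3, 19, true), (2, 20, true), (0, 5, true), (2, 18, true), (1, 18, true), (3, 18, true), (2, 18, true), (0, 4, true), (0, 3, true), (1, 16, true), (0, 18, true), (1, 18, true), (4, 16, true), (3, 18, true), (2, 18, true), (0, 4, true), (1, 18, true), (0, 18, true), (1, 3, true), (1, 15, true), (0, 4, true), (0, 15, true), (3, 17, true), (2, 17, true), (1, 20, true), (0, 20, true), (1, 4, true), (4, 16, true), (3, 18, true), (2, 18, true), (4, 18, true), (3, 18, true), (1,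 4, true), (1, 3, true), (1, 16, true), (4, 15, true), (3, 18, true), (1, 4, true), (1, 18, true), (3, 15, true), (2, 18, true), (3, 18, true), (1, 4, true), (3, 16, true), (2, 16, true), (1, 18, true), (2, 18, true), (5, 16, true), (4, 18, true), (3, 18, true), (1, 4, true), (2, 18, true), (1, 18, true), (2, 3, true), (2, 15, true), (1, 4, true), (2, 15, true), (1, 16, true), (4, 16, true), (3, 18, true), (1, 4, true), (1, 18, true), (5, 15, true), (4, 16, true), (3, 18, true), (2, 18, true), (4, 18, true), (3, 18, true), (1, 4, true), (1, 3, true), (1, 16, true), (4, 2, true), (5, 8, true), (4, 17, true), (3, 19, true), (2, 20, true), (1, 20, true), (4, 18, true), (2, 4, true), (2, 18, true), (3, 3, true), (3, 15, true), (2, 4, true), (2, 15, true), (6, 6, true), (5, 17, true), (4, 17, true), (3, 20, true), (2, 20, true), (0, 5, true), (0, 4, true), (3, 16, true), (2, 18, true), (1, 18, true), (3, 18, true), (2, 18, true), (0, 4, true), (0, 3, true), (0, 16, true), (3, 15, true), (2, 18, true), (0, 4, true), (0, 18, true), (2, 15, true), (1, 18, true), (2, 18, true), (0, 4, true),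 (2, 15, true), (1, 16, true), (0, 18, true), (1, 18, true), (4, 16, true), (3, 18, true), (2, 18, true), (0, 4, true), (1, 18, true), (0, 18, true), (1, 3, true), (1, 2, true)]),
  ([0, 1, 5], [(0, 6, true), (4, 10, true), (3, 11, true), (2, 16, true), (1, 18, true), (2, 18, true), (5, 16, true), (4, 18, true), (3, 18, true), (1, 4, true), (2, 18, true), (1, 18, true), (2, 3, true), (2, 15, true), (1, 4, true), (1, 15, true), (5, 11, true), (4, 16, true), (3, 16, true), (1, 4, true), (3, 16, true), (2, 18, true), (3, 18, true), (1, 4, true), (3, 15, true), (2, 18, true), (1, 18, true), (3, 18, true), (2, 18, true), (6, 16, true), (5, 16, true), (4, 18, true), (3, 18, true), (1, 4, true), (2, 18, true), (1, 18, true), (2, 3, true), (2, 16, true), (1, 4, true), (2, 15, true), (1, 18, true), (2, 18, true), (5, 15, true), (4, 16, true), (3, 18, true), (1, 4, true), (1, 18, true), (4, 16, true), (3, 18, true), (2, 18, true), (4, 18, true), (3, 18, true), (1, 4, true), (1, 3, true), (2, 15, true), (1, 16, true), (4, 16, true), (3, 18, true), (1, 4, true), (1, 18, true), (4, 2, true),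 (4, 1, true)], [(1, 14, true), (0, 10, true), (4, 6, true), (3, 14, true), (2, 14, true), (1, 17, true), (0, 17, true), (5, 16, true), (4, 18, true), (3, 18, true), (1, 4, true), (2, 18, true), (1, 18, true), (2, 3, true), (2, 16, true), (1, 4, true), (2, 15, true), (1, 18, true), (2, 18, true), (4, 15, true), (3, 18, true), (1, 4, true), (1, 18, true), (6, 12, true), (5, 13, true), (4, 16, true), (3, 16, true), (2, 18, true), (3, 18, true), (1, 4, true), (3, 16, true), (2, 18, true), (1, 18, true), (3, 18, true), (2, 18, true), (3, 3, true), (3, 15, true), (1, 4, true), (3, 16, true), (2, 16, true), (1, 4, true), (2, 16, true), (1, 18, true), (2, 18, true), (5, 15, true), (4, 18, true), (3, 18, true), (1, 4, true), (2, 18, true), (1, 18, true), (5, 15, true), (4, 16, true), (3, 18, true), (2, 18, true), (4, 18, true), (3, 18, true), (1, 4, true), (1, 3, true), (1, 16, true), (6, 13, true), (5, 16, true), (4, 16, true), (3, 18, true), (1, 4, true), (1, 18, true), (4, 16, true), (3, 18, true), (2, 18, true), (4, 18, true), (3, 18, true), (1, 4, true), (1, 3, true), (1, 15, true),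 (4, 16, true), (3, 16, true), (1, 4, true), (3, 16, true), (2, 18, true), (3, 18, true), (1, 4, true), (3, 15, true), (2, 18, true), (1, 18, true), (3, 18, true), (2, 18, true), (6, 15, true), (5, 16, true), (4, 18, true), (3, 18, true), (1, 4, true), (2, 18, true), (1, 18, true), (2, 3, true), (2, 16, true), (1, 4, true), (5, 11, true), (4, 13, true), (3, 16, true), (2, 16, true), (1, 18, true), (2, 18, true), (5, 16, true), (4, 18, true), (3, 18, true), (1, 4, true), (2, 18, true), (1, 18, true), (2, 3, true), (2, 15, true), (1, 4, true), (2, 16, true), (1, 16, true), (4, 16, true), (3, 18, true), (1, 4, true), (1, 18, true), (4, 15, true), (3, 18, true), (2, 18, true), (4, 18, true), (3, 18, true), (1, 4, true), (4, 15, true), (3, 16, true), (2, 18, true), (1, 18, true), (3, 18, true), (2, 18, true), (3, 3, true), (3, 16, true), (1, 4, true), (5, 13, true), (4, 16, true), (3, 16, true), (2, 18, true), (3, 18, true), (1, 4, true), (3, 16, true), (2, 18, true), (1, 18, true), (3, 18, true), (2, 18, true), (3, 3, true), (3, 15, true), (1, 4, true), (3, 16, true), (2, 16, true),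 (1, 4, true), (2, 16, true), (1, 18, true), (2, 18, true), (5, 15, true), (4, 18, true), (3, 18, true), (1, 4, true), (2, 18, true), (1, 18, true), (5, 15, true), (4, 16, true), (3, 18, true), (2, 18, true), (4, 18, true), (3, 18, true), (1, 4, true), (1, 3, true), (1, 16, true), (6, 12, true), (5, 16, true), (4, 16, true), (3, 18, true), (1, 4, true), (1, 18, true), (4, 16, true), (3, 18, true), (2, 18, true), (4, 18, true), (3, 18, true), (1, 4, true), (1, 3, true), (1, 15, true), (4, 16, true), (3, 16, true), (1, 4, true), (3, 16, true), (2, 18, true), (3, 18, true), (1, 4, true), (3, 15, true), (2, 18, true), (1, 18, true), (3, 18, true), (2, 18, true), (7, 12, true), (6, 16, true), (5, 16, true), (4, 18, true), (3, 18, true), (1, 4, true), (2, 18, true), (1, 18, true), (2, 3, true), (2, 16, true), (1, 4, true), (2, 15, true), (1, 18, true), (2, 18, true), (5, 16, true), (4, 16, true), (3, 18, true), (1, 4, true), (1, 18, true), (4, 16, true), (3, 18, true), (2, 18, true), (4, 18, true), (3, 18, true), (1, 4, true), (1, 3, true), (1, 15, true), (5, 11, true), (4, 16, true),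 (3, 16, true), (1, 4, true), (3, 16, true), (2, 18, true), (3, 18, true), (1, 4, true), (3, 15, true), (2, 18, true), (1, 18, true), (3, 18, true), (2, 18, true), (6, 16, true), (5, 16, true), (4, 18, true), (3, 18, true), (1, 4, true), (2, 18, true), (1, 18, true), (2, 3, true), (2, 16, true), (1, 4, true), (2, 15, true), (1, 18, true), (2, 18, true), (5, 15, true), (4, 16, true), (3, 18, true), (1, 4, true), (1, 18, true), (4, 16, true), (3, 18, true), (2, 18, true), (4, 18, true), (3, 18, true), (1, 4, true), (1, 3, true), (2, 15, true), (1, 16, true), (4, 16, true), (3, 18, true), (1, 4, true), (1, 18, true), (4, 2, true), (4, 1, true)]),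
  ([0, 2, 3], [(0, 7, true), (3, 8, true), (2, 14, true), (1, 17, true), (0, 20, true), (1, 4, true), (4, 12, true), (3, 16, true), (2, 18, true), (1, 18, true), (3, 18, true), (2, 18, true), (3, 3, true), (3, 16, true), (1, 4, true), (4, 12, true), (3, 16, true), (2, 18, true), (3, 18, true), (1, 4, true), (3, 16, true), (2, 18, true), (1, 18, true), (3, 18, true), (2, 18, true), (3, 3, true), (4, 11, true), (3, 16, true), (1, 4, true), (3, 16, true), (2, 18, true), (3, 18, true), (1, 4, true), (3, 15, true), (2, 18, true), (1, 18, true), (3, 18, true), (2, 18, true), (5, 15, true), (4, 18, true), (3, 18, true), (1, 4, true), (2, 18, true), (1, 18, true)], [(1, 15, true), (0, 9, true), (7, 9, true), (6, 17, true), (5, 17, true), (4, 19, true), (3, 19, true), (2, 20, true), (0, 5, true), (2, 18, true), (1, 18, true), (3, 18, true), (2, 18, true), (0, 4, true), (0, 3, true), (1, 16, true), (0, 18, true), (1, 18, true), (4, 16, true), (3, 18, true), (2, 18, true), (0, 4, true), (1, 18, true), (0, 18, true), (1, 3, true), (1, 15, true), (0, 4, true), (0, 15, true), (3, 17, true),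 (2, 17, true), (1, 20, true), (0, 20, true), (1, 4, true), (4, 16, true), (3, 18, true), (2, 18, true), (4, 18, true), (3, 18, true), (1, 4, true), (1, 3, true), (1, 16, true), (4, 15, true), (3, 18, true), (1, 4, true), (1, 18, true), (3, 15, true), (2, 18, true), (3, 18, true), (1, 4, true), (3, 16, true), (2, 16, true), (1, 18, true), (2, 18, true), (5, 16, true), (4, 18, true), (3, 18, true), (1, 4, true), (2, 18, true), (1, 18, true), (2, 3, true), (2, 15, true), (1, 4, true), (2, 15, true), (1, 16, true), (4, 16, true), (3, 18, true), (1, 4, true), (1, 18, true), (5, 15, true), (4, 16, true), (3, 18, true), (2, 18, true), (4, 18, true), (3, 18, true), (1, 4, true), (1, 3, true), (1, 16, true), (4, 2, true), (5, 7, true), (4, 16, true), (3, 18, true), (1, 4, true), (1, 18, true)]),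
  ([0, 2, 4], [(0, 7, true), (3, 9, true), (2, 14, true), (1, 17, true), (0, 20, true), (1, 4, true), (4, 14, true), (3, 17, true), (2, 19, true), (1, 19, true), (3, 18, true), (2, 18, true), (4, 18, true), (3, 18, true), (4, 3, true), (6, 13, true), (5, 16, true), (4, 18, true), (2, 4, true), (2, 18, true), (5, 16, true), (4, 18, true), (3, 18, true), (5, 18, true), (4, 18, true), (2, 4, true), (2, 3, true), (2, 15, true), (5, 12, true), (4, 16, true), (2, 4, true), (4, 16, true), (3, 18, true), (4, 18, true), (2, 4, true), (5, 12, true), (4, 16, true), (3, 18, true), (2, 18, true), (4, 18, true), (3, 18, true), (4, 3, true), (4, 16, true), (2, 4, true), (5, 11, true), (4, 16, true), (3, 18, true), (4, 18, true), (2, 4, true), (4, 16, true), (3, 18, true), (2, 18, true), (4, 18, true), (3, 18, true), (4, 3, true), (4, 15, true), (2, 4, true), (3, 15, true), (2, 4, true), (4, 11, true), (3, 16, true), (2, 16, true), (5, 16, true), (4, 18, true), (2, 4, true), (2, 18, true), (5, 15, true), (4, 18, true), (3, 18, true), (5, 18, true), (4, 18, true), (2, 4, true), (5, 16, true), (4,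 16, true), (3, 18, true), (2, 18, true), (4, 18, true), (3, 18, true), (4, 3, true), (4, 16, true), (2, 4, true), (4, 15, true), (3, 18, true), (4, 18, true), (2, 4, true), (4, 15, true), (3, 16, true), (2, 18, true), (3, 18, true), (6, 16, true), (5, 18, true), (4, 18, true), (2, 4, true), (3, 18, true), (2, 18, true), (3, 3, true), (4, 15, true), (3, 16, true), (2, 4, true), (3, 16, true), (2, 18, true), (3, 18, true), (6, 2, true)], [(1, 16, true), (0, 9, true), (7, 9, true), (6, 17, true), (5, 17, true), (4, 19, true), (3, 19, true), (2, 20, true), (0, 5, true), (2, 18, true), (1, 18, true), (3, 18, true), (2, 18, true), (0, 4, true), (0, 3, true), (1, 16, true), (0, 18, true), (1, 18, true), (4, 16, true), (3, 18, true), (2, 18, true), (0, 4, true), (1, 18, true), (0, 18, true), (1, 3, true), (1, 15, true), (0, 4, true), (0, 15, true), (3, 17, true), (2, 17, true), (1, 20, true), (0, 20, true), (1, 4, true), (4, 16, true), (3, 18, true), (2, 18, true), (4, 18, true), (3, 18, true), (1, 4, true), (1, 3, true), (1, 16, true), (4, 15, true), (3, 18, true), (1, 4, true), (1, 18,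 true), (3, 15, true), (2, 18, true), (3, 18, true), (1, 4, true), (3, 16, true), (2, 16, true), (1, 18, true), (2, 18, true), (5, 16, true), (4, 18, true), (3, 18, true), (1, 4, true), (2, 18, true), (1, 18, true), (2, 3, true), (2, 15, true), (1, 4, true), (2, 15, true), (1, 16, true), (4, 16, true), (3, 18, true), (1, 4, true), (1, 18, true), (5, 15, true), (4, 16, true), (3, 18, true), (2, 18, true), (4, 18, true), (3, 18, true), (1, 4, true), (1, 3, true), (1, 16, true), (4, 2, true), (5, 8, true), (4, 17, true), (3, 19, true), (2, 20, true), (1, 20, true), (4, 18, true), (2, 4, true), (2, 18, true), (3, 3, true), (3, 15, true), (2, 4, true), (2, 15, true), (6, 7, true), (5, 16, true), (4, 16, true), (2, 4, true), (4, 16, true), (3, 18, true), (4, 18, true), (2, 4, true), (4, 15, true), (3, 18, true), (2, 18, true), (4, 18, true), (3, 18, true), (6, 2, true)]),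
  ([0, 2, 5], [(0, 7, true), (3, 10, true), (2, 11, true), (1, 16, true), (0, 4, true), (1, 16, true), (0, 18, true), (1, 18, true), (4, 15, true), (3, 18, true), (2, 18, true), (0, 4, true), (1, 18, true), (0, 18, true), (3, 15, true), (2, 18, true), (1, 18, true), (3, 18, true), (2, 18, true), (0, 4, true), (4, 11, true), (3, 16, true), (2, 16, true), (1, 18, true), (0, 18, true), (2, 18, true), (1, 18, true), (2, 3, true), (2, 16, true), (0, 4, true), (2, 15, true), (1, 18, true), (2, 18, true), (0, 4, true), (2, 16, true), (1, 16, true), (0, 18, true), (1, 18, true), (4, 16, true), (3, 18, true), (2, 18, true), (0, 4, true), (1, 18, true), (0, 18, true), (1, 3, true), (1, 15, true), (0, 4, true), (1, 15, true), (0, 16, true), (3, 16, true), (2, 18, true), (0, 4, true), (0, 18, true), (4, 15, true), (3, 16, true), (2, 18, true), (1, 18, true), (3, 18, true), (2, 18, true), (0, 4, true), (0, 3, true), (0, 16, true), (3, 2, true), (3, 1, true)], [(1, 17, true), (0, 10, true), (4, 9, true), (3, 14, true), (2, 14, true), (1, 17, true), (0, 17, true), (5, 16, true), (4, 18, true),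 (3, 18, true), (1, 4, true), (2, 18, true), (1, 18, true), (2, 3, true), (2, 16, true), (1, 4, true), (2, 15, true), (1, 18, true), (2, 18, true), (4, 15, true), (3, 18, true), (1, 4, true), (1, 18, true), (6, 14, true), (5, 14, true), (4, 17, true), (3, 17, true), (2, 19, true), (1, 20, true), (3, 18, true), (4, 18, true), (2, 4, true), (2, 3, true), (2, 16, true), (5, 16, true), (4, 18, true), (2, 4, true), (2, 18, true), (5, 15, true), (4, 18, true), (3, 18, true), (5, 18, true), (4, 18, true), (2, 4, true), (4, 15, true), (3, 18, true), (2, 18, true), (4, 18, true), (3, 18, true), (9, 13, true), (8, 13, true), (7, 16, true), (6, 16, true), (5, 18, true), (4, 18, true), (2, 4, true), (3, 18, true), (2, 18, true), (3, 3, true), (3, 16, true), (2, 4, true), (3, 15, true), (2, 18, true), (3, 18, true), (6, 16, true), (5, 16, true), (4, 18, true), (2, 4, true), (2, 18, true), (5, 16, true), (4, 18, true), (3, 18, true), (5, 18, true), (4, 18, true), (2, 4, true), (2, 3, true), (2, 15, true), (5, 15, true), (4, 16, true), (2, 4, true), (4, 16, true), (3, 18, true), (4, 18, true),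 (2, 4, true), (6, 13, true), (5, 16, true), (4, 16, true), (3, 18, true), (2, 18, true), (4, 18, true), (3, 18, true), (4, 3, true), (4, 16, true), (2, 4, true), (4, 15, true), (3, 18, true), (4, 18, true), (2, 4, true), (4, 16, true), (3, 16, true), (2, 18, true), (3, 18, true), (6, 16, true), (5, 18, true), (4, 18, true), (2, 4, true), (3, 18, true), (2, 18, true), (3, 3, true), (3, 15, true), (2, 4, true), (3, 15, true), (2, 16, true), (5, 16, true), (4, 18, true), (2, 4, true), (2, 18, true), (7, 12, true), (6, 16, true), (5, 16, true), (4, 18, true), (3, 18, true), (5, 18, true), (4, 18, true), (2, 4, true), (2, 3, true), (2, 16, true), (5, 15, true), (4, 18, true), (2, 4, true), (2, 18, true), (5, 16, true), (4, 16, true), (3, 18, true), (4, 18, true), (2, 4, true), (4, 16, true), (3, 18, true), (2, 18, true), (4, 18, true), (3, 18, true), (4, 3, true), (4, 15, true), (2, 4, true), (6, 12, true), (5, 13, true), (4, 16, true), (3, 16, true), (2, 4, true), (3, 16, true), (2, 18, true), (3, 18, true), (6, 15, true), (5, 18, true), (4, 18, true), (2, 4, true), (3, 18, true),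 (2, 18, true), (6, 16, true), (5, 16, true), (4, 18, true), (3, 18, true), (5, 18, true), (4, 18, true), (2, 4, true), (2, 3, true), (2, 16, true), (5, 15, true), (4, 18, true), (2, 4, true), (2, 18, true), (5, 15, true), (4, 16, true), (3, 18, true), (4, 18, true), (2, 4, true), (4, 16, true), (3, 18, true), (2, 18, true), (4, 18, true), (3, 18, true), (4, 3, true), (6, 13, true), (5, 16, true), (4, 16, true), (2, 4, true), (4, 16, true), (3, 18, true), (4, 18, true), (2, 4, true), (4, 15, true), (3, 18, true), (2, 18, true), (4, 18, true), (3, 18, true), (7, 16, true), (6, 16, true), (5, 18, true), (4, 18, true), (2, 4, true), (3, 18, true), (2, 18, true), (3, 3, true), (3, 16, true), (2, 4, true), (3, 15, true), (2, 18, true), (3, 18, true), (6, 15, true), (5, 16, true), (4, 18, true), (2, 4, true), (2, 18, true), (5, 16, true), (4, 18, true), (3, 18, true), (5, 18, true), (4, 18, true), (2, 4, true), (2, 3, true), (5, 12, true), (4, 13, true), (3, 16, true), (2, 16, true), (5, 16, true), (4, 18, true), (2, 4, true), (2, 18, true), (5, 15, true), (4, 18, true), (3, 18, true),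 (5, 18, true), (4, 18, true), (2, 4, true), (5, 16, true), (4, 16, true), (3, 18, true), (2, 18, true), (4, 18, true), (3, 18, true), (4, 3, true), (4, 16, true), (2, 4, true), (4, 15, true), (3, 18, true), (4, 18, true), (2, 4, true), (4, 15, true), (3, 16, true), (2, 18, true), (3, 18, true), (6, 16, true), (5, 18, true), (4, 18, true), (2, 4, true), (3, 18, true), (2, 18, true), (3, 3, true), (5, 13, true), (4, 16, true), (3, 16, true), (2, 4, true), (3, 16, true), (2, 18, true), (3, 18, true), (6, 15, true), (5, 18, true), (4, 18, true), (2, 4, true), (3, 18, true), (2, 18, true), (6, 16, true), (5, 16, true), (4, 18, true), (3, 18, true), (5, 18, true), (4, 18, true), (2, 4, true), (2, 3, true), (2, 16, true), (5, 15, true), (4, 18, true), (2, 4, true), (2, 18, true), (5, 15, true), (4, 16, true), (3, 18, true), (4, 18, true), (2, 4, true), (4, 16, true), (3, 18, true), (2, 18, true), (4, 18, true), (3, 18, true), (4, 3, true), (7, 11, true), (6, 13, true), (5, 16, true), (4, 16, true), (2, 4, true), (4, 16, true), (3, 18, true), (4, 18, true), (2, 4, true), (4, 15, true),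 (3, 18, true), (2, 18, true), (4, 18, true), (3, 18, true), (7, 16, true), (6, 16, true), (5, 18, true), (4, 18, true), (2, 4, true), (3, 18, true), (2, 18, true), (3, 3, true), (3, 16, true), (2, 4, true), (3, 15, true), (2, 18, true), (3, 18, true), (6, 15, true), (5, 16, true), (4, 18, true), (2, 4, true), (2, 18, true), (5, 16, true), (4, 18, true), (3, 18, true), (5, 18, true), (4, 18, true), (2, 4, true), (2, 3, true), (4, 13, true), (3, 16, true), (2, 16, true), (5, 16, true), (4, 18, true), (2, 4, true), (2, 18, true), (5, 15, true), (4, 18, true), (3, 18, true), (5, 18, true), (4, 18, true), (2, 4, true), (5, 16, true), (4, 16, true), (3, 18, true), (2, 18, true), (4, 18, true), (3, 18, true), (4, 3, true), (4, 16, true), (2, 4, true), (4, 15, true), (3, 18, true), (4, 18, true), (2, 4, true), (4, 15, true), (3, 16, true), (2, 18, true), (3, 18, true), (6, 16, true), (5, 18, true), (4, 18, true), (2, 4, true), (3, 18, true), (2, 18, true), (3, 3, true), (5, 12, true), (4, 16, true), (3, 16, true), (2, 4, true), (3, 16, true), (2, 18, true), (3, 18, true), (6, 15, true),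 (5, 18, true), (4, 18, true), (2, 4, true), (3, 18, true), (2, 18, true), (6, 16, true), (5, 16, true), (4, 18, true), (3, 18, true), (5, 18, true), (4, 18, true), (2, 4, true), (2, 3, true), (2, 16, true), (5, 15, true), (4, 18, true), (2, 4, true), (2, 18, true), (6, 12, true), (5, 16, true), (4, 16, true), (3, 18, true), (4, 18, true), (2, 4, true), (4, 16, true), (3, 18, true), (2, 18, true), (4, 18, true), (3, 18, true), (4, 3, true), (4, 15, true), (2, 4, true), (4, 16, true), (3, 16, true), (2, 4, true), (3, 16, true), (2, 18, true), (3, 18, true), (6, 15, true), (5, 18, true), (4, 18, true), (2, 4, true), (3, 18, true), (2, 18, true), (7, 11, true), (6, 16, true), (5, 16, true), (4, 18, true), (3, 18, true), (5, 18, true), (4, 18, true), (2, 4, true), (2, 3, true), (2, 16, true), (5, 15, true), (4, 18, true), (2, 4, true), (2, 18, true), (5, 16, true), (4, 16, true), (3, 18, true), (4, 18, true), (2, 4, true), (4, 16, true), (3, 18, true), (2, 18, true), (4, 18, true), (3, 18, true), (4, 3, true), (4, 15, true), (2, 4, true), (4, 15, true), (3, 16, true), (2, 4, true),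 (3, 16, true), (2, 18, true), (3, 18, true), (7, 15, true), (6, 16, true), (5, 18, true), (4, 18, true), (2, 4, true), (3, 18, true), (2, 18, true), (3, 3, true), (3, 16, true), (2, 4, true), (3, 2, true), (4, 11, true), (3, 13, true), (2, 18, true), (3, 18, true), (6, 13, true), (5, 18, true), (4, 18, true), (2, 4, true), (3, 18, true), (2, 18, true), (3, 3, true), (3, 12, true), (2, 4, true), (2, 12, true), (4, 11, true), (2, 4, true), (8, 9, true), (7, 14, true), (6, 14, true), (5, 17, true), (4, 19, true), (3, 19, true), (2, 20, true), (0, 5, true), (2, 18, true), (1, 18, true), (3, 18, true), (2, 18, true), (0, 4, true), (0, 3, true), (3, 14, true), (2, 14, true), (1, 17, true), (0, 19, true), (1, 18, true), (2, 18, true), (3, 3, true), (5, 13, true), (4, 13, true), (3, 16, true), (1, 4, true), (3, 16, true), (2, 18, true), (3, 18, true), (1, 4, true), (3, 15, true), (2, 18, true), (1, 18, true), (3, 18, true), (2, 18, true), (6, 13, true), (5, 16, true), (4, 18, true), (3, 18, true), (1, 4, true), (2, 18, true), (1, 18, true), (2, 3, true), (2, 16, true), (1, 4, true), (2,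 15, true), (1, 18, true), (2, 18, true), (5, 12, true), (4, 16, true), (3, 18, true), (1, 4, true), (1, 18, true), (4, 16, true), (3, 18, true), (2, 18, true), (4, 18, true), (3, 18, true), (1, 4, true), (1, 3, true), (3, 12, true), (2, 13, true), (1, 16, true), (4, 16, true), (3, 18, true), (1, 4, true), (1, 18, true), (4, 15, true), (3, 18, true), (2, 18, true), (4, 18, true), (3, 18, true), (1, 4, true), (4, 13, true), (3, 16, true), (2, 18, true), (1, 18, true), (3, 18, true), (2, 18, true), (3, 3, true), (3, 16, true), (1, 4, true), (3, 15, true), (2, 18, true), (3, 18, true), (1, 4, true), (4, 12, true), (3, 13, true), (2, 16, true), (1, 18, true), (2, 18, true), (5, 16, true), (4, 18, true), (3, 18, true), (1, 4, true), (2, 18, true), (1, 18, true), (2, 3, true), (2, 15, true), (1, 4, true), (2, 13, true), (1, 16, true), (4, 16, true), (3, 18, true), (1, 4, true), (1, 18, true), (4, 15, true), (3, 18, true), (2, 18, true), (4, 18, true), (3, 18, true), (1, 4, true), (5, 11, true), (4, 13, true), (3, 16, true), (2, 18, true), (1, 18, true), (3, 18, true), (2, 18, true), (3,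 3, true), (3, 16, true), (1, 4, true), (3, 15, true), (2, 18, true), (3, 18, true), (1, 4, true), (3, 13, true), (2, 16, true), (1, 18, true), (2, 18, true), (5, 16, true), (4, 18, true), (3, 18, true), (1, 4, true), (2, 18, true), (1, 18, true), (2, 3, true), (2, 15, true), (1, 4, true), (2, 12, true), (1, 16, true), (4, 16, true), (3, 18, true), (1, 4, true), (1, 18, true), (5, 12, true), (4, 16, true), (3, 18, true), (2, 18, true), (4, 18, true), (3, 18, true), (1, 4, true), (1, 3, true), (1, 16, true), (5, 11, true), (4, 16, true), (3, 18, true), (1, 4, true), (1, 18, true), (4, 16, true), (3, 18, true), (2, 18, true), (4, 18, true), (3, 18, true), (1, 4, true), (1, 3, true), (1, 15, true), (3, 15, true), (1, 4, true), (5, 11, true), (4, 13, true), (3, 16, true), (2, 16, true), (1, 4, true), (2, 16, true), (1, 18, true), (2, 18, true), (5, 15, true), (4, 18, true), (3, 18, true), (1, 4, true), (2, 18, true), (1, 18, true), (5, 16, true), (4, 16, true), (3, 18, true), (2, 18, true), (4, 18, true), (3, 18, true), (1, 4, true), (1, 3, true), (1, 16, true), (4, 15, true), (3, 18,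 true), (1, 4, true), (1, 18, true), (4, 15, true), (3, 16, true), (2, 18, true), (3, 18, true), (1, 4, true), (3, 16, true), (2, 18, true), (1, 18, true), (3, 18, true), (2, 18, true), (3, 3, true), (5, 13, true), (4, 16, true), (3, 16, true), (1, 4, true), (3, 16, true), (2, 18, true), (3, 18, true), (1, 4, true), (3, 15, true), (2, 18, true), (1, 18, true), (3, 18, true), (2, 18, true), (6, 16, true), (5, 16, true), (4, 18, true), (3, 18, true), (1, 4, true), (2, 18, true), (1, 18, true), (2, 3, true), (2, 16, true), (1, 4, true), (2, 15, true), (1, 18, true), (2, 18, true), (5, 15, true), (4, 16, true), (3, 18, true), (1, 4, true), (1, 18, true), (4, 16, true), (3, 18, true), (2, 18, true), (4, 18, true), (3, 18, true), (1, 4, true), (1, 3, true), (3, 12, true), (2, 16, true), (1, 16, true), (4, 16, true), (3, 18, true), (1, 4, true), (1, 18, true), (4, 15, true), (3, 18, true), (2, 18, true), (4, 18, true), (3, 18, true), (1, 4, true), (4, 16, true), (3, 16, true), (2, 18, true), (1, 18, true), (3, 18, true), (2, 18, true), (3, 3, true), (3, 16, true), (1, 4, true), (3, 15,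 true), (2, 18, true), (3, 18, true), (1, 4, true), (4, 12, true), (3, 16, true), (2, 16, true), (1, 18, true), (2, 18, true), (5, 16, true), (4, 18, true), (3, 18, true), (1, 4, true), (2, 18, true), (1, 18, true), (2, 3, true), (2, 15, true), (1, 4, true), (2, 16, true), (1, 16, true), (4, 16, true), (3, 18, true), (1, 4, true), (1, 18, true), (4, 15, true), (3, 18, true), (2, 18, true), (4, 18, true), (3, 18, true), (1, 4, true), (5, 11, true), (4, 16, true), (3, 16, true), (2, 18, true), (1, 18, true), (3, 18, true), (2, 18, true), (3, 3, true), (3, 16, true), (1, 4, true), (3, 15, true), (2, 18, true), (3, 18, true), (1, 4, true), (3, 16, true), (2, 16, true), (1, 18, true), (2, 18, true), (5, 16, true), (4, 18, true), (3, 18, true), (1, 4, true), (2, 18, true), (1, 18, true), (2, 3, true), (2, 15, true), (1, 4, true), (2, 15, true), (1, 16, true), (4, 16, true), (3, 18, true), (1, 4, true), (1, 18, true), (5, 15, true), (4, 16, true), (3, 18, true), (2, 18, true), (4, 18, true), (3, 18, true), (1, 4, true), (1, 3, true), (1, 16, true), (4, 2, true), (6, 8, true), (5, 14, true),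 (4, 14, true), (3, 19, true), (2, 20, true), (1, 20, true), (6, 12, true), (5, 13, true), (4, 18, true), (2, 4, true), (2, 18, true), (5, 13, true), (4, 18, true), (3, 18, true), (5, 18, true), (4, 18, true), (2, 4, true), (2, 3, true), (3, 12, true), (2, 13, true), (5, 13, true), (4, 18, true), (2, 4, true), (2, 18, true), (6, 11, true), (5, 13, true), (4, 18, true), (3, 18, true), (5, 18, true), (4, 18, true), (2, 4, true), (2, 3, true), (2, 13, true), (5, 12, true), (4, 18, true), (2, 4, true), (2, 18, true), (4, 12, true), (3, 18, true), (4, 18, true), (2, 4, true), (3, 11, true), (2, 18, true), (3, 18, true), (4, 3, true), (7, 8, true), (6, 14, true), (5, 14, true), (4, 17, true), (3, 20, true), (2, 20, true), (0, 5, true), (0, 4, true), (5, 12, true), (4, 13, true), (3, 16, true), (2, 18, true), (1, 18, true), (3, 18, true), (2, 18, true), (0, 4, true), (0, 3, true), (0, 16, true), (3, 15, true), (2, 18, true), (0, 4, true), (0, 18, true), (3, 13, true), (2, 16, true), (1, 18, true), (2, 18, true), (0, 4, true), (2, 16, true), (1, 18, true), (0, 18, true), (2, 18, true),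 (1, 18, true), (2, 3, true), (2, 15, true), (0, 4, true), (3, 12, true), (2, 13, true), (1, 16, true), (0, 4, true), (1, 16, true), (0, 18, true), (1, 18, true), (4, 15, true), (3, 18, true), (2, 18, true), (0, 4, true), (1, 18, true), (0, 18, true), (4, 13, true), (3, 16, true), (2, 18, true), (1, 18, true), (3, 18, true), (2, 18, true), (0, 4, true), (0, 3, true), (0, 16, true), (3, 15, true), (2, 18, true), (0, 4, true), (0, 18, true), (4, 11, true), (3, 13, true), (2, 16, true), (1, 18, true), (2, 18, true), (0, 4, true), (2, 16, true), (1, 18, true), (0, 18, true), (2, 18, true), (1, 18, true), (2, 3, true), (2, 15, true), (0, 4, true), (2, 13, true), (1, 16, true), (0, 4, true), (1, 16, true), (0, 18, true), (1, 18, true), (4, 15, true), (3, 18, true), (2, 18, true), (0, 4, true), (1, 18, true), (0, 18, true), (4, 12, true), (3, 16, true), (2, 18, true), (1, 18, true), (3, 18, true), (2, 18, true), (0, 4, true), (0, 3, true), (0, 16, true), (4, 12, true), (3, 16, true), (2, 18, true), (0, 4, true), (0, 18, true), (3, 16, true), (2, 18, true), (1, 18, true), (3, 18, true),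 (2, 18, true), (0, 4, true), (0, 3, true), (1, 11, true), (0, 16, true), (3, 16, true), (2, 18, true), (0, 4, true), (0, 18, true), (3, 15, true), (2, 18, true), (1, 18, true), (3, 18, true), (2, 18, true), (0, 4, true), (2, 15, true), (1, 18, true), (0, 18, true), (2, 18, true), (1, 18, true), (8, 7, true), (7, 13, true), (6, 13, true), (5, 16, true), (4, 16, true), (3, 18, true), (2, 18, true), (0, 4, true), (1, 18, true), (0, 18, true), (1, 3, true), (1, 16, true), (0, 4, true), (1, 15, true), (0, 18, true), (1, 18, true), (4, 16, true), (3, 16, true), (2, 18, true), (0, 4, true), (0, 18, true), (3, 16, true), (2, 18, true), (1, 18, true), (3, 18, true), (2, 18, true), (0, 4, true), (0, 3, true), (0, 15, true), (3, 15, true), (2, 16, true), (0, 4, true), (2, 16, true), (1, 18, true), (2, 18, true), (0, 4, true), (4, 13, true), (3, 16, true), (2, 16, true), (1, 18, true), (0, 18, true), (2, 18, true), (1, 18, true), (2, 3, true), (2, 16, true), (0, 4, true), (2, 15, true), (1, 18, true), (2, 18, true), (0, 4, true), (2, 16, true), (1, 16, true), (0, 18, true), (1, 18, true),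 (4, 16, true), (3, 18, true), (2, 18, true), (0, 4, true), (1, 18, true), (0, 18, true), (1, 3, true), (1, 15, true), (0, 4, true), (1, 15, true), (0, 16, true), (3, 16, true), (2, 18, true), (0, 4, true), (0, 18, true), (5, 12, true), (4, 16, true), (3, 16, true), (2, 18, true), (1, 18, true), (3, 18, true), (2, 18, true), (0, 4, true), (0, 3, true), (0, 16, true), (3, 15, true), (2, 18, true), (0, 4, true), (0, 18, true), (3, 16, true), (2, 16, true), (1, 18, true), (2, 18, true), (0, 4, true), (2, 16, true), (1, 18, true), (0, 18, true), (2, 18, true), (1, 18, true), (2, 3, true), (2, 15, true), (0, 4, true), (4, 11, true), (3, 13, true), (2, 16, true), (1, 16, true), (0, 4, true), (1, 16, true), (0, 18, true), (1, 18, true), (4, 15, true), (3, 18, true), (2, 18, true), (0, 4, true), (1, 18, true), (0, 18, true), (4, 16, true), (3, 16, true), (2, 18, true), (1, 18, true), (3, 18, true), (2, 18, true), (0, 4, true), (0, 3, true), (0, 16, true), (3, 15, true), (2, 18, true), (0, 4, true), (0, 18, true), (3, 15, true), (2, 16, true), (1, 18, true), (2, 18, true), (0, 4, true),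 (2, 16, true), (1, 18, true), (0, 18, true), (2, 18, true), (1, 18, true), (2, 3, true), (4, 13, true), (3, 16, true), (2, 16, true), (0, 4, true), (2, 16, true), (1, 18, true), (2, 18, true), (0, 4, true), (2, 15, true), (1, 18, true), (0, 18, true), (2, 18, true), (1, 18, true), (5, 16, true), (4, 16, true), (3, 18, true), (2, 18, true), (0, 4, true), (1, 18, true), (0, 18, true), (1, 3, true), (1, 16, true), (0, 4, true), (1, 15, true), (0, 18, true), (1, 18, true), (4, 15, true), (3, 16, true), (2, 18, true), (0, 4, true), (0, 18, true), (3, 16, true), (2, 18, true), (1, 18, true), (3, 18, true), (2, 18, true), (0, 4, true), (0, 3, true), (2, 12, true), (1, 16, true), (0, 16, true), (3, 16, true), (2, 18, true), (0, 4, true), (0, 18, true), (3, 15, true), (2, 18, true), (1, 18, true), (3, 18, true), (2, 18, true), (0, 4, true), (3, 16, true), (2, 16, true), (1, 18, true), (0, 18, true), (2, 18, true), (1, 18, true), (2, 3, true), (2, 16, true), (0, 4, true), (2, 15, true), (1, 18, true), (2, 18, true), (0, 4, true), (3, 12, true), (2, 16, true), (1, 16, true), (0, 18, true),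 (1, 18, true), (4, 16, true), (3, 18, true), (2, 18, true), (0, 4, true), (1, 18, true), (0, 18, true), (1, 3, true), (1, 15, true), (0, 4, true), (1, 16, true), (0, 16, true), (3, 16, true), (2, 18, true), (0, 4, true), (0, 18, true), (3, 15, true), (2, 18, true), (1, 18, true), (3, 18, true), (2, 18, true), (0, 4, true), (4, 11, true), (3, 16, true), (2, 16, true), (1, 18, true), (0, 18, true), (2, 18, true), (1, 18, true), (2, 3, true), (2, 16, true), (0, 4, true), (2, 15, true), (1, 18, true), (2, 18, true), (0, 4, true), (2, 16, true), (1, 16, true), (0, 18, true), (1, 18, true), (4, 16, true), (3, 18, true), (2, 18, true), (0, 4, true), (1, 18, true), (0, 18, true), (1, 3, true), (1, 15, true), (0, 4, true), (1, 15, true), (0, 16, true), (3, 16, true), (2, 18, true), (0, 4, true), (0, 18, true), (4, 15, true), (3, 16, true), (2, 18, true), (1, 18, true), (3, 18, true), (2, 18, true), (0, 4, true), (0, 3, true), (0, 16, true), (3, 2, true), (3, 1, true)]),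
  ([0, 3, 4], [(0, 8, true), (4, 9, true), (3, 17, true), (2, 19, true), (1, 19, true), (3, 18, true), (2, 18, true), (4, 18, true), (3, 18, true), (4, 3, true), (5, 17, true), (4, 19, true), (3, 20, true), (2, 20, true), (0, 5, true), (2, 18, true), (0, 4, true), (0, 18, true), (1, 3, true), (1, 16, true), (0, 4, true), (1, 15, true), (0, 18, true), (1, 18, true), (3, 15, true), (2, 18, true), (0, 4, true), (0, 18, true), (2, 2, true)], [(1, 18, true), (0, 9, true), (7, 8, true), (6, 17, true), (5, 17, true), (4, 19, true), (3, 19, true), (2, 20, true), (0, 5, true), (2, 18, true), (1, 18, true), (3, 18, true), (2, 18, true), (0, 4, true), (0, 3, true), (1, 16, true), (0, 18, true), (1, 18, true), (4, 16, true), (3, 18, true), (2, 18, true), (0, 4, true), (1, 18, true), (0, 18, true), (1, 3, true), (1, 15, true), (0, 4, true), (0, 15, true), (3, 15, true), (2, 16, true), (0, 4, true), (2, 16, true), (1, 18, true), (2, 18, true), (0, 4, true), (3, 15, true), (2, 16, true), (1, 18, true), (0, 18, true), (2, 18, true), (1, 18, true), (2, 3, true), (2, 16, true), (0, 4, true), (2,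 2, true)]),
  ([0, 3, 5], [(0, 8, true), (4, 10, true), (3, 2, true)], [(1, 19, true), (0, 10, true), (4, 8, true), (3, 14, true), (2, 14, true), (1, 17, true), (0, 17, true), (5, 16, true), (4, 18, true), (3, 18, true), (1, 4, true), (2, 18, true), (1, 18, true), (2, 3, true), (2, 16, true), (1, 4, true), (2, 15, true), (1, 18, true), (2, 18, true), (4, 15, true), (3, 18, true), (1, 4, true), (1, 18, true), (6, 12, true), (5, 13, true), (4, 16, true), (3, 16, true), (2, 18, true), (3, 18, true), (1, 4, true), (3, 16, true), (2, 18, true), (1, 18, true), (3, 18, true), (2, 18, true), (3, 3, true), (3, 15, true), (1, 4, true), (3, 16, true), (2, 16, true), (1, 4, true), (2, 16, true), (1, 18, true), (2, 18, true), (5, 15, true), (4, 18, true), (3, 18, true), (1, 4, true), (2, 18, true), (1, 18, true), (5, 15, true), (4, 16, true), (3, 18, true), (2, 18, true), (4, 18, true), (3, 18, true), (1, 4, true), (1, 3, true), (1, 16, true), (6, 13, true), (5, 16, true), (4, 16, true), (3, 18, true), (1, 4, true), (1, 18, true), (4, 16, true), (3, 18, true), (2, 18, true), (4, 18, true),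 (3, 18, true), (1, 4, true), (1, 3, true), (1, 15, true), (4, 16, true), (3, 16, true), (1, 4, true), (3, 16, true), (2, 18, true), (3, 18, true), (1, 4, true), (3, 15, true), (2, 18, true), (1, 18, true), (3, 18, true), (2, 18, true), (6, 15, true), (5, 16, true), (4, 18, true), (3, 18, true), (1, 4, true), (2, 18, true), (1, 18, true), (2, 3, true), (2, 16, true), (1, 4, true), (5, 12, true), (4, 13, true), (3, 16, true), (2, 16, true), (1, 18, true), (2, 18, true), (5, 16, true), (4, 18, true), (3, 18, true), (1, 4, true), (2, 18, true), (1, 18, true), (2, 3, true), (2, 15, true), (1, 4, true), (2, 16, true), (1, 16, true), (4, 16, true), (3, 18, true), (1, 4, true), (1, 18, true), (4, 15, true), (3, 18, true), (2, 18, true), (4, 18, true), (3, 18, true), (1, 4, true), (4, 15, true), (3, 16, true), (2, 18, true), (1, 18, true), (3, 18, true), (2, 18, true), (3, 3, true), (3, 16, true), (1, 4, true), (5, 13, true), (4, 16, true), (3, 16, true), (2, 18, true), (3, 18, true), (1, 4, true), (3, 16, true), (2, 18, true), (1, 18, true), (3, 18, true), (2, 18, true), (3, 3, true),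 (3, 15, true), (1, 4, true), (3, 16, true), (2, 16, true), (1, 4, true), (2, 16, true), (1, 18, true), (2, 18, true), (5, 15, true), (4, 18, true), (3, 18, true), (1, 4, true), (2, 18, true), (1, 18, true), (5, 15, true), (4, 16, true), (3, 18, true), (2, 18, true), (4, 18, true), (3, 18, true), (1, 4, true), (1, 3, true), (1, 16, true), (7, 11, true), (6, 13, true), (5, 16, true), (4, 16, true), (3, 18, true), (1, 4, true), (1, 18, true), (4, 16, true), (3, 18, true), (2, 18, true), (4, 18, true), (3, 18, true), (1, 4, true), (1, 3, true), (1, 15, true), (4, 16, true), (3, 16, true), (1, 4, true), (3, 16, true), (2, 18, true), (3, 18, true), (1, 4, true), (3, 15, true), (2, 18, true), (1, 18, true), (3, 18, true), (2, 18, true), (6, 15, true), (5, 16, true), (4, 18, true), (3, 18, true), (1, 4, true), (2, 18, true), (1, 18, true), (2, 3, true), (2, 16, true), (1, 4, true), (4, 13, true), (3, 16, true), (2, 16, true), (1, 18, true), (2, 18, true), (5, 16, true), (4, 18, true), (3, 18, true), (1, 4, true), (2, 18, true), (1, 18, true), (2, 3, true), (2, 15, true), (1, 4, true),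 (2, 16, true), (1, 16, true), (4, 16, true), (3, 18, true), (1, 4, true), (1, 18, true), (4, 15, true), (3, 18, true), (2, 18, true), (4, 18, true), (3, 18, true), (1, 4, true), (4, 15, true), (3, 16, true), (2, 18, true), (1, 18, true), (3, 18, true), (2, 18, true), (3, 3, true), (3, 16, true), (1, 4, true), (5, 12, true), (4, 16, true), (3, 16, true), (2, 18, true), (3, 18, true), (1, 4, true), (3, 16, true), (2, 18, true), (1, 18, true), (3, 18, true), (2, 18, true), (3, 3, true), (3, 15, true), (1, 4, true), (3, 16, true), (2, 16, true), (1, 4, true), (2, 16, true), (1, 18, true), (2, 18, true), (5, 15, true), (4, 18, true), (3, 18, true), (1, 4, true), (2, 18, true), (1, 18, true), (6, 12, true), (5, 16, true), (4, 16, true), (3, 18, true), (2, 18, true), (4, 18, true), (3, 18, true), (1, 4, true), (1, 3, true), (1, 16, true), (4, 15, true), (3, 18, true), (1, 4, true), (1, 18, true), (4, 16, true), (3, 16, true), (2, 18, true), (3, 18, true), (1, 4, true), (3, 16, true), (2, 18, true), (1, 18, true), (3, 18, true), (2, 18, true), (3, 3, true), (3, 15, true), (1, 4, true),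 (4, 11, true), (3, 16, true), (2, 16, true), (1, 4, true), (2, 16, true), (1, 18, true), (2, 18, true), (5, 15, true), (4, 18, true), (3, 18, true), (1, 4, true), (2, 18, true), (1, 18, true), (5, 16, true), (4, 16, true), (3, 18, true), (2, 18, true), (4, 18, true), (3, 18, true), (1, 4, true), (1, 3, true), (1, 16, true), (4, 15, true), (3, 18, true), (1, 4, true), (1, 18, true), (4, 15, true), (3, 16, true), (2, 18, true), (3, 18, true), (1, 4, true), (3, 16, true), (2, 18, true), (1, 18, true), (3, 18, true), (2, 18, true), (3, 3, true), (4, 15, true), (3, 16, true), (1, 4, true), (3, 16, true), (2, 18, true), (3, 18, true), (1, 4, true), (3, 2, true)]),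
  ([0, 4, 5], [(0, 9, true), (7, 10, true), (5, 2, true)], [(1, 20, true), (0, 10, true), (4, 9, true), (3, 14, true), (2, 14, true), (1, 17, true), (0, 17, true), (5, 16, true), (4, 18, true), (3, 18, true), (1, 4, true), (2, 18, true), (1, 18, true), (2, 3, true), (2, 16, true), (1, 4, true), (2, 15, true), (1, 18, true), (2, 18, true), (4, 15, true), (3, 18, true), (1, 4, true), (1, 18, true), (6, 14, true), (5, 14, true), (4, 17, true), (3, 17, true), (2, 19, true), (1, 20, true), (3, 18, true), (4, 18, true), (2, 4, true), (2, 3, true), (2, 16, true), (5, 16, true), (4, 18, true), (2, 4, true), (2, 18, true), (5, 15, true), (4, 18, true), (3, 18, true), (5, 18, true), (4, 18, true), (2, 4, true), (4, 15, true), (3, 18, true), (2, 18, true), (4, 18, true), (3, 18, true), (9, 13, true), (8, 13, true), (7, 16, true), (6, 16, true), (5, 18, true), (4, 18, true), (2, 4, true), (3, 18, true), (2, 18, true), (3, 3, true), (3, 16, true), (2, 4, true), (3, 15, true), (2, 18, true), (3, 18, true), (6, 16, true), (5, 16, true), (4, 18, true), (2, 4, true), (2, 18, true), (5, 16, true),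 (4, 18, true), (3, 18, true), (5, 18, true), (4, 18, true), (2, 4, true), (2, 3, true), (2, 15, true), (5, 15, true), (4, 16, true), (2, 4, true), (4, 16, true), (3, 18, true), (4, 18, true), (2, 4, true), (6, 13, true), (5, 16, true), (4, 16, true), (3, 18, true), (2, 18, true), (4, 18, true), (3, 18, true), (4, 3, true), (4, 16, true), (2, 4, true), (4, 15, true), (3, 18, true), (4, 18, true), (2, 4, true), (4, 16, true), (3, 16, true), (2, 18, true), (3, 18, true), (6, 16, true), (5, 18, true), (4, 18, true), (2, 4, true), (3, 18, true), (2, 18, true), (3, 3, true), (3, 15, true), (2, 4, true), (3, 15, true), (2, 16, true), (5, 16, true), (4, 18, true), (2, 4, true), (2, 18, true), (7, 12, true), (6, 16, true), (5, 16, true), (4, 18, true), (3, 18, true), (5, 18, true), (4, 18, true), (2, 4, true), (2, 3, true), (2, 16, true), (5, 15, true), (4, 18, true), (2, 4, true), (2, 18, true), (5, 16, true), (4, 16, true), (3, 18, true), (4, 18, true), (2, 4, true), (4, 16, true), (3, 18, true), (2, 18, true), (4, 18, true), (3, 18, true), (4, 3, true), (4, 15, true), (2, 4, true), (6,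 12, true), (5, 13, true), (4, 16, true), (3, 16, true), (2, 4, true), (3, 16, true), (2, 18, true), (3, 18, true), (6, 15, true), (5, 18, true), (4, 18, true), (2, 4, true), (3, 18, true), (2, 18, true), (6, 16, true), (5, 16, true), (4, 18, true), (3, 18, true), (5, 18, true), (4, 18, true), (2, 4, true), (2, 3, true), (2, 16, true), (5, 15, true), (4, 18, true), (2, 4, true), (2, 18, true), (5, 15, true), (4, 16, true), (3, 18, true), (4, 18, true), (2, 4, true), (4, 16, true), (3, 18, true), (2, 18, true), (4, 18, true), (3, 18, true), (4, 3, true), (6, 13, true), (5, 16, true), (4, 16, true), (2, 4, true), (4, 16, true), (3, 18, true), (4, 18, true), (2, 4, true), (4, 15, true), (3, 18, true), (2, 18, true), (4, 18, true), (3, 18, true), (7, 16, true), (6, 16, true), (5, 18, true), (4, 18, true), (2, 4, true), (3, 18, true), (2, 18, true), (3, 3, true), (3, 16, true), (2, 4, true), (3, 15, true), (2, 18, true), (3, 18, true), (6, 15, true), (5, 16, true), (4, 18, true), (2, 4, true), (2, 18, true), (5, 16, true), (4, 18, true), (3, 18, true), (5, 18, true), (4, 18, true), (2,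 4, true), (2, 3, true), (5, 12, true), (4, 13, true), (3, 16, true), (2, 16, true), (5, 16, true), (4, 18, true), (2, 4, true), (2, 18, true), (5, 15, true), (4, 18, true), (3, 18, true), (5, 18, true), (4, 18, true), (2, 4, true), (5, 16, true), (4, 16, true), (3, 18, true), (2, 18, true), (4, 18, true), (3, 18, true), (4, 3, true), (4, 16, true), (2, 4, true), (4, 15, true), (3, 18, true), (4, 18, true), (2, 4, true), (4, 15, true), (3, 16, true), (2, 18, true), (3, 18, true), (6, 16, true), (5, 18, true), (4, 18, true), (2, 4, true), (3, 18, true), (2, 18, true), (3, 3, true), (5, 13, true), (4, 16, true), (3, 16, true), (2, 4, true), (3, 16, true), (2, 18, true), (3, 18, true), (6, 15, true), (5, 18, true), (4, 18, true), (2, 4, true), (3, 18, true), (2, 18, true), (6, 16, true), (5, 16, true), (4, 18, true), (3, 18, true), (5, 18, true), (4, 18, true), (2, 4, true), (2, 3, true), (2, 16, true), (5, 15, true), (4, 18, true), (2, 4, true), (2, 18, true), (5, 15, true), (4, 16, true), (3, 18, true), (4, 18, true), (2, 4, true), (4, 16, true), (3, 18, true), (2, 18, true), (4,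 18, true), (3, 18, true), (4, 3, true), (7, 11, true), (6, 13, true), (5, 16, true), (4, 16, true), (2, 4, true), (4, 16, true), (3, 18, true), (4, 18, true), (2, 4, true), (4, 15, true), (3, 18, true), (2, 18, true), (4, 18, true), (3, 18, true), (7, 16, true), (6, 16, true), (5, 18, true), (4, 18, true), (2, 4, true), (3, 18, true), (2, 18, true), (3, 3, true), (3, 16, true), (2, 4, true), (3, 15, true), (2, 18, true), (3, 18, true), (6, 15, true), (5, 16, true), (4, 18, true), (2, 4, true), (2, 18, true), (5, 16, true), (4, 18, true), (3, 18, true), (5, 18, true), (4, 18, true), (2, 4, true), (2, 3, true), (4, 13, true), (3, 16, true), (2, 16, true), (5, 16, true), (4, 18, true), (2, 4, true), (2, 18, true), (5, 15, true), (4, 18, true), (3, 18, true), (5, 18, true), (4, 18, true), (2, 4, true), (5, 16, true), (4, 16, true), (3, 18, true), (2, 18, true), (4, 18, true), (3, 18, true), (4, 3, true), (4, 16, true), (2, 4, true), (4, 15, true), (3, 18, true), (4, 18, true), (2, 4, true), (4, 15, true), (3, 16, true), (2, 18, true), (3, 18, true), (6, 16, true), (5, 18, true), (4,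 18, true), (2, 4, true), (3, 18, true), (2, 18, true), (3, 3, true), (5, 12, true), (4, 16, true), (3, 16, true), (2, 4, true), (3, 16, true), (2, 18, true), (3, 18, true), (6, 15, true), (5, 18, true), (4, 18, true), (2, 4, true), (3, 18, true), (2, 18, true), (6, 16, true), (5, 16, true), (4, 18, true), (3, 18, true), (5, 18, true), (4, 18, true), (2, 4, true), (2, 3, true), (2, 16, true), (5, 15, true), (4, 18, true), (2, 4, true), (2, 18, true), (6, 12, true), (5, 16, true), (4, 16, true), (3, 18, true), (4, 18, true), (2, 4, true), (4, 16, true), (3, 18, true), (2, 18, true), (4, 18, true), (3, 18, true), (4, 3, true), (4, 15, true), (2, 4, true), (4, 16, true), (3, 16, true), (2, 4, true), (3, 16, true), (2, 18, true), (3, 18, true), (6, 15, true), (5, 18, true), (4, 18, true), (2, 4, true), (3, 18, true), (2, 18, true), (7, 11, true), (6, 16, true), (5, 16, true), (4, 18, true), (3, 18, true), (5, 18, true), (4, 18, true), (2, 4, true), (2, 3, true), (2, 16, true), (5, 15, true), (4, 18, true), (2, 4, true), (2, 18, true), (5, 16, true), (4, 16, true), (3, 18, true), (4,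 18, true), (2, 4, true), (4, 16, true), (3, 18, true), (2, 18, true), (4, 18, true), (3, 18, true), (4, 3, true), (4, 15, true), (2, 4, true), (4, 15, true), (3, 16, true), (2, 4, true), (3, 16, true), (2, 18, true), (3, 18, true), (7, 15, true), (6, 16, true), (5, 18, true), (4, 18, true), (2, 4, true), (3, 18, true), (2, 18, true), (3, 3, true), (3, 16, true), (2, 4, true), (3, 2, true), (4, 11, true), (3, 13, true), (2, 18, true), (3, 18, true), (6, 13, true), (5, 18, true), (4, 18, true), (2, 4, true), (3, 18, true), (2, 18, true), (3, 3, true), (3, 12, true), (2, 4, true), (2, 12, true), (4, 11, true), (2, 4, true)]),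
  ([1, 2, 3], [(0, 11, true), (5, 12, true), (4, 16, true), (3, 18, true), (2, 18, true), (0, 4, true), (1, 18, true), (0, 18, true), (1, 3, true), (1, 16, true), (0, 4, true)], [(1, 15, true), (0, 13, true), (3, 13, true), (2, 18, true), (0, 4, true), (0, 18, true), (3, 11, true), (2, 18, true), (1, 18, true), (3, 18, true), (2, 18, true), (0, 4, true), (0, 3, true)]),
  ([1, 2, 5], [(0, 11, true), (5, 14, true), (4, 17, true), (3, 19, true), (2, 19, true), (1, 20, true), (0, 20, true), (4, 18, true), (3, 18, true), (1, 4, true), (2, 18, true), (1, 18, true), (2, 3, true)], [(1, 17, true), (0, 14, true), (1, 13, true), (4, 13, true), (3, 18, true), (1, 4, true), (1, 18, true), (4, 12, true), (3, 18, true), (2, 18, true), (4, 18, true), (3, 18, true), (1, 4, true), (3, 12, true), (2, 18, true), (1, 18, true), (3, 18, true), (2, 18, true), (5, 11, true), (4, 18, true), (3, 18, true), (1, 4, true), (2, 18, true), (1, 18, true), (2, 3, true)]),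
  ([0, 0, 0, 1], [(0, 0, true)], [(2, 6, true), (1, 10, true), (0, 7, true), (3, 7, true), (2, 13, true), (1, 16, true), (0, 4, true), (1, 16, true), (0, 18, true), (1, 18, true), (4, 15, true), (3, 18, true), (2, 18, true), (0, 4, true), (1, 18, true), (0, 18, true), (4, 11, true), (3, 16, true), (2, 18, true), (1, 18, true), (3, 18, true), (2, 18, true), (0, 4, true), (0, 3, true), (0, 16, true), (3, 15, true), (2, 18, true), (0, 4, true), (0, 18, true), (2, 15, true), (1, 18, true), (2, 18, true), (0, 4, true), (5, 6, true), (4, 14, true), (3, 14, true), (2, 17, true), (1, 17, true), (0, 19, true), (1, 18, true), (2, 18, true), (3, 3, true), (3, 16, true), (1, 4, true), (3, 16, true), (2, 18, true), (3, 18, true), (1, 4, true), (3, 15, true), (2, 18, true), (1, 18, true), (3, 18, true), (2, 18, true), (5, 15, true), (4, 18, true), (3, 18, true), (1, 4, true), (2, 18, true), (1, 18, true), (7, 12, true), (6, 13, true), (5, 16, true), (4, 16, true), (3, 18, true), (2, 18, true), (4, 18, true), (3, 18, true), (1, 4, true), (1, 3, true), (1, 16, true), (4, 15, true), (3, 18, true),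 (1, 4, true), (1, 18, true), (4, 16, true), (3, 16, true), (2, 18, true), (3, 18, true), (1, 4, true), (3, 16, true), (2, 18, true), (1, 18, true), (3, 18, true), (2, 18, true), (3, 3, true), (3, 15, true), (1, 4, true), (3, 15, true), (2, 16, true), (1, 4, true), (2, 16, true), (1, 18, true), (2, 18, true), (7, 13, true), (6, 16, true), (5, 16, true), (4, 18, true), (3, 18, true), (1, 4, true), (2, 18, true), (1, 18, true), (2, 3, true), (2, 16, true), (1, 4, true), (2, 15, true), (1, 18, true), (2, 18, true), (5, 16, true), (4, 16, true), (3, 18, true), (1, 4, true), (1, 18, true), (4, 16, true), (3, 18, true), (2, 18, true), (4, 18, true), (3, 18, true), (1, 4, true), (1, 3, true), (1, 15, true), (4, 15, true), (3, 16, true), (1, 4, true), (3, 16, true), (2, 18, true), (3, 18, true), (1, 4, true), (6, 11, true), (5, 13, true), (4, 16, true), (3, 16, true), (2, 18, true), (1, 18, true), (3, 18, true), (2, 18, true), (3, 3, true), (3, 16, true), (1, 4, true), (3, 15, true), (2, 18, true), (3, 18, true), (1, 4, true), (3, 16, true), (2, 16, true), (1, 18, true), (2, 18, true),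 (5, 16, true), (4, 18, true), (3, 18, true), (1, 4, true), (2, 18, true), (1, 18, true), (2, 3, true), (2, 15, true), (1, 4, true), (2, 15, true), (1, 16, true), (4, 16, true), (3, 18, true), (1, 4, true), (1, 18, true), (6, 13, true), (5, 16, true), (4, 16, true), (3, 18, true), (2, 18, true), (4, 18, true), (3, 18, true), (1, 4, true), (1, 3, true), (1, 16, true), (4, 15, true), (3, 18, true), (1, 4, true), (1, 18, true), (4, 16, true), (3, 16, true), (2, 18, true), (3, 18, true), (1, 4, true), (3, 16, true), (2, 18, true), (1, 18, true), (3, 18, true), (2, 18, true), (3, 3, true), (3, 15, true), (1, 4, true), (3, 15, true), (2, 16, true), (1, 4, true), (2, 16, true), (1, 18, true), (2, 18, true), (7, 12, true), (6, 16, true), (5, 16, true), (4, 18, true), (3, 18, true), (1, 4, true), (2, 18, true), (1, 18, true), (2, 3, true), (2, 16, true), (1, 4, true), (2, 15, true), (1, 18, true), (2, 18, true), (5, 16, true), (4, 16, true), (3, 18, true), (1, 4, true), (1, 18, true), (4, 16, true), (3, 18, true), (2, 18, true), (4, 18, true), (3, 18, true), (1, 4, true), (1, 3, true), (1,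 15, true), (5, 12, true), (4, 16, true), (3, 16, true), (1, 4, true), (3, 16, true), (2, 18, true), (3, 18, true), (1, 4, true), (3, 15, true), (2, 18, true), (1, 18, true), (3, 18, true), (2, 18, true), (6, 16, true), (5, 16, true), (4, 18, true), (3, 18, true), (1, 4, true), (2, 18, true), (1, 18, true), (2, 3, true), (2, 16, true), (1, 4, true), (2, 15, true), (1, 18, true), (2, 18, true), (6, 11, true), (5, 16, true), (4, 16, true), (3, 18, true), (1, 4, true), (1, 18, true), (4, 16, true), (3, 18, true), (2, 18, true), (4, 18, true), (3, 18, true), (1, 4, true), (1, 3, true), (1, 15, true), (4, 16, true), (3, 16, true), (1, 4, true), (3, 16, true), (2, 18, true), (3, 18, true), (1, 4, true), (3, 15, true), (2, 18, true), (1, 18, true), (3, 18, true), (2, 18, true), (6, 15, true), (5, 16, true), (4, 18, true), (3, 18, true), (1, 4, true), (2, 18, true), (1, 18, true), (2, 3, true), (2, 16, true), (1, 4, true), (3, 15, true), (2, 16, true), (1, 18, true), (2, 18, true), (5, 16, true), (4, 18, true), (3, 18, true), (1, 4, true), (2, 18, true), (1, 18, true), (2, 3, true), (2,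 2, true), (2, 1, true), (2, 6, true), (1, 20, true), (7, 8, true), (6, 10, true), (5, 11, true), (4, 16, true), (3, 18, true), (4, 18, true), (2, 4, true), (4, 16, true), (3, 18, true), (2, 18, true), (4, 18, true), (3, 18, true), (4, 3, true), (4, 15, true), (2, 4, true), (3, 15, true), (2, 4, true), (4, 11, true), (3, 16, true), (2, 16, true), (5, 16, true), (4, 18, true), (2, 4, true), (2, 18, true), (5, 15, true), (4, 18, true), (3, 18, true), (5, 18, true), (4, 18, true), (2, 4, true), (5, 16, true), (4, 16, true), (3, 18, true), (2, 18, true), (4, 18, true), (3, 18, true), (4, 3, true), (4, 16, true), (2, 4, true), (4, 15, true), (3, 18, true), (4, 18, true), (2, 4, true), (4, 15, true), (3, 16, true), (2, 18, true), (3, 18, true), (6, 16, true), (5, 18, true), (4, 18, true), (2, 4, true), (3, 18, true), (2, 18, true), (3, 3, true), (4, 15, true), (3, 16, true), (2, 4, true), (3, 16, true), (2, 18, true), (3, 18, true), (6, 2, true), (6, 1, true), (6, 8, true), (5, 19, true), (4, 19, true), (3, 20, true), (2, 20, true), (0, 5, true), (2, 3, true), (4, 8, true), (3, 17, true),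 (2, 19, true), (1, 20, true), (0, 20, true), (3, 18, true), (1, 4, true), (1, 18, true), (2, 3, true), (2, 15, true), (1, 4, true), (1, 15, true), (5, 7, true), (4, 16, true), (3, 16, true), (1, 4, true), (3, 16, true), (2, 18, true), (3, 18, true), (1, 4, true), (3, 15, true), (2, 18, true), (1, 18, true), (3, 18, true), (2, 18, true), (5, 2, true), (7, 7, true), (6, 9, true), (5, 14, true), (4, 19, true), (3, 19, true), (2, 20, true), (1, 20, true), (6, 14, true), (5, 19, true), (4, 19, true), (3, 20, true), (2, 20, true), (0, 5, true), (4, 13, true), (3, 18, true), (2, 18, true), (0, 4, true), (1, 18, true), (0, 18, true), (1, 3, true), (1, 12, true), (0, 4, true), (0, 12, true), (2, 11, true), (0, 4, true), (4, 11, true), (3, 16, true), (2, 18, true), (1, 18, true), (3, 18, true), (2, 18, true), (0, 4, true), (0, 3, true), (0, 16, true), (3, 15, true), (2, 18, true), (0, 4, true), (0, 18, true), (2, 15, true), (1, 18, true), (2, 18, true), (0, 4, true), (4, 7, true), (3, 13, true), (2, 16, true), (1, 16, true), (0, 18, true), (1, 18, true), (4, 16, true), (3, 18, true), (2,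 18, true), (0, 4, true), (1, 18, true), (0, 18, true), (1, 3, true), (1, 15, true), (0, 4, true), (1, 16, true), (0, 16, true), (3, 16, true), (2, 18, true), (0, 4, true), (0, 18, true), (3, 15, true), (2, 18, true), (1, 18, true), (3, 18, true), (2, 18, true), (0, 4, true), (3, 15, true), (2, 16, true), (1, 18, true), (0, 18, true), (2, 18, true), (1, 18, true), (2, 3, true), (2, 16, true), (0, 4, true), (4, 11, true), (3, 16, true), (2, 16, true), (1, 18, true), (2, 18, true), (0, 4, true), (2, 16, true), (1, 18, true), (0, 18, true), (2, 18, true), (1, 18, true), (2, 3, true), (2, 15, true), (0, 4, true), (2, 16, true), (1, 16, true), (0, 4, true), (1, 16, true), (0, 18, true), (1, 18, true), (4, 15, true), (3, 18, true), (2, 18, true), (0, 4, true), (1, 18, true), (0, 18, true), (4, 15, true), (3, 16, true), (2, 18, true), (1, 18, true), (3, 18, true), (2, 18, true), (0, 4, true), (0, 3, true), (0, 16, true), (4, 15, true), (3, 16, true), (2, 18, true), (0, 4, true), (0, 18, true), (3, 16, true), (2, 18, true), (1, 18, true), (3, 18, true), (2, 18, true), (0, 4, true), (0,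 3, true), (0, 2, true), (2, 6, true), (1, 14, true), (0, 14, true), (2, 12, true), (1, 13, true), (4, 13, true), (3, 18, true), (1, 4, true), (1, 18, true), (5, 11, true), (4, 13, true), (3, 18, true), (2, 18, true), (4, 18, true), (3, 18, true), (1, 4, true), (1, 3, true), (1, 13, true), (4, 12, true), (3, 18, true), (1, 4, true), (1, 18, true), (3, 12, true), (2, 18, true), (3, 18, true), (1, 4, true), (2, 11, true), (1, 18, true), (2, 18, true), (3, 3, true), (4, 1, true), (5, 6, true), (4, 10, true), (3, 2, true), (5, 8, true), (4, 14, true), (3, 14, true), (2, 20, true), (1, 20, true), (5, 12, true), (4, 13, true), (2, 4, true), (4, 13, true), (3, 18, true), (4, 18, true), (2, 4, true), (5, 12, true), (4, 13, true), (3, 18, true), (2, 18, true), (4, 18, true), (3, 18, true), (4, 3, true), (4, 13, true), (2, 4, true), (5, 11, true), (4, 13, true), (3, 18, true), (4, 18, true), (2, 4, true), (4, 13, true), (3, 18, true), (2, 18, true), (4, 18, true), (3, 18, true), (4, 3, true), (4, 12, true), (2, 4, true), (3, 12, true), (2, 4, true), (2, 11, true), (9, 7, true), (8, 13, true),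 (7, 13, true), (6, 16, true), (5, 18, true), (4, 18, true), (2, 4, true), (3, 18, true), (2, 18, true), (3, 3, true), (3, 16, true), (2, 4, true), (3, 15, true), (2, 18, true), (3, 18, true), (6, 13, true), (5, 16, true), (4, 18, true), (2, 4, true), (2, 18, true), (5, 16, true), (4, 18, true), (3, 18, true), (5, 18, true), (4, 18, true), (2, 4, true), (2, 3, true), (2, 15, true), (5, 12, true), (4, 16, true), (2, 4, true), (4, 16, true), (3, 18, true), (4, 18, true), (2, 4, true), (6, 11, true), (5, 13, true), (4, 16, true), (3, 18, true), (2, 18, true), (4, 18, true), (3, 18, true), (4, 3, true), (4, 16, true), (2, 4, true), (4, 15, true), (3, 18, true), (4, 18, true), (2, 4, true), (4, 13, true), (3, 16, true), (2, 18, true), (3, 18, true), (6, 16, true), (5, 18, true), (4, 18, true), (2, 4, true), (3, 18, true), (2, 18, true), (3, 3, true), (3, 15, true), (2, 4, true), (3, 12, true), (2, 16, true), (5, 16, true), (4, 18, true), (2, 4, true), (2, 18, true), (6, 12, true), (5, 16, true), (4, 18, true), (3, 18, true), (5, 18, true), (4, 18, true), (2, 4, true), (2, 3, true), (2,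 16, true), (6, 11, true), (5, 16, true), (4, 18, true), (2, 4, true), (2, 18, true), (5, 16, true), (4, 18, true), (3, 18, true), (5, 18, true), (4, 18, true), (2, 4, true), (2, 3, true), (2, 15, true), (4, 15, true), (2, 4, true), (5, 1, true), (5, 6, true), (4, 17, true), (3, 17, true), (2, 20, true), (0, 5, true), (0, 4, true), (2, 16, true), (1, 18, true), (0, 18, true), (2, 18, true), (1, 18, true), (2, 3, true), (2, 16, true), (0, 4, true), (2, 15, true), (1, 18, true), (2, 18, true), (0, 4, true), (1, 15, true), (0, 18, true), (1, 18, true), (4, 15, true), (3, 16, true), (2, 18, true), (0, 4, true), (0, 18, true), (3, 16, true), (2, 18, true), (1, 18, true), (3, 18, true), (2, 18, true), (0, 4, true), (0, 3, true), (0, 2, true), (1, 0, true), (0, 13, true), (3, 12, true), (2, 18, true), (0, 4, true), (0, 18, true)])]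

/-- A conjugation. -/
def threeUFourFus0 : Schur.Tails.Fus where
  xs := [[2, 0, 0], [5, 4, 4, 3, 3, 2, 1], [5, 5, 4, 3, 2, 2, 1, 1], [5, 3, 3, 1, 1, 0]]
  ys := [[5, 4, 4, 0], [5, 3, 3, 1, 1, 0], [5, 4, 3, 2, 1], [4, 4, 3, 1]]
  rels := [
    ([0, 0, 0], [], [(2, 7, true), (1, 9, true), (0, 17, true), (5, 17, true), (4, 19, true), (3, 19, true), (2, 20, true), (1, 20, true), (5, 18, true), (4, 18, true), (2, 4, true), (3, 18, true), (2, 18, true), (3, 3, true), (4, 16, true), (3, 18, true), (4, 18, true), (2, 4, true), (4, 15, true), (3, 18, true), (2, 18, true), (4, 18, true), (3, 18, true), (6, 15, true), (5, 18, true), (4, 18, true), (2, 4, true), (3, 18, true), (2, 18, true), (5, 2, true), (5, 7, true), (4, 18, true), (3, 18, true), (8, 6, true), (7, 14, true), (6, 17, true), (5, 19, true), (4, 19, true), (3, 20, true), (2, 20, true), (0, 5, true), (3, 18, true), (2, 18, true), (0, 4, true), (1, 18, true), (0, 18, true), (1, 3, true), (3, 12, true), (2, 16, true), (1, 18, true), (2, 18, true), (0, 4, true), (2, 16, true), (1, 18, true), (0, 18, true), (2, 18, true), (1, 18,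 true), (2, 3, true), (3, 11, true), (2, 16, true), (0, 4, true), (2, 16, true), (1, 18, true), (2, 18, true), (0, 4, true), (2, 15, true), (1, 18, true), (0, 18, true), (2, 18, true), (1, 18, true), (4, 15, true), (3, 18, true), (2, 18, true), (0, 4, true), (1, 18, true), (0, 18, true), (7, 0, true), (6, 13, true), (5, 13, true), (4, 16, true), (3, 16, true), (2, 18, true), (1, 18, true), (3, 18, true), (2, 18, true), (0, 4, true), (0, 3, true), (0, 16, true), (3, 15, true), (2, 18, true), (0, 4, true), (0, 18, true), (3, 16, true), (2, 16, true), (1, 18, true), (2, 18, true), (0, 4, true), (2, 16, true), (1, 18, true), (0, 18, true), (2, 18, true), (1, 18, true), (2, 3, true), (2, 15, true), (0, 4, true), (2, 15, true), (1, 16, true), (0, 4, true), (1, 16, true), (0, 18, true), (1, 18, true), (6, 13, true), (5, 16, true), (4, 16, true), (3, 18, true), (2, 18, true), (0, 4, true), (1, 18, true), (0, 18, true), (1, 3, true), (1, 16, true), (0, 4, true), (1, 15, true), (0, 18, true), (1, 18, true), (4, 16, true), (3, 16, true), (2, 18, true), (0, 4, true), (0, 18, true), (3, 16,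 true), (2, 18, true), (1, 18, true), (3, 18, true), (2, 18, true), (0, 4, true), (0, 3, true), (0, 15, true), (3, 15, true), (2, 16, true), (0, 4, true), (2, 16, true), (1, 18, true), (2, 18, true), (0, 4, true), (4, 12, true), (3, 16, true), (2, 16, true), (1, 18, true), (0, 18, true), (2, 18, true), (1, 18, true), (2, 3, true), (2, 16, true), (0, 4, true), (2, 15, true), (1, 18, true), (2, 18, true), (0, 4, true), (2, 16, true), (1, 16, true), (0, 18, true), (1, 18, true), (4, 16, true), (3, 18, true), (2, 18, true), (0, 4, true), (1, 18, true), (0, 18, true), (1, 3, true), (1, 15, true), (0, 4, true), (3, 12, true), (2, 13, true), (1, 16, true), (0, 16, true), (3, 16, true), (2, 18, true), (0, 4, true), (0, 18, true), (3, 15, true), (2, 18, true), (1, 18, true), (3, 18, true), (2, 18, true), (0, 4, true), (3, 16, true), (2, 16, true), (1, 18, true), (0, 18, true), (2, 18, true), (1, 18, true), (2, 3, true), (2, 16, true), (0, 4, true), (2, 15, true), (1, 18, true), (2, 18, true), (0, 4, true), (2, 15, true), (1, 16, true), (0, 18, true), (1, 18, true), (4, 16, true), (3, 18,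 true), (2, 18, true), (0, 4, true), (1, 18, true), (0, 18, true), (1, 3, true), (3, 13, true), (2, 16, true), (1, 16, true), (0, 4, true), (1, 16, true), (0, 18, true), (1, 18, true), (4, 15, true), (3, 18, true), (2, 18, true), (0, 4, true), (1, 18, true), (0, 18, true), (4, 16, true), (3, 16, true), (2, 18, true), (1, 18, true), (3, 18, true), (2, 18, true), (0, 4, true), (0, 3, true), (0, 16, true), (3, 15, true), (2, 18, true), (0, 4, true), (0, 18, true), (3, 15, true), (2, 16, true), (1, 18, true), (2, 18, true), (0, 4, true), (2, 16, true), (1, 18, true), (0, 18, true), (2, 18, true), (1, 18, true), (2, 3, true), (6, 7, true), (5, 13, true), (4, 13, true), (3, 16, true), (2, 16, true), (0, 4, true), (2, 16, true), (1, 18, true), (2, 18, true), (0, 4, true), (2, 15, true), (1, 18, true), (0, 18, true), (2, 18, true), (1, 18, true), (5, 16, true), (4, 16, true), (3, 18, true), (2, 18, true), (0, 4, true), (1, 18, true), (0, 18, true), (1, 3, true), (1, 16, true), (0, 4, true), (1, 15, true), (0, 18, true), (1, 18, true), (4, 15, true), (3, 16, true), (2, 18, true), (0, 4,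 true), (0, 18, true), (3, 16, true), (2, 18, true), (1, 18, true), (3, 18, true), (2, 18, true), (0, 4, true), (0, 3, true), (2, 13, true), (1, 16, true), (0, 16, true), (3, 16, true), (2, 18, true), (0, 4, true), (0, 18, true), (3, 15, true), (2, 18, true), (1, 18, true), (3, 18, true), (2, 18, true), (0, 4, true), (3, 16, true), (2, 16, true), (1, 18, true), (0, 18, true), (2, 18, true), (1, 18, true), (2, 3, true), (2, 16, true), (0, 4, true), (2, 15, true), (1, 18, true), (2, 18, true), (0, 4, true), (2, 15, true), (1, 16, true), (0, 18, true), (1, 18, true), (4, 16, true), (3, 18, true), (2, 18, true), (0, 4, true), (1, 18, true), (0, 18, true), (1, 3, true), (3, 12, true), (2, 16, true), (1, 16, true), (0, 4, true), (1, 16, true), (0, 18, true), (1, 18, true), (4, 15, true), (3, 18, true), (2, 18, true), (0, 4, true), (1, 18, true), (0, 18, true), (4, 16, true), (3, 16, true), (2, 18, true), (1, 18, true), (3, 18, true), (2, 18, true), (0, 4, true), (0, 3, true), (0, 16, true), (3, 15, true), (2, 18, true), (0, 4, true), (0, 18, true), (5, 11, true), (4, 13, true), (3, 16,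 true), (2, 16, true), (1, 18, true), (2, 18, true), (0, 4, true), (2, 16, true), (1, 18, true), (0, 18, true), (2, 18, true), (1, 18, true), (2, 3, true), (2, 15, true), (0, 4, true), (2, 16, true), (1, 16, true), (0, 4, true), (1, 16, true), (0, 18, true), (1, 18, true), (4, 15, true), (3, 18, true), (2, 18, true), (0, 4, true), (1, 18, true), (0, 18, true), (4, 15, true), (3, 16, true), (2, 18, true), (1, 18, true), (3, 18, true), (2, 18, true), (0, 4, true), (0, 3, true), (0, 16, true), (5, 13, true), (4, 16, true), (3, 16, true), (2, 18, true), (0, 4, true), (0, 18, true), (3, 16, true), (2, 18, true), (1, 18, true), (3, 18, true), (2, 18, true), (0, 4, true), (0, 3, true), (0, 15, true), (3, 16, true), (2, 16, true), (0, 4, true), (2, 16, true), (1, 18, true), (2, 18, true), (0, 4, true), (2, 15, true), (1, 18, true), (0, 18, true), (2, 18, true), (1, 18, true), (5, 15, true), (4, 16, true), (3, 18, true), (2, 18, true), (0, 4, true), (1, 18, true), (0, 18, true), (1, 3, true), (1, 16, true), (0, 4, true), (3, 12, true), (2, 16, true), (1, 16, true), (0, 18, true), (1, 18,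 true), (4, 16, true), (3, 18, true), (2, 18, true), (0, 4, true), (1, 18, true), (0, 18, true), (1, 3, true), (1, 15, true), (0, 4, true), (1, 16, true), (0, 16, true), (3, 16, true), (2, 18, true), (0, 4, true), (0, 18, true), (3, 15, true), (2, 18, true), (1, 18, true), (3, 18, true), (2, 18, true), (0, 4, true), (4, 12, true), (3, 16, true), (2, 16, true), (1, 18, true), (0, 18, true), (2, 18, true), (1, 18, true), (2, 3, true), (2, 16, true), (0, 4, true), (2, 15, true), (1, 18, true), (2, 18, true), (0, 4, true), (2, 16, true), (1, 16, true), (0, 18, true), (1, 18, true), (4, 16, true), (3, 18, true), (2, 18, true), (0, 4, true), (1, 18, true), (0, 18, true), (1, 3, true), (1, 15, true), (0, 4, true), (2, 11, true), (1, 16, true), (0, 16, true), (3, 16, true), (2, 18, true), (0, 4, true), (0, 18, true), (3, 15, true), (2, 18, true), (1, 18, true), (3, 18, true), (2, 18, true), (0, 4, true), (3, 16, true), (2, 16, true), (1, 18, true), (0, 18, true), (2, 18, true), (1, 18, true), (2, 3, true), (2, 16, true), (0, 4, true), (2, 15, true), (1, 18, true), (2, 18, true), (0, 4,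 true), (2, 15, true), (1, 16, true), (0, 18, true), (1, 18, true), (4, 16, true), (3, 18, true), (2, 18, true), (0, 4, true), (1, 18, true), (0, 18, true), (1, 3, true), (2, 15, true), (1, 16, true), (0, 4, true), (1, 16, true), (0, 18, true), (1, 18, true), (4, 2, true), (4, 1, true), (4, 0, true), (3, 18, true), (2, 18, true), (0, 4, true), (0, 3, true)], [(3, 10, true), (7, 9, true), (6, 14, true), (5, 14, true), (4, 17, true), (3, 17, true), (2, 20, true), (1, 20, true), (2, 4, true), (5, 16, true), (4, 18, true), (3, 18, true), (5, 18, true), (4, 18, true), (2, 4, true), (2, 3, true), (2, 16, true), (5, 15, true), (4, 18, true), (2, 4, true), (2, 18, true), (4, 15, true), (3, 18, true), (4, 18, true), (2, 4, true), (6, 14, true), (5, 14, true), (4, 17, true), (3, 17, true), (2, 19, true), (0, 5, true), (0, 18, true), (1, 18, true), (2, 3, true), (2, 16, true), (0, 4, true), (2, 16, true), (1, 18, true), (2, 18, true), (0, 4, true), (2, 15, true), (1, 18, true), (0, 18, true), (2, 18, true), (1, 18, true), (4, 15, true), (3, 18, true), (2, 18, true), (0, 4, true), (1, 18, true),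 (0, 18, true), (6, 13, true), (5, 13, true), (4, 16, true), (3, 16, true), (2, 18, true), (1, 18, true), (3, 18, true), (2, 18, true), (0, 4, true), (0, 3, true), (0, 16, true), (3, 15, true), (2, 18, true), (0, 4, true), (0, 18, true), (3, 16, true), (2, 16, true), (1, 18, true), (2, 18, true), (0, 4, true), (2, 16, true), (1, 18, true), (0, 18, true), (2, 18, true), (1, 18, true), (2, 3, true), (2, 15, true), (0, 4, true), (2, 15, true), (1, 16, true), (0, 4, true), (1, 16, true), (0, 18, true), (1, 18, true), (6, 13, true), (5, 16, true), (4, 16, true), (3, 18, true), (2, 18, true), (0, 4, true), (1, 18, true), (0, 18, true), (1, 3, true), (1, 16, true), (0, 4, true), (1, 15, true), (0, 18, true), (1, 18, true), (4, 16, true), (3, 16, true), (2, 18, true), (0, 4, true), (0, 18, true), (3, 16, true), (2, 18, true), (1, 18, true), (3, 18, true), (2, 18, true), (0, 4, true), (0, 3, true), (0, 15, true), (3, 15, true), (2, 16, true), (0, 4, true), (2, 16, true), (1, 18, true), (2, 18, true), (0, 4, true), (4, 12, true), (3, 16, true), (2, 16, true), (1, 18, true), (0, 18, true),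 (2, 18, true), (1, 18, true), (2, 3, true), (2, 16, true), (0, 4, true), (2, 15, true), (1, 18, true), (2, 18, true), (0, 4, true), (2, 16, true), (1, 16, true), (0, 18, true), (1, 18, true), (4, 16, true), (3, 18, true), (2, 18, true), (0, 4, true), (1, 18, true), (0, 18, true), (1, 3, true), (1, 15, true), (0, 4, true), (3, 12, true), (2, 13, true), (1, 16, true), (0, 16, true), (3, 16, true), (2, 18, true), (0, 4, true), (0, 18, true), (3, 15, true), (2, 18, true), (1, 18, true), (3, 18, true), (2, 18, true), (0, 4, true), (3, 16, true), (2, 16, true), (1, 18, true), (0, 18, true), (2, 18, true), (1, 18, true), (2, 3, true), (2, 16, true), (0, 4, true), (2, 15, true), (1, 18, true), (2, 18, true), (0, 4, true), (2, 15, true), (1, 16, true), (0, 18, true), (1, 18, true), (4, 16, true), (3, 18, true), (2, 18, true), (0, 4, true), (1, 18, true), (0, 18, true), (1, 3, true), (3, 13, true), (2, 16, true), (1, 16, true), (0, 4, true), (1, 16, true), (0, 18, true), (1, 18, true), (4, 15, true), (3, 18, true), (2, 18, true), (0, 4, true), (1, 18, true), (0, 18, true), (4, 16, true),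 (3, 16, true), (2, 18, true), (1, 18, true), (3, 18, true), (2, 18, true), (0, 4, true), (0, 3, true), (0, 16, true), (3, 15, true), (2, 18, true), (0, 4, true), (0, 18, true), (3, 15, true), (2, 16, true), (1, 18, true), (2, 18, true), (0, 4, true), (2, 16, true), (1, 18, true), (0, 18, true), (2, 18, true), (1, 18, true), (2, 3, true), (5, 12, true), (4, 13, true), (3, 16, true), (2, 16, true), (0, 4, true), (2, 16, true), (1, 18, true), (2, 18, true), (0, 4, true), (2, 15, true), (1, 18, true), (0, 18, true), (2, 18, true), (1, 18, true), (5, 16, true), (4, 16, true), (3, 18, true), (2, 18, true), (0, 4, true), (1, 18, true), (0, 18, true), (1, 3, true), (1, 16, true), (0, 4, true), (1, 15, true), (0, 18, true), (1, 18, true), (4, 15, true), (3, 16, true), (2, 18, true), (0, 4, true), (0, 18, true), (3, 16, true), (2, 18, true), (1, 18, true), (3, 18, true), (2, 18, true), (0, 4, true), (0, 3, true), (2, 13, true), (1, 16, true), (0, 16, true), (3, 16, true), (2, 18, true), (0, 4, true), (0, 18, true), (3, 15, true), (2, 18, true), (1, 18, true), (3, 18, true), (2, 18, true),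 (0, 4, true), (3, 16, true), (2, 16, true), (1, 18, true), (0, 18, true), (2, 18, true), (1, 18, true), (2, 3, true), (2, 16, true), (0, 4, true), (2, 15, true), (1, 18, true), (2, 18, true), (0, 4, true), (2, 15, true), (1, 16, true), (0, 18, true), (1, 18, true), (4, 16, true), (3, 18, true), (2, 18, true), (0, 4, true), (1, 18, true), (0, 18, true), (1, 3, true), (4, 11, true), (3, 13, true), (2, 16, true), (1, 16, true), (0, 4, true), (1, 16, true), (0, 18, true), (1, 18, true), (4, 15, true), (3, 18, true), (2, 18, true), (0, 4, true), (1, 18, true), (0, 18, true), (4, 16, true), (3, 16, true), (2, 18, true), (1, 18, true), (3, 18, true), (2, 18, true), (0, 4, true), (0, 3, true), (0, 16, true), (3, 15, true), (2, 18, true), (0, 4, true), (0, 18, true), (3, 15, true), (2, 16, true), (1, 18, true), (2, 18, true), (0, 4, true), (2, 16, true), (1, 18, true), (0, 18, true), (2, 18, true), (1, 18, true), (2, 3, true), (4, 13, true), (3, 16, true), (2, 16, true), (0, 4, true), (2, 16, true), (1, 18, true), (2, 18, true), (0, 4, true), (2, 15, true), (1, 18, true), (0, 18, true),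 (2, 18, true), (1, 18, true), (5, 16, true), (4, 16, true), (3, 18, true), (2, 18, true), (0, 4, true), (1, 18, true), (0, 18, true), (1, 3, true), (1, 16, true), (0, 4, true), (1, 15, true), (0, 18, true), (1, 18, true), (4, 15, true), (3, 16, true), (2, 18, true), (0, 4, true), (0, 18, true), (3, 16, true), (2, 18, true), (1, 18, true), (3, 18, true), (2, 18, true), (0, 4, true), (0, 3, true), (2, 12, true), (1, 16, true), (0, 16, true), (3, 16, true), (2, 18, true), (0, 4, true), (0, 18, true), (3, 15, true), (2, 18, true), (1, 18, true), (3, 18, true), (2, 18, true), (0, 4, true), (3, 16, true), (2, 16, true), (1, 18, true), (0, 18, true), (2, 18, true), (1, 18, true), (2, 3, true), (2, 16, true), (0, 4, true), (2, 15, true), (1, 18, true), (2, 18, true), (0, 4, true), (3, 12, true), (2, 16, true), (1, 16, true), (0, 18, true), (1, 18, true), (4, 16, true), (3, 18, true), (2, 18, true), (0, 4, true), (1, 18, true), (0, 18, true), (1, 3, true), (1, 15, true), (0, 4, true), (1, 16, true), (0, 16, true), (3, 16, true), (2, 18, true), (0, 4, true), (0, 18, true), (3, 15, true),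 (2, 18, true), (1, 18, true), (3, 18, true), (2, 18, true), (0, 4, true), (4, 11, true), (3, 16, true), (2, 16, true), (1, 18, true), (0, 18, true), (2, 18, true), (1, 18, true), (2, 3, true), (2, 16, true), (0, 4, true), (2, 15, true), (1, 18, true), (2, 18, true), (0, 4, true), (2, 16, true), (1, 16, true), (0, 18, true), (1, 18, true), (4, 16, true), (3, 18, true), (2, 18, true), (0, 4, true), (1, 18, true), (0, 18, true), (1, 3, true), (1, 15, true), (0, 4, true), (1, 15, true), (0, 16, true), (3, 16, true), (2, 18, true), (0, 4, true), (0, 18, true), (4, 15, true), (3, 16, true), (2, 18, true), (1, 18, true), (3, 18, true), (2, 18, true), (0, 4, true), (0, 3, true), (0, 16, true), (3, 2, true), (4, 11, true), (3, 13, true), (2, 18, true), (0, 4, true), (0, 18, true), (3, 13, true), (2, 18, true), (1, 18, true), (3, 18, true), (2, 18, true), (0, 4, true), (0, 3, true), (0, 12, true), (2, 12, true), (0, 4, true), (1, 11, true), (0, 4, true), (5, 9, true), (4, 14, true), (3, 14, true), (2, 17, true), (1, 19, true), (0, 19, true), (2, 18, true), (1, 18, true), (3, 18, true), (2,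 18, true), (3, 3, true), (6, 14, true), (5, 14, true), (4, 17, true), (3, 19, true), (2, 20, true), (1, 20, true), (4, 18, true), (2, 4, true), (2, 18, true), (3, 3, true), (5, 13, true), (4, 13, true), (3, 16, true), (2, 4, true), (3, 16, true), (2, 18, true), (3, 18, true), (6, 15, true), (5, 18, true), (4, 18, true), (2, 4, true), (3, 18, true), (2, 18, true), (6, 13, true), (5, 16, true), (4, 18, true), (3, 18, true), (5, 18, true), (4, 18, true), (2, 4, true), (2, 3, true), (2, 16, true), (5, 15, true), (4, 18, true), (2, 4, true), (2, 18, true), (5, 12, true), (4, 16, true), (3, 18, true), (4, 18, true), (2, 4, true), (4, 16, true), (3, 18, true), (2, 18, true), (4, 18, true), (3, 18, true), (4, 3, true), (6, 12, true), (5, 13, true), (4, 16, true), (2, 4, true), (4, 16, true), (3, 18, true), (4, 18, true), (2, 4, true), (4, 15, true), (3, 18, true), (2, 18, true), (4, 18, true), (3, 18, true), (7, 13, true), (6, 16, true), (5, 18, true), (4, 18, true), (2, 4, true), (3, 18, true), (2, 18, true), (3, 3, true), (3, 16, true), (2, 4, true), (3, 15, true), (2, 18, true), (3,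 18, true), (7, 12, true), (6, 13, true), (5, 16, true), (4, 18, true), (2, 4, true), (2, 18, true), (5, 16, true), (4, 18, true), (3, 18, true), (5, 18, true), (4, 18, true), (2, 4, true), (2, 3, true), (2, 15, true), (5, 13, true), (4, 16, true), (2, 4, true), (4, 16, true), (3, 18, true), (4, 18, true), (2, 4, true), (4, 15, true), (3, 18, true), (2, 18, true), (4, 18, true), (3, 18, true), (8, 11, true), (7, 13, true), (6, 16, true), (5, 18, true), (4, 18, true), (2, 4, true), (3, 18, true), (2, 18, true), (3, 3, true), (3, 16, true), (2, 4, true), (3, 15, true), (2, 18, true), (3, 18, true), (6, 13, true), (5, 16, true), (4, 18, true), (2, 4, true), (2, 18, true), (5, 16, true), (4, 18, true), (3, 18, true), (5, 18, true), (4, 18, true), (2, 4, true), (2, 3, true), (2, 15, true), (5, 12, true), (4, 16, true), (2, 4, true), (4, 16, true), (3, 18, true), (4, 18, true), (2, 4, true), (5, 12, true), (4, 16, true), (3, 18, true), (2, 18, true), (4, 18, true), (3, 18, true), (4, 3, true), (4, 16, true), (2, 4, true), (5, 11, true), (4, 16, true), (3, 18, true), (4, 18, true), (2,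 4, true), (4, 16, true), (3, 18, true), (2, 18, true), (4, 18, true), (3, 18, true), (4, 3, true), (4, 15, true), (2, 4, true), (3, 15, true), (2, 4, true), (5, 11, true), (4, 13, true), (3, 16, true), (2, 16, true), (5, 16, true), (4, 18, true), (2, 4, true), (2, 18, true), (5, 15, true), (4, 18, true), (3, 18, true), (5, 18, true), (4, 18, true), (2, 4, true), (5, 16, true), (4, 16, true), (3, 18, true), (2, 18, true), (4, 18, true), (3, 18, true), (4, 3, true), (4, 16, true), (2, 4, true), (4, 15, true), (3, 18, true), (4, 18, true), (2, 4, true), (4, 15, true), (3, 16, true), (2, 18, true), (3, 18, true), (6, 16, true), (5, 18, true), (4, 18, true), (2, 4, true), (3, 18, true), (2, 18, true), (3, 3, true), (5, 13, true), (4, 16, true), (3, 16, true), (2, 4, true), (3, 16, true), (2, 18, true), (3, 18, true), (6, 15, true), (5, 18, true), (4, 18, true), (2, 4, true), (3, 18, true), (2, 18, true), (6, 16, true), (5, 16, true), (4, 18, true), (3, 18, true), (5, 18, true), (4, 18, true), (2, 4, true), (2, 3, true), (2, 16, true), (5, 15, true), (4, 18, true), (2, 4, true), (2,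 18, true), (5, 15, true), (4, 16, true), (3, 18, true), (4, 18, true), (2, 4, true), (4, 16, true), (3, 18, true), (2, 18, true), (4, 18, true), (3, 18, true), (4, 3, true), (6, 12, true), (5, 16, true), (4, 16, true), (2, 4, true), (4, 16, true), (3, 18, true), (4, 18, true), (2, 4, true), (4, 15, true), (3, 18, true), (2, 18, true), (4, 18, true), (3, 18, true), (7, 16, true), (6, 16, true), (5, 18, true), (4, 18, true), (2, 4, true), (3, 18, true), (2, 18, true), (3, 3, true), (3, 16, true), (2, 4, true), (3, 15, true), (2, 18, true), (3, 18, true), (7, 12, true), (6, 16, true), (5, 16, true), (4, 18, true), (2, 4, true), (2, 18, true), (5, 16, true), (4, 18, true), (3, 18, true), (5, 18, true), (4, 18, true), (2, 4, true), (2, 3, true), (2, 15, true), (5, 16, true), (4, 16, true), (2, 4, true), (4, 16, true), (3, 18, true), (4, 18, true), (2, 4, true), (4, 15, true), (3, 18, true), (2, 18, true), (4, 18, true), (3, 18, true), (8, 11, true), (7, 16, true), (6, 16, true), (5, 18, true), (4, 18, true), (2, 4, true), (3, 18, true), (2, 18, true), (3, 3, true), (3, 16, true), (2,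 4, true), (3, 15, true), (2, 18, true), (3, 18, true), (6, 16, true), (5, 16, true), (4, 18, true), (2, 4, true), (2, 18, true), (5, 16, true), (4, 18, true), (3, 18, true), (5, 18, true), (4, 18, true), (2, 4, true), (2, 3, true), (2, 15, true), (5, 15, true), (4, 16, true), (2, 4, true), (4, 16, true), (3, 18, true), (4, 18, true), (2, 4, true), (5, 15, true), (4, 16, true), (3, 18, true), (2, 18, true), (4, 18, true), (3, 18, true), (4, 3, true), (4, 16, true), (2, 4, true), (4, 2, true), (7, 10, true), (6, 7, true), (5, 13, true), (4, 13, true), (3, 18, true), (4, 18, true), (2, 4, true), (4, 13, true), (3, 18, true), (2, 18, true), (4, 18, true), (3, 18, true), (4, 3, true), (4, 12, true), (2, 4, true), (4, 11, true), (3, 13, true), (2, 4, true), (3, 13, true), (2, 18, true), (3, 18, true), (6, 12, true), (5, 18, true), (4, 18, true), (2, 4, true), (3, 18, true), (2, 18, true), (5, 12, true), (4, 18, true), (3, 18, true), (5, 18, true), (4, 18, true), (2, 4, true), (4, 11, true), (3, 18, true), (2, 18, true), (4, 18, true), (3, 18, true), (4, 3, true), (6, 1, true), (6, 7,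 true), (5, 16, true), (4, 18, true), (2, 4, true), (2, 18, true), (8, 6, true), (7, 14, true), (6, 17, true), (5, 17, true), (4, 19, true), (3, 19, true), (2, 20, true), (0, 5, true), (2, 18, true), (1, 18, true), (3, 18, true), (2, 18, true), (0, 4, true), (0, 3, true), (1, 16, true), (0, 18, true), (1, 18, true), (4, 16, true), (3, 18, true), (2, 18, true), (0, 4, true), (1, 18, true), (0, 18, true), (1, 3, true), (1, 15, true), (0, 4, true), (0, 15, true), (4, 12, true), (3, 16, true), (2, 16, true), (0, 4, true), (2, 16, true), (1, 18, true), (2, 18, true), (0, 4, true), (2, 15, true), (1, 18, true), (0, 18, true), (2, 18, true), (1, 18, true), (5, 16, true), (4, 16, true), (3, 18, true), (2, 18, true), (0, 4, true), (1, 18, true), (0, 18, true), (1, 3, true), (1, 16, true), (0, 4, true), (1, 15, true), (0, 18, true), (1, 18, true), (5, 11, true), (4, 16, true), (3, 16, true), (2, 18, true), (0, 4, true), (0, 18, true), (3, 16, true), (2, 18, true), (1, 18, true), (3, 18, true), (2, 18, true), (0, 4, true), (0, 3, true), (0, 15, true), (3, 16, true), (2, 16, true), (0, 4, true),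 (2, 16, true), (1, 18, true), (2, 18, true), (0, 4, true), (2, 15, true), (1, 18, true), (0, 18, true), (2, 18, true), (1, 18, true), (5, 15, true), (4, 16, true), (3, 18, true), (2, 18, true), (0, 4, true), (1, 18, true), (0, 18, true), (1, 3, true), (1, 16, true), (0, 4, true), (2, 15, true), (1, 16, true), (0, 18, true), (1, 18, true), (4, 16, true), (3, 18, true), (2, 18, true), (0, 4, true), (1, 18, true), (0, 18, true), (1, 3, true), (1, 2, true), (3, 6, true), (2, 14, true), (1, 14, true), (0, 20, true), (3, 12, true), (2, 13, true), (1, 4, true), (2, 13, true), (1, 18, true), (2, 18, true), (6, 11, true), (5, 13, true), (4, 18, true), (3, 18, true), (1, 4, true), (2, 18, true), (1, 18, true), (2, 3, true), (2, 13, true), (1, 4, true), (2, 12, true), (1, 18, true), (2, 18, true), (4, 12, true), (3, 18, true), (1, 4, true), (1, 18, true), (3, 11, true), (2, 18, true), (3, 18, true), (1, 4, true), (1, 3, true), (2, 1, true), (3, 9, true), (2, 10, true), (1, 2, true), (3, 10, true), (2, 11, true), (1, 13, true), (4, 13, true), (3, 18, true), (1, 4, true), (1, 18, true), (4,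 12, true), (3, 18, true), (2, 18, true), (4, 18, true), (3, 18, true), (1, 4, true), (3, 12, true), (2, 18, true), (1, 18, true), (3, 18, true), (2, 18, true), (5, 11, true), (4, 18, true), (3, 18, true), (1, 4, true), (2, 18, true), (1, 18, true), (2, 3, true), (5, 11, true), (4, 13, true), (3, 16, true), (2, 18, true), (3, 18, true), (1, 4, true), (3, 16, true), (2, 18, true), (1, 18, true), (3, 18, true), (2, 18, true), (3, 3, true), (3, 15, true), (1, 4, true), (3, 13, true), (2, 16, true), (1, 4, true), (2, 16, true), (1, 18, true), (2, 18, true), (5, 15, true), (4, 18, true), (3, 18, true), (1, 4, true), (2, 18, true), (1, 18, true), (5, 12, true), (4, 16, true), (3, 18, true), (2, 18, true), (4, 18, true), (3, 18, true), (1, 4, true), (1, 3, true), (1, 16, true), (5, 12, true), (4, 16, true), (3, 18, true), (1, 4, true), (1, 18, true), (4, 16, true), (3, 18, true), (2, 18, true), (4, 18, true), (3, 18, true), (1, 4, true), (1, 3, true), (2, 11, true), (1, 16, true), (4, 16, true), (3, 18, true), (1, 4, true), (1, 18, true), (4, 15, true), (3, 18, true), (2, 18, true), (4,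 18, true), (3, 18, true), (1, 4, true), (3, 15, true), (2, 18, true), (1, 18, true), (3, 18, true), (2, 18, true), (7, 1, true), (8, 9, true), (7, 14, true), (6, 17, true), (5, 17, true), (4, 19, true), (3, 19, true), (2, 20, true), (1, 20, true), (5, 18, true), (4, 18, true), (2, 4, true), (3, 18, true), (2, 18, true), (3, 3, true), (4, 16, true), (3, 18, true), (4, 18, true), (2, 4, true), (4, 16, true), (3, 18, true), (2, 18, true), (4, 18, true), (3, 18, true), (4, 3, true), (4, 15, true), (2, 4, true), (3, 15, true), (2, 4, true), (4, 14, true), (3, 17, true), (2, 17, true), (0, 5, true), (4, 16, true), (3, 18, true), (2, 18, true), (0, 4, true), (1, 18, true), (0, 18, true), (1, 3, true), (1, 16, true), (0, 4, true), (1, 15, true), (0, 18, true), (1, 18, true), (3, 15, true), (2, 18, true), (0, 4, true), (0, 18, true), (4, 13, true), (3, 16, true), (2, 16, true), (1, 18, true), (2, 18, true), (0, 4, true), (2, 16, true), (1, 18, true), (0, 18, true), (2, 18, true), (1, 18, true), (2, 3, true), (2, 15, true), (0, 4, true), (2, 16, true), (1, 16, true), (0, 4, true), (1, 16,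 true), (0, 18, true), (1, 18, true), (4, 15, true), (3, 18, true), (2, 18, true), (0, 4, true), (1, 18, true), (0, 18, true), (4, 15, true), (3, 16, true), (2, 18, true), (1, 18, true), (3, 18, true), (2, 18, true), (0, 4, true), (0, 3, true), (0, 16, true), (5, 12, true), (4, 16, true), (3, 16, true), (2, 18, true), (0, 4, true), (0, 18, true), (3, 16, true), (2, 18, true), (1, 18, true), (3, 18, true), (2, 18, true), (0, 4, true), (0, 3, true), (0, 15, true), (3, 16, true), (2, 16, true), (0, 4, true), (2, 16, true), (1, 18, true), (2, 18, true), (0, 4, true), (2, 15, true), (1, 18, true), (0, 18, true), (2, 18, true), (1, 18, true), (6, 12, true), (5, 16, true), (4, 16, true), (3, 18, true), (2, 18, true), (0, 4, true), (1, 18, true), (0, 18, true), (1, 3, true), (1, 16, true), (0, 4, true), (1, 15, true), (0, 18, true), (1, 18, true), (4, 16, true), (3, 16, true), (2, 18, true), (0, 4, true), (0, 18, true), (3, 16, true), (2, 18, true), (1, 18, true), (3, 18, true), (2, 18, true), (0, 4, true), (0, 3, true), (0, 15, true), (4, 11, true), (3, 16, true), (2, 16, true), (0, 4,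 true), (2, 16, true), (1, 18, true), (2, 18, true), (0, 4, true), (2, 15, true), (1, 18, true), (0, 18, true), (2, 18, true), (1, 18, true), (5, 16, true), (4, 16, true), (3, 18, true), (2, 18, true), (0, 4, true), (1, 18, true), (0, 18, true), (1, 3, true), (1, 16, true), (0, 4, true), (1, 15, true), (0, 18, true), (1, 18, true), (4, 15, true), (3, 16, true), (2, 18, true), (0, 4, true), (0, 18, true), (3, 16, true), (2, 18, true), (1, 18, true), (3, 18, true), (2, 18, true), (0, 4, true), (0, 3, true), (1, 15, true), (0, 16, true), (3, 16, true), (2, 18, true), (0, 4, true), (0, 18, true), (3, 2, true), (3, 11, true), (2, 18, true), (1, 18, true), (3, 18, true), (2, 18, true), (0, 4, true), (0, 3, true), (3, 8, true), (2, 14, true), (1, 17, true), (0, 19, true), (1, 18, true), (2, 18, true), (3, 3, true), (4, 12, true), (3, 16, true), (1, 4, true), (3, 16, true), (2, 18, true), (3, 18, true), (1, 4, true), (4, 12, true), (3, 16, true), (2, 18, true), (1, 18, true), (3, 18, true), (2, 18, true), (3, 3, true), (3, 16, true), (1, 4, true), (4, 11, true), (3, 16, true), (2, 18, true),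 (3, 18, true), (1, 4, true), (3, 16, true), (2, 18, true), (1, 18, true), (3, 18, true), (2, 18, true), (3, 3, true), (3, 15, true), (1, 4, true), (2, 15, true), (1, 4, true), (4, 8, true), (3, 14, true), (2, 17, true), (1, 17, true), (6, 16, true), (5, 18, true), (4, 18, true), (2, 4, true), (3, 18, true), (2, 18, true), (3, 3, true), (3, 16, true), (2, 4, true), (3, 15, true), (2, 18, true), (3, 18, true), (5, 15, true), (4, 18, true), (2, 4, true), (2, 18, true), (6, 12, true), (5, 16, true), (4, 16, true), (3, 18, true), (4, 18, true), (2, 4, true), (4, 16, true), (3, 18, true), (2, 18, true), (4, 18, true), (3, 18, true), (4, 3, true), (4, 15, true), (2, 4, true), (4, 16, true), (3, 16, true), (2, 4, true), (3, 16, true), (2, 18, true), (3, 18, true), (6, 15, true), (5, 18, true), (4, 18, true), (2, 4, true), (3, 18, true), (2, 18, true), (7, 12, true), (6, 16, true), (5, 16, true), (4, 18, true), (3, 18, true), (5, 18, true), (4, 18, true), (2, 4, true), (2, 3, true), (2, 16, true), (5, 15, true), (4, 18, true), (2, 4, true), (2, 18, true), (5, 16, true), (4, 16, true), (3,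 18, true), (4, 18, true), (2, 4, true), (4, 16, true), (3, 18, true), (2, 18, true), (4, 18, true), (3, 18, true), (4, 3, true), (4, 15, true), (2, 4, true), (5, 11, true), (4, 16, true), (3, 16, true), (2, 4, true), (3, 16, true), (2, 18, true), (3, 18, true), (6, 15, true), (5, 18, true), (4, 18, true), (2, 4, true), (3, 18, true), (2, 18, true), (6, 16, true), (5, 16, true), (4, 18, true), (3, 18, true), (5, 18, true), (4, 18, true), (2, 4, true), (2, 3, true), (2, 16, true), (5, 15, true), (4, 18, true), (2, 4, true), (2, 18, true), (5, 15, true), (4, 16, true), (3, 18, true), (4, 18, true), (2, 4, true), (4, 16, true), (3, 18, true), (2, 18, true), (4, 18, true), (3, 18, true), (4, 3, true), (5, 15, true), (4, 16, true), (2, 4, true), (4, 16, true), (3, 18, true), (4, 18, true), (2, 4, true), (4, 2, true), (5, 7, true), (4, 13, true), (3, 18, true), (2, 18, true), (4, 18, true), (3, 18, true), (4, 3, true), (4, 11, true), (2, 4, true), (8, 7, true), (7, 13, true), (6, 13, true), (5, 16, true), (4, 18, true), (3, 18, true), (5, 18, true), (4, 18, true), (2, 4, true), (2, 3,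 true), (2, 16, true), (5, 15, true), (4, 18, true), (2, 4, true), (2, 18, true), (5, 13, true), (4, 16, true), (3, 18, true), (4, 18, true), (2, 4, true), (4, 16, true), (3, 18, true), (2, 18, true), (4, 18, true), (3, 18, true), (4, 3, true), (4, 15, true), (2, 4, true), (4, 12, true), (3, 16, true), (2, 4, true), (3, 16, true), (2, 18, true), (3, 18, true), (8, 11, true), (7, 13, true), (6, 16, true), (5, 18, true), (4, 18, true), (2, 4, true), (3, 18, true), (2, 18, true), (3, 3, true), (3, 16, true), (2, 4, true), (3, 15, true), (2, 18, true), (3, 18, true), (6, 13, true), (5, 16, true), (4, 18, true), (2, 4, true), (2, 18, true), (5, 16, true), (4, 18, true), (3, 18, true), (5, 18, true), (4, 18, true), (2, 4, true), (2, 3, true), (2, 15, true), (5, 12, true), (4, 16, true), (2, 4, true), (4, 16, true), (3, 18, true), (4, 18, true), (2, 4, true), (5, 12, true), (4, 16, true), (3, 18, true), (2, 18, true), (4, 18, true), (3, 18, true), (4, 3, true), (4, 16, true), (2, 4, true), (5, 11, true), (4, 16, true), (3, 18, true), (4, 18, true), (2, 4, true), (4, 16, true), (3, 18,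 true), (2, 18, true), (4, 18, true), (3, 18, true), (4, 3, true), (4, 15, true), (2, 4, true), (3, 15, true), (2, 4, true), (4, 1, true), (5, 9, true), (4, 10, true), (2, 2, true), (5, 10, true), (4, 11, true), (3, 13, true), (2, 16, true), (5, 16, true), (4, 18, true), (2, 4, true), (2, 18, true), (5, 15, true), (4, 18, true), (3, 18, true), (5, 18, true), (4, 18, true), (2, 4, true), (5, 13, true), (4, 16, true), (3, 18, true), (2, 18, true), (4, 18, true), (3, 18, true), (4, 3, true), (4, 16, true), (2, 4, true), (4, 15, true), (3, 18, true), (4, 18, true), (2, 4, true), (4, 12, true), (3, 16, true), (2, 18, true), (3, 18, true), (6, 16, true), (5, 18, true), (4, 18, true), (2, 4, true), (3, 18, true), (2, 18, true), (3, 3, true), (4, 12, true), (3, 16, true), (2, 4, true), (3, 16, true), (2, 18, true), (3, 18, true), (7, 11, true), (6, 16, true), (5, 18, true), (4, 18, true), (2, 4, true), (3, 18, true), (2, 18, true), (3, 3, true), (3, 16, true), (2, 4, true), (3, 15, true), (2, 18, true), (3, 18, true), (5, 15, true), (4, 18, true), (2, 4, true), (2, 18, true), (7, 11, true),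 (6, 13, true), (5, 16, true), (4, 16, true), (3, 18, true), (4, 18, true), (2, 4, true), (4, 16, true), (3, 18, true), (2, 18, true), (4, 18, true), (3, 18, true), (4, 3, true), (4, 15, true), (2, 4, true), (4, 16, true), (3, 16, true), (2, 4, true), (3, 16, true), (2, 18, true), (3, 18, true), (6, 15, true), (5, 18, true), (4, 18, true), (2, 4, true), (3, 18, true), (2, 18, true), (6, 15, true), (5, 16, true), (4, 18, true), (3, 18, true), (5, 18, true), (4, 18, true), (2, 4, true), (2, 3, true), (2, 16, true), (7, 13, true), (6, 16, true), (5, 16, true), (4, 18, true), (2, 4, true), (2, 18, true), (5, 16, true), (4, 18, true), (3, 18, true), (5, 18, true), (4, 18, true), (2, 4, true), (2, 3, true), (2, 15, true), (5, 16, true), (4, 16, true), (2, 4, true), (4, 16, true), (3, 18, true), (4, 18, true), (2, 4, true), (4, 15, true), (3, 18, true), (2, 18, true), (4, 18, true), (3, 18, true), (7, 15, true), (6, 16, true), (5, 18, true), (4, 18, true), (2, 4, true), (3, 18, true), (2, 18, true), (3, 3, true), (3, 16, true), (2, 4, true), (5, 12, true), (4, 16, true), (3, 16, true),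 (2, 18, true), (3, 18, true), (6, 16, true), (5, 18, true), (4, 18, true), (2, 4, true), (3, 18, true), (2, 18, true), (3, 3, true), (3, 15, true), (2, 4, true), (3, 16, true), (2, 16, true), (5, 16, true), (4, 18, true), (2, 4, true), (2, 18, true), (5, 15, true), (4, 18, true), (3, 18, true), (5, 18, true), (4, 18, true), (2, 4, true), (6, 12, true), (5, 16, true), (4, 16, true), (3, 18, true), (2, 18, true), (4, 18, true), (3, 18, true), (4, 3, true), (4, 16, true), (2, 4, true), (4, 15, true), (3, 18, true), (4, 18, true), (2, 4, true), (4, 16, true), (3, 16, true), (2, 18, true), (3, 18, true), (6, 16, true), (5, 18, true), (4, 18, true), (2, 4, true), (3, 18, true), (2, 18, true), (3, 3, true), (3, 15, true), (2, 4, true), (4, 11, true), (3, 16, true), (2, 16, true), (5, 16, true), (4, 18, true), (2, 4, true), (2, 18, true), (5, 15, true), (4, 18, true), (3, 18, true), (5, 18, true), (4, 18, true), (2, 4, true), (5, 16, true), (4, 16, true), (3, 18, true), (2, 18, true), (4, 18, true), (3, 18, true), (4, 3, true), (4, 16, true), (2, 4, true), (4, 15, true), (3, 18, true),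 (4, 18, true), (2, 4, true), (4, 15, true), (3, 16, true), (2, 18, true), (3, 18, true), (6, 16, true), (5, 18, true), (4, 18, true), (2, 4, true), (3, 18, true), (2, 18, true), (3, 3, true), (4, 15, true), (3, 16, true), (2, 4, true), (3, 16, true), (2, 18, true), (3, 18, true), (6, 2, true), (6, 1, true), (7, 9, true), (6, 14, true), (5, 19, true), (4, 19, true), (3, 20, true), (2, 20, true), (0, 5, true), (4, 14, true), (3, 19, true), (2, 19, true), (1, 20, true), (0, 20, true), (5, 13, true), (4, 18, true), (3, 18, true), (1, 4, true), (2, 18, true), (1, 18, true), (2, 3, true), (2, 12, true), (1, 4, true), (1, 12, true), (3, 11, true), (1, 4, true), (5, 11, true), (4, 16, true), (3, 18, true), (2, 18, true), (4, 18, true), (3, 18, true), (1, 4, true), (1, 3, true), (1, 16, true), (4, 15, true), (3, 18, true), (1, 4, true), (1, 18, true), (3, 15, true), (2, 18, true), (3, 18, true), (1, 4, true), (5, 8, true), (4, 14, true), (3, 17, true), (2, 17, true), (1, 19, true), (2, 18, true), (3, 18, true), (4, 3, true), (4, 16, true), (2, 4, true), (4, 16, true), (3, 18, true), (4,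 18, true), (2, 4, true), (4, 15, true), (3, 18, true), (2, 18, true), (4, 18, true), (3, 18, true), (6, 15, true), (5, 18, true), (4, 18, true), (2, 4, true), (3, 18, true), (2, 18, true), (7, 12, true), (6, 16, true), (5, 16, true), (4, 18, true), (3, 18, true), (5, 18, true), (4, 18, true), (2, 4, true), (2, 3, true), (2, 16, true), (5, 15, true), (4, 18, true), (2, 4, true), (2, 18, true), (5, 16, true), (4, 16, true), (3, 18, true), (4, 18, true), (2, 4, true), (4, 16, true), (3, 18, true), (2, 18, true), (4, 18, true), (3, 18, true), (4, 3, true), (4, 15, true), (2, 4, true), (5, 12, true), (4, 16, true), (3, 16, true), (2, 4, true), (3, 16, true), (2, 18, true), (3, 18, true), (6, 15, true), (5, 18, true), (4, 18, true), (2, 4, true), (3, 18, true), (2, 18, true), (6, 16, true), (5, 16, true), (4, 18, true), (3, 18, true), (5, 18, true), (4, 18, true), (2, 4, true), (2, 3, true), (2, 16, true), (5, 15, true), (4, 18, true), (2, 4, true), (2, 18, true), (6, 11, true), (5, 16, true), (4, 16, true), (3, 18, true), (4, 18, true), (2, 4, true), (4, 16, true), (3, 18, true), (2,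 18, true), (4, 18, true), (3, 18, true), (4, 3, true), (4, 15, true), (2, 4, true), (4, 16, true), (3, 16, true), (2, 4, true), (3, 16, true), (2, 18, true), (3, 18, true), (6, 15, true), (5, 18, true), (4, 18, true), (2, 4, true), (3, 18, true), (2, 18, true), (6, 15, true), (5, 16, true), (4, 18, true), (3, 18, true), (5, 18, true), (4, 18, true), (2, 4, true), (2, 3, true), (2, 16, true), (6, 15, true), (5, 16, true), (4, 18, true), (2, 4, true), (2, 18, true), (5, 16, true), (4, 18, true), (3, 18, true), (5, 18, true), (4, 18, true), (2, 4, true), (2, 3, true), (2, 2, true), (3, 8, true), (2, 14, true), (0, 5, true), (0, 12, true), (2, 12, true), (0, 4, true), (1, 11, true), (0, 4, true), (4, 7, true), (3, 13, true), (2, 16, true), (1, 18, true), (0, 18, true), (2, 18, true), (1, 18, true), (2, 3, true), (2, 16, true), (0, 4, true), (2, 15, true), (1, 18, true), (2, 18, true), (0, 4, true), (2, 11, true), (1, 16, true), (0, 18, true), (1, 18, true), (4, 16, true), (3, 18, true), (2, 18, true), (0, 4, true), (1, 18, true), (0, 18, true), (1, 3, true), (1, 15, true), (0, 4, true),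 (0, 15, true), (6, 7, true), (5, 13, true), (4, 13, true), (3, 16, true), (2, 16, true), (0, 4, true), (2, 16, true), (1, 18, true), (2, 18, true), (0, 4, true), (2, 15, true), (1, 18, true), (0, 18, true), (2, 18, true), (1, 18, true), (5, 16, true), (4, 16, true), (3, 18, true), (2, 18, true), (0, 4, true), (1, 18, true), (0, 18, true), (1, 3, true), (1, 16, true), (0, 4, true), (1, 15, true), (0, 18, true), (1, 18, true), (4, 15, true), (3, 16, true), (2, 18, true), (0, 4, true), (0, 18, true), (3, 16, true), (2, 18, true), (1, 18, true), (3, 18, true), (2, 18, true), (0, 4, true), (0, 3, true), (2, 13, true), (1, 16, true), (0, 16, true), (3, 16, true), (2, 18, true), (0, 4, true), (0, 18, true), (3, 15, true), (2, 18, true), (1, 18, true), (3, 18, true), (2, 18, true), (0, 4, true), (3, 16, true), (2, 16, true), (1, 18, true), (0, 18, true), (2, 18, true), (1, 18, true), (2, 3, true), (2, 16, true), (0, 4, true), (2, 15, true), (1, 18, true), (2, 18, true), (0, 4, true), (2, 15, true), (1, 16, true), (0, 18, true), (1, 18, true), (4, 16, true), (3, 18, true), (2, 18, true),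 (0, 4, true), (1, 18, true), (0, 18, true), (1, 3, true), (3, 12, true), (2, 16, true), (1, 16, true), (0, 4, true), (1, 16, true), (0, 18, true), (1, 18, true), (4, 15, true), (3, 18, true), (2, 18, true), (0, 4, true), (1, 18, true), (0, 18, true), (4, 16, true), (3, 16, true), (2, 18, true), (1, 18, true), (3, 18, true), (2, 18, true), (0, 4, true), (0, 3, true), (0, 16, true), (3, 15, true), (2, 18, true), (0, 4, true), (0, 18, true), (5, 11, true), (4, 13, true), (3, 16, true), (2, 16, true), (1, 18, true), (2, 18, true), (0, 4, true), (2, 16, true), (1, 18, true), (0, 18, true), (2, 18, true), (1, 18, true), (2, 3, true), (2, 15, true), (0, 4, true), (2, 16, true), (1, 16, true), (0, 4, true), (1, 16, true), (0, 18, true), (1, 18, true), (4, 15, true), (3, 18, true), (2, 18, true), (0, 4, true), (1, 18, true), (0, 18, true), (4, 15, true), (3, 16, true), (2, 18, true), (1, 18, true), (3, 18, true), (2, 18, true), (0, 4, true), (0, 3, true), (0, 16, true), (5, 13, true), (4, 16, true), (3, 16, true), (2, 18, true), (0, 4, true), (0, 18, true), (3, 16, true), (2, 18, true),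 (1, 18, true), (3, 18, true), (2, 18, true), (0, 4, true), (0, 3, true), (0, 15, true), (3, 16, true), (2, 16, true), (0, 4, true), (2, 16, true), (1, 18, true), (2, 18, true), (0, 4, true), (2, 15, true), (1, 18, true), (0, 18, true), (2, 18, true), (1, 18, true), (5, 15, true), (4, 16, true), (3, 18, true), (2, 18, true), (0, 4, true), (1, 18, true), (0, 18, true), (1, 3, true), (1, 16, true), (0, 4, true), (3, 12, true), (2, 16, true), (1, 16, true), (0, 18, true), (1, 18, true), (4, 16, true), (3, 18, true), (2, 18, true), (0, 4, true), (1, 18, true), (0, 18, true), (1, 3, true), (1, 15, true), (0, 4, true), (1, 16, true), (0, 16, true), (3, 16, true), (2, 18, true), (0, 4, true), (0, 18, true), (3, 15, true), (2, 18, true), (1, 18, true), (3, 18, true), (2, 18, true), (0, 4, true), (4, 12, true), (3, 16, true), (2, 16, true), (1, 18, true), (0, 18, true), (2, 18, true), (1, 18, true), (2, 3, true), (2, 16, true), (0, 4, true), (2, 15, true), (1, 18, true), (2, 18, true), (0, 4, true), (2, 16, true), (1, 16, true), (0, 18, true), (1, 18, true), (4, 16, true), (3, 18, true),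 (2, 18, true), (0, 4, true), (1, 18, true), (0, 18, true), (1, 3, true), (1, 15, true), (0, 4, true), (2, 11, true), (1, 16, true), (0, 16, true), (3, 16, true), (2, 18, true), (0, 4, true), (0, 18, true), (3, 15, true), (2, 18, true), (1, 18, true), (3, 18, true), (2, 18, true), (0, 4, true), (3, 16, true), (2, 16, true), (1, 18, true), (0, 18, true), (2, 18, true), (1, 18, true), (2, 3, true), (2, 16, true), (0, 4, true), (2, 15, true), (1, 18, true), (2, 18, true), (0, 4, true), (2, 15, true), (1, 16, true), (0, 18, true), (1, 18, true), (4, 16, true), (3, 18, true), (2, 18, true), (0, 4, true), (1, 18, true), (0, 18, true), (1, 3, true), (2, 15, true), (1, 16, true), (0, 4, true), (1, 16, true), (0, 18, true), (1, 18, true), (4, 2, true), (4, 1, true), (4, 0, true), (3, 18, true), (2, 18, true), (0, 4, true), (0, 3, true)]),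
    ([1, 1, 1], [], [(6, 14, true), (5, 17, true), (4, 19, true), (3, 19, true), (2, 20, true), (1, 20, true), (5, 18, true), (4, 18, true), (2, 4, true), (3, 18, true), (2, 18, true), (3, 3, true), (5, 13, true), (4, 16, true), (3, 18, true), (4, 18, true), (2, 4, true), (4, 16, true), (3, 18, true), (2, 18, true), (4, 18, true), (3, 18, true), (4, 3, true), (4, 15, true), (2, 4, true), (4, 13, true), (3, 16, true), (2, 4, true), (3, 16, true), (2, 18, true), (3, 18, true), (6, 15, true), (5, 18, true), (4, 18, true), (2, 4, true), (3, 18, true), (2, 18, true), (6, 12, true), (5, 16, true), (4, 18, true), (3, 18, true), (5, 18, true), (4, 18, true), (2, 4, true), (2, 3, true), (2, 16, true), (6, 12, true), (5, 16, true), (4, 18, true), (2, 4, true), (2, 18, true), (5, 16, true), (4, 18, true), (3, 18, true), (5, 18, true), (4, 18, true), (2, 4, true), (2, 3, true), (3, 11, true), (2, 16, true), (5, 16, true), (4, 18, true), (2, 4, true), (2, 18, true), (5, 15, true), (4, 18, true), (3, 18, true), (5, 18, true), (4, 18, true), (2, 4, true), (4, 15, true), (3, 18, true), (2, 18,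 true), (4, 18, true), (3, 18, true), (9, 14, true), (8, 14, true), (7, 17, true), (6, 17, true), (5, 19, true), (4, 19, true), (3, 20, true), (2, 20, true), (0, 5, true), (3, 18, true), (2, 18, true), (0, 4, true), (1, 18, true), (0, 18, true), (1, 3, true), (2, 16, true), (1, 18, true), (2, 18, true), (0, 4, true), (2, 16, true), (1, 18, true), (0, 18, true), (2, 18, true), (1, 18, true), (2, 3, true), (2, 15, true), (0, 4, true), (1, 15, true), (0, 4, true), (3, 13, true), (2, 13, true), (1, 16, true), (0, 16, true), (3, 16, true), (2, 18, true), (0, 4, true), (0, 18, true), (3, 15, true), (2, 18, true), (1, 18, true), (3, 18, true), (2, 18, true), (0, 4, true), (3, 16, true), (2, 16, true), (1, 18, true), (0, 18, true), (2, 18, true), (1, 18, true), (2, 3, true), (2, 16, true), (0, 4, true), (2, 15, true), (1, 18, true), (2, 18, true), (0, 4, true), (2, 15, true), (1, 16, true), (0, 18, true), (1, 18, true), (4, 16, true), (3, 18, true), (2, 18, true), (0, 4, true), (1, 18, true), (0, 18, true), (1, 3, true), (3, 13, true), (2, 16, true), (1, 16, true), (0, 4, true), (1, 16,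 true), (0, 18, true), (1, 18, true), (4, 15, true), (3, 18, true), (2, 18, true), (0, 4, true), (1, 18, true), (0, 18, true), (4, 16, true), (3, 16, true), (2, 18, true), (1, 18, true), (3, 18, true), (2, 18, true), (0, 4, true), (0, 3, true), (0, 16, true), (3, 15, true), (2, 18, true), (0, 4, true), (0, 18, true), (3, 15, true), (2, 16, true), (1, 18, true), (2, 18, true), (0, 4, true), (2, 16, true), (1, 18, true), (0, 18, true), (2, 18, true), (1, 18, true), (2, 3, true), (4, 12, true), (3, 16, true), (2, 16, true), (0, 4, true), (2, 16, true), (1, 18, true), (2, 18, true), (0, 4, true), (2, 15, true), (1, 18, true), (0, 18, true), (2, 18, true), (1, 18, true), (5, 16, true), (4, 16, true), (3, 18, true), (2, 18, true), (0, 4, true), (1, 18, true), (0, 18, true), (1, 3, true), (1, 16, true), (0, 4, true), (1, 15, true), (0, 18, true), (1, 18, true), (6, 13, true), (5, 13, true), (4, 16, true), (3, 16, true), (2, 18, true), (0, 4, true), (0, 18, true), (3, 16, true), (2, 18, true), (1, 18, true), (3, 18, true), (2, 18, true), (0, 4, true), (0, 3, true), (0, 15, true), (3, 16,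 true), (2, 16, true), (0, 4, true), (2, 16, true), (1, 18, true), (2, 18, true), (0, 4, true), (2, 15, true), (1, 18, true), (0, 18, true), (2, 18, true), (1, 18, true), (5, 15, true), (4, 16, true), (3, 18, true), (2, 18, true), (0, 4, true), (1, 18, true), (0, 18, true), (1, 3, true), (1, 16, true), (0, 4, true), (3, 13, true), (2, 16, true), (1, 16, true), (0, 18, true), (1, 18, true), (4, 16, true), (3, 18, true), (2, 18, true), (0, 4, true), (1, 18, true), (0, 18, true), (1, 3, true), (1, 15, true), (0, 4, true), (1, 16, true), (0, 16, true), (3, 16, true), (2, 18, true), (0, 4, true), (0, 18, true), (3, 15, true), (2, 18, true), (1, 18, true), (3, 18, true), (2, 18, true), (0, 4, true), (3, 15, true), (2, 16, true), (1, 18, true), (0, 18, true), (2, 18, true), (1, 18, true), (2, 3, true), (2, 16, true), (0, 4, true), (4, 12, true), (3, 16, true), (2, 16, true), (1, 18, true), (2, 18, true), (0, 4, true), (2, 16, true), (1, 18, true), (0, 18, true), (2, 18, true), (1, 18, true), (2, 3, true), (2, 15, true), (0, 4, true), (2, 16, true), (1, 16, true), (0, 4, true), (1, 16,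 true), (0, 18, true), (1, 18, true), (4, 15, true), (3, 18, true), (2, 18, true), (0, 4, true), (1, 18, true), (0, 18, true), (6, 12, true), (5, 13, true), (4, 16, true), (3, 16, true), (2, 18, true), (1, 18, true), (3, 18, true), (2, 18, true), (0, 4, true), (0, 3, true), (0, 16, true), (3, 15, true), (2, 18, true), (0, 4, true), (0, 18, true), (3, 16, true), (2, 16, true), (1, 18, true), (2, 18, true), (0, 4, true), (2, 16, true), (1, 18, true), (0, 18, true), (2, 18, true), (1, 18, true), (2, 3, true), (2, 15, true), (0, 4, true), (2, 15, true), (1, 16, true), (0, 4, true), (1, 16, true), (0, 18, true), (1, 18, true), (6, 13, true), (5, 16, true), (4, 16, true), (3, 18, true), (2, 18, true), (0, 4, true), (1, 18, true), (0, 18, true), (1, 3, true), (1, 16, true), (0, 4, true), (1, 15, true), (0, 18, true), (1, 18, true), (4, 16, true), (3, 16, true), (2, 18, true), (0, 4, true), (0, 18, true), (3, 16, true), (2, 18, true), (1, 18, true), (3, 18, true), (2, 18, true), (0, 4, true), (0, 3, true), (0, 15, true), (3, 15, true), (2, 16, true), (0, 4, true), (2, 16, true), (1, 18,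 true), (2, 18, true), (0, 4, true), (5, 12, true), (4, 13, true), (3, 16, true), (2, 16, true), (1, 18, true), (0, 18, true), (2, 18, true), (1, 18, true), (2, 3, true), (2, 16, true), (0, 4, true), (2, 15, true), (1, 18, true), (2, 18, true), (0, 4, true), (2, 16, true), (1, 16, true), (0, 18, true), (1, 18, true), (4, 16, true), (3, 18, true), (2, 18, true), (0, 4, true), (1, 18, true), (0, 18, true), (1, 3, true), (1, 15, true), (0, 4, true), (1, 15, true), (0, 16, true), (3, 16, true), (2, 18, true), (0, 4, true), (0, 18, true), (5, 13, true), (4, 16, true), (3, 16, true), (2, 18, true), (1, 18, true), (3, 18, true), (2, 18, true), (0, 4, true), (0, 3, true), (0, 16, true), (3, 15, true), (2, 18, true), (0, 4, true), (0, 18, true), (3, 16, true), (2, 16, true), (1, 18, true), (2, 18, true), (0, 4, true), (2, 16, true), (1, 18, true), (0, 18, true), (2, 18, true), (1, 18, true), (2, 3, true), (2, 15, true), (0, 4, true), (2, 15, true), (1, 16, true), (0, 4, true), (1, 16, true), (0, 18, true), (1, 18, true), (7, 11, true), (6, 13, true), (5, 16, true), (4, 16, true), (3, 18,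 true), (2, 18, true), (0, 4, true), (1, 18, true), (0, 18, true), (1, 3, true), (1, 16, true), (0, 4, true), (1, 15, true), (0, 18, true), (1, 18, true), (4, 16, true), (3, 16, true), (2, 18, true), (0, 4, true), (0, 18, true), (3, 16, true), (2, 18, true), (1, 18, true), (3, 18, true), (2, 18, true), (0, 4, true), (0, 3, true), (0, 15, true), (3, 15, true), (2, 16, true), (0, 4, true), (2, 16, true), (1, 18, true), (2, 18, true), (0, 4, true), (4, 13, true), (3, 16, true), (2, 16, true), (1, 18, true), (0, 18, true), (2, 18, true), (1, 18, true), (2, 3, true), (2, 16, true), (0, 4, true), (2, 15, true), (1, 18, true), (2, 18, true), (0, 4, true), (2, 16, true), (1, 16, true), (0, 18, true), (1, 18, true), (4, 16, true), (3, 18, true), (2, 18, true), (0, 4, true), (1, 18, true), (0, 18, true), (1, 3, true), (1, 15, true), (0, 4, true), (1, 15, true), (0, 16, true), (3, 16, true), (2, 18, true), (0, 4, true), (0, 18, true), (5, 12, true), (4, 16, true), (3, 16, true), (2, 18, true), (1, 18, true), (3, 18, true), (2, 18, true), (0, 4, true), (0, 3, true), (0, 16, true), (3, 15, true),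 (2, 18, true), (0, 4, true), (0, 18, true), (3, 16, true), (2, 16, true), (1, 18, true), (2, 18, true), (0, 4, true), (2, 16, true), (1, 18, true), (0, 18, true), (2, 18, true), (1, 18, true), (2, 3, true), (2, 15, true), (0, 4, true), (3, 12, true), (2, 16, true), (1, 16, true), (0, 4, true), (1, 16, true), (0, 18, true), (1, 18, true), (4, 15, true), (3, 18, true), (2, 18, true), (0, 4, true), (1, 18, true), (0, 18, true), (4, 16, true), (3, 16, true), (2, 18, true), (1, 18, true), (3, 18, true), (2, 18, true), (0, 4, true), (0, 3, true), (0, 16, true), (3, 15, true), (2, 18, true), (0, 4, true), (0, 18, true), (4, 11, true), (3, 16, true), (2, 16, true), (1, 18, true), (2, 18, true), (0, 4, true), (2, 16, true), (1, 18, true), (0, 18, true), (2, 18, true), (1, 18, true), (2, 3, true), (2, 15, true), (0, 4, true), (2, 16, true), (1, 16, true), (0, 4, true), (1, 16, true), (0, 18, true), (1, 18, true), (4, 15, true), (3, 18, true), (2, 18, true), (0, 4, true), (1, 18, true), (0, 18, true), (4, 15, true), (3, 16, true), (2, 18, true), (1, 18, true), (3, 18, true), (2, 18, true),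 (0, 4, true), (0, 3, true), (0, 16, true), (4, 15, true), (3, 16, true), (2, 18, true), (0, 4, true), (0, 18, true), (3, 16, true), (2, 18, true), (1, 18, true), (3, 18, true), (2, 18, true), (0, 4, true), (0, 3, true), (0, 2, true), (0, 1, true)], [(5, 10, true), (4, 11, true), (3, 13, true), (2, 18, true), (1, 18, true), (3, 18, true), (2, 18, true), (3, 3, true), (3, 13, true), (1, 4, true), (3, 12, true), (2, 18, true), (3, 18, true), (1, 4, true), (2, 12, true), (1, 18, true), (2, 18, true), (4, 11, true), (3, 18, true), (1, 4, true), (1, 18, true), (2, 3, true), (4, 11, true), (3, 13, true), (2, 16, true), (1, 4, true), (2, 16, true), (1, 18, true), (2, 18, true), (5, 15, true), (4, 18, true), (3, 18, true), (1, 4, true), (2, 18, true), (1, 18, true), (5, 13, true), (4, 16, true), (3, 18, true), (2, 18, true), (4, 18, true), (3, 18, true), (1, 4, true), (1, 3, true), (1, 16, true), (4, 15, true), (3, 18, true), (1, 4, true), (1, 18, true), (4, 12, true), (3, 16, true), (2, 18, true), (3, 18, true), (1, 4, true), (3, 16, true), (2, 18, true), (1, 18, true), (3, 18, true),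 (2, 18, true), (3, 3, true), (4, 12, true), (3, 16, true), (1, 4, true), (3, 16, true), (2, 18, true), (3, 18, true), (1, 4, true), (4, 11, true), (3, 16, true), (2, 18, true), (1, 18, true), (3, 18, true), (2, 18, true), (3, 3, true), (3, 16, true), (1, 4, true), (3, 15, true), (2, 18, true), (3, 18, true), (1, 4, true), (2, 15, true), (1, 18, true), (2, 18, true), (6, 1, true), (7, 8, true), (6, 14, true), (5, 17, true), (4, 17, true), (3, 19, true), (2, 20, true), (1, 20, true), (4, 18, true), (2, 4, true), (2, 18, true), (3, 3, true), (3, 16, true), (2, 4, true), (3, 16, true), (2, 18, true), (3, 18, true), (6, 15, true), (5, 18, true), (4, 18, true), (2, 4, true), (3, 18, true), (2, 18, true), (5, 15, true), (4, 18, true), (3, 18, true), (5, 18, true), (4, 18, true), (2, 4, true), (6, 12, true), (5, 16, true), (4, 16, true), (3, 18, true), (2, 18, true), (4, 18, true), (3, 18, true), (4, 3, true), (4, 16, true), (2, 4, true), (4, 15, true), (3, 18, true), (4, 18, true), (2, 4, true), (4, 16, true), (3, 16, true), (2, 18, true), (3, 18, true), (6, 16, true), (5, 18, true),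 (4, 18, true), (2, 4, true), (3, 18, true), (2, 18, true), (3, 3, true), (3, 15, true), (2, 4, true), (4, 12, true), (3, 16, true), (2, 16, true), (5, 16, true), (4, 18, true), (2, 4, true), (2, 18, true), (5, 15, true), (4, 18, true), (3, 18, true), (5, 18, true), (4, 18, true), (2, 4, true), (5, 16, true), (4, 16, true), (3, 18, true), (2, 18, true), (4, 18, true), (3, 18, true), (4, 3, true), (4, 16, true), (2, 4, true), (4, 15, true), (3, 18, true), (4, 18, true), (2, 4, true), (5, 11, true), (4, 16, true), (3, 16, true), (2, 18, true), (3, 18, true), (6, 16, true), (5, 18, true), (4, 18, true), (2, 4, true), (3, 18, true), (2, 18, true), (3, 3, true), (3, 15, true), (2, 4, true), (3, 16, true), (2, 16, true), (5, 16, true), (4, 18, true), (2, 4, true), (2, 18, true), (5, 15, true), (4, 18, true), (3, 18, true), (5, 18, true), (4, 18, true), (2, 4, true), (5, 15, true), (4, 16, true), (3, 18, true), (2, 18, true), (4, 18, true), (3, 18, true), (4, 3, true), (4, 16, true), (2, 4, true), (5, 15, true), (4, 16, true), (3, 18, true), (4, 18, true), (2, 4, true), (4, 16, true),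 (3, 18, true), (2, 18, true), (4, 18, true), (3, 18, true), (4, 3, true), (4, 2, true), (5, 8, true), (4, 14, true), (3, 20, true), (2, 20, true), (0, 5, true), (2, 12, true), (0, 4, true), (1, 12, true), (0, 4, true), (0, 11, true), (6, 6, true), (5, 14, true), (4, 17, true), (3, 19, true), (2, 19, true), (1, 20, true), (0, 20, true), (4, 18, true), (3, 18, true), (1, 4, true), (2, 18, true), (1, 18, true), (2, 3, true), (4, 12, true), (3, 16, true), (2, 18, true), (3, 18, true), (1, 4, true), (3, 16, true), (2, 18, true), (1, 18, true), (3, 18, true), (2, 18, true), (3, 3, true), (4, 11, true), (3, 16, true), (1, 4, true), (3, 16, true), (2, 18, true), (3, 18, true), (1, 4, true), (3, 15, true), (2, 18, true), (1, 18, true), (3, 18, true), (2, 18, true), (5, 15, true), (4, 18, true), (3, 18, true), (1, 4, true), (2, 18, true), (1, 18, true), (8, 6, true), (7, 14, true), (6, 14, true), (5, 17, true), (4, 17, true), (3, 19, true), (2, 19, true), (1, 20, true), (4, 18, true), (3, 18, true), (5, 18, true), (4, 18, true), (2, 4, true), (2, 3, true), (3, 16, true), (2, 18, true), (3,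 18, true), (6, 16, true), (5, 18, true), (4, 18, true), (2, 4, true), (3, 18, true), (2, 18, true), (3, 3, true), (3, 15, true), (2, 4, true), (2, 15, true), (7, 12, true), (6, 13, true), (5, 16, true), (4, 16, true), (2, 4, true), (4, 16, true), (3, 18, true), (4, 18, true), (2, 4, true), (4, 15, true), (3, 18, true), (2, 18, true), (4, 18, true), (3, 18, true), (7, 16, true), (6, 16, true), (5, 18, true), (4, 18, true), (2, 4, true), (3, 18, true), (2, 18, true), (3, 3, true), (3, 16, true), (2, 4, true), (3, 15, true), (2, 18, true), (3, 18, true), (6, 15, true), (5, 16, true), (4, 18, true), (2, 4, true), (2, 18, true), (5, 16, true), (4, 18, true), (3, 18, true), (5, 18, true), (4, 18, true), (2, 4, true), (2, 3, true), (4, 13, true), (3, 16, true), (2, 16, true), (5, 16, true), (4, 18, true), (2, 4, true), (2, 18, true), (5, 15, true), (4, 18, true), (3, 18, true), (5, 18, true), (4, 18, true), (2, 4, true), (5, 16, true), (4, 16, true), (3, 18, true), (2, 18, true), (4, 18, true), (3, 18, true), (4, 3, true), (4, 16, true), (2, 4, true), (4, 15, true), (3, 18, true), (4,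 18, true), (2, 4, true), (4, 15, true), (3, 16, true), (2, 18, true), (3, 18, true), (6, 16, true), (5, 18, true), (4, 18, true), (2, 4, true), (3, 18, true), (2, 18, true), (3, 3, true), (6, 11, true), (5, 13, true), (4, 16, true), (3, 16, true), (2, 4, true), (3, 16, true), (2, 18, true), (3, 18, true), (6, 15, true), (5, 18, true), (4, 18, true), (2, 4, true), (3, 18, true), (2, 18, true), (6, 16, true), (5, 16, true), (4, 18, true), (3, 18, true), (5, 18, true), (4, 18, true), (2, 4, true), (2, 3, true), (2, 16, true), (5, 15, true), (4, 18, true), (2, 4, true), (2, 18, true), (5, 15, true), (4, 16, true), (3, 18, true), (4, 18, true), (2, 4, true), (4, 16, true), (3, 18, true), (2, 18, true), (4, 18, true), (3, 18, true), (4, 3, true), (6, 13, true), (5, 16, true), (4, 16, true), (2, 4, true), (4, 16, true), (3, 18, true), (4, 18, true), (2, 4, true), (4, 15, true), (3, 18, true), (2, 18, true), (4, 18, true), (3, 18, true), (7, 16, true), (6, 16, true), (5, 18, true), (4, 18, true), (2, 4, true), (3, 18, true), (2, 18, true), (3, 3, true), (3, 16, true), (2, 4, true), (3,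 15, true), (2, 18, true), (3, 18, true), (6, 15, true), (5, 16, true), (4, 18, true), (2, 4, true), (2, 18, true), (5, 16, true), (4, 18, true), (3, 18, true), (5, 18, true), (4, 18, true), (2, 4, true), (2, 3, true), (4, 12, true), (3, 16, true), (2, 16, true), (5, 16, true), (4, 18, true), (2, 4, true), (2, 18, true), (5, 15, true), (4, 18, true), (3, 18, true), (5, 18, true), (4, 18, true), (2, 4, true), (5, 16, true), (4, 16, true), (3, 18, true), (2, 18, true), (4, 18, true), (3, 18, true), (4, 3, true), (4, 16, true), (2, 4, true), (4, 15, true), (3, 18, true), (4, 18, true), (2, 4, true), (5, 12, true), (4, 16, true), (3, 16, true), (2, 18, true), (3, 18, true), (6, 16, true), (5, 18, true), (4, 18, true), (2, 4, true), (3, 18, true), (2, 18, true), (3, 3, true), (3, 15, true), (2, 4, true), (3, 16, true), (2, 16, true), (5, 16, true), (4, 18, true), (2, 4, true), (2, 18, true), (5, 15, true), (4, 18, true), (3, 18, true), (5, 18, true), (4, 18, true), (2, 4, true), (6, 11, true), (5, 16, true), (4, 16, true), (3, 18, true), (2, 18, true), (4, 18, true), (3, 18, true), (4,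 3, true), (4, 16, true), (2, 4, true), (4, 15, true), (3, 18, true), (4, 18, true), (2, 4, true), (4, 16, true), (3, 16, true), (2, 18, true), (3, 18, true), (6, 16, true), (5, 18, true), (4, 18, true), (2, 4, true), (3, 18, true), (2, 18, true), (3, 3, true), (3, 15, true), (2, 4, true), (3, 15, true), (2, 16, true), (5, 16, true), (4, 18, true), (2, 4, true), (2, 18, true), (6, 15, true), (5, 16, true), (4, 18, true), (3, 18, true), (5, 18, true), (4, 18, true), (2, 4, true), (2, 3, true), (2, 16, true), (5, 2, true), (5, 1, true), (6, 10, true), (5, 7, true), (4, 18, true), (2, 4, true), (5, 7, true), (4, 13, true), (3, 16, true), (2, 18, true), (3, 18, true), (6, 16, true), (5, 18, true), (4, 18, true), (2, 4, true), (3, 18, true), (2, 18, true), (3, 3, true), (3, 15, true), (2, 4, true), (3, 11, true), (2, 16, true), (5, 16, true), (4, 18, true), (2, 4, true), (2, 18, true), (5, 15, true), (4, 18, true), (3, 18, true), (5, 18, true), (4, 18, true), (2, 4, true), (4, 15, true), (3, 18, true), (2, 18, true), (4, 18, true), (3, 18, true), (10, 6, true), (9, 14, true), (8, 14,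 true), (7, 17, true), (6, 17, true), (5, 19, true), (4, 19, true), (3, 20, true), (2, 20, true), (0, 5, true), (3, 18, true), (2, 18, true), (0, 4, true), (1, 18, true), (0, 18, true), (1, 3, true), (2, 16, true), (1, 18, true), (2, 18, true), (0, 4, true), (2, 16, true), (1, 18, true), (0, 18, true), (2, 18, true), (1, 18, true), (2, 3, true), (2, 15, true), (0, 4, true), (1, 15, true), (0, 4, true), (3, 12, true), (2, 13, true), (1, 16, true), (0, 16, true), (3, 16, true), (2, 18, true), (0, 4, true), (0, 18, true), (3, 15, true), (2, 18, true), (1, 18, true), (3, 18, true), (2, 18, true), (0, 4, true), (3, 16, true), (2, 16, true), (1, 18, true), (0, 18, true), (2, 18, true), (1, 18, true), (2, 3, true), (2, 16, true), (0, 4, true), (2, 15, true), (1, 18, true), (2, 18, true), (0, 4, true), (2, 15, true), (1, 16, true), (0, 18, true), (1, 18, true), (4, 16, true), (3, 18, true), (2, 18, true), (0, 4, true), (1, 18, true), (0, 18, true), (1, 3, true), (3, 13, true), (2, 16, true), (1, 16, true), (0, 4, true), (1, 16, true), (0, 18, true), (1, 18, true), (4, 15, true), (3, 18,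 true), (2, 18, true), (0, 4, true), (1, 18, true), (0, 18, true), (4, 16, true), (3, 16, true), (2, 18, true), (1, 18, true), (3, 18, true), (2, 18, true), (0, 4, true), (0, 3, true), (0, 16, true), (3, 15, true), (2, 18, true), (0, 4, true), (0, 18, true), (3, 15, true), (2, 16, true), (1, 18, true), (2, 18, true), (0, 4, true), (2, 16, true), (1, 18, true), (0, 18, true), (2, 18, true), (1, 18, true), (2, 3, true), (5, 11, true), (4, 13, true), (3, 16, true), (2, 16, true), (0, 4, true), (2, 16, true), (1, 18, true), (2, 18, true), (0, 4, true), (2, 15, true), (1, 18, true), (0, 18, true), (2, 18, true), (1, 18, true), (5, 16, true), (4, 16, true), (3, 18, true), (2, 18, true), (0, 4, true), (1, 18, true), (0, 18, true), (1, 3, true), (1, 16, true), (0, 4, true), (1, 15, true), (0, 18, true), (1, 18, true), (4, 15, true), (3, 16, true), (2, 18, true), (0, 4, true), (0, 18, true), (3, 16, true), (2, 18, true), (1, 18, true), (3, 18, true), (2, 18, true), (0, 4, true), (0, 3, true), (2, 13, true), (1, 16, true), (0, 16, true), (3, 16, true), (2, 18, true), (0, 4, true), (0, 18,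 true), (3, 15, true), (2, 18, true), (1, 18, true), (3, 18, true), (2, 18, true), (0, 4, true), (3, 16, true), (2, 16, true), (1, 18, true), (0, 18, true), (2, 18, true), (1, 18, true), (2, 3, true), (2, 16, true), (0, 4, true), (2, 15, true), (1, 18, true), (2, 18, true), (0, 4, true), (2, 15, true), (1, 16, true), (0, 18, true), (1, 18, true), (4, 16, true), (3, 18, true), (2, 18, true), (0, 4, true), (1, 18, true), (0, 18, true), (1, 3, true), (3, 12, true), (2, 16, true), (1, 16, true), (0, 4, true), (1, 16, true), (0, 18, true), (1, 18, true), (4, 15, true), (3, 18, true), (2, 18, true), (0, 4, true), (1, 18, true), (0, 18, true), (4, 16, true), (3, 16, true), (2, 18, true), (1, 18, true), (3, 18, true), (2, 18, true), (0, 4, true), (0, 3, true), (0, 16, true), (3, 15, true), (2, 18, true), (0, 4, true), (0, 18, true), (4, 12, true), (3, 16, true), (2, 16, true), (1, 18, true), (2, 18, true), (0, 4, true), (2, 16, true), (1, 18, true), (0, 18, true), (2, 18, true), (1, 18, true), (2, 3, true), (2, 15, true), (0, 4, true), (2, 16, true), (1, 16, true), (0, 4, true), (1, 16,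 true), (0, 18, true), (1, 18, true), (4, 15, true), (3, 18, true), (2, 18, true), (0, 4, true), (1, 18, true), (0, 18, true), (5, 11, true), (4, 16, true), (3, 16, true), (2, 18, true), (1, 18, true), (3, 18, true), (2, 18, true), (0, 4, true), (0, 3, true), (0, 16, true), (3, 15, true), (2, 18, true), (0, 4, true), (0, 18, true), (3, 16, true), (2, 16, true), (1, 18, true), (2, 18, true), (0, 4, true), (2, 16, true), (1, 18, true), (0, 18, true), (2, 18, true), (1, 18, true), (2, 3, true), (2, 15, true), (0, 4, true), (2, 15, true), (1, 16, true), (0, 4, true), (1, 16, true), (0, 18, true), (1, 18, true), (5, 15, true), (4, 16, true), (3, 18, true), (2, 18, true), (0, 4, true), (1, 18, true), (0, 18, true), (1, 3, true), (1, 16, true), (0, 4, true), (1, 2, true), (1, 1, true), (1, 6, true), (0, 19, true), (6, 8, true), (5, 10, true), (4, 11, true), (3, 16, true), (2, 18, true), (1, 18, true), (3, 18, true), (2, 18, true), (3, 3, true), (3, 16, true), (1, 4, true), (3, 15, true), (2, 18, true), (3, 18, true), (1, 4, true), (2, 15, true), (1, 18, true), (2, 18, true), (6, 11, true),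 (5, 16, true), (4, 16, true), (3, 18, true), (1, 4, true), (1, 18, true), (4, 16, true), (3, 18, true), (2, 18, true), (4, 18, true), (3, 18, true), (1, 4, true), (1, 3, true), (1, 15, true), (4, 16, true), (3, 16, true), (1, 4, true), (3, 16, true), (2, 18, true), (3, 18, true), (1, 4, true), (3, 15, true), (2, 18, true), (1, 18, true), (3, 18, true), (2, 18, true), (6, 15, true), (5, 16, true), (4, 18, true), (3, 18, true), (1, 4, true), (2, 18, true), (1, 18, true), (2, 3, true), (2, 16, true), (1, 4, true), (3, 15, true), (2, 16, true), (1, 18, true), (2, 18, true), (5, 16, true), (4, 18, true), (3, 18, true), (1, 4, true), (2, 18, true), (1, 18, true), (2, 3, true), (2, 2, true), (2, 1, true), (2, 8, true), (1, 20, true), (6, 8, true), (5, 17, true), (4, 19, true), (3, 19, true), (2, 20, true), (0, 5, true), (2, 18, true), (1, 18, true), (3, 18, true), (2, 18, true), (0, 4, true), (0, 3, true), (1, 15, true), (0, 18, true), (1, 18, true), (3, 15, true), (2, 18, true), (0, 4, true), (0, 18, true), (4, 7, true), (3, 16, true), (2, 16, true), (1, 18, true), (2, 18, true), (0,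 4, true), (2, 16, true), (1, 18, true), (0, 18, true), (2, 18, true), (1, 18, true), (2, 3, true), (2, 15, true), (0, 4, true), (1, 2, true), (3, 8, true), (2, 10, true), (1, 11, true), (0, 4, true), (3, 11, true), (2, 16, true), (1, 18, true), (0, 18, true), (2, 18, true), (1, 18, true), (2, 3, true), (2, 16, true), (0, 4, true), (2, 15, true), (1, 18, true), (2, 18, true), (0, 4, true), (1, 15, true), (0, 18, true), (1, 18, true), (5, 1, true), (5, 8, true), (4, 17, true), (3, 17, true), (2, 19, true), (1, 20, true), (0, 20, true), (3, 18, true), (1, 4, true), (1, 18, true), (2, 3, true), (2, 16, true), (1, 4, true), (2, 16, true), (1, 18, true), (2, 18, true), (5, 15, true), (4, 18, true), (3, 18, true), (1, 4, true), (2, 18, true), (1, 18, true), (4, 15, true), (3, 18, true), (2, 18, true), (4, 18, true), (3, 18, true), (1, 4, true), (4, 15, true), (3, 16, true), (2, 18, true), (1, 18, true), (3, 18, true), (2, 18, true), (3, 3, true), (3, 16, true), (1, 4, true), (4, 15, true), (3, 16, true), (2, 18, true), (3, 18, true), (1, 4, true), (3, 16, true), (2, 18, true), (1, 18,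 true), (3, 18, true), (2, 18, true), (3, 3, true), (3, 2, true), (3, 8, true), (2, 20, true), (1, 20, true), (7, 7, true), (6, 16, true), (5, 18, true), (4, 18, true), (2, 4, true), (3, 18, true), (2, 18, true), (3, 3, true), (7, 6, true), (6, 10, true), (5, 11, true), (4, 16, true), (3, 16, true), (2, 4, true), (3, 16, true), (2, 18, true), (3, 18, true), (6, 15, true), (5, 18, true), (4, 18, true), (2, 4, true), (3, 18, true), (2, 18, true), (6, 16, true), (5, 16, true), (4, 18, true), (3, 18, true), (5, 18, true), (4, 18, true), (2, 4, true), (2, 3, true), (2, 16, true), (5, 15, true), (4, 18, true), (2, 4, true), (2, 18, true), (5, 15, true), (4, 16, true), (3, 18, true), (4, 18, true), (2, 4, true), (4, 16, true), (3, 18, true), (2, 18, true), (4, 18, true), (3, 18, true), (4, 3, true), (5, 15, true), (4, 16, true), (2, 4, true), (4, 16, true), (3, 18, true), (4, 18, true), (2, 4, true), (4, 2, true), (4, 11, true), (3, 18, true), (2, 18, true), (4, 18, true), (3, 18, true), (4, 3, true), (6, 1, true), (6, 8, true), (5, 17, true), (4, 19, true), (3, 20, true), (2, 20, true),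 (0, 5, true), (2, 18, true), (0, 4, true), (0, 18, true), (1, 3, true), (1, 15, true), (0, 4, true), (0, 15, true), (4, 7, true), (3, 16, true), (2, 16, true), (0, 4, true), (2, 16, true), (1, 18, true), (2, 18, true), (0, 4, true), (2, 15, true), (1, 18, true), (0, 18, true), (2, 18, true), (1, 18, true), (4, 2, true), (5, 6, true), (4, 14, true), (3, 19, true), (2, 19, true), (1, 20, true), (0, 20, true), (5, 12, true), (4, 18, true), (3, 18, true), (1, 4, true), (2, 18, true), (1, 18, true), (4, 11, true), (3, 18, true), (2, 18, true), (4, 18, true), (3, 18, true), (1, 4, true), (1, 3, true), (6, 6, true), (5, 10, true), (4, 11, true), (3, 13, true), (2, 16, true), (1, 18, true), (2, 18, true), (5, 16, true), (4, 18, true), (3, 18, true), (1, 4, true), (2, 18, true), (1, 18, true), (2, 3, true), (2, 15, true), (1, 4, true), (2, 13, true), (1, 16, true), (4, 16, true), (3, 18, true), (1, 4, true), (1, 18, true), (4, 15, true), (3, 18, true), (2, 18, true), (4, 18, true), (3, 18, true), (1, 4, true), (4, 12, true), (3, 16, true), (2, 18, true), (1, 18, true), (3, 18, true), (2,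 18, true), (3, 3, true), (3, 16, true), (1, 4, true), (4, 12, true), (3, 16, true), (2, 18, true), (3, 18, true), (1, 4, true), (3, 16, true), (2, 18, true), (1, 18, true), (3, 18, true), (2, 18, true), (3, 3, true), (4, 11, true), (3, 16, true), (1, 4, true), (3, 16, true), (2, 18, true), (3, 18, true), (1, 4, true), (3, 15, true), (2, 18, true), (1, 18, true), (3, 18, true), (2, 18, true), (5, 15, true), (4, 18, true), (3, 18, true), (1, 4, true), (2, 18, true), (1, 18, true), (7, 11, true), (6, 13, true), (5, 16, true), (4, 16, true), (3, 18, true), (2, 18, true), (4, 18, true), (3, 18, true), (1, 4, true), (1, 3, true), (1, 16, true), (4, 15, true), (3, 18, true), (1, 4, true), (1, 18, true), (4, 16, true), (3, 16, true), (2, 18, true), (3, 18, true), (1, 4, true), (3, 16, true), (2, 18, true), (1, 18, true), (3, 18, true), (2, 18, true), (3, 3, true), (3, 15, true), (1, 4, true), (3, 15, true), (2, 16, true), (1, 4, true), (2, 16, true), (1, 18, true), (2, 18, true), (7, 13, true), (6, 16, true), (5, 16, true), (4, 18, true), (3, 18, true), (1, 4, true), (2, 18, true), (1,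 18, true), (2, 3, true), (2, 16, true), (1, 4, true), (2, 15, true), (1, 18, true), (2, 18, true), (5, 16, true), (4, 16, true), (3, 18, true), (1, 4, true), (1, 18, true), (4, 16, true), (3, 18, true), (2, 18, true), (4, 18, true), (3, 18, true), (1, 4, true), (1, 3, true), (1, 15, true), (4, 15, true), (3, 16, true), (1, 4, true), (3, 16, true), (2, 18, true), (3, 18, true), (1, 4, true), (5, 12, true), (4, 16, true), (3, 16, true), (2, 18, true), (1, 18, true), (3, 18, true), (2, 18, true), (3, 3, true), (3, 16, true), (1, 4, true), (3, 15, true), (2, 18, true), (3, 18, true), (1, 4, true), (3, 16, true), (2, 16, true), (1, 18, true), (2, 18, true), (5, 16, true), (4, 18, true), (3, 18, true), (1, 4, true), (2, 18, true), (1, 18, true), (2, 3, true), (2, 15, true), (1, 4, true), (3, 12, true), (2, 16, true), (1, 16, true), (4, 16, true), (3, 18, true), (1, 4, true), (1, 18, true), (4, 15, true), (3, 18, true), (2, 18, true), (4, 18, true), (3, 18, true), (1, 4, true), (4, 16, true), (3, 16, true), (2, 18, true), (1, 18, true), (3, 18, true), (2, 18, true), (3, 3, true), (3,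 16, true), (1, 4, true), (3, 15, true), (2, 18, true), (3, 18, true), (1, 4, true), (4, 11, true), (3, 16, true), (2, 16, true), (1, 18, true), (2, 18, true), (5, 16, true), (4, 18, true), (3, 18, true), (1, 4, true), (2, 18, true), (1, 18, true), (2, 3, true), (2, 15, true), (1, 4, true), (2, 16, true), (1, 16, true), (4, 16, true), (3, 18, true), (1, 4, true), (1, 18, true), (4, 15, true), (3, 18, true), (2, 18, true), (4, 18, true), (3, 18, true), (1, 4, true), (4, 15, true), (3, 16, true), (2, 18, true), (1, 18, true), (3, 18, true), (2, 18, true), (3, 3, true), (3, 16, true), (1, 4, true), (4, 15, true), (3, 16, true), (2, 18, true), (3, 18, true), (1, 4, true), (3, 16, true), (2, 18, true), (1, 18, true), (3, 18, true), (2, 18, true), (3, 3, true), (3, 2, true), (3, 1, true), (4, 8, true), (3, 14, true), (2, 20, true), (1, 20, true), (4, 12, true), (2, 4, true), (3, 12, true), (2, 4, true), (2, 11, true), (8, 7, true), (7, 13, true), (6, 16, true), (5, 18, true), (4, 18, true), (2, 4, true), (3, 18, true), (2, 18, true), (3, 3, true), (3, 16, true), (2, 4, true), (3, 15,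 true), (2, 18, true), (3, 18, true), (6, 11, true), (5, 16, true), (4, 18, true), (2, 4, true), (2, 18, true), (5, 16, true), (4, 18, true), (3, 18, true), (5, 18, true), (4, 18, true), (2, 4, true), (2, 3, true), (2, 15, true), (4, 15, true), (2, 4, true), (7, 6, true), (6, 14, true), (5, 14, true), (4, 17, true), (3, 17, true), (2, 20, true), (0, 5, true), (0, 4, true), (2, 16, true), (1, 18, true), (0, 18, true), (2, 18, true), (1, 18, true), (2, 3, true), (2, 16, true), (0, 4, true), (2, 15, true), (1, 18, true), (2, 18, true), (0, 4, true), (1, 15, true), (0, 18, true), (1, 18, true), (6, 12, true), (5, 13, true), (4, 16, true), (3, 16, true), (2, 18, true), (0, 4, true), (0, 18, true), (3, 16, true), (2, 18, true), (1, 18, true), (3, 18, true), (2, 18, true), (0, 4, true), (0, 3, true), (0, 15, true), (3, 16, true), (2, 16, true), (0, 4, true), (2, 16, true), (1, 18, true), (2, 18, true), (0, 4, true), (2, 15, true), (1, 18, true), (0, 18, true), (2, 18, true), (1, 18, true), (5, 15, true), (4, 16, true), (3, 18, true), (2, 18, true), (0, 4, true), (1, 18, true), (0, 18,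 true), (1, 3, true), (1, 16, true), (0, 4, true), (3, 13, true), (2, 16, true), (1, 16, true), (0, 18, true), (1, 18, true), (4, 16, true), (3, 18, true), (2, 18, true), (0, 4, true), (1, 18, true), (0, 18, true), (1, 3, true), (1, 15, true), (0, 4, true), (1, 16, true), (0, 16, true), (3, 16, true), (2, 18, true), (0, 4, true), (0, 18, true), (3, 15, true), (2, 18, true), (1, 18, true), (3, 18, true), (2, 18, true), (0, 4, true), (3, 15, true), (2, 16, true), (1, 18, true), (0, 18, true), (2, 18, true), (1, 18, true), (2, 3, true), (2, 16, true), (0, 4, true), (5, 11, true), (4, 13, true), (3, 16, true), (2, 16, true), (1, 18, true), (2, 18, true), (0, 4, true), (2, 16, true), (1, 18, true), (0, 18, true), (2, 18, true), (1, 18, true), (2, 3, true), (2, 15, true), (0, 4, true), (2, 16, true), (1, 16, true), (0, 4, true), (1, 16, true), (0, 18, true), (1, 18, true), (4, 15, true), (3, 18, true), (2, 18, true), (0, 4, true), (1, 18, true), (0, 18, true), (4, 15, true), (3, 16, true), (2, 18, true), (1, 18, true), (3, 18, true), (2, 18, true), (0, 4, true), (0, 3, true), (0, 16,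 true), (5, 13, true), (4, 16, true), (3, 16, true), (2, 18, true), (0, 4, true), (0, 18, true), (3, 16, true), (2, 18, true), (1, 18, true), (3, 18, true), (2, 18, true), (0, 4, true), (0, 3, true), (0, 15, true), (3, 16, true), (2, 16, true), (0, 4, true), (2, 16, true), (1, 18, true), (2, 18, true), (0, 4, true), (2, 15, true), (1, 18, true), (0, 18, true), (2, 18, true), (1, 18, true), (5, 15, true), (4, 16, true), (3, 18, true), (2, 18, true), (0, 4, true), (1, 18, true), (0, 18, true), (1, 3, true), (1, 16, true), (0, 4, true), (3, 12, true), (2, 16, true), (1, 16, true), (0, 18, true), (1, 18, true), (4, 16, true), (3, 18, true), (2, 18, true), (0, 4, true), (1, 18, true), (0, 18, true), (1, 3, true), (1, 15, true), (0, 4, true), (1, 16, true), (0, 16, true), (3, 16, true), (2, 18, true), (0, 4, true), (0, 18, true), (3, 15, true), (2, 18, true), (1, 18, true), (3, 18, true), (2, 18, true), (0, 4, true), (4, 12, true), (3, 16, true), (2, 16, true), (1, 18, true), (0, 18, true), (2, 18, true), (1, 18, true), (2, 3, true), (2, 16, true), (0, 4, true), (2, 15, true), (1, 18,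 true), (2, 18, true), (0, 4, true), (2, 16, true), (1, 16, true), (0, 18, true), (1, 18, true), (4, 16, true), (3, 18, true), (2, 18, true), (0, 4, true), (1, 18, true), (0, 18, true), (1, 3, true), (1, 15, true), (0, 4, true), (2, 11, true), (1, 16, true), (0, 16, true), (3, 16, true), (2, 18, true), (0, 4, true), (0, 18, true), (3, 15, true), (2, 18, true), (1, 18, true), (3, 18, true), (2, 18, true), (0, 4, true), (3, 16, true), (2, 16, true), (1, 18, true), (0, 18, true), (2, 18, true), (1, 18, true), (2, 3, true), (2, 16, true), (0, 4, true), (2, 15, true), (1, 18, true), (2, 18, true), (0, 4, true), (2, 15, true), (1, 16, true), (0, 18, true), (1, 18, true), (4, 16, true), (3, 18, true), (2, 18, true), (0, 4, true), (1, 18, true), (0, 18, true), (1, 3, true), (2, 15, true), (1, 16, true), (0, 4, true), (1, 16, true), (0, 18, true), (1, 18, true), (4, 2, true), (4, 1, true), (4, 0, true), (3, 18, true), (2, 18, true), (0, 4, true), (0, 3, true)]),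
    ([3, 3, 3], [], [(5, 10, true), (4, 11, true), (3, 13, true), (2, 18, true), (1, 18, true), (3, 18, true), (2, 18, true), (3, 3, true), (3, 13, true), (1, 4, true), (3, 12, true), (2, 18, true), (3, 18, true), (1, 4, true), (2, 12, true), (1, 18, true), (2, 18, true), (4, 11, true), (3, 18, true), (1, 4, true), (1, 18, true), (2, 3, true), (4, 11, true), (3, 13, true), (2, 16, true), (1, 4, true), (2, 16, true), (1, 18, true), (2, 18, true), (5, 15, true), (4, 18, true), (3, 18, true), (1, 4, true), (2, 18, true), (1, 18, true), (5, 13, true), (4, 16, true), (3, 18, true), (2, 18, true), (4, 18, true), (3, 18, true), (1, 4, true), (1, 3, true), (1, 16, true), (4, 15, true), (3, 18, true), (1, 4, true), (1, 18, true), (4, 12, true), (3, 16, true), (2, 18, true), (3, 18, true), (1, 4, true), (3, 16, true), (2, 18, true), (1, 18, true), (3, 18, true), (2, 18, true), (3, 3, true), (4, 12, true), (3, 16, true), (1, 4, true), (3, 16, true), (2, 18, true), (3, 18, true), (1, 4, true), (4, 11, true), (3, 16, true), (2, 18, true), (1, 18, true), (3, 18, true), (2, 18, true), (3, 3,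 true), (3, 16, true), (1, 4, true), (3, 15, true), (2, 18, true), (3, 18, true), (1, 4, true), (2, 15, true), (1, 18, true), (2, 18, true), (6, 1, true), (7, 8, true), (6, 14, true), (5, 17, true), (4, 17, true), (3, 19, true), (2, 20, true), (1, 20, true), (4, 18, true), (2, 4, true), (2, 18, true), (3, 3, true), (3, 16, true), (2, 4, true), (3, 16, true), (2, 18, true), (3, 18, true), (6, 15, true), (5, 18, true), (4, 18, true), (2, 4, true), (3, 18, true), (2, 18, true), (5, 15, true), (4, 18, true), (3, 18, true), (5, 18, true), (4, 18, true), (2, 4, true), (6, 12, true), (5, 16, true), (4, 16, true), (3, 18, true), (2, 18, true), (4, 18, true), (3, 18, true), (4, 3, true), (4, 16, true), (2, 4, true), (4, 15, true), (3, 18, true), (4, 18, true), (2, 4, true), (4, 16, true), (3, 16, true), (2, 18, true), (3, 18, true), (6, 16, true), (5, 18, true), (4, 18, true), (2, 4, true), (3, 18, true), (2, 18, true), (3, 3, true), (3, 15, true), (2, 4, true), (4, 12, true), (3, 16, true), (2, 16, true), (5, 16, true), (4, 18, true), (2, 4, true), (2, 18, true), (5, 15, true), (4, 18,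 true), (3, 18, true), (5, 18, true), (4, 18, true), (2, 4, true), (5, 16, true), (4, 16, true), (3, 18, true), (2, 18, true), (4, 18, true), (3, 18, true), (4, 3, true), (4, 16, true), (2, 4, true), (4, 15, true), (3, 18, true), (4, 18, true), (2, 4, true), (5, 11, true), (4, 16, true), (3, 16, true), (2, 18, true), (3, 18, true), (6, 16, true), (5, 18, true), (4, 18, true), (2, 4, true), (3, 18, true), (2, 18, true), (3, 3, true), (3, 15, true), (2, 4, true), (3, 16, true), (2, 16, true), (5, 16, true), (4, 18, true), (2, 4, true), (2, 18, true), (5, 15, true), (4, 18, true), (3, 18, true), (5, 18, true), (4, 18, true), (2, 4, true), (5, 15, true), (4, 16, true), (3, 18, true), (2, 18, true), (4, 18, true), (3, 18, true), (4, 3, true), (4, 16, true), (2, 4, true), (5, 15, true), (4, 16, true), (3, 18, true), (4, 18, true), (2, 4, true), (4, 16, true), (3, 18, true), (2, 18, true), (4, 18, true), (3, 18, true), (4, 3, true), (4, 2, true), (5, 8, true), (4, 14, true), (3, 20, true), (2, 20, true), (0, 5, true), (2, 12, true), (0, 4, true), (1, 12, true), (0, 4, true), (0, 11, true),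 (6, 6, true), (5, 14, true), (4, 17, true), (3, 19, true), (2, 19, true), (1, 20, true), (0, 20, true), (4, 18, true), (3, 18, true), (1, 4, true), (2, 18, true), (1, 18, true), (2, 3, true), (4, 12, true), (3, 16, true), (2, 18, true), (3, 18, true), (1, 4, true), (3, 16, true), (2, 18, true), (1, 18, true), (3, 18, true), (2, 18, true), (3, 3, true), (4, 11, true), (3, 16, true), (1, 4, true), (3, 16, true), (2, 18, true), (3, 18, true), (1, 4, true), (3, 15, true), (2, 18, true), (1, 18, true), (3, 18, true), (2, 18, true), (5, 15, true), (4, 18, true), (3, 18, true), (1, 4, true), (2, 18, true), (1, 18, true), (8, 6, true), (7, 14, true), (6, 14, true), (5, 17, true), (4, 17, true), (3, 19, true), (2, 19, true), (1, 20, true), (4, 18, true), (3, 18, true), (5, 18, true), (4, 18, true), (2, 4, true), (2, 3, true), (3, 16, true), (2, 18, true), (3, 18, true), (6, 16, true), (5, 18, true), (4, 18, true), (2, 4, true), (3, 18, true), (2, 18, true), (3, 3, true), (3, 15, true), (2, 4, true), (2, 15, true), (7, 12, true), (6, 13, true), (5, 16, true), (4, 16, true), (2, 4, true),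 (4, 16, true), (3, 18, true), (4, 18, true), (2, 4, true), (4, 15, true), (3, 18, true), (2, 18, true), (4, 18, true), (3, 18, true), (7, 16, true), (6, 16, true), (5, 18, true), (4, 18, true), (2, 4, true), (3, 18, true), (2, 18, true), (3, 3, true), (3, 16, true), (2, 4, true), (3, 15, true), (2, 18, true), (3, 18, true), (6, 15, true), (5, 16, true), (4, 18, true), (2, 4, true), (2, 18, true), (5, 16, true), (4, 18, true), (3, 18, true), (5, 18, true), (4, 18, true), (2, 4, true), (2, 3, true), (4, 13, true), (3, 16, true), (2, 16, true), (5, 16, true), (4, 18, true), (2, 4, true), (2, 18, true), (5, 15, true), (4, 18, true), (3, 18, true), (5, 18, true), (4, 18, true), (2, 4, true), (5, 16, true), (4, 16, true), (3, 18, true), (2, 18, true), (4, 18, true), (3, 18, true), (4, 3, true), (4, 16, true), (2, 4, true), (4, 15, true), (3, 18, true), (4, 18, true), (2, 4, true), (4, 15, true), (3, 16, true), (2, 18, true), (3, 18, true), (6, 16, true), (5, 18, true), (4, 18, true), (2, 4, true), (3, 18, true), (2, 18, true), (3, 3, true), (6, 11, true), (5, 13, true), (4, 16, true),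 (3, 16, true), (2, 4, true), (3, 16, true), (2, 18, true), (3, 18, true), (6, 15, true), (5, 18, true), (4, 18, true), (2, 4, true), (3, 18, true), (2, 18, true), (6, 16, true), (5, 16, true), (4, 18, true), (3, 18, true), (5, 18, true), (4, 18, true), (2, 4, true), (2, 3, true), (2, 16, true), (5, 15, true), (4, 18, true), (2, 4, true), (2, 18, true), (5, 15, true), (4, 16, true), (3, 18, true), (4, 18, true), (2, 4, true), (4, 16, true), (3, 18, true), (2, 18, true), (4, 18, true), (3, 18, true), (4, 3, true), (6, 13, true), (5, 16, true), (4, 16, true), (2, 4, true), (4, 16, true), (3, 18, true), (4, 18, true), (2, 4, true), (4, 15, true), (3, 18, true), (2, 18, true), (4, 18, true), (3, 18, true), (7, 16, true), (6, 16, true), (5, 18, true), (4, 18, true), (2, 4, true), (3, 18, true), (2, 18, true), (3, 3, true), (3, 16, true), (2, 4, true), (3, 15, true), (2, 18, true), (3, 18, true), (6, 15, true), (5, 16, true), (4, 18, true), (2, 4, true), (2, 18, true), (5, 16, true), (4, 18, true), (3, 18, true), (5, 18, true), (4, 18, true), (2, 4, true), (2, 3, true), (4, 12, true),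 (3, 16, true), (2, 16, true), (5, 16, true), (4, 18, true), (2, 4, true), (2, 18, true), (5, 15, true), (4, 18, true), (3, 18, true), (5, 18, true), (4, 18, true), (2, 4, true), (5, 16, true), (4, 16, true), (3, 18, true), (2, 18, true), (4, 18, true), (3, 18, true), (4, 3, true), (4, 16, true), (2, 4, true), (4, 15, true), (3, 18, true), (4, 18, true), (2, 4, true), (5, 12, true), (4, 16, true), (3, 16, true), (2, 18, true), (3, 18, true), (6, 16, true), (5, 18, true), (4, 18, true), (2, 4, true), (3, 18, true), (2, 18, true), (3, 3, true), (3, 15, true), (2, 4, true), (3, 16, true), (2, 16, true), (5, 16, true), (4, 18, true), (2, 4, true), (2, 18, true), (5, 15, true), (4, 18, true), (3, 18, true), (5, 18, true), (4, 18, true), (2, 4, true), (6, 11, true), (5, 16, true), (4, 16, true), (3, 18, true), (2, 18, true), (4, 18, true), (3, 18, true), (4, 3, true), (4, 16, true), (2, 4, true), (4, 15, true), (3, 18, true), (4, 18, true), (2, 4, true), (4, 16, true), (3, 16, true), (2, 18, true), (3, 18, true), (6, 16, true), (5, 18, true), (4, 18, true), (2, 4, true), (3, 18, true),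 (2, 18, true), (3, 3, true), (3, 15, true), (2, 4, true), (3, 15, true), (2, 16, true), (5, 16, true), (4, 18, true), (2, 4, true), (2, 18, true), (6, 15, true), (5, 16, true), (4, 18, true), (3, 18, true), (5, 18, true), (4, 18, true), (2, 4, true), (2, 3, true), (2, 16, true), (5, 2, true), (5, 1, true), (6, 10, true), (5, 7, true), (4, 18, true), (2, 4, true), (5, 7, true), (4, 13, true), (3, 16, true), (2, 18, true), (3, 18, true), (6, 16, true), (5, 18, true), (4, 18, true), (2, 4, true), (3, 18, true), (2, 18, true), (3, 3, true), (3, 15, true), (2, 4, true), (3, 11, true), (2, 16, true), (5, 16, true), (4, 18, true), (2, 4, true), (2, 18, true), (5, 15, true), (4, 18, true), (3, 18, true), (5, 18, true), (4, 18, true), (2, 4, true), (4, 15, true), (3, 18, true), (2, 18, true), (4, 18, true), (3, 18, true), (10, 6, true), (9, 14, true), (8, 14, true), (7, 17, true), (6, 17, true), (5, 19, true), (4, 19, true), (3, 20, true), (2, 20, true), (0, 5, true), (3, 18, true), (2, 18, true), (0, 4, true), (1, 18, true), (0, 18, true), (1, 3, true), (2, 16, true), (1, 18, true), (2,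 18, true), (0, 4, true), (2, 16, true), (1, 18, true), (0, 18, true), (2, 18, true), (1, 18, true), (2, 3, true), (2, 15, true), (0, 4, true), (1, 15, true), (0, 4, true), (3, 12, true), (2, 13, true), (1, 16, true), (0, 16, true), (3, 16, true), (2, 18, true), (0, 4, true), (0, 18, true), (3, 15, true), (2, 18, true), (1, 18, true), (3, 18, true), (2, 18, true), (0, 4, true), (3, 16, true), (2, 16, true), (1, 18, true), (0, 18, true), (2, 18, true), (1, 18, true), (2, 3, true), (2, 16, true), (0, 4, true), (2, 15, true), (1, 18, true), (2, 18, true), (0, 4, true), (2, 15, true), (1, 16, true), (0, 18, true), (1, 18, true), (4, 16, true), (3, 18, true), (2, 18, true), (0, 4, true), (1, 18, true), (0, 18, true), (1, 3, true), (3, 13, true), (2, 16, true), (1, 16, true), (0, 4, true), (1, 16, true), (0, 18, true), (1, 18, true), (4, 15, true), (3, 18, true), (2, 18, true), (0, 4, true), (1, 18, true), (0, 18, true), (4, 16, true), (3, 16, true), (2, 18, true), (1, 18, true), (3, 18, true), (2, 18, true), (0, 4, true), (0, 3, true), (0, 16, true), (3, 15, true), (2, 18, true), (0,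 4, true), (0, 18, true), (3, 15, true), (2, 16, true), (1, 18, true), (2, 18, true), (0, 4, true), (2, 16, true), (1, 18, true), (0, 18, true), (2, 18, true), (1, 18, true), (2, 3, true), (5, 11, true), (4, 13, true), (3, 16, true), (2, 16, true), (0, 4, true), (2, 16, true), (1, 18, true), (2, 18, true), (0, 4, true), (2, 15, true), (1, 18, true), (0, 18, true), (2, 18, true), (1, 18, true), (5, 16, true), (4, 16, true), (3, 18, true), (2, 18, true), (0, 4, true), (1, 18, true), (0, 18, true), (1, 3, true), (1, 16, true), (0, 4, true), (1, 15, true), (0, 18, true), (1, 18, true), (4, 15, true), (3, 16, true), (2, 18, true), (0, 4, true), (0, 18, true), (3, 16, true), (2, 18, true), (1, 18, true), (3, 18, true), (2, 18, true), (0, 4, true), (0, 3, true), (2, 13, true), (1, 16, true), (0, 16, true), (3, 16, true), (2, 18, true), (0, 4, true), (0, 18, true), (3, 15, true), (2, 18, true), (1, 18, true), (3, 18, true), (2, 18, true), (0, 4, true), (3, 16, true), (2, 16, true), (1, 18, true), (0, 18, true), (2, 18, true), (1, 18, true), (2, 3, true), (2, 16, true), (0, 4, true), (2,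 15, true), (1, 18, true), (2, 18, true), (0, 4, true), (2, 15, true), (1, 16, true), (0, 18, true), (1, 18, true), (4, 16, true), (3, 18, true), (2, 18, true), (0, 4, true), (1, 18, true), (0, 18, true), (1, 3, true), (3, 12, true), (2, 16, true), (1, 16, true), (0, 4, true), (1, 16, true), (0, 18, true), (1, 18, true), (4, 15, true), (3, 18, true), (2, 18, true), (0, 4, true), (1, 18, true), (0, 18, true), (4, 16, true), (3, 16, true), (2, 18, true), (1, 18, true), (3, 18, true), (2, 18, true), (0, 4, true), (0, 3, true), (0, 16, true), (3, 15, true), (2, 18, true), (0, 4, true), (0, 18, true), (4, 12, true), (3, 16, true), (2, 16, true), (1, 18, true), (2, 18, true), (0, 4, true), (2, 16, true), (1, 18, true), (0, 18, true), (2, 18, true), (1, 18, true), (2, 3, true), (2, 15, true), (0, 4, true), (2, 16, true), (1, 16, true), (0, 4, true), (1, 16, true), (0, 18, true), (1, 18, true), (4, 15, true), (3, 18, true), (2, 18, true), (0, 4, true), (1, 18, true), (0, 18, true), (5, 11, true), (4, 16, true), (3, 16, true), (2, 18, true), (1, 18, true), (3, 18, true), (2, 18, true), (0,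 4, true), (0, 3, true), (0, 16, true), (3, 15, true), (2, 18, true), (0, 4, true), (0, 18, true), (3, 16, true), (2, 16, true), (1, 18, true), (2, 18, true), (0, 4, true), (2, 16, true), (1, 18, true), (0, 18, true), (2, 18, true), (1, 18, true), (2, 3, true), (2, 15, true), (0, 4, true), (2, 15, true), (1, 16, true), (0, 4, true), (1, 16, true), (0, 18, true), (1, 18, true), (5, 15, true), (4, 16, true), (3, 18, true), (2, 18, true), (0, 4, true), (1, 18, true), (0, 18, true), (1, 3, true), (1, 16, true), (0, 4, true), (1, 2, true), (1, 1, true), (1, 6, true), (0, 19, true), (6, 8, true), (5, 10, true), (4, 11, true), (3, 16, true), (2, 18, true), (1, 18, true), (3, 18, true), (2, 18, true), (3, 3, true), (3, 16, true), (1, 4, true), (3, 15, true), (2, 18, true), (3, 18, true), (1, 4, true), (2, 15, true), (1, 18, true), (2, 18, true), (6, 11, true), (5, 16, true), (4, 16, true), (3, 18, true), (1, 4, true), (1, 18, true), (4, 16, true), (3, 18, true), (2, 18, true), (4, 18, true), (3, 18, true), (1, 4, true), (1, 3, true), (1, 15, true), (4, 16, true), (3, 16, true), (1, 4, true),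 (3, 16, true), (2, 18, true), (3, 18, true), (1, 4, true), (3, 15, true), (2, 18, true), (1, 18, true), (3, 18, true), (2, 18, true), (6, 15, true), (5, 16, true), (4, 18, true), (3, 18, true), (1, 4, true), (2, 18, true), (1, 18, true), (2, 3, true), (2, 16, true), (1, 4, true), (3, 15, true), (2, 16, true), (1, 18, true), (2, 18, true), (5, 16, true), (4, 18, true), (3, 18, true), (1, 4, true), (2, 18, true), (1, 18, true), (2, 3, true), (2, 2, true), (2, 1, true), (2, 8, true), (1, 20, true), (6, 8, true), (5, 17, true), (4, 19, true), (3, 19, true), (2, 20, true), (0, 5, true), (2, 18, true), (1, 18, true), (3, 18, true), (2, 18, true), (0, 4, true), (0, 3, true), (1, 15, true), (0, 18, true), (1, 18, true), (3, 15, true), (2, 18, true), (0, 4, true), (0, 18, true), (4, 7, true), (3, 16, true), (2, 16, true), (1, 18, true), (2, 18, true), (0, 4, true), (2, 16, true), (1, 18, true), (0, 18, true), (2, 18, true), (1, 18, true), (2, 3, true), (2, 15, true), (0, 4, true), (1, 2, true), (3, 8, true), (2, 10, true), (1, 11, true), (0, 4, true), (3, 11, true), (2, 16, true), (1, 18,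 true), (0, 18, true), (2, 18, true), (1, 18, true), (2, 3, true), (2, 16, true), (0, 4, true), (2, 15, true), (1, 18, true), (2, 18, true), (0, 4, true), (1, 15, true), (0, 18, true), (1, 18, true), (5, 1, true), (5, 8, true), (4, 17, true), (3, 17, true), (2, 19, true), (1, 20, true), (0, 20, true), (3, 18, true), (1, 4, true), (1, 18, true), (2, 3, true), (2, 16, true), (1, 4, true), (2, 16, true), (1, 18, true), (2, 18, true), (5, 15, true), (4, 18, true), (3, 18, true), (1, 4, true), (2, 18, true), (1, 18, true), (4, 15, true), (3, 18, true), (2, 18, true), (4, 18, true), (3, 18, true), (1, 4, true), (4, 15, true), (3, 16, true), (2, 18, true), (1, 18, true), (3, 18, true), (2, 18, true), (3, 3, true), (3, 16, true), (1, 4, true), (4, 15, true), (3, 16, true), (2, 18, true), (3, 18, true), (1, 4, true), (3, 16, true), (2, 18, true), (1, 18, true), (3, 18, true), (2, 18, true), (3, 3, true), (3, 2, true), (3, 8, true), (2, 20, true), (1, 20, true), (7, 7, true), (6, 16, true), (5, 18, true), (4, 18, true), (2, 4, true), (3, 18, true), (2, 18, true), (3, 3, true), (7, 6, true),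 (6, 10, true), (5, 11, true), (4, 16, true), (3, 16, true), (2, 4, true), (3, 16, true), (2, 18, true), (3, 18, true), (6, 15, true), (5, 18, true), (4, 18, true), (2, 4, true), (3, 18, true), (2, 18, true), (6, 16, true), (5, 16, true), (4, 18, true), (3, 18, true), (5, 18, true), (4, 18, true), (2, 4, true), (2, 3, true), (2, 16, true), (5, 15, true), (4, 18, true), (2, 4, true), (2, 18, true), (5, 15, true), (4, 16, true), (3, 18, true), (4, 18, true), (2, 4, true), (4, 16, true), (3, 18, true), (2, 18, true), (4, 18, true), (3, 18, true), (4, 3, true), (5, 15, true), (4, 16, true), (2, 4, true), (4, 16, true), (3, 18, true), (4, 18, true), (2, 4, true), (4, 2, true), (4, 11, true), (3, 18, true), (2, 18, true), (4, 18, true), (3, 18, true), (4, 3, true), (6, 1, true), (6, 8, true), (5, 17, true), (4, 19, true), (3, 20, true), (2, 20, true), (0, 5, true), (2, 18, true), (0, 4, true), (0, 18, true), (1, 3, true), (1, 15, true), (0, 4, true), (0, 15, true), (4, 7, true), (3, 16, true), (2, 16, true), (0, 4, true), (2, 16, true), (1, 18, true), (2, 18, true), (0, 4, true), (2,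 15, true), (1, 18, true), (0, 18, true), (2, 18, true), (1, 18, true), (4, 2, true), (5, 6, true), (4, 14, true), (3, 19, true), (2, 19, true), (1, 20, true), (0, 20, true), (5, 12, true), (4, 18, true), (3, 18, true), (1, 4, true), (2, 18, true), (1, 18, true), (4, 11, true), (3, 18, true), (2, 18, true), (4, 18, true), (3, 18, true), (1, 4, true), (1, 3, true), (6, 6, true), (5, 10, true), (4, 11, true), (3, 13, true), (2, 16, true), (1, 18, true), (2, 18, true), (5, 16, true), (4, 18, true), (3, 18, true), (1, 4, true), (2, 18, true), (1, 18, true), (2, 3, true), (2, 15, true), (1, 4, true), (2, 13, true), (1, 16, true), (4, 16, true), (3, 18, true), (1, 4, true), (1, 18, true), (4, 15, true), (3, 18, true), (2, 18, true), (4, 18, true), (3, 18, true), (1, 4, true), (4, 12, true), (3, 16, true), (2, 18, true), (1, 18, true), (3, 18, true), (2, 18, true), (3, 3, true), (3, 16, true), (1, 4, true), (4, 12, true), (3, 16, true), (2, 18, true), (3, 18, true), (1, 4, true), (3, 16, true), (2, 18, true), (1, 18, true), (3, 18, true), (2, 18, true), (3, 3, true), (4, 11, true), (3,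 16, true), (1, 4, true), (3, 16, true), (2, 18, true), (3, 18, true), (1, 4, true), (3, 15, true), (2, 18, true), (1, 18, true), (3, 18, true), (2, 18, true), (5, 15, true), (4, 18, true), (3, 18, true), (1, 4, true), (2, 18, true), (1, 18, true), (7, 11, true), (6, 13, true), (5, 16, true), (4, 16, true), (3, 18, true), (2, 18, true), (4, 18, true), (3, 18, true), (1, 4, true), (1, 3, true), (1, 16, true), (4, 15, true), (3, 18, true), (1, 4, true), (1, 18, true), (4, 16, true), (3, 16, true), (2, 18, true), (3, 18, true), (1, 4, true), (3, 16, true), (2, 18, true), (1, 18, true), (3, 18, true), (2, 18, true), (3, 3, true), (3, 15, true), (1, 4, true), (3, 15, true), (2, 16, true), (1, 4, true), (2, 16, true), (1, 18, true), (2, 18, true), (7, 13, true), (6, 16, true), (5, 16, true), (4, 18, true), (3, 18, true), (1, 4, true), (2, 18, true), (1, 18, true), (2, 3, true), (2, 16, true), (1, 4, true), (2, 15, true), (1, 18, true), (2, 18, true), (5, 16, true), (4, 16, true), (3, 18, true), (1, 4, true), (1, 18, true), (4, 16, true), (3, 18, true), (2, 18, true), (4, 18, true), (3,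 18, true), (1, 4, true), (1, 3, true), (1, 15, true), (4, 15, true), (3, 16, true), (1, 4, true), (3, 16, true), (2, 18, true), (3, 18, true), (1, 4, true), (5, 12, true), (4, 16, true), (3, 16, true), (2, 18, true), (1, 18, true), (3, 18, true), (2, 18, true), (3, 3, true), (3, 16, true), (1, 4, true), (3, 15, true), (2, 18, true), (3, 18, true), (1, 4, true), (3, 16, true), (2, 16, true), (1, 18, true), (2, 18, true), (5, 16, true), (4, 18, true), (3, 18, true), (1, 4, true), (2, 18, true), (1, 18, true), (2, 3, true), (2, 15, true), (1, 4, true), (3, 12, true), (2, 16, true), (1, 16, true), (4, 16, true), (3, 18, true), (1, 4, true), (1, 18, true), (4, 15, true), (3, 18, true), (2, 18, true), (4, 18, true), (3, 18, true), (1, 4, true), (4, 16, true), (3, 16, true), (2, 18, true), (1, 18, true), (3, 18, true), (2, 18, true), (3, 3, true), (3, 16, true), (1, 4, true), (3, 15, true), (2, 18, true), (3, 18, true), (1, 4, true), (4, 11, true), (3, 16, true), (2, 16, true), (1, 18, true), (2, 18, true), (5, 16, true), (4, 18, true), (3, 18, true), (1, 4, true), (2, 18, true), (1,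 18, true), (2, 3, true), (2, 15, true), (1, 4, true), (2, 16, true), (1, 16, true), (4, 16, true), (3, 18, true), (1, 4, true), (1, 18, true), (4, 15, true), (3, 18, true), (2, 18, true), (4, 18, true), (3, 18, true), (1, 4, true), (4, 15, true), (3, 16, true), (2, 18, true), (1, 18, true), (3, 18, true), (2, 18, true), (3, 3, true), (3, 16, true), (1, 4, true), (4, 15, true), (3, 16, true), (2, 18, true), (3, 18, true), (1, 4, true), (3, 16, true), (2, 18, true), (1, 18, true), (3, 18, true), (2, 18, true), (3, 3, true), (3, 2, true), (3, 1, true), (4, 8, true), (3, 14, true), (2, 20, true), (1, 20, true), (4, 12, true), (2, 4, true), (3, 12, true), (2, 4, true), (2, 11, true), (8, 7, true), (7, 13, true), (6, 16, true), (5, 18, true), (4, 18, true), (2, 4, true), (3, 18, true), (2, 18, true), (3, 3, true), (3, 16, true), (2, 4, true), (3, 15, true), (2, 18, true), (3, 18, true), (6, 11, true), (5, 16, true), (4, 18, true), (2, 4, true), (2, 18, true), (5, 16, true), (4, 18, true), (3, 18, true), (5, 18, true), (4, 18, true), (2, 4, true), (2, 3, true), (2, 15, true), (4, 15,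 true), (2, 4, true), (7, 6, true), (6, 14, true), (5, 14, true), (4, 17, true), (3, 17, true), (2, 20, true), (0, 5, true), (0, 4, true), (2, 16, true), (1, 18, true), (0, 18, true), (2, 18, true), (1, 18, true), (2, 3, true), (2, 16, true), (0, 4, true), (2, 15, true), (1, 18, true), (2, 18, true), (0, 4, true), (1, 15, true), (0, 18, true), (1, 18, true), (6, 12, true), (5, 13, true), (4, 16, true), (3, 16, true), (2, 18, true), (0, 4, true), (0, 18, true), (3, 16, true), (2, 18, true), (1, 18, true), (3, 18, true), (2, 18, true), (0, 4, true), (0, 3, true), (0, 15, true), (3, 16, true), (2, 16, true), (0, 4, true), (2, 16, true), (1, 18, true), (2, 18, true), (0, 4, true), (2, 15, true), (1, 18, true), (0, 18, true), (2, 18, true), (1, 18, true), (5, 15, true), (4, 16, true), (3, 18, true), (2, 18, true), (0, 4, true), (1, 18, true), (0, 18, true), (1, 3, true), (1, 16, true), (0, 4, true), (3, 13, true), (2, 16, true), (1, 16, true), (0, 18, true), (1, 18, true), (4, 16, true), (3, 18, true), (2, 18, true), (0, 4, true), (1, 18, true), (0, 18, true), (1, 3, true), (1, 15, true),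 (0, 4, true), (1, 16, true), (0, 16, true), (3, 16, true), (2, 18, true), (0, 4, true), (0, 18, true), (3, 15, true), (2, 18, true), (1, 18, true), (3, 18, true), (2, 18, true), (0, 4, true), (3, 15, true), (2, 16, true), (1, 18, true), (0, 18, true), (2, 18, true), (1, 18, true), (2, 3, true), (2, 16, true), (0, 4, true), (5, 11, true), (4, 13, true), (3, 16, true), (2, 16, true), (1, 18, true), (2, 18, true), (0, 4, true), (2, 16, true), (1, 18, true), (0, 18, true), (2, 18, true), (1, 18, true), (2, 3, true), (2, 15, true), (0, 4, true), (2, 16, true), (1, 16, true), (0, 4, true), (1, 16, true), (0, 18, true), (1, 18, true), (4, 15, true), (3, 18, true), (2, 18, true), (0, 4, true), (1, 18, true), (0, 18, true), (4, 15, true), (3, 16, true), (2, 18, true), (1, 18, true), (3, 18, true), (2, 18, true), (0, 4, true), (0, 3, true), (0, 16, true), (5, 13, true), (4, 16, true), (3, 16, true), (2, 18, true), (0, 4, true), (0, 18, true), (3, 16, true), (2, 18, true), (1, 18, true), (3, 18, true), (2, 18, true), (0, 4, true), (0, 3, true), (0, 15, true), (3, 16, true), (2, 16, true),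 (0, 4, true), (2, 16, true), (1, 18, true), (2, 18, true), (0, 4, true), (2, 15, true), (1, 18, true), (0, 18, true), (2, 18, true), (1, 18, true), (5, 15, true), (4, 16, true), (3, 18, true), (2, 18, true), (0, 4, true), (1, 18, true), (0, 18, true), (1, 3, true), (1, 16, true), (0, 4, true), (3, 12, true), (2, 16, true), (1, 16, true), (0, 18, true), (1, 18, true), (4, 16, true), (3, 18, true), (2, 18, true), (0, 4, true), (1, 18, true), (0, 18, true), (1, 3, true), (1, 15, true), (0, 4, true), (1, 16, true), (0, 16, true), (3, 16, true), (2, 18, true), (0, 4, true), (0, 18, true), (3, 15, true), (2, 18, true), (1, 18, true), (3, 18, true), (2, 18, true), (0, 4, true), (4, 12, true), (3, 16, true), (2, 16, true), (1, 18, true), (0, 18, true), (2, 18, true), (1, 18, true), (2, 3, true), (2, 16, true), (0, 4, true), (2, 15, true), (1, 18, true), (2, 18, true), (0, 4, true), (2, 16, true), (1, 16, true), (0, 18, true), (1, 18, true), (4, 16, true), (3, 18, true), (2, 18, true), (0, 4, true), (1, 18, true), (0, 18, true), (1, 3, true), (1, 15, true), (0, 4, true), (2, 11, true),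 (1, 16, true), (0, 16, true), (3, 16, true), (2, 18, true), (0, 4, true), (0, 18, true), (3, 15, true), (2, 18, true), (1, 18, true), (3, 18, true), (2, 18, true), (0, 4, true), (3, 16, true), (2, 16, true), (1, 18, true), (0, 18, true), (2, 18, true), (1, 18, true), (2, 3, true), (2, 16, true), (0, 4, true), (2, 15, true), (1, 18, true), (2, 18, true), (0, 4, true), (2, 15, true), (1, 16, true), (0, 18, true), (1, 18, true), (4, 16, true), (3, 18, true), (2, 18, true), (0, 4, true), (1, 18, true), (0, 18, true), (1, 3, true), (2, 15, true), (1, 16, true), (0, 4, true), (1, 16, true), (0, 18, true), (1, 18, true), (4, 2, true), (4, 1, true), (4, 0, true), (3, 18, true), (2, 18, true), (0, 4, true), (0, 3, true)], [(3, 13, true), (2, 18, true), (0, 4, true), (0, 18, true), (3, 13, true), (2, 18, true), (1, 18, true), (3, 18, true), (2, 18, true), (0, 4, true), (0, 3, true), (0, 12, true), (3, 13, true), (2, 13, true), (0, 4, true), (2, 13, true), (1, 18, true), (2, 18, true), (0, 4, true), (2, 12, true), (1, 18, true), (0, 18, true), (2, 18, true), (1, 18, true), (5, 13, true),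 (4, 13, true), (3, 18, true), (2, 18, true), (0, 4, true), (1, 18, true), (0, 18, true), (1, 3, true), (1, 13, true), (0, 4, true), (1, 12, true), (0, 18, true), (1, 18, true), (4, 12, true), (3, 13, true), (2, 18, true), (0, 4, true), (0, 18, true), (3, 13, true), (2, 18, true), (1, 18, true), (3, 18, true), (2, 18, true), (0, 4, true), (0, 3, true), (0, 1, true)]),
    ([0, 1], [1, 0], [(2, 10, true), (1, 7, true), (0, 16, true), (6, 7, true), (5, 13, true), (4, 16, true), (3, 16, true), (2, 18, true), (0, 4, true), (0, 18, true), (3, 16, true), (2, 18, true), (1, 18, true), (3, 18, true), (2, 18, true), (0, 4, true), (0, 3, true), (0, 15, true), (3, 16, true), (2, 16, true), (0, 4, true), (2, 16, true), (1, 18, true), (2, 18, true), (0, 4, true), (2, 15, true), (1, 18, true), (0, 18, true), (2, 18, true), (1, 18, true), (5, 15, true), (4, 16, true), (3, 18, true), (2, 18, true), (0, 4, true), (1, 18, true), (0, 18, true), (1, 3, true), (1, 16, true), (0, 4, true), (3, 11, true), (2, 16, true), (1, 16, true), (0, 18, true), (1, 18, true), (4, 16, true), (3, 18, true), (2, 18,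 true), (0, 4, true), (1, 18, true), (0, 18, true), (1, 3, true), (1, 15, true), (0, 4, true), (1, 16, true), (0, 16, true), (3, 16, true), (2, 18, true), (0, 4, true), (0, 18, true), (3, 15, true), (2, 18, true), (1, 18, true), (3, 18, true), (2, 18, true), (0, 4, true), (3, 15, true), (2, 16, true), (1, 18, true), (0, 18, true), (2, 18, true), (1, 18, true), (2, 3, true), (2, 16, true), (0, 4, true), (3, 15, true), (2, 16, true), (1, 18, true), (2, 18, true), (0, 4, true), (2, 16, true), (1, 18, true), (0, 18, true), (2, 18, true), (1, 18, true), (2, 3, true), (2, 2, true), (4, 6, true), (3, 14, true), (2, 14, true), (1, 20, true), (0, 20, true), (4, 12, true), (3, 13, true), (1, 4, true), (3, 13, true), (2, 18, true), (3, 18, true), (1, 4, true), (4, 11, true), (3, 13, true), (2, 18, true), (1, 18, true), (3, 18, true), (2, 18, true), (3, 3, true), (3, 13, true), (1, 4, true), (3, 12, true), (2, 18, true), (3, 18, true), (1, 4, true), (2, 12, true), (1, 18, true), (2, 18, true), (4, 11, true), (3, 18, true), (1, 4, true), (1, 18, true), (2, 3, true), (3, 1, true), (3, 6, true),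 (2, 17, true), (1, 20, true), (2, 4, true), (4, 15, true), (3, 18, true), (2, 18, true), (4, 18, true), (3, 18, true), (10, 9, true), (9, 10, true), (8, 11, true), (7, 16, true), (6, 16, true), (5, 18, true), (4, 18, true), (2, 4, true), (3, 18, true), (2, 18, true), (3, 3, true), (3, 16, true), (2, 4, true), (3, 15, true), (2, 18, true), (3, 18, true), (6, 16, true), (5, 16, true), (4, 18, true), (2, 4, true), (2, 18, true), (5, 16, true), (4, 18, true), (3, 18, true), (5, 18, true), (4, 18, true), (2, 4, true), (2, 3, true), (2, 15, true), (5, 15, true), (4, 16, true), (2, 4, true), (4, 16, true), (3, 18, true), (4, 18, true), (2, 4, true), (5, 15, true), (4, 16, true), (3, 18, true), (2, 18, true), (4, 18, true), (3, 18, true), (4, 3, true), (4, 16, true), (2, 4, true), (4, 2, true), (4, 11, true), (3, 18, true), (4, 18, true), (2, 4, true), (2, 3, true), (3, 1, true), (3, 10, true), (2, 2, true), (4, 9, true), (3, 14, true), (2, 14, true), (0, 5, true), (1, 14, true), (0, 14, true), (2, 13, true), (1, 13, true), (4, 13, true), (3, 18, true), (1, 4, true), (1, 18, true), (4,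 12, true), (3, 18, true), (2, 18, true), (4, 18, true), (3, 18, true), (1, 4, true), (4, 12, true), (3, 13, true), (2, 18, true), (1, 18, true), (3, 18, true), (2, 18, true), (3, 3, true), (3, 13, true), (1, 4, true), (4, 12, true), (3, 13, true), (2, 18, true), (3, 18, true), (1, 4, true), (3, 13, true), (2, 18, true), (1, 18, true), (3, 18, true), (2, 18, true), (3, 3, true), (4, 11, true), (3, 13, true), (1, 4, true), (3, 13, true), (2, 18, true), (3, 18, true), (1, 4, true), (3, 12, true), (2, 18, true), (1, 18, true), (3, 18, true), (2, 18, true), (5, 12, true), (4, 18, true), (3, 18, true), (1, 4, true), (2, 18, true), (1, 18, true), (4, 11, true), (3, 18, true), (2, 18, true), (4, 18, true), (3, 18, true), (1, 4, true), (1, 3, true), (4, 11, true), (3, 13, true), (2, 16, true), (1, 18, true), (2, 18, true), (5, 16, true), (4, 18, true), (3, 18, true), (1, 4, true), (2, 18, true), (1, 18, true), (2, 3, true), (2, 15, true), (1, 4, true), (2, 13, true), (1, 16, true), (4, 16, true), (3, 18, true), (1, 4, true), (1, 18, true), (4, 15, true), (3, 18, true), (2, 18, true), (4,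 18, true), (3, 18, true), (1, 4, true), (4, 12, true), (3, 16, true), (2, 18, true), (1, 18, true), (3, 18, true), (2, 18, true), (3, 3, true), (3, 16, true), (1, 4, true), (4, 12, true), (3, 16, true), (2, 18, true), (3, 18, true), (1, 4, true), (3, 16, true), (2, 18, true), (1, 18, true), (3, 18, true), (2, 18, true), (3, 3, true), (4, 11, true), (3, 16, true), (1, 4, true), (3, 16, true), (2, 18, true), (3, 18, true), (1, 4, true), (3, 15, true), (2, 18, true), (1, 18, true), (3, 18, true), (2, 18, true), (5, 15, true), (4, 18, true), (3, 18, true), (1, 4, true), (2, 18, true), (1, 18, true), (8, 8, true), (7, 14, true), (6, 14, true), (5, 17, true), (4, 17, true), (3, 19, true), (2, 19, true), (1, 20, true), (4, 18, true), (3, 18, true), (5, 18, true), (4, 18, true), (2, 4, true), (2, 3, true), (3, 16, true), (2, 18, true), (3, 18, true), (6, 16, true), (5, 18, true), (4, 18, true), (2, 4, true), (3, 18, true), (2, 18, true), (3, 3, true), (3, 15, true), (2, 4, true), (2, 15, true), (7, 12, true), (6, 13, true), (5, 16, true), (4, 16, true), (2, 4, true), (4, 16, true), (3,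 18, true), (4, 18, true), (2, 4, true), (4, 15, true), (3, 18, true), (2, 18, true), (4, 18, true), (3, 18, true), (7, 16, true), (6, 16, true), (5, 18, true), (4, 18, true), (2, 4, true), (3, 18, true), (2, 18, true), (3, 3, true), (3, 16, true), (2, 4, true), (3, 15, true), (2, 18, true), (3, 18, true), (6, 15, true), (5, 16, true), (4, 18, true), (2, 4, true), (2, 18, true), (5, 16, true), (4, 18, true), (3, 18, true), (5, 18, true), (4, 18, true), (2, 4, true), (2, 3, true), (4, 13, true), (3, 16, true), (2, 16, true), (5, 16, true), (4, 18, true), (2, 4, true), (2, 18, true), (5, 15, true), (4, 18, true), (3, 18, true), (5, 18, true), (4, 18, true), (2, 4, true), (5, 16, true), (4, 16, true), (3, 18, true), (2, 18, true), (4, 18, true), (3, 18, true), (4, 3, true), (4, 16, true), (2, 4, true), (4, 15, true), (3, 18, true), (4, 18, true), (2, 4, true), (4, 15, true), (3, 16, true), (2, 18, true), (3, 18, true), (6, 16, true), (5, 18, true), (4, 18, true), (2, 4, true), (3, 18, true), (2, 18, true), (3, 3, true), (6, 12, true), (5, 13, true), (4, 16, true), (3, 16, true), (2,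 4, true), (3, 16, true), (2, 18, true), (3, 18, true), (6, 15, true), (5, 18, true), (4, 18, true), (2, 4, true), (3, 18, true), (2, 18, true), (6, 16, true), (5, 16, true), (4, 18, true), (3, 18, true), (5, 18, true), (4, 18, true), (2, 4, true), (2, 3, true), (2, 16, true), (5, 15, true), (4, 18, true), (2, 4, true), (2, 18, true), (5, 15, true), (4, 16, true), (3, 18, true), (4, 18, true), (2, 4, true), (4, 16, true), (3, 18, true), (2, 18, true), (4, 18, true), (3, 18, true), (4, 3, true), (6, 13, true), (5, 16, true), (4, 16, true), (2, 4, true), (4, 16, true), (3, 18, true), (4, 18, true), (2, 4, true), (4, 15, true), (3, 18, true), (2, 18, true), (4, 18, true), (3, 18, true), (7, 16, true), (6, 16, true), (5, 18, true), (4, 18, true), (2, 4, true), (3, 18, true), (2, 18, true), (3, 3, true), (3, 16, true), (2, 4, true), (3, 15, true), (2, 18, true), (3, 18, true), (6, 15, true), (5, 16, true), (4, 18, true), (2, 4, true), (2, 18, true), (5, 16, true), (4, 18, true), (3, 18, true), (5, 18, true), (4, 18, true), (2, 4, true), (2, 3, true), (5, 11, true), (4, 13, true), (3,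 16, true), (2, 16, true), (5, 16, true), (4, 18, true), (2, 4, true), (2, 18, true), (5, 15, true), (4, 18, true), (3, 18, true), (5, 18, true), (4, 18, true), (2, 4, true), (5, 16, true), (4, 16, true), (3, 18, true), (2, 18, true), (4, 18, true), (3, 18, true), (4, 3, true), (4, 16, true), (2, 4, true), (4, 15, true), (3, 18, true), (4, 18, true), (2, 4, true), (4, 15, true), (3, 16, true), (2, 18, true), (3, 18, true), (6, 16, true), (5, 18, true), (4, 18, true), (2, 4, true), (3, 18, true), (2, 18, true), (3, 3, true), (5, 13, true), (4, 16, true), (3, 16, true), (2, 4, true), (3, 16, true), (2, 18, true), (3, 18, true), (6, 15, true), (5, 18, true), (4, 18, true), (2, 4, true), (3, 18, true), (2, 18, true), (6, 16, true), (5, 16, true), (4, 18, true), (3, 18, true), (5, 18, true), (4, 18, true), (2, 4, true), (2, 3, true), (2, 16, true), (5, 15, true), (4, 18, true), (2, 4, true), (2, 18, true), (5, 15, true), (4, 16, true), (3, 18, true), (4, 18, true), (2, 4, true), (4, 16, true), (3, 18, true), (2, 18, true), (4, 18, true), (3, 18, true), (4, 3, true), (6, 12, true), (5,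 16, true), (4, 16, true), (2, 4, true), (4, 16, true), (3, 18, true), (4, 18, true), (2, 4, true), (4, 15, true), (3, 18, true), (2, 18, true), (4, 18, true), (3, 18, true), (7, 16, true), (6, 16, true), (5, 18, true), (4, 18, true), (2, 4, true), (3, 18, true), (2, 18, true), (3, 3, true), (3, 16, true), (2, 4, true), (3, 15, true), (2, 18, true), (3, 18, true), (7, 12, true), (6, 16, true), (5, 16, true), (4, 18, true), (2, 4, true), (2, 18, true), (5, 16, true), (4, 18, true), (3, 18, true), (5, 18, true), (4, 18, true), (2, 4, true), (2, 3, true), (2, 15, true), (5, 16, true), (4, 16, true), (2, 4, true), (4, 16, true), (3, 18, true), (4, 18, true), (2, 4, true), (4, 15, true), (3, 18, true), (2, 18, true), (4, 18, true), (3, 18, true), (8, 11, true), (7, 16, true), (6, 16, true), (5, 18, true), (4, 18, true), (2, 4, true), (3, 18, true), (2, 18, true), (3, 3, true), (3, 16, true), (2, 4, true), (3, 15, true), (2, 18, true), (3, 18, true), (6, 16, true), (5, 16, true), (4, 18, true), (2, 4, true), (2, 18, true), (5, 16, true), (4, 18, true), (3, 18, true), (5, 18, true), (4,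 18, true), (2, 4, true), (2, 3, true), (2, 15, true), (5, 15, true), (4, 16, true), (2, 4, true), (4, 16, true), (3, 18, true), (4, 18, true), (2, 4, true), (5, 15, true), (4, 16, true), (3, 18, true), (2, 18, true), (4, 18, true), (3, 18, true), (4, 3, true), (4, 16, true), (2, 4, true), (4, 2, true), (6, 8, true), (5, 14, true), (4, 14, true), (3, 19, true), (2, 20, true), (0, 5, true), (3, 12, true), (2, 13, true), (1, 18, true), (2, 18, true), (0, 4, true), (2, 13, true), (1, 18, true), (0, 18, true), (2, 18, true), (1, 18, true), (2, 3, true), (3, 12, true), (2, 13, true), (0, 4, true), (2, 13, true), (1, 18, true), (2, 18, true), (0, 4, true), (3, 11, true), (2, 13, true), (1, 18, true), (0, 18, true), (2, 18, true), (1, 18, true), (2, 3, true), (2, 13, true), (0, 4, true), (2, 12, true), (1, 18, true), (2, 18, true), (0, 4, true), (1, 12, true), (0, 18, true), (1, 18, true), (3, 11, true), (2, 18, true), (0, 4, true), (0, 18, true), (1, 3, true), (4, 7, true), (3, 13, true), (2, 13, true), (1, 16, true), (0, 4, true), (1, 16, true), (0, 18, true), (1, 18, true), (4, 15,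 true), (3, 18, true), (2, 18, true), (0, 4, true), (1, 18, true), (0, 18, true), (4, 13, true), (3, 16, true), (2, 18, true), (1, 18, true), (3, 18, true), (2, 18, true), (0, 4, true), (0, 3, true), (0, 16, true), (3, 15, true), (2, 18, true), (0, 4, true), (0, 18, true), (3, 12, true), (2, 16, true), (1, 18, true), (2, 18, true), (0, 4, true), (2, 16, true), (1, 18, true), (0, 18, true), (2, 18, true), (1, 18, true), (2, 3, true), (4, 11, true), (3, 13, true), (2, 16, true), (0, 4, true), (2, 16, true), (1, 18, true), (2, 18, true), (0, 4, true), (2, 15, true), (1, 18, true), (0, 18, true), (2, 18, true), (1, 18, true), (5, 13, true), (4, 16, true), (3, 18, true), (2, 18, true), (0, 4, true), (1, 18, true), (0, 18, true), (1, 3, true), (1, 16, true), (0, 4, true), (1, 15, true), (0, 18, true), (1, 18, true), (4, 12, true), (3, 16, true), (2, 18, true), (0, 4, true), (0, 18, true), (3, 16, true), (2, 18, true), (1, 18, true), (3, 18, true), (2, 18, true), (0, 4, true), (0, 3, true), (1, 12, true), (0, 16, true), (3, 16, true), (2, 18, true), (0, 4, true), (0, 18, true), (4, 11,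 true), (3, 16, true), (2, 18, true), (1, 18, true), (3, 18, true), (2, 18, true), (0, 4, true), (0, 3, true), (0, 16, true), (3, 15, true), (2, 18, true), (0, 4, true), (0, 18, true), (2, 15, true), (1, 18, true), (2, 18, true), (0, 4, true), (3, 1, true), (3, 7, true), (2, 16, true), (1, 16, true), (0, 18, true), (1, 18, true), (4, 16, true), (3, 18, true), (2, 18, true), (0, 4, true), (1, 18, true), (0, 18, true), (1, 3, true), (1, 15, true), (0, 4, true), (0, 2, true), (2, 9, true), (1, 10, true), (0, 11, true), (5, 11, true), (4, 16, true), (3, 18, true), (2, 18, true), (0, 4, true), (1, 18, true), (0, 18, true), (1, 3, true), (1, 16, true), (0, 4, true), (1, 15, true), (0, 18, true), (1, 18, true), (3, 15, true), (2, 18, true), (0, 4, true), (0, 18, true), (4, 1, true), (4, 10, true), (2, 2, true), (5, 9, true), (4, 14, true), (3, 14, true), (2, 17, true), (1, 19, true), (0, 20, true), (2, 18, true), (3, 18, true), (1, 4, true), (1, 3, true), (3, 14, true), (2, 14, true), (1, 17, true), (8, 13, true), (7, 13, true), (6, 16, true), (5, 18, true), (4, 18, true), (2, 4, true),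 (3, 18, true), (2, 18, true), (3, 3, true), (3, 16, true), (2, 4, true), (3, 15, true), (2, 18, true), (3, 18, true), (6, 13, true), (5, 16, true), (4, 18, true), (2, 4, true), (2, 18, true), (5, 16, true), (4, 18, true), (3, 18, true), (5, 18, true), (4, 18, true), (2, 4, true), (2, 3, true), (2, 15, true), (5, 12, true), (4, 16, true), (2, 4, true), (4, 16, true), (3, 18, true), (4, 18, true), (2, 4, true), (6, 12, true), (5, 13, true), (4, 16, true), (3, 18, true), (2, 18, true), (4, 18, true), (3, 18, true), (4, 3, true), (4, 16, true), (2, 4, true), (4, 15, true), (3, 18, true), (4, 18, true), (2, 4, true), (4, 13, true), (3, 16, true), (2, 18, true), (3, 18, true), (6, 16, true), (5, 18, true), (4, 18, true), (2, 4, true), (3, 18, true), (2, 18, true), (3, 3, true), (3, 15, true), (2, 4, true), (4, 12, true), (3, 13, true), (2, 16, true), (5, 16, true), (4, 18, true), (2, 4, true), (2, 18, true), (5, 15, true), (4, 18, true), (3, 18, true), (5, 18, true), (4, 18, true), (2, 4, true), (5, 13, true), (4, 16, true), (3, 18, true), (2, 18, true), (4, 18, true), (3, 18, true),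 (4, 3, true), (4, 16, true), (2, 4, true), (4, 15, true), (3, 18, true), (4, 18, true), (2, 4, true), (5, 11, true), (4, 13, true), (3, 16, true), (2, 18, true), (3, 18, true), (6, 16, true), (5, 18, true), (4, 18, true), (2, 4, true), (3, 18, true), (2, 18, true), (3, 3, true), (3, 15, true), (2, 4, true), (3, 13, true), (2, 16, true), (5, 16, true), (4, 18, true), (2, 4, true), (2, 18, true), (5, 15, true), (4, 18, true), (3, 18, true), (5, 18, true), (4, 18, true), (2, 4, true), (5, 12, true), (4, 16, true), (3, 18, true), (2, 18, true), (4, 18, true), (3, 18, true), (4, 3, true), (4, 16, true), (2, 4, true), (5, 12, true), (4, 16, true), (3, 18, true), (4, 18, true), (2, 4, true), (4, 16, true), (3, 18, true), (2, 18, true), (4, 18, true), (3, 18, true), (4, 3, true), (5, 11, true), (4, 16, true), (2, 4, true), (4, 16, true), (3, 18, true), (4, 18, true), (2, 4, true), (4, 15, true), (3, 18, true), (2, 18, true), (4, 18, true), (3, 18, true), (6, 15, true), (5, 18, true), (4, 18, true), (2, 4, true), (3, 18, true), (2, 18, true), (8, 11, true), (7, 13, true), (6, 16, true),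 (5, 16, true), (4, 18, true), (3, 18, true), (5, 18, true), (4, 18, true), (2, 4, true), (2, 3, true), (2, 16, true), (5, 15, true), (4, 18, true), (2, 4, true), (2, 18, true), (5, 16, true), (4, 16, true), (3, 18, true), (4, 18, true), (2, 4, true), (4, 16, true), (3, 18, true), (2, 18, true), (4, 18, true), (3, 18, true), (4, 3, true), (4, 15, true), (2, 4, true), (4, 15, true), (3, 16, true), (2, 4, true), (3, 16, true), (2, 18, true), (3, 18, true), (8, 13, true), (7, 16, true), (6, 16, true), (5, 18, true), (4, 18, true), (2, 4, true), (3, 18, true), (2, 18, true), (3, 3, true), (3, 16, true), (2, 4, true), (3, 15, true), (2, 18, true), (3, 18, true), (6, 16, true), (5, 16, true), (4, 18, true), (2, 4, true), (2, 18, true), (5, 16, true), (4, 18, true), (3, 18, true), (5, 18, true), (4, 18, true), (2, 4, true), (2, 3, true), (2, 15, true), (5, 15, true), (4, 16, true), (2, 4, true), (4, 16, true), (3, 18, true), (4, 18, true), (2, 4, true), (6, 12, true), (5, 16, true), (4, 16, true), (3, 18, true), (2, 18, true), (4, 18, true), (3, 18, true), (4, 3, true), (4, 16, true),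 (2, 4, true), (4, 15, true), (3, 18, true), (4, 18, true), (2, 4, true), (4, 16, true), (3, 16, true), (2, 18, true), (3, 18, true), (6, 16, true), (5, 18, true), (4, 18, true), (2, 4, true), (3, 18, true), (2, 18, true), (3, 3, true), (3, 15, true), (2, 4, true), (4, 12, true), (3, 16, true), (2, 16, true), (5, 16, true), (4, 18, true), (2, 4, true), (2, 18, true), (5, 15, true), (4, 18, true), (3, 18, true), (5, 18, true), (4, 18, true), (2, 4, true), (5, 16, true), (4, 16, true), (3, 18, true), (2, 18, true), (4, 18, true), (3, 18, true), (4, 3, true), (4, 16, true), (2, 4, true), (4, 15, true), (3, 18, true), (4, 18, true), (2, 4, true), (5, 11, true), (4, 16, true), (3, 16, true), (2, 18, true), (3, 18, true), (6, 16, true), (5, 18, true), (4, 18, true), (2, 4, true), (3, 18, true), (2, 18, true), (3, 3, true), (3, 15, true), (2, 4, true), (3, 16, true), (2, 16, true), (5, 16, true), (4, 18, true), (2, 4, true), (2, 18, true), (5, 15, true), (4, 18, true), (3, 18, true), (5, 18, true), (4, 18, true), (2, 4, true), (5, 15, true), (4, 16, true), (3, 18, true), (2, 18, true),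 (4, 18, true), (3, 18, true), (4, 3, true), (4, 16, true), (2, 4, true), (5, 15, true), (4, 16, true), (3, 18, true), (4, 18, true), (2, 4, true), (4, 16, true), (3, 18, true), (2, 18, true), (4, 18, true), (3, 18, true), (4, 3, true), (4, 2, true), (6, 8, true), (5, 14, true), (4, 14, true), (3, 20, true), (2, 20, true), (0, 5, true), (3, 12, true), (2, 13, true), (0, 4, true), (2, 13, true), (1, 18, true), (2, 18, true), (0, 4, true), (3, 12, true), (2, 13, true), (1, 18, true), (0, 18, true), (2, 18, true), (1, 18, true), (2, 3, true), (2, 13, true), (0, 4, true), (3, 11, true), (2, 13, true), (1, 18, true), (2, 18, true), (0, 4, true), (2, 13, true), (1, 18, true), (0, 18, true), (2, 18, true), (1, 18, true), (2, 3, true), (2, 12, true), (0, 4, true), (1, 12, true), (0, 4, true), (0, 11, true), (7, 8, true), (6, 14, true), (5, 14, true), (4, 17, true), (3, 19, true), (2, 19, true), (1, 20, true), (0, 20, true), (4, 18, true), (3, 18, true), (1, 4, true), (2, 18, true), (1, 18, true), (2, 3, true), (5, 12, true), (4, 13, true), (3, 16, true), (2, 18, true), (3, 18, true), (1,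 4, true), (3, 16, true), (2, 18, true), (1, 18, true), (3, 18, true), (2, 18, true), (3, 3, true), (3, 15, true), (1, 4, true), (3, 13, true), (2, 16, true), (1, 4, true), (2, 16, true), (1, 18, true), (2, 18, true), (5, 15, true), (4, 18, true), (3, 18, true), (1, 4, true), (2, 18, true), (1, 18, true), (6, 12, true), (5, 13, true), (4, 16, true), (3, 18, true), (2, 18, true), (4, 18, true), (3, 18, true), (1, 4, true), (1, 3, true), (1, 16, true), (4, 15, true), (3, 18, true), (1, 4, true), (1, 18, true), (4, 13, true), (3, 16, true), (2, 18, true), (3, 18, true), (1, 4, true), (3, 16, true), (2, 18, true), (1, 18, true), (3, 18, true), (2, 18, true), (3, 3, true), (3, 15, true), (1, 4, true), (4, 11, true), (3, 13, true), (2, 16, true), (1, 4, true), (2, 16, true), (1, 18, true), (2, 18, true), (5, 15, true), (4, 18, true), (3, 18, true), (1, 4, true), (2, 18, true), (1, 18, true), (5, 13, true), (4, 16, true), (3, 18, true), (2, 18, true), (4, 18, true), (3, 18, true), (1, 4, true), (1, 3, true), (1, 16, true), (4, 15, true), (3, 18, true), (1, 4, true), (1, 18, true), (4,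 12, true), (3, 16, true), (2, 18, true), (3, 18, true), (1, 4, true), (3, 16, true), (2, 18, true), (1, 18, true), (3, 18, true), (2, 18, true), (3, 3, true), (4, 12, true), (3, 16, true), (1, 4, true), (3, 16, true), (2, 18, true), (3, 18, true), (1, 4, true), (4, 11, true), (3, 16, true), (2, 18, true), (1, 18, true), (3, 18, true), (2, 18, true), (3, 3, true), (3, 16, true), (1, 4, true), (3, 15, true), (2, 18, true), (3, 18, true), (1, 4, true), (2, 15, true), (1, 18, true), (2, 18, true), (8, 7, true), (7, 13, true), (6, 13, true), (5, 16, true), (4, 16, true), (3, 18, true), (1, 4, true), (1, 18, true), (4, 16, true), (3, 18, true), (2, 18, true), (4, 18, true), (3, 18, true), (1, 4, true), (1, 3, true), (1, 15, true), (4, 16, true), (3, 16, true), (1, 4, true), (3, 16, true), (2, 18, true), (3, 18, true), (1, 4, true), (3, 15, true), (2, 18, true), (1, 18, true), (3, 18, true), (2, 18, true), (6, 15, true), (5, 16, true), (4, 18, true), (3, 18, true), (1, 4, true), (2, 18, true), (1, 18, true), (2, 3, true), (2, 16, true), (1, 4, true), (4, 13, true), (3, 16, true), (2,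 16, true), (1, 18, true), (2, 18, true), (5, 16, true), (4, 18, true), (3, 18, true), (1, 4, true), (2, 18, true), (1, 18, true), (2, 3, true), (2, 15, true), (1, 4, true), (2, 16, true), (1, 16, true), (4, 16, true), (3, 18, true), (1, 4, true), (1, 18, true), (4, 15, true), (3, 18, true), (2, 18, true), (4, 18, true), (3, 18, true), (1, 4, true), (4, 15, true), (3, 16, true), (2, 18, true), (1, 18, true), (3, 18, true), (2, 18, true), (3, 3, true), (3, 16, true), (1, 4, true), (5, 12, true), (4, 16, true), (3, 16, true), (2, 18, true), (3, 18, true), (1, 4, true), (3, 16, true), (2, 18, true), (1, 18, true), (3, 18, true), (2, 18, true), (3, 3, true), (3, 15, true), (1, 4, true), (3, 16, true), (2, 16, true), (1, 4, true), (2, 16, true), (1, 18, true), (2, 18, true), (5, 15, true), (4, 18, true), (3, 18, true), (1, 4, true), (2, 18, true), (1, 18, true), (7, 11, true), (6, 13, true), (5, 16, true), (4, 16, true), (3, 18, true), (2, 18, true), (4, 18, true), (3, 18, true), (1, 4, true), (1, 3, true), (1, 16, true), (4, 15, true), (3, 18, true), (1, 4, true), (1, 18, true), (4,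 16, true), (3, 16, true), (2, 18, true), (3, 18, true), (1, 4, true), (3, 16, true), (2, 18, true), (1, 18, true), (3, 18, true), (2, 18, true), (3, 3, true), (3, 15, true), (1, 4, true), (3, 15, true), (2, 16, true), (1, 4, true), (2, 16, true), (1, 18, true), (2, 18, true), (7, 13, true), (6, 16, true), (5, 16, true), (4, 18, true), (3, 18, true), (1, 4, true), (2, 18, true), (1, 18, true), (2, 3, true), (2, 16, true), (1, 4, true), (2, 15, true), (1, 18, true), (2, 18, true), (5, 16, true), (4, 16, true), (3, 18, true), (1, 4, true), (1, 18, true), (4, 16, true), (3, 18, true), (2, 18, true), (4, 18, true), (3, 18, true), (1, 4, true), (1, 3, true), (1, 15, true), (4, 15, true), (3, 16, true), (1, 4, true), (3, 16, true), (2, 18, true), (3, 18, true), (1, 4, true), (5, 12, true), (4, 16, true), (3, 16, true), (2, 18, true), (1, 18, true), (3, 18, true), (2, 18, true), (3, 3, true), (3, 16, true), (1, 4, true), (3, 15, true), (2, 18, true), (3, 18, true), (1, 4, true), (3, 16, true), (2, 16, true), (1, 18, true), (2, 18, true), (5, 16, true), (4, 18, true), (3, 18, true), (1,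 4, true), (2, 18, true), (1, 18, true), (2, 3, true), (2, 15, true), (1, 4, true), (3, 12, true), (2, 16, true), (1, 16, true), (4, 16, true), (3, 18, true), (1, 4, true), (1, 18, true), (4, 15, true), (3, 18, true), (2, 18, true), (4, 18, true), (3, 18, true), (1, 4, true), (4, 16, true), (3, 16, true), (2, 18, true), (1, 18, true), (3, 18, true), (2, 18, true), (3, 3, true), (3, 16, true), (1, 4, true), (3, 15, true), (2, 18, true), (3, 18, true), (1, 4, true), (4, 11, true), (3, 16, true), (2, 16, true), (1, 18, true), (2, 18, true), (5, 16, true), (4, 18, true), (3, 18, true), (1, 4, true), (2, 18, true), (1, 18, true), (2, 3, true), (2, 15, true), (1, 4, true), (2, 16, true), (1, 16, true), (4, 16, true), (3, 18, true), (1, 4, true), (1, 18, true), (4, 15, true), (3, 18, true), (2, 18, true), (4, 18, true), (3, 18, true), (1, 4, true), (4, 15, true), (3, 16, true), (2, 18, true), (1, 18, true), (3, 18, true), (2, 18, true), (3, 3, true), (3, 16, true), (1, 4, true), (4, 15, true), (3, 16, true), (2, 18, true), (3, 18, true), (1, 4, true), (3, 16, true), (2, 18, true), (1,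 18, true), (3, 18, true), (2, 18, true), (3, 3, true), (3, 2, true), (3, 1, true), (3, 7, true), (1, 4, true), (4, 8, true), (3, 10, true), (2, 11, true), (1, 16, true), (4, 16, true), (3, 18, true), (1, 4, true), (1, 18, true), (4, 15, true), (3, 18, true), (2, 18, true), (4, 18, true), (3, 18, true), (1, 4, true), (3, 15, true), (2, 18, true), (1, 18, true), (3, 18, true), (2, 18, true), (7, 11, true), (6, 16, true), (5, 16, true), (4, 18, true), (3, 18, true), (1, 4, true), (2, 18, true), (1, 18, true), (2, 3, true), (2, 16, true), (1, 4, true), (2, 15, true), (1, 18, true), (2, 18, true), (5, 16, true), (4, 16, true), (3, 18, true), (1, 4, true), (1, 18, true), (4, 16, true), (3, 18, true), (2, 18, true), (4, 18, true), (3, 18, true), (1, 4, true), (1, 3, true), (1, 15, true), (4, 15, true), (3, 16, true), (1, 4, true), (3, 16, true), (2, 18, true), (3, 18, true), (1, 4, true), (4, 15, true), (3, 16, true), (2, 18, true), (1, 18, true), (3, 18, true), (2, 18, true), (3, 3, true), (3, 16, true), (1, 4, true), (3, 2, true), (3, 1, true), (3, 8, true), (2, 19, true), (1, 20, true),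 (3, 3, true), (4, 8, true), (3, 17, true), (2, 20, true), (0, 5, true), (0, 4, true), (2, 15, true), (1, 18, true), (0, 18, true), (2, 18, true), (1, 18, true), (4, 15, true), (3, 18, true), (2, 18, true), (0, 4, true), (1, 18, true), (0, 18, true), (5, 7, true), (4, 16, true), (3, 16, true), (2, 18, true), (1, 18, true), (3, 18, true), (2, 18, true), (0, 4, true), (0, 3, true), (0, 16, true), (3, 15, true), (2, 18, true), (0, 4, true), (0, 18, true), (2, 2, true), (4, 8, true), (3, 10, true), (2, 11, true), (1, 18, true), (2, 18, true), (0, 4, true), (0, 3, true), (1, 11, true), (0, 16, true), (3, 16, true), (2, 18, true), (0, 4, true), (0, 18, true), (3, 15, true), (2, 18, true), (1, 18, true), (3, 18, true), (2, 18, true), (0, 4, true), (2, 15, true), (1, 18, true), (0, 18, true), (2, 18, true), (1, 18, true), (6, 1, true), (6, 8, true), (5, 17, true), (4, 17, true), (3, 19, true), (2, 19, true), (1, 20, true), (0, 20, true), (4, 18, true), (3, 18, true), (1, 4, true), (2, 18, true), (1, 18, true), (2, 3, true), (3, 16, true), (2, 18, true), (3, 18, true), (1, 4, true), (3,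 16, true), (2, 18, true), (1, 18, true), (3, 18, true), (2, 18, true), (3, 3, true), (3, 15, true), (1, 4, true), (2, 15, true), (1, 4, true), (2, 15, true), (1, 16, true), (4, 16, true), (3, 18, true), (1, 4, true), (1, 18, true), (5, 15, true), (4, 16, true), (3, 18, true), (2, 18, true), (4, 18, true), (3, 18, true), (1, 4, true), (1, 3, true), (1, 16, true), (4, 2, true), (4, 8, true), (3, 19, true), (2, 20, true), (1, 20, true), (4, 3, true), (5, 7, true), (4, 16, true), (2, 4, true), (8, 7, true), (7, 9, true), (6, 14, true), (5, 17, true), (4, 17, true), (3, 19, true), (2, 20, true), (0, 5, true), (1, 18, true), (2, 18, true), (0, 4, true), (0, 3, true), (0, 16, true), (3, 16, true), (2, 18, true), (0, 4, true), (0, 18, true), (3, 15, true), (2, 18, true), (1, 18, true), (3, 18, true), (2, 18, true), (0, 4, true), (2, 15, true), (1, 18, true), (0, 18, true), (2, 18, true), (1, 18, true), (6, 14, true), (5, 17, true), (4, 17, true), (3, 19, true), (2, 19, true), (1, 20, true), (0, 20, true), (4, 18, true), (3, 18, true), (1, 4, true), (2, 18, true), (1, 18, true), (2, 3,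 true), (3, 16, true), (2, 18, true), (3, 18, true), (1, 4, true), (3, 16, true), (2, 18, true), (1, 18, true), (3, 18, true), (2, 18, true), (3, 3, true), (3, 15, true), (1, 4, true), (2, 15, true), (1, 4, true), (3, 13, true), (2, 16, true), (1, 16, true), (4, 16, true), (3, 18, true), (1, 4, true), (1, 18, true), (4, 15, true), (3, 18, true), (2, 18, true), (4, 18, true), (3, 18, true), (1, 4, true), (4, 16, true), (3, 16, true), (2, 18, true), (1, 18, true), (3, 18, true), (2, 18, true), (3, 3, true), (3, 16, true), (1, 4, true), (3, 15, true), (2, 18, true), (3, 18, true), (1, 4, true), (3, 15, true), (2, 16, true), (1, 18, true), (2, 18, true), (5, 16, true), (4, 18, true), (3, 18, true), (1, 4, true), (2, 18, true), (1, 18, true), (2, 3, true), (4, 12, true), (3, 16, true), (2, 16, true), (1, 4, true), (2, 16, true), (1, 18, true), (2, 18, true), (5, 15, true), (4, 18, true), (3, 18, true), (1, 4, true), (2, 18, true), (1, 18, true), (5, 16, true), (4, 16, true), (3, 18, true), (2, 18, true), (4, 18, true), (3, 18, true), (1, 4, true), (1, 3, true), (1, 16, true), (4, 15,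 true), (3, 18, true), (1, 4, true), (1, 18, true), (5, 12, true), (4, 16, true), (3, 16, true), (2, 18, true), (3, 18, true), (1, 4, true), (3, 16, true), (2, 18, true), (1, 18, true), (3, 18, true), (2, 18, true), (3, 3, true), (3, 15, true), (1, 4, true), (3, 16, true), (2, 16, true), (1, 4, true), (2, 16, true), (1, 18, true), (2, 18, true), (5, 15, true), (4, 18, true), (3, 18, true), (1, 4, true), (2, 18, true), (1, 18, true), (6, 11, true), (5, 16, true), (4, 16, true), (3, 18, true), (2, 18, true), (4, 18, true), (3, 18, true), (1, 4, true), (1, 3, true), (1, 16, true), (4, 15, true), (3, 18, true), (1, 4, true), (1, 18, true), (4, 16, true), (3, 16, true), (2, 18, true), (3, 18, true), (1, 4, true), (3, 16, true), (2, 18, true), (1, 18, true), (3, 18, true), (2, 18, true), (3, 3, true), (3, 15, true), (1, 4, true), (3, 15, true), (2, 16, true), (1, 4, true), (2, 16, true), (1, 18, true), (2, 18, true), (6, 15, true), (5, 16, true), (4, 18, true), (3, 18, true), (1, 4, true), (2, 18, true), (1, 18, true), (2, 3, true), (2, 16, true), (1, 4, true), (2, 2, true), (2, 11, true),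 (1, 18, true), (2, 18, true), (3, 3, true), (5, 7, true), (4, 13, true), (3, 16, true), (1, 4, true), (3, 16, true), (2, 18, true), (3, 18, true), (1, 4, true), (3, 15, true), (2, 18, true), (1, 18, true), (3, 18, true), (2, 18, true), (6, 11, true), (5, 16, true), (4, 18, true), (3, 18, true), (1, 4, true), (2, 18, true), (1, 18, true), (2, 3, true), (2, 16, true), (1, 4, true), (2, 15, true), (1, 18, true), (2, 18, true), (4, 15, true), (3, 18, true), (1, 4, true), (1, 18, true), (7, 6, true), (6, 14, true), (5, 14, true), (4, 17, true), (3, 17, true), (2, 19, true), (1, 20, true), (3, 18, true), (4, 18, true), (2, 4, true), (2, 3, true), (2, 16, true), (5, 16, true), (4, 18, true), (2, 4, true), (2, 18, true), (5, 15, true), (4, 18, true), (3, 18, true), (5, 18, true), (4, 18, true), (2, 4, true), (4, 15, true), (3, 18, true), (2, 18, true), (4, 18, true), (3, 18, true), (9, 12, true), (8, 13, true), (7, 16, true), (6, 16, true), (5, 18, true), (4, 18, true), (2, 4, true), (3, 18, true), (2, 18, true), (3, 3, true), (3, 16, true), (2, 4, true), (3, 15, true), (2, 18, true),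 (3, 18, true), (6, 16, true), (5, 16, true), (4, 18, true), (2, 4, true), (2, 18, true), (5, 16, true), (4, 18, true), (3, 18, true), (5, 18, true), (4, 18, true), (2, 4, true), (2, 3, true), (2, 15, true), (5, 15, true), (4, 16, true), (2, 4, true), (4, 16, true), (3, 18, true), (4, 18, true), (2, 4, true), (6, 13, true), (5, 16, true), (4, 16, true), (3, 18, true), (2, 18, true), (4, 18, true), (3, 18, true), (4, 3, true), (4, 16, true), (2, 4, true), (4, 15, true), (3, 18, true), (4, 18, true), (2, 4, true), (4, 16, true), (3, 16, true), (2, 18, true), (3, 18, true), (6, 16, true), (5, 18, true), (4, 18, true), (2, 4, true), (3, 18, true), (2, 18, true), (3, 3, true), (3, 15, true), (2, 4, true), (3, 15, true), (2, 16, true), (5, 16, true), (4, 18, true), (2, 4, true), (2, 18, true), (8, 11, true), (7, 13, true), (6, 16, true), (5, 16, true), (4, 18, true), (3, 18, true), (5, 18, true), (4, 18, true), (2, 4, true), (2, 3, true), (2, 16, true), (5, 15, true), (4, 18, true), (2, 4, true), (2, 18, true), (5, 16, true), (4, 16, true), (3, 18, true), (4, 18, true), (2, 4, true),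 (4, 16, true), (3, 18, true), (2, 18, true), (4, 18, true), (3, 18, true), (4, 3, true), (4, 15, true), (2, 4, true), (4, 15, true), (3, 16, true), (2, 4, true), (3, 16, true), (2, 18, true), (3, 18, true), (8, 13, true), (7, 16, true), (6, 16, true), (5, 18, true), (4, 18, true), (2, 4, true), (3, 18, true), (2, 18, true), (3, 3, true), (3, 16, true), (2, 4, true), (3, 15, true), (2, 18, true), (3, 18, true), (6, 16, true), (5, 16, true), (4, 18, true), (2, 4, true), (2, 18, true), (5, 16, true), (4, 18, true), (3, 18, true), (5, 18, true), (4, 18, true), (2, 4, true), (2, 3, true), (2, 15, true), (5, 15, true), (4, 16, true), (2, 4, true), (4, 16, true), (3, 18, true), (4, 18, true), (2, 4, true), (6, 12, true), (5, 16, true), (4, 16, true), (3, 18, true), (2, 18, true), (4, 18, true), (3, 18, true), (4, 3, true), (4, 16, true), (2, 4, true), (4, 15, true), (3, 18, true), (4, 18, true), (2, 4, true), (4, 16, true), (3, 16, true), (2, 18, true), (3, 18, true), (6, 16, true), (5, 18, true), (4, 18, true), (2, 4, true), (3, 18, true), (2, 18, true), (3, 3, true), (3, 15, true),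 (2, 4, true), (4, 12, true), (3, 16, true), (2, 16, true), (5, 16, true), (4, 18, true), (2, 4, true), (2, 18, true), (5, 15, true), (4, 18, true), (3, 18, true), (5, 18, true), (4, 18, true), (2, 4, true), (5, 16, true), (4, 16, true), (3, 18, true), (2, 18, true), (4, 18, true), (3, 18, true), (4, 3, true), (4, 16, true), (2, 4, true), (4, 15, true), (3, 18, true), (4, 18, true), (2, 4, true), (5, 11, true), (4, 16, true), (3, 16, true), (2, 18, true), (3, 18, true), (6, 16, true), (5, 18, true), (4, 18, true), (2, 4, true), (3, 18, true), (2, 18, true), (3, 3, true), (3, 15, true), (2, 4, true), (3, 16, true), (2, 16, true), (5, 16, true), (4, 18, true), (2, 4, true), (2, 18, true), (5, 15, true), (4, 18, true), (3, 18, true), (5, 18, true), (4, 18, true), (2, 4, true), (5, 15, true), (4, 16, true), (3, 18, true), (2, 18, true), (4, 18, true), (3, 18, true), (4, 3, true), (4, 16, true), (2, 4, true), (5, 15, true), (4, 16, true), (3, 18, true), (4, 18, true), (2, 4, true), (4, 16, true), (3, 18, true), (2, 18, true), (4, 18, true), (3, 18, true), (4, 3, true), (4, 2, true),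 (4, 1, true), (5, 6, true), (4, 10, true), (8, 8, true), (7, 14, true), (6, 14, true), (5, 17, true), (4, 17, true), (3, 20, true), (2, 20, true), (0, 5, true), (0, 4, true), (3, 16, true), (2, 18, true), (1, 18, true), (3, 18, true), (2, 18, true), (0, 4, true), (0, 3, true), (0, 16, true), (3, 15, true), (2, 18, true), (0, 4, true), (0, 18, true), (2, 15, true), (1, 18, true), (2, 18, true), (0, 4, true), (4, 12, true), (3, 13, true), (2, 16, true), (1, 16, true), (0, 18, true), (1, 18, true), (4, 16, true), (3, 18, true), (2, 18, true), (0, 4, true), (1, 18, true), (0, 18, true), (1, 3, true), (1, 15, true), (0, 4, true), (1, 16, true), (0, 16, true), (3, 16, true), (2, 18, true), (0, 4, true), (0, 18, true), (3, 15, true), (2, 18, true), (1, 18, true), (3, 18, true), (2, 18, true), (0, 4, true), (3, 15, true), (2, 16, true), (1, 18, true), (0, 18, true), (2, 18, true), (1, 18, true), (2, 3, true), (2, 16, true), (0, 4, true), (4, 13, true), (3, 16, true), (2, 16, true), (1, 18, true), (2, 18, true), (0, 4, true), (2, 16, true), (1, 18, true), (0, 18, true), (2, 18, true), (1,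 18, true), (2, 3, true), (2, 15, true), (0, 4, true), (2, 16, true), (1, 16, true), (0, 4, true), (1, 16, true), (0, 18, true), (1, 18, true), (4, 15, true), (3, 18, true), (2, 18, true), (0, 4, true), (1, 18, true), (0, 18, true), (4, 15, true), (3, 16, true), (2, 18, true), (1, 18, true), (3, 18, true), (2, 18, true), (0, 4, true), (0, 3, true), (0, 16, true), (6, 12, true), (5, 13, true), (4, 16, true), (3, 16, true), (2, 18, true), (0, 4, true), (0, 18, true), (3, 16, true), (2, 18, true), (1, 18, true), (3, 18, true), (2, 18, true), (0, 4, true), (0, 3, true), (0, 15, true), (3, 16, true), (2, 16, true), (0, 4, true), (2, 16, true), (1, 18, true), (2, 18, true), (0, 4, true), (2, 15, true), (1, 18, true), (0, 18, true), (2, 18, true), (1, 18, true), (5, 15, true), (4, 16, true), (3, 18, true), (2, 18, true), (0, 4, true), (1, 18, true), (0, 18, true), (1, 3, true), (1, 16, true), (0, 4, true), (3, 13, true), (2, 16, true), (1, 16, true), (0, 18, true), (1, 18, true), (4, 16, true), (3, 18, true), (2, 18, true), (0, 4, true), (1, 18, true), (0, 18, true), (1, 3, true), (1,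 15, true), (0, 4, true), (1, 16, true), (0, 16, true), (3, 16, true), (2, 18, true), (0, 4, true), (0, 18, true), (3, 15, true), (2, 18, true), (1, 18, true), (3, 18, true), (2, 18, true), (0, 4, true), (3, 15, true), (2, 16, true), (1, 18, true), (0, 18, true), (2, 18, true), (1, 18, true), (2, 3, true), (2, 16, true), (0, 4, true), (5, 11, true), (4, 13, true), (3, 16, true), (2, 16, true), (1, 18, true), (2, 18, true), (0, 4, true), (2, 16, true), (1, 18, true), (0, 18, true), (2, 18, true), (1, 18, true), (2, 3, true), (2, 15, true), (0, 4, true), (2, 16, true), (1, 16, true), (0, 4, true), (1, 16, true), (0, 18, true), (1, 18, true), (4, 15, true), (3, 18, true), (2, 18, true), (0, 4, true), (1, 18, true), (0, 18, true), (4, 15, true), (3, 16, true), (2, 18, true), (1, 18, true), (3, 18, true), (2, 18, true), (0, 4, true), (0, 3, true), (0, 16, true), (5, 13, true), (4, 16, true), (3, 16, true), (2, 18, true), (0, 4, true), (0, 18, true), (3, 16, true), (2, 18, true), (1, 18, true), (3, 18, true), (2, 18, true), (0, 4, true), (0, 3, true), (0, 15, true), (3, 16, true), (2,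 16, true), (0, 4, true), (2, 16, true), (1, 18, true), (2, 18, true), (0, 4, true), (2, 15, true), (1, 18, true), (0, 18, true), (2, 18, true), (1, 18, true), (5, 15, true), (4, 16, true), (3, 18, true), (2, 18, true), (0, 4, true), (1, 18, true), (0, 18, true), (1, 3, true), (1, 16, true), (0, 4, true), (3, 12, true), (2, 16, true), (1, 16, true), (0, 18, true), (1, 18, true), (4, 16, true), (3, 18, true), (2, 18, true), (0, 4, true), (1, 18, true), (0, 18, true), (1, 3, true), (1, 15, true), (0, 4, true), (1, 16, true), (0, 16, true), (3, 16, true), (2, 18, true), (0, 4, true), (0, 18, true), (3, 15, true), (2, 18, true), (1, 18, true), (3, 18, true), (2, 18, true), (0, 4, true), (4, 12, true), (3, 16, true), (2, 16, true), (1, 18, true), (0, 18, true), (2, 18, true), (1, 18, true), (2, 3, true), (2, 16, true), (0, 4, true), (2, 15, true), (1, 18, true), (2, 18, true), (0, 4, true), (2, 16, true), (1, 16, true), (0, 18, true), (1, 18, true), (4, 16, true), (3, 18, true), (2, 18, true), (0, 4, true), (1, 18, true), (0, 18, true), (1, 3, true), (1, 15, true), (0, 4, true), (2,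 11, true), (1, 16, true), (0, 16, true), (3, 16, true), (2, 18, true), (0, 4, true), (0, 18, true), (3, 15, true), (2, 18, true), (1, 18, true), (3, 18, true), (2, 18, true), (0, 4, true), (3, 16, true), (2, 16, true), (1, 18, true), (0, 18, true), (2, 18, true), (1, 18, true), (2, 3, true), (2, 16, true), (0, 4, true), (2, 15, true), (1, 18, true), (2, 18, true), (0, 4, true), (2, 15, true), (1, 16, true), (0, 18, true), (1, 18, true), (4, 16, true), (3, 18, true), (2, 18, true), (0, 4, true), (1, 18, true), (0, 18, true), (1, 3, true), (2, 15, true), (1, 16, true), (0, 4, true), (1, 16, true), (0, 18, true), (1, 18, true), (4, 2, true), (6, 7, true), (5, 13, true), (4, 13, true), (3, 18, true), (2, 18, true), (0, 4, true), (1, 18, true), (0, 18, true), (1, 3, true), (1, 13, true), (0, 4, true), (1, 12, true), (0, 18, true), (1, 18, true), (4, 11, true), (3, 13, true), (2, 18, true), (0, 4, true), (0, 18, true), (3, 13, true), (2, 18, true), (1, 18, true), (3, 18, true), (2, 18, true), (0, 4, true), (0, 3, true), (0, 12, true), (2, 12, true), (0, 4, true), (1, 11, true), (0, 4,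 true), (3, 1, true), (3, 6, true), (2, 17, true), (1, 19, true), (0, 19, true), (2, 18, true), (1, 18, true), (3, 18, true), (2, 18, true), (3, 3, true), (4, 15, true), (3, 18, true), (1, 4, true), (1, 18, true), (1, 18, false), (1, 4, false), (3, 18, false), (4, 15, false), (2, 18, false), (1, 18, false), (2, 15, false), (1, 4, false), (2, 16, false), (2, 3, false), (1, 18, false), (2, 18, false), (1, 4, false), (3, 18, false), (4, 18, false), (5, 16, false), (6, 11, false)], [(3, 10, true), (7, 8, true), (6, 14, true), (5, 14, true), (4, 17, true), (3, 17, true), (2, 20, true), (1, 20, true), (2, 4, true), (5, 16, true), (4, 18, true), (3, 18, true), (5, 18, true), (4, 18, true), (2, 4, true), (2, 3, true), (2, 16, true), (5, 15, true), (4, 18, true), (2, 4, true), (2, 18, true), (4, 15, true), (3, 18, true), (4, 18, true), (2, 4, true), (6, 12, true), (5, 13, true), (4, 16, true), (3, 16, true), (2, 18, true), (3, 18, true), (6, 16, true), (5, 18, true), (4, 18, true), (2, 4, true), (3, 18, true), (2, 18, true), (3, 3, true), (3, 15, true), (2, 4, true), (3, 16, true), (2, 16,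 true), (5, 16, true), (4, 18, true), (2, 4, true), (2, 18, true), (5, 15, true), (4, 18, true), (3, 18, true), (5, 18, true), (4, 18, true), (2, 4, true), (5, 15, true), (4, 16, true), (3, 18, true), (2, 18, true), (4, 18, true), (3, 18, true), (4, 3, true), (4, 16, true), (2, 4, true), (6, 13, true), (5, 16, true), (4, 16, true), (3, 18, true), (4, 18, true), (2, 4, true), (4, 16, true), (3, 18, true), (2, 18, true), (4, 18, true), (3, 18, true), (4, 3, true), (4, 15, true), (2, 4, true), (4, 16, true), (3, 16, true), (2, 4, true), (3, 16, true), (2, 18, true), (3, 18, true), (6, 15, true), (5, 18, true), (4, 18, true), (2, 4, true), (3, 18, true), (2, 18, true), (6, 15, true), (5, 16, true), (4, 18, true), (3, 18, true), (5, 18, true), (4, 18, true), (2, 4, true), (2, 3, true), (2, 16, true), (8, 12, true), (7, 13, true), (6, 16, true), (5, 16, true), (4, 18, true), (2, 4, true), (2, 18, true), (5, 16, true), (4, 18, true), (3, 18, true), (5, 18, true), (4, 18, true), (2, 4, true), (2, 3, true), (2, 15, true), (5, 16, true), (4, 16, true), (2, 4, true), (4, 16, true), (3, 18,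 true), (4, 18, true), (2, 4, true), (4, 15, true), (3, 18, true), (2, 18, true), (4, 18, true), (3, 18, true), (7, 15, true), (6, 16, true), (5, 18, true), (4, 18, true), (2, 4, true), (3, 18, true), (2, 18, true), (3, 3, true), (3, 16, true), (2, 4, true), (5, 13, true), (4, 16, true), (3, 16, true), (2, 18, true), (3, 18, true), (6, 16, true), (5, 18, true), (4, 18, true), (2, 4, true), (3, 18, true), (2, 18, true), (3, 3, true), (3, 15, true), (2, 4, true), (3, 16, true), (2, 16, true), (5, 16, true), (4, 18, true), (2, 4, true), (2, 18, true), (5, 15, true), (4, 18, true), (3, 18, true), (5, 18, true), (4, 18, true), (2, 4, true), (5, 15, true), (4, 16, true), (3, 18, true), (2, 18, true), (4, 18, true), (3, 18, true), (4, 3, true), (4, 16, true), (2, 4, true), (7, 11, true), (6, 13, true), (5, 16, true), (4, 16, true), (3, 18, true), (4, 18, true), (2, 4, true), (4, 16, true), (3, 18, true), (2, 18, true), (4, 18, true), (3, 18, true), (4, 3, true), (4, 15, true), (2, 4, true), (4, 16, true), (3, 16, true), (2, 4, true), (3, 16, true), (2, 18, true), (3, 18, true), (6, 15,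 true), (5, 18, true), (4, 18, true), (2, 4, true), (3, 18, true), (2, 18, true), (6, 15, true), (5, 16, true), (4, 18, true), (3, 18, true), (5, 18, true), (4, 18, true), (2, 4, true), (2, 3, true), (2, 16, true), (7, 13, true), (6, 16, true), (5, 16, true), (4, 18, true), (2, 4, true), (2, 18, true), (5, 16, true), (4, 18, true), (3, 18, true), (5, 18, true), (4, 18, true), (2, 4, true), (2, 3, true), (2, 15, true), (5, 16, true), (4, 16, true), (2, 4, true), (4, 16, true), (3, 18, true), (4, 18, true), (2, 4, true), (4, 15, true), (3, 18, true), (2, 18, true), (4, 18, true), (3, 18, true), (7, 15, true), (6, 16, true), (5, 18, true), (4, 18, true), (2, 4, true), (3, 18, true), (2, 18, true), (3, 3, true), (3, 16, true), (2, 4, true), (5, 12, true), (4, 16, true), (3, 16, true), (2, 18, true), (3, 18, true), (6, 16, true), (5, 18, true), (4, 18, true), (2, 4, true), (3, 18, true), (2, 18, true), (3, 3, true), (3, 15, true), (2, 4, true), (3, 16, true), (2, 16, true), (5, 16, true), (4, 18, true), (2, 4, true), (2, 18, true), (5, 15, true), (4, 18, true), (3, 18, true), (5, 18,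 true), (4, 18, true), (2, 4, true), (6, 12, true), (5, 16, true), (4, 16, true), (3, 18, true), (2, 18, true), (4, 18, true), (3, 18, true), (4, 3, true), (4, 16, true), (2, 4, true), (4, 15, true), (3, 18, true), (4, 18, true), (2, 4, true), (4, 16, true), (3, 16, true), (2, 18, true), (3, 18, true), (6, 16, true), (5, 18, true), (4, 18, true), (2, 4, true), (3, 18, true), (2, 18, true), (3, 3, true), (3, 15, true), (2, 4, true), (4, 11, true), (3, 16, true), (2, 16, true), (5, 16, true), (4, 18, true), (2, 4, true), (2, 18, true), (5, 15, true), (4, 18, true), (3, 18, true), (5, 18, true), (4, 18, true), (2, 4, true), (5, 16, true), (4, 16, true), (3, 18, true), (2, 18, true), (4, 18, true), (3, 18, true), (4, 3, true), (4, 16, true), (2, 4, true), (4, 15, true), (3, 18, true), (4, 18, true), (2, 4, true), (4, 15, true), (3, 16, true), (2, 18, true), (3, 18, true), (6, 16, true), (5, 18, true), (4, 18, true), (2, 4, true), (3, 18, true), (2, 18, true), (3, 3, true), (4, 15, true), (3, 16, true), (2, 4, true), (3, 16, true), (2, 18, true), (3, 18, true), (6, 2, true), (8, 8, true),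 (7, 14, true), (6, 14, true), (5, 19, true), (4, 19, true), (3, 20, true), (2, 20, true), (0, 5, true), (5, 12, true), (4, 13, true), (3, 18, true), (2, 18, true), (0, 4, true), (1, 18, true), (0, 18, true), (1, 3, true), (1, 13, true), (0, 4, true), (2, 12, true), (1, 13, true), (0, 18, true), (1, 18, true), (4, 13, true), (3, 18, true), (2, 18, true), (0, 4, true), (1, 18, true), (0, 18, true), (1, 3, true), (2, 11, true), (1, 13, true), (0, 4, true), (1, 13, true), (0, 18, true), (1, 18, true), (4, 12, true), (3, 18, true), (2, 18, true), (0, 4, true), (1, 18, true), (0, 18, true), (3, 12, true), (2, 18, true), (1, 18, true), (3, 18, true), (2, 18, true), (0, 4, true), (2, 11, true), (1, 18, true), (0, 18, true), (2, 18, true), (1, 18, true), (2, 3, true), (6, 6, true), (5, 14, true), (4, 14, true), (3, 17, true), (2, 19, true), (1, 20, true), (0, 20, true), (3, 18, true), (1, 4, true), (1, 18, true), (2, 3, true), (4, 12, true), (3, 13, true), (2, 16, true), (1, 4, true), (2, 16, true), (1, 18, true), (2, 18, true), (5, 15, true), (4, 18, true), (3, 18, true), (1, 4, true),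 (2, 18, true), (1, 18, true), (5, 13, true), (4, 16, true), (3, 18, true), (2, 18, true), (4, 18, true), (3, 18, true), (1, 4, true), (1, 3, true), (1, 16, true), (4, 15, true), (3, 18, true), (1, 4, true), (1, 18, true), (5, 11, true), (4, 13, true), (3, 16, true), (2, 18, true), (3, 18, true), (1, 4, true), (3, 16, true), (2, 18, true), (1, 18, true), (3, 18, true), (2, 18, true), (3, 3, true), (3, 15, true), (1, 4, true), (3, 13, true), (2, 16, true), (1, 4, true), (2, 16, true), (1, 18, true), (2, 18, true), (5, 15, true), (4, 18, true), (3, 18, true), (1, 4, true), (2, 18, true), (1, 18, true), (5, 12, true), (4, 16, true), (3, 18, true), (2, 18, true), (4, 18, true), (3, 18, true), (1, 4, true), (1, 3, true), (1, 16, true), (5, 12, true), (4, 16, true), (3, 18, true), (1, 4, true), (1, 18, true), (4, 16, true), (3, 18, true), (2, 18, true), (4, 18, true), (3, 18, true), (1, 4, true), (1, 3, true), (2, 11, true), (1, 16, true), (4, 16, true), (3, 18, true), (1, 4, true), (1, 18, true), (4, 15, true), (3, 18, true), (2, 18, true), (4, 18, true), (3, 18, true), (1, 4, true),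 (3, 15, true), (2, 18, true), (1, 18, true), (3, 18, true), (2, 18, true), (7, 1, true), (7, 6, true), (6, 17, true), (5, 17, true), (4, 19, true), (3, 19, true), (2, 20, true), (1, 20, true), (5, 18, true), (4, 18, true), (2, 4, true), (3, 18, true), (2, 18, true), (3, 3, true), (4, 16, true), (3, 18, true), (4, 18, true), (2, 4, true), (4, 16, true), (3, 18, true), (2, 18, true), (4, 18, true), (3, 18, true), (4, 3, true), (4, 15, true), (2, 4, true), (3, 15, true), (2, 4, true), (3, 15, true), (2, 16, true), (5, 16, true), (4, 18, true), (2, 4, true), (2, 18, true), (5, 2, true), (5, 2, false), (2, 18, false), (2, 4, false), (4, 18, false), (5, 16, false), (2, 16, false), (3, 15, false), (2, 3, false), (2, 4, false), (4, 18, false), (5, 18, false), (3, 18, false), (4, 18, false), (5, 16, false), (2, 18, false), (2, 4, false), (4, 18, false), (5, 16, false), (6, 15, false), (3, 18, false), (2, 18, false), (3, 15, false), (2, 4, false), (3, 16, false), (3, 3, false), (2, 18, false), (3, 18, false), (2, 4, false), (4, 18, false), (5, 18, false), (6, 16, false), (7, 16, false),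 (3, 18, false), (4, 18, false), (2, 18, false), (3, 18, false), (4, 15, false), (2, 4, false), (4, 18, false), (3, 18, false), (4, 16, false), (2, 4, false), (4, 16, false), (5, 16, false), (6, 11, false), (2, 15, false), (2, 4, false), (3, 15, false), (3, 3, false), (2, 18, false), (3, 18, false), (2, 4, false), (4, 18, false), (5, 18, false), (6, 16, false), (3, 18, false), (2, 18, false), (3, 16, false), (4, 11, false), (2, 4, false), (3, 16, false), (3, 3, false), (2, 18, false), (3, 18, false), (2, 4, false), (4, 18, false), (5, 18, false), (6, 16, false), (7, 12, false), (3, 18, false), (2, 18, false), (3, 16, false), (2, 4, false), (3, 16, false), (4, 12, false), (2, 4, false), (4, 15, false), (4, 3, false), (3, 18, false), (4, 18, false), (2, 18, false), (3, 18, false), (4, 16, false), (2, 4, false), (4, 18, false), (3, 18, false), (4, 16, false), (5, 13, false), (3, 3, false), (2, 18, false), (3, 18, false), (2, 4, false), (4, 18, false), (5, 18, false), (1, 20, false), (2, 20, false), (3, 19, false), (4, 19, false), (5, 17, false), (6, 14, false), (0, 17, false), (1,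 14, false), (2, 9, false), (0, 3, false), (0, 4, false), (2, 18, false), (1, 18, false), (2, 11, false), (2, 2, false), (0, 4, false), (2, 16, false), (2, 3, false), (1, 18, false), (2, 18, false), (0, 18, false), (1, 18, false), (2, 16, false), (3, 15, false), (0, 4, false), (2, 18, false), (1, 18, false), (2, 16, false), (0, 4, false), (2, 16, false), (3, 15, false), (0, 15, false), (0, 3, false), (0, 4, false), (2, 18, false), (3, 18, false), (1, 18, false), (2, 18, false), (3, 16, false), (0, 18, false), (0, 4, false), (2, 18, false), (3, 16, false), (4, 16, false), (1, 18, false), (0, 18, false), (1, 15, false), (0, 4, false), (1, 16, false), (1, 3, false), (0, 18, false), (1, 18, false), (0, 4, false), (2, 18, false), (3, 18, false), (4, 16, false), (5, 16, false), (6, 11, false), (1, 18, false), (2, 18, false), (0, 18, false), (1, 18, false), (2, 15, false), (0, 4, false), (2, 18, false), (1, 18, false), (2, 16, false), (0, 4, false), (2, 16, false), (3, 16, false), (0, 15, false), (0, 3, false), (0, 4, false), (2, 18, false), (3, 18, false), (1, 18, false), (2, 18, false),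 (3, 16, false), (0, 18, false), (0, 4, false), (2, 18, false), (3, 16, false), (4, 16, false), (5, 12, false), (1, 18, false), (0, 18, false), (1, 15, false), (0, 4, false), (1, 16, false), (1, 3, false), (0, 18, false), (1, 18, false), (0, 4, false), (2, 18, false), (3, 18, false), (4, 16, false), (5, 16, false), (1, 18, false), (2, 18, false), (0, 18, false), (1, 18, false), (2, 15, false), (0, 4, false), (2, 18, false), (1, 18, false), (2, 16, false), (0, 4, false), (2, 16, false), (3, 16, false), (4, 12, false), (2, 3, false), (1, 18, false), (2, 18, false), (0, 18, false), (1, 18, false), (2, 16, false), (0, 4, false), (2, 18, false), (1, 18, false), (2, 16, false), (3, 15, false), (0, 18, false), (0, 4, false), (2, 18, false), (3, 15, false), (0, 16, false), (0, 3, false), (0, 4, false), (2, 18, false), (3, 18, false), (1, 18, false), (2, 18, false), (3, 16, false), (4, 16, false), (0, 18, false), (1, 18, false), (0, 4, false), (2, 18, false), (3, 18, false), (4, 15, false), (1, 18, false), (0, 18, false), (1, 16, false), (0, 4, false), (1, 16, false), (2, 16, false), (3,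 13, false), (0, 4, false), (2, 15, false), (0, 15, false), (0, 3, false), (0, 4, false), (2, 18, false), (3, 18, false), (1, 18, false), (2, 18, false), (3, 16, false), (0, 18, false), (0, 4, false), (2, 18, false), (3, 16, false), (2, 3, false), (1, 18, false), (2, 18, false), (0, 18, false), (1, 18, false), (0, 5, false), (2, 19, false), (3, 19, false), (4, 17, false), (5, 17, false), (6, 14, false), (2, 4, false), (4, 18, false), (5, 18, false), (3, 18, false), (4, 18, false), (5, 15, false), (2, 18, false), (3, 18, false), (2, 4, false), (4, 18, false), (5, 18, false), (6, 15, false), (3, 18, false), (2, 18, false), (3, 16, false), (2, 4, false), (3, 16, false), (3, 3, false), (2, 18, false), (2, 4, false), (4, 18, false), (1, 20, false), (2, 20, false), (3, 19, false), (4, 17, false), (5, 17, false), (6, 14, false), (7, 9, false), (6, 1, false), (2, 18, false), (1, 18, false), (2, 15, false), (1, 4, false), (3, 18, false), (2, 18, false), (3, 15, false), (1, 4, false), (3, 16, false), (3, 3, false), (2, 18, false), (3, 18, false), (1, 18, false), (2, 18, false), (3, 16, false),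 (4, 11, false), (1, 4, false), (3, 18, false), (2, 18, false), (3, 16, false), (1, 4, false), (3, 16, false), (4, 12, false), (3, 3, false), (2, 18, false), (3, 18, false), (1, 18, false), (2, 18, false), (3, 16, false), (1, 4, false), (3, 18, false), (2, 18, false), (3, 16, false), (4, 12, false), (1, 18, false), (1, 4, false), (3, 18, false), (4, 15, false), (1, 16, false), (1, 3, false), (1, 4, false), (3, 18, false), (4, 18, false), (2, 18, false), (3, 18, false), (4, 16, false), (5, 13, false), (1, 18, false), (2, 18, false), (1, 4, false), (3, 18, false), (4, 18, false), (5, 15, false), (2, 18, false), (1, 18, false), (2, 16, false), (1, 4, false), (2, 16, false), (3, 13, false), (4, 11, false), (2, 3, false), (1, 18, false), (1, 4, false), (3, 18, false), (4, 11, false), (2, 18, false), (1, 18, false), (2, 12, false), (1, 4, false), (3, 18, false), (2, 18, false), (3, 12, false), (1, 4, false), (3, 13, false), (3, 3, false), (2, 18, false), (3, 18, false), (1, 18, false), (2, 18, false), (3, 13, false), (4, 11, false), (5, 10, false)]),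
    ([0, 3], [3, 0], [(2, 10, true), (1, 7, true), (0, 16, true), (6, 7, true), (5, 13, true), (4, 16, true), (3, 16, true), (2, 18, true), (0, 4, true), (0, 18, true), (3, 16, true), (2, 18, true), (1, 18, true), (3, 18, true), (2, 18, true), (0, 4, true), (0, 3, true), (0, 15, true), (3, 16, true), (2, 16, true), (0, 4, true), (2, 16, true), (1, 18, true), (2, 18, true), (0, 4, true), (2, 15, true), (1, 18, true), (0, 18, true), (2, 18, true), (1, 18, true), (5, 15, true), (4, 16, true), (3, 18, true), (2, 18, true), (0, 4, true), (1, 18, true), (0, 18, true), (1, 3, true), (1, 16, true), (0, 4, true), (3, 11, true), (2, 16, true), (1, 16, true), (0, 18, true), (1, 18, true), (4, 16, true), (3, 18, true), (2, 18, true), (0, 4, true), (1, 18, true), (0, 18, true), (1, 3, true), (1, 15, true), (0, 4, true), (1, 16, true), (0, 16, true), (3, 16, true), (2, 18, true), (0, 4, true), (0, 18, true), (3, 15, true), (2, 18, true), (1, 18, true), (3, 18, true), (2, 18, true), (0, 4, true), (3, 15, true), (2, 16, true), (1, 18, true), (0, 18, true), (2, 18, true), (1, 18, true), (2, 3,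 true), (2, 16, true), (0, 4, true), (3, 15, true), (2, 16, true), (1, 18, true), (2, 18, true), (0, 4, true), (2, 16, true), (1, 18, true), (0, 18, true), (2, 18, true), (1, 18, true), (2, 3, true), (2, 2, true), (4, 6, true), (3, 14, true), (2, 14, true), (1, 20, true), (0, 20, true), (4, 12, true), (3, 13, true), (1, 4, true), (3, 13, true), (2, 18, true), (3, 18, true), (1, 4, true), (4, 11, true), (3, 13, true), (2, 18, true), (1, 18, true), (3, 18, true), (2, 18, true), (3, 3, true), (3, 13, true), (1, 4, true), (3, 12, true), (2, 18, true), (3, 18, true), (1, 4, true), (2, 12, true), (1, 18, true), (2, 18, true), (4, 11, true), (3, 18, true), (1, 4, true), (1, 18, true), (2, 3, true), (3, 1, true), (3, 6, true), (2, 17, true), (1, 20, true), (2, 4, true), (4, 15, true), (3, 18, true), (2, 18, true), (4, 18, true), (3, 18, true), (10, 8, true), (9, 10, true), (8, 11, true), (7, 16, true), (6, 16, true), (5, 18, true), (4, 18, true), (2, 4, true), (3, 18, true), (2, 18, true), (3, 3, true), (3, 16, true), (2, 4, true), (3, 15, true), (2, 18, true), (3, 18, true), (6, 16, true),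 (5, 16, true), (4, 18, true), (2, 4, true), (2, 18, true), (5, 16, true), (4, 18, true), (3, 18, true), (5, 18, true), (4, 18, true), (2, 4, true), (2, 3, true), (2, 15, true), (5, 15, true), (4, 16, true), (2, 4, true), (4, 16, true), (3, 18, true), (4, 18, true), (2, 4, true), (5, 15, true), (4, 16, true), (3, 18, true), (2, 18, true), (4, 18, true), (3, 18, true), (4, 3, true), (4, 16, true), (2, 4, true), (4, 2, true), (4, 11, true), (3, 18, true), (4, 18, true), (2, 4, true), (2, 3, true), (3, 1, true), (3, 8, true), (2, 17, true), (0, 5, true), (4, 15, true), (3, 18, true), (2, 18, true), (0, 4, true), (1, 18, true), (0, 18, true), (3, 15, true), (2, 18, true), (1, 18, true), (3, 18, true), (2, 18, true), (0, 4, true), (4, 8, true), (3, 17, true), (2, 17, true), (1, 19, true), (0, 19, true), (2, 18, true), (1, 18, true), (3, 18, true), (2, 18, true), (3, 3, true), (4, 16, true), (3, 18, true), (1, 4, true), (1, 18, true), (4, 16, true), (3, 18, true), (2, 18, true), (4, 18, true), (3, 18, true), (1, 4, true), (1, 3, true), (1, 15, true), (3, 15, true), (1, 4, true), (3, 15,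 true), (2, 16, true), (1, 4, true), (2, 16, true), (1, 18, true), (2, 18, true), (6, 15, true), (5, 16, true), (4, 18, true), (3, 18, true), (1, 4, true), (2, 18, true), (1, 18, true), (2, 3, true), (2, 16, true), (1, 4, true), (2, 2, true), (2, 7, true), (1, 18, true), (6, 8, true), (5, 10, true), (4, 11, true), (3, 16, true), (2, 18, true), (3, 18, true), (1, 4, true), (3, 16, true), (2, 18, true), (1, 18, true), (3, 18, true), (2, 18, true), (3, 3, true), (3, 15, true), (1, 4, true), (2, 15, true), (1, 4, true), (3, 11, true), (2, 16, true), (1, 16, true), (4, 16, true), (3, 18, true), (1, 4, true), (1, 18, true), (4, 15, true), (3, 18, true), (2, 18, true), (4, 18, true), (3, 18, true), (1, 4, true), (4, 16, true), (3, 16, true), (2, 18, true), (1, 18, true), (3, 18, true), (2, 18, true), (3, 3, true), (3, 16, true), (1, 4, true), (3, 15, true), (2, 18, true), (3, 18, true), (1, 4, true), (3, 15, true), (2, 16, true), (1, 18, true), (2, 18, true), (5, 16, true), (4, 18, true), (3, 18, true), (1, 4, true), (2, 18, true), (1, 18, true), (2, 3, true), (3, 15, true), (2, 16, true),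 (1, 4, true), (2, 16, true), (1, 18, true), (2, 18, true), (5, 2, true), (5, 1, true), (5, 8, true), (4, 19, true), (3, 19, true), (2, 20, true), (1, 20, true), (4, 3, true), (6, 8, true), (5, 17, true), (4, 19, true), (3, 20, true), (2, 20, true), (0, 5, true), (2, 18, true), (0, 4, true), (0, 18, true), (1, 3, true), (1, 15, true), (0, 4, true), (0, 15, true), (4, 7, true), (3, 16, true), (2, 16, true), (0, 4, true), (2, 16, true), (1, 18, true), (2, 18, true), (0, 4, true), (2, 15, true), (1, 18, true), (0, 18, true), (2, 18, true), (1, 18, true), (4, 2, true), (6, 6, true), (5, 10, true), (4, 11, true), (3, 18, true), (2, 18, true), (0, 4, true), (1, 18, true), (0, 18, true), (1, 3, true), (3, 11, true), (2, 16, true), (1, 18, true), (2, 18, true), (0, 4, true), (2, 16, true), (1, 18, true), (0, 18, true), (2, 18, true), (1, 18, true), (2, 3, true), (2, 15, true), (0, 4, true), (1, 15, true), (0, 4, true), (2, 1, true), (2, 8, true), (1, 17, true), (0, 17, true), (5, 16, true), (4, 18, true), (3, 18, true), (1, 4, true), (2, 18, true), (1, 18, true), (2, 3, true), (2, 16, true),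 (1, 4, true), (2, 15, true), (1, 18, true), (2, 18, true), (4, 15, true), (3, 18, true), (1, 4, true), (1, 18, true), (4, 15, true), (3, 16, true), (2, 18, true), (3, 18, true), (1, 4, true), (3, 16, true), (2, 18, true), (1, 18, true), (3, 18, true), (2, 18, true), (3, 3, true), (4, 15, true), (3, 16, true), (1, 4, true), (3, 16, true), (2, 18, true), (3, 18, true), (1, 4, true), (3, 2, true), (3, 7, true), (2, 18, true), (1, 18, true), (6, 6, true), (5, 14, true), (4, 17, true), (3, 19, true), (2, 19, true), (1, 20, true), (4, 18, true), (3, 18, true), (5, 18, true), (4, 18, true), (2, 4, true), (2, 3, true), (4, 12, true), (3, 16, true), (2, 18, true), (3, 18, true), (6, 16, true), (5, 18, true), (4, 18, true), (2, 4, true), (3, 18, true), (2, 18, true), (3, 3, true), (4, 11, true), (3, 16, true), (2, 4, true), (3, 16, true), (2, 18, true), (3, 18, true), (6, 15, true), (5, 18, true), (4, 18, true), (2, 4, true), (3, 18, true), (2, 18, true), (5, 15, true), (4, 18, true), (3, 18, true), (5, 18, true), (4, 18, true), (2, 4, true), (9, 6, true), (8, 10, true), (7, 11, true), (6,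 13, true), (5, 16, true), (4, 16, true), (3, 18, true), (2, 18, true), (4, 18, true), (3, 18, true), (4, 3, true), (4, 16, true), (2, 4, true), (4, 15, true), (3, 18, true), (4, 18, true), (2, 4, true), (4, 16, true), (3, 16, true), (2, 18, true), (3, 18, true), (6, 16, true), (5, 18, true), (4, 18, true), (2, 4, true), (3, 18, true), (2, 18, true), (3, 3, true), (3, 15, true), (2, 4, true), (3, 15, true), (2, 16, true), (5, 16, true), (4, 18, true), (2, 4, true), (2, 18, true), (7, 13, true), (6, 16, true), (5, 16, true), (4, 18, true), (3, 18, true), (5, 18, true), (4, 18, true), (2, 4, true), (2, 3, true), (2, 16, true), (5, 15, true), (4, 18, true), (2, 4, true), (2, 18, true), (5, 16, true), (4, 16, true), (3, 18, true), (4, 18, true), (2, 4, true), (4, 16, true), (3, 18, true), (2, 18, true), (4, 18, true), (3, 18, true), (4, 3, true), (4, 15, true), (2, 4, true), (4, 15, true), (3, 16, true), (2, 4, true), (3, 16, true), (2, 18, true), (3, 18, true), (8, 12, true), (7, 16, true), (6, 16, true), (5, 18, true), (4, 18, true), (2, 4, true), (3, 18, true), (2, 18, true), (3,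 3, true), (3, 16, true), (2, 4, true), (3, 15, true), (2, 18, true), (3, 18, true), (6, 16, true), (5, 16, true), (4, 18, true), (2, 4, true), (2, 18, true), (5, 16, true), (4, 18, true), (3, 18, true), (5, 18, true), (4, 18, true), (2, 4, true), (2, 3, true), (2, 15, true), (6, 12, true), (5, 16, true), (4, 16, true), (2, 4, true), (4, 16, true), (3, 18, true), (4, 18, true), (2, 4, true), (4, 15, true), (3, 18, true), (2, 18, true), (4, 18, true), (3, 18, true), (7, 16, true), (6, 16, true), (5, 18, true), (4, 18, true), (2, 4, true), (3, 18, true), (2, 18, true), (3, 3, true), (3, 16, true), (2, 4, true), (3, 15, true), (2, 18, true), (3, 18, true), (7, 11, true), (6, 16, true), (5, 16, true), (4, 18, true), (2, 4, true), (2, 18, true), (5, 16, true), (4, 18, true), (3, 18, true), (5, 18, true), (4, 18, true), (2, 4, true), (2, 3, true), (2, 15, true), (5, 16, true), (4, 16, true), (2, 4, true), (4, 16, true), (3, 18, true), (4, 18, true), (2, 4, true), (4, 15, true), (3, 18, true), (2, 18, true), (4, 18, true), (3, 18, true), (7, 15, true), (6, 16, true), (5, 18, true), (4,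 18, true), (2, 4, true), (3, 18, true), (2, 18, true), (3, 3, true), (3, 16, true), (2, 4, true), (4, 15, true), (3, 16, true), (2, 18, true), (3, 18, true), (6, 16, true), (5, 18, true), (4, 18, true), (2, 4, true), (3, 18, true), (2, 18, true), (3, 3, true), (3, 2, true), (4, 11, true), (3, 13, true), (2, 4, true), (3, 13, true), (2, 18, true), (3, 18, true), (6, 12, true), (5, 18, true), (4, 18, true), (2, 4, true), (3, 18, true), (2, 18, true), (5, 12, true), (4, 18, true), (3, 18, true), (5, 18, true), (4, 18, true), (2, 4, true), (4, 11, true), (3, 18, true), (2, 18, true), (4, 18, true), (3, 18, true), (4, 3, true), (6, 1, true), (7, 8, true), (6, 14, true), (5, 17, true), (4, 19, true), (3, 20, true), (2, 20, true), (0, 5, true), (2, 18, true), (0, 4, true), (0, 18, true), (1, 3, true), (2, 12, true), (1, 16, true), (0, 4, true), (1, 16, true), (0, 18, true), (1, 18, true), (5, 12, true), (4, 16, true), (3, 18, true), (2, 18, true), (0, 4, true), (1, 18, true), (0, 18, true), (1, 3, true), (1, 16, true), (0, 4, true), (2, 11, true), (1, 16, true), (0, 18, true), (1, 18,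 true), (4, 16, true), (3, 18, true), (2, 18, true), (0, 4, true), (1, 18, true), (0, 18, true), (1, 3, true), (1, 15, true), (0, 4, true), (0, 15, true), (5, 7, true), (4, 13, true), (3, 16, true), (2, 16, true), (0, 4, true), (2, 16, true), (1, 18, true), (2, 18, true), (0, 4, true), (2, 15, true), (1, 18, true), (0, 18, true), (2, 18, true), (1, 18, true), (5, 16, true), (4, 16, true), (3, 18, true), (2, 18, true), (0, 4, true), (1, 18, true), (0, 18, true), (1, 3, true), (1, 16, true), (0, 4, true), (1, 15, true), (0, 18, true), (1, 18, true), (4, 15, true), (3, 16, true), (2, 18, true), (0, 4, true), (0, 18, true), (3, 16, true), (2, 18, true), (1, 18, true), (3, 18, true), (2, 18, true), (0, 4, true), (0, 3, true), (2, 11, true), (1, 16, true), (0, 16, true), (3, 16, true), (2, 18, true), (0, 4, true), (0, 18, true), (3, 15, true), (2, 18, true), (1, 18, true), (3, 18, true), (2, 18, true), (0, 4, true), (3, 16, true), (2, 16, true), (1, 18, true), (0, 18, true), (2, 18, true), (1, 18, true), (2, 3, true), (2, 16, true), (0, 4, true), (2, 15, true), (1, 18, true), (2, 18,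 true), (0, 4, true), (2, 15, true), (1, 16, true), (0, 18, true), (1, 18, true), (4, 16, true), (3, 18, true), (2, 18, true), (0, 4, true), (1, 18, true), (0, 18, true), (1, 3, true), (2, 15, true), (1, 16, true), (0, 4, true), (1, 16, true), (0, 18, true), (1, 18, true), (4, 2, true), (6, 6, true), (5, 14, true), (4, 14, true), (3, 19, true), (2, 19, true), (1, 20, true), (0, 20, true), (6, 12, true), (5, 13, true), (4, 18, true), (3, 18, true), (1, 4, true), (2, 18, true), (1, 18, true), (2, 3, true), (2, 13, true), (1, 4, true), (3, 11, true), (2, 13, true), (1, 18, true), (2, 18, true), (5, 13, true), (4, 18, true), (3, 18, true), (1, 4, true), (2, 18, true), (1, 18, true), (2, 3, true), (2, 12, true), (1, 4, true), (1, 12, true), (3, 11, true), (1, 4, true), (5, 1, true), (5, 0, true), (4, 16, true), (3, 18, true), (2, 18, true), (4, 18, true), (3, 18, true), (1, 4, true), (1, 3, true), (1, 15, true), (1, 15, false), (1, 3, false), (1, 4, false), (3, 18, false), (4, 18, false), (2, 18, false), (3, 18, false), (4, 16, false), (5, 0, false), (5, 1, false), (1, 4, false), (3,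 11, false), (1, 12, false), (1, 4, false), (2, 12, false), (2, 3, false), (1, 18, false), (2, 18, false), (1, 4, false), (3, 18, false), (4, 18, false), (5, 13, false), (2, 18, false), (1, 18, false), (2, 13, false), (3, 11, false), (1, 4, false), (3, 18, false), (2, 18, false), (3, 12, false), (1, 4, false), (3, 13, false), (3, 3, false), (2, 18, false), (3, 18, false), (1, 18, false), (2, 18, false), (3, 13, false), (4, 13, false), (5, 7, false)], [(3, 9, true), (2, 20, true), (1, 20, true), (3, 20, true), (2, 20, true), (0, 5, true), (0, 4, true), (4, 9, true), (3, 17, true), (2, 17, true), (1, 19, true), (0, 19, true), (2, 18, true), (1, 18, true), (3, 18, true), (2, 18, true), (3, 3, true), (4, 16, true), (3, 18, true), (1, 4, true), (1, 18, true), (4, 16, true), (3, 18, true), (2, 18, true), (4, 18, true), (3, 18, true), (1, 4, true), (1, 3, true), (1, 15, true), (3, 15, true), (1, 4, true), (3, 17, true), (2, 17, true), (1, 20, true), (2, 4, true), (4, 16, true), (3, 18, true), (2, 18, true), (4, 18, true), (3, 18, true), (4, 3, true), (4, 16, true), (2, 4, true), (4, 15,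 true), (3, 18, true), (4, 18, true), (2, 4, true), (3, 15, true), (2, 18, true), (3, 18, true), (6, 16, true), (5, 16, true), (4, 18, true), (2, 4, true), (2, 18, true), (5, 16, true), (4, 18, true), (3, 18, true), (5, 18, true), (4, 18, true), (2, 4, true), (2, 3, true), (2, 15, true), (5, 15, true), (4, 16, true), (2, 4, true), (4, 16, true), (3, 18, true), (4, 18, true), (2, 4, true), (5, 15, true), (4, 16, true), (3, 18, true), (2, 18, true), (4, 18, true), (3, 18, true), (4, 3, true), (4, 16, true), (2, 4, true), (4, 2, true), (5, 8, true), (4, 17, true), (3, 19, true), (2, 20, true), (0, 5, true), (1, 18, true), (2, 18, true), (0, 4, true), (0, 3, true), (0, 15, true), (2, 15, true), (0, 4, true), (3, 6, true), (2, 17, true), (1, 17, true), (0, 20, true), (1, 4, true), (3, 16, true), (2, 18, true), (1, 18, true), (3, 18, true), (2, 18, true), (3, 3, true), (3, 16, true), (1, 4, true), (3, 15, true), (2, 18, true), (3, 18, true), (1, 4, true), (2, 15, true), (1, 18, true), (2, 18, true), (5, 15, true), (4, 16, true), (3, 18, true), (1, 4, true), (1, 18, true), (4, 16, true),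 (3, 18, true), (2, 18, true), (4, 18, true), (3, 18, true), (1, 4, true), (1, 3, true), (1, 2, true), (1, 3, false), (1, 4, false), (3, 18, false), (4, 18, false), (2, 18, false), (3, 18, false), (4, 13, false), (1, 18, false), (1, 4, false), (3, 18, false), (4, 13, false), (0, 20, false), (1, 20, false), (2, 19, false), (3, 14, false)])]

/-- A conjugation. -/
def threeUFourFus1 : Schur.Tails.Fus where
  xs := [[5, 3, 3, 1, 1, 0], [5, 5, 4, 4, 2, 2, 1], [4, 4, 3, 1]]
  ys := [[3, 2, 1, 1], [5, 3, 2, 1], [4, 3, 3, 2, 1, 1]]
  rels := [
    ([0, 0, 0], [], [(5, 10, true), (4, 11, true), (3, 13, true), (2, 18, true), (1, 18, true), (3, 18, true), (2, 18, true), (3, 3, true), (3, 13, true), (1, 4, true), (3, 12, true), (2, 18, true), (3, 18, true), (1, 4, true), (2, 12, true), (1, 18, true), (2, 18, true), (4, 11, true), (3, 18, true), (1, 4, true), (1, 18, true), (2, 3, true), (4, 11, true), (3, 13, true), (2, 16, true), (1, 4, true), (2, 16, true), (1, 18, true), (2, 18, true), (5, 15, true), (4, 18, true), (3, 18, true), (1, 4, true), (2, 18, true), (1, 18, true), (5, 13, true),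 (4, 16, true), (3, 18, true), (2, 18, true), (4, 18, true), (3, 18, true), (1, 4, true), (1, 3, true), (1, 16, true), (4, 15, true), (3, 18, true), (1, 4, true), (1, 18, true), (4, 12, true), (3, 16, true), (2, 18, true), (3, 18, true), (1, 4, true), (3, 16, true), (2, 18, true), (1, 18, true), (3, 18, true), (2, 18, true), (3, 3, true), (4, 12, true), (3, 16, true), (1, 4, true), (3, 16, true), (2, 18, true), (3, 18, true), (1, 4, true), (4, 11, true), (3, 16, true), (2, 18, true), (1, 18, true), (3, 18, true), (2, 18, true), (3, 3, true), (3, 16, true), (1, 4, true), (3, 15, true), (2, 18, true), (3, 18, true), (1, 4, true), (2, 15, true), (1, 18, true), (2, 18, true), (6, 1, true), (7, 8, true), (6, 14, true), (5, 17, true), (4, 17, true), (3, 19, true), (2, 20, true), (1, 20, true), (4, 18, true), (2, 4, true), (2, 18, true), (3, 3, true), (3, 16, true), (2, 4, true), (3, 16, true), (2, 18, true), (3, 18, true), (6, 15, true), (5, 18, true), (4, 18, true), (2, 4, true), (3, 18, true), (2, 18, true), (5, 15, true), (4, 18, true), (3, 18, true), (5, 18, true), (4, 18, true),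 (2, 4, true), (6, 12, true), (5, 16, true), (4, 16, true), (3, 18, true), (2, 18, true), (4, 18, true), (3, 18, true), (4, 3, true), (4, 16, true), (2, 4, true), (4, 15, true), (3, 18, true), (4, 18, true), (2, 4, true), (4, 16, true), (3, 16, true), (2, 18, true), (3, 18, true), (6, 16, true), (5, 18, true), (4, 18, true), (2, 4, true), (3, 18, true), (2, 18, true), (3, 3, true), (3, 15, true), (2, 4, true), (4, 12, true), (3, 16, true), (2, 16, true), (5, 16, true), (4, 18, true), (2, 4, true), (2, 18, true), (5, 15, true), (4, 18, true), (3, 18, true), (5, 18, true), (4, 18, true), (2, 4, true), (5, 16, true), (4, 16, true), (3, 18, true), (2, 18, true), (4, 18, true), (3, 18, true), (4, 3, true), (4, 16, true), (2, 4, true), (4, 15, true), (3, 18, true), (4, 18, true), (2, 4, true), (5, 11, true), (4, 16, true), (3, 16, true), (2, 18, true), (3, 18, true), (6, 16, true), (5, 18, true), (4, 18, true), (2, 4, true), (3, 18, true), (2, 18, true), (3, 3, true), (3, 15, true), (2, 4, true), (3, 16, true), (2, 16, true), (5, 16, true), (4, 18, true), (2, 4, true), (2, 18, true),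 (5, 15, true), (4, 18, true), (3, 18, true), (5, 18, true), (4, 18, true), (2, 4, true), (5, 15, true), (4, 16, true), (3, 18, true), (2, 18, true), (4, 18, true), (3, 18, true), (4, 3, true), (4, 16, true), (2, 4, true), (5, 15, true), (4, 16, true), (3, 18, true), (4, 18, true), (2, 4, true), (4, 16, true), (3, 18, true), (2, 18, true), (4, 18, true), (3, 18, true), (4, 3, true), (4, 2, true), (5, 8, true), (4, 14, true), (3, 20, true), (2, 20, true), (0, 5, true), (2, 12, true), (0, 4, true), (1, 12, true), (0, 4, true), (0, 11, true), (6, 6, true), (5, 14, true), (4, 17, true), (3, 19, true), (2, 19, true), (1, 20, true), (0, 20, true), (4, 18, true), (3, 18, true), (1, 4, true), (2, 18, true), (1, 18, true), (2, 3, true), (4, 12, true), (3, 16, true), (2, 18, true), (3, 18, true), (1, 4, true), (3, 16, true), (2, 18, true), (1, 18, true), (3, 18, true), (2, 18, true), (3, 3, true), (4, 11, true), (3, 16, true), (1, 4, true), (3, 16, true), (2, 18, true), (3, 18, true), (1, 4, true), (3, 15, true), (2, 18, true), (1, 18, true), (3, 18, true), (2, 18, true), (5, 15, true), (4,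 18, true), (3, 18, true), (1, 4, true), (2, 18, true), (1, 18, true), (8, 6, true), (7, 14, true), (6, 14, true), (5, 17, true), (4, 17, true), (3, 19, true), (2, 19, true), (1, 20, true), (4, 18, true), (3, 18, true), (5, 18, true), (4, 18, true), (2, 4, true), (2, 3, true), (3, 16, true), (2, 18, true), (3, 18, true), (6, 16, true), (5, 18, true), (4, 18, true), (2, 4, true), (3, 18, true), (2, 18, true), (3, 3, true), (3, 15, true), (2, 4, true), (2, 15, true), (7, 12, true), (6, 13, true), (5, 16, true), (4, 16, true), (2, 4, true), (4, 16, true), (3, 18, true), (4, 18, true), (2, 4, true), (4, 15, true), (3, 18, true), (2, 18, true), (4, 18, true), (3, 18, true), (7, 16, true), (6, 16, true), (5, 18, true), (4, 18, true), (2, 4, true), (3, 18, true), (2, 18, true), (3, 3, true), (3, 16, true), (2, 4, true), (3, 15, true), (2, 18, true), (3, 18, true), (6, 15, true), (5, 16, true), (4, 18, true), (2, 4, true), (2, 18, true), (5, 16, true), (4, 18, true), (3, 18, true), (5, 18, true), (4, 18, true), (2, 4, true), (2, 3, true), (4, 13, true), (3, 16, true), (2, 16, true), (5,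 16, true), (4, 18, true), (2, 4, true), (2, 18, true), (5, 15, true), (4, 18, true), (3, 18, true), (5, 18, true), (4, 18, true), (2, 4, true), (5, 16, true), (4, 16, true), (3, 18, true), (2, 18, true), (4, 18, true), (3, 18, true), (4, 3, true), (4, 16, true), (2, 4, true), (4, 15, true), (3, 18, true), (4, 18, true), (2, 4, true), (4, 15, true), (3, 16, true), (2, 18, true), (3, 18, true), (6, 16, true), (5, 18, true), (4, 18, true), (2, 4, true), (3, 18, true), (2, 18, true), (3, 3, true), (6, 11, true), (5, 13, true), (4, 16, true), (3, 16, true), (2, 4, true), (3, 16, true), (2, 18, true), (3, 18, true), (6, 15, true), (5, 18, true), (4, 18, true), (2, 4, true), (3, 18, true), (2, 18, true), (6, 16, true), (5, 16, true), (4, 18, true), (3, 18, true), (5, 18, true), (4, 18, true), (2, 4, true), (2, 3, true), (2, 16, true), (5, 15, true), (4, 18, true), (2, 4, true), (2, 18, true), (5, 15, true), (4, 16, true), (3, 18, true), (4, 18, true), (2, 4, true), (4, 16, true), (3, 18, true), (2, 18, true), (4, 18, true), (3, 18, true), (4, 3, true), (6, 13, true), (5, 16, true), (4,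 16, true), (2, 4, true), (4, 16, true), (3, 18, true), (4, 18, true), (2, 4, true), (4, 15, true), (3, 18, true), (2, 18, true), (4, 18, true), (3, 18, true), (7, 16, true), (6, 16, true), (5, 18, true), (4, 18, true), (2, 4, true), (3, 18, true), (2, 18, true), (3, 3, true), (3, 16, true), (2, 4, true), (3, 15, true), (2, 18, true), (3, 18, true), (6, 15, true), (5, 16, true), (4, 18, true), (2, 4, true), (2, 18, true), (5, 16, true), (4, 18, true), (3, 18, true), (5, 18, true), (4, 18, true), (2, 4, true), (2, 3, true), (4, 12, true), (3, 16, true), (2, 16, true), (5, 16, true), (4, 18, true), (2, 4, true), (2, 18, true), (5, 15, true), (4, 18, true), (3, 18, true), (5, 18, true), (4, 18, true), (2, 4, true), (5, 16, true), (4, 16, true), (3, 18, true), (2, 18, true), (4, 18, true), (3, 18, true), (4, 3, true), (4, 16, true), (2, 4, true), (4, 15, true), (3, 18, true), (4, 18, true), (2, 4, true), (5, 12, true), (4, 16, true), (3, 16, true), (2, 18, true), (3, 18, true), (6, 16, true), (5, 18, true), (4, 18, true), (2, 4, true), (3, 18, true), (2, 18, true), (3, 3, true), (3,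 15, true), (2, 4, true), (3, 16, true), (2, 16, true), (5, 16, true), (4, 18, true), (2, 4, true), (2, 18, true), (5, 15, true), (4, 18, true), (3, 18, true), (5, 18, true), (4, 18, true), (2, 4, true), (6, 11, true), (5, 16, true), (4, 16, true), (3, 18, true), (2, 18, true), (4, 18, true), (3, 18, true), (4, 3, true), (4, 16, true), (2, 4, true), (4, 15, true), (3, 18, true), (4, 18, true), (2, 4, true), (4, 16, true), (3, 16, true), (2, 18, true), (3, 18, true), (6, 16, true), (5, 18, true), (4, 18, true), (2, 4, true), (3, 18, true), (2, 18, true), (3, 3, true), (3, 15, true), (2, 4, true), (3, 15, true), (2, 16, true), (5, 16, true), (4, 18, true), (2, 4, true), (2, 18, true), (6, 15, true), (5, 16, true), (4, 18, true), (3, 18, true), (5, 18, true), (4, 18, true), (2, 4, true), (2, 3, true), (2, 16, true), (5, 2, true), (5, 1, true), (6, 10, true), (5, 7, true), (4, 18, true), (2, 4, true), (5, 7, true), (4, 13, true), (3, 16, true), (2, 18, true), (3, 18, true), (6, 16, true), (5, 18, true), (4, 18, true), (2, 4, true), (3, 18, true), (2, 18, true), (3, 3, true), (3, 15,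 true), (2, 4, true), (3, 11, true), (2, 16, true), (5, 16, true), (4, 18, true), (2, 4, true), (2, 18, true), (5, 15, true), (4, 18, true), (3, 18, true), (5, 18, true), (4, 18, true), (2, 4, true), (4, 15, true), (3, 18, true), (2, 18, true), (4, 18, true), (3, 18, true), (10, 6, true), (9, 14, true), (8, 14, true), (7, 17, true), (6, 17, true), (5, 19, true), (4, 19, true), (3, 20, true), (2, 20, true), (0, 5, true), (3, 18, true), (2, 18, true), (0, 4, true), (1, 18, true), (0, 18, true), (1, 3, true), (2, 16, true), (1, 18, true), (2, 18, true), (0, 4, true), (2, 16, true), (1, 18, true), (0, 18, true), (2, 18, true), (1, 18, true), (2, 3, true), (2, 15, true), (0, 4, true), (1, 15, true), (0, 4, true), (3, 12, true), (2, 13, true), (1, 16, true), (0, 16, true), (3, 16, true), (2, 18, true), (0, 4, true), (0, 18, true), (3, 15, true), (2, 18, true), (1, 18, true), (3, 18, true), (2, 18, true), (0, 4, true), (3, 16, true), (2, 16, true), (1, 18, true), (0, 18, true), (2, 18, true), (1, 18, true), (2, 3, true), (2, 16, true), (0, 4, true), (2, 15, true), (1, 18, true), (2, 18,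 true), (0, 4, true), (2, 15, true), (1, 16, true), (0, 18, true), (1, 18, true), (4, 16, true), (3, 18, true), (2, 18, true), (0, 4, true), (1, 18, true), (0, 18, true), (1, 3, true), (3, 13, true), (2, 16, true), (1, 16, true), (0, 4, true), (1, 16, true), (0, 18, true), (1, 18, true), (4, 15, true), (3, 18, true), (2, 18, true), (0, 4, true), (1, 18, true), (0, 18, true), (4, 16, true), (3, 16, true), (2, 18, true), (1, 18, true), (3, 18, true), (2, 18, true), (0, 4, true), (0, 3, true), (0, 16, true), (3, 15, true), (2, 18, true), (0, 4, true), (0, 18, true), (3, 15, true), (2, 16, true), (1, 18, true), (2, 18, true), (0, 4, true), (2, 16, true), (1, 18, true), (0, 18, true), (2, 18, true), (1, 18, true), (2, 3, true), (5, 11, true), (4, 13, true), (3, 16, true), (2, 16, true), (0, 4, true), (2, 16, true), (1, 18, true), (2, 18, true), (0, 4, true), (2, 15, true), (1, 18, true), (0, 18, true), (2, 18, true), (1, 18, true), (5, 16, true), (4, 16, true), (3, 18, true), (2, 18, true), (0, 4, true), (1, 18, true), (0, 18, true), (1, 3, true), (1, 16, true), (0, 4, true), (1, 15,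 true), (0, 18, true), (1, 18, true), (4, 15, true), (3, 16, true), (2, 18, true), (0, 4, true), (0, 18, true), (3, 16, true), (2, 18, true), (1, 18, true), (3, 18, true), (2, 18, true), (0, 4, true), (0, 3, true), (2, 13, true), (1, 16, true), (0, 16, true), (3, 16, true), (2, 18, true), (0, 4, true), (0, 18, true), (3, 15, true), (2, 18, true), (1, 18, true), (3, 18, true), (2, 18, true), (0, 4, true), (3, 16, true), (2, 16, true), (1, 18, true), (0, 18, true), (2, 18, true), (1, 18, true), (2, 3, true), (2, 16, true), (0, 4, true), (2, 15, true), (1, 18, true), (2, 18, true), (0, 4, true), (2, 15, true), (1, 16, true), (0, 18, true), (1, 18, true), (4, 16, true), (3, 18, true), (2, 18, true), (0, 4, true), (1, 18, true), (0, 18, true), (1, 3, true), (3, 12, true), (2, 16, true), (1, 16, true), (0, 4, true), (1, 16, true), (0, 18, true), (1, 18, true), (4, 15, true), (3, 18, true), (2, 18, true), (0, 4, true), (1, 18, true), (0, 18, true), (4, 16, true), (3, 16, true), (2, 18, true), (1, 18, true), (3, 18, true), (2, 18, true), (0, 4, true), (0, 3, true), (0, 16, true), (3, 15,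 true), (2, 18, true), (0, 4, true), (0, 18, true), (4, 12, true), (3, 16, true), (2, 16, true), (1, 18, true), (2, 18, true), (0, 4, true), (2, 16, true), (1, 18, true), (0, 18, true), (2, 18, true), (1, 18, true), (2, 3, true), (2, 15, true), (0, 4, true), (2, 16, true), (1, 16, true), (0, 4, true), (1, 16, true), (0, 18, true), (1, 18, true), (4, 15, true), (3, 18, true), (2, 18, true), (0, 4, true), (1, 18, true), (0, 18, true), (5, 11, true), (4, 16, true), (3, 16, true), (2, 18, true), (1, 18, true), (3, 18, true), (2, 18, true), (0, 4, true), (0, 3, true), (0, 16, true), (3, 15, true), (2, 18, true), (0, 4, true), (0, 18, true), (3, 16, true), (2, 16, true), (1, 18, true), (2, 18, true), (0, 4, true), (2, 16, true), (1, 18, true), (0, 18, true), (2, 18, true), (1, 18, true), (2, 3, true), (2, 15, true), (0, 4, true), (2, 15, true), (1, 16, true), (0, 4, true), (1, 16, true), (0, 18, true), (1, 18, true), (5, 15, true), (4, 16, true), (3, 18, true), (2, 18, true), (0, 4, true), (1, 18, true), (0, 18, true), (1, 3, true), (1, 16, true), (0, 4, true), (1, 2, true), (1, 1, true),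 (1, 6, true), (0, 19, true), (6, 8, true), (5, 10, true), (4, 11, true), (3, 16, true), (2, 18, true), (1, 18, true), (3, 18, true), (2, 18, true), (3, 3, true), (3, 16, true), (1, 4, true), (3, 15, true), (2, 18, true), (3, 18, true), (1, 4, true), (2, 15, true), (1, 18, true), (2, 18, true), (6, 11, true), (5, 16, true), (4, 16, true), (3, 18, true), (1, 4, true), (1, 18, true), (4, 16, true), (3, 18, true), (2, 18, true), (4, 18, true), (3, 18, true), (1, 4, true), (1, 3, true), (1, 15, true), (4, 16, true), (3, 16, true), (1, 4, true), (3, 16, true), (2, 18, true), (3, 18, true), (1, 4, true), (3, 15, true), (2, 18, true), (1, 18, true), (3, 18, true), (2, 18, true), (6, 15, true), (5, 16, true), (4, 18, true), (3, 18, true), (1, 4, true), (2, 18, true), (1, 18, true), (2, 3, true), (2, 16, true), (1, 4, true), (3, 15, true), (2, 16, true), (1, 18, true), (2, 18, true), (5, 16, true), (4, 18, true), (3, 18, true), (1, 4, true), (2, 18, true), (1, 18, true), (2, 3, true), (2, 2, true), (2, 1, true), (2, 8, true), (1, 20, true), (6, 8, true), (5, 17, true), (4, 19, true), (3,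 19, true), (2, 20, true), (0, 5, true), (2, 18, true), (1, 18, true), (3, 18, true), (2, 18, true), (0, 4, true), (0, 3, true), (1, 15, true), (0, 18, true), (1, 18, true), (3, 15, true), (2, 18, true), (0, 4, true), (0, 18, true), (4, 7, true), (3, 16, true), (2, 16, true), (1, 18, true), (2, 18, true), (0, 4, true), (2, 16, true), (1, 18, true), (0, 18, true), (2, 18, true), (1, 18, true), (2, 3, true), (2, 15, true), (0, 4, true), (1, 2, true), (3, 8, true), (2, 10, true), (1, 11, true), (0, 4, true), (3, 11, true), (2, 16, true), (1, 18, true), (0, 18, true), (2, 18, true), (1, 18, true), (2, 3, true), (2, 16, true), (0, 4, true), (2, 15, true), (1, 18, true), (2, 18, true), (0, 4, true), (1, 15, true), (0, 18, true), (1, 18, true), (5, 1, true), (5, 8, true), (4, 17, true), (3, 17, true), (2, 19, true), (1, 20, true), (0, 20, true), (3, 18, true), (1, 4, true), (1, 18, true), (2, 3, true), (2, 16, true), (1, 4, true), (2, 16, true), (1, 18, true), (2, 18, true), (5, 15, true), (4, 18, true), (3, 18, true), (1, 4, true), (2, 18, true), (1, 18, true), (4, 15, true), (3, 18,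 true), (2, 18, true), (4, 18, true), (3, 18, true), (1, 4, true), (4, 15, true), (3, 16, true), (2, 18, true), (1, 18, true), (3, 18, true), (2, 18, true), (3, 3, true), (3, 16, true), (1, 4, true), (4, 15, true), (3, 16, true), (2, 18, true), (3, 18, true), (1, 4, true), (3, 16, true), (2, 18, true), (1, 18, true), (3, 18, true), (2, 18, true), (3, 3, true), (3, 2, true), (3, 8, true), (2, 20, true), (1, 20, true), (7, 7, true), (6, 16, true), (5, 18, true), (4, 18, true), (2, 4, true), (3, 18, true), (2, 18, true), (3, 3, true), (7, 6, true), (6, 10, true), (5, 11, true), (4, 16, true), (3, 16, true), (2, 4, true), (3, 16, true), (2, 18, true), (3, 18, true), (6, 15, true), (5, 18, true), (4, 18, true), (2, 4, true), (3, 18, true), (2, 18, true), (6, 16, true), (5, 16, true), (4, 18, true), (3, 18, true), (5, 18, true), (4, 18, true), (2, 4, true), (2, 3, true), (2, 16, true), (5, 15, true), (4, 18, true), (2, 4, true), (2, 18, true), (5, 15, true), (4, 16, true), (3, 18, true), (4, 18, true), (2, 4, true), (4, 16, true), (3, 18, true), (2, 18, true), (4, 18, true), (3, 18, true),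 (4, 3, true), (5, 15, true), (4, 16, true), (2, 4, true), (4, 16, true), (3, 18, true), (4, 18, true), (2, 4, true), (4, 2, true), (4, 11, true), (3, 18, true), (2, 18, true), (4, 18, true), (3, 18, true), (4, 3, true), (6, 1, true), (6, 8, true), (5, 17, true), (4, 19, true), (3, 20, true), (2, 20, true), (0, 5, true), (2, 18, true), (0, 4, true), (0, 18, true), (1, 3, true), (1, 15, true), (0, 4, true), (0, 15, true), (4, 7, true), (3, 16, true), (2, 16, true), (0, 4, true), (2, 16, true), (1, 18, true), (2, 18, true), (0, 4, true), (2, 15, true), (1, 18, true), (0, 18, true), (2, 18, true), (1, 18, true), (4, 2, true), (5, 6, true), (4, 14, true), (3, 19, true), (2, 19, true), (1, 20, true), (0, 20, true), (5, 12, true), (4, 18, true), (3, 18, true), (1, 4, true), (2, 18, true), (1, 18, true), (4, 11, true), (3, 18, true), (2, 18, true), (4, 18, true), (3, 18, true), (1, 4, true), (1, 3, true), (6, 6, true), (5, 10, true), (4, 11, true), (3, 13, true), (2, 16, true), (1, 18, true), (2, 18, true), (5, 16, true), (4, 18, true), (3, 18, true), (1, 4, true), (2, 18, true), (1, 18,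 true), (2, 3, true), (2, 15, true), (1, 4, true), (2, 13, true), (1, 16, true), (4, 16, true), (3, 18, true), (1, 4, true), (1, 18, true), (4, 15, true), (3, 18, true), (2, 18, true), (4, 18, true), (3, 18, true), (1, 4, true), (4, 12, true), (3, 16, true), (2, 18, true), (1, 18, true), (3, 18, true), (2, 18, true), (3, 3, true), (3, 16, true), (1, 4, true), (4, 12, true), (3, 16, true), (2, 18, true), (3, 18, true), (1, 4, true), (3, 16, true), (2, 18, true), (1, 18, true), (3, 18, true), (2, 18, true), (3, 3, true), (4, 11, true), (3, 16, true), (1, 4, true), (3, 16, true), (2, 18, true), (3, 18, true), (1, 4, true), (3, 15, true), (2, 18, true), (1, 18, true), (3, 18, true), (2, 18, true), (5, 15, true), (4, 18, true), (3, 18, true), (1, 4, true), (2, 18, true), (1, 18, true), (7, 11, true), (6, 13, true), (5, 16, true), (4, 16, true), (3, 18, true), (2, 18, true), (4, 18, true), (3, 18, true), (1, 4, true), (1, 3, true), (1, 16, true), (4, 15, true), (3, 18, true), (1, 4, true), (1, 18, true), (4, 16, true), (3, 16, true), (2, 18, true), (3, 18, true), (1, 4, true), (3, 16,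 true), (2, 18, true), (1, 18, true), (3, 18, true), (2, 18, true), (3, 3, true), (3, 15, true), (1, 4, true), (3, 15, true), (2, 16, true), (1, 4, true), (2, 16, true), (1, 18, true), (2, 18, true), (7, 13, true), (6, 16, true), (5, 16, true), (4, 18, true), (3, 18, true), (1, 4, true), (2, 18, true), (1, 18, true), (2, 3, true), (2, 16, true), (1, 4, true), (2, 15, true), (1, 18, true), (2, 18, true), (5, 16, true), (4, 16, true), (3, 18, true), (1, 4, true), (1, 18, true), (4, 16, true), (3, 18, true), (2, 18, true), (4, 18, true), (3, 18, true), (1, 4, true), (1, 3, true), (1, 15, true), (4, 15, true), (3, 16, true), (1, 4, true), (3, 16, true), (2, 18, true), (3, 18, true), (1, 4, true), (5, 12, true), (4, 16, true), (3, 16, true), (2, 18, true), (1, 18, true), (3, 18, true), (2, 18, true), (3, 3, true), (3, 16, true), (1, 4, true), (3, 15, true), (2, 18, true), (3, 18, true), (1, 4, true), (3, 16, true), (2, 16, true), (1, 18, true), (2, 18, true), (5, 16, true), (4, 18, true), (3, 18, true), (1, 4, true), (2, 18, true), (1, 18, true), (2, 3, true), (2, 15, true), (1, 4, true),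 (3, 12, true), (2, 16, true), (1, 16, true), (4, 16, true), (3, 18, true), (1, 4, true), (1, 18, true), (4, 15, true), (3, 18, true), (2, 18, true), (4, 18, true), (3, 18, true), (1, 4, true), (4, 16, true), (3, 16, true), (2, 18, true), (1, 18, true), (3, 18, true), (2, 18, true), (3, 3, true), (3, 16, true), (1, 4, true), (3, 15, true), (2, 18, true), (3, 18, true), (1, 4, true), (4, 11, true), (3, 16, true), (2, 16, true), (1, 18, true), (2, 18, true), (5, 16, true), (4, 18, true), (3, 18, true), (1, 4, true), (2, 18, true), (1, 18, true), (2, 3, true), (2, 15, true), (1, 4, true), (2, 16, true), (1, 16, true), (4, 16, true), (3, 18, true), (1, 4, true), (1, 18, true), (4, 15, true), (3, 18, true), (2, 18, true), (4, 18, true), (3, 18, true), (1, 4, true), (4, 15, true), (3, 16, true), (2, 18, true), (1, 18, true), (3, 18, true), (2, 18, true), (3, 3, true), (3, 16, true), (1, 4, true), (4, 15, true), (3, 16, true), (2, 18, true), (3, 18, true), (1, 4, true), (3, 16, true), (2, 18, true), (1, 18, true), (3, 18, true), (2, 18, true), (3, 3, true), (3, 2, true), (3, 1, true),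 (4, 8, true), (3, 14, true), (2, 20, true), (1, 20, true), (4, 12, true), (2, 4, true), (3, 12, true), (2, 4, true), (2, 11, true), (8, 7, true), (7, 13, true), (6, 16, true), (5, 18, true), (4, 18, true), (2, 4, true), (3, 18, true), (2, 18, true), (3, 3, true), (3, 16, true), (2, 4, true), (3, 15, true), (2, 18, true), (3, 18, true), (6, 11, true), (5, 16, true), (4, 18, true), (2, 4, true), (2, 18, true), (5, 16, true), (4, 18, true), (3, 18, true), (5, 18, true), (4, 18, true), (2, 4, true), (2, 3, true), (2, 15, true), (4, 15, true), (2, 4, true), (7, 6, true), (6, 14, true), (5, 14, true), (4, 17, true), (3, 17, true), (2, 20, true), (0, 5, true), (0, 4, true), (2, 16, true), (1, 18, true), (0, 18, true), (2, 18, true), (1, 18, true), (2, 3, true), (2, 16, true), (0, 4, true), (2, 15, true), (1, 18, true), (2, 18, true), (0, 4, true), (1, 15, true), (0, 18, true), (1, 18, true), (6, 12, true), (5, 13, true), (4, 16, true), (3, 16, true), (2, 18, true), (0, 4, true), (0, 18, true), (3, 16, true), (2, 18, true), (1, 18, true), (3, 18, true), (2, 18, true), (0, 4, true), (0,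 3, true), (0, 15, true), (3, 16, true), (2, 16, true), (0, 4, true), (2, 16, true), (1, 18, true), (2, 18, true), (0, 4, true), (2, 15, true), (1, 18, true), (0, 18, true), (2, 18, true), (1, 18, true), (5, 15, true), (4, 16, true), (3, 18, true), (2, 18, true), (0, 4, true), (1, 18, true), (0, 18, true), (1, 3, true), (1, 16, true), (0, 4, true), (3, 13, true), (2, 16, true), (1, 16, true), (0, 18, true), (1, 18, true), (4, 16, true), (3, 18, true), (2, 18, true), (0, 4, true), (1, 18, true), (0, 18, true), (1, 3, true), (1, 15, true), (0, 4, true), (1, 16, true), (0, 16, true), (3, 16, true), (2, 18, true), (0, 4, true), (0, 18, true), (3, 15, true), (2, 18, true), (1, 18, true), (3, 18, true), (2, 18, true), (0, 4, true), (3, 15, true), (2, 16, true), (1, 18, true), (0, 18, true), (2, 18, true), (1, 18, true), (2, 3, true), (2, 16, true), (0, 4, true), (5, 11, true), (4, 13, true), (3, 16, true), (2, 16, true), (1, 18, true), (2, 18, true), (0, 4, true), (2, 16, true), (1, 18, true), (0, 18, true), (2, 18, true), (1, 18, true), (2, 3, true), (2, 15, true), (0, 4, true), (2,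 16, true), (1, 16, true), (0, 4, true), (1, 16, true), (0, 18, true), (1, 18, true), (4, 15, true), (3, 18, true), (2, 18, true), (0, 4, true), (1, 18, true), (0, 18, true), (4, 15, true), (3, 16, true), (2, 18, true), (1, 18, true), (3, 18, true), (2, 18, true), (0, 4, true), (0, 3, true), (0, 16, true), (5, 13, true), (4, 16, true), (3, 16, true), (2, 18, true), (0, 4, true), (0, 18, true), (3, 16, true), (2, 18, true), (1, 18, true), (3, 18, true), (2, 18, true), (0, 4, true), (0, 3, true), (0, 15, true), (3, 16, true), (2, 16, true), (0, 4, true), (2, 16, true), (1, 18, true), (2, 18, true), (0, 4, true), (2, 15, true), (1, 18, true), (0, 18, true), (2, 18, true), (1, 18, true), (5, 15, true), (4, 16, true), (3, 18, true), (2, 18, true), (0, 4, true), (1, 18, true), (0, 18, true), (1, 3, true), (1, 16, true), (0, 4, true), (3, 12, true), (2, 16, true), (1, 16, true), (0, 18, true), (1, 18, true), (4, 16, true), (3, 18, true), (2, 18, true), (0, 4, true), (1, 18, true), (0, 18, true), (1, 3, true), (1, 15, true), (0, 4, true), (1, 16, true), (0, 16, true), (3, 16, true), (2,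 18, true), (0, 4, true), (0, 18, true), (3, 15, true), (2, 18, true), (1, 18, true), (3, 18, true), (2, 18, true), (0, 4, true), (4, 12, true), (3, 16, true), (2, 16, true), (1, 18, true), (0, 18, true), (2, 18, true), (1, 18, true), (2, 3, true), (2, 16, true), (0, 4, true), (2, 15, true), (1, 18, true), (2, 18, true), (0, 4, true), (2, 16, true), (1, 16, true), (0, 18, true), (1, 18, true), (4, 16, true), (3, 18, true), (2, 18, true), (0, 4, true), (1, 18, true), (0, 18, true), (1, 3, true), (1, 15, true), (0, 4, true), (2, 11, true), (1, 16, true), (0, 16, true), (3, 16, true), (2, 18, true), (0, 4, true), (0, 18, true), (3, 15, true), (2, 18, true), (1, 18, true), (3, 18, true), (2, 18, true), (0, 4, true), (3, 16, true), (2, 16, true), (1, 18, true), (0, 18, true), (2, 18, true), (1, 18, true), (2, 3, true), (2, 16, true), (0, 4, true), (2, 15, true), (1, 18, true), (2, 18, true), (0, 4, true), (2, 15, true), (1, 16, true), (0, 18, true), (1, 18, true), (4, 16, true), (3, 18, true), (2, 18, true), (0, 4, true), (1, 18, true), (0, 18, true), (1, 3, true), (2, 15, true), (1,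 16, true), (0, 4, true), (1, 16, true), (0, 18, true), (1, 18, true), (4, 2, true), (4, 1, true), (4, 0, true), (3, 18, true), (2, 18, true), (0, 4, true), (0, 3, true)], [(3, 12, true), (2, 13, true), (1, 16, true), (0, 18, true), (1, 18, true), (4, 16, true), (3, 18, true), (2, 18, true), (0, 4, true), (1, 18, true), (0, 18, true), (1, 3, true), (1, 15, true), (0, 4, true), (1, 13, true), (0, 16, true), (3, 16, true), (2, 18, true), (0, 4, true), (0, 18, true), (3, 15, true), (2, 18, true), (1, 18, true), (3, 18, true), (2, 18, true), (0, 4, true), (4, 11, true), (3, 13, true), (2, 16, true), (1, 18, true), (0, 18, true), (2, 18, true), (1, 18, true), (2, 3, true), (2, 16, true), (0, 4, true), (2, 15, true), (1, 18, true), (2, 18, true), (0, 4, true), (2, 13, true), (1, 16, true), (0, 18, true), (1, 18, true), (4, 16, true), (3, 18, true), (2, 18, true), (0, 4, true), (1, 18, true), (0, 18, true), (1, 3, true), (1, 15, true), (0, 4, true), (1, 12, true), (0, 16, true), (3, 16, true), (2, 18, true), (0, 4, true), (0, 18, true), (4, 12, true), (3, 16, true), (2, 18, true), (1,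 18, true), (3, 18, true), (2, 18, true), (0, 4, true), (0, 3, true), (0, 16, true), (4, 11, true), (3, 16, true), (2, 18, true), (0, 4, true), (0, 18, true), (3, 16, true), (2, 18, true), (1, 18, true), (3, 18, true), (2, 18, true), (0, 4, true), (0, 3, true), (0, 15, true), (2, 15, true), (0, 4, true), (3, 1, true), (3, 12, true), (2, 16, true), (1, 16, true), (0, 4, true), (1, 16, true), (0, 18, true), (1, 18, true), (4, 15, true), (3, 18, true), (2, 18, true), (0, 4, true), (1, 18, true), (0, 18, true), (4, 16, true), (3, 16, true), (2, 18, true), (1, 18, true), (3, 18, true), (2, 18, true), (0, 4, true), (0, 3, true), (0, 16, true), (3, 15, true), (2, 18, true), (0, 4, true), (0, 18, true), (4, 11, true), (3, 16, true), (2, 16, true), (1, 18, true), (2, 18, true), (0, 4, true), (2, 16, true), (1, 18, true), (0, 18, true), (2, 18, true), (1, 18, true), (2, 3, true), (2, 15, true), (0, 4, true), (2, 16, true), (1, 16, true), (0, 4, true), (1, 16, true), (0, 18, true), (1, 18, true), (4, 15, true), (3, 18, true), (2, 18, true), (0, 4, true), (1, 18, true), (0, 18, true), (4, 15,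 true), (3, 16, true), (2, 18, true), (1, 18, true), (3, 18, true), (2, 18, true), (0, 4, true), (0, 3, true), (0, 16, true), (4, 15, true), (3, 16, true), (2, 18, true), (0, 4, true), (0, 18, true), (3, 16, true), (2, 18, true), (1, 18, true), (3, 18, true), (2, 18, true), (0, 4, true), (0, 3, true), (0, 2, true), (0, 1, true)]),
    ([1, 1, 1], [], [(6, 14, true), (5, 17, true), (4, 17, true), (3, 20, true), (2, 20, true), (0, 5, true), (0, 4, true), (3, 16, true), (2, 18, true), (1, 18, true), (3, 18, true), (2, 18, true), (0, 4, true), (0, 3, true), (0, 16, true), (3, 15, true), (2, 18, true), (0, 4, true), (0, 18, true), (2, 15, true), (1, 18, true), (2, 18, true), (0, 4, true), (3, 14, true), (2, 17, true), (1, 17, true), (0, 19, true), (1, 18, true), (2, 18, true), (3, 3, true), (3, 16, true), (1, 4, true), (3, 16, true), (2, 18, true), (3, 18, true), (1, 4, true), (3, 15, true), (2, 18, true), (1, 18, true), (3, 18, true), (2, 18, true), (5, 15, true), (4, 18, true), (3, 18, true), (1, 4, true), (2, 18, true), (1, 18, true), (6, 13, true), (5, 16, true), (4, 16, true), (3,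 18, true), (2, 18, true), (4, 18, true), (3, 18, true), (1, 4, true), (1, 3, true), (1, 16, true), (4, 15, true), (3, 18, true), (1, 4, true), (1, 18, true), (4, 16, true), (3, 16, true), (2, 18, true), (3, 18, true), (1, 4, true), (3, 16, true), (2, 18, true), (1, 18, true), (3, 18, true), (2, 18, true), (3, 3, true), (3, 15, true), (1, 4, true), (3, 15, true), (2, 16, true), (1, 4, true), (2, 16, true), (1, 18, true), (2, 18, true), (7, 13, true), (6, 16, true), (5, 16, true), (4, 18, true), (3, 18, true), (1, 4, true), (2, 18, true), (1, 18, true), (2, 3, true), (2, 16, true), (1, 4, true), (2, 15, true), (1, 18, true), (2, 18, true), (5, 16, true), (4, 16, true), (3, 18, true), (1, 4, true), (1, 18, true), (4, 16, true), (3, 18, true), (2, 18, true), (4, 18, true), (3, 18, true), (1, 4, true), (1, 3, true), (1, 15, true), (4, 15, true), (3, 16, true), (1, 4, true), (3, 16, true), (2, 18, true), (3, 18, true), (1, 4, true), (5, 11, true), (4, 16, true), (3, 16, true), (2, 18, true), (1, 18, true), (3, 18, true), (2, 18, true), (3, 3, true), (3, 16, true), (1, 4, true), (3, 15,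 true), (2, 18, true), (3, 18, true), (1, 4, true), (3, 16, true), (2, 16, true), (1, 18, true), (2, 18, true), (5, 16, true), (4, 18, true), (3, 18, true), (1, 4, true), (2, 18, true), (1, 18, true), (2, 3, true), (2, 15, true), (1, 4, true), (2, 15, true), (1, 16, true), (4, 16, true), (3, 18, true), (1, 4, true), (1, 18, true), (5, 15, true), (4, 16, true), (3, 18, true), (2, 18, true), (4, 18, true), (3, 18, true), (1, 4, true), (1, 3, true), (1, 16, true), (4, 2, true), (4, 11, true), (3, 18, true), (1, 4, true), (1, 18, true), (2, 3, true), (4, 14, true), (3, 14, true), (2, 17, true), (1, 20, true), (2, 4, true), (6, 14, true), (5, 14, true), (4, 17, true), (3, 19, true), (2, 19, true), (0, 5, true), (1, 18, true), (0, 18, true), (2, 18, true), (1, 18, true), (2, 3, true), (5, 13, true), (4, 13, true), (3, 16, true), (2, 18, true), (0, 4, true), (0, 18, true), (3, 16, true), (2, 18, true), (1, 18, true), (3, 18, true), (2, 18, true), (0, 4, true), (0, 3, true), (0, 15, true), (3, 13, true), (2, 16, true), (0, 4, true), (2, 16, true), (1, 18, true), (2, 18, true), (0, 4, true),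 (2, 15, true), (1, 18, true), (0, 18, true), (2, 18, true), (1, 18, true), (5, 12, true), (4, 16, true), (3, 18, true), (2, 18, true), (0, 4, true), (1, 18, true), (0, 18, true), (1, 3, true), (1, 16, true), (0, 4, true), (3, 13, true), (2, 13, true), (1, 16, true), (0, 18, true), (1, 18, true), (4, 16, true), (3, 18, true), (2, 18, true), (0, 4, true), (1, 18, true), (0, 18, true), (1, 3, true), (1, 15, true), (0, 4, true), (1, 13, true), (0, 16, true), (3, 16, true), (2, 18, true), (0, 4, true), (0, 18, true), (3, 15, true), (2, 18, true), (1, 18, true), (3, 18, true), (2, 18, true), (0, 4, true), (3, 12, true), (2, 16, true), (1, 18, true), (0, 18, true), (2, 18, true), (1, 18, true), (2, 3, true), (2, 16, true), (0, 4, true), (4, 11, true), (3, 13, true), (2, 16, true), (1, 18, true), (2, 18, true), (0, 4, true), (2, 16, true), (1, 18, true), (0, 18, true), (2, 18, true), (1, 18, true), (2, 3, true), (2, 15, true), (0, 4, true), (2, 13, true), (1, 16, true), (0, 4, true), (1, 16, true), (0, 18, true), (1, 18, true), (4, 15, true), (3, 18, true), (2, 18, true), (0, 4, true),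 (1, 18, true), (0, 18, true), (4, 12, true), (3, 16, true), (2, 18, true), (1, 18, true), (3, 18, true), (2, 18, true), (0, 4, true), (0, 3, true), (0, 16, true), (4, 12, true), (3, 16, true), (2, 18, true), (0, 4, true), (0, 18, true), (3, 16, true), (2, 18, true), (1, 18, true), (3, 18, true), (2, 18, true), (0, 4, true), (0, 3, true), (1, 11, true), (0, 16, true), (3, 16, true), (2, 18, true), (0, 4, true), (0, 18, true), (3, 15, true), (2, 18, true), (1, 18, true), (3, 18, true), (2, 18, true), (0, 4, true), (2, 15, true), (1, 18, true), (0, 18, true), (2, 18, true), (1, 18, true), (7, 11, true), (6, 13, true), (5, 16, true), (4, 16, true), (3, 18, true), (2, 18, true), (0, 4, true), (1, 18, true), (0, 18, true), (1, 3, true), (1, 16, true), (0, 4, true), (1, 15, true), (0, 18, true), (1, 18, true), (4, 16, true), (3, 16, true), (2, 18, true), (0, 4, true), (0, 18, true), (3, 16, true), (2, 18, true), (1, 18, true), (3, 18, true), (2, 18, true), (0, 4, true), (0, 3, true), (0, 15, true), (3, 15, true), (2, 16, true), (0, 4, true), (2, 16, true), (1, 18, true), (2, 18, true),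 (0, 4, true), (4, 13, true), (3, 16, true), (2, 16, true), (1, 18, true), (0, 18, true), (2, 18, true), (1, 18, true), (2, 3, true), (2, 16, true), (0, 4, true), (2, 15, true), (1, 18, true), (2, 18, true), (0, 4, true), (2, 16, true), (1, 16, true), (0, 18, true), (1, 18, true), (4, 16, true), (3, 18, true), (2, 18, true), (0, 4, true), (1, 18, true), (0, 18, true), (1, 3, true), (1, 15, true), (0, 4, true), (1, 15, true), (0, 16, true), (3, 16, true), (2, 18, true), (0, 4, true), (0, 18, true), (5, 12, true), (4, 16, true), (3, 16, true), (2, 18, true), (1, 18, true), (3, 18, true), (2, 18, true), (0, 4, true), (0, 3, true), (0, 16, true), (3, 15, true), (2, 18, true), (0, 4, true), (0, 18, true), (3, 16, true), (2, 16, true), (1, 18, true), (2, 18, true), (0, 4, true), (2, 16, true), (1, 18, true), (0, 18, true), (2, 18, true), (1, 18, true), (2, 3, true), (2, 15, true), (0, 4, true), (3, 12, true), (2, 16, true), (1, 16, true), (0, 4, true), (1, 16, true), (0, 18, true), (1, 18, true), (4, 15, true), (3, 18, true), (2, 18, true), (0, 4, true), (1, 18, true), (0, 18, true),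 (4, 16, true), (3, 16, true), (2, 18, true), (1, 18, true), (3, 18, true), (2, 18, true), (0, 4, true), (0, 3, true), (0, 16, true), (3, 15, true), (2, 18, true), (0, 4, true), (0, 18, true), (4, 11, true), (3, 16, true), (2, 16, true), (1, 18, true), (2, 18, true), (0, 4, true), (2, 16, true), (1, 18, true), (0, 18, true), (2, 18, true), (1, 18, true), (2, 3, true), (2, 15, true), (0, 4, true), (2, 16, true), (1, 16, true), (0, 4, true), (1, 16, true), (0, 18, true), (1, 18, true), (4, 15, true), (3, 18, true), (2, 18, true), (0, 4, true), (1, 18, true), (0, 18, true), (4, 15, true), (3, 16, true), (2, 18, true), (1, 18, true), (3, 18, true), (2, 18, true), (0, 4, true), (0, 3, true), (0, 16, true), (4, 15, true), (3, 16, true), (2, 18, true), (0, 4, true), (0, 18, true), (3, 16, true), (2, 18, true), (1, 18, true), (3, 18, true), (2, 18, true), (0, 4, true), (0, 3, true), (0, 2, true), (0, 1, true)], [(3, 14, true), (2, 17, true), (1, 19, true), (2, 18, true), (3, 18, true), (4, 3, true), (5, 12, true), (4, 16, true), (2, 4, true), (4, 16, true), (3, 18, true), (4, 18, true),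 (2, 4, true), (5, 11, true), (4, 16, true), (3, 18, true), (2, 18, true), (4, 18, true), (3, 18, true), (4, 3, true), (4, 16, true), (2, 4, true), (4, 15, true), (3, 18, true), (4, 18, true), (2, 4, true), (3, 15, true), (2, 18, true), (3, 18, true), (8, 14, true), (7, 14, true), (6, 17, true), (5, 17, true), (4, 19, true), (3, 20, true), (2, 20, true), (0, 5, true), (2, 18, true), (0, 4, true), (0, 18, true), (1, 3, true), (1, 16, true), (0, 4, true), (1, 16, true), (0, 18, true), (1, 18, true), (4, 15, true), (3, 18, true), (2, 18, true), (0, 4, true), (1, 18, true), (0, 18, true), (3, 15, true), (2, 18, true), (1, 18, true), (3, 18, true), (2, 18, true), (0, 4, true), (5, 12, true), (4, 13, true), (3, 16, true), (2, 16, true), (1, 18, true), (0, 18, true), (2, 18, true), (1, 18, true), (2, 3, true), (2, 16, true), (0, 4, true), (2, 15, true), (1, 18, true), (2, 18, true), (0, 4, true), (2, 16, true), (1, 16, true), (0, 18, true), (1, 18, true), (4, 16, true), (3, 18, true), (2, 18, true), (0, 4, true), (1, 18, true), (0, 18, true), (1, 3, true), (1, 15, true), (0, 4, true),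 (1, 15, true), (0, 16, true), (3, 16, true), (2, 18, true), (0, 4, true), (0, 18, true), (5, 13, true), (4, 16, true), (3, 16, true), (2, 18, true), (1, 18, true), (3, 18, true), (2, 18, true), (0, 4, true), (0, 3, true), (0, 16, true), (3, 15, true), (2, 18, true), (0, 4, true), (0, 18, true), (3, 16, true), (2, 16, true), (1, 18, true), (2, 18, true), (0, 4, true), (2, 16, true), (1, 18, true), (0, 18, true), (2, 18, true), (1, 18, true), (2, 3, true), (2, 15, true), (0, 4, true), (2, 15, true), (1, 16, true), (0, 4, true), (1, 16, true), (0, 18, true), (1, 18, true), (7, 11, true), (6, 13, true), (5, 16, true), (4, 16, true), (3, 18, true), (2, 18, true), (0, 4, true), (1, 18, true), (0, 18, true), (1, 3, true), (1, 16, true), (0, 4, true), (1, 15, true), (0, 18, true), (1, 18, true), (4, 16, true), (3, 16, true), (2, 18, true), (0, 4, true), (0, 18, true), (3, 16, true), (2, 18, true), (1, 18, true), (3, 18, true), (2, 18, true), (0, 4, true), (0, 3, true), (0, 15, true), (3, 15, true), (2, 16, true), (0, 4, true), (2, 16, true), (1, 18, true), (2, 18, true), (0, 4, true),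 (4, 13, true), (3, 16, true), (2, 16, true), (1, 18, true), (0, 18, true), (2, 18, true), (1, 18, true), (2, 3, true), (2, 16, true), (0, 4, true), (2, 15, true), (1, 18, true), (2, 18, true), (0, 4, true), (2, 16, true), (1, 16, true), (0, 18, true), (1, 18, true), (4, 16, true), (3, 18, true), (2, 18, true), (0, 4, true), (1, 18, true), (0, 18, true), (1, 3, true), (1, 15, true), (0, 4, true), (1, 15, true), (0, 16, true), (3, 16, true), (2, 18, true), (0, 4, true), (0, 18, true), (5, 12, true), (4, 16, true), (3, 16, true), (2, 18, true), (1, 18, true), (3, 18, true), (2, 18, true), (0, 4, true), (0, 3, true), (0, 16, true), (3, 15, true), (2, 18, true), (0, 4, true), (0, 18, true), (3, 16, true), (2, 16, true), (1, 18, true), (2, 18, true), (0, 4, true), (2, 16, true), (1, 18, true), (0, 18, true), (2, 18, true), (1, 18, true), (2, 3, true), (2, 15, true), (0, 4, true), (3, 12, true), (2, 16, true), (1, 16, true), (0, 4, true), (1, 16, true), (0, 18, true), (1, 18, true), (4, 15, true), (3, 18, true), (2, 18, true), (0, 4, true), (1, 18, true), (0, 18, true), (4, 16, true),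 (3, 16, true), (2, 18, true), (1, 18, true), (3, 18, true), (2, 18, true), (0, 4, true), (0, 3, true), (0, 16, true), (3, 15, true), (2, 18, true), (0, 4, true), (0, 18, true), (4, 11, true), (3, 16, true), (2, 16, true), (1, 18, true), (2, 18, true), (0, 4, true), (2, 16, true), (1, 18, true), (0, 18, true), (2, 18, true), (1, 18, true), (2, 3, true), (2, 15, true), (0, 4, true), (2, 16, true), (1, 16, true), (0, 4, true), (1, 16, true), (0, 18, true), (1, 18, true), (4, 15, true), (3, 18, true), (2, 18, true), (0, 4, true), (1, 18, true), (0, 18, true), (4, 15, true), (3, 16, true), (2, 18, true), (1, 18, true), (3, 18, true), (2, 18, true), (0, 4, true), (0, 3, true), (0, 16, true), (4, 15, true), (3, 16, true), (2, 18, true), (0, 4, true), (0, 18, true), (3, 16, true), (2, 18, true), (1, 18, true), (3, 18, true), (2, 18, true), (0, 4, true), (0, 3, true), (0, 2, true), (0, 1, true)]),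
    ([0, 1], [1, 0], [(5, 10, true), (4, 11, true), (3, 13, true), (2, 18, true), (1, 18, true), (3, 18, true), (2, 18, true), (3, 3, true), (3, 13, true), (1, 4, true), (3, 12, true), (2, 18, true), (3, 18, true), (1, 4, true), (2, 12, true), (1, 18, true), (2, 18, true), (4, 11, true), (3, 18, true), (1, 4, true), (1, 18, true), (2, 3, true), (4, 11, true), (3, 13, true), (2, 16, true), (1, 4, true), (2, 16, true), (1, 18, true), (2, 18, true), (5, 15, true), (4, 18, true), (3, 18, true), (1, 4, true), (2, 18, true), (1, 18, true), (5, 13, true), (4, 16, true), (3, 18, true), (2, 18, true), (4, 18, true), (3, 18, true), (1, 4, true), (1, 3, true), (1, 16, true), (4, 15, true), (3, 18, true), (1, 4, true), (1, 18, true), (4, 12, true), (3, 16, true), (2, 18, true), (3, 18, true), (1, 4, true), (3, 16, true), (2, 18, true), (1, 18, true), (3, 18, true), (2, 18, true), (3, 3, true), (4, 12, true), (3, 16, true), (1, 4, true), (3, 16, true), (2, 18, true), (3, 18, true), (1, 4, true), (4, 11, true), (3, 16, true), (2, 18, true), (1, 18, true), (3, 18, true), (2, 18, true), (3, 3,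 true), (3, 16, true), (1, 4, true), (3, 15, true), (2, 18, true), (3, 18, true), (1, 4, true), (2, 15, true), (1, 18, true), (2, 18, true), (6, 1, true), (7, 10, true), (6, 11, true), (5, 16, true), (4, 16, true), (3, 18, true), (1, 4, true), (1, 18, true), (4, 16, true), (3, 18, true), (2, 18, true), (4, 18, true), (3, 18, true), (1, 4, true), (1, 3, true), (1, 15, true), (4, 16, true), (3, 16, true), (1, 4, true), (3, 16, true), (2, 18, true), (3, 18, true), (1, 4, true), (3, 15, true), (2, 18, true), (1, 18, true), (3, 18, true), (2, 18, true), (6, 15, true), (5, 16, true), (4, 18, true), (3, 18, true), (1, 4, true), (2, 18, true), (1, 18, true), (2, 3, true), (2, 16, true), (1, 4, true), (3, 15, true), (2, 16, true), (1, 18, true), (2, 18, true), (5, 16, true), (4, 18, true), (3, 18, true), (1, 4, true), (2, 18, true), (1, 18, true), (2, 3, true), (2, 2, true), (2, 11, true), (1, 4, true), (4, 1, true), (4, 9, true), (3, 17, true), (2, 19, true), (1, 19, true), (3, 18, true), (2, 18, true), (4, 18, true), (3, 18, true), (4, 3, true), (5, 17, true), (4, 19, true), (3, 20, true),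 (2, 20, true), (0, 5, true), (2, 18, true), (0, 4, true), (0, 18, true), (1, 3, true), (1, 16, true), (0, 4, true), (1, 15, true), (0, 18, true), (1, 18, true), (3, 15, true), (2, 18, true), (0, 4, true), (0, 18, true), (2, 2, true), (2, 9, true), (1, 19, true), (0, 20, true), (2, 19, true), (1, 20, true), (3, 18, true), (4, 3, true), (6, 7, true), (5, 16, true), (4, 16, true), (2, 4, true), (4, 16, true), (3, 18, true), (4, 18, true), (2, 4, true), (4, 15, true), (3, 18, true), (2, 18, true), (4, 18, true), (3, 18, true), (6, 2, true), (7, 7, true), (6, 13, true), (5, 18, true), (4, 18, true), (2, 4, true), (3, 18, true), (2, 18, true), (3, 3, true), (3, 11, true), (2, 4, true), (7, 6, true), (6, 14, true), (5, 14, true), (4, 17, true), (3, 19, true), (2, 19, true), (0, 5, true), (1, 18, true), (0, 18, true), (2, 18, true), (1, 18, true), (2, 3, true), (5, 12, true), (4, 13, true), (3, 16, true), (2, 18, true), (0, 4, true), (0, 18, true), (3, 16, true), (2, 18, true), (1, 18, true), (3, 18, true), (2, 18, true), (0, 4, true), (0, 3, true), (0, 15, true), (3, 13, true), (2, 16,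 true), (0, 4, true), (2, 16, true), (1, 18, true), (2, 18, true), (0, 4, true), (2, 15, true), (1, 18, true), (0, 18, true), (2, 18, true), (1, 18, true), (6, 11, true), (5, 13, true), (4, 16, true), (3, 18, true), (2, 18, true), (0, 4, true), (1, 18, true), (0, 18, true), (1, 3, true), (1, 16, true), (0, 4, true), (1, 15, true), (0, 18, true), (1, 18, true), (4, 13, true), (3, 16, true), (2, 18, true), (0, 4, true), (0, 18, true), (3, 16, true), (2, 18, true), (1, 18, true), (3, 18, true), (2, 18, true), (0, 4, true), (0, 3, true), (0, 15, true), (3, 12, true), (2, 16, true), (0, 4, true), (2, 16, true), (1, 18, true), (2, 18, true), (0, 4, true), (3, 12, true), (2, 16, true), (1, 18, true), (0, 18, true), (2, 18, true), (1, 18, true), (2, 3, true), (2, 16, true), (0, 4, true), (3, 11, true), (2, 16, true), (1, 18, true), (2, 18, true), (0, 4, true), (2, 16, true), (1, 18, true), (0, 18, true), (2, 18, true), (1, 18, true), (2, 3, true), (2, 15, true), (0, 4, true), (1, 15, true), (0, 4, true), (2, 1, true), (2, 1, false), (0, 4, false), (1, 15, false), (1, 3, false), (0, 18,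 false), (1, 18, false), (0, 4, false), (2, 18, false), (3, 18, false), (4, 16, false), (1, 18, false), (0, 18, false), (1, 16, false), (2, 16, false), (0, 4, false), (2, 18, false), (1, 18, false), (2, 15, false), (0, 4, false), (2, 16, false), (2, 3, false), (1, 18, false), (2, 18, false), (0, 18, false), (1, 18, false), (2, 16, false), (3, 16, false), (4, 12, false), (0, 4, false), (2, 18, false), (3, 18, false), (1, 18, false), (2, 18, false), (3, 15, false), (0, 18, false), (0, 4, false), (2, 18, false), (3, 16, false), (0, 16, false), (1, 16, false), (0, 4, false), (1, 15, false), (1, 3, false), (0, 18, false), (1, 18, false), (0, 4, false), (2, 18, false), (3, 18, false), (4, 16, false), (1, 18, false), (0, 18, false), (1, 16, false), (2, 16, false), (3, 12, false), (0, 4, false), (2, 18, false), (1, 18, false), (2, 15, false), (0, 18, false), (0, 4, false), (2, 18, false), (3, 15, false), (0, 16, false), (0, 3, false), (0, 4, false), (2, 18, false), (3, 18, false), (1, 18, false), (2, 18, false), (3, 16, false), (0, 4, false), (0, 5, false), (2, 20, false), (3, 20, false),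 (4, 17, false), (5, 17, false), (6, 14, false)], [(3, 14, true), (2, 14, true), (1, 17, true), (0, 19, true), (1, 18, true), (2, 18, true), (3, 3, true), (5, 12, true), (4, 13, true), (3, 16, true), (1, 4, true), (3, 16, true), (2, 18, true), (3, 18, true), (1, 4, true), (3, 15, true), (2, 18, true), (1, 18, true), (3, 18, true), (2, 18, true), (6, 13, true), (5, 16, true), (4, 18, true), (3, 18, true), (1, 4, true), (2, 18, true), (1, 18, true), (2, 3, true), (2, 16, true), (1, 4, true), (2, 15, true), (1, 18, true), (2, 18, true), (6, 11, true), (5, 13, true), (4, 16, true), (3, 18, true), (1, 4, true), (1, 18, true), (4, 16, true), (3, 18, true), (2, 18, true), (4, 18, true), (3, 18, true), (1, 4, true), (1, 3, true), (1, 15, true), (4, 13, true), (3, 16, true), (1, 4, true), (3, 16, true), (2, 18, true), (3, 18, true), (1, 4, true), (3, 15, true), (2, 18, true), (1, 18, true), (3, 18, true), (2, 18, true), (6, 12, true), (5, 16, true), (4, 18, true), (3, 18, true), (1, 4, true), (2, 18, true), (1, 18, true), (2, 3, true), (2, 16, true), (1, 4, true), (3, 12, true), (2, 16,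 true), (1, 18, true), (2, 18, true), (5, 16, true), (4, 18, true), (3, 18, true), (1, 4, true), (2, 18, true), (1, 18, true), (2, 3, true), (3, 11, true), (2, 16, true), (1, 4, true), (2, 16, true), (1, 18, true), (2, 18, true), (5, 15, true), (4, 18, true), (3, 18, true), (1, 4, true), (2, 18, true), (1, 18, true), (4, 15, true), (3, 18, true), (2, 18, true), (4, 18, true), (3, 18, true), (1, 4, true), (5, 1, true), (5, 1, false), (1, 4, false), (3, 18, false), (4, 18, false), (2, 18, false), (3, 18, false), (4, 15, false), (1, 18, false), (2, 18, false), (1, 4, false), (3, 18, false), (4, 18, false), (5, 15, false), (2, 18, false), (1, 18, false), (2, 16, false), (1, 4, false), (2, 16, false), (3, 11, false), (2, 3, false), (1, 18, false), (2, 18, false), (1, 4, false), (3, 18, false), (4, 18, false), (5, 16, false), (2, 18, false), (1, 18, false), (2, 16, false), (3, 12, false)])]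

/-- The certificate. -/
def threeUFourCert : Schur.Tails.MultiCert where
  base :=
    { p := 3
      q := 9
      n := 6
      rels := [
        ([0, 0, 0], [4, 3]),
        ([1, 1, 1], []),
        ([2, 2, 2], []),
        ([3, 3, 3], []),
        ([4, 4, 4], []),
        ([5, 5, 5], []),
        ([0, 1], [5, 3, 2, 1, 0]),
        ([0, 2], [4, 2, 1, 0]),
        ([0, 3], [5, 3, 3, 2, 0]),
        ([0, 4], [5, 5, 4, 3, 3, 2, 2, 0]),
        ([0, 5], [2, 2, 1, 1, 0]),
        ([1, 2], [4, 4, 3, 3, 2, 1]),
        ([1, 3], [4, 4, 1]),
        ([1, 4], [4, 4, 3, 1]),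
        ([1, 5], [5, 1]),
        ([2, 3], [4, 4, 2]),
        ([2, 4], [4, 4, 3, 2]),
        ([2, 5], [5, 4, 4, 3, 3, 2]),
        ([3, 4], [4, 3]),
        ([3, 5], [5, 3]),
        ([4, 5], [5, 4])]
      overlaps := threeUFourOverlaps
      fus := [threeUFourFus0, threeUFourFus1]
      mu := [[1, 0, 0, 0, 0, 0, 0, 0, 0, 0, 0, 0, 0, 0, 0, 0, 0, 0, 0, 0, 0, 1, 0, 0, 0, 1], [7, 0, 0, 0, 0, 0, 4, 1, 0, 0, 0, 0, 0, 0, 0, 0, 0, 0, 0, 0, 0, 0, 0, 0, 0, 0, 7], [5, 0, 0, 0, 0, 0, 5, 6, 0, 0, 0, 0, 0, 0, 0, 0, 0, 0, 0, 0, 0, 8, 0, 0, 0, 4], [2, 0, 0, 0, 0, 0, 4, 0, 0, 0, 0, 0, 0, 0, 0, 0, 0, 0, 0, 0, 0, 3, 0, 0, 0, 3, 7], [2, 0, 0, 0, 0, 0, 5, 0, 0, 0, 0, 0, 0, 0, 0, 0, 0, 0, 0, 0, 0, 0, 0, 0, 0, 0, 2], [2, 0, 0, 0, 0, 0, 1, 3, 0, 0, 0, 0, 0, 0, 0, 0, 0, 0, 0, 0, 0, 7, 0, 0, 0, 2, 2]]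
      combos := [
        ([], 0),
        ([(0, 4), (1, 4), (2, 5), (3, 4), (4, 7), (5, 5), (7, 8), (8, 2), (9, 1), (10, 6), (12, 2), (14, 3), (16, 6), (17, 3), (18, 6), (19, 2), (20, 3)], 0),
        ([(0, 2), (1, 1), (2, 1), (3, 2), (4, 2), (5, 8), (6, 1), (7, 1), (8, 2), (9, 8), (10, 8), (12, 4), (13, 1), (14, 6), (15, 6), (16, 3), (18, 5), (19, 3)], 0),
        ([(0, 2), (1, 8), (2, 1), (3, 1), (4, 5), (5, 5), (6, 6), (7, 3), (8, 7), (9, 6), (10, 5), (12, 3), (13, 6), (14, 3), (18, 3), (19, 2)], 0),
        ([(0, 7), (1, 7), (2, 1), (3, 4), (4, 4), (6, 7), (7, 7), (8, 5), (9, 2), (10, 2), (12, 3), (13, 3), (14, 3), (15, 3), (17, 3), (18, 3), (19, 7), (20, 6)], 0),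
        ([(0, 2), (1, 8), (3, 4), (4, 4), (5, 2), (7, 4), (8, 2), (9, 5), (10, 2), (12, 8), (13, 5), (14, 6), (15, 6), (16, 3), (18, 1), (19, 4), (20, 3)], 0),
        ([], 0),
        ([], 0),
        ([(0, 7), (1, 8), (2, 8), (3, 5), (4, 8), (6, 5), (7, 8), (8, 2), (9, 1), (10, 6), (12, 3), (16, 3), (17, 8), (20, 4)], 0),
        ([(0, 8), (1, 7), (2, 6), (3, 5), (4, 3), (5, 8), (6, 7), (7, 2), (8, 2), (9, 7), (12, 3), (16, 3), (17, 4), (20, 5)], 0),
        ([(0, 4), (1, 5), (2, 5), (3, 4), (5, 2), (6, 2), (7, 7), (8, 1), (9, 2), (10, 6), (12, 8), (14, 3), (15, 3), (16, 7), (17, 2), (18, 5), (19, 7), (20, 5)], 0),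
        ([(0, 8), (1, 6), (2, 3), (3, 6), (5, 4), (6, 6), (7, 1), (8, 6), (9, 8), (10, 4), (12, 5), (13, 5), (14, 3), (15, 3), (17, 4), (18, 5), (19, 6), (20, 2)], 0),
        ([(0, 7), (1, 3), (2, 1), (3, 7), (5, 5), (6, 3), (7, 5), (8, 2), (9, 4), (10, 3), (12, 1), (13, 2), (14, 6), (15, 3), (16, 2), (17, 3), (18, 8), (19, 8), (20, 4)], 0),
        ([(0, 6), (1, 2), (3, 8), (4, 5), (5, 1), (6, 5), (7, 7), (8, 5), (9, 2), (10, 2), (12, 2), (13, 7), (14, 6), (15, 6), (16, 4), (18, 7), (19, 3), (20, 5)], 0),
        ([(0, 8), (2, 6), (4, 2), (5, 8), (6, 1), (7, 8), (8, 3), (9, 1), (10, 5), (12, 2), (16, 2), (17, 8), (20, 2)], 0),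
        ([(0, 8), (1, 6), (2, 1), (3, 4), (4, 6), (5, 1), (6, 4), (7, 2), (8, 8), (9, 7), (10, 3), (12, 1), (13, 2), (14, 6), (15, 3), (16, 2), (17, 3), (18, 8), (19, 8), (20, 4)], 0),
        ([(0, 7), (1, 4), (2, 4), (3, 7), (4, 6), (5, 1), (6, 8), (8, 5), (10, 4), (12, 5), (13, 7), (14, 6), (15, 6), (16, 7), (17, 3), (18, 7), (19, 3), (20, 8)], 0),
        ([(0, 5), (1, 8), (2, 8), (3, 5), (4, 3), (5, 2), (6, 7), (8, 1), (10, 8), (12, 1), (13, 5), (14, 3), (15, 3), (16, 5), (17, 6), (18, 5), (19, 6), (20, 7)], 0),
        ([(0, 7), (1, 1), (2, 7), (3, 6), (4, 8), (6, 3), (7, 4), (8, 7), (9, 5), (10, 6)], 0),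
        ([(0, 7), (2, 3), (5, 7), (6, 6), (7, 3), (8, 8), (9, 6), (10, 4)], 0),
        ([], 0)]
      tau := []
      tauCombo := [] }
  e := 2
  taus := [
    ([0, 0, 0, 0, 0, 0, 0, 0, 0, 0, 0, 0, 0, 0, 0, 0, 0, 0, 0, 0, 8], 3, [(0, 4), (2, 4), (3, 3), (5, 7), (6, 4), (7, 7), (8, 8), (9, 2), (10, 6), (11, 2)]),
    ([0, 0, 0, 0, 0, 0, 0, 0, 0, 0, 0, 0, 0, 0, 0, 0, 7, 1], 3, [(0, 7), (1, 7), (2, 3), (3, 6), (4, 2), (6, 5), (7, 5), (8, 3), (9, 8), (10, 3)])]
  mults := [[0, 0],[0, 6],[0, 6],[3, 3],[3, 3],[6, 0],[0, 0],[0, 0],[3, 8],[5, 5],[7, 6],[0, 7],[6, 1],[0, 8],[4, 8],[0, 8],[3, 4],[6, 0],[6, 0],[7, 0],[8, 0]]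

/-- The generators. -/
def threeUFourGens : List ℕ := [
  0x615e3b7a4b425216537149542b0e3a0c1f0a656777701d2e3f5c4321602576394e326d5a685055453e2f2327070134047b317518446c2d3315722810626b0b0209374d361a3803730f1959642a5f6f785808262230631e56057c1166797d29516a2400176e74120d4a4f4606414c691b5b3c2c20403d351c485d14475713,
  0x25555c4e360a4178544f0f5256705146207d7c3275156a30097b386f5b665f5e28644c5d3c39124a6b694423623d1b433b61737107420b2613357a162f02582d06181d273f04681e530333676d60772a01650e10225a116e6c40720549311f794d1c744745591748372b19083a2e4b140d341a762c57215029630c243e00,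
  0x1c1a3b7a62590f45792649540d103a4f16176b5c77687b42564d637519602c345d1d185a024c221f50444b270747374e320e115f364855463f724331232976703d39672f05386e7351252e64666d6f01004a402d2b281e155e612113412065526a031b0624080c307412570a533e6958096c0b14715b357c3c047d78332a,
  0x17684d4e361253583a600f521f2a51311a5e6e7b7516640b561d38723f556534283b575d6114195f740744624b1542436a246f0d2747263022777a3d2f1359704f29326945046635796c105c6b061e2d004a4c3e025a11481c2b73395450094167036d1b5b780c7c20760a18490123052c7d3740710e21460863253c332e,
  0x36d6a43772b2f192747624b652d230b460c664d491a1d4f0d6704510e264a7d5a323c28085b292c48751e6f73606b7a7b450f092115207c12414e6e3561052e31585c1178633d5344173e3b37687933101f3900145d54503422521869745636646c06300224251b55573f4c07707240711c42595f0a3a1613385e762a01,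
  0x2d60326369054922510b53416c1f7906263e303b6f554d680c6a5d1e763717707a6778431439127d6662272f36311a385c0a3525234f42505911041b070258716d2b644b3f287c753a2a0d1d46152165560313094c4e733d01407761526e5e547b334748180e00746b453c080f2c44191c2e1629345772205b5a10244a5f]

/-- The conjugating elements. -/
def threeUFourHs : List ℕ := [
  0xc1a6707215b725923420f526d0d51133f291736323d491914445d6312780b47413a2c691b25550a005a756a3b614f795434437038713010021e4e2d1156206018162f7a262765776f45584d747d350e223e06376e047b76660128314b482e735c6c3957335f405003051c3c6209642b245e686b154c1d1f2a5346084a7c,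
  0x65547b185942390b5835403f4170086b68315f6164113c7c0605044e4f3075697819102b0f56076017380e5c3248734c14095a5e432d7934265b282513012f3647530a5d23452e761255156a4b71293d6d7d3a6f727a1d661e6c6377024403244d4a37741c3346272c200d1a572a3b506e1f5121621667000c22521b3e49]

/-- The program from the generators. -/
def threeUFourSlp : List (ℕ × Bool × ℕ × ℕ) := [
  (0x7d7c7b7a797877767574737271706f6e6d6c6b6a696867666564636261605f5e5d5c5b5a595857565554535251504f4e4d4c4b4a494847464544434241403f3e3d3c3b3a393837363534333231302f2e2d2c2b2a292827262524232221201f1e1d1c1b1a191817161514131211100f0e0d0c0b0a09080706050403020100, true, 0, 0),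
  (0x5a7d3d1f704d56735d45780e6d1a1d1740667a4c2c3e77755767012e60077b394330537c5c02746b4b222129194825765e52623b1315050d5569791268711b115f6f59643f726a266e61426c4f46342b4a036509633136470637501e5b58165451004e32410a493a44280f333c2338350b2f2d2a2724201c1814100c0804, false, 1, 0),
  (0x1a7c556b43563d795a7d451f7a627578635e7308292e590f402c44704d3e6d513c075d5c672b1b0e461d471777216649254c613f7410577b270301604f160539305b530b02264b2215194804766c52683b13410d69127138115f6f205064726a6e422d18344e4a6509313606371e585400320a3a283323352f2a241c140c, false, 3, 1),
  (0x625c270e3c3d55011a7c7d6b73610f45692579141770533663290943562e7a6e373e5a672c68051f6c75387859475e4a660819021b24406d2813444d7672575107505d002b22461d1077210c49044c4f3f74347b0360165839305b236f0b264b15480a2f522d3b410d1271115f20646a42184e6531061e54323a33352a1c, false, 4, 1),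
  (0x6167281f37552744625c7c0e7919367d0366012a78435d7169170d3c3d7073155f2e1a2c294f576b040f58455338253b5e14772b0533637a317409564926406e3e6f5a42681d6c752459471c4a0c0876021b526d134d72645107501e5b00224610214e324c0a3f347b60163930230b4b482f2d411211206a186506543a35, false, 5, 1),
  (0x6762072661661f7d37283d6a692f153b72360e087451551a05532a4f2e1e272b4404385c3e357c7919236f03522439016e78435d710d32426c173c1170730a5f7a0f2c29576b145845564d255e6d77340233633109491d405446474b5a684175591c4a0c76651b0013606421505b22104e4c3f7b16300b482d122018063a, false, 6, 0),
  (0x623746736736263b61072e48054c2b011d156a771754663871520835044b1f5d7d1924287a3a3d692f5b0f726345210e5f7451551a2a0c2914534f301e27654442235c3e7c79786f031149396e314300020d326c3c706b0a18754d102c577b5856255e6d341233680960401c475a41594a761b136450224e3f160b2d2006, false, 7, 0),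
  (0x37617527621573016746044e71765d0e6b2b4843531836241a63773a191026553b2f450742062e054c5a231d32031c6a4417546638086d3e785235504b1f127d295b287a3d69740f723070215f6c5168022a0c144f1e79652d5849595c7c136f11396e3100160d573c600a254d2c7b565e3433094047414a1b64223f0b20, false, 8, 0),
  (0x760778053b73753537614627485424044f44010b1d3a280a6b533c62151871114d1067426368124e6c5d650e36232b0d1c43303d2e221a26402a77195f136d552f5c455e060f4c5a083203206a21174b6638003e52501f7b7d295b41497a69747270331b516e020c141e792d58597c6f3931165760252c563409474a643f, false, 9, 1),
  (0x5442404e4d7578777607610501300a46521c35640e6245794f1d143b733a487258183763534b6d2721247b04286544022b0b320612476b7160383c156a691a1110496739685a6c5d2236233f0d20435f3d2e51262a19137c552f5c2c5b5e0f4c08031634173366003e501f7d29417a74701b6e0c1e2d596f31572556094a, false, 10, 1),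
  (0x42762f69541c4e464d40736f4f1b7202130a0543385575371228644b182c780677216507104a61013041495251227d35110e6245791434396c1d3b2d3a483358712463536d270b7b041519442b2632003d476b603c6a5a1a564c237467680c5d363f0d205f572e5e2a507c035c5b0f081617663e1f297a706e1e59312509, false, 11, 0),
  (0x1b076c01774e2f3b42764069056237733c114625524b637c13382a541c554f365c2c4d102800336f26721a0275490a2e7d43156d615912781f4764182b0c3406216765164a7b30411451220935440e3a45795f391d2d480f5871247a2353270b0419666e320d3d6b606a5a564c74685d3f20575e50035b08173e29701e31, false, 12, 1),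
  (0x62101f6f5c2f6c641b07760146157c401d7d3b1e0254655a3c5260774e4b05044c554228383a346944370f73631a113d0a25514a3329134f50792a1c352712362c234d3f00412672597549312e09432b6d61327847180c680621675b24167b30142257170e66455f392d4858717a530b196e0d6b6a56745d205e03083e70, false, 13, 1),
  (0x152850694c6c1f2a6210076f3b515a76470a643e73774d481d02395c2f544614714b1b38522b1201097c6840650f7d45111e750034033c056a61604e2e7b1304552442193a72443729631a703d3125354a330e4f791c2753362c2374673f412659490d2043576d3278180c06215b16302217665f2d587a0b6e6b565d5e08, false, 14, 1),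
  (0x781c0f731e0a414f5c5b7a5a4265382a3c5f0204071f1103595d3a4b257c05183b750d72400e065e2d28777b1d16156a212662086356246e3e2f544535500c6b092c4e43196f614479392051553d3629001a307d4c492768373323104d132e535234223f601247706c57170b671b3231746d48464a2b6966766401711458, false, 15, 15),
  (0xa34327a53463515750d737245596f7d2c057164692e6701403b4362371c76124e5c745a503166180049410f52706c044d684b2b3a5e332a6b36283e79166d024a1a6a546038252f1e19131d2d09444c583f3d782663271f6120231b211729777b39100c7c0b24655f064748112251555b3c566e083007034f5d1442570e, false, 16, 16),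
  (0x75791e5f7c6f404e7d245c0d49194a6b385e064b64026c50662b2f00550e7a676e70357b460161650c21542747521c725d4425785b6a30594c515811227704763a10743d7371693c6d0841123e4568202d631a37626056180536281d5a571553424f4d2a1609483943143f32333b0a34312e2c2926231f1b17130f0b0703, false, 0, 0),
  (0x197b4c656e401e587579245f0625505c625d4e072700743f3864437c6f024942330e7d462b20040d454a186b6c545e481c4b0873610f667a26632f553e153067705a3531013c0c216a47520372124422785b16595111770a763a101f283d71696d412c17684d2d1a37605605361d57534f2a093914323b342e29231b130b, false, 18, 1),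
  (0x7b753a15195d655c6e4c6f34382a424877505f446376407d616c07200e1f1e7358455479700b2406251d5a62166a054e672700743f4317310c647c3202494d337a4a462b040d4b186b55115e1c59081a780f66262f3e3c301b695253350139214703721222295b3d51600a411028716d2c682d375636574f09143b2e2313, false, 19, 0),
  (0x2a790c0658653a7c7b754c155f007d6f2f675c236220460a776351195d763847101f6e706c1a4d3459423048405a505b05445504243b611e560f070e1c3917734535542c0b18251d43166a134e5e2702743f223164324971337a4a57522b0d4b6b112d0908727866263e3c1b695301210312293d6041286d6837364f142e, false, 20, 1),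
  (0x705634103a0c072a7975065c550a4c64057c144819543c2f62265865205f6b69767b6c630217155e7d716f463067785023160b4d367738603f515d4e0d61471f526e031a1d59423b405a2e5b13441c0424081e0f0e3901734535284a2c1825436a2968272d7422313249337a572b4b110972663e1b5321123d416d374f, false, 21, 1),
  (0x556c6015690c5651007079347c163c750f5007376f586e49644831103a195c437a202a63621c6106130a014c547105746714401a17412f5f3e2426655b18776b764a7b1102425e7d3646304f782e234e0b4d27383f5d0d2b471f525335031d593b5a7212442904081e0e397345282c256a682d223233574b09661b213d6d, false, 22, 1),
  (0x16633e067a566026556c7015074049793f67513d4c107b390f6f1e690c587c3b45190062484e77342e3c2b756e01500405374602611b645c324d313a781d2f4320352a6a1c7d130a4154716d744f145b1a17445f2465182c6b764a575211425e36302d0923720b27385d0d471f5303595a1229080e7328256822334b6621, false, 23, 1),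
  (0x6355761d166706797a3e0c250f123b04184915144d6b5600616e3d4e19576002262e016c202170074053353f44414751434c107b391e096a136f6973587c72455c3c62487734372b753a6550055f46271a1b643231787d2f4b5e71592a1c080a546d744f5b221711245d2c304a5242362d230b380d1f035a290e28683366, false, 24, 0),
  (0x557a5e7c63491d041676195a612302517d3b25466f4b6701394414212e59067b7940413e5c660c0f12523c1864753015454d6b56003d4f48376e4e1f576022266a536c2070074c353f737847433210111a1e091369583472680a65366277382b3a50055f270e1b1c315d2f6d712a0854745b17242c4a422d0b0d03292833, false, 25, 0),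
  (0x233e370f791d5e4e557a767c256b01196945042818216c2f7d6f3163494b613a7159165c4411225a32027251673c3b1b304673700c0339062c1e142e43384f7b40624174663512523d64753315474d57560027486e1f6008266a53426520074c3f78170b10051a09135834680a36772b505f0e1c5d6d2a545b244a2d0d29, false, 26, 1),
  (0x3e556a3823450f19793749547d5f3a1b60017c4d1e261d160c67281159425e704e323c7a402976256b366269273d68047b18216c2f310b74126f636d4b61057106025c44225a4672512e1f3b304873095603392c1443354f2d4c752b41661c5264331547572400206e5808785365073f17101a13340a77500e5d2a5b4a0d, false, 27, 0),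
  (0x5f7a12254e0f6a633e5537387c211649147b194a69115c08601e6e2345267d645342794067090554483a4f1b1d620100684d2e22762a0c5e34032859301c0b7032413c1729726b3631273d0d043b184b6c2f57746f6d61077106027775445a46511f1a0e731556392c43352d4c2b6652334724205878653f10130a505d5b, false, 28, 1),
  (0x21403454536a12285f7a5525192e08376f68635d1b233c3514692c4e0f117c514c263e671e4b0b383b1607495c4f7b56014a2729050a607d582f6e45045a0c64427579330936483a2a1d625b000d4d302276735e03591c66703241650217726b313d2410181a6c57746d6171067744461f0e1539432d2b524720783f1350, false, 29, 1),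
  (0x405f325a2168543753340f52140e51561c08254d2f706a3e055c5d4b26651229283b4f7a425055192e77756f732a7163641b233c352c103348694e2d117c1a4c7d16671e0b384a074945597b015e2757220a60586e04360c3f6b62467909393a1d5b000d30207617036d663d4102723124186c746106441f15432b477813, false, 30, 0),
  (0xe7a48192854324e405f345a25233e0f6e6437786f4b67661c2f03216870141d416553425c571a525e510c566a750876714d450b552b0512610a5d26013910293b794f2450072e772c732a13637b1b113c353033692d7c724c7d1644621e384a49596c15270022605804363f6b46093a5b0d20176d3d02311874061f4347, false, 31, 1),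
  (0x234261524132485d0e7a5f193745663469714e4356214f366e6f5828544b25496b70405c2f11105a7b3e720f670c6422087873501a061c146d3503686338051d6562535b57775e512b6a754776134d010b5527120a263909293b79021624072e2c2a20181b6c3c30332d7c4c7d441e4a59150060043f463a0d173d31741f, false, 32, 1),
  (0x420e3b38237152344161543a6e1549223966194d352932401a674311700248505d7b0c7a651f5f3745446269272b4c4e1d56214f3658185b5e6f283f4b256c6b143e5c2f105a78720f682664081273300b061c6d03637705312e754a535760516a477613011755240a2d092a7916072c201b3c337c7d1e590004460d3d74, false, 33, 0),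
  (0xc743771767a24627c757b4072685b61433e6e036d585a262744297d6c2565342322793d511618062a5e3f4e783c6f2c122f42577307497713486a5c4d0a1a4a553b501b00537010632b35016b4f696067662e3a64085f1f5d46540f3359564c5228170b4b312d47454138021e0e393632300420141c211d1915110d0905, false, 0, 1),
  (0x747c460a0c3e716176376c1d2730342c5f5b4069485d7a7973780316220f2457622a3c7555057b72680e3b432e63026e4a6d585a26290b1b70447d1c25653123775e3d5118062f3f4e5c086f123a4247670749136a4d531a0d4c3536500020102b016b4f6015665964411f2854335652174b2d45381e3932041421191109, false, 35, 0),
  (0x307570726271467d747c370a4058796c6a4a611143163d1f5f48640c3e5d272b540f76557847311d3a341a2c7a3b5b6602695c187b2173243807032212200b572a503c17053f680e292e63096e6f6d255a26601b441c655623775e393551062f4e082d04426b6749134d530d4c360010014f1559412833524b451e321419, false, 36, 1),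
  (0x75747720304a726c62703e525f4f2b6665790a6d072371767b7a11470f3946187d3a3b7c2a1937405836506a60290d615743163d1f64041768480c285d276b5424345578311d691a2c221c5b021b5c495a21733803123f0b322f63103c05590e2e096e6f25452651444d56085e35064e2d426713534c00011541334b1e14, false, 37, 0),
  (0x4f7c68407d72770c757470200a16763e03576c1e6a475556650744304a235f2e5e39622a7a496b521b2b0b66715079260d6d223137337b465321110f025904183a3c3b2d191a583664602914615b435d3d1f2517482827065424340063781d692c1c67155c6e5a7338123f322f10050e096f45514d08354e42134c01414b, false, 38, 1),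
  (0x7c7524594f57403e7d684a4e656f2e26277620432154726237711e49390077310c1b50743a4b700a16103c032564326c186a47555644152d58073008235f6e5e462b2a7a6b526d0b660f28790d1722733d337b5311021a040169290e3b1951366014615b5d131f784812061c34631d2c675c5a383f2f0509454d35424c41, false, 39, 0),
  (0x757d695f7c7659264f243909375c316c1a2e4e22070157505625434b1b0e40553e16646846414a656f632b277b661c205e215472621e5b7a6d71492f0077130c2d10743a700a6a3c03080232185347783d4415583023526e4236282c2a6b380b0f790d17734d331911120414293b5160615d1f4806341d675a3f0545354c, false, 40, 0),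
  (0x5c686d653e596949757d245f4e545039305e2635274b74041a07117c7601370f290e4f462578130953316e6c572b2e331c2208704a0556400644431b18385b55162a6461413c6f631e7b664c203221007262737a712f77510c2d101d283a0a6a03021f5a470d3d1558235242362c6b0b79174d1912143b605d4834673f45, false, 41, 1),
  (0xe4b301a5525274a755c2d3733312b41320f511e77087d485a3b3668493f6f6b710b2e400c5952126e20395e13730066021d1454705d09386044431f0d3c4f53157a0776182a50116a6d04223a4c28455f7c24654e21695717722c032f61193534670a465679165878106c1b6362264d3e3d1c474223640129057b745b06, false, 42, 42),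
  (0xb08325a530c7770750e726f662073184c6b576a69145c054664634b4a5b50264e4d003817256c42393a410f52244504670323315429123c0144430a792a2e6e58653b490d7a2b363530481d61222f0637682d1a332827133d5f62342176471e7b741940093e1578592c5e1f117c511c551602561b10073f715d6d7d4f60, false, 42, 43),
  (0x56301d5a413c35597555726f0117730b6871666469065c4f2a3b434b2b74701f044d0e382461053e605479510f206b5d6714232d4926481a5736286e53784c7d31406a3a5b7a3d2f1e095e7b371b4403252e580c136327474a76621921153377320d7c1608025f46503f122911345239006542181022076d454e2c0a6c1c, false, 17, 44),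
  (0x37126a7a4b3e0f6541453a493d55543c296e406735597b4c6d5c28211c611560041d2c5a2e70006b024423270757195d322d750b360558135f7263226271564208254d2f0c381473517c503b78766f4631301f1b094377184f341101530a265264200e247d0d485b2b6c2a0379686910741a3f17164a1e395e4e06336647, false, 34, 45),
  (0x2548647a4b025140796b543a4a00491a267d16671e5032682c5c632139375f1c5d7b3f5a4c590e714236232707667c4e1d5875562f4f31477672431b6245183e30614d443c3806735234706a46156f2a2d0929100828350b6c191157416e1f0f3b1755200a5b5e743d057814532e69220d0c6d24652b7760120403130133, false, 17, 46),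
  (0x615e3b7a4b425216537149542b0e3a0c1f0a656777701d2e3f5c4321602576394e326d5a685055453e2f2327070134047b317518446c2d3315722810626b0b0209374d361a3803730f1959642a5f6f785808262230631e56057c1166797d29516a2400176e74120d4a4f4606414c691b5b3c2c20403d351c485d14475713, false, 17, 47),
  (0x4b590972117b4563705a7c5676341374444f43046e795b2729522a5d77626b3524687d646941477a32660f733b264d2d6c0151583f086d71144915784e38651d6023751c2e54306f0367530217006a3139572f5f2c611f205e5c21103c0d36554850180c4c0b4a194642403e3d073a3733051b2b2825221e1a16120e0a06, false, 1, 1),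
  (0x59705c384b4f72741109771e2905352d1f13566a495e7b7d3f3b0441681045586332265a60067c76340723442f033e431d6e795b272a0c1c30525d25626b0b2471666469477a010f7378614d6c5f511939086d14154e54650e555337752e2b6f670217003116570d2c422050213c3648184c4a46403d3a331b28221a120a, false, 49, 0),
  (0x55a307663725c5d5970093856797d77151d7412444164201f492c4b4f5e2967211011603b190b1e5f35652d7b2313573e6a78477c223f45400804686c2b0c5832752618060f34072a2f030a434d6e625b27311c52256b362471663a53697a0173614a1b5117396d144e540e55372e6f0200160d42503c484c463d33281a, false, 50, 1),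
  (0x5a59712b051d767763304f481f0067576b7d386e082472117c7b1219103a5c475d5f2370321a095679377515312a0e7458444164202c1b1834494b505e2917214535603b0b1e6a652d6825133e1c786d5b223f40046c0f0c3301036f26060d072f0a434d62462769524e366166537a734a51391454552e0216423c4c3d28, false, 51, 0),
  (0x596301295a7d2b57057110027c5147740f67487849331d2320316e1a5f6f766477792a3045284f1f0053356b3f2d61382108247211124d3b6a7b19553a5c465d183770320956447515506c0e584041695b2c1b344b5e1e174c072573600b146568133e1c6d422206044e0c0a03260d2f4362275236667a4a39542e163c3d, false, 52, 0),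
  (0x6305075c596729745a015f4a206264381e4702417b4c7d2a113f782879732b7257002d71183d107c5126370f1b150a485d49331d236e1c3244311a666f7642773b5330454f1f08356b555e61213424065b124d6a193a564616656c2f70095275500e584069542c0b4b4e1713256014683e6d22040c030d4327367a392e3c, false, 53, 0),
  (0x6271447c5729071a6305015c02332a5f195d742e0f2830171e7b4b59674c205025735a183f06424a346446387d37472c0a41554f107a112b0c12787921521c7200702d3e3d3551266e1b153c4861496f1d23693231667614773b530d6c451f086b5e222724585b4d6a3a5616652f09750e40540b4e1360686d0403433639, false, 54, 1),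
  (0x71633b52625d7c5f574467681e40502c762a5c491277295a107d2e06730d074f1a34370500390102332f7019696e1674720f2830174b273e517b59134c2058252b64183f424a4146387966470a32554d1d7a110c7821351c430815752d3d0b261b3c48616f042345313a145e536c1f6b22245b6a5665090e544e606d0336, false, 55, 0),
  (0x400551021a7c3b59716344525c285a6778725f0319061814761231625d771e1b530d57007d4d586832501c2c29702a231649794201601007567a2e730a0b274f342d37223946332f4b696e3674470f4c30176f3e7b13201f252b6409153f4a4138665b5455481d110c21354308753d263c6104453a5e6c6b246a650e4e6d, false, 56, 1),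
  (0x5712b0b407202671a515d6b76611b23205a520f7a257c570129034d0d093b4259327063346d445c28752d786f4b435f4f190618143154223312625e771e48530750007d5868491c2c73132a163e7911306010562e0a46270e416e263739452f693674474c6a173f7b211f6664154a385b551d0c35083d3c043a6c24654e, false, 57, 0),
  (0x711a411e055a0b23402b0d3c0155425f461b6b79120e7270146f0f6d3226021867284b51074e5d7661155020102c6652537a257c5703477d49294d08093b6a5922756334445c192d785e0a434f56063f3031543362776848242f133800580c1c732a163e113a60392e2127366e374569744c177b1f644a5b1d353d046c65, false, 58, 0),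
  (0x55514976670b414d711a2b1e6b25700d6253236c206d632746122e055a0e01736e2640076f3f6a3c5642485f72501b6066795e445d3d14021f310f324f0c471828004b744e2d611503102c6552437a097c57117d29083b455922754a13345c19780a171d06163054337768242f38581c2a3e3a39213637694c7b645b3504, false, 59, 1),
  (0x5171220c5553760d67495a69463e73603b701e7a31590b405d726c3f264a41444d56501a28042b6b253800621103242318206d63272e1d74611205360e01166e0242076f6a3c79485f32081b667d5e547c3d141f0f4f2d475b192c1c4b4e391510655243097b57342977450a75135c7817063033682f582a3a21374c6435, false, 60, 0),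
  (0x7167190151700c605522262a5d0644232d73695e125b535027117a04561c76630d25034902355a463e13423b145f0a1e6e31590b406c436f79723f2f4a417b4d74381a282b6b200062364f24181f6d347c2e1d61050e3c164c150878076a3348321b667d54213d4e0f7747652c4b39105209572945755c173068583a3764, false, 61, 0),
  (0x6755154171730123511956172709631e3c442a6d724c700340145e3525780c0b603e5f227464265d064b382d1d6265694d125b53507a7d28201104751c76210d6f1349025a4631423b2f0e0a6e61594e7c6c43793f4a6b7b3a484f101a2b29003624181f34682e6a0577161b0807333266543d0f472c395257455c305837, false, 62, 0),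
  (0x555148766744411e7115255240540b696b631759113a735f501d6d643e100153230662196f3756270907133c433b1b2a0d724c70035e1f023114352c780c6860284b2274265d12382d754a654d795b6a7c7a7d20041c462130000e32495a0f422f0a6e614e456c2b3f777b244f1a293618342e05160833663d4739575c58, false, 63, 0),
  (0x5171000c5563766967483e665034532a460b525b1430446203435937063241701e093b1528582540541a4b6b7d2d241760113a735f6d6174121d6408100145230207196f562772133c2c1c1b0d204c2b7c5e1f3135785d6857424a362226053875654d796a477a5a0477210a0e490f2f6e4e6c3f7b4f29182e16333d395c, false, 64, 0),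
  (0x341512401e7600645171480c523a623e356069396b37192146140455633050750e326728432b45662053682a444b0b7a245b2c56253303417b5e59060d05617009223b6e5813541a6d7d2d5c171b1110735f6a741d08010f230207294a6f27723c1c6c2e4c4d7c1f31785d57423626386579475a770a492f4e3f4f18163d, false, 65, 1),
  (0x3a287b660e00125934157140692c21481d2464162a553b5d356b311e7637523c423051431410610c1b620f3e1968607c0b397d58454f4650775f046317270375324a67652b1a205333444b3d7a5c5b0d56254c415e06052670092249076e13546d2d474e116c736a7408012302296f721c2e4d1f78573638795a0a2f3f18, false, 66, 1),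
  (0x65067b5d72182314447469272a25074f6d096b6a411b674233647a5459203e4a635c19040829762e471e6f75115537284d2b3a107760506812525a3173050a343d583b354c4e6e0f4b5f7d326630511c0c7039173c3879262c784945364801621d56467c0224711615573f222f5e21402d0d0b130061531a0e431f5b036c, false, 67, 67),
  (0x1a593b5d3a17752d6f6135776d311e4c397c194d4b76323f2667384465576b4f437b01047d03343018514941794578631d1c2f1652022b292a697a0854003368141f5c0f564e220721484264401227471b1510553e5a23050671365e72583d116a375b0e0d2e6e240a5f6c4a735053250b203c09747062132c28600c4666, false, 34, 68),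
  (0x40173b4e49157537734a35774c611e030d08096723701d2e135c7a44466c574543324f5d0b6d30223e52547953010c637b742f780f7d2d331a695a103a6048142c474d514204340721290a642a1f271219597c396e3862713f6636266f2558116a2b001c5506185f56506b317224413d0276651b0e204b5e68285b163c05, false, 44, 69),
  (0x25555c4e360a4178544f0f5256705146207d7c3275156a30097b386f5b665f5e28644c5d3c39124a6b694423623d1b433b61737107420b2613357a162f02582d06181d273f04681e530333676d60772a01650e10225a116e6c40720549311f794d1c744745591748372b19083a2e4b140d341a762c57215029630c243e00, false, 34, 70),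
  (0xa1c3b7a62660f30794a3a49185954340d05096735331d2a405c4311207d29244e32165a4647502b01444b69272d03047b42214536253e002673282e233d6b572c6e4d2f7c380c6f51141364101f7222023f744c6d63777161067531416c5b526a12705e4f15395f56371b1a5378076876196548080b1e17605d3c55580e, false, 44, 34),
  (0x13563b5d544221307210357724081e5f2d0e00674b7d1d17055c5a2f48653c78283216046850553903523a41790c1f437b3136120f2c346c2669381c493d6b76704f4d51064e0d0711573f645e0127455b0a742b6d7a232a591a4466730919756a22254a37154c3e2e6e467c6f18531b14023360610b6271206358472940, false, 68, 72),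
  (0x3f2e3b631e313630275e4b237861623e0c406c673a651d710e5c045160335818383216431b55474c1f753573720d015a7b660f2221705f0926414e56773d6b1425374d111a282d532f760a644a037912191374396d5d4917087c5242690002446a452c106e152b341c4f680607246f46575b7d20590b542a487a29503c05, false, 68, 73),
  (0x2e063b631e613622272623620c4a4b6e162a6b5c49467b661c4d5d525b48253e7a1d784319391203477535726f554f38320551342120501b137904427758572c3d2b6711402837412f705664316d531f095e0e0d4c4e541510080f0a69607d446a01687c18592d307445143f075f733c6c000b7617023a1a295a33246571, false, 44, 74),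
  (0x1c1a3b7a62590f45792649540d103a4f16176b5c77687b42564d637519602c345d1d185a024c221f50444b270747374e320e115f364855463f724331232976703d39672f05386e7351252e64666d6f01004a402d2b281e155e612113412065526a031b0624080c307412570a533e6958096c0b14715b357c3c047d78332a, false, 68, 75),
  (0x135f325d6f684b15442d692712080765700e2a64411c6703053b5a546e561422285c7404556642246c777321752509434d1b3a39354a7d176b0f383472166d5b107c6a1e204e2c5162023f1d0c00522b290a3d18267a79015948494636713c237b4c5e0d060b78333e1a50602f45114719582e4f6130531f376357317640, false, 68, 17),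
  (0x47761d4e6f2e4b5f36586927483007405955783b793967144f6a5a497d18061b635c0d5d00013e2005357321756108284d1054601e2b0a247151381972652c742234647717043f5262426d7b3c0e0f3d266e4a0b1f7a5357505e3a2a2f451a233268125b03564613020c701c446b11337c314c6c370941292543662d1516, false, 17, 77),
  (0x18346a4e49302148721f357758121e256545715c2310322d4c4d7a3642175976437b205d743d6b57000f545341707d631d164402511c332e6e275a013a1a06614a68675255046c69113f393b3e2c071405224f3c6038625f2b502f6d735e137564292a0c46375b090d1b15476f1979260e085666787c4b033128400b0a24, false, 34, 78),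
  (0x17684d4e361253583a600f521f2a51311a5e6e7b7516640b561d38723f556534283b575d6114195f740744624b1542436a246f0d2747263022777a3d2f1359704f29326945046635796c105c6b061e2d004a4c3e025a11481c2b73395450094167036d1b5b780c7c20760a18490123052c7d3740710e21460863253c332e, false, 34, 79),
  (0x331a7b632724495752744179172c53376d006b6a734667317d645d1e084834107a5c0243613c141c506207442f476e384d39355e2320551b22750466690e135f3d293b4b2b284f213a3e6532423011560d254c71584e7226701877120f6003541d2e68065b782a1615760a45514a36050c2d0b3f6c596f7c405a01191f09, false, 68, 68),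
  (0x48403263275f546c0f0e79531568412b4c60576a723c5c610b644e1e1029307c5a4d7d434a652c74244b07442f12187a670d35266276391934755d05691c5e5058333b232d284521496e461d0a221142553d036625046f13203e771f515b6d3a7b06143f000c1a7859705601523136711637022e6b1773082a384f09471b, false, 44, 81),
  (0x292a1d6327503a6b511c53415914792d035b6c6a6f654d4a0264041e7c33220838670b433146680e5f2307442f1f3e5a5c5535134b700d0930754e716974262425483b623728012154183c7b5634110a39586d053d5d735e766e774752004c49323f2c2e6016400c1720424f0f613666782b7d06571572101a7a451b1219, false, 44, 82),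
  (0x36d6a43772b2f192747624b652d230b460c664d491a1d4f0d6704510e264a7d5a323c28085b292c48751e6f73606b7a7b450f092115207c12414e6e3561052e31585c1178633d5344173e3b37687933101f3900145d54503422521869745636646c06300224251b55573f4c07707240711c42595f0a3a1613385e762a01, false, 34, 83),
  (0x2101d3841167720751c6f730576723e03576c6a692c4d713c646323310024130467607a153d6b0a0d4979510f5f015d5c6d62613a331f654f444356531a061825463b54555a2d363522297b4a342f3f2b1437404828275e58504b302170121e320e092a1b6e590c176826471108527439787d42197c072e664e4c0b455b, false, 44, 44),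
  (0x5b5e1d4e73162348445607690e1427341f76096a41704d2a58647a49666c783f4367205d153d6b132d777211213e03635c6d5459357d013337525a2e6f7c1a242c683b1e47040c0f4b453c7b105f510a39576e056038794a29553a303625226232400017464f080d711b26502f6175744c1865310206531c42282b0b1219, false, 68, 85),
  (0x74127b047365235e36180769550627192915086479594d78313b7a3a0105466d2867174e5f4a714758357211210214435c2c49501e0a5713250f5a4c6f340c203f2e6a77335d3c514b6b1a322276526e60667d4f1c38532b260054092f611b621d160e242a6c305b45101f704437750d680b402d420341393e633d56487c, false, 17, 86),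
  (0xd48325d734023122f0b07690003277c265f303b53504d462d6a7a54574f2a2c63672404762b4533311e7211214206285c3f3a70776e664761515a686f193c176d4c6435134e1a524b710c1d1b150f7d1c010a6c3938413d1f0e4908443710627b655520780509746b2229593625755b2e5616583e14796002434a185e34, false, 17, 87),
  (0x2d60326369054922510b53416c1f7906263e303b6f554d680c6a5d1e763717707a6778431439127d6662272f36311a385c0a3525234f42505911041b070258716d2b644b3f287c753a2a0d1d46152165560313094c4e733d01407761526e5e547b334748180e00746b453c080f2c44191c2e1629345772205b5a10244a5f, false, 68, 88),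
  (0x7011556b5913382d4b5c68333f4c584354351e51520e4f26272f6a063237725b74340309710a7729053c661f6d73505624495e7b7d040069013b413d104516631c075a607c766e2344254e3e1d14790d392a0c305d627a0b1a6f61486447460f784d6c5f1928082e1542650253752b671731572c202136184a403a1b2212, false, 50, 0),
  (0x114b6f4570356b435955321827315b567a5833793b1a13037d6d510a3448387b2d05735c1c12683f4c7507540c44021e63520e4f266a5f606e2f062137722874693c0971772949661f3d625024305e2e39040001411076161b0f4e675a7c2c23253e1d140d402a475d420b4d616446786c19081565532b175720364a3a22, false, 90, 0),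
  (0x4b590f7211584556706f34177d197b1e765b185e2f1b3573260c791205676b4f434c44556922322731643c7a001f4d33743b1a1303511471496d0a534838402d60755c1c683f52075421100263010e47396a5f6e063729284a236278097715663d5024302e20047c4142163e4e5a2c251d0d2a5d0b61466c08652b57363a, false, 91, 0),
  (0x1955492743450f0a4b596f72181a7334067456367a125c16762f4111581b7d3d4e6770690c474017017b281e353c5b044d5e2168322b266b0b6a79056315144f4c09441d2207316451001f3a33023b4813032e716d53382c2d607546621c3f5254102a080e24395f6e37294a237877665030207c423e5a250d5d616c6557, false, 92, 1),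
  (0x1a690b174e0f4979195559275621166f6d4d0a651e114429067a6e4345121854231b4b0c2f48147202732c345c2874395b3600224061767d42034158333f263d676270504764017b2b353c57043a5e6368320e6b6a0515774f4c095a751d0731511f200d3b2a132e7153382d60461c521008245f374a7866307c3e255d6c, false, 93, 1),
  (0x210c427223490b411a6955170a0029596a5b795d344370386d1e714e0f1156516012192f7a6326273a16776f442c4d1374653547143e061837326e45040776541b754b10487b0273615c286c3957363322403b7d03583f1c3d676278095064012b3c24305e20680e6b05154f4c5a1d311f0d2a2e532d4652085f4a667c25, false, 94, 1),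
  (0xc1a6707215b725923420f526d0d51133f291736323d491914445d6312780b47413a2c691b25550a005a756a3b614f795434437038713010021e4e2d1156206018162f7a262765776f45584d747d350e223e06376e047b76660128314b482e735c6c3957335f405003051c3c6209642b245e686b154c1d1f2a5346084a7c, false, 95, 0),
  (0x5c1a307262250e453c27565463186e4a160f6b4c13393d5a1b5914683e235502016c477c071c7d7361205069341011795117705336092f00462943062e7a2d376d75672c051f0838784d605e667b19413f24402844762257354b216a5d2b651d770c49044f3a740b031258485b6f26150a523b0d715f64424e311e32332a, false, 5, 0),
  (0x1a3c4b7a5c0f724a62303e421b520279226e54192935254736344c1c6c6a0e53456110276d2a5663186f75164078486b3713393d5a14042c0859685f23553a0100207c077d731750690676115128700b3f092f46432e1f2d321d601567050d384d5e667b4131242b4412570c215d6577494f7403585b260a3b71644e1e33, false, 97, 0),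
  (0x3c621d551a6e7a795c4b6c0a364f536b1f02427059320f105a40192a6115723d4a18783000333e1b525d20222f690c5401293525474c7b0717341c5b6a0e31452c6f276d56631375165f2e483746392b3f1404086823733a4e3876777c7d0350061151280b71090543122d5e60670d4d66412444572165497458263b641e, false, 98, 0),
  (0x4f30171b4a7a1d1c3c624b554235106c68017964222a272d1f59431a6e32360660155c00402b310a46533a6b0f2002090c705f563e265a725714196137037b3d187c78663375525d4c2f691e5448296a25470b07345b0e0d452c6f65766d6313162e247439513f040823734e38777d5011287105125e674d41442149583b, false, 99, 1),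
  (0x3500570a601d17194f30621b795f2d4b340c1c586b1a78736822084a7a2a421638323c40596a7b5548100d6c273a013f02642f3331211f361247436e54635a0615765c112b5d4653260f203b091e7037563e39721461037d3d187c676f6675524c6971412924250b075b0e452c656d132e745104234e775028055e4d4449, false, 100, 1),
  (0x5f401255381757433500300a1c2f7362140219446c4a5c0e346b07601d1a794c2c2a4f5922375a1b1e2d7d4b780d0c2501580f2b7b5e6842233e087a09751f16326f3c2e6a53481021273a493f3b645433312936476e636d061576777c115d4626205128707156397261033d186766526941240b5b45651374044e50054d, false, 101, 1),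
  (0x403515755f02556238121d1334414c2563730a643e06174f7b7844372a77572b431e0d00324d301c2f676f1429213d19166c4a5c0e07282e486b60451a79712c422d59225a1b587d4b7a6e0c01360f39335e68230809531f50463a523c6a0b1027493f3b5404311147616d20767c5d265170567203186669245b65744e05, false, 102, 0),
  (0x35384679407375255f152a697b702b19534c130f6b50020d0e29644d1e52555c622f211242051d34417c2d63684b200a2c3e06174f443b2258783718775704432e670032301c6c6f1445093d16234a1133072848601a1b7174106e26595a727d7a0c0136395b5e6a08611f493a3c0b273f5431476d765d5156036624654e, false, 103, 0),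
  (0x385f1057354c791940461e510e545c0a1b2b694a787473214f680f052f26751725414b152e4e2a7b703c675328144913436b50020d6436326c294d7652555b62227c12421d343e2d63181a202c48066a33443b5837771c04247d09270030476f453d16231103075a6061710c6e59727a01395e081f3a0b3f316d5d566665, false, 104, 0),
  (0x5f407d55382b570a35102f3f4f3917131c5c510629244c4b0d284a4e412779021970144622651e0e54597c1b3b630c6962787473210f23423e68053a26750325323c152e2a7b6b67537677494358505a3364366c4d52345b566f1a7a121d082d18202c486a6d44303761043d0900474516110760716e72015e1f0b315d66, false, 105, 0),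
  (0x40356f755f5c5513387d41010d11026934173f5068562b14213b0665707a57730a54631032662f4f39003c1c36533d512529244c4b4a482e6b284e6e27796d19425946221e0e787c1b3a520c626c7430330f233e05267b03312d7745152a6067764943585a1f641d4d615b201a1208182c6a4437040947160771725e0b5d, false, 106, 0),
  (0x11106b4f0a556f4e40357d753f2414410525130b1c65465b34684d5f5c560d761a7a38323b306d016c0203692b3c17643d503a1e2f722157040f0670626048735415632c667c39004a36535d510c29274c4b5a2e286e79081942594777220e781b524407744333233e267b312d452a6749581f1d612012186a370916715e, false, 107, 1),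
  (0x1040426011254f410a6b5c1834587664791475290f1955382f2b0b307a476f1e4e6c3c35545e7d3f244515055a4a3113731c65465b4d072c39685f20560d431a5702323b6d01500369706e173d2e3a234c72210406627c481678536763661d00365d510c27374b222826085259770e1b4474333e7b2d2a491f61126a0971, false, 108, 0),
  (0x5835393f4e4f425f10406b607565385c0673410905303208790f28112519343659470a542b2343182e7648645515144b3129706d7d122f6f7b720b7a3d1d071e6c633c445e0324454d5a4a7113171c56465b272c68200d0e1a57022a533b0150696e331f3a514c2104627c16786766005d0c37222652771b743e2d49616a, false, 109, 1),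
  (0x65547b185942390b5835403f4170086b68315f6164113c7c0605044e4f3075697819102b0f56076017380e5c3248734c14095a5e432d7934265b282513012f3647530a5d23452e761255156a4b71293d6d7d3a6f727a1d661e6c6377024403244d4a37741c3346272c200d1a572a3b506e1f5121621667000c22521b3e49, false, 110, 1)]

/-- The chain. -/
def threeUFourLevels : List CfsgLib.Golay.Bsgs.Lvl := [
  ⟨0, [0x615e3b7a4b425216537149542b0e3a0c1f0a656777701d2e3f5c4321602576394e326d5a685055453e2f2327070134047b317518446c2d3315722810626b0b0209374d361a3803730f1959642a5f6f785808262230631e56057c1166797d29516a2400176e74120d4a4f4606414c691b5b3c2c20403d351c485d14475713,0x25555c4e360a4178544f0f5256705146207d7c3275156a30097b386f5b665f5e28644c5d3c39124a6b694423623d1b433b61737107420b2613357a162f02582d06181d273f04681e530333676d60772a01650e10225a116e6c40720549311f794d1c744745591748372b19083a2e4b140d341a762c57215029630c243e00,0x1c1a3b7a62590f45792649540d103a4f16176b5c77687b42564d637519602c345d1d185a024c221f50444b270747374e320e115f364855463f724331232976703d39672f05386e7351252e64666d6f01004a402d2b281e155e612113412065526a031b0624080c307412570a533e6958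096c0b14715b357c3c047d78332a,0x17684d4e361253583a600f521f2a51311a5e6e7b7516640b561d38723f556534283b575d6114195f740744624b1542436a246f0d2747263022777a3d2f1359704f29326945046635796c105c6b061e2d004a4c3e025a11481c2b73395450094167036d1b5b780c7c20760a18490123052c7d3740710e21460863253c332e,0x36d6a43772b2f192747624b652d230b460c664d491a1d4f0d6704510e264a7d5a323c28085b292c48751e6f73606b7a7b450f092115207c12414e6e3561052e31585c1178633d5344173e3b37687933101f3900145d54503422521869745636646c06300224251b55573f4c07707240711c42595f0a3a1613385e762a01,0x2d60326369054922510b53416c1f7906263e303b6f554d680c6a5d1e763717707a6778431439127d6662272f36311a385c0a3525234f42505911041b070258716d2b644b3f287c753a2a0d1d46152165560313094c4e733d01407761526e5e547b334748180e00746b453c080f2c44191c2e1629345772205b5a10244a5f], [0x7d7c7b7a797877767574737271706f6e6d6c6b6a696867666564636261605f5e5d5c5b5a595857565554535251504f4e4d4c4b4a494847464544434241403f3e3d3c3b3a393837363534333231302f2e2d2c2b2a292827262524232221201f1e1d1c1b1a191817161514131211100f0e0d0c0b0a09080706050403020100,0x615e3b7a4b425216537149542b0e3a0c1f0a65677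7701d2e3f5c4321602576394e326d5a685055453e2f2327070134047b317518446c2d3315722810626b0b0209374d361a3803730f1959642a5f6f785808262230631e56057c1166797d29516a2400176e74120d4a4f4606414c691b5b3c2c20403d351c485d14475713,0x1c1a3b7a62590f45792649540d103a4f16176b5c77687b42564d637519602c345d1d185a024c221f50444b270747374e320e115f364855463f724331232976703d39672f05386e7351252e64666d6f01004a402d2b281e155e612113412065526a031b0624080c307412570a533e6958096c0b14715b357c3c047d78332a,0x17684d4e361253583a600f521f2a51311a5e6e7b7516640b561d38723f556534283b575d6114195f740744624b1542436a246f0d2747263022777a3d2f1359704f29326945046635796c105c6b061e2d004a4c3e025a11481c2b73395450094167036d1b5b780c7c20760a18490123052c7d3740710e21460863253c332e,0x36d6a43772b2f192747624b652d230b460c664d491a1d4f0d6704510e264a7d5a323c28085b292c48751e6f73606b7a7b450f092115207c12414e6e3561052e31585c1178633d5344173e3b37687933101f3900145d54503422521869745636646c06300224251b55573f4c07707240711c42595f0a3a1613385e762a01,0x2d60326369054922510b53416c1f7906263e303b6f554d680c6a5d1e763717707a6778431439127d6662272f36311a385c0a3525234f42505911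041b070258716d2b644b3f287c753a2a0d1d46152165560313094c4e733d01407761526e5e547b334748180e00746b453c080f2c44191c2e1629345772205b5a10244a5f,0x60394d7a7510270d232b442f261b363c29203f1d520e6a780b3228792505161a04641f5a70013e15026f111e3557195d3b2a5374720a58594a54634c21652c4740037b7317381449696e685c22763a42503d56665f435145485e412e4b613007677c13120c71065b1834331c623177006d37087d6b090f246c4e4f2d5546,0x5b5e1d4e73162348445607690e1427341f76096a41704d2a58647a49666c783f4367205d153d6b132d777211213e03635c6d5459357d013337525a2e6f7c1a242c683b1e47040c0f4b453c7b105f510a39576e056038794a29553a303625226232400017464f080d711b26502f6175744c1865310206531c42282b0b1219,0x1934677a113127304b0d364440582f6c6514567b0f106a01761d4341605e45054e64165a6847503f706f211e353325043b6679087217002e7454283e756b0b78716e327306387d496924024d2d2c3a594c5b15136d63521f3c1a5342621c2b075c612a0c4f260a095f37467c230e771b18394a20293d5103485d12552257,0x3f34324e6f3d627c441f27074c05697d09405664532a672d593b7a54551c5845435c1a5d16157422701e731121336c634d6b3a78775e001020525a01726e373c71666a351b04250f235b611d3e655112140e48390638415f0868490b361702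4b7b2b2e0c3160182c0d4230462f24756d57294a50134f790347287626190a,0xe7d5c430f6e6f1b1e6521753940111c56590d1d2f2d643305324e69263419787a3b46281a6048122e7952543a2a17386a372724410c103e554b5d70516642765f3d7b5330635e6272020867004a232b5b0a50186804362c136d074f770314734d2201250b474c71096b7c16354549063c581f746131446c155a5720293f,0x76706463351b2f74276c236213194b2e5e290c4d491f7b65586704523701223f381d26435531665971217773724a2a5a3246510e113e560d6b414e2c1e301624347c5c75482810534418146a0917790539573d61155d547d5b600f68692d4c363b405f00060b081c251a5020070a6f47782b036e026d3a334f7a4542123c,0x2b1c4d4e440b411a49710f520224510c5f18093275703b10227b7a73556c5929436a065d1674265801692f624b2d3463643d7257077d3e3348775a2a366e37612c421d2768040335533f125c2e0d1e3c057860197c38115645466f6b3a251379675b005e6620761f4a31301b5414236d0e0865504c4f2117472840150a39,0x24174d7a216869154b56442f5b4c36340d12653252703b10457b43536e2508194e6a745a473166290172751e352d0304641b4176736c3e330b54282a1130160e091a1d6f48380c490705785c2e1f3a5713186b582663514a39607946627d3f276714001c7c3d3c5f7106552023027750400a2c4f2b6d0f5e375d61425922,0x1c471d4e6f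3c4b13366e07690d2e271b48177c6441155c164a3b385445666503284d595d2461051f3d357311210b684367143a5f1e426b2658527a6d72227870063f6a772904460f626c2a7b3020513e007102010e5a79375e5b49192f310923320c7450405734604f081276442d75392c7d1a2b564c53551863250a3310,0x306677a7502693f62153644093e2f37300c6b1d0f683b311f32637924604a255d6a085a780e13654772111e35556e4e6458532c7348504676544366212b45103d057b6f3c384f49075e014d42163a332a5f29004028527434194157232056275c7d1b7c615b6c6d260a22144b70774c71170b120d18511a39041c592e2d,0x31b324e72612322364827072c0169427c0c6e3b53164d3d5f6a383a5b554a6c2867785d3c24390915776f11212666435c0549653547743059527a6b7302582a4f45641e0804310f4b1c2d1d0b1a51332e0d13004c5a4120343f540a2f5056627b256d462b0e7d066018194044707514715e37761f57796829631712103e,0x334864631e144459693d23621c2c4b1a740030674955321b7d5c5d511837032a7a7b0e43240a615e3111357372427c381d190f17754f665058410446774c221f6d3f4d215b2806533601656a6826794a5f250256134e546b7076523c076e0c2f3b10472040572e150b08122927716f39343e16456c783a602b5a2d050d09,0x12707b0473062350362569272922072a17390c3b530d5c2c456a38540b3e3f19634d554e604f6e76713572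21754a1028677c3a5b1e2d565f66527a096f46680e34306477155d2e0f4b0a4c32651c515813183102475a416c2426491a2f0140621d141f006d423c5e7d162074445711480861036b2b1b79333d4305375978,0x251a7b7a534c1e5b1126726f56007337307d0b6a271b67422c64634b05480d175d5c295a0e57024a473a41510f556e4e4d22237154205068182f4331793f082d6b143b4912384f44770c7032661636100109452e762807156c39627875605f351d5e46063c2b1c6d74195924212a52131f033d616540697c0a0434583e33,0x555c38750827394b37442f5e0936464870063251746a167d7b284158660c2a4e64127a764518170b72111e356b1b043b40791c73423d156149636d213c141f1a4c1d6f595a683a693e2c67302054565f250a7124430f4f3313533f623134074d10264778052e606e22290e234a775b032d7c026c195250575d012b0d65,0x10263b044913211873421e350c567716502e685c23487b1a1c4d5a36193d252d431d2b4e57784c034f5154795337306332594434526b6e60080738063a765b654639670f055d6d27110071647c55690d2c5e3f5f457a62312a612f0e6f0b7d756a3e2015244001476612580a721f41026c331b1417294b743c287022094a,0x5825644377484466072c23620a294b1c56025f4d3a3e7b703c674e511603120e7a1d42284f1a06612e211e6f732a173832200f051134100168415d003547502b1f265c750b635e5336225b6a334a793f45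14464031044909576b5260270c392f3b592d6c741b13716515373d6908726e24780d301955547d6d5a4c7c1876,0x606463773c3613070b4b231765627c15706d673a5032686c5c5d52456e0c107a7b594312050a1c42751e6f736606381d14515e213731470253041b35784c0d16404d1176281a792f2d096a467441561f7d57710e4e493d33290f19274f34443b2e554808582a266b3f395b694a72240301302b25225420185a3e615f2c,0x56371d5d6f5b2361361627073e5e69203d71156479665c552e3b7a54227c001f634d0504453f082d681e73217546482867293a01771a1b31140f5a477224396c26136a35584e60514b091c7b506b520c7d103c340a38536d4a0249762f067062320d424f0e195f0b30592b57440311183365744c2a12416e78432c402517,0x2d6b320472134b4536680769255f2774663e553b796e4d48346a5a3a3c165e704367184e0222786c7c1e6f75110615635c59497d776d1a4f08513820735b295650246435055d2652622a1f1d60420f2c4a0c3f652b7a531b0161540e2f301c237b33370b124000314639570a44092158172e47190376413d1428104c710d,0x663f3b4e542e110d720e35776e741e182231584d2314320a1a675a366c294847637b1f5d703e2d3724513a79531245281d10444f5276393c716938614909650b020c5c0f17042b0775461564057827163d064a305f7a6213425e2f2a735b60216a5519083456504c5903331c6f6d4100206857257c2c4b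407d431b016b26,0x55456a4e3a01112c734c771e486d35290250596762057b12375c5a361c087c1b631d095d2a3370203c51494179195b28323e4460524014610d07382454564a2613254d0f0c0476277531163b3958693d154f5f0b657a4b2247342f2d6f3f062164680a187d1f4657786c1003726b532e1a660e176e71232b5e4342007430,0x26787b43277054715239417950065358147405646f404d2b423b5d7734131b30386756282d2a2e55762307364429025a5c001e474b595b0809750445690d1f20615e6a6225635721490b1a321819116e60312c4f4a4e7312157d35330f0e683a1d6d3f4c1c65163c24173e6c51372f01463d0a03665f72220c7a6b10487c,0x373f5c63512c731c771311213d47752b4c6e587b2f193b05161d4e69015b74485a6a5e431f4a716b24790f543a12187a6409270b4129391425625d0a520c034202103253002845236f06556761224b1b316d7d68170436594f700765357615724d603c082e6c20780e2a0d331e46495f267c572d303444403e381a566650,0x6b224d4352106f1f7724217566201157193d051d2f406a1868325d277d13471538645f2870013e425b79513a4976585a3b2a0731415929087123042b0f2c0937610c7b535e63024b7230485c453c621a4f1b4a7c0d4e36390b1c692e350e557367263f7834567414120333171e06540050160a6c4665444c257a6d2d6e60,0x6d396a04490d116c724535771b4f1e1929164067620e7b22505c7a442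e0a420b281d7d4e4a0965465852544179021443321f2f680f61575903275a783a5e177c08704d512d5d3c697515373b4c7607201a550c4825384b18303e365f73056621646b131233343d5b2b0056016f60537131743f2a471c23241063262c066e,0x4c5e4d430f487242354a2175142b11031f782c322f703b10397b4e07307d0a587a6a312837067c190141523a492d0c386420693c53253e3368235d2a5155474065151d790b63344b7313185c2e5f62763f12462966043671226b27601e6c056f67020017261b570d56746e3d775b544f6159096d2450441c165a0e1a0845,0x18346a4e49302148721f357758121e256545715c2310322d4c4d7a3642175976437b205d743d6b57000f545341707d631d164402511c332e6e275a013a1a06614a68675255046c69113f393b3e2c071405224f3c6038625f2b502f6d735e137564292a0c46375b090d1b15476f1979260e085666787c4b033128400b0a24,0x573467430f7c7347775f21750576116c0958717b2f2a6a3e141d4e270b5e12597a645028204f6e0a00535249547025383b1a07617917331066625d2d51681b2b4a16324126637d236f22294d01654b40451931085504360d02746906351c39725c132e0c30420e2c1f6d48151e3f3a602478566b3c4644033d5a4c37185b,0x3c7d647a621b5215412c3a494057541756195f4d352d7b005b6743214f0c2b054e1d745a5531663f102f4b07692e5e043246750844032a3e3d6f2833236d30221f1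a5c3620381c720f12586a704a735978290b132663770914481168533418513b6101257c6b0a7165065060790e274745240d3776161e6c6e5d39424c02,0x78707b385374774f117d726f1945732a5e22343b071f5c09396a6323683e0558044d6e7a6b6d303c5649410f5271105d672662143a2d4a0d7c2f43657960484003556454425a2e4435592b322c1736293f12065b372869254c664b157501611e1d025f00501a571c6c473d312176510b0a0e0c46242027331b4e13160818,0x141c1d7a5347770b214a737240026f035f3c656a69704d2a2964434b7c2518054e673d5a421b463f2d5441510f3e0c045c502308496c0133162f282e7926154c09483b3a373834443539577b100d3659227630136b632771196e6255117d451e3261005e606d0a1f5620664f750e52312b122c065b7407171a5d24687858,0x6e191d7a412a1e5f755b73726b506f0a3f4f453b694c6757166a286225391548045c0d5a702d010b0e3a79510f59055d4d2e4b3d54121378712f630253652c422b0c64491c386144777c477b58083668316d4a461f43272937172310212426353260223c345620407603335e111b5200741a187d300907146c4e063e6655,0x45036a4e3a6d1160730d1e350239777d092b4a5c4b2e323e784d7a2f665e1329437b485d150b3d587051497953336c631d3036575217002a4f695a2d547c1a0a5646670f500425077540243b0165273c614c37192038231f184744166f1c0e21645b10341b6e7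62c5f68265572144174593f71312206620c4228086b0512,0x2171d43073754680f715341615b790c0d572c6a72704d2a19644e35267d12137a671b281a2060052d236936443e34385c4f770a4b25013347755d2e2766422b650b3b62166303214922767b101f1108453c553f46046f5658301e6e516c393a320e001c6b50595f4a3d7c6d52402f06247809741431735e155a4c481829,0xb1964043a09215e72291e3531487761406b455c23221d58684d7a2f3e2450152832174e0d4a71660e51494179590a437b6536425239134c7d275a57540c03372b2e670f005d0569116d606a023f07064f1b6c1a1c3862763d70442c731247753b26783c2a2574085b105f336f7c531f5530180146344b142d6316566e20,0x7625644e3a3d751a72651e350e3c771c71291f4d4b2d7b0002677a4450034c3f431d065d3074261310524953412e1763326b2f590f342a3e20275a33544f6e390d425c511b045e692118196a7056070a125848057c38232c5b68360b730c78113b40016c6660084a09316d466f617916222b5f475737627d552845152414,0x596c5c43514f7268770911212408751771135f1d443e640061324e07740314227a3b1b287c2060392a410f4954105e386a6e691253342e0150625d33523166291f0b7b796d631c2373573f6770564b187605474546042f650e162737350c3c6f4d4c2d7d6b55784a2c3d06301e2b3a1a19020d150a423625265a58485b40,0x5173b7a2331516d4156543a451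349035f612c671e001d10085c4375486c5b124e32305a1b5547182d366207693e0c047b66112b2f7d0170746f282a4b0b3d58654f4d4406383472523c0e642e0d734c574015781663354a0a1a21425325760f6a39331c3726241f716e687c79222746291409603f6b775e205d19500259,0x1b613228690c3a00513f79531a6b412445685b6a6f585c594864047756196e427a4d336317256c06784b272f3622123867031e7c623c4c023e754e0e072e101676093b235f43392154473d1d131811266d200174705d7308461f353452144f497b6657052c2d312b40655e0d0f15441c37502971602a720a4a5a557d300b,0x4003324e720b2306360d69277861076c2c0871647910673e133b7a495017022b435c7c5d3026154c33776f75110025634d3d5422351c702e480f5a2d734f6e194a316a1e68047d514b760a1d010952393c5960241a38531f3f463a6b2f5e57627b182a34422045655f666d1b44122116585b56470e37410c552829741405,0x160e5c430f006f711e0a1121466e757839303c7b44293b3f501d5d270357660b386a56283e2a2e682b7952495418225a6433071b4102455b65620408515f0d7c195e32536c634c2372744f6740124b481a5509604a4e2f616d256970775831734d6b76131c2c3d240517017d35203a2d4226140c471f3659347a15100637,0x221f6a5d3a47210b733e771e3c183565704c2e5c235e320c394d5a2f7c4a6158287b3d04664668146c524953412509431d503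6190f717d1c30073803541574402a6067514f4e2c27110e453b3400695b3f126d766b7a622d783744556f560a756402175f201657330148316e722979420513100624264b0d1a63591b082b,0x59705c38216d6920627d2f36393f44101c130c1d0f5f640905326341422d1922043b607a263d6b1271737535774a2e5d6a3079246f01561f6e544365117c1a5b34467b72475a2a49075740672c5e3a45290a4f2b482852250e555316233e14274d4c0d001b3778176c6874504b181e153c02036661065133314e580b7608,0x26247b04722c6217442b6927477c073c76744064530e4d4c663b7a493e0a683028671c4e0d71565057776f21755819435c095455356102596c525a22730c036008106a1e705d140f230b0632785b51374842256e5e38414515333a653605464b1d6d13392e7d1629182a5f002f4f111f1b3d3f01313479122d636b4a201a,0x7c127b7a7970774a7545726f6d3173195b063f64270e4d4c153b28230c053d6e0467715a2d2a2e30575453510f58145d5c006216490a02592c2f6322415f0d1b40176a3a6c383c44354842327829365546746550564307181a254b3321610b1e1d4f13245e0937762b1c3e7d114752016b200834261f6939034e60106866,0x40005c6352556f6b357d1121780a752a1c080c1d2f1f642c5932042706015718383b0b434246684c4a4151543a56105a6a470722533e710d16624e090f15741934487b794f282e23725b0567655e4b123c0e30393d5d362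53f3769501e2d58734d455f33606d2b176c20666e772449310229031a132644707c7a761b1461,0x242d6a043a377546730c35775b781e006c125e5c624a320d184d382f152e3f14637b684e7c604829090f4941792c70281d4f36765110655650277a1f5466420e1c0b6752305d3369210a223b5f7d0702132b47571b5a4b03396d446e6f2a4011643c71016b551925343d06167258531a086117264531233e74430520594c,0x6c20647a23580f3f530b3a497133540615256d673555321b095c6375124f0d5e5d7b085a220e13563144620769421a4e1d57114a366e66505b6f43464b182b2d16054d2f14387c72510c006a6874732e0165762a4028773d7d3c210279375f523b1c4760612917266b0a4c19411027781f0330392c451e48240434593e70,0x10204d6351246f581e6b75113471217c152e307b445564465e1d5d69403725017a3b574305193c0c42410f543a6606386a392703534f3150226204685213592c6d5b32792b281a2372704a5c1b744b0d09174c5f024e2f0b2a180712776e7d73672d476076783e263d296145351f490a6c0016081c0e36483f5a33146556,0x10471d3841767761754f7372034a6f1b602e066427745c6d173b284b7866253e4e4d057a2b403f346b49790f523d6804675b230c3a420b15142f6330532439091a596a54575a46443533567b1648360d651c3c5f0a43076e2a58622921317d1e3201265013192d20370e1802111f51456c707c225e1269554c5d00082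c71,0xd4f6a5d544511146f6d771e330335480b5f154d23661d472d677a360e7c10096332190440297670460f3a53411b60287b184400511a683139075a50490a615e26585c52784e2027754a0c3b553d69251701247d3c3862301f222f2b72062e21642c426e0212656b1657084c736c793f2a7174593e054b371343565b1c34,0x60e3b5d491c11017305771e30663522121a3c4d235b32081567382f2c020b6e437b3e0425340c162b0f547953184c631d5e366d515845762e277a403a33701b195f5c524a4e7869752031643f24075046742a472d5a620a7c5644176f576b216a4f29131f103739610d7d717255416c3d60146526004b59092848036842,0x5f6667285157733f357c1121703475504f1f201d360b3b742d324e0739682e09386a086322590e0016410f543a30475a64026933531b6d6b76235d26522b455e480a7b791443554b6f71034d156e627d1701296c4004441a0d3c27581e462a725c2c3d42055b653706614c1977254978105660243e182f31127a4a131c0c,0x2c3d645a233c520e531b543a2e7d497431655567774f3248335c4375186d0156047b133812050a101a366269277c155d1d14112a2f300637577228204b22780c503f4d445b7a26730f5f6c6a60666f1c0370581759631e460976211979162d513b716e6b40024a4268083929415e07243e0d4745004c350b2b4e1f613425,0x50055c28526c722e35081121203075244547767b36023b0e371d04070d14061b7a6a10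6334171c607879513a49221238647d694841194c5770624e130f2d0126295632532c43392373666d6759184b0b154f336b2a5d4440556527251e3c1a6f4d68580a7100462b3f4a0309773d540c7c425b5f6e3e2f611f5a315e7416,0x12667042f58533f3a420f52250d516d552d461d11603b1a0c325a6f120b1c70436a084e4c13596c6e273623624f16636457737d693d3720761e3806442b45711b617b07195d307779105f4d7c47352c56032965407a21313e147202546b17415c3348150a5b00506605783c49094b225e2a68393418757424282e0e4a1f,0x5f376a5d492b753c72163577000c1e606b1f264d4b311d553e677a2f59062e2c63321404085b29331b515479536820287b453670527c464224275a473a050a1c74025c0f224e48692156343b500b077d5e2d126c1938236d0d4c4418731a2a116465664f5739093d30583f786f254140104a15130161626e0e4371761703,0x4a161d5a7914770e11476f733e1c723d1b564264277c5c6e2e3b43234526005f044d133839050a2d483a530f52600b5d671962015415200602442837414c2225663f6a49297a6b363565177b4f462f346c10570359630750715b4b3c7574701e321f1a6d40580d6855082476210c5112332c312b2a786930184e09617d5e,0x56301d5a413c35597555726f0117730b6871666469065c4f2a3b434b2b74701f044d0e382461053e605479510f206b5d6714232d4926481a5736286e53784c7d31406a3a5b7a3d2f1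e095e7b371b4403252e580c136327474a76621921153377320d7c1608025f46503f122911345239006542181022076d454e2c0a6c1c,0x4276674e440153095458510f4f26520813664c3221126414067b5a73172b4855633b655d1070006e61072f624b0a3f286a3e7237274505390d7738193671560b786c1d690c0440357946744d3c591e303d7c5f6d2c7a755731346f2d491860415c50245b251f470e027d2e033a16232a2068225e1a4a11291c431b336b15,0xb593243072d492c5205795331604178396b146a73765c401b645d355e024726384d09282a7000662b4b69364418225a67017742625845291f75043f277156373c7d3b230c634c213a30201d0812117c4f460d06654e720a3d341e3e0f5755547b745b0e6c5f152461251003511a2f2e5016191c684a6f13177a6d336e48,0x6858643862650f1c41193a49060b540e6146395c77451d29484d43753e4c4f425d325e7a1f71567c40364b692708594e7b2c111a2f223f2b6c6f287623340c16242e6744005a137251506b6a5b0573746d20251517631e3c1b702109537837523b6618572a7d310a14100d337926075f6e551201600335022d04474a303d,0x503f5c4e2f33534a490e0f524816512b7847027b753c3b0a6e1d5a73035b1a1b636a715d2d2e10203907362362241828647072602729121909353861441f5f15575e32696c04451e79663067054c773d74372c0b567a111355256f003a767c414d6814081c65462259173e7d546b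4b010642580c4f0d21403443312a266d,0x74227b436933494a0f245341471a79023c15616472084d18663b5d35030e686d386771283e102a50294b272f365b575a5c7077556213763f2c21042b075f0d480a1c6a237d6358113a6b7c324514754f20426537564e6f39266c1e00515946541d16407817093019125e0125526e442d1b0b050c311f734c347a3d2e6006,0x48124d7a112a071f62452f36154644147660081d51136a4c3d3228536c0a6d0604645f5a003e2d745873213577023c5d3b2e41266f61570e713a6322752c09503f347b721c38195427371b5c785b4931556b4a420d430f182017791023051669671a592403567c292b0c705e4b661e33304f40250b6552397d4e6e014768,0x6e761d63074a49030f5753413d5579400e4f4c3b6f24673c306a4e77331826485a5c3443655f0d6b616269442f0a087a4d711e0b232b05125e755d14276c7d31783e644b2a283f213a7c507b1913111b66161c680c04730237103556514574543260395b01172059582d092e5246362c151a22006d2572297038061f4247,0x7c58675d36035333493c0f526d4251130a0639322118645b747b386f4a780b4f433b70045e256c30406944624b080e636a347316074c3f45011e7a292f2e101b242c1d275f4e59777920664d7661354746262d55005a75141a1f720c3a226b415c372b57653e6e0519091c0d545023173d601256152a11027128487d6831,0x16055c0436095317543f510f1b3752242b30297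b75583b13471d7a720114310b286a1c4e5f7156464c2744236278124364656f68691922027d1e5a592f340c1a5b103207005d397779746e670e45352006506c485e3811086d70732c493c42414d6b570a2e253d18402a1f333a604b0d6626762d550321613e63154a7c4f,0x42227b387965351775396f734f15720214660564693f4d451a3b43232d0e20475d671c7a5f4a716e5b3a53525176574e5c2c6237541329406c362818410c030b612a6a49005a582f1e1b26322b19446d3d0625165e63271231704b09215948771d550878107d503c242e1f3311300f0d60460a3e7c34074c010468566b74,0x46454d4e2f10795f544c0f527c3d5176581b131d75616a1248325a6f6c3f374263640d5d70013e1a142736624b3c29283b2a73066908190a56773824440965160e347b071c045b3541550b5c39571e156d2071261f7a11226817722e49406e5367660518034a3102780c335e3a7423004f475925602c212b7d43502d306b,0xa34327a53463515750d737245596f7d2c057164692e6701403b4362371c76124e5c745a503166180049410f52706c044d684b2b3a5e332a6b36283e79166d024a1a6a546038252f1e19131d2d09444c583f3d782663271f6120231b211729777b39100c7c0b24655f064748112251555b3c566e083007034f5d1442570e,0x2c6e5c5d364079395430510f2a6c52606b65153211666a50707b7a6f027c014a636412045b182b2e1b0744624b6820283b3f7310271a463161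1e5a552f3c140326781d69134e4877411f2567470b351c34000a1724382116090e720849062d534d5642372205713d6d4c76593a5e23293e5f74573319754f58430d450c7d,0x482b4d63524a720c774c7511266821295860131d44056a240b324e27704016065a6403432c1f5f15195351543a145b7a3b710774793f3c615e625d390f7d25550e017b412a2876237337465c12574b66473d1c3134042f22201069563508306f671a0a452d177c02783e652e1e4249096d4f59336b6c361800386e0d501b,0x2c427b2807224976511a5341102579473765206a730b672600644e3505680171385c5b631302582a302369442f6d555a4d78772e4b1b166b45215d1527403f3448143b62124350113a0d7d32744f751c0c332b172904720609391e4c52462d541d4a3d313c18566e7c190e240f5e36593e1f606170086f660a7a5f57036c],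
    [(0, 0), (2, 0), (3, 0), (4, 0), (5, 0), (0, 1), (1, 1), (2, 1), (3, 1), (4, 1), (5, 1), (7, 1), (0, 2), (1, 2), (2, 2), (3, 2), (5, 2), (0, 3), (4, 3), (5, 3), (5, 4), (0, 5), (2, 5), (5, 5), (6, 5), (1, 6), (3, 6), (4, 6), (5, 6), (6, 6), (0, 7), (1, 7), (2, 7), (3, 7), (4, 7), (5, 7), (6, 7), (0, 8), (1, 8), (4, 8), (0, 9), (2, 9), (3, 9), (4, 9), (0, 10), (4, 10), (0, 11), (5, 11), (7, 11), (0, 12), (0, 13), (5, 13), (0, 14), (4, 14), (5, 15), (5, 16), (5, 17), (0, 18), (5, 20), (5, 21), (0, 22), (4, 23), (5, 23), (6, 24), (5, 25), (2, 26), (3, 26), (5, 26), (2, 27), (3, 27), (4, 27), (2, 29), (5, 29), (6, 29), (7, 29), (6, 30), (7, 34), (0, 41), (3, 50), (5, 56)], [[[1, 0], [6, 0], [13, 0], [18, 0], [8, 1], [22, 0], [19, 0], [31, 0], [38, 0], [41, 0], [45, 0], [47, 0], [50, 0], [51, 0], [53, 0], [37, 0], [35, 3], [43, 0], [58, 0], [44, 0], [10, 2], [36, 7], [61, 0], [49, 1], [39, 0], [34, 5], [55, 1], [5, 5], [64, 6], [4, 8], [60, 5], [59, 1], [66, 2], [28, 5], [69, 2], [72, 7], [75, 4], [29, 7], [16, 6], [70, 5], [27, 3], [78, 0], [74, 0], [76, 2], [71, 0], [23, 0], [67,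 6], [63, 7], [26, 4], [68, 8], [24, 4], [3, 5], [30, 4], [73, 0], [77, 8], [32, 4], [48, 1], [7, 8], [14, 8], [11, 8], [46, 5], [25, 3], [40, 1], [42, 4], [12, 5], [33, 1], [21, 8], [80, 4], [17, 2], [62, 4], [65, 6], [54, 8], [15, 5], [2, 7], [57, 8], [56, 4], [20, 2], [79, 7], [52, 6], [0, 1], [9, 2]], [[0, 7], [7, 0], [14, 0], [2, 1], [16, 1], [5, 7], [26, 0], [32, 0], [39, 0], [22, 4], [37, 4], [36, 0], [10, 8], [46, 4], [3, 3], [4, 1], [15, 1], [23, 7], [9, 7], [19, 7], [17, 1], [56, 1], [18, 1], [20, 4], [24, 7], [25, 7], [31, 7], [30, 4], [38, 8], [68, 0], [51, 4], [6, 6], [1, 0], [43, 4], [53, 1], [33, 8], [44, 2], [12, 0], [76, 0], [49, 6], [13, 0], [73, 2], [48, 7], [35, 0], [11, 5], [50, 5], [40, 8], [71, 8], [77, 1], [8, 7], [72, 8], [27, 4], [34, 7], [52, 4], [54, 7], [21, 1], [55, 1], [63, 7], [61, 4], [57, 1], [80, 1], [67, 2], [62, 7], [59, 4], [64, 7], [65, 7], [47, 8], [58, 6], [70, 1], [41, 3], [29, 3], [66, 8], [45, 7], [69, 7], [79, 8], [74, 0], [28, 4], [42, 4], [60, 1], [75, 4], [78, 1]], [[2, 0], [8, 0], [15, 0], [4, 5], [19, 5], [23, 0], [6, 4], [33, 0],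 [13, 4], [42, 0], [22, 8], [12, 3], [46, 0], [1, 8], [16, 4], [0, 0], [54, 3], [56, 5], [44, 3], [3, 5], [55, 2], [5, 5], [32, 0], [21, 2], [59, 5], [17, 1], [66, 0], [69, 0], [50, 2], [72, 0], [30, 4], [74, 0], [10, 4], [52, 1], [36, 1], [18, 5], [49, 8], [53, 1], [29, 7], [9, 8], [48, 3], [41, 4], [39, 4], [40, 0], [35, 4], [45, 4], [11, 1], [31, 7], [43, 1], [34, 2], [70, 6], [58, 1], [7, 3], [77, 7], [14, 5], [62, 2], [25, 6], [60, 2], [73, 0], [80, 0], [64, 8], [27, 7], [20, 2], [78, 0], [57, 1], [63, 1], [75, 3], [67, 4], [68, 4], [61, 6], [28, 4], [71, 4], [38, 6], [51, 3], [47, 6], [26, 1], [76, 4], [37, 4], [65, 3], [79, 4], [24, 2]], [[3, 0], [9, 0], [16, 0], [15, 5], [19, 0], [20, 0], [27, 0], [34, 0], [7, 4], [43, 0], [44, 0], [40, 3], [32, 8], [12, 8], [4, 4], [0, 2], [54, 6], [56, 0], [39, 2], [14, 8], [55, 5], [25, 3], [37, 0], [21, 5], [59, 0], [23, 4], [67, 0], [70, 0], [71, 0], [66, 5], [38, 4], [73, 2], [13, 8], [48, 7], [8, 8], [11, 5], [18, 8], [42, 4], [75, 7], [36, 1], [35, 4], [29, 4], [22, 8], [1, 0], [52, 6], [47, 3], [49, 1], [51, 4], [53, 7], [77, 2],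 [79, 0], [45, 5], [10, 7], [33, 7], [2, 7], [5, 2], [62, 0], [80, 0], [68, 5], [78, 5], [65, 3], [28, 2], [17, 0], [60, 5], [57, 4], [63, 4], [41, 3], [72, 7], [74, 4], [50, 2], [6, 0], [61, 5], [26, 6], [76, 7], [58, 3], [30, 1], [31, 3], [46, 8], [24, 2], [69, 5], [64, 8]], [[4, 0], [10, 0], [0, 5], [19, 0], [2, 2], [21, 0], [28, 0], [35, 0], [40, 0], [44, 0], [46, 0], [37, 7], [18, 1], [36, 1], [54, 0], [14, 3], [3, 5], [5, 5], [48, 1], [16, 2], [25, 3], [17, 2], [7, 8], [62, 0], [60, 0], [56, 4], [29, 3], [71, 0], [69, 8], [30, 6], [26, 8], [45, 7], [39, 8], [13, 0], [11, 5], [22, 4], [33, 3], [34, 8], [67, 4], [53, 6], [42, 0], [75, 8], [8, 0], [52, 6], [49, 1], [58, 0], [1, 0], [68, 7], [12, 1], [9, 3], [27, 1], [74, 7], [77, 3], [32, 3], [15, 1], [23, 5], [20, 5], [24, 5], [31, 6], [65, 3], [57, 2], [79, 6], [55, 2], [64, 8], [78, 7], [80, 4], [38, 0], [66, 8], [73, 3], [6, 4], [61, 5], [50, 3], [41, 0], [47, 2], [76, 6], [72, 4], [51, 0], [43, 8], [63, 5], [70, 1], [59, 5]], [[5, 0], [11, 0], [17, 0], [20, 0], [21, 0], [24, 0], [29, 0], [36, 0], [39, 2], [40, 3], [37, 7],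 [48, 0], [10, 3], [52, 0], [23, 7], [55, 0], [56, 0], [57, 0], [46, 1], [25, 3], [59, 0], [60, 0], [13, 7], [63, 0], [0, 0], [65, 0], [68, 0], [66, 5], [30, 6], [73, 0], [47, 1], [70, 2], [44, 2], [43, 7], [18, 8], [33, 3], [77, 1], [12, 2], [51, 1], [49, 8], [53, 8], [31, 1], [32, 7], [35, 2], [42, 3], [61, 6], [34, 2], [28, 5], [1, 0], [8, 1], [67, 3], [71, 6], [22, 6], [9, 6], [62, 7], [78, 0], [80, 0], [2, 0], [79, 7], [3, 0], [4, 0], [75, 7], [64, 8], [14, 6], [54, 5], [19, 1], [76, 1], [74, 4], [69, 7], [26, 6], [41, 8], [38, 5], [58, 8], [6, 0], [50, 5], [45, 0], [27, 6], [7, 3], [15, 0], [72, 5], [16, 0]], [[0, 1], [10, 8], [2, 1], [3, 1], [4, 1], [25, 0], [30, 0], [37, 0], [22, 4], [44, 8], [46, 8], [8, 7], [13, 0], [32, 0], [14, 1], [15, 1], [16, 1], [20, 7], [36, 0], [19, 1], [23, 4], [56, 4], [11, 1], [17, 1], [64, 0], [62, 6], [51, 4], [38, 4], [26, 8], [74, 0], [76, 0], [27, 1], [12, 0], [53, 1], [42, 4], [34, 8], [39, 7], [40, 0], [31, 7], [18, 6], [7, 0], [68, 0], [35, 0], [52, 1], [49, 5], [71, 2], [1, 8], [61, 1], [33, 1], [9, 7], [66, 6], [28, 0], [77, 7], [48,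 1], [54, 1], [21, 4], [55, 4], [63, 1], [50, 6], [57, 4], [78, 7], [72, 5], [5, 7], [59, 7], [65, 1], [24, 3], [58, 6], [45, 1], [79, 8], [29, 3], [75, 3], [67, 8], [47, 6], [70, 7], [69, 1], [73, 2], [6, 0], [43, 4], [80, 7], [41, 4], [60, 7]], [[0, 2], [12, 0], [3, 0], [14, 3], [15, 0], [25, 6], [27, 8], [10, 8], [9, 0], [36, 6], [13, 4], [49, 0], [40, 0], [7, 0], [2, 1], [16, 0], [4, 0], [23, 2], [11, 0], [19, 2], [17, 5], [21, 2], [44, 4], [20, 0], [64, 6], [62, 7], [30, 0], [28, 8], [6, 8], [75, 0], [38, 0], [51, 5], [37, 0], [34, 0], [77, 0], [52, 1], [8, 7], [46, 4], [26, 0], [22, 4], [1, 0], [29, 0], [43, 0], [53, 5], [39, 4], [47, 7], [32, 8], [58, 5], [35, 6], [18, 0], [71, 5], [76, 8], [48, 5], [42, 2], [54, 2], [55, 2], [56, 2], [57, 2], [45, 8], [59, 2], [80, 5], [50, 1], [5, 0], [63, 2], [65, 2], [24, 4], [67, 0], [72, 2], [74, 0], [70, 0], [79, 7], [61, 6], [66, 5], [68, 5], [73, 2], [41, 0], [31, 7], [33, 0], [60, 5], [69, 6], [78, 5]]]⟩,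
  ⟨2, [0x6c267b432718543c52315341567079305025466a7248677c2c64041e0e6b0d1c5a5c14280829764a6e23072f364f6d7a4d2b35714b0b376039214e1a6961053e1b573b6222631611490333320655752e2d09242a195d6f667d4c77450f3d5f3a1d17201558125e4742023f78511044401f346859650a737413380c5b0100,0x2546644e3a3c75597220357771701e66067d6e672316326b095c38362b550d1c287b0e5d12050a5626524941797431431d14444a0f47153058077a0b544c22014f084d51290442272134336a3d7c69103e65022e135a62606c5b2f1973505f113b176d683f575e1a484039766f2a53241f0c37182c784b1b456303612d00], [0x7d7c7b7a797877767574737271706f6e6d6c6b6a696867666564636261605f5e5d5c5b5a595857565554535251504f4e4d4c4b4a494847464544434241403f3e3d3c3b3a393837363534333231302f2e2d2c2b2a292827262524232221201f1e1d1c1b1a191817161514131211100f0e0d0c0b0a09080706050403020100,0x6c267b432718543c52315341567079305025466a7248677c2c64041e0e6b0d1c5a5c14280829764a6e23072f364f6d7a4d2b35714b0b376039214e1a6961053e1b573b6222631611490333320655752e2d09242a195d6f667d4c77450f3d5f3a1d17201558125e4742023f78511044401f346859650a737413380c5b0100,0x2546644e3a3c75597220357771701e66067d6e672316326b095c38362b550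d1c287b0e5d12050a5626524941797431431d14444a0f47153058077a0b544c22014f084d51290442272134336a3d7c69103e65022e135a62606c5b2f1973505f113b176d683f575e1a484039766f2a53241f0c37182c784b1b456303612d00,0x25667b4e6f1223572f0607694a7027554f7d606a410b67260964383a40461f17285c025d0a193c7130777375116d50434d2449563568166b220f7a15720e133e20763b1e450447514b0c3332746e522e2d654c2a585a797c6c2b5439441b0d621d5e3d4229781c371a5b0518361021615f0348082c5953313f6334140100,0x7d60647a62575208413d495456703a7c746c306777473246655c6311246e1f175d7b405a7813594a662f4b692731064e1d0221714437425529734368232b45016d0a4d3619381a6f0f03336a1b2672103e2c5b2e3f281e6b25147558534f0d513b5e504805761c150b61223c792a074c5f3416120918352039040c0e2d00,0x6c305c4351087212775021757170116b1b2566322f1a6a6e2c7b042702261f175a6424287645185660410f543a203d7a3b40074a5315487c054b4e375214192d31781d7913630b62733433674f46232a01096110395d36557d0e693f35740d6f4d5e0616220a1c68474c29591e2e495b5f0c4257653c446d5838032b3e00,0x6c6b64431e762f0a691b4b234a70622631255567543732602c5c04514c305f5e5a7b6128183f08717c7535726f06747a1d5b0f5621161a6e19534e487724390150594d1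158631579440c336a206641103e09142e055d3a467d025229076d1f363b1c4f0b133c1742680e4557272a732b0d0347786512493d223834402d00,0x25555c4e360a4178544f0f5256705146207d7c3275156a30097b386f5b665f5e28644c5d3c39124a6b694423623d1b433b61737107420b2613357a162f02582d06181d273f04681e530333676d60772a01650e10225a116e6c40720549311f794d1c744745591748372b19083a2e4b140d341a762c57215029630c243e00,0x7d6e5c7a11596918236d442f4a7036603d6c263252426a55657b6379147c0d1c5d642b5a57227871467221771e1b204e3b0e5356731a68663f494347755b292d74121d6f0538483a070c3367506b542a012c401045285130256141134b065f274d17313739085e0b1624580a622e35021f03153c09760f4f1904344c3e00],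
    [(0, 0), (1, 0), (0, 1), (1, 1), (1, 2), (1, 3), (1, 4), (1, 6)], [[[1], [3], [4], [0], [6], [7], [2], [8], [5]], [[2], [4], [5], [6], [7], [0], [8], [1], [3]]]⟩]

/-- The program inside the subgroup. -/
def threeUFourSubSlp : List (ℕ × Bool × ℕ × ℕ) := [
  (0x7d7c7b7a797877767574737271706f6e6d6c6b6a696867666564636261605f5e5d5c5b5a595857565554535251504f4e4d4c4b4a494847464544434241403f3e3d3c3b3a393837363534333231302f2e2d2c2b2a292827262524232221201f1e1d1c1b1a191817161514131211100f0e0d0c0b0a09080706050403020100, true, 0, 0),
  (0x5e501d4e73142359443769271f100746201c1a6479745c6d713b383a18422c34284d0e5d39050a5f6b777221753d1b436719490d35310b1557517a306f784c007c086a1e760468524b7d2e7b16600f2d3356583e135a534f1729543c36666562320326553f020c486e40245b2f011112092506454a2241472b636c61702a, false, 2, 1),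
  (0x34476a4e49122102726e771e653e35462003064d62261d160d67382f08314a252832585d053c142c6b0f5441793d1b437b24360951660b7422077a6d3a590e2a1a5b5c5245046827111c013b306069002e1f4c70575a4b370c2b443973425675647d155076786c484f2961186f33530a715e7c3f5f13235540631719102d, false, 2, 7),
  (0x6c267b432718543c52315341567079305025466a7248677c2c64041e0e6b0d1c5a5c14280829764a6e23072f364f6d7a4d2b35714b0b376039214e1a6961053e1b573b6222631611490333320655752e2d09242a195d6f667d4c77450f3d5f3a1d17201558125e4742023f78511044401f346859650a737413380c5b0100, false, 3, 8),
  (0x306677a7502693f62153644093e2f37300c6b1d0f683b311f32637924604a255d6a085a780e13654772111e35556e4e6458532c7348504676544366212b45103d057b6f3c384f49075e014d42163a332a5f29004028527434194157232056275c7d1b7c615b6c6d260a22144b70774c71170b120d18511a39041c592e2d, false, 2, 2),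
  (0x2546644e3a3c75597220357771701e66067d6e672316326b095c38362b550d1c287b0e5d12050a5626524941797431431d14444a0f47153058077a0b544c22014f084d51290442272134336a3d7c69103e65022e135a62606c5b2f1973505f113b176d683f575e1a484039766f2a53241f0c37182c784b1b456303612d00, false, 3, 10)]

end CfsgLib.TailsData
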