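import Cfsg.Agent.Lib.Tails.USixChecks
import Cfsg.Agent.Lib.Known.SULift.Split

/-!
# The bound on the multiplier of the special unitary group of degree six over four elements
-/

set_option autoImplicit false
set_option maxRecDepth 100000

namespace CfsgLib.Schur.Tails.USix

open CfsgLib.J3 CfsgLib.Golay CfsgLib.TailsData CfsgLib.He Matrix
open scoped commutatorElement

attribute [local irreducible] twoUSixCert twoUSixPair twoUSixGens twoUSixHs twoUSixLevels

variable {F : Type} [Field F] (K : Fld F)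

/-- The element of a code of an involution. -/
noncomputable def liftS (a : ℕ) : ↥(Cfsg.SU 6 F 2) :=
  if h : SixFour.okS a = true ∧ SixFour.mulC a a = SixFour.oneC then
    ⟨⟨SixFour.mat K a, SixFour.det_of_invol K h.2⟩, SixFour.isometry_of_ok K h.1⟩
  else 1

/-- The matrices of the elements. -/
noncomputable def matHom : ↥(Cfsg.SU 6 F 2) →* Matrix (Fin 6) (Fin 6) F :=
  (Cfsg.slToMat 6 F).comp (Cfsg.SU 6 F 2).subtype

theorem matHom_inj {A B : ↥(Cfsg.SU 6 F 2)} (h : matHom A = matHom B) : A = B :=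
  Subtype.ext (Subtype.ext h)

theorem liftS_mat {a : ℕ} (h : (SixFour.okS a && (SixFour.mulC a a == SixFour.oneC)) = true) :
    matHom (liftS K a) = SixFour.mat K a := by
  rw [Bool.and_eq_true, beq_iff_eq] at h
  rw [liftS, dif_pos h]
  rfl

include K in
theorem exists_gens (hG : ¬ 2 ^ 16 ∣ Nat.card ↥(Cfsg.SU 6 F 2)) [Finite ↥(Cfsg.SU 6 F 2)]
    [Finite (Cfsg.GU 6 F 2)] :
    ∃ g : ℕ → ↥(Cfsg.SU 6 F 2), (∀ r ∈ twoUSixCert.rels, evW g r.1 = evW g r.2) ∧
    (∀ f ∈ twoUSixCert.fus, ∃ h : ↥(Cfsg.SU 6 F 2), ∀ k < f.xs.length,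
      h * evW g (f.xs.getD k []) = evW g (f.ys.getD k []) * h) ∧
    twoUSixCert.p ^ twoUSixCert.n ≤ Nat.card (Subgroup.closure (g '' {k | k < twoUSixCert.n})) ∧
    ¬ twoUSixCert.p ^ (twoUSixCert.n + 1) ∣ Nat.card ↥(Cfsg.SU 6 F 2) := by
  have hd := two_data
  simp only [dataB, Bool.and_eq_true, decide_eq_true_eq, List.mem_range, List.all_eq_true,
    List.contains_iff_mem] at hd
  obtain ⟨⟨⟨⟨⟨⟨hg, hh⟩, hlen⟩, hhlen⟩, hrel⟩, hfus⟩, hlv⟩ := hd
  obtain ⟨⟨hp, -, hn⟩, hprod⟩ := two_sizes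
  let g : ℕ → ↥(Cfsg.SU 6 F 2) := fun i =>
    if h : i < twoUSixGens.length then liftS K twoUSixGens[i] else 1
  have hgm : ∀ i, matHom (g i) = SixFour.mat K (twoUSixGens.getD i SixFour.oneC) := fun i => by
    simp only [g]
    split_ifs with hi
    · rw [List.getD_eq_getElem _ _ hi, liftS_mat K]
      exact Bool.and_eq_true_iff.2 (hg _ (List.getElem_mem hi))
    · rw [List.getD_eq_default _ _ (by omega), SixFour.mat_oneC, map_one]
  have hev : ∀ w, matHom (evW g w) = SixFour.mat K (evC w) := by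
    intro w
    induction w with
    | nil => simp [evW, evC, SixFour.mat_oneC]
    | cons i w ih =>
      rw [evC, SixFour.mat_mulC, ← hgm, ← ih, ← map_mul]
      congr 1
  refine ⟨g, fun r hr => matHom_inj ?_, fun f hf => ?_, ?_, by rw [hp, hn]; exact hG⟩
  · rw [hev, hev, eq_of_beq (hrel r hr)]
  · obtain ⟨i, hi, rfl⟩ := List.getElem_of_mem hf
    have hi' : i < twoUSixHs.length := by omega
    have h1 := hfus i hi
    simp only [List.getD_eq_getElem _ _ hi, List.getD_eq_getElem _ _ hi', beq_iff_eq] at h1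
    have hprodC : ∀ l : List ℕ, (∀ a ∈ l, (SixFour.okS a && (SixFour.mulC a a == SixFour.oneC)) = true) →
        matHom ((l.map (liftS K)).prod) = SixFour.mat K (prodC l) := by
      intro l
      induction l with
      | nil => intro _; simp [prodC, SixFour.mat_oneC]
      | cons a l ih =>
        intro hl
        rw [List.map_cons, List.prod_cons, map_mul, ih fun b hb => hl b (List.mem_cons_of_mem _ hb),
          liftS_mat K (hl a List.mem_cons_self), prodC, SixFour.mat_mulC]
    refine ⟨((twoUSixHs[i]).map (liftS K)).prod, fun k hk => matHom_inj ?_⟩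
    rw [map_mul, map_mul, hev, hev,
      hprodC _ fun a ha => Bool.and_eq_true_iff.2 (hh _ (List.getElem_mem hi') a ha),
      ← SixFour.mat_mulC, ← SixFour.mat_mulC, h1 k hk]
  · have hc := (Bsgs.spec (SixFour.ops K) (fun f hf => absurd hf List.not_mem_nil) (two_chain K)).2.2.2.1
    rw [hprod] at hc
    rw [hp, hn, ← hc]
    let ι : ↥(Cfsg.SU 6 F 2) →* Cfsg.GU 6 F 2 :=
      { toFun := fun A => ⟨SpecialLinearGroup.toGL A.1, A.2⟩
        map_one' := Subtype.ext (map_one _)
        map_mul' := fun A B => Subtype.ext (map_mul _ _ _) }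
    have hι : Function.Injective ι := fun A B e => matHom_inj
      (congrArg (fun x : Cfsg.GU 6 F 2 => (x.1 : Matrix (Fin 6) (Fin 6) F)) e)
    rw [← Subgroup.card_map_of_injective hι (K := Subgroup.closure _), MonoidHom.map_closure]
    refine Nat.card_le_card_of_injective (Subgroup.inclusion (Subgroup.closure_mono ?_))
      (Subgroup.inclusion_injective _)
    rintro _ ⟨r, hr, rfl⟩
    obtain ⟨i, hi, rfl⟩ := List.getElem_of_mem (hlv r hr)
    refine ⟨g i, ⟨i, show i < 15 by omega, rfl⟩, ?_⟩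
    have hok : SixFour.okS twoUSixGens[i] = true := (hg _ (List.getElem_mem hi)).1
    refine Subtype.ext (Units.ext ?_)
    show matHom (g i) = _
    rw [hgm, List.getD_eq_getElem _ _ hi]
    exact (SixFour.val_mat K hok).symm

include K in
/-- Stem extensions have no odd part in their kernels. -/
theorem hodd [Fintype F] (hF : Fintype.card F = 4) {Γ : Type} [Group Γ] [Finite Γ]
    (σ : Γ →* ↥(Cfsg.SU 6 F 2)) (hσ : Cfsg.IsStemExtension σ) :
    ∀ r : ℕ, r.Prime → r ≠ 2 → ¬ r ∣ Nat.card σ.ker := by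
  haveI : CharP F 2 := CharTwo.of_one_ne_zero_of_two_eq_zero one_ne_zero K.two
  intro r hr hr2 hdvd
  haveI := Fact.mk hr
  have hN := kerPow_normal hσ.2.1 r
  let N := kerPow hσ.2.1 r
  have hσ' := isStem_quotient hσ N (kerPow_le _ _)
  have hp : IsPGroup r (QuotientGroup.lift N σ (kerPow_le _ _)).ker := by
    rintro ⟨x, hx⟩
    rw [QuotientGroup.ker_lift] at hx
    obtain ⟨y, hy, rfl⟩ := hx
    refine ⟨1, Subtype.ext ?_⟩
    rw [pow_one, Subgroup.coe_pow, ← map_pow]
    exact (QuotientGroup.eq_one_iff (N := N) _).2 ⟨y, hy, rfl⟩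
  have hbot : ∀ y ∈ σ.ker, y ∈ N := by
    intro y hy
    refine (QuotientGroup.eq_one_iff (N := N) y).1 ?_
    have hm : (QuotientGroup.mk y : Γ ⧸ N) ∈ (QuotientGroup.lift N σ (kerPow_le _ _)).ker := by
      rw [QuotientGroup.ker_lift]; exact ⟨y, hy, rfl⟩
    refine CfsgLib.Known.SULift.univ_prime.{0} (q := 2) (p := 2) (by rw [hF]; norm_num) hr hr2 6
      (Γ ⧸ N) _ hσ'.1 hσ'.2.1 hp _ hm ?_
    rw [Subgroup.comap_top]
    exact hσ'.2.2 hm
  have hsurj : Function.Surjective fun y : σ.ker => y ^ r := fun y => by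
    obtain ⟨x, hx, e⟩ := hbot y.1 y.2
    exact ⟨⟨x, hx⟩, Subtype.ext e⟩
  obtain ⟨a, ha⟩ := exists_prime_orderOf_dvd_card' r hdvd
  have e : a ^ r = (1 : σ.ker) ^ r := by rw [one_pow, ← ha, pow_orderOf_eq_one]
  have := (Finite.injective_iff_surjective.2 hsurj) e
  rw [this, orderOf_one] at ha
  exact hr.one_lt.ne ha

theorem card_su0 [Fintype F] (hF : Fintype.card F = 4) :
    Nat.card ↥(Cfsg.SU 6 F 2) = 27590492160 := by
  have hF2 : Fintype.card F = 2 ^ 2 := by rw [hF]; norm_num
  have h := CfsgLib.Classical.card_su (n := 6) hF2 (by norm_num)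
  have e : CfsgLib.Classical.unitaryOrder 2 6 = 82771476480 := by
    simp only [CfsgLib.Classical.unitaryOrder, Finset.prod_range_succ, Finset.prod_range_zero]
    decide
  omega

include K in
/-- The kernel of a stem extension of the special unitary group is a quotient of a four-group. -/
theorem bound [Fintype F] (hF : Fintype.card F = 4) {Γ : Type} [Group Γ] [Finite Γ]
    (σ : Γ →* ↥(Cfsg.SU 6 F 2)) (hσ : Cfsg.IsStemExtension σ) :
    ∃ π : Multiplicative (ZMod 2 × ZMod 2) →* σ.ker, Function.Surjective π := by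
  haveI : Finite (GL (Fin 6) F) := Finite.of_injective _ Units.val_injective
  obtain ⟨⟨hp, hq, -⟩, -⟩ := two_sizes
  have he : twoUSixPair.base = twoUSixCert := by unfold twoUSixPair; rfl
  have hr : twoUSixPair.Realised ↥(Cfsg.SU 6 F 2) := ⟨two_cert, by
    rw [he]; exact exists_gens K (by rw [card_su0 hF]; decide)⟩
  exact hr.pair_two (he ▸ hp) (he ▸ hq) hσ (hodd K hF σ hσ)

end CfsgLib.Schur.Tails.USix
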