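import Cfsg.Agent.Lib.Tails.CertTwo
import Cfsg.Agent.Lib.Golay.Bsgs

/-!
Generated data: the certificate for the multiplier of the special unitary group of degree six over four elements.
-/

set_option autoImplicit false
set_option maxRecDepth 100000

namespace CfsgLib.TailsData

open CfsgLib

/-- Overlaps. -/
def twoUSixOverlaps0 : List (List ℕ × List Schur.Tails.Step × List Schur.Tails.Step) := [
  ([0, 1, 2], [(0, 15, true), (1, 16, true), (0, 32, true), (1, 29, true), (0, 75, true)], [(1, 29, true), (0, 20, true), (1, 16, true), (3, 15, true)]),
  ([0, 1, 3], [(0, 15, true), (1, 17, true), (0, 33, true), (1, 30, true), (0, 6, true)], [(1, 30, true), (0, 20, true), (1, 19, true), (2, 17, true), (1, 75, true), (0, 6, true), (2, 15, true)]),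
  ([0, 1, 7], [(0, 15, true), (1, 21, true), (0, 36, true), (1, 34, true), (0, 105, true)], [(1, 34, true), (0, 24, true), (1, 21, true), (3, 15, true)]),
  ([0, 1, 8], [(0, 15, true), (1, 22, true), (0, 37, true), (1, 35, true), (0, 10, true)], [(1, 35, true), (0, 24, true), (1, 23, true), (2, 22, true), (1, 105, true), (0, 10, true), (2, 15, true)]),
  ([0, 1, 11], [(0, 15, true), (1, 25, true), (0, 41, true), (1, 39, true), (0, 14, true), (1, 38, true), (0, 118, true), (1, 117, true)], [(1, 38, true), (0, 28, true), (1, 27, true), (0, 14, true), (1, 25, true), (0, 119, true), (4, 15, true)]),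
  ([0, 1, 12], [(0, 15, true), (1, 26, true), (0, 39, true)], [(1, 39, true), (0, 28, true), (1, 26, true), (2, 15, true)]),
  ([0, 1, 13], [(0, 15, true), (1, 27, true), (0, 41, true), (1, 40, true)], [(1, 40, true), (0, 27, true), (2, 15, true)]),
  ([0, 2, 3], [(0, 16, true), (2, 17, true), (1, 45, true), (0, 75, true), (2, 42, true)], [(1, 42, true), (0, 17, true), (2, 16, true), (1, 55, true)]),
  ([0, 2, 4], [(0, 16, true), (2, 18, true), (1, 43, true), (0, 80, true), (1, 76, true), (0, 114, true)], [(1, 43, true), (0, 25, true), (3, 21, true), (5, 18, true), (6, 16, true), (5, 65, true), (4, 98, true), (3, 109, true), (2, 116, true), (1, 118, true), (0, 14, true), (3, 93, true), (2, 9, true)]),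
  ([0, 2, 6], [(0, 16, true), (2, 20, true), (1, 45, true), (0, 75, true)], [(1, 45, true), (0, 20, true), (1, 16, true)]),
  ([0, 2, 7], [(0, 16, true), (2, 21, true), (1, 48, true), (0, 81, true), (1, 78, true), (3, 46, true), (2, 76, true), (1, 107, true), (0, 12, true)], [(1, 46, true), (0, 21, true), (2, 16, true)]),
  ([0, 2, 8], [(0, 16, true), (2, 22, true), (1, 49, true), (0, 82, true), (1, 79, true), (0, 119, true), (4, 47, true), (3, 80, true), (2, 110, true), (4, 77, true), (3, 112, true), (2, 115, true), (1, 13, true), (2, 111, true), (1, 114, true)], [(1, 47, true), (0, 25, true), (3, 22, true), (5, 16, true)]),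
  ([0, 2, 9], [(0, 16, true), (2, 23, true), (1, 48, true), (0, 81, true), (1, 78, true)], [(1, 48, true), (0, 26, true), (1, 23, true), (2, 16, true)]),
  ([0, 2, 10], [(0, 16, true), (2, 24, true), (1, 49, true), (0, 82, true), (1, 79, true), (0, 119, true)], [(1, 49, true), (0, 27, true), (2, 24, true), (3, 16, true)]),
  ([0, 2, 11], [(0, 16, true), (2, 25, true), (1, 53, true), (0, 83, true), (2, 51, true), (1, 81, true), (3, 50, true), (2, 80, true)], [(1, 50, true), (0, 25, true), (3, 16, true)]),
  ([0, 2, 12], [(0, 16, true), (2, 26, true), (1, 51, true), (0, 81, true)], [(1, 51, true), (0, 26, true), (1, 16, true)]),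
  ([0, 2, 13], [(0, 16, true), (2, 27, true), (1, 53, true), (0, 83, true), (2, 52, true), (1, 82, true)], [(1, 52, true), (0, 27, true), (2, 16, true)]),
  ([0, 2, 14], [(0, 16, true), (2, 28, true), (1, 53, true), (0, 83, true)], [(1, 53, true), (0, 28, true), (1, 16, true)]),
  ([0, 3, 4], [(0, 17, true), (2, 18, true), (1, 54, true), (0, 88, true), (1, 85, true), (0, 114, true)], [(1, 54, true), (0, 25, true), (3, 22, true), (5, 18, true), (6, 17, true), (5, 66, true), (4, 104, true), (3, 113, true), (2, 116, true), (1, 118, true), (0, 14, true), (3, 100, true), (2, 10, true)]),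
  ([0, 3, 7], [(0, 17, true), (2, 21, true), (1, 59, true), (0, 90, true), (1, 89, true), (2, 86, true), (1, 118, true), (0, 119, true), (5, 57, true), (4, 88, true), (3, 106, true), (5, 84, true), (4, 108, true), (3, 115, true), (2, 117, true), (1, 13, true)], [(1, 57, true), (0, 25, true), (3, 21, true), (5, 17, true)]),
  ([0, 3, 8], [(0, 17, true), (2, 22, true), (1, 60, true), (0, 89, true), (1, 87, true), (3, 58, true), (2, 85, true), (1, 111, true), (0, 12, true)], [(1, 58, true), (0, 22, true), (2, 17, true)]),
  ([0, 3, 9], [(0, 17, true), (2, 23, true), (1, 59, true), (0, 90, true), (1, 89, true), (2, 86, true), (1, 118, true), (0, 119, true)], [(1, 59, true), (0, 27, true), (2, 26, true), (3, 23, true), (4, 17, true)]),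
  ([0, 3, 10], [(0, 17, true), (2, 24, true), (1, 60, true), (0, 89, true), (1, 87, true)], [(1, 60, true), (0, 26, true), (1, 24, true), (2, 17, true)]),
  ([0, 3, 11], [(0, 17, true), (2, 25, true), (1, 64, true), (0, 91, true), (2, 62, true), (1, 89, true), (3, 61, true), (2, 88, true)], [(1, 61, true), (0, 25, true), (3, 17, true)]),
  ([0, 3, 12], [(0, 17, true), (2, 26, true), (1, 62, true), (0, 89, true)], [(1, 62, true), (0, 26, true), (1, 17, true)]),
  ([0, 3, 13], [(0, 17, true), (2, 27, true), (1, 64, true), (0, 91, true), (2, 63, true), (1, 90, true)], [(1, 63, true), (0, 27, true), (2, 17, true)]),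
  ([0, 3, 14], [(0, 17, true), (2, 28, true), (1, 64, true), (0, 91, true)], [(1, 64, true), (0, 28, true), (1, 17, true)]),
  ([0, 4, 5], [(0, 18, true), (1, 19, true), (0, 65, true)], [(1, 65, true), (0, 28, true), (1, 23, true), (2, 19, true), (3, 18, true)]),
  ([0, 4, 6], [(0, 18, true), (1, 20, true), (0, 66, true)], [(1, 66, true), (0, 28, true), (1, 24, true), (2, 20, true), (3, 18, true)]),
  ([0, 4, 7], [(0, 18, true), (1, 21, true), (0, 69, true), (1, 67, true)], [(1, 67, true), (0, 21, true), (2, 18, true)]),
  ([0, 4, 8], [(0, 18, true), (1, 22, true), (0, 70, true), (1, 68, true)], [(1, 68, true), (0, 22, true), (2, 18, true)]),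
  ([0, 4, 11], [(0, 18, true), (1, 25, true), (0, 74, true), (1, 72, true), (2, 71, true)], [(1, 71, true), (0, 25, true), (3, 18, true)]),
  ([0, 4, 13], [(0, 18, true), (1, 27, true), (0, 74, true), (1, 73, true)], [(1, 73, true), (0, 27, true), (2, 18, true)]),
  ([0, 5, 7], [(0, 19, true), (1, 21, true), (0, 78, true), (1, 76, true), (0, 107, true)], [(1, 76, true), (0, 26, true), (1, 21, true), (3, 19, true)]),
  ([0, 5, 8], [(0, 19, true), (1, 22, true), (0, 79, true), (2, 77, true), (1, 112, true), (2, 111, true)], [(1, 77, true), (0, 27, true), (2, 26, true), (3, 22, true), (5, 19, true)]),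
  ([0, 6, 7], [(0, 20, true), (1, 21, true), (0, 86, true), (2, 84, true), (1, 108, true)], [(1, 84, true), (0, 27, true), (2, 21, true), (4, 20, true)]),
  ([0, 6, 8], [(0, 20, true), (1, 22, true), (0, 87, true), (1, 85, true), (0, 111, true)], [(1, 85, true), (0, 26, true), (1, 22, true), (3, 20, true)]),
  ([0, 7, 8], [(0, 21, true), (2, 22, true), (1, 94, true), (0, 105, true), (2, 92, true)], [(1, 92, true), (0, 22, true), (2, 21, true), (1, 99, true)]),
  ([0, 7, 10], [(0, 21, true), (2, 24, true), (1, 94, true), (0, 105, true)], [(1, 94, true), (0, 24, true), (1, 21, true)]),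
  ([0, 7, 11], [(0, 21, true), (2, 25, true), (1, 98, true), (0, 109, true), (2, 96, true), (1, 107, true), (3, 95, true), (2, 106, true)], [(1, 95, true), (0, 25, true), (3, 21, true)]),
  ([0, 7, 13], [(0, 21, true), (2, 27, true), (1, 98, true), (0, 109, true), (2, 97, true), (1, 108, true)], [(1, 97, true), (0, 27, true), (2, 21, true)]),
  ([0, 7, 14], [(0, 21, true), (2, 28, true), (1, 98, true), (0, 109, true)], [(1, 98, true), (0, 28, true), (1, 21, true)]),
  ([0, 8, 11], [(0, 22, true), (2, 25, true), (1, 104, true), (0, 113, true), (2, 102, true), (1, 111, true), (3, 101, true), (2, 110, true)], [(1, 101, true), (0, 25, true), (3, 22, true)]),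
  ([0, 8, 13], [(0, 22, true), (2, 27, true), (1, 104, true), (0, 113, true), (2, 103, true), (1, 112, true)], [(1, 103, true), (0, 27, true), (2, 22, true)]),
  ([0, 8, 14], [(0, 22, true), (2, 28, true), (1, 104, true), (0, 113, true)], [(1, 104, true), (0, 28, true), (1, 22, true)]),
  ([0, 11, 12], [(0, 25, true), (3, 26, true), (2, 114, true), (1, 12, true)], [(1, 114, true), (0, 26, true), (1, 25, true), (0, 118, true), (1, 12, true)]),
  ([0, 11, 13], [(0, 25, true), (3, 27, true), (2, 116, true), (1, 118, true), (0, 14, true), (1, 115, true), (0, 117, true)], [(1, 115, true), (0, 27, true), (2, 25, true), (1, 119, true), (0, 14, true)]),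
  ([1, 2, 3], [(0, 29, true), (2, 30, true), (1, 45, true), (0, 6, true), (0, 44, true), (1, 42, true)], [(1, 42, true), (0, 30, true), (3, 29, true), (2, 56, true), (1, 75, true), (0, 6, true)]),
  ([1, 2, 4], [(0, 29, true), (2, 31, true), (1, 43, true), (0, 88, true), (1, 84, true), (0, 115, true)], [(1, 43, true), (0, 38, true), (3, 34, true), (5, 31, true), (6, 29, true), (5, 66, true), (4, 98, true), (3, 113, true), (2, 116, true), (1, 119, true), (0, 14, true), (3, 94, true), (2, 10, true)]),
  ([1, 2, 7], [(0, 29, true), (2, 34, true), (1, 49, true), (0, 90, true), (1, 87, true), (3, 46, true), (2, 84, true), (1, 112, true), (0, 13, true)], [(1, 46, true), (0, 34, true), (2, 29, true)]),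
  ([1, 2, 8], [(0, 29, true), (2, 35, true), (1, 49, true), (0, 90, true), (1, 87, true), (3, 48, true), (2, 89, true), (1, 111, true), (3, 86, true), (2, 113, true), (1, 118, true), (0, 119, true), (6, 47, true), (5, 88, true), (4, 106, true), (3, 110, true), (6, 85, true), (5, 107, true), (4, 111, true), (3, 114, true), (2, 12, true)], [(1, 47, true), (0, 38, true), (3, 35, true), (6, 29, true)]),
  ([1, 2, 9], [(0, 29, true), (2, 36, true), (1, 48, true), (0, 89, true), (1, 86, true), (0, 118, true)], [(1, 48, true), (0, 39, true), (2, 36, true), (3, 29, true)]),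
  ([1, 2, 10], [(0, 29, true), (2, 37, true), (1, 49, true), (0, 90, true), (1, 87, true)], [(1, 49, true), (0, 40, true), (1, 37, true), (2, 29, true)]),
  ([1, 2, 11], [(0, 29, true), (2, 38, true), (1, 53, true), (0, 91, true), (2, 52, true), (1, 90, true), (3, 50, true), (2, 88, true)], [(1, 50, true), (0, 38, true), (3, 29, true)]),
  ([1, 2, 12], [(0, 29, true), (2, 39, true), (1, 53, true), (0, 91, true), (2, 51, true), (1, 89, true)], [(1, 51, true), (0, 39, true), (2, 29, true)]),
  ([1, 2, 13], [(0, 29, true), (2, 40, true), (1, 52, true), (0, 90, true)], [(1, 52, true), (0, 40, true), (1, 29, true)]),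
  ([1, 3, 4], [(0, 30, true), (3, 31, true), (2, 54, true), (1, 80, true), (0, 88, true), (2, 77, true), (1, 90, true), (0, 115, true), (2, 89, true), (1, 114, true), (3, 85, true), (2, 114, true), (1, 12, true)], [(1, 54, true), (0, 38, true), (3, 35, true), (6, 31, true), (7, 30, true), (6, 66, true), (5, 104, true), (4, 109, true), (3, 113, true), (2, 116, true), (1, 119, true), (0, 14, true), (4, 100, true), (3, 105, true), (2, 10, true), (5, 65, true), (4, 91, true), (3, 104, true), (2, 109, true), (1, 116, true), (0, 119, true), (5, 86, true), (4, 104, true), (3, 109, true), (2, 116, true), (1, 119, true), (0, 14, true), (3, 99, true), (2, 9, true)]),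
  ([1, 3, 7], [(0, 30, true), (3, 34, true), (2, 60, true), (1, 81, true), (0, 89, true), (2, 79, true), (1, 91, true), (0, 118, true), (2, 87, true), (5, 57, true), (4, 80, true), (3, 88, true), (2, 110, true), (5, 76, true), (4, 89, true), (3, 111, true), (2, 114, true), (1, 12, true), (3, 84, true), (2, 112, true), (1, 115, true)], [(1, 57, true), (0, 38, true), (3, 34, true), (5, 30, true)]),
  ([1, 3, 8], [(0, 30, true), (3, 35, true), (2, 60, true), (1, 81, true), (0, 89, true), (2, 79, true), (1, 91, true), (0, 118, true), (2, 87, true), (5, 59, true), (4, 82, true), (3, 90, true), (2, 112, true), (1, 117, true), (5, 81, true), (4, 89, true), (3, 111, true), (2, 12, true), (4, 78, true), (3, 86, true), (2, 113, true), (1, 119, true), (0, 14, true), (5, 58, true), (4, 77, true), (3, 90, true), (2, 108, true), (1, 112, true), (0, 13, true), (2, 89, true), (1, 107, true), (0, 111, true), (3, 85, true), (2, 107, true), (1, 111, true), (0, 12, true)], [(1, 58, true), (0, 35, true), (3, 30, true)]),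
  ([1, 3, 11], [(0, 30, true), (3, 38, true), (2, 64, true), (1, 83, true), (0, 91, true), (3, 63, true), (2, 82, true), (1, 90, true), (4, 61, true), (3, 80, true), (2, 88, true)], [(1, 61, true), (0, 38, true), (3, 30, true)]),
  ([1, 4, 11], [(0, 31, true), (1, 38, true), (0, 74, true), (1, 73, true), (2, 71, true)], [(1, 71, true), (0, 38, true), (3, 31, true)]),
  ([1, 5, 7], [(0, 32, true), (1, 34, true), (0, 79, true), (2, 76, true), (1, 111, true)], [(1, 76, true), (0, 39, true), (2, 34, true), (4, 32, true)]),
  ([1, 5, 8], [(0, 32, true), (1, 35, true), (0, 79, true), (2, 78, true), (3, 77, true), (2, 108, true), (1, 112, true), (3, 107, true), (2, 111, true)], [(1, 77, true), (0, 40, true), (1, 39, true), (0, 119, true), (3, 35, true), (6, 32, true)]),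
  ([1, 7, 8], [(0, 34, true), (2, 35, true), (1, 94, true), (0, 10, true), (0, 93, true), (1, 92, true)], [(1, 92, true), (0, 35, true), (3, 34, true), (2, 100, true), (1, 105, true), (0, 10, true)]),
  ([1, 7, 11], [(0, 34, true), (2, 38, true), (1, 98, true), (0, 113, true), (2, 97, true), (1, 112, true), (3, 95, true), (2, 110, true)], [(1, 95, true), (0, 38, true), (3, 34, true)]),
  ([1, 8, 11], [(0, 35, true), (3, 38, true), (2, 104, true), (1, 109, true), (0, 113, true), (3, 103, true), (2, 108, true), (1, 112, true), (4, 101, true), (3, 106, true), (2, 110, true)], [(1, 101, true), (0, 38, true), (3, 35, true)]),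
  ([2, 3, 4], [(0, 42, true), (1, 43, true), (0, 61, true), (1, 57, true), (0, 11, true), (1, 54, true), (0, 95, true), (1, 92, true)], [(1, 54, true), (0, 50, true), (1, 47, true), (0, 11, true), (1, 43, true), (0, 101, true), (4, 42, true)]),
  ([2, 3, 7], [(0, 42, true), (1, 46, true), (0, 57, true)], [(1, 57, true), (0, 50, true), (1, 46, true), (2, 42, true)]),
  ([2, 3, 8], [(0, 42, true), (1, 47, true), (0, 61, true), (1, 58, true)], [(1, 58, true), (0, 47, true), (2, 42, true)]),
  ([2, 3, 9], [(0, 42, true), (1, 48, true), (0, 62, true), (1, 59, true), (0, 117, true), (1, 12, true)], [(1, 59, true), (0, 52, true), (1, 51, true), (2, 48, true), (1, 12, true), (2, 42, true)]),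
  ([2, 3, 10], [(0, 42, true), (1, 49, true), (0, 63, true), (1, 60, true)], [(1, 60, true), (0, 51, true), (1, 49, true), (0, 117, true), (3, 42, true)]),
  ([2, 4, 5], [(0, 43, true), (3, 44, true), (2, 65, true), (1, 98, true), (0, 116, true), (2, 93, true)], [(1, 65, true), (0, 53, true), (1, 48, true), (3, 44, true), (4, 43, true), (3, 80, true), (2, 106, true), (4, 76, true), (3, 107, true), (2, 114, true), (1, 12, true)]),
  ([2, 4, 6], [(0, 43, true), (3, 45, true), (2, 66, true), (1, 98, true), (0, 116, true), (2, 94, true)], [(1, 66, true), (0, 53, true), (1, 49, true), (3, 45, true), (4, 43, true), (3, 88, true), (2, 110, true), (4, 84, true), (3, 112, true), (2, 115, true), (1, 13, true)]),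
  ([2, 4, 7], [(0, 43, true), (3, 46, true), (2, 67, true), (1, 7, true)], [(1, 67, true), (0, 46, true), (1, 43, true), (0, 95, true), (1, 7, true)]),
  ([2, 4, 8], [(0, 43, true), (3, 47, true), (2, 71, true), (1, 95, true), (0, 11, true), (1, 68, true), (0, 92, true)], [(1, 68, true), (0, 47, true), (2, 43, true), (1, 101, true), (0, 11, true)]),
  ([2, 4, 9], [(0, 43, true), (3, 48, true), (2, 72, true), (1, 96, true), (0, 114, true), (3, 69, true), (2, 93, true)], [(1, 69, true), (0, 48, true), (2, 43, true), (1, 106, true)]),
  ([2, 4, 10], [(0, 43, true), (3, 49, true), (2, 73, true), (1, 97, true), (0, 115, true), (3, 70, true), (2, 94, true)], [(1, 70, true), (0, 49, true), (2, 43, true), (1, 110, true)]),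
  ([2, 4, 12], [(0, 43, true), (3, 51, true), (2, 72, true), (1, 96, true), (0, 114, true)], [(1, 72, true), (0, 51, true), (1, 43, true)]),
  ([2, 4, 13], [(0, 43, true), (3, 52, true), (2, 73, true), (1, 97, true), (0, 115, true)], [(1, 73, true), (0, 52, true), (1, 43, true)]),
  ([3, 4, 5], [(0, 54, true), (3, 55, true), (2, 65, true), (1, 104, true), (0, 116, true), (2, 99, true)], [(1, 65, true), (0, 64, true), (1, 59, true), (4, 55, true), (5, 54, true), (4, 80, true), (3, 106, true), (5, 77, true), (4, 108, true), (3, 115, true), (2, 117, true), (1, 13, true), (3, 107, true), (2, 114, true), (1, 12, true)]),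
  ([3, 4, 8], [(0, 54, true), (3, 58, true), (2, 68, true), (1, 8, true)], [(1, 68, true), (0, 58, true), (1, 54, true), (0, 101, true), (1, 8, true)]),
  ([0, 0, 2], [(0, 0, true)], [(1, 16, true), (0, 19, true), (1, 16, true), (0, 5, true), (1, 0, true)]),
  ([0, 2, 2], [(0, 16, true), (2, 16, true), (1, 44, true), (0, 5, true), (0, 2, true)], [(1, 2, true)]),
  ([0, 0, 3], [(0, 0, true)], [(1, 17, true), (0, 20, true), (1, 17, true), (0, 6, true), (1, 0, true)]),
  ([0, 3, 3], [(0, 17, true), (2, 17, true), (1, 56, true), (0, 6, true), (0, 3, true)], [(1, 3, true)]),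
  ([0, 0, 5], [(0, 0, true)], [(1, 19, true), (0, 19, true), (1, 0, true)]),
  ([0, 0, 6], [(0, 0, true)], [(1, 20, true), (0, 20, true), (1, 0, true)]),
  ([0, 0, 7], [(0, 0, true)], [(1, 21, true), (0, 23, true), (1, 21, true), (0, 9, true), (1, 0, true)]),
  ([0, 0, 8], [(0, 0, true)], [(1, 22, true), (0, 24, true), (1, 22, true), (0, 10, true), (1, 0, true)]),
  ([1, 1, 2], [(0, 1, true)], [(1, 29, true), (0, 33, true), (1, 29, true), (0, 6, true), (1, 1, true)]),
  ([1, 1, 3], [(0, 1, true)], [(1, 30, true), (0, 33, true), (1, 32, true), (2, 30, true), (1, 75, true), (0, 6, true), (0, 5, true), (1, 1, true)]),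
  ([1, 1, 4], [(0, 1, true)], [(1, 31, true), (0, 31, true), (1, 1, true)]),
  ([1, 1, 7], [(0, 1, true)], [(1, 34, true), (0, 37, true), (1, 34, true), (0, 10, true), (1, 1, true)]),
  ([1, 1, 8], [(0, 1, true)], [(1, 35, true), (0, 37, true), (1, 36, true), (2, 35, true), (1, 105, true), (0, 10, true), (0, 9, true), (1, 1, true)]),
  ([2, 2, 3], [(0, 2, true)], [(1, 42, true), (0, 42, true), (1, 2, true)]),
  ([2, 2, 4], [(0, 2, true)], [(1, 43, true), (0, 50, true), (1, 46, true), (2, 43, true), (1, 95, true), (0, 11, true), (0, 7, true), (1, 2, true)]),
  ([2, 4, 4], [(0, 43, true), (3, 43, true), (2, 71, true), (1, 95, true), (0, 11, true), (1, 67, true), (0, 7, true), (0, 4, true)], [(1, 4, true)]),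
  ([2, 2, 7], [(0, 2, true)], [(1, 46, true), (0, 46, true), (1, 2, true)]),
  ([2, 2, 8], [(0, 2, true)], [(1, 47, true), (0, 50, true), (1, 47, true), (0, 11, true), (1, 2, true)]),
  ([3, 3, 4], [(0, 3, true)], [(1, 54, true), (0, 61, true), (1, 58, true), (2, 54, true), (1, 101, true), (0, 11, true), (0, 8, true), (1, 3, true)]),
  ([3, 4, 4], [(0, 54, true), (3, 54, true), (2, 71, true), (1, 101, true), (0, 11, true), (1, 68, true), (0, 8, true), (0, 4, true)], [(1, 4, true)]),
  ([3, 3, 8], [(0, 3, true)], [(1, 58, true), (0, 58, true), (1, 3, true)])]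

/-- A conjugation. -/
def twoUSixFus0 : Schur.Tails.Fus where
  xs := [[14, 12, 11, 7, 6, 4, 3], [14, 13, 11, 10, 9, 6, 5], [12, 9, 7, 5], [14, 7], [14, 8, 7, 6], [13, 12, 11, 6, 5], [14, 12, 11, 6, 3], [13, 11, 5, 3], [14, 13, 6, 2], [12, 11, 6, 5], [14, 13, 6, 5, 2], [14, 6, 5, 3], [14, 13, 12, 5, 3]]
  ys := [[12, 10, 9, 8, 6, 4, 3], [14, 13, 12, 11, 8, 7, 3, 2], [12, 9, 7, 2], [11, 9], [11, 10, 9, 3], [14, 13, 3, 2], [14, 12, 11, 6, 3], [14, 13, 12, 6, 2], [13, 12, 11, 5, 3], [14, 12, 3, 2], [13, 12, 11, 5, 3, 2], [11, 6, 3, 2], [13, 11, 6, 2]]
  rels := [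
    ([0, 0], [11, 10, 9, 8, 6, 5, 4, 2, 1], [(6, 64, true), (5, 74, true), (4, 91, true), (3, 98, true), (2, 116, true), (1, 118, true), (0, 14, true), (5, 62, true), (4, 72, true), (3, 89, true), (2, 96, true), (1, 114, true), (0, 12, true), (4, 61, true), (3, 71, true), (2, 88, true), (1, 95, true), (0, 11, true), (3, 57, true), (2, 71, true), (1, 88, true), (0, 95, true), (3, 67, true), (2, 84, true), (1, 97, true), (0, 115, true), (2, 7, true), (4, 56, true), (3, 66, true), (2, 91, true), (1, 116, true), (0, 119, true), (3, 87, true), (4, 6, true), (5, 54, true), (4, 71, true), (3, 110, true), (2, 11, true), (3, 68, true), (4, 4, true), (4, 3, true), (4, 5, false), (4, 6, false), (5, 75, false), (3, 9, false), (4, 99, false), (0, 119, false), (1, 113, false), (2, 109, false), (3, 104, false), (4, 86, false), (5, 78, false), (1, 105, false), (2, 100, false), (3, 87, false), (0, 14, false), (1, 119, false), (2, 109, false), (3, 104, false), (4, 91, false), (5, 79, false), (2, 11, false), (3, 106, false), (4, 101, false), (5, 88, false), (6, 80, false), (1, 115, false), (2, 108, false), (3, 103, false), (4, 90,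 false), (5, 82, false), (0, 116, false), (1, 109, false), (2, 104, false), (3, 91, false), (4, 83, false), (3, 7, false), (0, 13, false), (1, 115, false), (2, 108, false), (3, 103, false), (4, 97, false), (5, 84, false), (2, 99, false), (3, 93, false), (0, 14, false), (1, 119, false), (2, 116, false), (3, 104, false), (4, 98, false), (5, 86, false), (2, 12, false), (3, 114, false), (4, 102, false), (5, 96, false), (6, 89, false), (0, 119, false), (1, 118, false), (2, 116, false), (3, 5, false), (3, 6, false), (4, 75, false), (2, 88, false), (3, 80, false), (1, 89, false), (2, 81, false), (0, 90, false), (1, 82, false), (2, 3, false), (0, 75, false), (1, 56, false), (0, 11, false), (1, 80, false), (2, 61, false), (0, 12, false), (1, 114, false), (2, 81, false), (3, 62, false), (0, 14, false), (1, 118, false), (2, 116, false), (3, 83, false), (4, 64, false), (5, 2, false), (3, 6, false), (4, 75, false), (5, 56, false), (6, 45, false), (1, 13, false), (2, 117, false), (3, 115, false), (4, 90, false), (5, 82, false), (6, 63, false), (7, 52, false), (0, 119, false), (1, 118, false), (2, 116, false), (3, 91, false), (4,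 83, false), (5, 64, false), (6, 53, false), (4, 55, false), (5, 44, false), (3, 56, false), (4, 45, false), (2, 61, false), (3, 50, false), (1, 62, false), (2, 51, false), (1, 5, false), (2, 55, false), (1, 6, false), (2, 75, false), (3, 56, false), (0, 90, false), (1, 82, false), (2, 63, false), (0, 14, false), (1, 91, false), (2, 83, false), (3, 64, false)], [(6, 62, true), (5, 72, true), (4, 89, true), (3, 102, true), (2, 107, true), (1, 111, true), (0, 12, true), (5, 60, true), (4, 72, true), (3, 89, true), (2, 102, true), (1, 107, true), (0, 111, true), (5, 70, true), (4, 87, true), (3, 100, true), (2, 105, true), (1, 10, true), (5, 59, true), (4, 73, true), (3, 90, true), (2, 103, true), (1, 108, true), (0, 117, true), (5, 72, true), (4, 89, true), (3, 102, true), (2, 107, true), (1, 12, true), (4, 69, true), (3, 86, true), (2, 104, true), (1, 109, true), (0, 119, true), (3, 99, true), (2, 9, true), (5, 58, true), (4, 68, true), (3, 85, true), (2, 102, true), (3, 8, true), (5, 56, true), (4, 66, true), (3, 91, true), (2, 118, true), (1, 119, true), (0, 14, true), (2, 87, true), (3, 6, true), (4, 54, true),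 (3, 71, true), (2, 110, true), (4, 68, true), (5, 4, true), (5, 3, true), (5, 2, false), (5, 3, false), (6, 42, false), (5, 7, false), (2, 110, false), (3, 101, false), (4, 95, false), (5, 57, false), (6, 46, false), (3, 92, false), (4, 58, false), (2, 11, false), (3, 110, false), (4, 95, false), (5, 61, false), (6, 47, false), (2, 110, false), (3, 95, false), (4, 61, false), (5, 50, false), (1, 111, false), (2, 96, false), (3, 62, false), (4, 51, false), (0, 112, false), (1, 97, false), (2, 63, false), (3, 52, false), (0, 14, false), (1, 113, false), (2, 98, false), (3, 64, false), (4, 53, false), (1, 11, false), (2, 110, false), (3, 57, false), (3, 9, false), (1, 12, false), (2, 114, false), (3, 111, false), (4, 107, false), (1, 13, false), (2, 117, false), (3, 115, false), (4, 112, false), (5, 108, false), (6, 59, false), (2, 114, false), (3, 111, false), (4, 107, false), (5, 62, false), (2, 2, false), (2, 3, false), (3, 42, false), (1, 63, false), (2, 52, false), (0, 64, false), (1, 53, false), (0, 42, false), (0, 6, false), (1, 45, false), (0, 11, false), (1, 88, false), (2, 50, false), (0, 12, false), (1,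 114, false), (2, 89, false), (3, 51, false), (0, 14, false), (1, 118, false), (2, 116, false), (3, 91, false), (4, 53, false), (4, 3, false), (5, 42, false), (4, 5, false), (5, 55, false), (6, 44, false), (2, 88, false), (3, 80, false), (4, 61, false), (5, 50, false), (1, 89, false), (2, 81, false), (3, 62, false), (4, 51, false), (1, 13, false), (2, 90, false), (3, 82, false), (4, 63, false), (5, 52, false), (2, 12, false), (3, 89, false), (4, 81, false), (0, 119, false), (1, 118, false), (2, 91, false), (3, 83, false), (4, 2, false), (4, 3, false), (5, 42, false), (3, 55, false), (4, 44, false), (2, 11, false), (3, 88, false), (4, 61, false), (5, 50, false), (1, 114, false), (2, 89, false), (3, 62, false), (4, 51, false), (0, 115, false), (1, 90, false), (2, 63, false), (3, 52, false)]),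
    ([1, 1], [], [(6, 83, true), (5, 91, true), (4, 109, true), (3, 113, true), (2, 116, true), (1, 119, true), (0, 14, true), (5, 82, true), (4, 90, true), (3, 108, true), (2, 112, true), (1, 115, true), (0, 13, true), (4, 80, true), (3, 88, true), (2, 106, true), (1, 110, true), (0, 11, true), (3, 79, true), (2, 91, true), (1, 109, true), (0, 113, true), (3, 87, true), (2, 105, true), (1, 10, true), (3, 78, true), (2, 86, true), (1, 109, true), (0, 14, true), (0, 9, true), (1, 75, true), (0, 6, true), (0, 5, true)], [(7, 53, true), (6, 64, true), (5, 98, true), (4, 104, true), (3, 116, true), (2, 118, true), (1, 119, true), (0, 14, true), (6, 52, true), (5, 63, true), (4, 97, true), (3, 103, true), (2, 115, true), (1, 117, true), (0, 13, true), (5, 51, true), (4, 62, true), (3, 96, true), (2, 102, true), (1, 114, true), (0, 12, true), (4, 50, true), (3, 61, true), (2, 95, true), (1, 101, true), (0, 11, true), (3, 47, true), (2, 61, true), (1, 95, true), (0, 101, true), (3, 58, true), (2, 92, true), (1, 8, true), (3, 46, true), (2, 57, true), (1, 95, true), (0, 11, true), (0, 7, true), (1, 42, true), (0, 3, true),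 (0, 2, true)]),
    ([2, 2], [12, 6, 5], [(3, 81, true), (2, 96, true), (1, 107, true), (0, 12, true), (2, 78, true), (1, 93, true), (0, 9, true), (1, 76, true), (0, 96, true), (1, 7, true), (1, 5, true), (1, 5, false), (1, 6, false), (2, 75, false), (1, 11, false), (2, 88, false), (3, 80, false), (0, 114, false), (1, 89, false), (2, 81, false), (0, 13, false), (1, 115, false), (2, 90, false), (3, 82, false), (4, 3, false), (2, 75, false), (3, 56, false), (1, 80, false), (2, 61, false), (1, 12, false), (2, 81, false), (3, 62, false), (0, 14, false), (1, 119, false), (2, 118, false), (3, 83, false), (4, 64, false)], [(3, 51, true), (2, 96, true), (1, 107, true), (0, 12, true), (2, 48, true), (1, 96, true), (0, 107, true), (2, 93, true), (1, 9, true), (2, 46, true), (1, 7, true), (1, 2, true), (1, 2, false), (1, 3, false), (2, 42, false), (0, 13, false), (1, 117, false), (2, 63, false), (3, 52, false), (0, 14, false), (1, 119, false), (2, 118, false), (3, 64, false), (4, 53, false), (3, 42, false), (3, 6, false), (4, 45, false), (3, 11, false), (4, 88, false), (5, 50, false), (2, 114, false), (3, 89, false), (4, 51,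 false), (0, 119, false), (1, 116, false), (2, 91, false), (3, 53, false)]),
    ([3, 3], [], [(1, 98, true), (0, 14, true), (0, 7, true)], [(1, 106, true), (0, 11, true), (0, 9, true)]),
    ([4, 4], [12, 9, 6], [(3, 91, true), (2, 98, true), (1, 104, true), (0, 14, true), (2, 85, true), (1, 96, true), (0, 102, true), (2, 92, true), (1, 8, true), (2, 84, true), (1, 97, true), (0, 117, true), (2, 7, true), (2, 6, true), (2, 3, false), (2, 6, false), (3, 56, false), (2, 11, false), (3, 88, false), (4, 61, false), (1, 114, false), (2, 89, false), (3, 62, false), (0, 14, false), (1, 119, false), (2, 116, false), (3, 91, false), (4, 64, false), (4, 5, false), (5, 55, false), (3, 75, false), (4, 56, false), (2, 80, false), (3, 61, false), (2, 12, false), (3, 81, false), (4, 62, false)], [(3, 61, true), (2, 106, true), (1, 110, true), (0, 11, true), (2, 60, true), (1, 107, true), (0, 111, true), (2, 105, true), (1, 10, true), (2, 59, true), (1, 108, true), (0, 117, true), (2, 107, true), (1, 12, true), (1, 9, true), (1, 3, true), (1, 3, false), (1, 6, false), (2, 56, false), (1, 11, false), (2, 88, false), (3, 61, false),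 (1, 12, false), (2, 114, false), (3, 89, false), (4, 62, false), (0, 14, false), (1, 119, false), (2, 118, false), (3, 116, false), (4, 91, false), (5, 64, false), (6, 2, false), (5, 42, false), (2, 114, false), (3, 89, false), (4, 51, false), (0, 119, false), (1, 116, false), (2, 91, false), (3, 53, false)]),
    ([5, 5], [], [(4, 82, true), (3, 90, true), (2, 115, true), (1, 117, true), (0, 13, true), (3, 81, true), (2, 89, true), (1, 114, true), (0, 12, true), (2, 80, true), (1, 88, true), (0, 11, true), (1, 75, true), (0, 6, true), (0, 5, true)], [(3, 53, true), (2, 64, true), (1, 119, true), (0, 14, true), (2, 52, true), (1, 63, true), (0, 13, true), (1, 42, true), (0, 3, true), (0, 2, true)]),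
    ([6, 6], [], [(4, 64, true), (3, 91, true), (2, 116, true), (1, 118, true), (0, 14, true), (3, 62, true), (2, 89, true), (1, 114, true), (0, 12, true), (2, 61, true), (1, 88, true), (0, 11, true), (1, 56, true), (0, 6, true), (0, 3, true)], [(4, 64, true), (3, 91, true), (2, 116, true), (1, 118, true), (0, 14, true), (3, 62, true), (2, 89, true), (1, 114, true), (0, 12, true), (2, 61, true), (1, 88, true), (0, 11, true), (1, 56, true), (0, 6, true), (0, 3, true)]),
    ([7, 7], [], [(3, 63, true), (2, 82, true), (1, 115, true), (0, 13, true), (2, 61, true), (1, 80, true), (0, 11, true), (1, 55, true), (0, 5, true), (0, 3, true)], [(4, 53, true), (3, 91, true), (2, 118, true), (1, 119, true), (0, 14, true), (3, 52, true), (2, 90, true), (1, 117, true), (0, 13, true), (2, 51, true), (1, 89, true), (0, 12, true), (1, 45, true), (0, 6, true), (0, 2, true)]),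
    ([8, 8], [], [(3, 53, true), (2, 91, true), (1, 119, true), (0, 14, true), (2, 52, true), (1, 90, true), (0, 13, true), (1, 45, true), (0, 6, true), (0, 2, true)], [(4, 63, true), (3, 82, true), (2, 115, true), (1, 117, true), (0, 13, true), (3, 62, true), (2, 81, true), (1, 114, true), (0, 12, true), (2, 61, true), (1, 80, true), (0, 11, true), (1, 55, true), (0, 5, true), (0, 3, true)]),
    ([10, 10], [], [(4, 53, true), (3, 83, true), (2, 91, true), (1, 119, true), (0, 14, true), (3, 52, true), (2, 82, true), (1, 90, true), (0, 13, true), (2, 45, true), (1, 75, true), (0, 6, true), (1, 44, true), (0, 5, true), (0, 2, true)], [(5, 52, true), (4, 63, true), (3, 82, true), (2, 115, true), (1, 117, true), (0, 13, true), (4, 51, true), (3, 62, true), (2, 81, true), (1, 114, true), (0, 12, true), (3, 50, true), (2, 61, true), (1, 80, true), (0, 11, true), (2, 44, true), (1, 55, true), (0, 5, true), (1, 42, true), (0, 3, true), (0, 2, true)]),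
    ([11, 11], [], [(3, 64, true), (2, 83, true), (1, 91, true), (0, 14, true), (2, 56, true), (1, 75, true), (0, 6, true), (1, 55, true), (0, 5, true), (0, 3, true)], [(3, 50, true), (2, 61, true), (1, 88, true), (0, 11, true), (2, 45, true), (1, 56, true), (0, 6, true), (1, 42, true), (0, 3, true), (0, 2, true)]),
    ([12, 12], [], [(4, 64, true), (3, 83, true), (2, 118, true), (1, 119, true), (0, 14, true), (3, 63, true), (2, 82, true), (1, 117, true), (0, 13, true), (2, 62, true), (1, 81, true), (0, 12, true), (1, 55, true), (0, 5, true), (0, 3, true)], [(3, 52, true), (2, 90, true), (1, 115, true), (0, 13, true), (2, 50, true), (1, 88, true), (0, 11, true), (1, 45, true), (0, 6, true), (0, 2, true)]),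
    ([0, 1], [5, 0], [(6, 64, true), (5, 74, true), (4, 91, true), (3, 98, true), (2, 116, true), (1, 118, true), (0, 14, true), (5, 63, true), (4, 73, true), (3, 90, true), (2, 97, true), (1, 115, true), (0, 117, true), (6, 61, true), (5, 71, true), (4, 88, true), (3, 95, true), (2, 11, true), (5, 60, true), (4, 72, true), (3, 89, true), (2, 96, true), (1, 12, true), (3, 70, true), (2, 87, true), (1, 94, true), (5, 59, true), (4, 73, true), (3, 90, true), (2, 97, true), (1, 112, true), (0, 13, true), (3, 72, true), (2, 89, true), (1, 96, true), (0, 111, true), (4, 69, true), (3, 86, true), (2, 98, true), (1, 113, true), (0, 118, true), (3, 93, true), (7, 56, true), (6, 66, true), (5, 91, true), (4, 98, true), (3, 109, true), (2, 113, true), (1, 118, true), (0, 14, true), (4, 87, true), (3, 94, true), (2, 105, true), (1, 10, true), (3, 6, true), (4, 55, true), (3, 65, true), (2, 98, true), (1, 109, true), (0, 118, true), (3, 93, true), (2, 9, true), (3, 6, false), (4, 75, false), (1, 13, false), (2, 117, false), (3, 84, false), (2, 89, false), (3, 76, false), (2, 11, false), (3, 88, false), (4, 80, false), (2, 12,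 false), (3, 114, false), (4, 89, false), (5, 81, false), (0, 119, false), (1, 118, false), (2, 116, false), (3, 91, false), (4, 83, false)], [(6, 64, true), (5, 74, true), (4, 91, true), (3, 104, true), (2, 109, true), (1, 113, true), (0, 118, true), (7, 63, true), (6, 73, true), (5, 90, true), (4, 103, true), (3, 108, true), (2, 112, true), (1, 117, true), (8, 62, true), (7, 72, true), (6, 89, true), (5, 102, true), (4, 107, true), (3, 111, true), (2, 12, true), (7, 61, true), (6, 71, true), (5, 88, true), (4, 101, true), (3, 106, true), (2, 110, true), (8, 58, true), (7, 68, true), (6, 85, true), (5, 102, true), (4, 107, true), (3, 111, true), (2, 114, true), (6, 8, true), (8, 57, true), (7, 71, true), (6, 88, true), (5, 106, true), (4, 110, true), (3, 11, true), (6, 67, true), (5, 84, true), (4, 108, true), (3, 112, true), (2, 117, true), (1, 13, true), (7, 3, true), (7, 3, false), (8, 42, false), (4, 8, false), (5, 92, false), (1, 111, false), (2, 107, false), (3, 102, false), (4, 96, false), (5, 85, false), (1, 11, false), (2, 110, false), (3, 106, false), (4, 101, false), (5, 95, false), (6, 88, false), (7,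 54, false), (1, 13, false), (2, 115, false), (3, 112, false), (4, 108, false), (5, 103, false), (6, 84, false), (2, 110, false), (3, 106, false), (4, 101, false), (5, 88, false), (6, 57, false), (2, 11, false), (3, 110, false), (4, 106, false), (5, 101, false), (6, 88, false), (7, 61, false), (8, 43, false), (6, 56, false), (7, 45, false), (5, 58, false), (2, 110, false), (3, 106, false), (4, 61, false), (5, 47, false), (2, 12, false), (3, 111, false), (1, 117, false), (2, 112, false), (3, 59, false), (1, 111, false), (2, 62, false), (3, 48, false), (1, 12, false), (2, 60, false), (1, 13, false), (2, 117, false), (3, 63, false), (4, 49, false), (2, 62, false), (3, 51, false)]),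
    ([0, 2], [12, 11, 5, 3, 0], [(6, 62, true), (5, 72, true), (4, 89, true), (3, 96, true), (2, 114, true), (1, 12, true), (5, 59, true), (4, 73, true), (3, 90, true), (2, 97, true), (1, 115, true), (5, 72, true), (4, 89, true), (3, 96, true), (2, 114, true), (6, 69, true), (5, 86, true), (4, 98, true), (3, 116, true), (2, 118, true), (1, 119, true), (0, 14, true), (3, 93, true), (7, 57, true), (6, 71, true), (5, 88, true), (4, 95, true), (3, 106, true), (2, 11, true), (5, 67, true), (4, 84, true), (3, 97, true), (2, 108, true), (1, 117, true), (0, 13, true), (2, 7, true), (4, 55, true), (3, 65, true), (2, 91, true), (1, 109, true), (0, 118, true), (3, 86, true), (2, 109, true), (1, 118, true), (0, 14, true), (1, 9, true), (1, 75, false), (1, 7, false), (0, 96, false), (1, 76, false), (0, 11, false), (1, 95, false), (2, 80, false), (0, 12, false), (1, 114, false), (2, 96, false), (3, 81, false), (0, 14, false), (1, 118, false), (2, 116, false), (3, 98, false), (4, 83, false), (1, 114, false), (2, 76, false), (0, 116, false), (1, 83, false), (1, 6, false), (0, 88, false), (0, 12, false), (1, 89, false), (0, 13,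 false), (1, 117, false), (2, 90, false), (3, 3, false), (3, 5, false), (4, 55, false), (2, 75, false), (3, 56, false), (0, 14, false), (1, 119, false), (2, 118, false), (3, 83, false), (4, 64, false)], [(6, 62, true), (5, 72, true), (4, 89, true), (3, 102, true), (2, 107, true), (1, 111, true), (0, 12, true), (5, 59, true), (4, 73, true), (3, 90, true), (2, 103, true), (1, 108, true), (0, 112, true), (5, 72, true), (4, 89, true), (3, 102, true), (2, 107, true), (1, 111, true), (6, 69, true), (5, 86, true), (4, 104, true), (3, 109, true), (2, 113, true), (1, 118, true), (0, 119, true), (5, 99, true), (4, 9, true), (7, 57, true), (6, 71, true), (5, 88, true), (4, 101, true), (3, 110, true), (7, 67, true), (6, 84, true), (5, 103, true), (4, 112, true), (3, 115, true), (2, 117, true), (1, 13, true), (8, 42, false), (1, 13, false), (2, 117, false), (3, 115, false), (4, 112, false), (5, 103, false), (6, 84, false), (3, 110, false), (4, 101, false), (5, 88, false), (6, 43, false), (5, 45, false), (3, 11, false), (4, 110, false), (5, 47, false), (5, 9, false), (2, 114, false), (3, 111, false), (4, 107, false), (5, 48, false),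 (3, 105, false), (1, 115, false), (2, 108, false), (3, 49, false), (1, 12, false), (2, 114, false), (3, 107, false), (4, 51, false), (1, 114, false), (2, 48, false), (1, 50, false), (1, 3, false), (1, 13, false), (2, 63, false), (0, 119, false), (1, 64, false), (2, 2, false), (1, 42, false), (1, 6, false), (2, 45, false), (1, 11, false), (2, 88, false), (3, 50, false)]),
    ([0, 3], [12, 11, 10, 9, 8, 3, 0], [(6, 64, true), (5, 74, true), (4, 91, true), (3, 98, true), (2, 116, true), (1, 118, true), (0, 14, true), (5, 57, true), (4, 71, true), (3, 88, true), (2, 95, true), (1, 11, true), (3, 67, true), (2, 84, true), (1, 97, true), (0, 117, true), (2, 7, true), (2, 7, false), (2, 11, false), (3, 95, false), (1, 114, false), (2, 96, false), (0, 14, false), (1, 119, false), (2, 116, false), (3, 98, false), (0, 119, false), (1, 116, false), (2, 2, false), (2, 6, false), (3, 45, false), (0, 115, false), (1, 90, false), (2, 52, false), (0, 14, false), (1, 116, false), (2, 91, false), (3, 53, false), (3, 5, false), (4, 44, false), (2, 75, false), (3, 45, false), (1, 80, false), (2, 50, false), (1, 12, false), (2, 81,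 false), (3, 51, false), (2, 6, false), (1, 13, false), (2, 117, false), (3, 90, false), (0, 119, false), (1, 118, false), (2, 91, false), (3, 3, false), (3, 5, false), (4, 55, false), (2, 75, false), (3, 56, false), (0, 14, false), (1, 119, false), (2, 118, false), (3, 83, false), (4, 64, false)], [(6, 61, true), (5, 71, true), (4, 88, true), (3, 101, true), (2, 106, true), (1, 110, true), (7, 59, true), (6, 73, true), (5, 90, true), (4, 103, true), (3, 108, true), (2, 112, true), (1, 115, true), (0, 117, true), (7, 72, true), (6, 89, true), (5, 102, true), (4, 107, true), (3, 111, true), (2, 114, true), (1, 12, true), (6, 69, true), (5, 86, true), (4, 104, true), (3, 109, true), (2, 113, true), (1, 116, true), (0, 119, true), (5, 99, true), (4, 9, true), (4, 9, false), (3, 105, false), (2, 12, false), (3, 114, false), (4, 107, false), (3, 3, false), (3, 5, false), (4, 55, false), (3, 11, false), (4, 80, false), (5, 61, false), (2, 114, false), (3, 81, false), (4, 62, false), (1, 115, false), (2, 82, false), (3, 63, false), (4, 2, false), (3, 42, false), (1, 12, false), (2, 114, false), (3, 81, false), (4, 51, false),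 (0, 118, false), (1, 116, false), (2, 83, false), (3, 53, false), (3, 3, false), (2, 55, false), (1, 61, false), (0, 62, false), (0, 13, false), (1, 63, false), (2, 2, false), (1, 42, false), (1, 6, false), (2, 45, false), (1, 11, false), (2, 88, false), (3, 50, false)]),
    ([0, 5], [12, 11, 10, 9, 8, 7, 6, 5, 1, 0], [(6, 63, true), (5, 73, true), (4, 90, true), (3, 97, true), (2, 115, true), (1, 117, true), (7, 62, true), (6, 72, true), (5, 89, true), (4, 96, true), (3, 114, true), (2, 12, true), (6, 61, true), (5, 71, true), (4, 88, true), (3, 95, true), (2, 11, true), (5, 56, true), (4, 66, true), (3, 91, true), (2, 98, true), (1, 119, true), (0, 14, true), (2, 87, true), (1, 94, true), (3, 6, true), (4, 55, true), (3, 65, true), (2, 98, true), (1, 113, true), (0, 119, true), (3, 93, true), (5, 6, false), (6, 75, false), (1, 112, false), (2, 108, false), (3, 84, false), (1, 12, false), (2, 111, false), (3, 107, false), (4, 89, false), (5, 76, false), (2, 11, false), (3, 110, false), (4, 106, false), (5, 88, false), (6, 80, false), (1, 114, false), (2, 111, false), (3, 107, false), (4, 89, false), (5, 81, false),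 (0, 116, false), (1, 113, false), (2, 109, false), (3, 91, false), (4, 83, false), (0, 13, false), (0, 14, false), (1, 119, false), (2, 5, false), (2, 6, false), (3, 75, false), (2, 11, false), (3, 88, false), (4, 80, false), (2, 12, false), (3, 114, false), (4, 89, false), (5, 81, false), (1, 117, false), (2, 115, false), (3, 90, false), (4, 82, false), (5, 3, false), (3, 75, false), (4, 56, false), (2, 80, false), (3, 61, false), (1, 81, false), (2, 62, false), (0, 83, false), (1, 64, false), (0, 11, false), (0, 13, false), (1, 115, false), (2, 2, false), (2, 6, false), (3, 45, false), (0, 115, false), (1, 90, false), (2, 52, false), (0, 14, false), (1, 116, false), (2, 91, false), (3, 53, false), (3, 5, false), (4, 44, false), (2, 75, false), (3, 45, false), (1, 80, false), (2, 50, false), (1, 12, false), (2, 81, false), (3, 51, false), (2, 6, false), (1, 13, false), (2, 117, false), (3, 90, false), (0, 119, false), (1, 118, false), (2, 91, false), (3, 3, false), (3, 5, false), (4, 55, false), (2, 75, false), (3, 56, false), (0, 14, false), (1, 119, false), (2, 118, false), (3, 83, false), (4, 64, false)], [(6,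 64, true), (5, 74, true), (4, 91, true), (3, 104, true), (2, 109, true), (1, 113, true), (0, 118, true), (7, 63, true), (6, 73, true), (5, 90, true), (4, 103, true), (3, 108, true), (2, 112, true), (1, 117, true), (8, 3, true), (8, 3, false), (9, 42, false), (2, 111, false), (3, 107, false), (4, 85, false), (2, 11, false), (3, 110, false), (4, 106, false), (5, 88, false), (6, 54, false), (5, 7, false), (1, 115, false), (2, 112, false), (3, 108, false), (4, 97, false), (5, 84, false), (1, 110, false), (2, 106, false), (3, 95, false), (4, 88, false), (5, 57, false), (1, 11, false), (2, 110, false), (3, 106, false), (4, 95, false), (5, 88, false), (6, 61, false), (7, 43, false), (5, 56, false), (6, 45, false), (4, 8, false), (5, 92, false), (6, 58, false), (1, 110, false), (2, 106, false), (3, 101, false), (4, 95, false), (5, 61, false), (6, 47, false), (2, 99, false), (3, 93, false), (1, 12, false), (2, 111, false), (3, 102, false), (4, 96, false), (1, 13, false), (2, 117, false), (3, 112, false), (4, 103, false), (5, 97, false), (6, 59, false), (2, 111, false), (3, 102, false), (4, 96, false), (5, 62, false), (6,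 48, false), (2, 100, false), (3, 94, false), (2, 12, false), (3, 102, false), (4, 96, false), (5, 60, false), (1, 117, false), (2, 103, false), (3, 97, false), (4, 63, false), (5, 49, false), (1, 102, false), (2, 96, false), (3, 62, false), (4, 51, false), (1, 11, false), (1, 12, false), (2, 114, false), (1, 13, false), (2, 117, false), (3, 115, false), (0, 119, false), (1, 118, false), (2, 116, false), (3, 2, false), (3, 3, false), (4, 42, false), (0, 117, false), (1, 115, false), (2, 63, false), (3, 52, false), (0, 14, false), (1, 118, false), (2, 116, false), (3, 64, false), (4, 53, false), (3, 42, false), (3, 6, false), (4, 45, false), (2, 88, false), (3, 50, false), (1, 89, false), (2, 51, false), (0, 91, false), (1, 53, false), (0, 12, false), (0, 13, false), (1, 117, false), (0, 14, false), (1, 119, false), (2, 118, false), (3, 3, false), (3, 5, false), (4, 55, false), (3, 11, false), (4, 80, false), (5, 61, false), (2, 114, false), (3, 81, false), (4, 62, false), (1, 115, false), (2, 82, false), (3, 63, false), (4, 2, false), (3, 42, false), (1, 12, false), (2, 114, false), (3, 81, false), (4, 51, false),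 (0, 118, false), (1, 116, false), (2, 83, false), (3, 53, false), (3, 3, false), (2, 55, false), (1, 61, false), (0, 62, false), (0, 13, false), (1, 63, false), (2, 2, false), (1, 42, false), (1, 6, false), (2, 45, false), (1, 11, false), (2, 88, false), (3, 50, false)]),
    ([0, 6], [11, 10, 9, 8, 5, 4, 2, 1, 0], [(6, 64, true), (5, 74, true), (4, 91, true), (3, 98, true), (2, 116, true), (1, 118, true), (0, 14, true), (5, 62, true), (4, 72, true), (3, 89, true), (2, 96, true), (1, 114, true), (0, 12, true), (4, 61, true), (3, 71, true), (2, 88, true), (1, 95, true), (0, 11, true), (3, 56, true), (2, 66, true), (1, 91, true), (0, 98, true), (2, 87, true), (1, 94, true), (3, 6, true), (4, 3, true), (4, 3, false), (2, 8, false), (3, 92, false), (1, 11, false), (2, 110, false), (3, 101, false), (4, 95, false), (5, 54, false), (5, 6, false), (6, 56, false), (1, 13, false), (2, 115, false), (3, 112, false), (4, 103, false), (5, 84, false), (2, 110, false), (3, 101, false), (4, 88, false), (5, 57, false), (2, 11, false), (3, 110, false), (4, 101, false), (5, 88, false), (6, 61, false), (2, 12, false), (3, 114, false),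 (4, 111, false), (5, 102, false), (6, 89, false), (7, 62, false), (0, 119, false), (1, 118, false), (2, 116, false), (3, 113, false), (4, 104, false), (5, 91, false), (6, 64, false), (6, 5, false), (7, 55, false), (5, 75, false), (6, 56, false), (4, 9, false), (5, 99, false), (6, 78, false), (1, 114, false), (2, 111, false), (3, 107, false), (4, 102, false), (5, 81, false), (0, 115, false), (1, 112, false), (2, 108, false), (3, 103, false), (4, 82, false), (5, 59, false), (1, 105, false), (2, 100, false), (0, 14, false), (1, 116, false), (2, 109, false), (3, 104, false), (4, 79, false), (1, 12, false), (2, 114, false), (3, 107, false), (4, 102, false), (5, 81, false), (6, 60, false), (2, 106, false), (3, 101, false), (4, 80, false), (5, 61, false), (1, 13, false), (2, 117, false), (3, 108, false), (4, 103, false), (5, 82, false), (6, 63, false), (0, 119, false), (1, 118, false), (2, 109, false), (3, 104, false), (4, 83, false), (5, 64, false), (4, 55, false), (4, 7, false), (2, 11, false), (3, 106, false), (4, 101, false), (5, 95, false), (6, 57, false), (3, 99, false), (4, 93, false), (1, 114, false), (2, 102,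 false), (3, 96, false), (0, 115, false), (1, 103, false), (2, 97, false), (3, 59, false), (0, 12, false), (1, 114, false), (2, 102, false), (3, 96, false), (4, 62, false), (4, 6, false), (5, 56, false), (0, 13, false), (1, 117, false), (2, 115, false), (3, 103, false), (4, 84, false), (2, 101, false), (3, 88, false), (4, 57, false), (1, 85, false), (2, 58, false), (0, 14, false), (1, 119, false), (2, 91, false), (3, 64, false), (3, 5, false), (4, 55, false), (2, 75, false), (3, 56, false), (2, 11, false), (3, 80, false), (4, 61, false), (2, 12, false), (3, 114, false), (4, 81, false), (5, 62, false), (1, 117, false), (2, 115, false), (3, 82, false), (4, 63, false), (5, 2, false), (3, 6, false), (4, 75, false), (5, 56, false), (6, 45, false), (1, 13, false), (2, 117, false), (3, 115, false), (4, 90, false), (5, 82, false), (6, 63, false), (7, 52, false), (0, 119, false), (1, 118, false), (2, 116, false), (3, 91, false), (4, 83, false), (5, 64, false), (6, 53, false), (4, 55, false), (5, 44, false), (3, 56, false), (4, 45, false), (2, 61, false), (3, 50, false), (1, 62, false), (2, 51, false), (1, 5, false), (2, 55,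 false), (1, 6, false), (2, 75, false), (3, 56, false), (0, 90, false), (1, 82, false), (2, 63, false), (0, 14, false), (1, 91, false), (2, 83, false), (3, 64, false)], [(6, 64, true), (5, 74, true), (4, 91, true), (3, 104, true), (2, 109, true), (1, 113, true), (0, 118, true), (7, 62, true), (6, 72, true), (5, 89, true), (4, 102, true), (3, 107, true), (2, 111, true), (1, 12, true), (6, 61, true), (5, 71, true), (4, 88, true), (3, 101, true), (2, 106, true), (1, 110, true), (7, 56, true), (6, 66, true), (5, 91, true), (4, 104, true), (3, 109, true), (2, 113, true), (1, 116, true), (0, 14, true), (4, 87, true), (3, 100, true), (2, 105, true), (1, 10, true), (3, 6, true), (4, 3, true), (4, 3, false), (0, 106, false), (1, 54, false), (1, 6, false), (2, 56, false), (1, 8, false), (0, 12, false), (1, 107, false), (2, 102, false), (3, 85, false), (4, 58, false), (1, 99, false), (0, 14, false), (1, 118, false), (2, 104, false), (3, 86, false), (1, 102, false), (2, 89, false), (1, 13, false), (2, 103, false), (3, 90, false), (4, 59, false), (2, 10, false), (3, 100, false), (4, 87, false), (2, 12, false), (3, 111, false),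 (4, 102, false), (5, 89, false), (6, 60, false), (2, 111, false), (3, 102, false), (4, 89, false), (5, 62, false), (6, 2, false), (5, 42, false), (4, 7, false), (1, 112, false), (2, 103, false), (3, 97, false), (4, 84, false), (5, 46, false), (2, 92, false), (1, 12, false), (2, 111, false), (3, 96, false), (4, 85, false), (2, 11, false), (3, 110, false), (4, 95, false), (5, 88, false), (6, 47, false), (2, 110, false), (3, 95, false), (4, 88, false), (5, 50, false), (1, 111, false), (2, 96, false), (3, 89, false), (4, 51, false), (1, 13, false), (2, 112, false), (3, 97, false), (4, 90, false), (5, 52, false), (0, 119, false), (1, 113, false), (2, 98, false), (3, 91, false), (4, 53, false), (0, 112, false), (1, 84, false), (1, 9, false), (0, 14, false), (1, 113, false), (2, 109, false), (3, 86, false), (1, 12, false), (2, 111, false), (3, 107, false), (4, 89, false), (5, 3, false), (0, 118, false), (1, 113, false), (2, 86, false), (0, 111, false), (1, 89, false), (0, 13, false), (1, 112, false), (2, 90, false), (3, 59, false), (1, 87, false), (1, 12, false), (2, 89, false), (3, 60, false), (2, 11, false), (3, 88,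 false), (4, 61, false), (5, 2, false), (4, 42, false), (0, 117, false), (1, 115, false), (2, 90, false), (3, 52, false), (0, 14, false), (1, 118, false), (2, 116, false), (3, 91, false), (4, 53, false), (4, 3, false), (5, 42, false), (4, 5, false), (5, 55, false), (6, 44, false), (2, 88, false), (3, 80, false), (4, 61, false), (5, 50, false), (1, 89, false), (2, 81, false), (3, 62, false), (4, 51, false), (1, 13, false), (2, 90, false), (3, 82, false), (4, 63, false), (5, 52, false), (2, 12, false), (3, 89, false), (4, 81, false), (0, 119, false), (1, 118, false), (2, 91, false), (3, 83, false), (4, 2, false), (4, 3, false), (5, 42, false), (3, 55, false), (4, 44, false), (2, 11, false), (3, 88, false), (4, 61, false), (5, 50, false), (1, 114, false), (2, 89, false), (3, 62, false), (4, 51, false), (0, 115, false), (1, 90, false), (2, 63, false), (3, 52, false)]),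
    ([0, 8], [10, 7, 6, 2, 1, 0], [(6, 64, true), (5, 74, true), (4, 91, true), (3, 98, true), (2, 116, true), (1, 118, true), (0, 14, true), (5, 63, true), (4, 73, true), (3, 90, true), (2, 97, true), (1, 115, true), (0, 117, true), (6, 56, true), (5, 66, true), (4, 91, true), (3, 98, true), (2, 116, true), (1, 118, true), (0, 119, true), (5, 87, true), (4, 94, true), (6, 6, true), (7, 42, false), (3, 110, false), (4, 43, false), (4, 6, false), (5, 45, false), (4, 7, false), (1, 117, false), (2, 112, false), (3, 97, false), (4, 84, false), (5, 46, false), (2, 11, false), (3, 110, false), (4, 95, false), (5, 88, false), (6, 50, false), (1, 114, false), (2, 111, false), (3, 96, false), (4, 89, false), (5, 51, false), (0, 116, false), (1, 113, false), (2, 98, false), (3, 91, false), (4, 53, false), (4, 5, false), (5, 44, false), (3, 75, false), (4, 45, false), (2, 9, false), (3, 93, false), (4, 78, false), (0, 12, false), (1, 114, false), (2, 111, false), (3, 107, false), (4, 96, false), (5, 81, false), (6, 48, false), (2, 105, false), (3, 94, false), (0, 14, false), (1, 118, false), (2, 116, false), (3, 109, false),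 (4, 98, false), (5, 79, false), (1, 13, false), (2, 117, false), (3, 115, false), (4, 108, false), (5, 97, false), (6, 82, false), (7, 49, false), (3, 106, false), (4, 95, false), (5, 80, false), (6, 50, false), (1, 117, false), (2, 108, false), (3, 97, false), (4, 82, false), (5, 52, false), (0, 118, false), (1, 109, false), (2, 98, false), (3, 83, false), (4, 53, false), (3, 44, false), (2, 46, false), (0, 48, false), (0, 12, false), (1, 51, false), (1, 3, false), (2, 42, false), (1, 6, false), (2, 56, false), (3, 45, false), (1, 11, false), (2, 88, false), (3, 61, false), (4, 50, false), (0, 114, false), (1, 89, false), (2, 62, false), (3, 51, false), (0, 14, false), (1, 116, false), (2, 91, false), (3, 64, false), (4, 53, false), (3, 42, false), (3, 5, false), (4, 44, false), (1, 88, false), (2, 80, false), (3, 50, false), (1, 13, false), (2, 90, false), (3, 82, false), (4, 52, false)], [(6, 63, true), (5, 73, true), (4, 90, true), (3, 103, true), (2, 108, true), (1, 112, true), (0, 117, true), (7, 62, true), (6, 72, true), (5, 89, true), (4, 102, true), (3, 107, true), (2, 111, true), (1, 12, true), (6, 61,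 true), (5, 71, true), (4, 88, true), (3, 101, true), (2, 106, true), (1, 110, true), (7, 55, true), (6, 65, true), (5, 91, true), (4, 104, true), (3, 109, true), (2, 113, true), (1, 116, true), (0, 119, true), (6, 86, true), (5, 104, true), (4, 109, true), (3, 113, true), (2, 116, true), (1, 119, true), (0, 14, true), (4, 99, true), (3, 9, true), (7, 3, true), (7, 3, false), (1, 12, false), (2, 114, false), (3, 111, false), (4, 85, false), (1, 114, false), (2, 111, false), (3, 89, false), (0, 115, false), (1, 112, false), (2, 90, false), (3, 77, false), (0, 110, false), (1, 88, false), (2, 80, false), (3, 54, false), (1, 75, false), (2, 56, false), (1, 8, false), (0, 12, false), (1, 111, false), (2, 102, false), (0, 13, false), (1, 117, false), (2, 112, false), (3, 103, false), (4, 77, false), (5, 58, false), (3, 9, false), (4, 99, false), (5, 78, false), (1, 111, false), (2, 107, false), (3, 102, false), (4, 81, false), (0, 112, false), (1, 108, false), (2, 103, false), (3, 82, false), (4, 59, false), (0, 105, false), (1, 100, false), (0, 14, false), (1, 109, false), (2, 104, false), (3, 79, false), (1, 12, false),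 (2, 107, false), (3, 102, false), (4, 81, false), (5, 60, false), (1, 107, false), (2, 102, false), (3, 81, false), (4, 62, false), (5, 2, false), (4, 42, false), (3, 7, false), (1, 12, false), (2, 107, false), (3, 102, false), (4, 96, false), (5, 76, false), (6, 46, false), (3, 92, false), (1, 107, false), (2, 96, false), (1, 13, false), (2, 108, false), (3, 97, false), (4, 77, false), (2, 11, false), (3, 106, false), (4, 95, false), (5, 80, false), (6, 47, false), (2, 106, false), (3, 95, false), (4, 80, false), (5, 50, false), (2, 12, false), (3, 107, false), (4, 96, false), (5, 81, false), (6, 51, false), (1, 117, false), (2, 108, false), (3, 97, false), (4, 82, false), (5, 52, false), (0, 118, false), (1, 109, false), (2, 98, false), (3, 83, false), (4, 53, false), (0, 107, false), (1, 76, false), (0, 78, false), (0, 12, false), (1, 81, false), (2, 3, false), (1, 6, false), (2, 75, false), (3, 56, false), (1, 11, false), (2, 88, false), (3, 80, false), (4, 61, false), (0, 114, false), (1, 89, false), (2, 81, false), (3, 62, false), (0, 14, false), (1, 116, false), (2, 91, false), (3, 83, false), (4, 64, false),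 (5, 2, false), (2, 75, false), (3, 56, false), (4, 45, false), (1, 12, false), (2, 114, false), (3, 81, false), (4, 62, false), (5, 51, false), (1, 13, false), (2, 117, false), (3, 115, false), (4, 82, false), (5, 63, false), (6, 52, false), (0, 119, false), (1, 118, false), (2, 116, false), (3, 83, false), (4, 64, false), (5, 53, false)]),
    ([0, 10], [12, 11, 8, 3, 1, 0], [(6, 64, true), (5, 74, true), (4, 91, true), (3, 98, true), (2, 116, true), (1, 118, true), (0, 14, true), (5, 63, true), (4, 73, true), (3, 90, true), (2, 97, true), (1, 115, true), (0, 117, true), (6, 56, true), (5, 66, true), (4, 91, true), (3, 98, true), (2, 116, true), (1, 118, true), (0, 119, true), (5, 87, true), (4, 94, true), (6, 6, true), (7, 55, true), (6, 65, true), (5, 98, true), (4, 113, true), (3, 116, true), (2, 118, true), (1, 119, true), (0, 14, true), (4, 93, true), (8, 42, false), (1, 114, false), (2, 111, false), (3, 107, false), (4, 76, false), (1, 110, false), (2, 106, false), (3, 80, false), (4, 43, false), (3, 6, false), (4, 75, false), (5, 45, false), (3, 7, false), (0, 112, false), (1, 108, false), (2, 97, false),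 (3, 84, false), (0, 12, false), (1, 111, false), (2, 107, false), (3, 96, false), (4, 89, false), (5, 76, false), (6, 46, false), (1, 11, false), (2, 110, false), (3, 106, false), (4, 95, false), (5, 88, false), (6, 80, false), (7, 50, false), (0, 114, false), (1, 111, false), (2, 107, false), (3, 96, false), (4, 89, false), (5, 81, false), (6, 51, false), (0, 14, false), (1, 116, false), (2, 113, false), (3, 109, false), (4, 98, false), (5, 91, false), (6, 83, false), (7, 53, false), (6, 44, false), (5, 45, false), (3, 93, false), (1, 12, false), (2, 114, false), (3, 111, false), (4, 96, false), (5, 48, false), (3, 94, false), (1, 13, false), (2, 117, false), (3, 115, false), (4, 97, false), (5, 49, false), (3, 95, false), (4, 50, false), (1, 117, false), (2, 97, false), (3, 52, false), (0, 118, false), (1, 98, false), (2, 53, false), (1, 46, false), (0, 14, false), (1, 118, false), (2, 53, false), (2, 6, false), (1, 13, false), (2, 117, false), (3, 90, false), (0, 119, false), (1, 118, false), (2, 91, false), (3, 3, false), (3, 5, false), (4, 55, false), (2, 75, false), (3, 56, false), (0, 14, false), (1, 119,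 false), (2, 118, false), (3, 83, false), (4, 64, false)], [(6, 63, true), (5, 73, true), (4, 90, true), (3, 103, true), (2, 108, true), (1, 112, true), (0, 117, true), (7, 62, true), (6, 72, true), (5, 89, true), (4, 102, true), (3, 107, true), (2, 111, true), (1, 12, true), (6, 61, true), (5, 71, true), (4, 88, true), (3, 101, true), (2, 106, true), (1, 110, true), (7, 55, true), (6, 65, true), (5, 91, true), (4, 104, true), (3, 109, true), (2, 113, true), (1, 116, true), (0, 119, true), (6, 86, true), (5, 104, true), (4, 109, true), (3, 113, true), (2, 116, true), (1, 119, true), (0, 14, true), (4, 99, true), (3, 9, true), (7, 3, true), (7, 3, false), (8, 42, false), (1, 12, false), (2, 114, false), (3, 111, false), (4, 85, false), (1, 114, false), (2, 111, false), (3, 89, false), (0, 115, false), (1, 112, false), (2, 90, false), (3, 77, false), (0, 110, false), (1, 88, false), (2, 80, false), (3, 54, false), (1, 7, false), (0, 13, false), (1, 112, false), (2, 97, false), (3, 84, false), (1, 12, false), (2, 111, false), (3, 96, false), (4, 89, false), (5, 76, false), (2, 11, false), (3, 110, false), (4, 95, false),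 (5, 88, false), (6, 80, false), (7, 57, false), (2, 110, false), (3, 95, false), (4, 88, false), (5, 80, false), (6, 61, false), (7, 43, false), (4, 75, false), (5, 56, false), (6, 45, false), (3, 8, false), (4, 92, false), (1, 111, false), (2, 102, false), (3, 96, false), (0, 112, false), (1, 103, false), (2, 97, false), (3, 77, false), (4, 58, false), (0, 11, false), (1, 110, false), (2, 101, false), (3, 95, false), (4, 80, false), (5, 61, false), (6, 47, false), (2, 9, false), (3, 99, false), (4, 93, false), (5, 78, false), (0, 12, false), (1, 114, false), (2, 111, false), (3, 107, false), (4, 102, false), (5, 96, false), (6, 81, false), (0, 13, false), (1, 117, false), (2, 115, false), (3, 112, false), (4, 108, false), (5, 103, false), (6, 97, false), (7, 82, false), (8, 59, false), (1, 114, false), (2, 111, false), (3, 107, false), (4, 102, false), (5, 96, false), (6, 81, false), (7, 62, false), (8, 48, false), (2, 105, false), (3, 100, false), (4, 94, false), (0, 14, false), (1, 119, false), (2, 116, false), (3, 109, false), (4, 104, false), (5, 98, false), (6, 79, false), (2, 12, false), (3, 114, false),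 (4, 107, false), (5, 102, false), (6, 96, false), (7, 81, false), (8, 60, false), (1, 117, false), (2, 115, false), (3, 108, false), (4, 103, false), (5, 97, false), (6, 82, false), (7, 63, false), (8, 49, false), (1, 114, false), (2, 107, false), (3, 102, false), (4, 96, false), (5, 81, false), (6, 62, false), (7, 51, false), (1, 12, false), (2, 114, false), (3, 107, false), (4, 102, false), (5, 76, false), (1, 114, false), (2, 107, false), (1, 13, false), (2, 115, false), (3, 108, false), (4, 77, false), (2, 106, false), (3, 80, false), (2, 12, false), (3, 107, false), (4, 81, false), (1, 117, false), (2, 108, false), (3, 82, false), (0, 118, false), (1, 109, false), (2, 83, false), (1, 78, false), (1, 11, false), (2, 80, false), (3, 3, false), (2, 55, false), (1, 61, false), (0, 62, false), (0, 13, false), (1, 63, false), (2, 2, false), (1, 42, false), (1, 6, false), (2, 45, false), (1, 11, false), (2, 88, false), (3, 50, false)]),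
    ([0, 11], [12, 11, 10, 9, 8, 7, 5, 4, 3, 1, 0], [(6, 64, true), (5, 74, true), (4, 91, true), (3, 98, true), (2, 116, true), (1, 118, true), (0, 14, true), (5, 56, true), (4, 66, true), (3, 91, true), (2, 98, true), (1, 116, true), (0, 118, true), (4, 87, true), (3, 94, true), (5, 6, true), (6, 55, true), (5, 65, true), (4, 98, true), (3, 113, true), (2, 116, true), (1, 118, true), (0, 14, true), (3, 93, true), (7, 3, true), (7, 3, false), (4, 8, false), (5, 92, false), (0, 114, false), (1, 111, false), (2, 107, false), (3, 102, false), (4, 96, false), (0, 13, false), (1, 115, false), (2, 112, false), (3, 108, false), (4, 103, false), (5, 97, false), (6, 77, false), (1, 110, false), (2, 106, false), (3, 101, false), (4, 95, false), (5, 80, false), (6, 54, false), (5, 6, false), (6, 75, false), (7, 56, false), (0, 112, false), (1, 108, false), (2, 103, false), (3, 84, false), (0, 12, false), (1, 111, false), (2, 107, false), (3, 102, false), (4, 89, false), (5, 76, false), (1, 11, false), (2, 110, false), (3, 106, false), (4, 101, false), (5, 88, false), (6, 80, false), (7, 57, false), (1, 110, false), (2, 106,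 false), (3, 101, false), (4, 88, false), (5, 80, false), (6, 61, false), (0, 111, false), (1, 107, false), (2, 102, false), (3, 89, false), (4, 81, false), (5, 62, false), (0, 14, false), (1, 113, false), (2, 109, false), (3, 104, false), (4, 91, false), (5, 83, false), (6, 64, false), (5, 55, false), (4, 56, false), (2, 99, false), (1, 12, false), (2, 111, false), (3, 102, false), (1, 13, false), (2, 117, false), (3, 112, false), (4, 103, false), (5, 59, false), (3, 100, false), (2, 102, false), (3, 60, false), (2, 11, false), (3, 101, false), (4, 61, false), (1, 115, false), (2, 103, false), (3, 63, false), (0, 116, false), (1, 104, false), (2, 64, false), (2, 7, false), (0, 101, false), (1, 95, false), (2, 57, false), (0, 14, false), (1, 104, false), (2, 98, false), (3, 64, false), (3, 6, false), (4, 56, false), (1, 13, false), (2, 103, false), (3, 84, false), (2, 11, false), (3, 101, false), (4, 88, false), (5, 57, false), (2, 12, false), (3, 114, false), (4, 85, false), (5, 58, false), (0, 119, false), (1, 118, false), (2, 116, false), (3, 91, false), (4, 64, false), (4, 5, false), (5, 55, false), (3, 75, false),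 (4, 56, false), (2, 80, false), (3, 61, false), (1, 81, false), (2, 62, false), (0, 82, false), (1, 63, false), (0, 11, false), (0, 13, false), (1, 115, false), (2, 2, false), (2, 6, false), (3, 45, false), (0, 115, false), (1, 90, false), (2, 52, false), (0, 14, false), (1, 116, false), (2, 91, false), (3, 53, false), (3, 5, false), (4, 44, false), (2, 75, false), (3, 45, false), (1, 80, false), (2, 50, false), (1, 12, false), (2, 81, false), (3, 51, false), (2, 6, false), (1, 13, false), (2, 117, false), (3, 90, false), (0, 119, false), (1, 118, false), (2, 91, false), (3, 3, false), (3, 5, false), (4, 55, false), (2, 75, false), (3, 56, false), (0, 14, false), (1, 119, false), (2, 118, false), (3, 83, false), (4, 64, false)], [(6, 61, true), (5, 71, true), (4, 88, true), (3, 101, true), (2, 106, true), (1, 110, true), (7, 56, true), (6, 66, true), (5, 91, true), (4, 104, true), (3, 109, true), (2, 113, true), (1, 116, true), (0, 118, true), (6, 87, true), (5, 100, true), (4, 105, true), (3, 10, true), (5, 6, true), (6, 3, true), (6, 3, false), (7, 42, false), (2, 106, false), (3, 54, false), (3, 7, false), (2,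 11, false), (3, 106, false), (4, 95, false), (5, 57, false), (2, 106, false), (3, 95, false), (4, 61, false), (5, 43, false), (4, 6, false), (5, 56, false), (6, 45, false), (3, 8, false), (4, 92, false), (1, 107, false), (2, 102, false), (3, 96, false), (4, 85, false), (5, 58, false), (1, 11, false), (2, 106, false), (3, 101, false), (4, 95, false), (5, 88, false), (6, 61, false), (7, 47, false), (2, 99, false), (3, 93, false), (0, 116, false), (1, 104, false), (2, 98, false), (3, 86, false), (0, 12, false), (1, 114, false), (2, 102, false), (3, 96, false), (4, 89, false), (0, 13, false), (1, 117, false), (2, 115, false), (3, 103, false), (4, 97, false), (5, 90, false), (6, 59, false), (1, 114, false), (2, 102, false), (3, 96, false), (4, 89, false), (5, 62, false), (6, 48, false), (2, 10, false), (3, 100, false), (4, 94, false), (5, 87, false), (1, 12, false), (2, 114, false), (3, 111, false), (4, 102, false), (5, 96, false), (6, 89, false), (7, 60, false), (0, 117, false), (1, 115, false), (2, 112, false), (3, 103, false), (4, 97, false), (5, 90, false), (6, 63, false), (7, 49, false), (0, 114, false), (1, 111,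 false), (2, 102, false), (3, 96, false), (4, 89, false), (5, 62, false), (6, 51, false), (0, 13, false), (1, 115, false), (2, 112, false), (3, 103, false), (4, 84, false), (1, 12, false), (2, 114, false), (3, 111, false), (4, 85, false), (2, 110, false), (3, 88, false), (1, 111, false), (2, 89, false), (0, 112, false), (1, 90, false), (0, 14, false), (1, 113, false), (2, 91, false), (2, 9, false), (0, 113, false), (1, 109, false), (2, 86, false), (0, 11, false), (1, 110, false), (2, 106, false), (3, 88, false), (4, 3, false), (0, 14, false), (1, 116, false), (2, 113, false), (3, 86, false), (1, 12, false), (2, 114, false), (3, 111, false), (4, 89, false), (1, 13, false), (2, 117, false), (3, 115, false), (4, 112, false), (5, 90, false), (6, 59, false), (4, 87, false), (2, 114, false), (3, 89, false), (4, 60, false), (2, 88, false), (3, 61, false), (4, 2, false), (3, 42, false), (1, 90, false), (2, 52, false), (0, 91, false), (1, 53, false), (0, 12, false), (0, 13, false), (1, 117, false), (0, 14, false), (1, 119, false), (2, 118, false), (3, 3, false), (3, 5, false), (4, 55, false), (3, 11, false), (4, 80, false),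 (5, 61, false), (2, 114, false), (3, 81, false), (4, 62, false), (1, 115, false), (2, 82, false), (3, 63, false), (4, 2, false), (3, 42, false), (1, 12, false), (2, 114, false), (3, 81, false), (4, 51, false), (0, 118, false), (1, 116, false), (2, 83, false), (3, 53, false), (3, 3, false), (2, 55, false), (1, 61, false), (0, 62, false), (0, 13, false), (1, 63, false), (2, 2, false), (1, 42, false), (1, 6, false), (2, 45, false), (1, 11, false), (2, 88, false), (3, 50, false)])]

/-- A conjugation. -/
def twoUSixFus1 : Schur.Tails.Fus where
  xs := [[10, 9, 8, 6, 5, 4], [12, 11, 8, 7, 5, 4, 1, 0], [12, 10, 9, 5, 0], [11, 10, 8, 7, 6, 1], [14, 13, 10, 7], [13, 12, 7, 4], [14, 13, 12, 10, 8], [13, 12, 10, 8, 7, 4], [11, 10], [14, 12, 11], [14, 12, 11, 9, 8, 7, 4], [14, 12, 11, 7], [14, 12, 11, 9, 4]]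
  ys := [[14, 11, 8, 7, 1, 0], [12, 11, 10, 8, 6, 5, 4, 0], [13, 12, 9, 5, 0], [14, 13, 10, 8, 6, 4, 1], [14, 13, 10, 7], [11, 10, 9, 7], [14, 13, 10, 9, 8, 7], [13, 11, 10, 9, 8], [13, 4], [14, 9, 4], [14, 12, 11, 9, 8, 4], [14, 9, 7, 4], [14, 12, 11, 9, 4]]
  rels := [
    ([0, 0], [12, 11, 9, 8, 5], [(5, 70, true), (4, 79, true), (3, 91, true), (2, 104, true), (1, 109, true), (0, 113, true), (4, 87, true), (3, 100, true), (2, 105, true), (1, 10, true), (5, 69, true), (4, 78, true), (3, 86, true), (2, 104, true), (1, 109, true), (0, 14, true), (1, 99, true), (0, 9, true), (3, 68, true), (2, 77, true), (1, 90, true), (0, 103, true), (2, 89, true), (1, 102, true), (3, 85, true), (2, 102, true), (1, 12, true), (1, 8, true), (3, 66, true), (2, 83, true), (1, 91, true), (0, 119, true), (3, 79, true), (2, 91, true), (1, 119, true), (0, 14, true), (1, 87, true), (3, 75, true), (2, 6, true), (3, 65, true), (2, 83, true), (1, 113, true), (0, 119, true), (3, 78, true), (4, 5, true), (4, 4, true), (4, 4, false), (4, 7, false), (5, 67, false), (2, 12, false), (3, 111, false), (4, 107, false), (5, 96, false), (6, 72, false),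 (1, 117, false), (2, 112, false), (3, 108, false), (4, 97, false), (5, 73, false), (2, 105, false), (3, 94, false), (4, 70, false), (2, 11, false), (3, 106, false), (4, 95, false), (5, 71, false), (2, 106, false), (3, 95, false), (4, 71, false), (1, 107, false), (2, 96, false), (3, 72, false), (0, 109, false), (1, 98, false), (2, 74, false), (1, 67, false), (0, 11, false), (1, 106, false), (2, 71, false), (0, 12, false), (1, 114, false), (2, 107, false), (3, 72, false), (0, 14, false), (1, 118, false), (2, 116, false), (3, 109, false), (4, 74, false)], [(5, 28, true), (4, 41, true), (3, 98, true), (2, 104, true), (1, 116, true), (0, 14, true), (4, 25, true), (3, 41, true), (2, 98, true), (1, 104, true), (0, 116, true), (4, 39, true), (3, 98, true), (2, 104, true), (1, 116, true), (0, 14, true), (2, 96, true), (1, 102, true), (0, 114, true), (4, 38, true), (3, 98, true), (2, 104, true), (1, 116, true), (0, 118, true), (4, 97, true), (3, 103, true), (2, 115, true), (1, 117, true), (5, 95, true), (4, 101, true), (3, 11, true), (6, 22, true), (5, 37, true), (4, 94, true), (3, 100, true), (6, 35, true), (5, 94, true),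 (4, 100, true), (3, 10, true), (4, 93, true), (3, 99, true), (5, 92, true), (4, 8, true), (6, 21, true), (5, 36, true), (4, 93, true), (3, 9, true), (4, 34, true), (3, 94, true), (4, 7, true), (5, 15, true), (4, 1, true), (4, 0, true), (4, 7, false), (4, 9, false), (5, 93, false), (3, 105, false), (4, 94, false), (3, 11, false), (4, 106, false), (5, 95, false), (6, 4, false), (1, 117, false), (2, 115, false), (3, 108, false), (4, 97, false), (5, 73, false), (3, 93, false), (0, 118, false), (1, 116, false), (2, 98, false), (3, 4, false), (2, 67, false), (2, 9, false), (3, 69, false), (0, 14, false), (1, 118, false), (2, 116, false), (3, 109, false), (4, 74, false)]),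
    ([1, 1], [12, 11, 9, 8, 7, 6], [(7, 26, true), (6, 39, true), (5, 74, true), (4, 83, true), (3, 98, true), (2, 104, true), (1, 116, true), (0, 118, true), (6, 72, true), (5, 81, true), (4, 96, true), (3, 102, true), (2, 114, true), (1, 12, true), (7, 25, true), (6, 41, true), (5, 74, true), (4, 83, true), (3, 98, true), (2, 104, true), (1, 116, true), (0, 14, true), (5, 39, true), (4, 74, true), (3, 83, true), (2, 98, true), (1, 104, true), (0, 116, true), (5, 72, true), (4, 81, true), (3, 96, true), (2, 102, true), (1, 114, true), (7, 38, true), (6, 74, true), (5, 83, true), (4, 98, true), (3, 104, true), (2, 116, true), (1, 118, true), (0, 14, true), (5, 73, true), (4, 82, true), (3, 97, true), (2, 103, true), (1, 115, true), (0, 117, true), (6, 71, true), (5, 80, true), (4, 95, true), (3, 101, true), (2, 11, true), (7, 22, true), (6, 37, true), (5, 70, true), (4, 79, true), (3, 98, true), (2, 104, true), (1, 118, true), (0, 119, true), (4, 94, true), (3, 100, true), (8, 35, true), (7, 70, true), (6, 79, true), (5, 98, true), (4, 104, true), (3, 113, true), (2, 118, true), (1, 119, true), (0, 14, true), (4,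 94, true), (3, 100, true), (2, 10, true), (5, 69, true), (4, 78, true), (3, 93, true), (2, 99, true), (6, 68, true), (5, 77, true), (4, 97, true), (3, 103, true), (2, 108, true), (1, 117, true), (0, 13, true), (3, 96, true), (2, 102, true), (1, 107, true), (0, 12, true), (2, 92, true), (1, 8, true), (5, 21, true), (4, 36, true), (3, 69, true), (2, 78, true), (1, 93, true), (0, 9, true), (3, 34, true), (2, 70, true), (1, 79, true), (0, 98, true), (1, 94, true), (4, 67, true), (3, 76, true), (2, 96, true), (1, 111, true), (3, 7, true), (6, 19, true), (5, 32, true), (4, 65, true), (3, 83, true), (2, 113, true), (1, 118, true), (0, 14, true), (2, 78, true), (3, 5, true), (5, 18, true), (4, 31, true), (3, 4, true), (4, 15, true), (3, 1, true), (3, 0, true), (3, 8, false), (1, 105, false), (2, 100, false), (0, 107, false), (1, 102, false), (0, 13, false), (1, 108, false), (2, 103, false), (0, 14, false), (1, 119, false), (2, 109, false), (3, 104, false), (4, 4, false), (4, 7, false), (5, 67, false), (3, 92, false), (4, 68, false), (2, 10, false), (3, 105, false), (4, 94, false), (5, 70, false), (2, 12, false), (3, 111,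 false), (4, 107, false), (5, 96, false), (6, 72, false), (1, 117, false), (2, 112, false), (3, 108, false), (4, 97, false), (5, 73, false), (2, 105, false), (3, 94, false), (4, 70, false), (2, 11, false), (3, 106, false), (4, 95, false), (5, 71, false), (2, 106, false), (3, 95, false), (4, 71, false), (1, 107, false), (2, 96, false), (3, 72, false), (0, 109, false), (1, 98, false), (2, 74, false), (1, 67, false), (0, 11, false), (1, 106, false), (2, 71, false), (0, 12, false), (1, 114, false), (2, 107, false), (3, 72, false), (0, 14, false), (1, 118, false), (2, 116, false), (3, 109, false), (4, 74, false)], [(7, 26, true), (6, 72, true), (5, 81, true), (4, 89, true), (3, 102, true), (2, 111, true), (1, 114, true), (0, 12, true), (6, 25, true), (5, 74, true), (4, 83, true), (3, 91, true), (2, 104, true), (1, 113, true), (0, 116, true), (6, 72, true), (5, 81, true), (4, 89, true), (3, 102, true), (2, 111, true), (1, 114, true), (7, 71, true), (6, 80, true), (5, 88, true), (4, 101, true), (3, 110, true), (2, 11, true), (7, 24, true), (6, 70, true), (5, 79, true), (4, 91, true), (3, 104, true), (2, 113, true), (1,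 118, true), (0, 14, true), (3, 87, true), (2, 100, true), (1, 10, true), (5, 22, true), (4, 70, true), (3, 79, true), (2, 91, true), (1, 104, true), (0, 118, true), (3, 87, true), (2, 100, true), (6, 68, true), (5, 77, true), (4, 90, true), (3, 103, true), (2, 112, true), (1, 117, true), (5, 89, true), (4, 102, true), (3, 111, true), (2, 12, true), (4, 85, true), (3, 102, true), (2, 111, true), (4, 8, true), (7, 20, true), (6, 66, true), (5, 83, true), (4, 91, true), (3, 113, true), (2, 118, true), (1, 119, true), (0, 14, true), (4, 79, true), (3, 91, true), (2, 113, true), (1, 118, true), (0, 119, true), (4, 87, true), (3, 10, true), (4, 75, true), (3, 6, true), (5, 19, true), (4, 65, true), (3, 83, true), (2, 118, true), (1, 119, true), (0, 14, true), (2, 78, true), (3, 5, true), (4, 18, true), (3, 4, true), (3, 0, true), (3, 7, false), (3, 8, false), (4, 92, false), (2, 99, false), (3, 93, false), (2, 10, false), (3, 100, false), (4, 94, false), (0, 117, false), (1, 112, false), (2, 103, false), (3, 97, false), (0, 14, false), (1, 118, false), (2, 113, false), (3, 104, false), (4, 98, false), (3, 92, false),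 (3, 9, false), (4, 93, false), (2, 105, false), (3, 94, false), (2, 11, false), (3, 106, false), (4, 95, false), (1, 13, false), (2, 117, false), (3, 115, false), (4, 108, false), (5, 97, false), (6, 4, false), (1, 117, false), (2, 115, false), (3, 108, false), (4, 97, false), (5, 73, false), (3, 93, false), (0, 118, false), (1, 116, false), (2, 98, false), (3, 4, false), (2, 67, false), (2, 9, false), (3, 69, false), (0, 14, false), (1, 118, false), (2, 116, false), (3, 109, false), (4, 74, false)]),
    ([2, 2], [11, 8, 7, 6, 5, 4], [(4, 26, true), (3, 81, true), (2, 107, true), (1, 111, true), (0, 12, true), (3, 24, true), (2, 79, true), (1, 109, true), (0, 113, true), (2, 105, true), (1, 10, true), (3, 23, true), (2, 78, true), (1, 9, true), (2, 19, true), (1, 5, true), (1, 0, true), (1, 7, false), (1, 10, false), (2, 94, false), (1, 13, false), (2, 112, false), (3, 97, false), (0, 119, false), (1, 113, false), (2, 98, false), (3, 4, false), (2, 67, false), (1, 12, false), (2, 111, false), (3, 72, false), (0, 117, false), (1, 112, false), (2, 73, false), (2, 8, false), (3, 68, false), (1, 100, false), (2, 70,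 false), (0, 102, false), (1, 72, false), (0, 13, false), (1, 103, false), (2, 73, false), (0, 14, false), (1, 119, false), (2, 104, false), (3, 74, false), (3, 7, false), (2, 92, false), (2, 10, false), (3, 94, false), (2, 12, false), (3, 111, false), (4, 96, false), (1, 117, false), (2, 112, false), (3, 97, false), (2, 94, false), (2, 11, false), (3, 95, false)], [(4, 27, true), (3, 83, true), (2, 109, true), (1, 118, true), (0, 119, true), (4, 82, true), (3, 108, true), (2, 117, true), (1, 13, true), (4, 26, true), (3, 81, true), (2, 107, true), (1, 12, true), (3, 23, true), (2, 78, true), (1, 9, true), (2, 19, true), (1, 5, true), (1, 0, true), (1, 7, false), (1, 10, false), (2, 94, false), (1, 13, false), (2, 112, false), (3, 97, false), (0, 119, false), (1, 113, false), (2, 98, false), (2, 9, false), (1, 105, false), (1, 11, false), (2, 106, false), (3, 7, false), (3, 8, false), (4, 92, false), (2, 99, false), (3, 93, false), (2, 10, false), (3, 100, false), (4, 94, false), (0, 115, false), (1, 112, false), (2, 103, false), (3, 97, false), (0, 14, false), (1, 116, false), (2, 113, false), (3, 104, false), (4,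 98, false), (3, 92, false), (3, 9, false), (4, 93, false), (2, 105, false), (3, 94, false), (1, 106, false), (2, 95, false), (1, 13, false), (2, 108, false), (3, 97, false), (4, 4, false), (1, 108, false), (2, 97, false), (3, 73, false)]),
    ([3, 3], [10, 8, 6, 5], [(5, 38, true), (4, 91, true), (3, 98, true), (2, 104, true), (1, 113, true), (0, 116, true), (5, 90, true), (4, 97, true), (3, 103, true), (2, 112, true), (1, 115, true), (6, 88, true), (5, 95, true), (4, 101, true), (3, 110, true), (2, 11, true), (6, 37, true), (5, 87, true), (4, 94, true), (3, 100, true), (2, 10, true), (5, 35, true), (4, 87, true), (3, 94, true), (2, 100, true), (5, 86, true), (4, 98, true), (3, 104, true), (2, 113, true), (1, 119, true), (0, 14, true), (3, 93, true), (2, 99, true), (5, 85, true), (4, 96, true), (3, 102, true), (2, 107, true), (1, 111, true), (5, 92, true), (4, 8, true), (6, 34, true), (5, 87, true), (4, 94, true), (3, 105, true), (2, 10, true), (4, 84, true), (3, 97, true), (2, 108, true), (1, 117, true), (0, 13, true), (2, 7, true), (3, 33, true), (2, 6, true), (2, 1, true), (2, 4, false), (2, 7, false), (3, 67,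 false), (0, 107, false), (1, 96, false), (2, 72, false), (0, 13, false), (1, 108, false), (2, 97, false), (3, 73, false), (2, 8, false), (3, 92, false), (4, 68, false), (1, 10, false), (2, 105, false), (3, 100, false), (4, 94, false), (5, 70, false), (1, 12, false), (2, 111, false), (3, 107, false), (4, 102, false), (5, 96, false), (6, 72, false), (0, 117, false), (1, 112, false), (2, 108, false), (3, 103, false), (4, 97, false), (5, 73, false), (0, 14, false), (1, 118, false), (2, 113, false), (3, 109, false), (4, 104, false), (5, 98, false), (6, 74, false), (2, 105, false), (3, 100, false), (4, 94, false), (5, 70, false), (2, 11, false), (3, 106, false), (4, 101, false), (5, 95, false), (6, 71, false)], [(6, 41, true), (5, 74, true), (4, 91, true), (3, 104, true), (2, 113, true), (1, 119, true), (0, 14, true), (5, 40, true), (4, 73, true), (3, 90, true), (2, 103, true), (1, 112, true), (0, 13, true), (4, 37, true), (3, 70, true), (2, 87, true), (1, 100, true), (0, 10, true), (3, 35, true), (2, 70, true), (1, 87, true), (0, 100, true), (3, 69, true), (2, 86, true), (1, 104, true), (0, 113, true), (2, 99, true),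 (5, 68, true), (4, 85, true), (3, 102, true), (2, 107, true), (1, 111, true), (4, 8, true), (6, 33, true), (5, 66, true), (4, 91, true), (3, 109, true), (2, 113, true), (1, 118, true), (0, 14, true), (3, 87, true), (2, 105, true), (1, 10, true), (2, 6, true), (3, 31, true), (2, 4, true), (2, 1, true), (2, 7, false), (1, 93, false), (1, 10, false), (2, 94, false), (1, 11, false), (2, 110, false), (3, 95, false), (3, 8, false), (3, 9, false), (4, 99, false), (2, 105, false), (3, 100, false), (0, 13, false), (1, 117, false), (2, 115, false), (3, 108, false), (4, 103, false), (0, 14, false), (1, 119, false), (2, 118, false), (3, 116, false), (4, 109, false), (5, 104, false), (6, 4, false), (1, 117, false), (2, 115, false), (3, 108, false), (4, 103, false), (5, 73, false)]),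
    ([4, 4], [], [(3, 98, true), (2, 113, true), (1, 119, true), (0, 14, true), (2, 97, true), (1, 112, true), (0, 13, true), (1, 94, true), (0, 10, true), (0, 7, true)], [(3, 98, true), (2, 113, true), (1, 119, true), (0, 14, true), (2, 97, true), (1, 112, true), (0, 13, true), (1, 94, true), (0, 10, true), (0, 7, true)]),
    ([5, 5], [], [(3, 73, true), (2, 97, true), (1, 117, true), (0, 13, true), (2, 72, true), (1, 96, true), (0, 12, true), (1, 67, true), (0, 7, true), (0, 4, true)], [(3, 95, true), (2, 106, true), (1, 110, true), (0, 11, true), (2, 94, true), (1, 105, true), (0, 10, true), (1, 93, true), (0, 9, true), (0, 7, true)]),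
    ([6, 6], [], [(4, 104, true), (3, 113, true), (2, 118, true), (1, 119, true), (0, 14, true), (3, 103, true), (2, 112, true), (1, 117, true), (0, 13, true), (2, 102, true), (1, 111, true), (0, 12, true), (1, 100, true), (0, 10, true), (0, 8, true)], [(5, 98, true), (4, 104, true), (3, 109, true), (2, 113, true), (1, 119, true), (0, 14, true), (4, 97, true), (3, 103, true), (2, 108, true), (1, 112, true), (0, 13, true), (3, 94, true), (2, 100, true), (1, 105, true), (0, 10, true), (2, 93, true), (1, 99, true), (0, 9, true), (1, 92, true), (0, 8, true), (0, 7, true)]),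
    ([7, 7], [], [(5, 73, true), (4, 97, true), (3, 103, true), (2, 112, true), (1, 117, true), (0, 13, true), (4, 72, true), (3, 96, true), (2, 102, true), (1, 111, true), (0, 12, true), (3, 70, true), (2, 94, true), (1, 100, true), (0, 10, true), (2, 68, true), (1, 92, true), (0, 8, true), (1, 67, true), (0, 7, true), (0, 4, true)], [(4, 103, true), (3, 108, true), (2, 112, true), (1, 115, true), (0, 13, true), (3, 101, true), (2, 106, true), (1, 110, true), (0, 11, true), (2, 100, true), (1, 105, true), (0, 10, true), (1, 99, true), (0, 9, true), (0, 8, true)]),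
    ([8, 8], [], [(1, 110, true), (0, 11, true), (0, 10, true)], [(1, 73, true), (0, 13, true), (0, 4, true)]),
    ([9, 9], [], [(2, 116, true), (1, 118, true), (0, 14, true), (1, 114, true), (0, 12, true), (0, 11, true)], [(2, 74, true), (1, 109, true), (0, 14, true), (1, 69, true), (0, 9, true), (0, 4, true)]),
    ([12, 12], [], [(4, 74, true), (3, 109, true), (2, 116, true), (1, 118, true), (0, 14, true), (3, 72, true), (2, 107, true), (1, 114, true), (0, 12, true), (2, 71, true), (1, 106, true), (0, 11, true), (1, 69, true), (0, 9, true), (0, 4, true)], [(4, 74, true), (3, 109, true), (2, 116, true), (1, 118, true), (0, 14, true), (3, 72, true), (2, 107, true), (1, 114, true), (0, 12, true), (2, 71, true), (1, 106, true), (0, 11, true), (1, 69, true), (0, 9, true), (0, 4, true)]),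
    ([0, 1], [12, 11, 9, 8, 5, 1, 0], [(5, 72, true), (4, 81, true), (3, 89, true), (2, 102, true), (1, 107, true), (0, 111, true), (6, 71, true), (5, 80, true), (4, 88, true), (3, 101, true), (2, 106, true), (1, 110, true), (7, 68, true), (6, 77, true), (5, 90, true), (4, 103, true), (3, 108, true), (2, 112, true), (1, 115, true), (0, 117, true), (6, 89, true), (5, 102, true), (4, 107, true), (3, 111, true), (2, 114, true), (1, 12, true), (5, 85, true), (4, 102, true), (3, 107, true), (2, 111, true), (1, 114, true), (5, 8, true), (7, 67, true), (6, 76, true), (5, 89, true), (4, 107, true), (3, 111, true), (2, 114, true), (1, 12, true), (4, 84, true), (3, 108, true), (2, 112, true), (1, 115, true), (0, 13, true), (6, 65, true), (5, 83, true), (4, 91, true), (3, 98, true), (2, 109, true), (1, 113, true), (0, 116, true), (6, 78, true), (5, 86, true), (4, 98, true), (3, 109, true), (2, 113, true), (1, 116, true), (0, 14, true), (3, 93, true), (2, 9, true), (4, 5, true), (4, 4, true), (4, 4, false), (5, 31, false), (6, 18, false), (4, 5, false), (2, 9, false), (3, 93, false), (0, 14, false), (1, 116, false), (2, 113,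 false), (3, 109, false), (4, 98, false), (5, 86, false), (6, 78, false), (0, 116, false), (1, 113, false), (2, 109, false), (3, 98, false), (4, 91, false), (5, 83, false), (6, 65, false), (7, 32, false), (8, 19, false), (4, 75, false), (1, 105, false), (2, 94, false), (0, 14, false), (1, 116, false), (2, 109, false), (3, 98, false), (4, 79, false), (0, 116, false), (1, 109, false), (2, 98, false), (3, 83, false), (4, 66, false), (5, 33, false), (6, 20, false), (2, 8, false), (3, 92, false), (0, 12, false), (1, 114, false), (2, 107, false), (3, 102, false), (4, 96, false), (0, 13, false), (1, 117, false), (2, 115, false), (3, 108, false), (4, 103, false), (5, 97, false), (6, 77, false), (7, 68, false), (3, 99, false), (4, 93, false), (5, 78, false), (6, 69, false), (3, 10, false), (4, 100, false), (5, 94, false), (0, 14, false), (1, 119, false), (2, 118, false), (3, 116, false), (4, 113, false), (5, 104, false), (6, 98, false), (7, 79, false), (8, 70, false), (9, 35, false), (4, 100, false), (5, 94, false), (0, 119, false), (1, 118, false), (2, 116, false), (3, 104, false), (4, 98, false), (5, 79, false), (6, 70,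 false), (7, 37, false), (8, 22, false), (3, 9, false), (4, 99, false), (5, 93, false), (6, 78, false), (7, 69, false), (8, 36, false), (9, 23, false), (3, 10, false), (4, 105, false), (5, 100, false), (6, 94, false), (0, 14, false), (1, 119, false), (2, 118, false), (3, 116, false), (4, 113, false), (5, 109, false), (6, 104, false), (7, 98, false), (8, 79, false), (9, 70, false), (10, 37, false), (11, 24, false), (3, 110, false), (4, 106, false), (2, 111, false), (3, 107, false), (4, 4, false), (4, 7, false), (5, 67, false), (2, 12, false), (3, 111, false), (4, 107, false), (5, 96, false), (6, 72, false), (1, 117, false), (2, 112, false), (3, 108, false), (4, 97, false), (5, 73, false), (2, 105, false), (3, 94, false), (4, 70, false), (2, 11, false), (3, 106, false), (4, 95, false), (5, 71, false), (2, 106, false), (3, 95, false), (4, 71, false), (1, 107, false), (2, 96, false), (3, 72, false), (0, 109, false), (1, 98, false), (2, 74, false), (1, 67, false), (0, 11, false), (1, 106, false), (2, 71, false), (0, 12, false), (1, 114, false), (2, 107, false), (3, 72, false), (0, 14, false), (1, 118, false), (2, 116,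 false), (3, 109, false), (4, 74, false)], [(5, 26, true), (4, 39, true), (3, 98, true), (2, 104, true), (1, 116, true), (0, 14, true), (2, 96, true), (1, 102, true), (0, 114, true), (5, 25, true), (4, 41, true), (3, 98, true), (2, 104, true), (1, 116, true), (0, 118, true), (5, 39, true), (4, 98, true), (3, 104, true), (2, 116, true), (1, 118, true), (0, 14, true), (3, 96, true), (2, 102, true), (1, 114, true), (0, 12, true), (3, 38, true), (2, 98, true), (1, 104, true), (0, 116, true), (3, 97, true), (2, 103, true), (1, 115, true), (4, 95, true), (3, 101, true), (2, 11, true), (5, 24, true), (4, 37, true), (3, 94, true), (2, 100, true), (6, 22, true), (5, 37, true), (4, 94, true), (3, 100, true), (2, 10, true), (4, 35, true), (3, 94, true), (2, 100, true), (4, 93, true), (3, 99, true), (5, 92, true), (4, 8, true), (6, 20, true), (5, 33, true), (7, 19, true), (6, 32, true), (8, 18, true), (7, 31, true), (9, 0, true), (9, 0, false), (8, 15, false), (1, 112, false), (2, 108, false), (3, 84, false), (1, 12, false), (2, 111, false), (3, 107, false), (4, 89, false), (5, 76, false), (6, 67, false), (0, 118, false), (1,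 113, false), (2, 86, false), (3, 78, false), (4, 69, false), (5, 21, false), (2, 8, false), (0, 111, false), (1, 102, false), (2, 85, false), (0, 12, false), (1, 111, false), (2, 102, false), (3, 89, false), (0, 13, false), (1, 117, false), (2, 112, false), (3, 103, false), (4, 90, false), (5, 77, false), (6, 68, false), (2, 100, false), (3, 87, false), (0, 14, false), (1, 119, false), (2, 118, false), (3, 104, false), (4, 91, false), (5, 79, false), (6, 70, false), (7, 22, false), (3, 11, false), (4, 101, false), (5, 88, false), (6, 80, false), (7, 71, false), (2, 114, false), (3, 102, false), (4, 89, false), (5, 81, false), (6, 72, false), (0, 119, false), (1, 116, false), (2, 104, false), (3, 91, false), (4, 83, false), (5, 74, false), (6, 25, false), (0, 14, false), (1, 119, false), (2, 116, false), (3, 104, false), (4, 91, false), (5, 83, false), (6, 74, false), (7, 28, false), (3, 10, false), (2, 110, false), (2, 12, false), (3, 111, false), (4, 7, false), (4, 9, false), (5, 93, false), (3, 105, false), (4, 94, false), (3, 11, false), (4, 106, false), (5, 95, false), (6, 4, false), (1, 117, false), (2, 115,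 false), (3, 108, false), (4, 97, false), (5, 73, false), (3, 93, false), (0, 118, false), (1, 116, false), (2, 98, false), (3, 4, false), (2, 67, false), (2, 9, false), (3, 69, false), (0, 14, false), (1, 118, false), (2, 116, false), (3, 109, false), (4, 74, false)]),
    ([0, 2], [10, 9, 7, 2, 0], [(5, 72, true), (4, 81, true), (3, 89, true), (2, 102, true), (1, 107, true), (0, 111, true), (6, 70, true), (5, 79, true), (4, 91, true), (3, 104, true), (2, 109, true), (1, 113, true), (0, 118, true), (5, 87, true), (4, 100, true), (3, 105, true), (2, 10, true), (6, 69, true), (5, 78, true), (4, 86, true), (3, 104, true), (2, 109, true), (1, 118, true), (0, 14, true), (2, 99, true), (1, 9, true), (4, 65, true), (3, 83, true), (2, 91, true), (1, 104, true), (0, 118, true), (4, 78, true), (3, 86, true), (2, 104, true), (1, 118, true), (0, 14, true), (1, 99, true), (4, 5, true), (4, 18, false), (4, 5, false), (5, 19, false), (3, 75, false), (4, 20, false), (0, 107, false), (0, 13, false), (1, 108, false), (2, 77, false), (1, 10, false), (2, 105, false), (0, 14, false), (1, 119, false), (2, 113, false), (3, 109, false),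 (4, 79, false), (5, 22, false), (3, 78, false), (4, 23, false), (0, 119, false), (1, 79, false), (2, 24, false), (1, 9, false), (1, 10, false), (2, 105, false), (1, 12, false), (2, 111, false), (3, 107, false), (4, 4, false), (4, 7, false), (5, 67, false), (4, 8, false), (5, 92, false), (6, 68, false), (2, 105, false), (3, 100, false), (4, 94, false), (5, 70, false), (1, 107, false), (2, 102, false), (3, 96, false), (4, 72, false), (0, 108, false), (1, 103, false), (2, 97, false), (3, 73, false), (0, 11, false), (1, 106, false), (2, 101, false), (3, 95, false), (4, 71, false), (0, 12, false), (1, 114, false), (2, 107, false), (3, 102, false), (4, 96, false), (5, 72, false), (0, 14, false), (1, 118, false), (2, 116, false), (3, 109, false), (4, 104, false), (5, 98, false), (6, 74, false)], [(5, 27, true), (4, 41, true), (3, 98, true), (2, 104, true), (1, 116, true), (0, 14, true), (3, 40, true), (2, 97, true), (1, 103, true), (0, 115, true), (5, 26, true), (4, 39, true), (3, 98, true), (2, 104, true), (1, 116, true), (0, 119, true), (4, 96, true), (3, 102, true), (2, 114, true), (7, 23, true), (6, 36, true), (5,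 93, true), (4, 99, true), (8, 19, true), (7, 32, true), (9, 0, true), (9, 0, false), (8, 15, false), (2, 114, false), (3, 107, false), (4, 102, false), (5, 76, false), (3, 99, false), (4, 78, false), (5, 21, false), (2, 12, false), (3, 114, false), (1, 117, false), (2, 115, false), (3, 77, false), (3, 10, false), (0, 118, false), (1, 116, false), (2, 113, false), (3, 79, false), (4, 22, false), (1, 110, false), (2, 80, false), (0, 111, false), (1, 81, false), (0, 14, false), (1, 113, false), (2, 83, false), (3, 25, false), (0, 113, false), (1, 83, false), (2, 28, false), (1, 9, false), (0, 12, false), (1, 111, false), (2, 107, false), (0, 13, false), (1, 117, false), (2, 112, false), (3, 108, false), (4, 8, false), (3, 99, false), (2, 100, false), (2, 11, false), (3, 101, false), (0, 117, false), (1, 115, false), (2, 103, false), (3, 4, false), (2, 9, false), (3, 99, false), (4, 69, false), (0, 14, false), (1, 118, false), (2, 116, false), (3, 109, false), (4, 104, false), (5, 74, false)]),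
    ([0, 3], [12, 11, 7, 6, 3, 0], [(5, 71, true), (4, 80, true), (3, 88, true), (2, 101, true), (1, 106, true), (0, 110, true), (6, 70, true), (5, 79, true), (4, 91, true), (3, 104, true), (2, 109, true), (1, 113, true), (0, 116, true), (5, 87, true), (4, 100, true), (3, 105, true), (2, 10, true), (6, 68, true), (5, 77, true), (4, 90, true), (3, 103, true), (2, 108, true), (1, 115, true), (5, 89, true), (4, 102, true), (3, 107, true), (2, 114, true), (6, 85, true), (5, 102, true), (4, 107, true), (3, 114, true), (2, 12, true), (4, 8, true), (6, 67, true), (5, 76, true), (4, 89, true), (3, 107, true), (2, 114, true), (5, 84, true), (4, 108, true), (3, 115, true), (2, 117, true), (1, 13, true), (7, 66, true), (6, 83, true), (5, 91, true), (4, 98, true), (3, 109, true), (2, 116, true), (1, 118, true), (0, 14, true), (5, 79, true), (4, 91, true), (3, 98, true), (2, 109, true), (1, 116, true), (0, 118, true), (5, 87, true), (4, 94, true), (3, 105, true), (7, 75, true), (6, 6, true), (7, 31, false), (6, 32, false), (6, 6, false), (7, 33, false), (5, 8, false), (6, 92, false), (1, 114, false), (2, 111, false), (3, 107,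 false), (4, 102, false), (5, 96, false), (6, 85, false), (3, 99, false), (4, 93, false), (0, 116, false), (1, 113, false), (2, 104, false), (3, 98, false), (4, 86, false), (1, 100, false), (2, 94, false), (3, 87, false), (4, 35, false), (1, 9, false), (2, 99, false), (3, 93, false), (0, 14, false), (1, 116, false), (2, 109, false), (3, 104, false), (4, 98, false), (5, 86, false), (6, 36, false), (2, 10, false), (3, 105, false), (4, 100, false), (5, 94, false), (6, 87, false), (7, 37, false), (2, 105, false), (1, 106, false), (2, 8, false), (1, 10, false), (2, 105, false), (3, 100, false), (1, 12, false), (2, 111, false), (3, 107, false), (4, 102, false), (1, 13, false), (2, 117, false), (3, 112, false), (4, 108, false), (5, 103, false), (0, 119, false), (1, 118, false), (2, 113, false), (3, 109, false), (4, 104, false), (5, 4, false), (5, 7, false), (6, 67, false), (4, 92, false), (5, 68, false), (2, 105, false), (3, 94, false), (4, 70, false), (1, 107, false), (2, 96, false), (3, 72, false), (0, 108, false), (1, 97, false), (2, 73, false), (1, 67, false), (0, 11, false), (1, 106, false), (2, 71, false), (0, 12,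 false), (1, 114, false), (2, 107, false), (3, 72, false), (0, 14, false), (1, 118, false), (2, 116, false), (3, 109, false), (4, 74, false)], [(5, 28, true), (4, 41, true), (3, 98, true), (2, 104, true), (1, 116, true), (0, 14, true), (4, 27, true), (3, 41, true), (2, 98, true), (1, 104, true), (0, 116, true), (4, 40, true), (3, 97, true), (2, 103, true), (1, 115, true), (6, 24, true), (5, 37, true), (4, 94, true), (3, 100, true), (7, 22, true), (6, 37, true), (5, 94, true), (4, 100, true), (3, 10, true), (5, 35, true), (4, 94, true), (3, 100, true), (5, 93, true), (4, 99, true), (6, 92, true), (5, 8, true), (7, 20, true), (6, 33, true), (8, 18, true), (7, 31, true), (9, 15, true), (8, 1, true), (8, 1, false), (1, 115, false), (2, 112, false), (3, 108, false), (4, 84, false), (5, 67, false), (2, 105, false), (3, 87, false), (4, 70, false), (5, 34, false), (3, 8, false), (1, 12, false), (2, 114, false), (3, 107, false), (4, 102, false), (5, 85, false), (6, 68, false), (3, 99, false), (0, 118, false), (1, 116, false), (2, 104, false), (3, 86, false), (4, 69, false), (2, 10, false), (3, 100, false), (4, 87, false),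 (5, 70, false), (6, 35, false), (1, 110, false), (2, 101, false), (3, 88, false), (4, 71, false), (0, 13, false), (1, 117, false), (2, 112, false), (3, 103, false), (4, 90, false), (5, 73, false), (0, 14, false), (1, 119, false), (2, 118, false), (3, 113, false), (4, 104, false), (5, 91, false), (6, 74, false), (7, 38, false), (0, 119, false), (1, 118, false), (2, 113, false), (3, 104, false), (4, 91, false), (5, 74, false), (6, 41, false), (0, 117, false), (0, 14, false), (1, 118, false), (2, 7, false), (2, 8, false), (3, 92, false), (2, 9, false), (3, 99, false), (4, 93, false), (2, 10, false), (3, 105, false), (4, 100, false), (5, 94, false), (1, 13, false), (2, 117, false), (3, 112, false), (4, 108, false), (5, 103, false), (6, 97, false), (0, 119, false), (1, 118, false), (2, 113, false), (3, 109, false), (4, 104, false), (5, 98, false), (4, 92, false), (3, 93, false), (2, 94, false), (2, 11, false), (3, 95, false), (0, 117, false), (1, 115, false), (2, 97, false), (3, 4, false), (2, 67, false), (2, 9, false), (3, 69, false), (0, 14, false), (1, 118, false), (2, 116, false), (3, 109, false), (4, 74, false)]),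
    ([0, 4], [7, 6, 5, 4, 0], [(5, 74, true), (4, 83, true), (3, 91, true), (2, 104, true), (1, 109, true), (0, 113, true), (6, 73, true), (5, 82, true), (4, 90, true), (3, 103, true), (2, 108, true), (1, 112, true), (7, 70, true), (6, 79, true), (5, 91, true), (4, 104, true), (3, 109, true), (2, 113, true), (1, 119, true), (0, 14, true), (4, 87, true), (3, 100, true), (2, 105, true), (1, 10, true), (5, 67, true), (4, 76, true), (3, 89, true), (2, 102, true), (1, 107, true), (4, 84, true), (3, 103, true), (2, 108, true), (1, 117, true), (0, 13, true), (2, 92, false), (1, 93, false), (1, 10, false), (2, 94, false), (0, 13, false), (1, 117, false), (0, 14, false), (1, 119, false), (2, 118, false), (3, 4, false), (3, 7, false), (4, 67, false), (2, 96, false), (3, 72, false), (1, 97, false), (2, 73, false), (1, 8, false), (2, 92, false), (3, 68, false), (1, 10, false), (2, 100, false), (3, 94, false), (4, 70, false), (1, 12, false), (2, 111, false), (3, 102, false), (4, 96, false), (5, 72, false), (1, 13, false), (2, 117, false), (3, 112, false), (4, 103, false), (5, 97, false), (6, 73, false), (0, 119, false), (1,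 118, false), (2, 113, false), (3, 104, false), (4, 98, false), (5, 74, false)], [(5, 28, true), (4, 41, true), (3, 98, true), (2, 104, true), (1, 116, true), (0, 14, true), (4, 27, true), (3, 41, true), (2, 98, true), (1, 104, true), (0, 116, true), (4, 40, true), (3, 97, true), (2, 103, true), (1, 115, true), (6, 24, true), (5, 37, true), (4, 94, true), (3, 100, true), (7, 21, true), (6, 36, true), (5, 93, true), (4, 99, true), (7, 34, true), (6, 94, true), (5, 100, true), (4, 105, true), (3, 10, true), (5, 7, true), (5, 7, false), (4, 92, false), (2, 106, false), (3, 95, false), (0, 119, false), (1, 109, false), (2, 98, false), (1, 10, false), (2, 105, false), (0, 112, false), (1, 108, false), (0, 14, false), (1, 113, false), (2, 109, false), (3, 7, false), (2, 93, false), (1, 94, false), (1, 11, false), (2, 95, false), (2, 8, false), (2, 9, false), (3, 99, false), (2, 10, false), (3, 105, false), (4, 100, false), (1, 13, false), (2, 115, false), (3, 112, false), (4, 108, false), (5, 103, false), (0, 119, false), (1, 116, false), (2, 113, false), (3, 109, false), (4, 104, false)]),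
    ([0, 5], [11, 10, 9, 8, 6, 4, 0], [(5, 73, true), (4, 82, true), (3, 90, true), (2, 103, true), (1, 108, true), (0, 112, true), (6, 72, true), (5, 81, true), (4, 89, true), (3, 102, true), (2, 107, true), (1, 111, true), (7, 67, true), (6, 76, true), (5, 89, true), (4, 102, true), (3, 107, true), (2, 111, true), (1, 12, true), (4, 84, true), (3, 103, true), (2, 108, true), (1, 112, true), (0, 13, true), (6, 4, true), (6, 4, false), (1, 99, false), (2, 93, false), (0, 14, false), (1, 113, false), (2, 104, false), (3, 98, false), (4, 86, false), (0, 113, false), (1, 104, false), (2, 98, false), (3, 91, false), (4, 65, false), (0, 100, false), (1, 94, false), (0, 14, false), (1, 104, false), (2, 98, false), (3, 66, false), (1, 92, false), (2, 68, false), (1, 9, false), (2, 93, false), (3, 69, false), (1, 10, false), (2, 105, false), (3, 94, false), (4, 70, false), (3, 67, false), (1, 105, false), (2, 70, false), (1, 13, false), (2, 108, false), (3, 73, false), (0, 119, false), (1, 109, false), (2, 74, false), (2, 8, false), (3, 68, false), (1, 10, false), (2, 105, false), (3, 100, false), (4, 70, false), (1, 12,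 false), (2, 111, false), (3, 107, false), (4, 102, false), (5, 72, false), (0, 117, false), (1, 112, false), (2, 108, false), (3, 103, false), (4, 73, false), (0, 14, false), (1, 118, false), (2, 113, false), (3, 109, false), (4, 104, false), (5, 74, false), (2, 105, false), (3, 100, false), (4, 70, false), (2, 11, false), (3, 106, false), (4, 101, false), (5, 71, false), (2, 106, false), (3, 101, false), (4, 71, false), (1, 107, false), (2, 102, false), (3, 72, false), (0, 109, false), (1, 104, false), (2, 74, false), (2, 7, false), (1, 92, false), (0, 93, false), (0, 11, false), (1, 95, false), (0, 12, false), (1, 114, false), (2, 96, false), (0, 14, false), (1, 118, false), (2, 116, false), (3, 98, false)], [(5, 25, true), (4, 41, true), (3, 98, true), (2, 104, true), (1, 116, true), (0, 14, true), (3, 39, true), (2, 98, true), (1, 104, true), (0, 116, true), (3, 96, true), (2, 102, true), (1, 114, true), (5, 38, true), (4, 98, true), (3, 104, true), (2, 116, true), (1, 118, true), (0, 14, true), (3, 97, true), (2, 103, true), (1, 115, true), (0, 117, true), (4, 95, true), (3, 101, true), (2, 11, true), (5, 24,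 true), (4, 37, true), (3, 94, true), (2, 100, true), (6, 23, true), (5, 36, true), (4, 93, true), (3, 99, true), (7, 21, true), (6, 36, true), (5, 93, true), (4, 99, true), (3, 9, true), (5, 34, true), (4, 94, true), (3, 100, true), (2, 10, true), (3, 7, true), (3, 7, false), (2, 92, false), (2, 11, false), (3, 95, false), (0, 14, false), (1, 119, false), (2, 118, false), (3, 116, false), (4, 98, false), (4, 10, false), (1, 117, false), (2, 115, false), (3, 112, false), (0, 118, false), (1, 116, false), (2, 113, false), (3, 7, false), (3, 8, false), (4, 92, false), (3, 9, false), (4, 99, false), (5, 93, false), (2, 105, false), (3, 100, false), (4, 94, false), (0, 13, false), (1, 117, false), (2, 115, false), (3, 108, false), (4, 103, false), (5, 97, false), (0, 14, false), (1, 119, false), (2, 118, false), (3, 116, false), (4, 109, false), (5, 104, false), (6, 98, false), (7, 4, false), (1, 117, false), (2, 115, false), (3, 108, false), (4, 103, false), (5, 97, false), (6, 73, false), (3, 99, false), (4, 93, false), (0, 118, false), (1, 116, false), (2, 104, false), (3, 98, false), (4, 4, false), (2, 92, false),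 (3, 68, false), (2, 9, false), (3, 93, false), (4, 69, false), (1, 106, false), (2, 95, false), (3, 71, false), (0, 107, false), (1, 96, false), (2, 72, false), (0, 14, false), (1, 109, false), (2, 98, false), (3, 74, false)]),
    ([0, 6], [12, 10, 7, 6, 5, 4, 0], [(5, 74, true), (4, 83, true), (3, 91, true), (2, 104, true), (1, 109, true), (0, 113, true), (6, 73, true), (5, 82, true), (4, 90, true), (3, 103, true), (2, 108, true), (1, 112, true), (7, 72, true), (6, 81, true), (5, 89, true), (4, 102, true), (3, 107, true), (2, 111, true), (8, 70, true), (7, 79, true), (6, 91, true), (5, 104, true), (4, 109, true), (3, 113, true), (2, 118, true), (1, 119, true), (0, 14, true), (5, 87, true), (4, 100, true), (3, 105, true), (2, 10, true), (6, 68, true), (5, 77, true), (4, 90, true), (3, 103, true), (2, 108, true), (1, 117, true), (0, 13, true), (3, 89, true), (2, 102, true), (1, 107, true), (0, 12, true), (2, 85, true), (1, 102, true), (0, 107, true), (2, 8, true), (2, 8, false), (1, 99, false), (1, 10, false), (2, 100, false), (3, 7, false), (1, 100, false), (2, 94, false), (0, 13, false), (1, 117, false), (2, 103,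 false), (3, 97, false), (0, 14, false), (1, 119, false), (2, 118, false), (3, 104, false), (4, 98, false), (5, 4, false), (4, 67, false), (2, 102, false), (3, 72, false), (1, 103, false), (2, 73, false), (1, 68, false), (1, 10, false), (2, 70, false), (1, 12, false), (2, 111, false), (3, 72, false), (1, 13, false), (2, 117, false), (3, 112, false), (4, 73, false), (0, 119, false), (1, 118, false), (2, 113, false), (3, 74, false), (3, 7, false), (3, 8, false), (4, 92, false), (2, 100, false), (3, 94, false), (1, 102, false), (2, 96, false), (0, 103, false), (1, 97, false), (2, 4, false), (1, 67, false), (0, 68, false), (0, 9, false), (1, 69, false), (0, 11, false), (1, 106, false), (2, 71, false), (0, 12, false), (1, 114, false), (2, 107, false), (3, 72, false), (0, 14, false), (1, 118, false), (2, 116, false), (3, 109, false), (4, 74, false)], [(5, 28, true), (4, 41, true), (3, 98, true), (2, 104, true), (1, 116, true), (0, 14, true), (4, 27, true), (3, 41, true), (2, 98, true), (1, 104, true), (0, 116, true), (4, 40, true), (3, 97, true), (2, 103, true), (1, 115, true), (6, 24, true), (5, 37, true), (4, 94, true),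 (3, 100, true), (7, 23, true), (6, 36, true), (5, 93, true), (4, 99, true), (8, 22, true), (7, 37, true), (6, 94, true), (5, 100, true), (4, 105, true), (3, 10, true), (6, 35, true), (5, 94, true), (4, 100, true), (3, 105, true), (6, 93, true), (5, 99, true), (4, 9, true), (5, 92, true), (4, 8, true), (6, 21, true), (5, 36, true), (4, 93, true), (6, 34, true), (5, 94, true), (4, 105, true), (3, 10, true), (4, 7, true), (4, 7, false), (4, 8, false), (5, 92, false), (2, 106, false), (3, 101, false), (4, 95, false), (0, 119, false), (1, 109, false), (2, 104, false), (3, 98, false), (1, 10, false), (2, 105, false), (3, 100, false), (0, 112, false), (1, 108, false), (2, 103, false), (0, 14, false), (1, 113, false), (2, 109, false), (3, 104, false), (4, 7, false), (2, 99, false), (3, 93, false), (1, 100, false), (2, 94, false), (1, 11, false), (2, 101, false), (3, 95, false), (2, 9, false), (2, 10, false), (3, 105, false), (1, 13, false), (2, 115, false), (3, 112, false), (4, 108, false), (0, 119, false), (1, 116, false), (2, 113, false), (3, 109, false), (4, 8, false), (3, 99, false), (2, 100, false), (1, 101, false),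 (0, 103, false), (1, 4, false), (0, 68, false), (0, 9, false), (1, 69, false), (0, 11, false), (1, 106, false), (2, 71, false), (0, 12, false), (1, 114, false), (2, 107, false), (3, 72, false), (0, 14, false), (1, 118, false), (2, 116, false), (3, 109, false), (4, 74, false)]),
    ([0, 8], [11, 7, 6, 5, 4, 0], [(5, 71, true), (4, 80, true), (3, 88, true), (2, 101, true), (1, 106, true), (0, 110, true), (6, 70, true), (5, 79, true), (4, 91, true), (3, 104, true), (2, 109, true), (1, 113, true), (0, 116, true), (5, 87, true), (4, 100, true), (3, 105, true), (2, 10, true), (2, 10, false), (3, 7, false), (2, 94, false), (1, 13, false), (2, 115, false), (3, 97, false), (0, 119, false), (1, 116, false), (2, 98, false), (3, 4, false), (2, 67, false), (1, 12, false), (2, 114, false), (3, 72, false), (0, 117, false), (1, 115, false), (2, 73, false), (2, 8, false), (3, 68, false), (2, 10, false), (3, 100, false), (4, 70, false), (0, 114, false), (1, 111, false), (2, 102, false), (3, 72, false), (0, 13, false), (1, 115, false), (2, 112, false), (3, 103, false), (4, 73, false), (0, 14, false), (1, 119, false), (2, 116, false),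 (3, 113, false), (4, 104, false), (5, 74, false), (5, 7, false), (4, 92, false), (3, 94, false), (2, 12, false), (3, 114, false), (4, 96, false), (1, 117, false), (2, 115, false), (3, 97, false)], [(5, 27, true), (4, 41, true), (3, 98, true), (2, 104, true), (1, 116, true), (0, 14, true), (3, 40, true), (2, 97, true), (1, 103, true), (0, 115, true), (5, 18, true), (4, 31, true), (3, 67, false), (2, 68, false), (1, 71, false), (0, 14, false), (1, 119, false), (2, 74, false), (2, 7, false), (3, 67, false), (2, 10, false), (3, 94, false), (4, 70, false), (1, 112, false), (2, 97, false), (3, 73, false), (0, 113, false), (1, 98, false), (2, 74, false), (1, 67, false), (1, 9, false), (2, 69, false), (0, 105, false), (1, 70, false), (0, 11, false), (1, 106, false), (2, 71, false), (2, 7, false), (3, 67, false), (2, 8, false), (3, 92, false), (4, 68, false), (1, 99, false), (2, 93, false), (3, 69, false), (1, 10, false), (2, 100, false), (3, 94, false), (4, 70, false), (0, 13, false), (1, 115, false), (2, 112, false), (3, 103, false), (4, 97, false), (5, 73, false), (0, 14, false), (1, 119, false), (2, 116, false), (3,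 113, false), (4, 104, false), (5, 98, false), (6, 74, false), (4, 92, false), (5, 68, false), (4, 9, false), (5, 93, false), (6, 69, false), (3, 105, false), (4, 94, false), (5, 70, false), (2, 106, false), (3, 95, false), (4, 71, false), (1, 108, false), (2, 97, false), (3, 73, false)]),
    ([0, 9], [9, 0], [(5, 74, true), (4, 83, true), (3, 91, true), (2, 104, true), (1, 109, true), (0, 113, true), (6, 72, true), (5, 81, true), (4, 89, true), (3, 102, true), (2, 107, true), (1, 111, true), (7, 71, true), (6, 80, true), (5, 88, true), (4, 101, true), (3, 106, true), (2, 110, true)], [(5, 28, true), (4, 41, true), (3, 98, true), (2, 104, true), (1, 116, true), (0, 14, true), (4, 23, true), (3, 36, true), (2, 93, true), (1, 99, true), (5, 18, true), (4, 31, true), (3, 67, false), (2, 68, false), (0, 106, false), (1, 71, false), (0, 14, false), (1, 109, false), (2, 74, false)])]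

/-- A conjugation. -/
def twoUSixFus2 : Schur.Tails.Fus where
  xs := [[14, 10, 8, 7, 5, 3, 2, 1, 0], [13, 11, 10, 9, 8, 7, 5, 2, 1], [14, 13, 7, 2, 0], [13, 9, 2], [14, 13, 12, 11, 10, 6, 5, 0], [11, 10], [10, 8, 6, 0], [14, 13, 10, 9, 8], [13, 12, 9, 7], [14, 13, 9, 7], [8], [11, 10, 9, 8, 7], [14, 12, 11, 10, 9], [14, 13, 12, 11, 10]]
  ys := [[12, 9, 8, 7, 6, 3, 2, 1, 0], [14, 13, 12, 9, 7, 6, 5, 3, 2, 1], [14, 13, 7, 2, 0], [13, 12, 7, 5], [13, 12, 11, 10, 9, 6, 0], [11, 6], [12, 10, 6, 3, 0], [14, 13, 6, 5, 3], [13, 12, 5, 2], [14, 13, 5, 2], [3], [11, 6, 5, 3, 2], [14, 12, 11, 6, 5], [14, 13, 12, 11, 6]]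
  rels := [
    ([0, 0], [13, 12, 10, 9, 6, 3, 2], [(8, 28, true), (7, 41, true), (6, 53, true), (5, 64, true), (4, 83, true), (3, 98, true), (2, 104, true), (1, 113, true), (0, 14, true), (7, 24, true), (6, 37, true), (5, 49, true), (4, 63, true), (3, 82, true), (2, 97, true), (1, 103, true), (0, 112, true), (5, 60, true), (4, 81, true), (3, 96, true), (2, 102, true), (1, 111, true), (5, 79, true), (4, 98, true), (3, 104, true), (2, 113, true), (1, 118, true), (0, 119, true), (5, 94, true), (4, 100, true), (3, 10, true), (9, 22, true), (8, 37, true), (7, 49, true), (6, 63, true), (5, 82, true), (4, 97, true), (3, 103, true), (2, 117, true), (1, 13, true), (5, 60, true), (4, 81, true), (3, 96, true), (2, 102, true), (1, 12, true), (3, 79, true), (2, 98, true), (1, 104, true), (0, 14, true), (1, 94, true), (0, 100, true), (6, 35, true), (5, 49, true), (4, 63, true), (3, 82, true), (2, 97, true), (1, 103, true), (0, 112, true), (5, 60, true), (4, 81, true), (3, 96, true), (2, 102, true), (1, 111, true), (5, 79, true), (4, 98, true), (3, 104, true), (2, 113, true), (1, 118, true), (0, 119, true), (5, 94, true), (4,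 100, true), (3, 10, true), (7, 48, true), (6, 62, true), (5, 81, true), (4, 96, true), (3, 102, true), (2, 12, true), (5, 59, true), (4, 82, true), (3, 97, true), (2, 103, true), (1, 13, true), (3, 81, true), (2, 96, true), (1, 102, true), (4, 78, true), (3, 93, true), (2, 99, true), (7, 47, true), (6, 61, true), (5, 80, true), (4, 95, true), (3, 101, true), (2, 106, true), (7, 58, true), (6, 77, true), (5, 97, true), (4, 103, true), (3, 108, true), (2, 115, true), (1, 117, true), (6, 96, true), (5, 102, true), (4, 107, true), (3, 114, true), (2, 12, true), (5, 92, true), (4, 8, true), (9, 21, true), (8, 36, true), (7, 48, true), (6, 62, true), (5, 81, true), (4, 96, true), (3, 107, true), (2, 114, true), (7, 59, true), (6, 82, true), (5, 97, true), (4, 108, true), (3, 115, true), (2, 117, true), (1, 13, true), (5, 81, true), (4, 96, true), (3, 107, true), (2, 114, true), (1, 12, true), (4, 78, true), (3, 93, true), (2, 9, true), (6, 34, true), (5, 49, true), (4, 63, true), (3, 82, true), (2, 97, true), (1, 115, true), (5, 60, true), (4, 81, true), (3, 96, true), (2, 114, true), (5, 79, true), (4, 98, true), (3,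 116, true), (2, 118, true), (1, 119, true), (0, 14, true), (3, 94, true), (7, 46, true), (6, 57, true), (5, 80, true), (4, 95, true), (3, 110, true), (2, 11, true), (4, 76, true), (3, 96, true), (2, 111, true), (1, 12, true), (2, 7, true), (6, 19, true), (5, 32, true), (4, 44, true), (3, 55, true), (2, 5, true), (5, 17, true), (4, 33, true), (3, 45, true), (2, 56, true), (5, 30, true), (4, 45, true), (3, 56, true), (2, 6, true), (3, 44, true), (2, 55, true), (4, 42, true), (3, 3, true), (5, 16, true), (4, 32, true), (3, 44, true), (2, 5, true), (3, 29, true), (2, 45, true), (3, 2, true), (4, 15, true), (3, 1, true), (3, 0, true), (3, 0, false), (3, 2, false), (3, 5, false), (4, 44, false), (5, 16, false), (2, 7, false), (0, 112, false), (1, 97, false), (2, 84, false), (0, 12, false), (1, 111, false), (2, 96, false), (3, 89, false), (4, 76, false), (5, 46, false), (2, 9, false), (3, 93, false), (0, 14, false), (1, 118, false), (2, 113, false), (3, 109, false), (4, 98, false), (5, 86, false), (6, 78, false), (1, 111, false), (2, 107, false), (3, 96, false), (4, 89, false), (5, 81, false), (6, 48, false), (7, 21, false),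 (1, 13, false), (2, 112, false), (3, 108, false), (4, 97, false), (5, 90, false), (6, 82, false), (7, 52, false), (0, 119, false), (1, 113, false), (2, 109, false), (3, 98, false), (4, 91, false), (5, 83, false), (6, 53, false), (7, 27, false), (0, 14, false), (1, 119, false), (2, 113, false), (3, 109, false), (4, 98, false), (5, 91, false), (6, 83, false), (7, 53, false), (8, 28, false), (6, 16, false), (3, 93, false), (0, 119, false), (1, 113, false), (2, 98, false), (3, 86, false), (4, 23, false), (0, 112, false), (1, 97, false), (2, 90, false), (0, 14, false), (1, 113, false), (2, 98, false), (3, 91, false), (4, 27, false), (2, 8, false), (3, 92, false), (1, 100, false), (2, 94, false), (1, 9, false), (2, 99, false), (1, 13, false), (2, 108, false), (3, 103, false), (0, 119, false), (1, 109, false), (2, 104, false), (1, 10, false), (1, 11, false), (2, 110, false), (1, 12, false), (2, 114, false), (3, 111, false), (0, 14, false), (1, 119, false), (2, 118, false), (3, 116, false), (4, 113, false)], [(8, 26, true), (7, 39, true), (6, 53, true), (5, 64, true), (4, 91, true), (3, 98, true), (2, 104, true), (1, 109,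 true), (0, 118, true), (7, 51, true), (6, 62, true), (5, 89, true), (4, 96, true), (3, 102, true), (2, 107, true), (1, 12, true), (8, 23, true), (7, 36, true), (6, 48, true), (5, 62, true), (4, 89, true), (3, 96, true), (2, 102, true), (1, 107, true), (6, 59, true), (5, 90, true), (4, 97, true), (3, 103, true), (2, 108, true), (1, 117, true), (6, 89, true), (5, 96, true), (4, 102, true), (3, 107, true), (2, 12, true), (5, 86, true), (4, 98, true), (3, 104, true), (2, 109, true), (1, 119, true), (0, 14, true), (3, 93, true), (2, 99, true), (1, 9, true), (7, 22, true), (6, 37, true), (5, 49, true), (4, 63, true), (3, 90, true), (2, 97, true), (1, 103, true), (0, 13, true), (3, 60, true), (2, 89, true), (1, 96, true), (0, 102, true), (3, 87, true), (2, 94, true), (1, 100, true), (7, 35, true), (6, 49, true), (5, 63, true), (4, 90, true), (3, 97, true), (2, 103, true), (1, 112, true), (0, 117, true), (6, 60, true), (5, 89, true), (4, 96, true), (3, 102, true), (2, 111, true), (1, 12, true), (4, 87, true), (3, 94, true), (2, 100, true), (1, 10, true), (5, 48, true), (4, 62, true), (3, 89, true), (2, 96, true), (1, 102,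 true), (5, 59, true), (4, 90, true), (3, 97, true), (2, 103, true), (1, 117, true), (0, 13, true), (3, 89, true), (2, 96, true), (1, 102, true), (0, 12, true), (2, 86, true), (1, 98, true), (0, 104, true), (2, 93, true), (1, 99, true), (6, 47, true), (5, 61, true), (4, 88, true), (3, 95, true), (2, 101, true), (1, 106, true), (6, 58, true), (5, 85, true), (4, 96, true), (3, 102, true), (2, 107, true), (1, 114, true), (5, 92, true), (4, 8, true), (9, 21, true), (8, 36, true), (7, 48, true), (6, 62, true), (5, 89, true), (4, 96, true), (3, 107, true), (2, 114, true), (1, 12, true), (5, 59, true), (4, 90, true), (3, 97, true), (2, 108, true), (1, 115, true), (5, 89, true), (4, 96, true), (3, 107, true), (2, 114, true), (6, 86, true), (5, 98, true), (4, 109, true), (3, 116, true), (2, 118, true), (1, 119, true), (0, 14, true), (4, 93, true), (3, 9, true), (7, 34, true), (6, 49, true), (5, 63, true), (4, 90, true), (3, 97, true), (2, 115, true), (1, 117, true), (0, 13, true), (4, 60, true), (3, 89, true), (2, 96, true), (1, 114, true), (0, 12, true), (2, 87, true), (1, 94, true), (5, 46, true), (4, 57, true), (3, 88,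 true), (2, 95, true), (1, 110, true), (0, 11, true), (2, 84, true), (1, 97, true), (0, 112, true), (2, 7, true), (6, 20, true), (5, 33, true), (4, 45, true), (3, 56, true), (2, 6, true), (5, 17, true), (4, 33, true), (3, 45, true), (2, 56, true), (5, 30, true), (4, 45, true), (3, 56, true), (2, 6, true), (3, 44, true), (2, 55, true), (4, 42, true), (3, 3, true), (5, 16, true), (4, 32, true), (3, 44, true), (2, 5, true), (3, 29, true), (2, 45, true), (3, 2, true), (4, 15, true), (3, 1, true), (3, 0, true), (3, 0, false), (3, 2, false), (3, 5, false), (4, 44, false), (5, 16, false), (2, 7, false), (0, 112, false), (1, 97, false), (2, 84, false), (0, 12, false), (1, 111, false), (2, 96, false), (3, 89, false), (4, 76, false), (5, 46, false), (2, 9, false), (3, 93, false), (0, 14, false), (1, 118, false), (2, 113, false), (3, 109, false), (4, 98, false), (5, 86, false), (6, 78, false), (1, 111, false), (2, 107, false), (3, 96, false), (4, 89, false), (5, 81, false), (6, 48, false), (7, 21, false), (1, 13, false), (2, 112, false), (3, 108, false), (4, 97, false), (5, 90, false), (6, 82, false), (7, 52, false), (0, 119,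 false), (1, 113, false), (2, 109, false), (3, 98, false), (4, 91, false), (5, 83, false), (6, 53, false), (7, 27, false), (0, 14, false), (1, 119, false), (2, 113, false), (3, 109, false), (4, 98, false), (5, 91, false), (6, 83, false), (7, 53, false), (8, 28, false), (6, 44, false), (7, 19, false), (1, 112, false), (2, 108, false), (3, 84, false), (4, 46, false), (0, 113, false), (1, 86, false), (0, 12, false), (1, 111, false), (2, 89, false), (3, 48, false), (4, 21, false), (0, 111, false), (1, 89, false), (2, 51, false), (3, 26, false), (0, 13, false), (1, 112, false), (2, 90, false), (3, 52, false), (0, 14, false), (1, 119, false), (2, 113, false), (3, 91, false), (4, 53, false), (5, 27, false), (4, 3, false), (5, 42, false), (3, 56, false), (4, 45, false), (2, 12, false), (3, 60, false), (1, 117, false), (2, 63, false), (3, 49, false), (1, 62, false), (2, 51, false), (1, 5, false), (2, 55, false), (1, 13, false), (2, 82, false), (3, 63, false), (0, 119, false), (1, 83, false), (2, 64, false), (1, 6, false), (1, 11, false), (2, 88, false), (1, 12, false), (2, 114, false), (3, 89, false), (0, 14, false), (1,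 119, false), (2, 118, false), (3, 116, false), (4, 91, false)]),
    ([1, 1], [13, 10, 8, 6, 3, 2], [(8, 40, true), (7, 52, true), (6, 82, true), (5, 97, true), (4, 103, true), (3, 108, true), (2, 112, true), (1, 115, true), (0, 13, true), (7, 38, true), (6, 53, true), (5, 83, true), (4, 98, true), (3, 104, true), (2, 109, true), (1, 113, true), (0, 116, true), (7, 52, true), (6, 82, true), (5, 97, true), (4, 103, true), (3, 108, true), (2, 112, true), (1, 115, true), (8, 50, true), (7, 80, true), (6, 95, true), (5, 101, true), (4, 106, true), (3, 110, true), (2, 11, true), (8, 37, true), (7, 49, true), (6, 82, true), (5, 97, true), (4, 103, true), (3, 108, true), (2, 112, true), (1, 13, true), (5, 79, true), (4, 98, true), (3, 104, true), (2, 109, true), (1, 113, true), (0, 14, true), (3, 94, true), (2, 100, true), (1, 105, true), (0, 10, true), (5, 36, true), (4, 48, true), (3, 81, true), (2, 96, true), (1, 102, true), (0, 107, true), (4, 78, true), (3, 93, true), (2, 99, true), (1, 9, true), (5, 35, true), (4, 49, true), (3, 82, true), (2, 97, true), (1, 103, true), (0, 117, true), (4, 79, true), (3, 98, true),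 (2, 104, true), (1, 118, true), (0, 119, true), (4, 94, true), (3, 100, true), (7, 48, true), (6, 81, true), (5, 96, true), (4, 102, true), (3, 111, true), (2, 12, true), (5, 78, true), (4, 93, true), (3, 99, true), (7, 47, true), (6, 80, true), (5, 95, true), (4, 101, true), (3, 106, true), (2, 110, true), (7, 77, true), (6, 97, true), (5, 103, true), (4, 108, true), (3, 112, true), (2, 115, true), (1, 13, true), (5, 96, true), (4, 102, true), (3, 107, true), (2, 111, true), (1, 114, true), (6, 92, true), (5, 8, true), (8, 34, true), (7, 49, true), (6, 82, true), (5, 97, true), (4, 108, true), (3, 112, true), (2, 115, true), (1, 117, true), (7, 79, true), (6, 98, true), (5, 109, true), (4, 113, true), (3, 116, true), (2, 118, true), (1, 119, true), (0, 14, true), (5, 94, true), (4, 105, true), (3, 10, true), (6, 46, true), (5, 76, true), (4, 96, true), (3, 107, true), (2, 114, true), (1, 12, true), (3, 7, true), (5, 32, true), (4, 44, true), (3, 5, true), (4, 29, true), (3, 45, true), (4, 2, true), (4, 1, true), (4, 0, false), (4, 2, false), (4, 5, false), (5, 44, false), (6, 16, false), (3, 7, false), (0, 115,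 false), (1, 108, false), (2, 97, false), (3, 84, false), (0, 12, false), (1, 114, false), (2, 107, false), (3, 96, false), (4, 89, false), (5, 76, false), (6, 46, false), (2, 93, false), (0, 14, false), (1, 118, false), (2, 116, false), (3, 98, false), (4, 86, false), (5, 78, false), (1, 114, false), (2, 96, false), (3, 89, false), (4, 81, false), (5, 48, false), (6, 21, false), (1, 13, false), (2, 115, false), (3, 97, false), (4, 90, false), (5, 82, false), (6, 52, false), (0, 119, false), (1, 116, false), (2, 98, false), (3, 91, false), (4, 83, false), (5, 53, false), (6, 27, false), (0, 14, false), (1, 119, false), (2, 116, false), (3, 98, false), (4, 91, false), (5, 83, false), (6, 53, false), (7, 28, false), (5, 16, false), (3, 9, false), (4, 93, false), (0, 119, false), (1, 116, false), (2, 109, false), (3, 98, false), (4, 86, false), (5, 23, false), (0, 115, false), (1, 108, false), (2, 97, false), (3, 90, false), (0, 14, false), (1, 116, false), (2, 109, false), (3, 98, false), (4, 91, false), (5, 27, false), (3, 8, false), (4, 92, false), (2, 10, false), (3, 105, false), (4, 100, false), (5, 94, false),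 (3, 99, false), (1, 12, false), (2, 114, false), (3, 111, false), (4, 102, false), (1, 13, false), (2, 117, false), (3, 115, false), (4, 112, false), (5, 103, false)], [(9, 41, true), (8, 53, true), (7, 64, true), (6, 83, true), (5, 91, true), (4, 98, true), (3, 109, true), (2, 118, true), (1, 119, true), (0, 14, true), (8, 40, true), (7, 52, true), (6, 63, true), (5, 82, true), (4, 90, true), (3, 97, true), (2, 108, true), (1, 117, true), (0, 13, true), (7, 39, true), (6, 53, true), (5, 64, true), (4, 83, true), (3, 91, true), (2, 98, true), (1, 109, true), (0, 118, true), (7, 51, true), (6, 62, true), (5, 81, true), (4, 89, true), (3, 96, true), (2, 107, true), (1, 12, true), (7, 36, true), (6, 48, true), (5, 62, true), (4, 81, true), (3, 89, true), (2, 96, true), (1, 107, true), (6, 59, true), (5, 82, true), (4, 90, true), (3, 97, true), (2, 108, true), (1, 117, true), (6, 81, true), (5, 89, true), (4, 96, true), (3, 107, true), (2, 12, true), (5, 78, true), (4, 86, true), (3, 98, true), (2, 109, true), (1, 119, true), (0, 14, true), (2, 93, true), (1, 9, true), (6, 34, true), (5, 49, true), (4, 63, true), (3,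 82, true), (2, 90, true), (1, 97, true), (0, 13, true), (3, 60, true), (2, 81, true), (1, 89, true), (0, 96, true), (3, 79, true), (2, 91, true), (1, 98, true), (0, 118, true), (3, 87, true), (2, 94, true), (7, 46, true), (6, 57, true), (5, 80, true), (4, 88, true), (3, 95, true), (2, 110, true), (6, 76, true), (5, 89, true), (4, 96, true), (3, 111, true), (2, 114, true), (1, 12, true), (4, 84, true), (3, 97, true), (2, 112, true), (1, 115, true), (4, 7, true), (8, 33, true), (7, 45, true), (6, 56, true), (5, 75, true), (4, 6, true), (7, 32, true), (6, 44, true), (5, 55, true), (4, 5, true), (6, 30, true), (5, 45, true), (4, 56, true), (6, 44, true), (5, 55, true), (7, 42, true), (6, 3, true), (7, 29, true), (6, 45, true), (5, 75, true), (4, 6, true), (5, 2, true), (5, 1, true), (5, 0, false), (5, 2, false), (4, 44, false), (5, 16, false), (4, 7, false), (5, 46, false), (4, 9, false), (5, 93, false), (2, 12, false), (3, 114, false), (4, 111, false), (5, 107, false), (6, 96, false), (7, 48, false), (8, 21, false), (1, 117, false), (2, 115, false), (3, 112, false), (4, 108, false), (5, 97, false), (6, 52, false),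 (0, 118, false), (1, 116, false), (2, 113, false), (3, 109, false), (4, 98, false), (5, 53, false), (6, 27, false), (0, 14, false), (1, 118, false), (2, 116, false), (3, 113, false), (4, 109, false), (5, 98, false), (6, 53, false), (7, 28, false), (6, 5, false), (7, 44, false), (8, 19, false), (1, 114, false), (2, 111, false), (3, 107, false), (4, 76, false), (5, 46, false), (3, 78, false), (1, 12, false), (2, 114, false), (3, 111, false), (4, 81, false), (5, 48, false), (6, 21, false), (1, 114, false), (2, 111, false), (3, 81, false), (4, 51, false), (5, 26, false), (1, 13, false), (2, 115, false), (3, 112, false), (4, 82, false), (5, 52, false), (0, 119, false), (1, 116, false), (2, 113, false), (3, 83, false), (4, 53, false), (5, 27, false), (4, 3, false), (5, 42, false), (3, 6, false), (4, 75, false), (5, 56, false), (6, 45, false), (2, 87, false), (0, 14, false), (1, 119, false), (2, 116, false), (3, 91, false), (4, 79, false), (2, 12, false), (3, 114, false), (4, 89, false), (5, 81, false), (6, 60, false), (1, 117, false), (2, 115, false), (3, 90, false), (4, 82, false), (5, 63, false), (6, 49, false), (1,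 114, false), (2, 89, false), (3, 81, false), (4, 62, false), (5, 51, false), (3, 55, false), (1, 12, false), (2, 114, false), (3, 89, false), (4, 62, false), (1, 13, false), (2, 117, false), (3, 115, false), (4, 90, false), (5, 63, false)]),
    ([2, 2], [7, 6, 5, 4], [(4, 28, true), (3, 53, true), (2, 98, true), (1, 119, true), (0, 14, true), (3, 27, true), (2, 53, true), (1, 98, true), (0, 119, true), (3, 52, true), (2, 97, true), (1, 13, true), (3, 21, true), (2, 48, true), (1, 96, true), (2, 93, true), (4, 46, true), (3, 7, true), (4, 16, true), (3, 44, true), (4, 2, true), (4, 0, true), (4, 0, false), (3, 19, false), (3, 6, false), (4, 20, false), (2, 10, false), (3, 105, false), (4, 87, false), (5, 24, false), (2, 11, false), (3, 110, false), (4, 106, false), (5, 88, false), (1, 114, false), (2, 111, false), (3, 107, false), (4, 89, false), (0, 116, false), (1, 113, false), (2, 109, false), (3, 91, false), (4, 25, false), (0, 12, false), (1, 114, false), (2, 111, false), (3, 107, false), (4, 89, false), (5, 26, false), (0, 13, false), (1, 117, false), (2, 115, false), (3, 112, false), (4, 108, false), (5,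 90, false), (0, 14, false), (1, 119, false), (2, 118, false), (3, 116, false), (4, 113, false), (5, 109, false), (6, 91, false), (7, 27, false), (0, 119, false), (1, 118, false), (2, 116, false), (3, 113, false), (4, 109, false), (5, 91, false), (6, 28, false), (3, 105, false), (4, 87, false), (5, 24, false), (2, 106, false), (3, 88, false), (1, 107, false), (2, 89, false), (0, 14, false), (1, 119, false), (2, 109, false), (3, 91, false), (4, 25, false), (3, 8, false), (2, 10, false), (3, 105, false), (4, 100, false)], [(4, 28, true), (3, 53, true), (2, 98, true), (1, 119, true), (0, 14, true), (3, 27, true), (2, 53, true), (1, 98, true), (0, 119, true), (3, 52, true), (2, 97, true), (1, 13, true), (3, 21, true), (2, 48, true), (1, 96, true), (2, 93, true), (4, 46, true), (3, 7, true), (4, 16, true), (3, 44, true), (4, 2, true), (4, 0, true), (4, 0, false), (3, 6, false), (4, 75, false), (5, 20, false), (0, 118, false), (1, 86, false), (2, 78, false), (3, 23, false), (1, 10, false), (2, 87, false), (0, 14, false), (1, 118, false), (2, 113, false), (3, 91, false), (4, 79, false), (5, 24, false), (2, 11, false), (3,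 110, false), (4, 88, false), (5, 80, false), (1, 114, false), (2, 111, false), (3, 89, false), (4, 81, false), (0, 116, false), (1, 113, false), (2, 91, false), (3, 83, false), (4, 25, false), (0, 12, false), (1, 114, false), (2, 111, false), (3, 89, false), (4, 81, false), (5, 26, false), (0, 13, false), (1, 117, false), (2, 115, false), (3, 112, false), (4, 90, false), (5, 82, false), (0, 14, false), (1, 119, false), (2, 118, false), (3, 116, false), (4, 113, false), (5, 91, false), (6, 83, false), (7, 27, false), (5, 75, false), (6, 20, false), (3, 110, false), (4, 80, false), (2, 111, false), (3, 81, false), (0, 119, false), (1, 113, false), (2, 83, false), (3, 25, false), (3, 3, false), (2, 6, false), (3, 75, false), (4, 56, false), (1, 87, false), (0, 14, false), (1, 119, false), (2, 91, false), (3, 79, false), (2, 12, false), (3, 89, false), (4, 81, false), (5, 60, false), (2, 89, false), (3, 81, false), (4, 62, false)]),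
    ([3, 3], [13, 11, 10, 9], [(2, 52, true), (1, 108, true), (0, 13, true), (1, 48, true), (0, 107, true), (1, 9, true), (1, 2, true), (1, 7, false), (1, 9, false), (2, 93, false), (0, 13, false), (1, 117, false), (2, 108, false), (3, 97, false), (0, 14, false), (1, 119, false), (2, 118, false), (3, 109, false), (4, 98, false), (4, 8, false), (5, 92, false), (3, 10, false), (3, 11, false), (4, 110, false)], [(3, 82, true), (2, 97, true), (1, 117, true), (0, 13, true), (2, 81, true), (1, 96, true), (0, 12, true), (1, 76, true), (0, 96, true), (1, 7, true), (1, 5, true), (1, 2, false), (1, 5, false), (2, 44, false), (0, 13, false), (1, 117, false), (2, 82, false), (3, 52, false), (0, 14, false), (1, 119, false), (2, 118, false), (3, 83, false), (4, 53, false), (4, 3, false), (5, 42, false), (3, 6, false), (3, 11, false), (4, 88, false)]),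
    ([4, 4], [9, 8], [(7, 28, true), (6, 83, true), (5, 91, true), (4, 113, true), (3, 116, true), (2, 118, true), (1, 119, true), (0, 14, true), (6, 27, true), (5, 83, true), (4, 91, true), (3, 113, true), (2, 116, true), (1, 118, true), (0, 119, true), (6, 82, true), (5, 90, true), (4, 112, true), (3, 115, true), (2, 117, true), (1, 13, true), (6, 26, true), (5, 81, true), (4, 89, true), (3, 111, true), (2, 114, true), (1, 12, true), (5, 25, true), (4, 83, true), (3, 91, true), (2, 113, true), (1, 116, true), (0, 14, true), (3, 81, true), (2, 89, true), (1, 111, true), (0, 114, true), (4, 80, true), (3, 88, true), (2, 110, true), (1, 11, true), (4, 24, true), (3, 79, true), (2, 91, true), (1, 113, true), (0, 118, true), (3, 87, true), (2, 10, true), (4, 20, true), (3, 75, true), (2, 6, true), (3, 19, true), (2, 5, true), (2, 0, true), (2, 7, false), (2, 9, false), (3, 93, false), (1, 107, false), (2, 96, false), (1, 13, false), (2, 108, false), (3, 97, false)], [(6, 27, true), (5, 91, true), (4, 109, true), (3, 113, true), (2, 116, true), (1, 118, true), (0, 119, true), (6, 90, true), (5, 108, true), (4, 112,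 true), (3, 115, true), (2, 117, true), (1, 13, true), (6, 26, true), (5, 89, true), (4, 107, true), (3, 111, true), (2, 114, true), (1, 12, true), (5, 25, true), (4, 91, true), (3, 109, true), (2, 113, true), (1, 116, true), (0, 14, true), (3, 89, true), (2, 107, true), (1, 111, true), (0, 114, true), (4, 88, true), (3, 106, true), (2, 110, true), (1, 11, true), (4, 24, true), (3, 87, true), (2, 105, true), (1, 10, true), (3, 23, true), (2, 86, true), (1, 109, true), (0, 118, true), (2, 9, true), (3, 20, true), (2, 6, true), (2, 0, true), (2, 2, false), (2, 5, false), (3, 44, false), (1, 81, false), (2, 51, false), (1, 13, false), (2, 82, false), (3, 52, false)]),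
    ([5, 5], [], [(1, 110, true), (0, 11, true), (0, 10, true)], [(1, 88, true), (0, 11, true), (0, 6, true)]),
    ([6, 6], [13, 12, 10, 9, 8, 7], [(3, 24, true), (2, 87, true), (1, 100, true), (0, 10, true), (2, 22, true), (1, 87, true), (0, 100, true), (2, 85, true), (1, 102, true), (0, 111, true), (2, 8, true), (3, 20, true), (2, 6, true), (2, 0, true), (2, 8, false), (2, 9, false), (3, 99, false), (1, 105, false), (2, 100, false), (0, 13, false), (1, 117, false), (2, 108, false), (3, 103, false), (0, 14, false), (1, 119, false), (2, 118, false), (3, 109, false), (4, 104, false), (5, 7, false), (3, 99, false), (4, 93, false), (2, 102, false), (3, 96, false), (1, 103, false), (2, 97, false), (1, 9, false), (2, 99, false), (1, 13, false), (2, 108, false), (3, 103, false), (0, 119, false), (1, 109, false), (2, 104, false), (1, 10, false), (1, 11, false), (2, 110, false), (1, 12, false), (2, 114, false), (3, 111, false), (0, 14, false), (1, 119, false), (2, 118, false), (3, 116, false), (4, 113, false)], [(4, 26, true), (3, 62, true), (2, 89, true), (1, 111, true), (0, 12, true), (3, 24, true), (2, 60, true), (1,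 89, true), (0, 111, true), (2, 87, true), (1, 10, true), (3, 20, true), (2, 56, true), (1, 6, true), (2, 17, true), (1, 56, true), (2, 3, true), (2, 0, true), (2, 3, false), (2, 5, false), (3, 55, false), (1, 75, false), (2, 56, false), (0, 13, false), (1, 117, false), (2, 82, false), (3, 63, false), (0, 14, false), (1, 119, false), (2, 118, false), (3, 83, false), (4, 64, false), (5, 2, false), (3, 55, false), (4, 44, false), (2, 62, false), (3, 51, false), (1, 63, false), (2, 52, false), (1, 5, false), (2, 55, false), (1, 13, false), (2, 82, false), (3, 63, false), (0, 119, false), (1, 83, false), (2, 64, false), (1, 6, false), (1, 11, false), (2, 88, false), (1, 12, false), (2, 114, false), (3, 89, false), (0, 14, false), (1, 119, false), (2, 118, false), (3, 116, false), (4, 91, false)]),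
    ([7, 7], [], [(4, 104, true), (3, 109, true), (2, 113, true), (1, 119, true), (0, 14, true), (3, 103, true), (2, 108, true), (1, 112, true), (0, 13, true), (2, 100, true), (1, 105, true), (0, 10, true), (1, 99, true), (0, 9, true), (0, 8, true)], [(4, 64, true), (3, 83, true), (2, 91, true), (1, 119, true), (0, 14, true), (3, 63, true), (2, 82, true), (1, 90, true), (0, 13, true), (2, 56, true), (1, 75, true), (0, 6, true), (1, 55, true), (0, 5, true), (0, 3, true)]),
    ([8, 8], [], [(3, 97, true), (2, 108, true), (1, 117, true), (0, 13, true), (2, 96, true), (1, 107, true), (0, 12, true), (1, 93, true), (0, 9, true), (0, 7, true)], [(3, 52, true), (2, 82, true), (1, 117, true), (0, 13, true), (2, 51, true), (1, 81, true), (0, 12, true), (1, 44, true), (0, 5, true), (0, 2, true)]),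
    ([10, 10], [], [(0, 8, true)], [(0, 3, true)]),
    ([12, 12], [], [(4, 109, true), (3, 113, true), (2, 116, true), (1, 118, true), (0, 14, true), (3, 107, true), (2, 111, true), (1, 114, true), (0, 12, true), (2, 106, true), (1, 110, true), (0, 11, true), (1, 105, true), (0, 10, true), (0, 9, true)], [(4, 83, true), (3, 91, true), (2, 116, true), (1, 118, true), (0, 14, true), (3, 81, true), (2, 89, true), (1, 114, true), (0, 12, true), (2, 80, true), (1, 88, true), (0, 11, true), (1, 75, true), (0, 6, true), (0, 5, true)]),
    ([13, 13], [], [(4, 113, true), (3, 116, true), (2, 118, true), (1, 119, true), (0, 14, true), (3, 112, true), (2, 115, true), (1, 117, true), (0, 13, true), (2, 111, true), (1, 114, true), (0, 12, true), (1, 110, true), (0, 11, true), (0, 10, true)], [(4, 91, true), (3, 116, true), (2, 118, true), (1, 119, true), (0, 14, true), (3, 90, true), (2, 115, true), (1, 117, true), (0, 13, true), (2, 89, true), (1, 114, true), (0, 12, true), (1, 88, true), (0, 11, true), (0, 6, true)]),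
    ([0, 1], [12, 8, 7, 6, 3, 2, 1, 0], [(8, 27, true), (7, 41, true), (6, 53, true), (5, 64, true), (4, 83, true), (3, 98, true), (2, 104, true), (1, 113, true), (0, 14, true), (6, 40, true), (5, 52, true), (4, 63, true), (3, 82, true), (2, 97, true), (1, 103, true), (0, 112, true), (8, 25, true), (7, 41, true), (6, 53, true), (5, 64, true), (4, 83, true), (3, 98, true), (2, 104, true), (1, 113, true), (0, 119, true), (8, 39, true), (7, 53, true), (6, 64, true), (5, 83, true), (4, 98, true), (3, 104, true), (2, 113, true), (1, 119, true), (0, 14, true), (6, 51, true), (5, 62, true), (4, 81, true), (3, 96, true), (2, 102, true), (1, 111, true), (8, 38, true), (7, 53, true), (6, 64, true), (5, 83, true), (4, 98, true), (3, 104, true), (2, 113, true), (1, 118, true), (0, 119, true), (8, 52, true), (7, 63, true), (6, 82, true), (5, 97, true), (4, 103, true), (3, 112, true), (2, 117, true), (1, 13, true), (7, 50, true), (6, 61, true), (5, 80, true), (4, 95, true), (3, 101, true), (2, 110, true), (10, 24, true), (9, 37, true), (8, 49, true), (7, 63, true), (6, 82, true), (5, 97, true), (4, 103, true), (3, 112, true),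 (2, 115, true), (1, 117, true), (8, 60, true), (7, 81, true), (6, 96, true), (5, 102, true), (4, 111, true), (3, 114, true), (2, 12, true), (6, 79, true), (5, 98, true), (4, 104, true), (3, 113, true), (2, 116, true), (1, 119, true), (0, 14, true), (4, 94, true), (3, 100, true), (2, 10, true), (8, 23, true), (7, 36, true), (6, 48, true), (5, 62, true), (4, 81, true), (3, 96, true), (2, 102, true), (1, 114, true), (6, 59, true), (5, 82, true), (4, 97, true), (3, 103, true), (2, 115, true), (1, 117, true), (0, 13, true), (4, 81, true), (3, 96, true), (2, 102, true), (1, 114, true), (0, 12, true), (3, 78, true), (2, 93, true), (1, 99, true), (8, 22, true), (7, 37, true), (6, 49, true), (5, 63, true), (4, 82, true), (3, 97, true), (2, 103, true), (1, 108, true), (0, 115, true), (6, 60, true), (5, 81, true), (4, 96, true), (3, 102, true), (2, 107, true), (1, 114, true), (6, 79, true), (5, 98, true), (4, 104, true), (3, 109, true), (2, 116, true), (1, 118, true), (0, 119, true), (6, 94, true), (5, 100, true), (4, 105, true), (11, 35, true), (10, 49, true), (9, 63, true), (8, 82, true), (7, 97, true), (6, 103, true), (5,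 108, true), (4, 112, true), (3, 115, true), (2, 117, true), (1, 13, true), (8, 60, true), (7, 81, true), (6, 96, true), (5, 102, true), (4, 107, true), (3, 111, true), (2, 114, true), (1, 12, true), (6, 79, true), (5, 98, true), (4, 104, true), (3, 109, true), (2, 113, true), (1, 116, true), (0, 14, true), (4, 94, true), (3, 100, true), (2, 105, true), (1, 10, true), (6, 48, true), (5, 62, true), (4, 81, true), (3, 96, true), (2, 102, true), (1, 107, true), (0, 114, true), (6, 59, true), (5, 82, true), (4, 97, true), (3, 103, true), (2, 108, true), (1, 115, true), (0, 117, true), (6, 81, true), (5, 96, true), (4, 102, true), (3, 107, true), (2, 114, true), (1, 12, true), (5, 78, true), (4, 93, true), (3, 99, true), (2, 9, true), (6, 47, true), (5, 61, true), (4, 80, true), (3, 95, true), (2, 101, true), (1, 11, true), (4, 58, true), (3, 77, true), (2, 97, true), (1, 103, true), (0, 13, true), (1, 96, true), (0, 102, true), (2, 92, true), (1, 8, true), (6, 21, true), (5, 36, true), (4, 48, true), (3, 62, true), (2, 81, true), (1, 96, true), (0, 12, true), (2, 59, true), (1, 82, true), (0, 97, true), (2, 81, true),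 (1, 96, true), (3, 78, true), (2, 93, true), (7, 34, true), (6, 49, true), (5, 63, true), (4, 82, true), (3, 97, true), (2, 108, true), (1, 117, true), (0, 13, true), (4, 60, true), (3, 81, true), (2, 96, true), (1, 107, true), (0, 12, true), (2, 79, true), (1, 98, true), (0, 109, true), (2, 94, true), (1, 105, true), (6, 46, true), (5, 57, true), (4, 80, true), (3, 95, true), (2, 106, true), (1, 110, true), (5, 76, true), (4, 96, true), (3, 107, true), (2, 111, true), (1, 114, true), (5, 7, true), (9, 19, true), (8, 32, true), (7, 44, true), (6, 55, true), (5, 5, true), (8, 16, true), (7, 32, true), (6, 44, true), (5, 55, true), (8, 29, true), (7, 45, true), (6, 56, true), (5, 75, true), (8, 2, true), (9, 15, true), (8, 1, true), (8, 1, false), (8, 2, false), (5, 75, false), (6, 56, false), (7, 45, false), (8, 29, false), (6, 42, false), (5, 44, false), (5, 6, false), (6, 45, false), (7, 30, false), (6, 5, false), (7, 44, false), (8, 32, false), (5, 7, false), (1, 13, false), (2, 117, false), (3, 115, false), (4, 112, false), (5, 108, false), (6, 97, false), (7, 84, false), (2, 114, false), (3, 111, false), (4,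 107, false), (5, 96, false), (6, 89, false), (7, 76, false), (8, 46, false), (3, 105, false), (4, 94, false), (5, 87, false), (0, 119, false), (1, 116, false), (2, 109, false), (3, 98, false), (4, 91, false), (5, 79, false), (0, 115, false), (1, 108, false), (2, 97, false), (3, 90, false), (4, 82, false), (5, 49, false), (6, 34, false), (2, 8, false), (3, 92, false), (0, 12, false), (1, 114, false), (2, 107, false), (3, 102, false), (4, 96, false), (5, 85, false), (0, 114, false), (1, 107, false), (2, 102, false), (3, 96, false), (4, 89, false), (0, 13, false), (1, 115, false), (2, 108, false), (3, 103, false), (4, 97, false), (5, 90, false), (6, 77, false), (1, 106, false), (2, 101, false), (3, 95, false), (4, 88, false), (5, 80, false), (6, 47, false), (1, 99, false), (2, 93, false), (0, 14, false), (1, 119, false), (2, 104, false), (3, 98, false), (4, 86, false), (5, 78, false), (2, 12, false), (3, 102, false), (4, 96, false), (5, 89, false), (6, 81, false), (7, 48, false), (3, 10, false), (4, 100, false), (5, 94, false), (6, 87, false), (0, 119, false), (1, 118, false), (2, 113, false), (3, 104, false), (4,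 98, false), (5, 91, false), (6, 79, false), (0, 117, false), (1, 112, false), (2, 103, false), (3, 97, false), (4, 90, false), (5, 82, false), (6, 49, false), (7, 35, false), (1, 100, false), (2, 94, false), (3, 87, false), (0, 14, false), (1, 118, false), (2, 104, false), (3, 98, false), (4, 91, false), (5, 79, false), (1, 13, false), (2, 117, false), (3, 103, false), (4, 97, false), (5, 90, false), (6, 82, false), (7, 49, false), (8, 37, false), (0, 119, false), (1, 118, false), (2, 104, false), (3, 98, false), (4, 91, false), (5, 83, false), (6, 53, false), (7, 41, false), (0, 117, false), (1, 103, false), (2, 84, false), (0, 85, false), (0, 9, false), (0, 14, false), (1, 109, false), (2, 86, false), (1, 10, false), (2, 105, false), (3, 87, false), (1, 11, false), (2, 110, false), (3, 106, false), (4, 88, false), (1, 13, false), (2, 115, false), (3, 112, false), (4, 108, false), (5, 90, false), (6, 0, false), (6, 2, false), (6, 5, false), (7, 44, false), (8, 16, false), (5, 7, false), (1, 115, false), (2, 112, false), (3, 108, false), (4, 97, false), (5, 84, false), (1, 12, false), (2, 114, false), (3, 111, false),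 (4, 107, false), (5, 96, false), (6, 89, false), (7, 76, false), (8, 46, false), (4, 93, false), (0, 118, false), (1, 116, false), (2, 113, false), (3, 98, false), (4, 86, false), (5, 78, false), (0, 114, false), (1, 111, false), (2, 96, false), (3, 89, false), (4, 81, false), (5, 48, false), (6, 21, false), (0, 13, false), (1, 115, false), (2, 112, false), (3, 97, false), (4, 90, false), (5, 82, false), (6, 52, false), (0, 14, false), (1, 119, false), (2, 116, false), (3, 113, false), (4, 98, false), (5, 91, false), (6, 83, false), (7, 53, false), (8, 27, false), (0, 119, false), (1, 116, false), (2, 113, false), (3, 98, false), (4, 91, false), (5, 83, false), (6, 53, false), (7, 28, false), (5, 16, false), (3, 9, false), (4, 93, false), (0, 14, false), (1, 119, false), (2, 116, false), (3, 113, false), (4, 109, false), (5, 98, false), (6, 86, false), (7, 23, false), (1, 115, false), (2, 112, false), (3, 108, false), (4, 97, false), (5, 90, false), (0, 116, false), (1, 113, false), (2, 109, false), (3, 98, false), (4, 91, false), (5, 27, false), (3, 8, false), (4, 92, false), (1, 105, false), (2, 100, false), (3,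 94, false), (2, 92, false), (1, 93, false), (1, 10, false), (2, 94, false), (0, 13, false), (1, 115, false), (2, 112, false), (3, 97, false), (0, 14, false), (1, 119, false), (2, 116, false), (3, 113, false), (4, 98, false), (4, 9, false), (2, 12, false), (3, 114, false), (4, 111, false), (5, 107, false), (1, 117, false), (2, 115, false), (3, 112, false), (4, 108, false)], [(8, 28, true), (7, 41, true), (6, 53, true), (5, 64, true), (4, 91, true), (3, 98, true), (2, 104, true), (1, 109, true), (0, 118, true), (9, 27, true), (8, 41, true), (7, 53, true), (6, 64, true), (5, 91, true), (4, 98, true), (3, 104, true), (2, 109, true), (1, 118, true), (0, 14, true), (7, 40, true), (6, 52, true), (5, 63, true), (4, 90, true), (3, 97, true), (2, 103, true), (1, 108, true), (0, 117, true), (9, 26, true), (8, 39, true), (7, 53, true), (6, 64, true), (5, 91, true), (4, 98, true), (3, 104, true), (2, 109, true), (1, 118, true), (0, 119, true), (8, 51, true), (7, 62, true), (6, 89, true), (5, 96, true), (4, 102, true), (3, 107, true), (2, 12, true), (9, 23, true), (8, 36, true), (7, 48, true), (6, 62, true), (5, 89, true), (4,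 96, true), (3, 102, true), (2, 107, true), (7, 59, true), (6, 90, true), (5, 97, true), (4, 103, true), (3, 108, true), (2, 117, true), (1, 13, true), (5, 89, true), (4, 96, true), (3, 102, true), (2, 107, true), (1, 12, true), (4, 86, true), (3, 98, true), (2, 104, true), (1, 109, true), (0, 14, true), (2, 93, true), (1, 99, true), (0, 9, true), (6, 21, true), (5, 36, true), (4, 48, true), (3, 62, true), (2, 89, true), (1, 96, true), (0, 102, true), (4, 59, true), (3, 90, true), (2, 97, true), (1, 103, true), (0, 117, true), (4, 89, true), (3, 96, true), (2, 102, true), (1, 12, true), (3, 86, true), (2, 98, true), (1, 104, true), (0, 119, true), (3, 93, true), (2, 99, true), (8, 34, true), (7, 49, true), (6, 63, true), (5, 90, true), (4, 97, true), (3, 103, true), (2, 108, true), (1, 13, true), (5, 60, true), (4, 89, true), (3, 96, true), (2, 102, true), (1, 107, true), (5, 87, true), (4, 94, true), (3, 100, true), (2, 105, true), (8, 46, true), (7, 57, true), (6, 88, true), (5, 95, true), (4, 101, true), (3, 106, true), (2, 110, true), (7, 84, true), (6, 97, true), (5, 103, true), (4, 108, true), (3, 112, true),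 (2, 115, true), (1, 117, true), (7, 7, true), (11, 20, true), (10, 33, true), (9, 45, true), (8, 56, true), (7, 6, true), (10, 19, true), (9, 32, true), (8, 44, true), (7, 55, true), (11, 17, true), (10, 33, true), (9, 45, true), (8, 56, true), (7, 75, true), (11, 30, true), (10, 45, true), (9, 56, true), (8, 75, true), (7, 6, true), (9, 44, true), (8, 55, true), (7, 5, true), (8, 42, true), (7, 3, true), (9, 16, true), (8, 32, true), (7, 44, true), (9, 29, true), (8, 45, true), (7, 75, true), (9, 2, true), (10, 15, true), (9, 1, true), (9, 1, false), (9, 2, false), (7, 75, false), (8, 45, false), (9, 29, false), (8, 3, false), (9, 42, false), (7, 55, false), (8, 44, false), (7, 6, false), (8, 56, false), (9, 45, false), (10, 30, false), (7, 56, false), (8, 45, false), (9, 33, false), (7, 7, false), (3, 110, false), (4, 106, false), (5, 101, false), (6, 95, false), (7, 57, false), (8, 46, false), (3, 105, false), (4, 100, false), (5, 94, false), (2, 107, false), (3, 102, false), (4, 96, false), (5, 60, false), (1, 108, false), (2, 103, false), (3, 97, false), (4, 63, false), (5, 49, false), (6, 34, false), (2, 92,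 false), (3, 58, false), (1, 11, false), (2, 106, false), (3, 95, false), (4, 61, false), (5, 47, false), (2, 93, false), (1, 12, false), (2, 114, false), (3, 96, false), (1, 13, false), (2, 117, false), (3, 115, false), (4, 97, false), (5, 59, false), (2, 114, false), (3, 96, false), (4, 62, false), (5, 48, false), (3, 10, false), (4, 94, false), (2, 12, false), (3, 114, false), (4, 111, false), (5, 96, false), (6, 60, false), (1, 117, false), (2, 115, false), (3, 112, false), (4, 97, false), (5, 63, false), (6, 49, false), (7, 35, false), (4, 9, false), (5, 93, false), (1, 114, false), (2, 111, false), (3, 107, false), (4, 96, false), (1, 13, false), (2, 115, false), (3, 112, false), (4, 108, false), (5, 97, false), (6, 59, false), (2, 12, false), (3, 114, false), (4, 111, false), (5, 107, false), (6, 96, false), (7, 62, false), (8, 48, false), (9, 36, false), (2, 114, false), (3, 111, false), (4, 107, false), (5, 96, false), (6, 62, false), (7, 51, false), (0, 119, false), (1, 116, false), (2, 113, false), (3, 109, false), (4, 98, false), (5, 64, false), (6, 53, false), (7, 39, false), (5, 5, false), (5, 6, false),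 (6, 75, false), (0, 115, false), (1, 112, false), (2, 108, false), (3, 84, false), (0, 12, false), (1, 114, false), (2, 111, false), (3, 107, false), (4, 89, false), (5, 76, false), (0, 14, false), (1, 118, false), (2, 116, false), (3, 113, false), (4, 86, false), (5, 78, false), (1, 114, false), (2, 111, false), (3, 89, false), (4, 81, false), (1, 13, false), (2, 115, false), (3, 112, false), (4, 90, false), (5, 82, false), (0, 119, false), (1, 116, false), (2, 113, false), (3, 91, false), (4, 83, false), (5, 0, false), (5, 2, false), (4, 44, false), (5, 16, false), (3, 7, false), (0, 115, false), (1, 112, false), (2, 97, false), (3, 84, false), (4, 46, false), (2, 9, false), (3, 93, false), (0, 14, false), (1, 116, false), (2, 113, false), (3, 109, false), (4, 98, false), (5, 86, false), (1, 12, false), (2, 114, false), (3, 111, false), (4, 107, false), (5, 96, false), (6, 89, false), (7, 48, false), (8, 21, false), (1, 13, false), (2, 117, false), (3, 115, false), (4, 112, false), (5, 108, false), (6, 97, false), (7, 90, false), (8, 52, false), (0, 119, false), (1, 118, false), (2, 116, false), (3, 113, false),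 (4, 109, false), (5, 98, false), (6, 91, false), (7, 53, false), (8, 27, false), (0, 14, false), (1, 119, false), (2, 118, false), (3, 116, false), (4, 113, false), (5, 109, false), (6, 98, false), (7, 91, false), (8, 53, false), (9, 28, false), (8, 5, false), (9, 44, false), (10, 19, false), (1, 117, false), (2, 115, false), (3, 112, false), (4, 108, false), (5, 84, false), (1, 114, false), (2, 111, false), (3, 107, false), (4, 89, false), (5, 76, false), (6, 46, false), (0, 116, false), (1, 113, false), (2, 86, false), (3, 78, false), (0, 12, false), (1, 114, false), (2, 111, false), (3, 89, false), (4, 81, false), (5, 48, false), (6, 21, false), (0, 114, false), (1, 111, false), (2, 89, false), (3, 81, false), (4, 51, false), (5, 26, false), (0, 13, false), (1, 115, false), (2, 112, false), (3, 90, false), (4, 82, false), (5, 52, false), (0, 14, false), (1, 119, false), (2, 116, false), (3, 113, false), (4, 91, false), (5, 83, false), (6, 53, false), (7, 27, false), (6, 3, false), (7, 42, false), (4, 75, false), (5, 56, false), (6, 45, false), (0, 119, false), (1, 116, false), (2, 79, false), (1, 12, false),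 (2, 114, false), (3, 81, false), (4, 60, false), (0, 117, false), (1, 115, false), (2, 82, false), (3, 63, false), (4, 49, false), (0, 114, false), (1, 81, false), (2, 62, false), (3, 51, false), (2, 42, false), (1, 44, false), (1, 6, false), (2, 45, false), (0, 13, false), (1, 115, false), (2, 90, false), (3, 52, false), (0, 14, false), (1, 119, false), (2, 116, false), (3, 91, false), (4, 53, false), (4, 5, false), (2, 12, false), (3, 114, false), (4, 89, false), (5, 81, false), (1, 117, false), (2, 115, false), (3, 90, false), (4, 82, false)]),
    ([0, 2], [13, 11, 10, 9, 2, 0], [(8, 28, true), (7, 41, true), (6, 53, true), (5, 64, true), (4, 83, true), (3, 98, true), (2, 104, true), (1, 113, true), (0, 14, true), (7, 27, true), (6, 41, true), (5, 53, true), (4, 64, true), (3, 83, true), (2, 98, true), (1, 104, true), (0, 113, true), (7, 40, true), (6, 52, true), (5, 63, true), (4, 82, true), (3, 97, true), (2, 103, true), (1, 112, true), (9, 21, true), (8, 36, true), (7, 48, true), (6, 62, true), (5, 81, true), (4, 96, true), (3, 102, true), (2, 111, true), (7, 59, true), (6, 82, true), (5, 97, true), (4, 103,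 true), (3, 112, true), (2, 117, true), (1, 13, true), (5, 81, true), (4, 96, true), (3, 102, true), (2, 111, true), (1, 12, true), (4, 78, true), (3, 93, true), (2, 99, true), (8, 34, true), (7, 49, true), (6, 63, true), (5, 82, true), (4, 97, true), (3, 103, true), (2, 108, true), (1, 112, true), (7, 60, true), (6, 81, true), (5, 96, true), (4, 102, true), (3, 107, true), (2, 111, true), (7, 79, true), (6, 98, true), (5, 104, true), (4, 109, true), (3, 113, true), (2, 118, true), (1, 119, true), (0, 14, true), (5, 94, true), (4, 100, true), (3, 105, true), (2, 10, true), (7, 46, true), (6, 57, true), (5, 80, true), (4, 95, true), (3, 101, true), (2, 106, true), (6, 76, true), (5, 96, true), (4, 102, true), (3, 107, true), (2, 114, true), (1, 12, true), (4, 7, true), (8, 16, true), (7, 32, true), (6, 44, true), (5, 55, true), (4, 5, true), (6, 29, true), (5, 45, true), (4, 56, true), (6, 2, true), (7, 0, true), (7, 0, false), (6, 15, false), (6, 2, false), (5, 5, false), (6, 55, false), (7, 44, false), (8, 16, false), (6, 42, false), (4, 75, false), (5, 45, false), (6, 17, false), (4, 44, false), (5, 19, false),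 (4, 7, false), (5, 46, false), (2, 99, false), (3, 93, false), (1, 12, false), (2, 114, false), (3, 102, false), (4, 96, false), (5, 48, false), (6, 21, false), (3, 92, false), (2, 95, false), (3, 47, false), (2, 10, false), (3, 94, false), (0, 117, false), (1, 112, false), (2, 97, false), (3, 49, false), (4, 22, false), (1, 94, false), (0, 13, false), (1, 117, false), (2, 97, false), (3, 49, false), (4, 24, false), (0, 14, false), (1, 119, false), (2, 118, false), (3, 98, false), (4, 53, false), (5, 28, false), (1, 117, false), (0, 118, false), (1, 7, false), (1, 9, false), (2, 93, false), (0, 13, false), (1, 117, false), (2, 108, false), (3, 97, false), (0, 14, false), (1, 119, false), (2, 118, false), (3, 109, false), (4, 98, false), (4, 8, false), (5, 92, false), (3, 10, false), (3, 11, false), (4, 110, false)], [(8, 28, true), (7, 41, true), (6, 53, true), (5, 64, true), (4, 91, true), (3, 98, true), (2, 104, true), (1, 109, true), (0, 118, true), (9, 27, true), (8, 41, true), (7, 53, true), (6, 64, true), (5, 91, true), (4, 98, true), (3, 104, true), (2, 109, true), (1, 118, true), (0, 14, true), (7, 40, true),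 (6, 52, true), (5, 63, true), (4, 90, true), (3, 97, true), (2, 103, true), (1, 108, true), (0, 117, true), (9, 21, true), (8, 36, true), (7, 48, true), (6, 62, true), (5, 89, true), (4, 96, true), (3, 102, true), (2, 107, true), (1, 12, true), (5, 59, true), (4, 90, true), (3, 97, true), (2, 103, true), (1, 108, true), (0, 13, true), (3, 89, true), (2, 96, true), (1, 102, true), (0, 107, true), (4, 86, true), (3, 98, true), (2, 104, true), (1, 109, true), (0, 118, true), (4, 93, true), (3, 99, true), (2, 9, true), (7, 34, true), (6, 49, true), (5, 63, true), (4, 90, true), (3, 97, true), (2, 103, true), (1, 117, true), (6, 60, true), (5, 89, true), (4, 96, true), (3, 102, true), (2, 12, true), (4, 87, true), (3, 94, true), (2, 100, true), (7, 46, true), (6, 57, true), (5, 88, true), (4, 95, true), (3, 101, true), (2, 110, true), (6, 84, true), (5, 97, true), (4, 103, true), (3, 112, true), (2, 115, true), (1, 13, true), (4, 7, true), (8, 16, true), (7, 32, true), (6, 44, true), (5, 55, true), (8, 29, true), (7, 45, true), (6, 56, true), (5, 75, true), (4, 6, true), (6, 2, true), (7, 0, true), (7, 0, false), (6,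 15, false), (6, 2, false), (4, 55, false), (5, 44, false), (6, 16, false), (4, 42, false), (4, 6, false), (5, 45, false), (6, 17, false), (4, 45, false), (5, 20, false), (4, 7, false), (5, 46, false), (3, 9, false), (4, 99, false), (5, 93, false), (1, 12, false), (2, 114, false), (3, 111, false), (4, 107, false), (5, 102, false), (6, 96, false), (7, 48, false), (8, 21, false), (5, 92, false), (2, 110, false), (3, 106, false), (4, 95, false), (5, 47, false), (2, 105, false), (3, 94, false), (1, 13, false), (2, 117, false), (3, 108, false), (4, 97, false), (5, 49, false), (6, 22, false), (3, 93, false), (2, 96, false), (3, 48, false), (4, 23, false), (2, 12, false), (3, 96, false), (4, 51, false), (5, 26, false), (1, 117, false), (0, 118, false), (1, 2, false), (1, 5, false), (2, 44, false), (0, 13, false), (1, 117, false), (2, 82, false), (3, 52, false), (0, 14, false), (1, 119, false), (2, 118, false), (3, 83, false), (4, 53, false), (4, 3, false), (5, 42, false), (3, 6, false), (3, 11, false), (4, 88, false)]),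
    ([0, 3], [13, 12, 11, 9, 8, 6, 2, 0], [(8, 27, true), (7, 41, true), (6, 53, true), (5, 64, true), (4, 83, true), (3, 98, true), (2, 104, true), (1, 113, true), (0, 14, true), (6, 40, true), (5, 52, true), (4, 63, true), (3, 82, true), (2, 97, true), (1, 103, true), (0, 112, true), (8, 23, true), (7, 36, true), (6, 48, true), (5, 62, true), (4, 81, true), (3, 96, true), (2, 102, true), (1, 111, true), (6, 59, true), (5, 82, true), (4, 97, true), (3, 103, true), (2, 112, true), (1, 117, true), (0, 13, true), (4, 81, true), (3, 96, true), (2, 102, true), (1, 111, true), (0, 12, true), (3, 78, true), (2, 93, true), (1, 99, true), (8, 16, true), (7, 32, true), (6, 44, true), (5, 55, true), (4, 5, true), (6, 29, true), (5, 45, true), (4, 56, true), (6, 2, true), (6, 2, false), (5, 42, false), (5, 5, false), (6, 44, false), (0, 13, false), (1, 112, false), (2, 108, false), (3, 103, false), (4, 84, false), (1, 12, false), (2, 111, false), (3, 107, false), (4, 102, false), (5, 89, false), (6, 76, false), (7, 46, false), (1, 111, false), (2, 107, false), (3, 85, false), (1, 12, false), (2, 111, false), (3, 107, false),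 (4, 89, false), (0, 117, false), (1, 112, false), (2, 108, false), (3, 90, false), (4, 77, false), (1, 11, false), (2, 110, false), (3, 106, false), (4, 88, false), (5, 80, false), (6, 47, false), (2, 105, false), (3, 87, false), (0, 14, false), (1, 118, false), (2, 116, false), (3, 109, false), (4, 91, false), (5, 79, false), (1, 13, false), (2, 117, false), (3, 115, false), (4, 108, false), (5, 90, false), (6, 82, false), (7, 49, false), (0, 119, false), (1, 118, false), (2, 116, false), (3, 109, false), (4, 91, false), (5, 83, false), (6, 53, false), (7, 0, false), (5, 16, false), (4, 7, false), (0, 117, false), (1, 115, false), (2, 108, false), (3, 97, false), (4, 84, false), (2, 93, false), (0, 14, false), (1, 118, false), (2, 116, false), (3, 98, false), (4, 86, false), (5, 21, false), (1, 13, false), (2, 117, false), (3, 115, false), (4, 97, false), (5, 90, false), (0, 119, false), (1, 118, false), (2, 116, false), (3, 98, false), (4, 91, false), (5, 27, false), (0, 14, false), (1, 119, false), (2, 118, false), (3, 116, false), (4, 98, false), (5, 91, false), (6, 28, false), (4, 8, false), (5, 92, false),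 (4, 10, false), (5, 100, false), (6, 94, false), (5, 9, false), (6, 99, false), (2, 114, false), (3, 111, false), (4, 107, false), (5, 102, false), (1, 115, false), (2, 112, false), (3, 108, false), (4, 103, false), (5, 7, false), (3, 99, false), (4, 93, false), (1, 13, false), (2, 115, false), (3, 112, false), (4, 103, false), (5, 97, false), (0, 119, false), (1, 116, false), (2, 113, false), (3, 104, false), (4, 98, false), (3, 9, false), (2, 105, false), (1, 106, false), (1, 10, false), (1, 11, false), (2, 110, false), (1, 12, false), (2, 114, false), (3, 111, false), (0, 14, false), (1, 119, false), (2, 118, false), (3, 116, false), (4, 113, false)], [(8, 27, true), (7, 41, true), (6, 53, true), (5, 64, true), (4, 91, true), (3, 98, true), (2, 104, true), (1, 109, true), (0, 118, true), (8, 40, true), (7, 52, true), (6, 63, true), (5, 90, true), (4, 97, true), (3, 103, true), (2, 108, true), (1, 117, true), (10, 26, true), (9, 39, true), (8, 53, true), (7, 64, true), (6, 91, true), (5, 98, true), (4, 104, true), (3, 109, true), (2, 118, true), (1, 119, true), (0, 14, true), (7, 51, true), (6, 62, true), (5,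 89, true), (4, 96, true), (3, 102, true), (2, 107, true), (1, 12, true), (8, 21, true), (7, 36, true), (6, 48, true), (5, 62, true), (4, 89, true), (3, 96, true), (2, 102, true), (1, 107, true), (6, 59, true), (5, 90, true), (4, 97, true), (3, 103, true), (2, 108, true), (1, 117, true), (0, 13, true), (4, 89, true), (3, 96, true), (2, 102, true), (1, 107, true), (0, 12, true), (3, 86, true), (2, 98, true), (1, 104, true), (0, 109, true), (3, 93, true), (2, 99, true), (1, 9, true), (6, 34, true), (5, 49, true), (4, 63, true), (3, 90, true), (2, 97, true), (1, 103, true), (5, 60, true), (4, 89, true), (3, 96, true), (2, 102, true), (5, 87, true), (4, 94, true), (3, 100, true), (8, 46, true), (7, 57, true), (6, 88, true), (5, 95, true), (4, 101, true), (3, 110, true), (7, 84, true), (6, 97, true), (5, 103, true), (4, 112, true), (3, 115, true), (2, 117, true), (1, 13, true), (5, 7, true), (9, 19, true), (8, 32, true), (7, 44, true), (6, 55, true), (5, 75, false), (5, 7, false), (1, 114, false), (2, 111, false), (3, 102, false), (4, 96, false), (5, 76, false), (3, 92, false), (1, 12, false), (2, 114, false), (3, 111,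 false), (4, 96, false), (1, 13, false), (2, 117, false), (3, 115, false), (4, 112, false), (5, 97, false), (6, 77, false), (5, 9, false), (6, 93, false), (7, 78, false), (2, 114, false), (3, 111, false), (4, 107, false), (5, 96, false), (6, 81, false), (7, 0, false), (7, 2, false), (6, 44, false), (7, 16, false), (5, 46, false), (2, 12, false), (3, 114, false), (4, 111, false), (5, 48, false), (6, 21, false), (1, 117, false), (2, 115, false), (3, 112, false), (4, 52, false), (0, 118, false), (1, 116, false), (2, 113, false), (3, 53, false), (4, 27, false), (0, 14, false), (1, 118, false), (2, 116, false), (3, 113, false), (4, 53, false), (5, 28, false), (4, 3, false), (5, 42, false), (4, 6, false), (5, 56, false), (6, 45, false), (3, 87, false), (1, 114, false), (2, 89, false), (3, 60, false), (1, 13, false), (2, 115, false), (3, 90, false), (4, 63, false), (5, 49, false), (2, 12, false), (3, 114, false), (4, 89, false), (5, 62, false), (6, 51, false), (5, 5, false), (6, 55, false), (2, 114, false), (3, 89, false), (4, 81, false), (5, 62, false), (1, 115, false), (2, 90, false), (3, 82, false), (4, 63, false), (5,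 2, false), (3, 55, false), (4, 44, false), (1, 13, false), (2, 115, false), (3, 90, false), (4, 63, false), (5, 52, false), (0, 119, false), (1, 116, false), (2, 91, false), (3, 64, false), (4, 53, false), (3, 5, false), (2, 75, false), (1, 80, false), (1, 6, false), (1, 11, false), (2, 88, false), (1, 12, false), (2, 114, false), (3, 89, false), (0, 14, false), (1, 119, false), (2, 118, false), (3, 116, false), (4, 91, false)]),
    ([0, 4], [11, 9, 8, 7, 3, 2, 0], [(8, 28, true), (7, 41, true), (6, 53, true), (5, 64, true), (4, 83, true), (3, 98, true), (2, 104, true), (1, 113, true), (0, 14, true), (7, 27, true), (6, 41, true), (5, 53, true), (4, 64, true), (3, 83, true), (2, 98, true), (1, 104, true), (0, 113, true), (7, 40, true), (6, 52, true), (5, 63, true), (4, 82, true), (3, 97, true), (2, 103, true), (1, 112, true), (9, 26, true), (8, 39, true), (7, 53, true), (6, 64, true), (5, 83, true), (4, 98, true), (3, 104, true), (2, 113, true), (1, 119, true), (0, 14, true), (6, 51, true), (5, 62, true), (4, 81, true), (3, 96, true), (2, 102, true), (1, 111, true), (9, 25, true), (8, 41, true), (7, 53, true), (6,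 64, true), (5, 83, true), (4, 98, true), (3, 104, true), (2, 113, true), (1, 118, true), (0, 119, true), (9, 39, true), (8, 53, true), (7, 64, true), (6, 83, true), (5, 98, true), (4, 104, true), (3, 113, true), (2, 118, true), (1, 119, true), (0, 14, true), (7, 51, true), (6, 62, true), (5, 81, true), (4, 96, true), (3, 102, true), (2, 111, true), (1, 12, true), (7, 38, true), (6, 53, true), (5, 64, true), (4, 83, true), (3, 98, true), (2, 104, true), (1, 113, true), (0, 119, true), (7, 52, true), (6, 63, true), (5, 82, true), (4, 97, true), (3, 103, true), (2, 112, true), (1, 13, true), (6, 50, true), (5, 61, true), (4, 80, true), (3, 95, true), (2, 101, true), (1, 110, true), (9, 24, true), (8, 37, true), (7, 49, true), (6, 63, true), (5, 82, true), (4, 97, true), (3, 103, true), (2, 112, true), (1, 115, true), (7, 60, true), (6, 81, true), (5, 96, true), (4, 102, true), (3, 111, true), (2, 114, true), (7, 79, true), (6, 98, true), (5, 104, true), (4, 113, true), (3, 116, true), (2, 118, true), (1, 119, true), (0, 14, true), (5, 94, true), (4, 100, true), (3, 10, true), (9, 20, true), (8, 33, true), (7, 45, true),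 (6, 56, true), (5, 75, true), (10, 19, true), (9, 32, true), (8, 44, true), (7, 55, true), (6, 5, true), (9, 0, true), (9, 0, false), (8, 15, false), (6, 5, false), (7, 55, false), (8, 16, false), (5, 75, false), (6, 17, false), (5, 19, false), (3, 9, false), (4, 99, false), (5, 21, false), (3, 10, false), (4, 105, false), (5, 22, false), (3, 105, false), (4, 24, false), (0, 14, false), (1, 119, false), (2, 118, false), (3, 116, false), (4, 109, false), (5, 28, false), (5, 2, false), (5, 7, false), (6, 46, false), (1, 117, false), (2, 115, false), (3, 108, false), (4, 97, false), (5, 52, false), (0, 118, false), (1, 116, false), (2, 109, false), (3, 98, false), (4, 53, false), (2, 93, false), (0, 13, false), (1, 117, false), (2, 115, false), (3, 97, false), (3, 8, false), (4, 92, false), (3, 9, false), (4, 99, false), (5, 93, false), (3, 10, false), (4, 105, false), (5, 100, false), (6, 94, false), (0, 117, false), (1, 115, false), (2, 112, false), (3, 108, false), (4, 103, false), (5, 97, false), (0, 14, false), (1, 118, false), (2, 116, false), (3, 113, false), (4, 109, false), (5, 104, false), (6, 98, false),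 (4, 99, false), (1, 114, false), (2, 111, false), (3, 102, false), (1, 13, false), (2, 115, false), (3, 112, false), (4, 103, false), (5, 7, false), (4, 9, false), (5, 99, false), (6, 93, false), (1, 115, false), (2, 112, false), (3, 108, false), (4, 103, false), (5, 97, false), (0, 116, false), (1, 113, false), (2, 109, false), (3, 104, false), (4, 98, false)], [(8, 27, true), (7, 41, true), (6, 53, true), (5, 64, true), (4, 91, true), (3, 98, true), (2, 104, true), (1, 109, true), (0, 118, true), (8, 40, true), (7, 52, true), (6, 63, true), (5, 90, true), (4, 97, true), (3, 103, true), (2, 108, true), (1, 117, true), (10, 26, true), (9, 39, true), (8, 53, true), (7, 64, true), (6, 91, true), (5, 98, true), (4, 104, true), (3, 109, true), (2, 118, true), (1, 119, true), (0, 14, true), (7, 51, true), (6, 62, true), (5, 89, true), (4, 96, true), (3, 102, true), (2, 107, true), (1, 12, true), (8, 25, true), (7, 41, true), (6, 53, true), (5, 64, true), (4, 91, true), (3, 98, true), (2, 104, true), (1, 109, true), (0, 119, true), (8, 39, true), (7, 53, true), (6, 64, true), (5, 91, true), (4, 98, true), (3, 104, true),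 (2, 109, true), (1, 119, true), (0, 14, true), (6, 51, true), (5, 62, true), (4, 89, true), (3, 96, true), (2, 102, true), (1, 107, true), (8, 38, true), (7, 53, true), (6, 64, true), (5, 91, true), (4, 98, true), (3, 104, true), (2, 109, true), (1, 118, true), (0, 119, true), (8, 52, true), (7, 63, true), (6, 90, true), (5, 97, true), (4, 103, true), (3, 108, true), (2, 117, true), (1, 13, true), (7, 50, true), (6, 61, true), (5, 88, true), (4, 95, true), (3, 101, true), (2, 106, true), (10, 24, true), (9, 37, true), (8, 49, true), (7, 63, true), (6, 90, true), (5, 97, true), (4, 103, true), (3, 108, true), (2, 115, true), (1, 117, true), (8, 60, true), (7, 89, true), (6, 96, true), (5, 102, true), (4, 107, true), (3, 114, true), (2, 12, true), (6, 87, true), (5, 94, true), (4, 100, true), (3, 105, true), (11, 23, true), (10, 36, true), (9, 48, true), (8, 62, true), (7, 89, true), (6, 96, true), (5, 102, true), (4, 107, true), (3, 111, true), (2, 114, true), (9, 59, true), (8, 90, true), (7, 97, true), (6, 103, true), (5, 108, true), (4, 112, true), (3, 115, true), (2, 117, true), (1, 13, true), (7, 89, true),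 (6, 96, true), (5, 102, true), (4, 107, true), (3, 111, true), (2, 114, true), (1, 12, true), (6, 86, true), (5, 98, true), (4, 104, true), (3, 109, true), (2, 113, true), (1, 116, true), (0, 14, true), (4, 93, true), (3, 99, true), (2, 9, true), (8, 20, true), (7, 33, true), (6, 45, true), (5, 56, true), (4, 6, true), (7, 0, true), (7, 0, false), (6, 15, false), (4, 5, false), (5, 55, false), (6, 16, false), (4, 6, false), (5, 75, false), (6, 17, false), (4, 75, false), (5, 20, false), (0, 12, false), (1, 114, false), (2, 111, false), (3, 102, false), (4, 76, false), (3, 9, false), (4, 99, false), (5, 78, false), (6, 21, false), (0, 114, false), (1, 111, false), (2, 107, false), (0, 13, false), (1, 115, false), (2, 112, false), (3, 108, false), (4, 77, false), (2, 105, false), (0, 14, false), (1, 119, false), (2, 116, false), (3, 109, false), (4, 79, false), (5, 22, false), (3, 78, false), (4, 23, false), (2, 12, false), (3, 114, false), (4, 81, false), (5, 26, false), (5, 2, false), (4, 7, false), (2, 114, false), (3, 96, false), (4, 76, false), (5, 46, false), (1, 115, false), (2, 97, false), (3, 82, false),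 (4, 52, false), (0, 116, false), (1, 98, false), (2, 83, false), (3, 53, false), (2, 44, false), (1, 46, false), (0, 12, false), (1, 114, false), (2, 51, false), (0, 13, false), (1, 117, false), (2, 115, false), (3, 52, false), (3, 3, false), (4, 42, false), (3, 5, false), (4, 55, false), (5, 44, false), (3, 6, false), (4, 75, false), (5, 56, false), (6, 45, false), (0, 117, false), (1, 115, false), (2, 90, false), (3, 82, false), (4, 63, false), (5, 52, false), (0, 14, false), (1, 118, false), (2, 116, false), (3, 91, false), (4, 83, false), (5, 64, false), (6, 53, false), (4, 55, false), (1, 114, false), (2, 89, false), (3, 62, false), (1, 13, false), (2, 115, false), (3, 90, false), (4, 63, false), (5, 2, false), (4, 5, false), (5, 55, false), (6, 44, false), (1, 115, false), (2, 90, false), (3, 82, false), (4, 63, false), (5, 52, false), (0, 116, false), (1, 91, false), (2, 83, false), (3, 64, false), (4, 53, false)]),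
    ([0, 6], [13, 11, 10, 6, 4, 3, 2, 0], [(8, 24, true), (7, 37, true), (6, 49, true), (5, 63, true), (4, 82, true), (3, 97, true), (2, 103, true), (1, 112, true), (6, 60, true), (5, 81, true), (4, 96, true), (3, 102, true), (2, 111, true), (6, 79, true), (5, 98, true), (4, 104, true), (3, 113, true), (2, 118, true), (1, 119, true), (0, 14, true), (4, 94, true), (3, 100, true), (2, 10, true), (8, 22, true), (7, 37, true), (6, 49, true), (5, 63, true), (4, 82, true), (3, 97, true), (2, 103, true), (1, 117, true), (0, 13, true), (4, 60, true), (3, 81, true), (2, 96, true), (1, 102, true), (0, 12, true), (2, 79, true), (1, 98, true), (0, 104, true), (2, 94, true), (1, 100, true), (7, 35, true), (6, 49, true), (5, 63, true), (4, 82, true), (3, 97, true), (2, 103, true), (1, 112, true), (6, 60, true), (5, 81, true), (4, 96, true), (3, 102, true), (2, 111, true), (6, 79, true), (5, 98, true), (4, 104, true), (3, 113, true), (2, 118, true), (1, 119, true), (0, 14, true), (4, 94, true), (3, 100, true), (2, 10, true), (6, 48, true), (5, 62, true), (4, 81, true), (3, 96, true), (2, 102, true), (1, 12, true), (4, 59, true),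 (3, 82, true), (2, 97, true), (1, 103, true), (0, 13, true), (2, 81, true), (1, 96, true), (0, 102, true), (3, 78, true), (2, 93, true), (1, 99, true), (6, 47, true), (5, 61, true), (4, 80, true), (3, 95, true), (2, 101, true), (1, 106, true), (6, 58, true), (5, 77, true), (4, 97, true), (3, 103, true), (2, 108, true), (1, 115, true), (0, 117, true), (5, 96, true), (4, 102, true), (3, 107, true), (2, 114, true), (1, 12, true), (4, 92, true), (3, 8, true), (8, 20, true), (7, 33, true), (6, 45, true), (5, 56, true), (4, 75, true), (9, 0, true), (9, 0, false), (8, 15, false), (5, 55, false), (6, 16, false), (4, 17, false), (4, 5, false), (5, 19, false), (1, 12, false), (2, 114, false), (3, 107, false), (4, 76, false), (3, 78, false), (4, 21, false), (3, 8, false), (1, 114, false), (2, 102, false), (0, 115, false), (1, 103, false), (2, 77, false), (1, 10, false), (2, 100, false), (0, 14, false), (1, 116, false), (2, 113, false), (3, 104, false), (4, 79, false), (5, 22, false), (2, 100, false), (0, 116, false), (1, 104, false), (2, 79, false), (3, 24, false), (0, 14, false), (1, 116, false), (2, 104, false), (3, 83,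 false), (4, 28, false), (4, 2, false), (3, 7, false), (1, 12, false), (2, 114, false), (3, 102, false), (4, 96, false), (5, 76, false), (6, 46, false), (1, 13, false), (2, 117, false), (3, 115, false), (4, 103, false), (5, 97, false), (6, 82, false), (7, 52, false), (0, 119, false), (1, 118, false), (2, 116, false), (3, 104, false), (4, 98, false), (5, 83, false), (6, 53, false), (3, 9, false), (4, 99, false), (5, 93, false), (6, 78, false), (0, 117, false), (1, 115, false), (2, 108, false), (3, 103, false), (4, 97, false), (5, 82, false), (6, 0, false), (5, 19, false), (5, 6, false), (6, 20, false), (2, 10, false), (3, 105, false), (4, 100, false), (5, 94, false), (6, 87, false), (7, 24, false), (1, 110, false), (2, 106, false), (3, 101, false), (4, 95, false), (5, 88, false), (0, 111, false), (1, 107, false), (2, 102, false), (3, 96, false), (4, 89, false), (0, 14, false), (1, 113, false), (2, 109, false), (3, 104, false), (4, 98, false), (5, 91, false), (6, 25, false), (1, 12, false), (2, 111, false), (3, 107, false), (4, 102, false), (5, 96, false), (6, 89, false), (7, 26, false), (1, 13, false), (2, 117, false),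 (3, 112, false), (4, 108, false), (5, 103, false), (6, 97, false), (7, 90, false), (0, 119, false), (1, 118, false), (2, 113, false), (3, 109, false), (4, 104, false), (5, 98, false), (6, 91, false), (7, 27, false), (0, 14, false), (1, 119, false), (2, 118, false), (3, 113, false), (4, 109, false), (5, 104, false), (6, 98, false), (7, 91, false), (8, 28, false), (5, 92, false), (3, 105, false), (4, 94, false), (4, 8, false), (5, 92, false), (3, 10, false), (3, 11, false), (4, 110, false)], [(8, 26, true), (7, 39, true), (6, 53, true), (5, 64, true), (4, 91, true), (3, 98, true), (2, 104, true), (1, 109, true), (0, 118, true), (7, 51, true), (6, 62, true), (5, 89, true), (4, 96, true), (3, 102, true), (2, 107, true), (1, 12, true), (8, 24, true), (7, 37, true), (6, 49, true), (5, 63, true), (4, 90, true), (3, 97, true), (2, 103, true), (1, 108, true), (6, 60, true), (5, 89, true), (4, 96, true), (3, 102, true), (2, 107, true), (6, 87, true), (5, 94, true), (4, 100, true), (3, 105, true), (11, 20, true), (10, 33, true), (9, 45, true), (8, 56, true), (7, 6, true), (10, 17, true), (9, 33, true), (8, 45, true), (7, 56,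 true), (10, 30, true), (9, 45, true), (8, 56, true), (7, 6, true), (8, 44, true), (7, 55, true), (9, 42, true), (8, 3, true), (10, 0, true), (10, 0, false), (9, 15, false), (7, 16, false), (7, 3, false), (7, 6, false), (8, 56, false), (9, 17, false), (7, 56, false), (8, 20, false), (3, 11, false), (4, 110, false), (5, 106, false), (6, 101, false), (7, 57, false), (5, 99, false), (2, 114, false), (3, 111, false), (4, 102, false), (1, 115, false), (2, 112, false), (3, 103, false), (4, 59, false), (5, 21, false), (3, 58, false), (1, 12, false), (2, 114, false), (3, 60, false), (4, 22, false), (3, 9, false), (1, 114, false), (2, 107, false), (1, 13, false), (2, 115, false), (3, 108, false), (4, 59, false), (5, 23, false), (2, 12, false), (3, 114, false), (4, 107, false), (5, 62, false), (6, 26, false), (6, 2, false), (5, 7, false), (3, 106, false), (4, 95, false), (5, 57, false), (6, 46, false), (1, 117, false), (2, 108, false), (3, 97, false), (4, 63, false), (5, 52, false), (0, 118, false), (1, 109, false), (2, 98, false), (3, 64, false), (4, 53, false), (3, 5, false), (4, 55, false), (5, 44, false), (0, 107, false),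 (1, 76, false), (0, 11, false), (1, 106, false), (2, 80, false), (3, 57, false), (4, 46, false), (0, 12, false), (1, 114, false), (2, 107, false), (3, 81, false), (4, 62, false), (5, 51, false), (0, 13, false), (1, 117, false), (2, 115, false), (3, 108, false), (4, 82, false), (5, 63, false), (6, 52, false), (7, 0, false), (4, 6, false), (5, 75, false), (6, 56, false), (7, 45, false), (8, 20, false), (0, 14, false), (1, 119, false), (2, 118, false), (3, 116, false), (4, 86, false), (5, 78, false), (2, 114, false), (3, 89, false), (4, 81, false), (1, 115, false), (2, 90, false), (3, 82, false), (4, 59, false), (1, 12, false), (2, 114, false), (3, 89, false), (4, 81, false), (5, 62, false), (6, 48, false), (7, 23, false), (3, 10, false), (4, 87, false), (0, 118, false), (1, 116, false), (2, 113, false), (3, 91, false), (4, 79, false), (0, 114, false), (1, 111, false), (2, 89, false), (3, 81, false), (4, 60, false), (0, 13, false), (1, 115, false), (2, 112, false), (3, 90, false), (4, 82, false), (5, 63, false), (6, 49, false), (7, 24, false), (1, 110, false), (2, 88, false), (3, 80, false), (4, 61, false), (5, 50,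 false), (1, 12, false), (2, 111, false), (3, 89, false), (4, 81, false), (5, 62, false), (6, 51, false), (0, 14, false), (1, 119, false), (2, 118, false), (3, 113, false), (4, 91, false), (5, 83, false), (6, 64, false), (7, 53, false), (8, 25, false), (2, 111, false), (3, 89, false), (4, 81, false), (5, 62, false), (6, 51, false), (7, 26, false), (1, 112, false), (2, 90, false), (3, 82, false), (4, 63, false), (5, 52, false), (0, 113, false), (1, 91, false), (2, 83, false), (3, 64, false), (4, 53, false), (5, 27, false), (3, 42, false), (1, 75, false), (2, 45, false), (0, 14, false), (1, 79, false), (1, 13, false), (2, 82, false), (3, 49, false), (2, 12, false), (3, 81, false), (4, 51, false), (4, 3, false), (5, 42, false), (3, 6, false), (3, 11, false), (4, 88, false)]),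
    ([0, 9], [13, 12, 9, 5, 0], [(8, 28, true), (7, 41, true), (6, 53, true), (5, 64, true), (4, 83, true), (3, 98, true), (2, 104, true), (1, 113, true), (0, 14, true), (7, 27, true), (6, 41, true), (5, 53, true), (4, 64, true), (3, 83, true), (2, 98, true), (1, 104, true), (0, 113, true), (7, 40, true), (6, 52, true), (5, 63, true), (4, 82, true), (3, 97, true), (2, 103, true), (1, 112, true), (9, 23, true), (8, 36, true), (7, 48, true), (6, 62, true), (5, 81, true), (4, 96, true), (3, 102, true), (2, 111, true), (7, 59, true), (6, 82, true), (5, 97, true), (4, 103, true), (3, 112, true), (2, 117, true), (1, 13, true), (5, 81, true), (4, 96, true), (3, 102, true), (2, 111, true), (1, 12, true), (4, 78, true), (3, 93, true), (2, 99, true), (9, 21, true), (8, 36, true), (7, 48, true), (6, 62, true), (5, 81, true), (4, 96, true), (3, 102, true), (2, 107, true), (1, 111, true), (7, 59, true), (6, 82, true), (5, 97, true), (4, 103, true), (3, 108, true), (2, 112, true), (1, 117, true), (7, 81, true), (6, 96, true), (5, 102, true), (4, 107, true), (3, 111, true), (2, 12, true), (6, 78, true), (5, 93, true), (4, 99,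 true), (3, 9, true), (8, 34, true), (7, 49, true), (6, 63, true), (5, 82, true), (4, 97, true), (3, 103, true), (2, 112, true), (1, 13, true), (5, 60, true), (4, 81, true), (3, 96, true), (2, 102, true), (1, 111, true), (5, 79, true), (4, 98, true), (3, 104, true), (2, 113, true), (1, 118, true), (0, 14, true), (3, 94, true), (2, 100, true), (1, 10, true), (5, 46, true), (4, 57, true), (3, 80, true), (2, 95, true), (1, 101, true), (4, 76, true), (3, 96, true), (2, 102, true), (1, 114, true), (0, 12, true), (2, 7, true), (2, 7, false), (1, 92, false), (1, 10, false), (2, 94, false), (0, 14, false), (1, 116, false), (2, 113, false), (3, 98, false), (2, 94, false), (1, 95, false), (1, 9, false), (1, 13, false), (2, 108, false), (0, 119, false), (1, 109, false), (1, 10, false), (1, 11, false), (2, 110, false), (1, 12, false), (2, 114, false), (3, 111, false), (0, 14, false), (1, 119, false), (2, 118, false), (3, 116, false), (4, 113, false)], [(8, 28, true), (7, 41, true), (6, 53, true), (5, 64, true), (4, 91, true), (3, 98, true), (2, 104, true), (1, 109, true), (0, 118, true), (9, 27, true), (8, 41, true), (7, 53,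 true), (6, 64, true), (5, 91, true), (4, 98, true), (3, 104, true), (2, 109, true), (1, 118, true), (0, 14, true), (7, 40, true), (6, 52, true), (5, 63, true), (4, 90, true), (3, 97, true), (2, 103, true), (1, 108, true), (0, 117, true), (9, 19, true), (8, 32, true), (7, 44, true), (6, 55, true), (10, 16, true), (9, 32, true), (8, 44, true), (7, 55, true), (6, 5, true), (8, 29, true), (7, 45, true), (6, 56, true), (5, 6, true), (6, 2, true), (6, 2, false), (5, 42, false), (5, 6, false), (6, 45, false), (0, 117, false), (1, 108, false), (2, 103, false), (3, 84, false), (4, 46, false), (0, 107, false), (1, 85, false), (0, 11, false), (1, 106, false), (2, 88, false), (3, 47, false), (0, 14, false), (1, 116, false), (2, 86, false), (1, 12, false), (2, 114, false), (3, 89, false), (4, 48, false), (1, 114, false), (2, 89, false), (3, 51, false), (2, 45, false), (1, 50, false), (1, 5, false), (1, 13, false), (2, 82, false), (0, 119, false), (1, 83, false), (1, 6, false), (1, 11, false), (2, 88, false), (1, 12, false), (2, 114, false), (3, 89, false), (0, 14, false), (1, 119, false), (2, 118, false), (3, 116, false), (4,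 91, false)]),
    ([0, 12], [12, 11, 10, 9, 5, 0], [(8, 28, true), (7, 41, true), (6, 53, true), (5, 64, true), (4, 83, true), (3, 98, true), (2, 104, true), (1, 113, true), (0, 14, true), (7, 26, true), (6, 39, true), (5, 53, true), (4, 64, true), (3, 83, true), (2, 98, true), (1, 104, true), (0, 113, true), (6, 51, true), (5, 62, true), (4, 81, true), (3, 96, true), (2, 102, true), (1, 111, true), (9, 25, true), (8, 41, true), (7, 53, true), (6, 64, true), (5, 83, true), (4, 98, true), (3, 104, true), (2, 113, true), (1, 118, true), (0, 14, true), (7, 39, true), (6, 53, true), (5, 64, true), (4, 83, true), (3, 98, true), (2, 104, true), (1, 113, true), (0, 118, true), (7, 51, true), (6, 62, true), (5, 81, true), (4, 96, true), (3, 102, true), (2, 111, true), (1, 12, true), (7, 38, true), (6, 53, true), (5, 64, true), (4, 83, true), (3, 98, true), (2, 104, true), (1, 113, true), (0, 14, true), (5, 52, true), (4, 63, true), (3, 82, true), (2, 97, true), (1, 103, true), (0, 112, true), (6, 50, true), (5, 61, true), (4, 80, true), (3, 95, true), (2, 101, true), (1, 110, true), (9, 24, true), (8, 37, true), (7, 49,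 true), (6, 63, true), (5, 82, true), (4, 97, true), (3, 103, true), (2, 112, true), (1, 115, true), (0, 13, true), (5, 60, true), (4, 81, true), (3, 96, true), (2, 102, true), (1, 111, true), (0, 114, true), (5, 79, true), (4, 98, true), (3, 104, true), (2, 113, true), (1, 116, true), (0, 118, true), (5, 94, true), (4, 100, true), (3, 10, true), (9, 23, true), (8, 36, true), (7, 48, true), (6, 62, true), (5, 81, true), (4, 96, true), (3, 102, true), (2, 114, true), (1, 12, true), (5, 59, true), (4, 82, true), (3, 97, true), (2, 103, true), (1, 115, true), (5, 81, true), (4, 96, true), (3, 102, true), (2, 114, true), (6, 78, true), (5, 93, true), (4, 99, true), (4, 10, false), (5, 105, false), (0, 119, false), (1, 118, false), (2, 116, false), (3, 113, false), (4, 109, false), (3, 105, false), (2, 106, false), (3, 7, false), (2, 93, false), (0, 117, false), (1, 97, false), (0, 14, false), (1, 118, false), (2, 98, false), (2, 8, false), (3, 92, false), (2, 9, false), (2, 10, false), (3, 105, false), (2, 11, false), (3, 110, false), (4, 106, false)], [(8, 28, true), (7, 41, true), (6, 53, true), (5, 64, true), (4,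 91, true), (3, 98, true), (2, 104, true), (1, 109, true), (0, 118, true), (9, 26, true), (8, 39, true), (7, 53, true), (6, 64, true), (5, 91, true), (4, 98, true), (3, 104, true), (2, 109, true), (1, 118, true), (0, 14, true), (6, 51, true), (5, 62, true), (4, 89, true), (3, 96, true), (2, 102, true), (1, 107, true), (0, 12, true), (7, 25, true), (6, 41, true), (5, 53, true), (4, 64, true), (3, 91, true), (2, 98, true), (1, 104, true), (0, 109, true), (7, 39, true), (6, 53, true), (5, 64, true), (4, 91, true), (3, 98, true), (2, 104, true), (1, 109, true), (0, 14, true), (5, 51, true), (4, 62, true), (3, 89, true), (2, 96, true), (1, 102, true), (0, 107, true), (7, 38, true), (6, 53, true), (5, 64, true), (4, 91, true), (3, 98, true), (2, 104, true), (1, 109, true), (0, 118, true), (7, 52, true), (6, 63, true), (5, 90, true), (4, 97, true), (3, 103, true), (2, 108, true), (1, 117, true), (8, 50, true), (7, 61, true), (6, 88, true), (5, 95, true), (4, 101, true), (3, 106, true), (11, 20, true), (10, 33, true), (9, 45, true), (8, 56, true), (7, 6, true), (10, 19, true), (9, 32, true), (8, 44, true), (7, 55, true),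 (7, 6, false), (8, 75, false), (1, 117, false), (2, 115, false), (3, 108, false), (4, 103, false), (5, 84, false), (1, 114, false), (2, 107, false), (3, 102, false), (4, 89, false), (5, 76, false), (1, 12, false), (2, 114, false), (3, 107, false), (4, 85, false), (1, 114, false), (2, 107, false), (3, 89, false), (1, 13, false), (2, 115, false), (3, 108, false), (4, 90, false), (5, 77, false), (0, 119, false), (1, 116, false), (2, 86, false), (3, 78, false), (1, 12, false), (2, 114, false), (3, 89, false), (4, 81, false), (3, 75, false), (2, 80, false), (3, 2, false), (2, 44, false), (0, 117, false), (1, 52, false), (0, 14, false), (1, 118, false), (2, 53, false), (2, 3, false), (3, 42, false), (2, 5, false), (2, 6, false), (3, 75, false), (2, 11, false), (3, 88, false), (4, 80, false)]),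
    ([1, 2], [12, 10, 9, 6, 3, 1], [(8, 41, true), (7, 53, true), (6, 83, true), (5, 98, true), (4, 104, true), (3, 109, true), (2, 113, true), (1, 116, true), (0, 119, true), (9, 40, true), (8, 52, true), (7, 82, true), (6, 97, true), (5, 103, true), (4, 108, true), (3, 112, true), (2, 115, true), (1, 13, true), (8, 34, true), (7, 49, true), (6, 82, true), (5, 97, true), (4, 103, true), (3, 108, true), (2, 112, true), (1, 115, true), (7, 79, true), (6, 98, true), (5, 104, true), (4, 109, true), (3, 113, true), (2, 116, true), (1, 119, true), (0, 14, true), (5, 94, true), (4, 100, true), (3, 105, true), (2, 10, true), (6, 46, true), (5, 76, true), (4, 96, true), (3, 102, true), (2, 107, true), (1, 114, true), (5, 7, true), (7, 29, true), (6, 45, true), (5, 75, true), (7, 2, true), (7, 15, false), (7, 2, false), (6, 44, false), (7, 16, false), (6, 5, false), (7, 44, false), (8, 19, false), (5, 7, false), (0, 117, false), (1, 115, false), (2, 108, false), (3, 103, false), (4, 97, false), (5, 84, false), (0, 114, false), (1, 107, false), (2, 102, false), (3, 96, false), (4, 89, false), (5, 76, false), (6, 46, false),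 (1, 99, false), (2, 93, false), (0, 14, false), (1, 116, false), (2, 104, false), (3, 98, false), (4, 86, false), (5, 78, false), (1, 12, false), (2, 114, false), (3, 102, false), (4, 96, false), (5, 89, false), (6, 81, false), (7, 48, false), (8, 21, false), (3, 92, false), (1, 114, false), (2, 96, false), (3, 85, false), (1, 12, false), (2, 114, false), (3, 96, false), (4, 89, false), (1, 13, false), (2, 117, false), (3, 115, false), (4, 97, false), (5, 90, false), (6, 77, false), (3, 95, false), (4, 88, false), (5, 80, false), (6, 47, false), (3, 10, false), (4, 94, false), (5, 87, false), (0, 119, false), (1, 118, false), (2, 113, false), (3, 98, false), (4, 91, false), (5, 79, false), (0, 117, false), (1, 112, false), (2, 97, false), (3, 90, false), (4, 82, false), (5, 49, false), (6, 22, false), (2, 9, false), (3, 93, false), (0, 14, false), (1, 118, false), (2, 113, false), (3, 109, false), (4, 98, false), (5, 86, false), (6, 78, false), (1, 111, false), (2, 107, false), (3, 96, false), (4, 89, false), (5, 81, false), (6, 48, false), (7, 23, false), (1, 105, false), (2, 94, false), (3, 87, false), (0, 109,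 false), (1, 98, false), (2, 91, false), (3, 79, false), (0, 13, false), (1, 108, false), (2, 97, false), (3, 90, false), (4, 82, false), (5, 49, false), (6, 24, false), (1, 11, false), (2, 106, false), (3, 95, false), (4, 88, false), (5, 80, false), (6, 50, false), (1, 12, false), (2, 114, false), (3, 107, false), (4, 96, false), (5, 89, false), (6, 81, false), (7, 51, false), (0, 14, false), (1, 119, false), (2, 118, false), (3, 116, false), (4, 109, false), (5, 98, false), (6, 91, false), (7, 83, false), (8, 53, false), (9, 25, false), (1, 117, false), (2, 115, false), (3, 108, false), (4, 97, false), (5, 90, false), (6, 82, false), (7, 52, false), (0, 118, false), (1, 116, false), (2, 109, false), (3, 98, false), (4, 91, false), (5, 83, false), (6, 53, false), (7, 27, false), (5, 16, false), (2, 93, false), (0, 14, false), (1, 118, false), (2, 116, false), (3, 98, false), (4, 86, false), (5, 23, false), (1, 13, false), (2, 117, false), (3, 115, false), (4, 97, false), (5, 90, false), (0, 119, false), (1, 118, false), (2, 116, false), (3, 98, false), (4, 91, false), (5, 27, false), (3, 8, false), (4, 92, false),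 (3, 10, false), (4, 100, false), (5, 94, false), (4, 9, false), (5, 99, false), (0, 117, false), (1, 115, false), (2, 112, false), (3, 108, false), (4, 103, false), (0, 14, false), (1, 118, false), (2, 116, false), (3, 113, false), (4, 109, false), (5, 104, false)], [(9, 41, true), (8, 53, true), (7, 64, true), (6, 83, true), (5, 91, true), (4, 98, true), (3, 109, true), (2, 118, true), (1, 119, true), (0, 14, true), (8, 40, true), (7, 52, true), (6, 63, true), (5, 82, true), (4, 90, true), (3, 97, true), (2, 108, true), (1, 117, true), (0, 13, true), (7, 34, true), (6, 49, true), (5, 63, true), (4, 82, true), (3, 90, true), (2, 97, true), (1, 108, true), (0, 117, true), (6, 60, true), (5, 81, true), (4, 89, true), (3, 96, true), (2, 107, true), (1, 12, true), (4, 79, true), (3, 91, true), (2, 98, true), (1, 109, true), (0, 119, true), (4, 87, true), (3, 94, true), (2, 105, true), (8, 46, true), (7, 57, true), (6, 80, true), (5, 88, true), (4, 95, true), (3, 106, true), (2, 110, true), (7, 76, true), (6, 89, true), (5, 96, true), (4, 107, true), (3, 111, true), (2, 114, true), (7, 84, true), (6, 97, true), (5, 108,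 true), (4, 112, true), (3, 115, true), (2, 117, true), (1, 13, true), (5, 7, true), (9, 29, true), (8, 45, true), (7, 56, true), (6, 75, true), (5, 6, true), (7, 2, true), (7, 15, false), (7, 2, false), (5, 55, false), (6, 44, false), (7, 16, false), (5, 42, false), (5, 6, false), (6, 45, false), (7, 17, false), (6, 5, false), (7, 44, false), (8, 19, false), (5, 75, false), (6, 45, false), (7, 20, false), (5, 7, false), (1, 114, false), (2, 111, false), (3, 107, false), (4, 96, false), (5, 76, false), (6, 46, false), (3, 93, false), (4, 78, false), (1, 12, false), (2, 114, false), (3, 111, false), (4, 96, false), (5, 81, false), (6, 48, false), (7, 21, false), (4, 9, false), (5, 93, false), (6, 78, false), (1, 114, false), (2, 111, false), (3, 107, false), (4, 96, false), (5, 81, false), (6, 48, false), (7, 23, false), (1, 12, false), (2, 114, false), (3, 111, false), (4, 107, false), (5, 96, false), (6, 81, false), (7, 51, false), (8, 26, false), (1, 13, false), (2, 117, false), (3, 115, false), (4, 112, false), (5, 108, false), (6, 97, false), (7, 82, false), (8, 52, false), (0, 119, false), (1, 118, false), (2,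 116, false), (3, 113, false), (4, 109, false), (5, 98, false), (6, 83, false), (7, 53, false), (8, 27, false), (0, 14, false), (1, 119, false), (2, 118, false), (3, 116, false), (4, 113, false), (5, 109, false), (6, 98, false), (7, 83, false), (8, 53, false), (9, 28, false), (7, 44, false), (8, 19, false), (6, 46, false), (2, 114, false), (3, 111, false), (4, 48, false), (5, 21, false), (2, 12, false), (3, 114, false), (4, 111, false), (5, 51, false), (6, 26, false), (1, 117, false), (2, 115, false), (3, 112, false), (4, 52, false), (0, 118, false), (1, 116, false), (2, 113, false), (3, 53, false), (4, 27, false), (3, 3, false), (4, 42, false), (3, 6, false), (4, 56, false), (5, 45, false), (2, 87, false), (0, 114, false), (1, 89, false), (2, 60, false), (0, 13, false), (1, 115, false), (2, 90, false), (3, 63, false), (4, 49, false), (1, 12, false), (2, 114, false), (3, 89, false), (4, 62, false), (5, 51, false), (4, 5, false), (5, 55, false), (0, 117, false), (1, 115, false), (2, 90, false), (3, 82, false), (4, 63, false), (0, 14, false), (1, 118, false), (2, 116, false), (3, 91, false), (4, 83, false), (5, 64,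 false)])]

/-- A conjugation. -/
def twoUSixFus3 : Schur.Tails.Fus where
  xs := [[14, 13, 12, 11, 10, 9, 8, 7, 6, 5, 2, 0], [13, 11, 10, 4, 3, 1], [14, 12, 11, 10, 8, 6, 5, 4, 0], [14, 9, 7, 1, 0], [14, 13, 12, 10, 9, 8, 6, 5, 4, 1, 0], [14, 13, 12, 11, 7, 6, 5, 1], [12, 9, 7, 4], [14, 13, 10, 5, 1, 0], [13, 10, 9, 8, 7, 4], [14, 13, 10, 9, 7, 4], [13, 12, 10, 9, 6, 0], [13, 11, 10, 9, 8, 6, 4, 0], [12, 10], [12, 6, 0], [13, 11, 10, 9, 8, 5, 4, 1, 0]]
  ys := [[14, 13, 11, 9, 8, 5, 3, 2, 1, 0], [12, 11, 10, 9, 4, 2, 0], [14, 13, 12, 11, 10, 9, 7, 5, 4, 1, 0], [14, 10, 8, 7, 1], [14, 13, 9, 7, 5, 4, 1], [14, 13, 11, 8, 7, 5, 0], [13, 12, 10, 8, 7, 4], [14, 12, 10, 9, 6, 1], [12, 9, 8, 4], [14, 12, 9, 8, 7, 4], [13, 9, 6, 5, 1, 0], [12, 11, 9, 7, 6, 5, 4, 1, 0], [13, 12, 10, 9], [13, 12, 6, 5, 1, 0], [12, 11, 9, 7, 6, 4, 1]]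
  rels := [
    ([0, 0], [13, 5, 3], [(11, 28, true), (10, 53, true), (9, 83, true), (8, 91, true), (7, 98, true), (6, 104, true), (5, 109, true), (4, 113, true), (3, 116, true), (2, 118, true), (1, 119, true), (0, 14, true), (10, 27, true), (9, 53, true), (8, 83, true), (7, 91, true), (6, 98, true), (5, 104, true), (4, 109, true), (3, 113, true), (2, 116, true), (1, 118, true), (0, 119, true), (10, 52, true), (9, 82, true), (8, 90, true), (7, 97, true), (6, 103, true), (5, 108, true), (4, 112, true), (3, 115, true), (2, 117, true), (1, 13, true), (10, 26, true), (9, 51, true), (8, 81, true), (7, 89, true), (6, 96, true), (5, 102, true), (4, 107, true), (3, 111, true), (2, 114, true), (1, 12, true), (9, 25, true), (8, 53, true), (7, 83, true), (6, 91, true), (5, 98, true), (4, 104, true), (3, 109, true), (2, 113, true), (1, 116, true), (0, 14, true), (7, 51, true), (6, 81, true), (5, 89, true), (4, 96, true), (3, 102, true), (2, 107, true), (1, 111, true), (0, 114, true), (8, 50, true), (7, 80, true), (6, 88, true), (5, 95, true), (4, 101, true), (3, 106, true), (2, 110, true), (1, 11, true), (8, 24, true), (7,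 49, true), (6, 82, true), (5, 90, true), (4, 97, true), (3, 103, true), (2, 108, true), (1, 112, true), (0, 117, true), (7, 79, true), (6, 91, true), (5, 98, true), (4, 104, true), (3, 109, true), (2, 113, true), (1, 118, true), (0, 119, true), (7, 87, true), (6, 94, true), (5, 100, true), (4, 105, true), (3, 10, true), (9, 23, true), (8, 48, true), (7, 81, true), (6, 89, true), (5, 96, true), (4, 102, true), (3, 107, true), (2, 12, true), (6, 78, true), (5, 86, true), (4, 98, true), (3, 104, true), (2, 109, true), (1, 119, true), (0, 14, true), (3, 93, true), (2, 99, true), (1, 9, true), (6, 22, true), (5, 49, true), (4, 82, true), (3, 90, true), (2, 97, true), (1, 103, true), (0, 13, true), (3, 79, true), (2, 91, true), (1, 98, true), (0, 104, true), (3, 87, true), (2, 94, true), (1, 100, true), (6, 47, true), (5, 80, true), (4, 88, true), (3, 95, true), (2, 101, true), (1, 110, true), (6, 77, true), (5, 90, true), (4, 97, true), (3, 103, true), (2, 112, true), (1, 115, true), (6, 89, true), (5, 96, true), (4, 102, true), (3, 111, true), (2, 114, true), (7, 85, true), (6, 96, true), (5, 102, true), (4, 111, true),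 (3, 114, true), (2, 12, true), (5, 92, true), (4, 8, true), (8, 21, true), (7, 48, true), (6, 81, true), (5, 89, true), (4, 96, true), (3, 111, true), (2, 114, true), (7, 78, true), (6, 86, true), (5, 98, true), (4, 113, true), (3, 116, true), (2, 118, true), (1, 119, true), (0, 14, true), (4, 93, true), (8, 46, true), (7, 76, true), (6, 89, true), (5, 96, true), (4, 107, true), (3, 111, true), (2, 114, true), (1, 12, true), (5, 84, true), (4, 97, true), (3, 108, true), (2, 112, true), (1, 115, true), (0, 13, true), (3, 7, true), (6, 20, true), (5, 45, true), (4, 75, true), (3, 6, true), (5, 19, true), (4, 44, true), (3, 5, true), (4, 16, true), (3, 44, true), (4, 2, true), (4, 0, true), (4, 0, false), (4, 1, false), (5, 15, false), (3, 7, false), (0, 12, false), (1, 114, false), (2, 111, false), (3, 107, false), (4, 96, false), (5, 76, false), (2, 105, false), (3, 94, false), (0, 14, false), (1, 118, false), (2, 116, false), (3, 109, false), (4, 98, false), (5, 79, false), (6, 34, false), (3, 93, false), (4, 78, false), (5, 36, false), (6, 21, false), (3, 9, false), (4, 93, false), (5, 78, false), (6, 36, false),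 (7, 23, false), (0, 118, false), (1, 116, false), (2, 109, false), (3, 98, false), (4, 83, false), (5, 41, false), (6, 28, false), (5, 15, false), (4, 19, false), (4, 6, false), (5, 20, false), (0, 13, false), (1, 117, false), (2, 115, false), (3, 108, false), (4, 84, false), (0, 14, false), (1, 119, false), (2, 118, false), (3, 116, false), (4, 86, false), (5, 21, false), (3, 88, false), (2, 89, false), (0, 119, false), (1, 91, false), (2, 25, false), (1, 12, false), (2, 89, false), (3, 26, false), (0, 117, false), (1, 90, false), (0, 14, false), (1, 118, false), (2, 91, false), (3, 27, false), (0, 118, false), (1, 91, false), (2, 28, false)], [(9, 28, true), (8, 41, true), (7, 53, true), (6, 64, true), (5, 83, true), (4, 104, true), (3, 109, true), (2, 116, true), (1, 119, true), (0, 14, true), (8, 27, true), (7, 41, true), (6, 53, true), (5, 64, true), (4, 83, true), (3, 104, true), (2, 109, true), (1, 116, true), (0, 119, true), (8, 40, true), (7, 52, true), (6, 63, true), (5, 82, true), (4, 103, true), (3, 108, true), (2, 115, true), (1, 13, true), (8, 25, true), (7, 41, true), (6, 53, true), (5, 64, true),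 (4, 83, true), (3, 104, true), (2, 109, true), (1, 116, true), (0, 14, true), (6, 39, true), (5, 53, true), (4, 64, true), (3, 83, true), (2, 104, true), (1, 109, true), (0, 116, true), (6, 51, true), (5, 62, true), (4, 81, true), (3, 102, true), (2, 107, true), (1, 114, true), (8, 38, true), (7, 53, true), (6, 64, true), (5, 83, true), (4, 104, true), (3, 109, true), (2, 116, true), (1, 118, true), (0, 14, true), (6, 52, true), (5, 63, true), (4, 82, true), (3, 103, true), (2, 108, true), (1, 115, true), (0, 117, true), (7, 50, true), (6, 61, true), (5, 80, true), (4, 101, true), (3, 106, true), (2, 11, true), (8, 23, true), (7, 36, true), (6, 48, true), (5, 62, true), (4, 81, true), (3, 102, true), (2, 107, true), (1, 12, true), (4, 59, true), (3, 82, true), (2, 103, true), (1, 108, true), (0, 13, true), (2, 81, true), (1, 102, true), (0, 107, true), (3, 78, true), (2, 99, true), (1, 9, true), (6, 22, true), (5, 37, true), (4, 49, true), (3, 63, true), (2, 82, true), (1, 103, true), (0, 117, true), (4, 60, true), (3, 81, true), (2, 102, true), (1, 12, true), (2, 79, true), (1, 104, true), (0, 119, true), (2, 100,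 true), (7, 35, true), (6, 49, true), (5, 63, true), (4, 82, true), (3, 103, true), (2, 112, true), (1, 13, true), (4, 60, true), (3, 81, true), (2, 102, true), (1, 111, true), (4, 79, true), (3, 104, true), (2, 113, true), (1, 118, true), (0, 14, true), (2, 100, true), (1, 10, true), (4, 48, true), (3, 62, true), (2, 81, true), (1, 102, true), (0, 12, true), (2, 59, true), (1, 82, true), (0, 103, true), (2, 81, true), (1, 102, true), (3, 78, true), (2, 99, true), (6, 47, true), (5, 61, true), (4, 80, true), (3, 101, true), (2, 106, true), (6, 58, true), (5, 77, true), (4, 103, true), (3, 108, true), (2, 115, true), (1, 117, true), (0, 13, true), (3, 102, true), (2, 107, true), (1, 114, true), (0, 12, true), (2, 8, true), (6, 19, true), (5, 32, true), (4, 44, true), (3, 55, true), (2, 5, true), (5, 17, true), (4, 33, true), (3, 45, true), (2, 56, true), (5, 30, true), (4, 45, true), (3, 56, true), (2, 6, true), (3, 44, true), (2, 55, true), (4, 42, true), (3, 3, true), (5, 16, true), (4, 32, true), (3, 44, true), (2, 5, true), (3, 29, true), (2, 45, true), (3, 2, true), (4, 15, true), (3, 1, true), (3, 0, true),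 (3, 1, false), (2, 7, false), (0, 13, false), (1, 115, false), (2, 108, false), (3, 97, false), (4, 84, false), (2, 10, false), (3, 105, false), (4, 94, false), (5, 87, false), (6, 34, false), (4, 8, false), (5, 92, false), (1, 12, false), (2, 114, false), (3, 111, false), (4, 107, false), (5, 102, false), (6, 96, false), (7, 85, false), (4, 99, false), (5, 93, false), (0, 14, false), (1, 119, false), (2, 118, false), (3, 116, false), (4, 113, false), (5, 104, false), (6, 98, false), (7, 86, false), (4, 100, false), (5, 94, false), (6, 87, false), (7, 35, false), (4, 10, false), (5, 100, false), (6, 94, false), (7, 87, false), (8, 37, false), (0, 119, false), (1, 118, false), (2, 116, false), (3, 113, false), (4, 104, false), (5, 98, false), (6, 91, false), (7, 41, false), (8, 0, false), (7, 5, false), (8, 32, false), (9, 19, false), (0, 117, false), (1, 115, false), (2, 112, false), (3, 103, false), (4, 84, false), (0, 114, false), (1, 111, false), (2, 102, false), (3, 89, false), (4, 76, false), (1, 100, false), (2, 87, false), (0, 14, false), (1, 116, false), (2, 104, false), (3, 91, false), (4, 79, false), (5,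 34, false), (2, 9, false), (3, 99, false), (0, 116, false), (1, 109, false), (2, 104, false), (3, 86, false), (4, 78, false), (5, 36, false), (6, 21, false), (0, 12, false), (1, 114, false), (2, 107, false), (3, 85, false), (0, 114, false), (1, 107, false), (2, 89, false), (0, 13, false), (1, 115, false), (2, 108, false), (3, 90, false), (4, 77, false), (0, 14, false), (1, 119, false), (2, 116, false), (3, 86, false), (4, 78, false), (3, 10, false), (4, 87, false), (0, 119, false), (1, 116, false), (2, 113, false), (3, 91, false), (4, 79, false), (5, 35, false), (2, 87, false), (0, 14, false), (1, 119, false), (2, 116, false), (3, 91, false), (4, 79, false), (5, 37, false), (6, 22, false), (2, 88, false), (3, 80, false), (1, 90, false), (2, 82, false), (0, 91, false), (1, 83, false), (2, 38, false), (0, 12, false), (1, 89, false), (2, 81, false), (0, 14, false), (1, 118, false), (2, 91, false), (3, 83, false), (4, 39, false), (0, 118, false), (1, 91, false), (2, 83, false), (3, 41, false), (4, 25, false), (0, 13, false), (1, 117, false), (2, 90, false), (3, 82, false), (4, 40, false), (0, 14, false), (1, 119, false),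 (2, 118, false), (3, 91, false), (4, 83, false), (5, 41, false), (6, 27, false), (0, 119, false), (1, 118, false), (2, 91, false), (3, 83, false), (4, 41, false), (5, 28, false)]),
    ([1, 1], [10, 8, 7, 6, 4, 2], [(5, 40, true), (4, 63, true), (3, 73, true), (2, 112, true), (1, 115, true), (0, 13, true), (4, 38, true), (3, 64, true), (2, 74, true), (1, 113, true), (0, 116, true), (4, 63, true), (3, 73, true), (2, 112, true), (1, 115, true), (5, 61, true), (4, 71, true), (3, 110, true), (2, 11, true), (5, 37, true), (4, 60, true), (3, 72, true), (2, 111, true), (4, 70, true), (3, 10, true), (5, 31, true), (4, 54, true), (3, 71, true), (4, 68, true), (5, 4, true), (6, 30, true), (5, 56, true), (6, 55, true), (7, 3, true), (7, 1, true), (7, 0, false), (7, 4, false), (8, 18, false), (4, 9, false), (5, 99, false), (0, 119, false), (1, 118, false), (2, 116, false), (3, 109, false), (4, 104, false), (5, 86, false), (0, 14, false), (1, 119, false), (2, 118, false), (3, 116, false), (4, 109, false), (5, 104, false), (6, 91, false), (7, 65, false), (8, 19, false), (4, 10, false), (5, 105, false), (6, 100, false), (0, 119,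 false), (1, 118, false), (2, 116, false), (3, 113, false), (4, 109, false), (5, 104, false), (6, 66, false), (7, 20, false), (5, 68, false), (3, 105, false), (4, 70, false), (5, 22, false), (3, 10, false), (4, 105, false), (5, 70, false), (6, 24, false), (2, 110, false), (3, 106, false), (4, 71, false), (1, 111, false), (2, 107, false), (3, 72, false), (0, 14, false), (1, 119, false), (2, 113, false), (3, 109, false), (4, 74, false), (5, 25, false), (2, 12, false), (3, 111, false), (4, 107, false), (5, 72, false), (6, 26, false), (0, 119, false), (1, 118, false), (2, 113, false), (3, 109, false), (4, 74, false), (5, 28, false), (5, 1, false), (4, 31, false), (4, 5, false), (5, 32, false), (4, 6, false), (5, 75, false), (6, 33, false), (4, 8, false), (1, 111, false), (2, 107, false), (3, 102, false), (4, 85, false), (1, 12, false), (2, 111, false), (3, 107, false), (4, 102, false), (5, 89, false), (0, 117, false), (1, 112, false), (2, 108, false), (3, 103, false), (4, 90, false), (5, 77, false), (2, 99, false), (0, 14, false), (1, 118, false), (2, 113, false), (3, 104, false), (4, 86, false), (5, 78, false), (2,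 100, false), (3, 87, false), (0, 118, false), (1, 104, false), (2, 91, false), (3, 79, false), (4, 35, false), (1, 9, false), (2, 99, false), (0, 14, false), (1, 118, false), (2, 109, false), (3, 104, false), (4, 86, false), (5, 78, false), (6, 36, false), (2, 10, false), (3, 105, false), (4, 100, false), (5, 87, false), (0, 118, false), (1, 113, false), (2, 109, false), (3, 104, false), (4, 91, false), (5, 79, false), (6, 37, false), (0, 111, false), (1, 107, false), (2, 102, false), (3, 89, false), (4, 81, false), (0, 14, false), (1, 113, false), (2, 109, false), (3, 104, false), (4, 91, false), (5, 83, false), (6, 39, false), (1, 13, false), (2, 112, false), (3, 108, false), (4, 103, false), (5, 90, false), (6, 82, false), (7, 40, false), (0, 119, false), (1, 113, false), (2, 109, false), (3, 104, false), (4, 91, false), (5, 83, false), (6, 41, false), (6, 4, false), (7, 31, false), (4, 7, false), (0, 112, false), (1, 108, false), (2, 103, false), (3, 97, false), (4, 84, false), (0, 12, false), (1, 111, false), (2, 107, false), (3, 102, false), (4, 96, false), (5, 89, false), (6, 76, false), (7, 67, false), (1,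 105, false), (2, 100, false), (3, 94, false), (4, 87, false), (0, 14, false), (1, 118, false), (2, 109, false), (3, 104, false), (4, 98, false), (5, 91, false), (6, 79, false), (7, 70, false), (8, 34, false), (2, 99, false), (3, 93, false), (0, 118, false), (1, 104, false), (2, 98, false), (3, 86, false), (4, 78, false), (5, 69, false), (6, 36, false), (0, 102, false), (1, 96, false), (2, 89, false), (3, 81, false), (4, 72, false), (0, 14, false), (1, 104, false), (2, 98, false), (3, 91, false), (4, 83, false), (5, 74, false), (6, 39, false), (7, 0, false), (6, 15, false), (1, 9, false), (2, 99, false), (3, 93, false), (0, 109, false), (1, 104, false), (2, 98, false), (3, 86, false), (0, 14, false), (1, 109, false), (2, 104, false), (3, 98, false), (4, 91, false), (5, 65, false), (6, 19, false), (1, 10, false), (2, 105, false), (3, 100, false), (4, 94, false), (5, 87, false), (6, 70, false), (7, 24, false), (1, 13, false), (2, 112, false), (3, 108, false), (4, 103, false), (5, 97, false), (6, 90, false), (7, 73, false), (0, 119, false), (1, 113, false), (2, 109, false), (3, 104, false), (4, 98, false), (5, 91, false),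 (6, 74, false), (7, 27, false), (0, 14, false), (1, 119, false), (2, 113, false), (3, 109, false), (4, 104, false), (5, 98, false), (6, 91, false), (7, 74, false), (8, 28, false), (7, 18, false), (1, 112, false), (2, 108, false), (3, 103, false), (4, 84, false), (2, 99, false), (0, 113, false), (1, 104, false), (2, 86, false), (3, 21, false), (0, 12, false), (1, 111, false), (2, 85, false), (1, 87, false), (2, 22, false), (1, 9, false), (0, 14, false), (1, 118, false), (2, 109, false), (3, 86, false), (4, 23, false), (2, 10, false), (3, 105, false), (4, 87, false), (5, 24, false), (1, 13, false), (2, 117, false), (3, 112, false), (4, 108, false), (5, 90, false), (0, 119, false), (1, 118, false), (2, 113, false), (3, 109, false), (4, 91, false), (5, 27, false)], [(6, 26, true), (5, 51, true), (4, 72, true), (3, 107, true), (2, 111, true), (1, 114, true), (0, 12, true), (5, 25, true), (4, 53, true), (3, 74, true), (2, 109, true), (1, 113, true), (0, 116, true), (5, 51, true), (4, 72, true), (3, 107, true), (2, 111, true), (1, 114, true), (6, 50, true), (5, 71, true), (4, 106, true), (3, 110, true), (2, 11, true),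 (6, 24, true), (5, 49, true), (4, 73, true), (3, 108, true), (2, 112, true), (1, 117, true), (5, 70, true), (4, 105, true), (3, 10, true), (6, 23, true), (5, 48, true), (4, 72, true), (3, 107, true), (2, 12, true), (3, 69, true), (2, 9, true), (4, 18, true), (3, 43, true), (2, 71, true), (3, 67, true), (4, 4, true), (5, 16, true), (4, 44, true), (5, 2, true), (5, 0, true), (5, 0, false), (5, 1, false), (6, 15, false), (5, 4, false), (6, 31, false), (7, 18, false), (3, 9, false), (4, 93, false), (0, 119, false), (1, 116, false), (2, 109, false), (3, 98, false), (4, 65, false), (5, 32, false), (6, 19, false), (3, 67, false), (2, 10, false), (3, 105, false), (4, 70, false), (5, 34, false), (3, 69, false), (4, 36, false), (5, 21, false), (3, 9, false), (4, 69, false), (5, 36, false), (6, 23, false), (2, 105, false), (3, 70, false), (4, 37, false), (5, 24, false), (1, 106, false), (2, 71, false), (0, 108, false), (1, 73, false), (0, 14, false), (1, 109, false), (2, 74, false), (3, 38, false), (1, 12, false), (2, 107, false), (3, 72, false), (0, 118, false), (1, 109, false), (2, 74, false), (3, 39, false), (0, 14, false),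 (1, 118, false), (2, 109, false), (3, 74, false), (4, 41, false), (5, 25, false), (1, 107, false), (2, 72, false), (0, 109, false), (1, 74, false), (2, 39, false), (3, 26, false), (0, 13, false), (1, 108, false), (2, 73, false), (3, 40, false), (0, 14, false), (1, 119, false), (2, 109, false), (3, 74, false), (4, 41, false), (5, 27, false), (0, 119, false), (1, 109, false), (2, 74, false), (3, 41, false), (4, 28, false), (3, 15, false), (2, 18, false), (2, 5, false), (3, 19, false), (2, 7, false), (1, 12, false), (2, 107, false), (3, 96, false), (4, 76, false), (2, 93, false), (3, 78, false), (4, 21, false), (2, 9, false), (3, 93, false), (4, 78, false), (5, 23, false), (0, 117, false), (1, 108, false), (2, 97, false), (3, 82, false), (0, 14, false), (1, 118, false), (2, 109, false), (3, 98, false), (4, 83, false), (5, 27, false), (0, 118, false), (1, 109, false), (2, 98, false), (3, 83, false), (4, 28, false), (4, 4, false), (5, 18, false), (0, 107, false), (1, 76, false), (2, 67, false), (0, 78, false), (1, 69, false), (2, 21, false), (0, 8, false), (0, 12, false), (1, 102, false), (0, 13, false), (1, 117, false),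 (2, 103, false), (3, 77, false), (4, 68, false), (2, 10, false), (3, 100, false), (0, 14, false), (1, 119, false), (2, 118, false), (3, 113, false), (4, 104, false), (5, 79, false), (6, 70, false), (7, 22, false), (3, 100, false), (0, 119, false), (1, 118, false), (2, 104, false), (3, 79, false), (4, 70, false), (5, 24, false), (1, 102, false), (2, 81, false), (3, 72, false), (4, 26, false), (0, 103, false), (1, 82, false), (2, 73, false), (0, 14, false), (1, 104, false), (2, 83, false), (3, 74, false), (4, 27, false), (4, 1, false), (5, 15, false), (2, 6, false), (3, 75, false), (1, 10, false), (2, 100, false), (3, 87, false), (0, 113, false), (1, 104, false), (2, 91, false), (3, 79, false), (0, 14, false), (1, 113, false), (2, 104, false), (3, 91, false), (4, 83, false), (5, 66, false), (6, 33, false), (7, 20, false), (2, 9, false), (3, 99, false), (0, 113, false), (1, 109, false), (2, 104, false), (3, 86, false), (4, 78, false), (5, 69, false), (6, 36, false), (7, 23, false), (0, 105, false), (1, 100, false), (2, 87, false), (0, 14, false), (1, 109, false), (2, 104, false), (3, 91, false), (4, 79, false), (5,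 70, false), (6, 37, false), (7, 24, false), (1, 12, false), (2, 107, false), (3, 102, false), (4, 89, false), (5, 81, false), (6, 72, false), (0, 118, false), (1, 109, false), (2, 104, false), (3, 91, false), (4, 83, false), (5, 74, false), (6, 39, false), (7, 26, false), (0, 14, false), (1, 118, false), (2, 109, false), (3, 104, false), (4, 91, false), (5, 83, false), (6, 74, false), (7, 41, false), (8, 28, false), (6, 31, false), (7, 18, false), (1, 107, false), (2, 85, false), (1, 12, false), (2, 107, false), (3, 89, false), (1, 13, false), (2, 117, false), (3, 108, false), (4, 90, false), (5, 77, false), (0, 119, false), (1, 118, false), (2, 86, false), (3, 78, false), (2, 10, false), (3, 87, false), (0, 14, false), (1, 119, false), (2, 118, false), (3, 113, false), (4, 91, false), (5, 79, false), (6, 35, false), (3, 87, false), (0, 119, false), (1, 118, false), (2, 91, false), (3, 79, false), (4, 37, false), (5, 22, false), (2, 9, false), (0, 14, false), (1, 119, false), (2, 118, false), (3, 109, false), (4, 86, false), (5, 78, false), (6, 36, false), (7, 23, false), (2, 107, false), (3, 89, false), (4, 81,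 false), (0, 119, false), (1, 109, false), (2, 91, false), (3, 83, false), (4, 39, false), (5, 26, false)]),
    ([2, 2], [13, 12, 10], [(8, 28, true), (7, 74, true), (6, 83, true), (5, 91, true), (4, 104, true), (3, 113, true), (2, 116, true), (1, 118, true), (0, 14, true), (7, 26, true), (6, 72, true), (5, 81, true), (4, 89, true), (3, 102, true), (2, 111, true), (1, 114, true), (0, 12, true), (6, 25, true), (5, 74, true), (4, 83, true), (3, 91, true), (2, 104, true), (1, 113, true), (0, 116, true), (6, 72, true), (5, 81, true), (4, 89, true), (3, 102, true), (2, 111, true), (1, 114, true), (7, 71, true), (6, 80, true), (5, 88, true), (4, 101, true), (3, 110, true), (2, 11, true), (7, 24, true), (6, 70, true), (5, 79, true), (4, 91, true), (3, 104, true), (2, 113, true), (1, 118, true), (0, 14, true), (3, 87, true), (2, 100, true), (1, 10, true), (5, 22, true), (4, 70, true), (3, 79, true), (2, 91, true), (1, 104, true), (0, 118, true), (3, 87, true), (2, 100, true), (6, 68, true), (5, 77, true), (4, 90, true), (3, 103, true), (2, 112, true), (1, 117, true), (5, 89, true), (4, 102, true), (3, 111, true), (2, 12,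 true), (4, 85, true), (3, 102, true), (2, 111, true), (4, 8, true), (7, 20, true), (6, 66, true), (5, 83, true), (4, 91, true), (3, 113, true), (2, 118, true), (1, 119, true), (0, 14, true), (4, 79, true), (3, 91, true), (2, 113, true), (1, 118, true), (0, 119, true), (4, 87, true), (3, 10, true), (4, 75, true), (3, 6, true), (5, 19, true), (4, 65, true), (3, 83, true), (2, 118, true), (1, 119, true), (0, 14, true), (2, 78, true), (3, 5, true), (4, 18, true), (3, 4, true), (3, 0, true), (3, 0, false), (3, 6, false), (4, 20, false), (0, 14, false), (1, 119, false), (2, 118, false), (3, 86, false), (4, 23, false), (3, 10, false), (4, 87, false), (5, 24, false), (2, 111, false), (3, 89, false), (4, 26, false), (1, 112, false), (2, 90, false), (0, 113, false), (1, 91, false), (2, 27, false), (0, 87, false), (1, 24, false), (0, 12, false), (1, 89, false), (2, 26, false)], [(10, 28, true), (9, 41, true), (8, 74, true), (7, 83, true), (6, 98, true), (5, 109, true), (4, 113, true), (3, 116, true), (2, 118, true), (1, 119, true), (0, 14, true), (9, 27, true), (8, 41, true), (7, 74, true), (6, 83, true), (5, 98, true), (4,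 109, true), (3, 113, true), (2, 116, true), (1, 118, true), (0, 119, true), (9, 40, true), (8, 73, true), (7, 82, true), (6, 97, true), (5, 108, true), (4, 112, true), (3, 115, true), (2, 117, true), (1, 13, true), (9, 26, true), (8, 39, true), (7, 74, true), (6, 83, true), (5, 98, true), (4, 109, true), (3, 113, true), (2, 116, true), (1, 118, true), (0, 14, true), (6, 72, true), (5, 81, true), (4, 96, true), (3, 107, true), (2, 111, true), (1, 114, true), (0, 12, true), (7, 25, true), (6, 41, true), (5, 74, true), (4, 83, true), (3, 98, true), (2, 109, true), (1, 113, true), (0, 116, true), (7, 39, true), (6, 74, true), (5, 83, true), (4, 98, true), (3, 109, true), (2, 113, true), (1, 116, true), (0, 14, true), (5, 72, true), (4, 81, true), (3, 96, true), (2, 107, true), (1, 111, true), (0, 114, true), (7, 38, true), (6, 74, true), (5, 83, true), (4, 98, true), (3, 109, true), (2, 113, true), (1, 116, true), (0, 118, true), (7, 73, true), (6, 82, true), (5, 97, true), (4, 108, true), (3, 112, true), (2, 115, true), (1, 117, true), (8, 71, true), (7, 80, true), (6, 95, true), (5, 106, true), (4, 110, true), (3,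 11, true), (9, 24, true), (8, 37, true), (7, 70, true), (6, 79, true), (5, 98, true), (4, 109, true), (3, 113, true), (2, 118, true), (1, 119, true), (0, 14, true), (4, 94, true), (3, 105, true), (2, 10, true), (7, 23, true), (6, 36, true), (5, 69, true), (4, 78, true), (3, 93, true), (2, 9, true), (6, 21, true), (5, 36, true), (4, 69, true), (3, 78, true), (2, 93, true), (6, 34, true), (5, 70, true), (4, 79, true), (3, 98, true), (2, 109, true), (1, 118, true), (0, 119, true), (4, 94, true), (3, 105, true), (7, 67, true), (6, 76, true), (5, 96, true), (4, 107, true), (3, 111, true), (2, 12, true), (4, 7, true), (7, 19, true), (6, 32, true), (5, 65, true), (4, 83, true), (3, 109, true), (2, 113, true), (1, 119, true), (0, 14, true), (3, 78, true), (2, 9, true), (2, 5, true), (4, 18, true), (3, 31, true), (2, 4, true), (3, 15, true), (2, 1, true), (2, 0, true), (2, 0, false), (2, 1, false), (3, 15, false), (2, 5, false), (3, 32, false), (4, 19, false), (2, 6, false), (3, 75, false), (4, 33, false), (5, 20, false), (2, 9, false), (0, 14, false), (1, 119, false), (2, 113, false), (3, 109, false), (4, 86, false), (5,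 78, false), (6, 36, false), (7, 23, false), (1, 112, false), (2, 108, false), (3, 90, false), (4, 82, false), (5, 40, false), (0, 113, false), (1, 109, false), (2, 91, false), (3, 83, false), (4, 41, false), (5, 27, false), (0, 14, false), (1, 113, false), (2, 86, false), (3, 78, false), (4, 36, false), (5, 23, false), (1, 87, false), (0, 91, false), (1, 79, false), (2, 37, false), (3, 24, false), (0, 12, false), (1, 89, false), (2, 81, false), (0, 14, false), (1, 118, false), (2, 91, false), (3, 83, false), (4, 39, false), (5, 26, false), (1, 13, false), (2, 117, false), (3, 90, false), (4, 82, false), (5, 40, false), (0, 119, false), (1, 118, false), (2, 91, false), (3, 83, false), (4, 41, false), (5, 27, false)]),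
    ([4, 4], [13, 12, 11, 10, 9, 8, 7, 6, 5], [(10, 28, true), (9, 41, true), (8, 74, true), (7, 83, true), (6, 91, true), (5, 104, true), (4, 109, true), (3, 113, true), (2, 118, true), (1, 119, true), (0, 14, true), (9, 27, true), (8, 41, true), (7, 74, true), (6, 83, true), (5, 91, true), (4, 104, true), (3, 109, true), (2, 113, true), (1, 118, true), (0, 119, true), (9, 40, true), (8, 73, true), (7, 82, true), (6, 90, true), (5, 103, true), (4, 108, true), (3, 112, true), (2, 117, true), (1, 13, true), (9, 26, true), (8, 39, true), (7, 74, true), (6, 83, true), (5, 91, true), (4, 104, true), (3, 109, true), (2, 113, true), (1, 118, true), (0, 14, true), (6, 72, true), (5, 81, true), (4, 89, true), (3, 102, true), (2, 107, true), (1, 111, true), (0, 12, true), (7, 24, true), (6, 37, true), (5, 70, true), (4, 79, true), (3, 91, true), (2, 104, true), (1, 109, true), (0, 113, true), (4, 87, true), (3, 100, true), (2, 105, true), (1, 10, true), (7, 23, true), (6, 36, true), (5, 69, true), (4, 78, true), (3, 86, true), (2, 104, true), (1, 109, true), (0, 14, true), (1, 99, true), (0, 9, true), (5, 22, true), (4,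 37, true), (3, 70, true), (2, 79, true), (1, 91, true), (0, 104, true), (2, 87, true), (1, 100, true), (6, 35, true), (5, 70, true), (4, 79, true), (3, 91, true), (2, 104, true), (1, 113, true), (0, 14, true), (2, 87, true), (1, 100, true), (0, 10, true), (3, 69, true), (2, 78, true), (1, 86, true), (0, 104, true), (1, 99, true), (5, 68, true), (4, 77, true), (3, 90, true), (2, 103, true), (1, 108, true), (4, 89, true), (3, 102, true), (2, 107, true), (5, 85, true), (4, 102, true), (3, 107, true), (2, 12, true), (3, 8, true), (7, 20, true), (6, 33, true), (5, 66, true), (4, 83, true), (3, 91, true), (2, 109, true), (1, 119, true), (0, 14, true), (3, 79, true), (2, 91, true), (1, 109, true), (0, 119, true), (3, 87, true), (2, 105, true), (5, 75, true), (4, 6, true), (7, 19, true), (6, 32, true), (5, 65, true), (4, 83, true), (3, 109, true), (2, 113, true), (1, 119, true), (0, 14, true), (3, 78, true), (2, 9, true), (2, 5, true), (4, 18, true), (3, 31, true), (2, 4, true), (3, 15, true), (2, 1, true), (2, 0, true), (2, 1, false), (2, 5, false), (3, 32, false), (2, 6, false), (3, 75, false), (4, 33, false), (2, 7,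 false), (0, 112, false), (1, 97, false), (2, 84, false), (0, 12, false), (1, 111, false), (2, 96, false), (3, 89, false), (4, 76, false), (1, 94, false), (2, 87, false), (0, 14, false), (1, 118, false), (2, 98, false), (3, 91, false), (4, 79, false), (5, 34, false), (2, 11, false), (3, 95, false), (4, 88, false), (5, 80, false), (1, 13, false), (2, 117, false), (3, 115, false), (4, 97, false), (5, 90, false), (6, 82, false), (0, 119, false), (1, 118, false), (2, 116, false), (3, 98, false), (4, 91, false), (5, 83, false), (6, 38, false), (1, 114, false), (2, 96, false), (3, 89, false), (4, 81, false), (0, 14, false), (1, 119, false), (2, 116, false), (3, 98, false), (4, 91, false), (5, 83, false), (6, 39, false), (1, 115, false), (2, 97, false), (3, 90, false), (4, 82, false), (5, 40, false), (0, 116, false), (1, 98, false), (2, 91, false), (3, 83, false), (4, 41, false), (4, 4, false), (5, 31, false), (0, 13, false), (1, 115, false), (2, 84, false), (1, 12, false), (2, 114, false), (3, 89, false), (4, 76, false), (5, 67, false), (3, 10, false), (4, 87, false), (0, 14, false), (1, 119, false), (2, 118, false), (3,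 116, false), (4, 113, false), (5, 91, false), (6, 79, false), (7, 70, false), (8, 34, false), (5, 9, false), (0, 119, false), (1, 118, false), (2, 116, false), (3, 113, false), (4, 109, false), (5, 86, false), (6, 78, false), (7, 69, false), (8, 36, false), (1, 114, false), (2, 111, false), (3, 107, false), (4, 89, false), (5, 81, false), (6, 72, false), (0, 14, false), (1, 119, false), (2, 116, false), (3, 113, false), (4, 109, false), (5, 91, false), (6, 83, false), (7, 74, false), (8, 39, false), (9, 0, false), (8, 15, false), (0, 119, false), (1, 116, false), (2, 113, false), (3, 86, false), (0, 14, false), (1, 119, false), (2, 116, false), (3, 113, false), (4, 91, false), (5, 65, false), (6, 19, false), (3, 87, false), (4, 70, false), (5, 24, false), (1, 115, false), (2, 90, false), (3, 73, false), (0, 116, false), (1, 91, false), (2, 74, false), (3, 27, false), (0, 14, false), (1, 116, false), (2, 91, false), (3, 74, false), (4, 28, false), (3, 18, false), (2, 7, false), (1, 13, false), (2, 115, false), (3, 97, false), (4, 84, false), (3, 9, false), (4, 93, false), (0, 119, false), (1, 116, false), (2, 109,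 false), (3, 98, false), (4, 86, false), (5, 21, false), (3, 8, false), (4, 92, false), (1, 12, false), (2, 114, false), (3, 107, false), (4, 102, false), (5, 96, false), (6, 85, false), (3, 10, false), (4, 105, false), (5, 100, false), (6, 94, false), (7, 87, false), (8, 22, false), (4, 99, false), (5, 93, false), (0, 14, false), (1, 119, false), (2, 118, false), (3, 116, false), (4, 113, false), (5, 104, false), (6, 98, false), (7, 86, false), (8, 23, false), (4, 100, false), (5, 94, false), (6, 87, false), (7, 24, false), (1, 117, false), (2, 115, false), (3, 103, false), (4, 97, false), (5, 90, false), (0, 118, false), (1, 116, false), (2, 104, false), (3, 98, false), (4, 91, false), (5, 27, false), (5, 4, false), (6, 18, false), (0, 13, false), (1, 117, false), (2, 115, false), (3, 103, false), (4, 84, false), (5, 67, false), (3, 9, false), (4, 99, false), (0, 14, false), (1, 119, false), (2, 118, false), (3, 116, false), (4, 109, false), (5, 104, false), (6, 86, false), (7, 69, false), (8, 21, false), (4, 99, false), (0, 119, false), (1, 118, false), (2, 116, false), (3, 104, false), (4, 86, false), (5, 69,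 false), (6, 23, false), (3, 10, false), (4, 100, false), (5, 87, false), (6, 70, false), (7, 24, false), (0, 117, false), (1, 115, false), (2, 112, false), (3, 103, false), (4, 90, false), (5, 73, false), (0, 14, false), (1, 118, false), (2, 116, false), (3, 113, false), (4, 104, false), (5, 91, false), (6, 74, false), (7, 27, false), (0, 118, false), (1, 116, false), (2, 113, false), (3, 104, false), (4, 91, false), (5, 74, false), (6, 28, false), (2, 100, false), (0, 14, false), (1, 118, false), (2, 116, false), (3, 104, false), (4, 66, false), (3, 9, false), (4, 99, false), (5, 69, false), (3, 10, false), (4, 105, false), (5, 100, false), (6, 70, false), (1, 114, false), (2, 111, false), (3, 107, false), (4, 102, false), (5, 72, false), (1, 13, false), (2, 115, false), (3, 112, false), (4, 108, false), (5, 103, false), (6, 73, false), (7, 0, false), (6, 18, false), (6, 6, false), (7, 20, false), (2, 12, false), (3, 114, false), (4, 111, false), (5, 107, false), (6, 85, false), (4, 105, false), (5, 87, false), (6, 22, false), (0, 119, false), (1, 118, false), (2, 116, false), (3, 86, false), (4, 23, false), (3,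 10, false), (4, 87, false), (5, 24, false), (2, 110, false), (3, 88, false), (1, 111, false), (2, 89, false), (0, 14, false), (1, 119, false), (2, 113, false), (3, 91, false), (4, 25, false), (1, 112, false), (2, 90, false), (0, 113, false), (1, 91, false), (2, 27, false), (0, 87, false), (1, 24, false), (0, 12, false), (1, 89, false), (2, 26, false)], [(6, 41, true), (5, 74, true), (4, 83, true), (3, 98, true), (2, 109, true), (1, 119, true), (0, 14, true), (5, 40, true), (4, 73, true), (3, 82, true), (2, 97, true), (1, 108, true), (0, 13, true), (4, 36, true), (3, 69, true), (2, 78, true), (1, 93, true), (0, 9, true), (3, 34, true), (2, 70, true), (1, 79, true), (0, 98, true), (1, 94, true), (4, 67, true), (3, 76, true), (2, 96, true), (1, 111, true), (3, 7, true), (5, 32, true), (4, 65, true), (3, 83, true), (2, 113, true), (1, 118, true), (0, 14, true), (2, 78, true), (3, 5, true), (4, 31, true), (3, 4, true), (3, 1, true), (3, 0, false), (3, 5, false), (4, 19, false), (3, 7, false), (0, 111, false), (1, 107, false), (2, 96, false), (3, 76, false), (1, 93, false), (2, 78, false), (3, 21, false), (1, 8, false),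 (2, 92, false), (0, 12, false), (1, 111, false), (2, 102, false), (3, 96, false), (0, 13, false), (1, 117, false), (2, 112, false), (3, 103, false), (4, 97, false), (5, 77, false), (2, 100, false), (3, 94, false), (0, 14, false), (1, 119, false), (2, 118, false), (3, 104, false), (4, 98, false), (5, 79, false), (6, 22, false), (3, 11, false), (4, 101, false), (5, 95, false), (6, 80, false), (2, 114, false), (3, 102, false), (4, 96, false), (5, 81, false), (0, 119, false), (1, 116, false), (2, 104, false), (3, 98, false), (4, 83, false), (5, 25, false), (0, 115, false), (1, 103, false), (2, 97, false), (3, 82, false), (0, 14, false), (1, 116, false), (2, 104, false), (3, 98, false), (4, 83, false), (5, 27, false), (0, 116, false), (1, 104, false), (2, 98, false), (3, 83, false), (4, 28, false), (4, 4, false), (5, 18, false), (0, 12, false), (1, 114, false), (2, 102, false), (3, 76, false), (4, 67, false), (2, 9, false), (3, 99, false), (4, 78, false), (5, 69, false), (6, 21, false), (0, 114, false), (1, 107, false), (0, 13, false), (1, 115, false), (2, 108, false), (3, 77, false), (4, 68, false), (2, 10, false),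 (3, 105, false), (0, 14, false), (1, 119, false), (2, 116, false), (3, 113, false), (4, 109, false), (5, 79, false), (6, 70, false), (7, 22, false), (3, 105, false), (0, 119, false), (1, 116, false), (2, 109, false), (3, 79, false), (4, 70, false), (5, 24, false), (1, 12, false), (2, 114, false), (3, 107, false), (4, 81, false), (5, 72, false), (6, 26, false), (0, 117, false), (1, 115, false), (2, 108, false), (3, 82, false), (4, 73, false), (0, 14, false), (1, 118, false), (2, 116, false), (3, 109, false), (4, 83, false), (5, 74, false), (6, 27, false), (6, 1, false), (7, 15, false), (4, 6, false), (5, 75, false), (3, 10, false), (4, 105, false), (5, 87, false), (0, 118, false), (1, 116, false), (2, 113, false), (3, 109, false), (4, 91, false), (5, 79, false), (0, 14, false), (1, 118, false), (2, 116, false), (3, 113, false), (4, 109, false), (5, 91, false), (6, 83, false), (7, 66, false), (8, 33, false), (9, 20, false), (0, 118, false), (1, 116, false), (2, 113, false), (3, 86, false), (4, 78, false), (5, 69, false), (6, 36, false), (7, 23, false), (2, 87, false), (0, 14, false), (1, 118, false), (2, 116, false),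 (3, 91, false), (4, 79, false), (5, 70, false), (6, 37, false), (7, 24, false), (1, 114, false), (2, 89, false), (3, 81, false), (4, 72, false), (0, 116, false), (1, 91, false), (2, 83, false), (3, 74, false), (4, 39, false), (5, 26, false), (0, 14, false), (1, 116, false), (2, 91, false), (3, 83, false), (4, 74, false), (5, 41, false), (6, 28, false), (4, 31, false), (5, 18, false), (2, 8, false), (1, 12, false), (2, 114, false), (3, 102, false), (4, 85, false), (1, 114, false), (2, 102, false), (3, 89, false), (1, 13, false), (2, 115, false), (3, 103, false), (4, 90, false), (5, 77, false), (3, 9, false), (4, 99, false), (0, 119, false), (1, 116, false), (2, 109, false), (3, 104, false), (4, 86, false), (5, 78, false), (2, 10, false), (3, 105, false), (4, 100, false), (5, 87, false), (0, 14, false), (1, 119, false), (2, 116, false), (3, 113, false), (4, 109, false), (5, 104, false), (6, 91, false), (7, 79, false), (8, 35, false), (3, 105, false), (4, 100, false), (5, 87, false), (0, 119, false), (1, 116, false), (2, 109, false), (3, 104, false), (4, 91, false), (5, 79, false), (6, 37, false), (7, 22, false), (2,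 99, false), (0, 14, false), (1, 119, false), (2, 116, false), (3, 104, false), (4, 86, false), (5, 78, false), (6, 36, false), (7, 23, false), (2, 12, false), (3, 114, false), (4, 102, false), (5, 89, false), (6, 81, false), (0, 119, false), (1, 118, false), (2, 116, false), (3, 104, false), (4, 91, false), (5, 83, false), (6, 39, false), (7, 26, false), (6, 4, false), (7, 31, false), (8, 18, false), (4, 7, false), (0, 117, false), (1, 115, false), (2, 103, false), (3, 97, false), (4, 84, false), (0, 114, false), (1, 102, false), (2, 96, false), (3, 89, false), (4, 76, false), (5, 67, false), (1, 10, false), (2, 100, false), (3, 94, false), (4, 87, false), (0, 14, false), (1, 116, false), (2, 113, false), (3, 104, false), (4, 98, false), (5, 91, false), (6, 79, false), (7, 70, false), (8, 34, false), (3, 9, false), (4, 99, false), (5, 93, false), (0, 116, false), (1, 113, false), (2, 109, false), (3, 104, false), (4, 98, false), (5, 86, false), (6, 78, false), (7, 69, false), (8, 36, false), (9, 21, false), (3, 92, false), (0, 12, false), (1, 114, false), (2, 111, false), (3, 107, false), (4, 96, false), (5, 85,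 false), (0, 114, false), (1, 111, false), (2, 107, false), (3, 96, false), (4, 89, false), (0, 13, false), (1, 115, false), (2, 112, false), (3, 108, false), (4, 97, false), (5, 90, false), (6, 77, false), (7, 68, false), (3, 93, false), (0, 14, false), (1, 119, false), (2, 116, false), (3, 113, false), (4, 98, false), (5, 86, false), (6, 78, false), (7, 69, false), (3, 94, false), (4, 87, false), (0, 119, false), (1, 116, false), (2, 98, false), (3, 91, false), (4, 79, false), (5, 70, false), (6, 35, false), (2, 10, false), (3, 94, false), (4, 87, false), (0, 14, false), (1, 119, false), (2, 116, false), (3, 113, false), (4, 98, false), (5, 91, false), (6, 79, false), (7, 70, false), (8, 37, false), (9, 22, false), (4, 9, false), (5, 93, false), (0, 119, false), (1, 116, false), (2, 113, false), (3, 109, false), (4, 98, false), (5, 86, false), (6, 78, false), (7, 69, false), (8, 36, false), (9, 23, false), (1, 12, false), (2, 114, false), (3, 111, false), (4, 107, false), (5, 96, false), (6, 89, false), (7, 81, false), (8, 72, false), (0, 14, false), (1, 119, false), (2, 118, false), (3, 116, false), (4, 113, false),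 (5, 109, false), (6, 98, false), (7, 91, false), (8, 83, false), (9, 74, false), (10, 39, false), (11, 26, false), (0, 119, false), (1, 118, false), (2, 116, false), (3, 113, false), (4, 109, false), (5, 98, false), (6, 91, false), (7, 83, false), (8, 74, false), (9, 41, false), (10, 28, false), (4, 93, false), (0, 14, false), (1, 119, false), (2, 118, false), (3, 116, false), (4, 113, false), (5, 98, false), (6, 86, false), (0, 119, false), (1, 118, false), (2, 116, false), (3, 113, false), (4, 98, false), (5, 91, false), (6, 65, false), (3, 94, false), (0, 14, false), (1, 119, false), (2, 118, false), (3, 116, false), (4, 98, false), (5, 66, false), (4, 9, false), (5, 93, false), (6, 69, false), (1, 117, false), (2, 115, false), (3, 108, false), (4, 97, false), (5, 73, false), (6, 0, false), (6, 1, false), (7, 15, false), (5, 31, false), (6, 18, false), (5, 5, false), (6, 32, false), (7, 19, false), (5, 6, false), (6, 75, false), (7, 33, false), (8, 20, false), (1, 13, false), (2, 117, false), (3, 115, false), (4, 108, false), (5, 84, false), (2, 114, false), (3, 107, false), (4, 89, false), (5, 76, false), (3,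 10, false), (4, 105, false), (5, 87, false), (0, 119, false), (1, 116, false), (2, 113, false), (3, 109, false), (4, 91, false), (5, 79, false), (6, 34, false), (0, 14, false), (1, 119, false), (2, 116, false), (3, 113, false), (4, 86, false), (5, 78, false), (6, 36, false), (7, 21, false), (4, 9, false), (0, 119, false), (1, 116, false), (2, 113, false), (3, 109, false), (4, 86, false), (5, 78, false), (6, 36, false), (7, 23, false), (1, 110, false), (2, 106, false), (3, 88, false), (4, 80, false), (0, 112, false), (1, 108, false), (2, 90, false), (3, 82, false), (0, 14, false), (1, 113, false), (2, 109, false), (3, 91, false), (4, 83, false), (5, 38, false), (1, 12, false), (2, 111, false), (3, 107, false), (4, 89, false), (5, 81, false), (0, 118, false), (1, 113, false), (2, 109, false), (3, 91, false), (4, 83, false), (5, 39, false), (0, 14, false), (1, 118, false), (2, 113, false), (3, 109, false), (4, 91, false), (5, 83, false), (6, 41, false), (7, 25, false), (1, 111, false), (2, 107, false), (3, 89, false), (4, 81, false), (0, 113, false), (1, 109, false), (2, 91, false), (3, 83, false), (4, 39, false),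 (5, 26, false), (0, 14, false), (1, 113, false), (2, 86, false), (3, 78, false), (4, 36, false), (5, 23, false), (1, 87, false), (0, 91, false), (1, 79, false), (2, 37, false), (3, 24, false), (0, 12, false), (1, 89, false), (2, 81, false), (0, 14, false), (1, 118, false), (2, 91, false), (3, 83, false), (4, 39, false), (5, 26, false), (1, 13, false), (2, 117, false), (3, 90, false), (4, 82, false), (5, 40, false), (0, 119, false), (1, 118, false), (2, 91, false), (3, 83, false), (4, 41, false), (5, 27, false)]),
    ([5, 5], [14, 11, 10, 7], [(7, 41, true), (6, 83, true), (5, 91, true), (4, 98, true), (3, 116, true), (2, 118, true), (1, 119, true), (0, 14, true), (6, 40, true), (5, 82, true), (4, 90, true), (3, 97, true), (2, 115, true), (1, 117, true), (0, 13, true), (5, 39, true), (4, 83, true), (3, 91, true), (2, 98, true), (1, 116, true), (0, 118, true), (5, 81, true), (4, 89, true), (3, 96, true), (2, 114, true), (1, 12, true), (5, 38, true), (4, 83, true), (3, 91, true), (2, 98, true), (1, 116, true), (0, 14, true), (3, 82, true), (2, 90, true), (1, 97, true), (0, 115, true), (4, 80, true), (3, 88, true),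 (2, 95, true), (1, 11, true), (4, 34, true), (3, 79, true), (2, 91, true), (1, 98, true), (0, 119, true), (3, 87, true), (2, 94, true), (5, 76, true), (4, 89, true), (3, 96, true), (2, 111, true), (5, 84, true), (4, 97, true), (3, 112, true), (2, 117, true), (1, 13, true), (3, 7, true), (5, 33, true), (4, 75, true), (3, 6, true), (4, 32, true), (3, 5, true), (3, 1, true), (3, 0, false), (3, 1, false), (4, 15, false), (3, 5, false), (4, 32, false), (5, 19, false), (0, 118, false), (1, 79, false), (2, 37, false), (3, 24, false), (0, 13, false), (1, 117, false), (2, 82, false), (3, 40, false), (0, 14, false), (1, 119, false), (2, 118, false), (3, 83, false), (4, 41, false), (5, 27, false), (0, 119, false), (1, 118, false), (2, 83, false), (3, 41, false), (4, 28, false), (2, 6, false), (3, 75, false), (4, 33, false), (2, 9, false), (0, 14, false), (1, 119, false), (2, 118, false), (3, 109, false), (4, 86, false), (5, 78, false), (6, 36, false), (3, 10, false), (4, 105, false), (5, 87, false), (0, 119, false), (1, 118, false), (2, 113, false), (3, 109, false), (4, 91, false), (5, 79, false), (6, 37, false), (1, 111,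 false), (2, 107, false), (3, 89, false), (4, 81, false), (0, 14, false), (1, 119, false), (2, 113, false), (3, 109, false), (4, 91, false), (5, 83, false), (6, 39, false), (1, 112, false), (2, 108, false), (3, 90, false), (4, 82, false), (5, 40, false), (6, 0, false), (5, 4, false), (6, 31, false), (7, 18, false), (3, 75, false), (1, 105, false), (0, 109, false), (1, 79, false), (0, 14, false), (1, 109, false), (2, 83, false), (3, 66, false), (4, 33, false), (5, 20, false), (2, 8, false), (1, 12, false), (2, 107, false), (3, 102, false), (1, 13, false), (2, 117, false), (3, 108, false), (4, 103, false), (5, 77, false), (6, 68, false), (3, 99, false), (4, 78, false), (5, 69, false), (3, 10, false), (4, 100, false), (0, 119, false), (1, 118, false), (2, 113, false), (3, 104, false), (4, 79, false), (5, 70, false), (6, 35, false), (2, 100, false), (0, 14, false), (1, 119, false), (2, 118, false), (3, 104, false), (4, 79, false), (5, 70, false), (6, 37, false), (7, 22, false), (3, 9, false), (4, 99, false), (5, 78, false), (6, 69, false), (7, 36, false), (8, 23, false), (3, 10, false), (4, 105, false), (5, 100, false),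 (0, 119, false), (1, 118, false), (2, 113, false), (3, 109, false), (4, 104, false), (5, 79, false), (6, 70, false), (7, 37, false), (8, 24, false), (2, 11, false), (3, 110, false), (4, 106, false), (5, 101, false), (6, 80, false), (7, 71, false), (0, 117, false), (1, 115, false), (2, 112, false), (3, 108, false), (4, 103, false), (5, 82, false), (6, 73, false), (0, 14, false), (1, 118, false), (2, 116, false), (3, 113, false), (4, 109, false), (5, 104, false), (6, 83, false), (7, 74, false), (8, 38, false), (1, 114, false), (2, 111, false), (3, 107, false), (4, 102, false), (5, 81, false), (6, 72, false), (0, 116, false), (1, 113, false), (2, 109, false), (3, 104, false), (4, 83, false), (5, 74, false), (6, 39, false), (0, 14, false), (1, 116, false), (2, 113, false), (3, 109, false), (4, 104, false), (5, 83, false), (6, 74, false), (7, 41, false), (8, 25, false), (1, 13, false), (2, 115, false), (3, 112, false), (4, 108, false), (5, 103, false), (6, 82, false), (7, 73, false), (8, 40, false), (0, 119, false), (1, 116, false), (2, 113, false), (3, 109, false), (4, 104, false), (5, 83, false), (6, 74, false), (7,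 41, false), (8, 27, false)], [(6, 28, true), (5, 83, true), (4, 98, true), (3, 104, true), (2, 116, true), (1, 119, true), (0, 14, true), (5, 27, true), (4, 83, true), (3, 98, true), (2, 104, true), (1, 116, true), (0, 119, true), (5, 82, true), (4, 97, true), (3, 103, true), (2, 115, true), (1, 13, true), (5, 25, true), (4, 83, true), (3, 98, true), (2, 104, true), (1, 116, true), (0, 14, true), (3, 81, true), (2, 96, true), (1, 102, true), (0, 114, true), (4, 80, true), (3, 95, true), (2, 101, true), (1, 11, true), (4, 22, true), (3, 79, true), (2, 98, true), (1, 104, true), (0, 118, true), (3, 94, true), (2, 100, true), (5, 77, true), (4, 97, true), (3, 103, true), (2, 112, true), (1, 117, true), (5, 96, true), (4, 102, true), (3, 111, true), (2, 12, true), (4, 92, true), (3, 8, true), (5, 21, true), (4, 78, true), (3, 93, true), (5, 76, true), (4, 96, true), (3, 107, true), (2, 111, true), (5, 7, true), (6, 19, true), (5, 5, true), (5, 0, true), (5, 1, false), (5, 6, false), (6, 33, false), (0, 119, false), (1, 118, false), (2, 113, false), (3, 86, false), (4, 36, false), (2, 87, false), (3, 37, false), (1,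 89, false), (0, 14, false), (1, 119, false), (2, 91, false), (3, 39, false), (0, 119, false), (1, 91, false), (2, 41, false), (3, 0, false), (2, 15, false), (2, 5, false), (3, 19, false), (1, 75, false), (2, 20, false), (1, 9, false), (2, 78, false), (3, 23, false), (0, 108, false), (1, 82, false), (0, 14, false), (1, 109, false), (2, 83, false), (3, 27, false), (3, 1, false), (3, 4, false), (4, 31, false), (0, 65, false), (1, 32, false), (0, 6, false), (0, 10, false), (1, 87, false), (0, 14, false), (1, 113, false), (2, 91, false), (3, 66, false), (4, 33, false), (2, 7, false), (1, 13, false), (2, 112, false), (3, 97, false), (4, 84, false), (5, 67, false), (2, 94, false), (3, 87, false), (4, 70, false), (5, 34, false), (2, 9, false), (3, 93, false), (0, 119, false), (1, 109, false), (2, 98, false), (3, 86, false), (4, 69, false), (5, 36, false), (1, 11, false), (2, 106, false), (3, 95, false), (4, 88, false), (5, 71, false), (0, 115, false), (1, 108, false), (2, 97, false), (3, 90, false), (4, 73, false), (0, 14, false), (1, 116, false), (2, 109, false), (3, 98, false), (4, 91, false), (5, 74, false), (6, 38,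 false), (1, 12, false), (2, 114, false), (3, 107, false), (4, 96, false), (5, 89, false), (6, 72, false), (0, 118, false), (1, 116, false), (2, 109, false), (3, 98, false), (4, 91, false), (5, 74, false), (6, 39, false)]),
    ([6, 6], [], [(3, 72, true), (2, 96, true), (1, 107, true), (0, 12, true), (2, 69, true), (1, 93, true), (0, 9, true), (1, 67, true), (0, 7, true), (0, 4, true)], [(5, 73, true), (4, 97, true), (3, 103, true), (2, 112, true), (1, 117, true), (0, 13, true), (4, 72, true), (3, 96, true), (2, 102, true), (1, 111, true), (0, 12, true), (3, 70, true), (2, 94, true), (1, 100, true), (0, 10, true), (2, 68, true), (1, 92, true), (0, 8, true), (1, 67, true), (0, 7, true), (0, 4, true)]),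
    ([7, 7], [], [(5, 28, true), (4, 41, true), (3, 83, true), (2, 113, true), (1, 119, true), (0, 14, true), (4, 27, true), (3, 41, true), (2, 83, true), (1, 113, true), (0, 119, true), (4, 40, true), (3, 82, true), (2, 112, true), (1, 13, true), (4, 24, true), (3, 37, true), (2, 79, true), (1, 113, true), (0, 14, true), (0, 10, true), (2, 19, true), (1, 32, true), (0, 5, true), (1, 15, true), (0, 1, true), (0, 0, true)], [(5, 41, true), (4, 91, true), (3, 109, true), (2, 113, true), (1, 118, true), (0, 14, true), (4, 39, true), (3, 91, true), (2, 109, true), (1, 113, true), (0, 118, true), (4, 89, true), (3, 107, true), (2, 111, true), (1, 12, true), (4, 37, true), (3, 87, true), (2, 105, true), (1, 10, true), (3, 36, true), (2, 86, true), (1, 109, true), (0, 14, true), (0, 9, true), (1, 33, true), (0, 6, true), (0, 1, true)]),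
    ([8, 8], [], [(5, 73, true), (4, 97, true), (3, 103, true), (2, 108, true), (1, 112, true), (0, 13, true), (4, 70, true), (3, 94, true), (2, 100, true), (1, 105, true), (0, 10, true), (3, 69, true), (2, 93, true), (1, 99, true), (0, 9, true), (2, 68, true), (1, 92, true), (0, 8, true), (1, 67, true), (0, 7, true), (0, 4, true)], [(3, 72, true), (2, 102, true), (1, 107, true), (0, 12, true), (2, 69, true), (1, 99, true), (0, 9, true), (1, 68, true), (0, 8, true), (0, 4, true)]),
    ([11, 11], [], [(7, 27, true), (6, 74, true), (5, 91, true), (4, 104, true), (3, 109, true), (2, 113, true), (1, 116, true), (0, 119, true), (7, 73, true), (6, 90, true), (5, 103, true), (4, 108, true), (3, 112, true), (2, 115, true), (1, 13, true), (7, 25, true), (6, 74, true), (5, 91, true), (4, 104, true), (3, 109, true), (2, 113, true), (1, 116, true), (0, 14, true), (5, 72, true), (4, 89, true), (3, 102, true), (2, 107, true), (1, 111, true), (0, 114, true), (6, 71, true), (5, 88, true), (4, 101, true), (3, 106, true), (2, 110, true), (1, 11, true), (6, 24, true), (5, 70, true), (4, 87, true), (3, 100, true), (2, 105, true),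 (1, 10, true), (5, 23, true), (4, 69, true), (3, 86, true), (2, 104, true), (1, 109, true), (0, 118, true), (3, 99, true), (2, 9, true), (5, 22, true), (4, 70, true), (3, 87, true), (2, 100, true), (5, 68, true), (4, 85, true), (3, 102, true), (2, 111, true), (1, 12, true), (2, 8, true), (4, 20, true), (3, 66, true), (2, 91, true), (1, 113, true), (0, 14, true), (1, 87, true), (0, 10, true), (0, 6, true), (1, 18, true), (0, 4, true), (0, 0, true)], [(8, 26, true), (7, 39, true), (6, 74, true), (5, 83, true), (4, 91, true), (3, 98, true), (2, 109, true), (1, 116, true), (0, 118, true), (7, 72, true), (6, 81, true), (5, 89, true), (4, 96, true), (3, 107, true), (2, 114, true), (1, 12, true), (8, 25, true), (7, 41, true), (6, 74, true), (5, 83, true), (4, 91, true), (3, 98, true), (2, 109, true), (1, 116, true), (0, 14, true), (6, 39, true), (5, 74, true), (4, 83, true), (3, 91, true), (2, 98, true), (1, 109, true), (0, 116, true), (6, 72, true), (5, 81, true), (4, 89, true), (3, 96, true), (2, 107, true), (1, 114, true), (8, 38, true), (7, 74, true), (6, 83, true), (5, 91, true), (4, 98, true), (3, 109, true), (2,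 116, true), (1, 118, true), (0, 14, true), (6, 73, true), (5, 82, true), (4, 90, true), (3, 97, true), (2, 108, true), (1, 115, true), (0, 117, true), (7, 71, true), (6, 80, true), (5, 88, true), (4, 95, true), (3, 106, true), (2, 11, true), (8, 23, true), (7, 36, true), (6, 69, true), (5, 78, true), (4, 86, true), (3, 98, true), (2, 109, true), (1, 118, true), (0, 119, true), (4, 93, true), (3, 9, true), (8, 21, true), (7, 36, true), (6, 69, true), (5, 78, true), (4, 86, true), (3, 98, true), (2, 118, true), (1, 119, true), (0, 14, true), (2, 93, true), (7, 34, true), (6, 70, true), (5, 79, true), (4, 91, true), (3, 98, true), (2, 109, true), (1, 118, true), (0, 119, true), (5, 87, true), (4, 94, true), (3, 105, true), (8, 67, true), (7, 76, true), (6, 89, true), (5, 96, true), (4, 107, true), (3, 111, true), (2, 12, true), (5, 84, true), (4, 97, true), (3, 108, true), (2, 112, true), (1, 13, true), (3, 7, true), (7, 20, true), (6, 33, true), (5, 66, true), (4, 83, true), (3, 91, true), (2, 109, true), (1, 113, true), (0, 14, true), (3, 79, true), (2, 91, true), (1, 109, true), (0, 113, true), (3, 87, true), (2,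 105, true), (1, 10, true), (3, 75, true), (2, 6, true), (5, 19, true), (4, 32, true), (3, 65, true), (2, 83, true), (1, 109, true), (0, 14, true), (1, 78, true), (0, 9, true), (0, 5, true), (2, 18, true), (1, 31, true), (0, 4, true), (1, 15, true), (0, 1, true), (0, 0, true)]),
    ([0, 2], [13, 12, 11, 10, 9, 8, 6, 5, 3, 2, 0], [(11, 28, true), (10, 53, true), (9, 83, true), (8, 91, true), (7, 98, true), (6, 104, true), (5, 109, true), (4, 113, true), (3, 116, true), (2, 118, true), (1, 119, true), (0, 14, true), (10, 26, true), (9, 51, true), (8, 81, true), (7, 89, true), (6, 96, true), (5, 102, true), (4, 107, true), (3, 111, true), (2, 114, true), (1, 12, true), (9, 25, true), (8, 53, true), (7, 83, true), (6, 91, true), (5, 98, true), (4, 104, true), (3, 109, true), (2, 113, true), (1, 116, true), (0, 119, true), (9, 51, true), (8, 81, true), (7, 89, true), (6, 96, true), (5, 102, true), (4, 107, true), (3, 111, true), (2, 114, true), (10, 50, true), (9, 80, true), (8, 88, true), (7, 95, true), (6, 101, true), (5, 106, true), (4, 110, true), (3, 11, true), (10, 24, true), (9, 49, true), (8, 82, true), (7, 90,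 true), (6, 97, true), (5, 103, true), (4, 108, true), (3, 112, true), (2, 117, true), (1, 13, true), (7, 79, true), (6, 91, true), (5, 98, true), (4, 104, true), (3, 109, true), (2, 113, true), (1, 118, true), (0, 14, true), (5, 87, true), (4, 94, true), (3, 100, true), (2, 105, true), (1, 10, true), (7, 22, true), (6, 49, true), (5, 82, true), (4, 90, true), (3, 97, true), (2, 103, true), (1, 108, true), (0, 117, true), (6, 79, true), (5, 91, true), (4, 98, true), (3, 104, true), (2, 109, true), (1, 118, true), (0, 119, true), (6, 87, true), (5, 94, true), (4, 100, true), (3, 105, true), (9, 47, true), (8, 80, true), (7, 88, true), (6, 95, true), (5, 101, true), (4, 106, true), (3, 110, true), (9, 77, true), (8, 90, true), (7, 97, true), (6, 103, true), (5, 108, true), (4, 112, true), (3, 115, true), (2, 117, true), (1, 13, true), (7, 89, true), (6, 96, true), (5, 102, true), (4, 107, true), (3, 111, true), (2, 114, true), (1, 12, true), (6, 85, true), (5, 96, true), (4, 102, true), (3, 107, true), (2, 111, true), (1, 114, true), (6, 92, true), (5, 8, true), (9, 20, true), (8, 45, true), (7, 75, true), (6, 6, true),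 (8, 19, true), (7, 44, true), (6, 5, true), (7, 18, true), (6, 43, true), (5, 95, true), (4, 106, true), (3, 110, true), (2, 11, true), (4, 7, true), (6, 0, true), (6, 0, false), (4, 5, false), (3, 78, false), (0, 118, false), (1, 113, false), (2, 83, false), (3, 65, false), (4, 16, false), (2, 9, false), (0, 14, false), (1, 118, false), (2, 113, false), (3, 109, false), (4, 65, false), (5, 19, false), (4, 6, false), (2, 105, false), (3, 87, false), (0, 118, false), (1, 109, false), (2, 91, false), (3, 66, false), (4, 20, false), (2, 7, false), (0, 13, false), (1, 117, false), (2, 108, false), (3, 97, false), (4, 84, false), (5, 67, false), (2, 93, false), (0, 14, false), (1, 119, false), (2, 118, false), (3, 98, false), (4, 86, false), (5, 69, false), (6, 21, false), (3, 8, false), (4, 92, false), (2, 102, false), (3, 96, false), (4, 85, false), (5, 68, false), (2, 10, false), (3, 100, false), (4, 94, false), (5, 87, false), (6, 70, false), (7, 22, false), (3, 9, false), (4, 99, false), (5, 93, false), (0, 119, false), (1, 113, false), (2, 109, false), (3, 104, false), (4, 98, false), (5, 86, false), (6, 69, false),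 (7, 23, false), (1, 105, false), (2, 100, false), (3, 94, false), (4, 87, false), (5, 70, false), (6, 24, false), (1, 11, false), (2, 106, false), (3, 101, false), (4, 95, false), (5, 88, false), (6, 71, false), (1, 12, false), (2, 114, false), (3, 107, false), (4, 102, false), (5, 96, false), (6, 89, false), (7, 72, false), (0, 14, false), (1, 119, false), (2, 118, false), (3, 116, false), (4, 109, false), (5, 104, false), (6, 98, false), (7, 91, false), (8, 74, false), (9, 25, false), (2, 114, false), (3, 107, false), (4, 102, false), (5, 96, false), (6, 89, false), (7, 72, false), (8, 26, false), (1, 115, false), (2, 108, false), (3, 103, false), (4, 97, false), (5, 90, false), (6, 73, false), (0, 116, false), (1, 109, false), (2, 104, false), (3, 98, false), (4, 91, false), (5, 74, false), (6, 27, false), (0, 14, false), (1, 116, false), (2, 109, false), (3, 104, false), (4, 98, false), (5, 91, false), (6, 74, false), (7, 28, false), (6, 5, false), (5, 75, false), (3, 92, false), (1, 12, false), (2, 114, false), (3, 107, false), (4, 96, false), (1, 13, false), (2, 117, false), (3, 115, false), (4, 108, false),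 (5, 97, false), (6, 77, false), (4, 10, false), (5, 105, false), (6, 94, false), (0, 119, false), (1, 118, false), (2, 116, false), (3, 113, false), (4, 109, false), (5, 98, false), (6, 79, false), (2, 110, false), (3, 106, false), (4, 95, false), (5, 80, false), (1, 111, false), (2, 107, false), (3, 96, false), (4, 81, false), (0, 14, false), (1, 119, false), (2, 113, false), (3, 109, false), (4, 98, false), (5, 83, false), (6, 0, false), (6, 1, false), (7, 15, false), (2, 12, false), (3, 111, false), (4, 107, false), (5, 76, false), (3, 105, false), (0, 119, false), (1, 118, false), (2, 109, false), (3, 79, false), (4, 34, false), (2, 78, false), (3, 36, false), (4, 21, false), (2, 9, false), (3, 78, false), (4, 36, false), (5, 23, false), (0, 14, false), (1, 119, false), (2, 118, false), (3, 109, false), (4, 83, false), (5, 41, false), (6, 28, false), (5, 15, false), (4, 19, false), (4, 6, false), (5, 20, false), (4, 7, false), (1, 117, false), (2, 108, false), (3, 97, false), (4, 84, false), (2, 93, false), (0, 118, false), (1, 98, false), (2, 86, false), (3, 21, false), (1, 11, false), (2, 95, false), (3, 88,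 false), (0, 114, false), (1, 96, false), (2, 89, false), (0, 14, false), (1, 116, false), (2, 98, false), (3, 91, false), (4, 25, false), (1, 12, false), (2, 114, false), (3, 96, false), (4, 89, false), (5, 26, false), (1, 13, false), (2, 117, false), (3, 115, false), (4, 97, false), (5, 90, false), (0, 119, false), (1, 118, false), (2, 116, false), (3, 98, false), (4, 91, false), (5, 27, false), (0, 14, false), (1, 119, false), (2, 118, false), (3, 116, false), (4, 98, false), (5, 91, false), (6, 28, false), (6, 4, false), (7, 18, false), (1, 117, false), (2, 115, false), (3, 84, false), (4, 67, false), (3, 9, false), (0, 118, false), (1, 116, false), (2, 109, false), (3, 86, false), (4, 69, false), (5, 21, false), (0, 14, false), (1, 118, false), (2, 116, false), (3, 86, false), (4, 69, false), (5, 23, false), (1, 114, false), (2, 89, false), (3, 72, false), (4, 26, false), (3, 18, false), (2, 7, false), (1, 13, false), (2, 115, false), (3, 97, false), (4, 84, false), (3, 9, false), (4, 93, false), (0, 119, false), (1, 116, false), (2, 109, false), (3, 98, false), (4, 86, false), (5, 21, false), (3, 8, false),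 (4, 92, false), (1, 12, false), (2, 114, false), (3, 107, false), (4, 102, false), (5, 96, false), (6, 85, false), (3, 10, false), (4, 105, false), (5, 100, false), (6, 94, false), (7, 87, false), (8, 22, false), (4, 99, false), (5, 93, false), (0, 14, false), (1, 119, false), (2, 118, false), (3, 116, false), (4, 113, false), (5, 104, false), (6, 98, false), (7, 86, false), (8, 23, false), (4, 100, false), (5, 94, false), (6, 87, false), (7, 24, false), (1, 117, false), (2, 115, false), (3, 103, false), (4, 97, false), (5, 90, false), (0, 118, false), (1, 116, false), (2, 104, false), (3, 98, false), (4, 91, false), (5, 27, false), (5, 4, false), (6, 18, false), (0, 13, false), (1, 117, false), (2, 115, false), (3, 103, false), (4, 84, false), (5, 67, false), (3, 9, false), (4, 99, false), (0, 14, false), (1, 119, false), (2, 118, false), (3, 116, false), (4, 109, false), (5, 104, false), (6, 86, false), (7, 69, false), (8, 21, false), (4, 99, false), (0, 119, false), (1, 118, false), (2, 116, false), (3, 104, false), (4, 86, false), (5, 69, false), (6, 23, false), (3, 10, false), (4, 100, false), (5, 87, false),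 (6, 70, false), (7, 24, false), (0, 117, false), (1, 115, false), (2, 112, false), (3, 103, false), (4, 90, false), (5, 73, false), (0, 14, false), (1, 118, false), (2, 116, false), (3, 113, false), (4, 104, false), (5, 91, false), (6, 74, false), (7, 27, false), (0, 118, false), (1, 116, false), (2, 113, false), (3, 104, false), (4, 91, false), (5, 74, false), (6, 28, false), (2, 100, false), (0, 14, false), (1, 118, false), (2, 116, false), (3, 104, false), (4, 66, false), (3, 9, false), (4, 99, false), (5, 69, false), (3, 10, false), (4, 105, false), (5, 100, false), (6, 70, false), (1, 114, false), (2, 111, false), (3, 107, false), (4, 102, false), (5, 72, false), (1, 13, false), (2, 115, false), (3, 112, false), (4, 108, false), (5, 103, false), (6, 73, false), (7, 0, false), (6, 18, false), (6, 6, false), (7, 20, false), (2, 12, false), (3, 114, false), (4, 111, false), (5, 107, false), (6, 85, false), (4, 105, false), (5, 87, false), (6, 22, false), (0, 119, false), (1, 118, false), (2, 116, false), (3, 86, false), (4, 23, false), (3, 10, false), (4, 87, false), (5, 24, false), (2, 110, false), (3, 88, false),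 (1, 111, false), (2, 89, false), (0, 14, false), (1, 119, false), (2, 113, false), (3, 91, false), (4, 25, false), (1, 112, false), (2, 90, false), (0, 113, false), (1, 91, false), (2, 27, false), (0, 87, false), (1, 24, false), (0, 12, false), (1, 89, false), (2, 26, false)], [(9, 28, true), (8, 41, true), (7, 53, true), (6, 64, true), (5, 83, true), (4, 104, true), (3, 109, true), (2, 116, true), (1, 119, true), (0, 14, true), (8, 27, true), (7, 41, true), (6, 53, true), (5, 64, true), (4, 83, true), (3, 104, true), (2, 109, true), (1, 116, true), (0, 119, true), (8, 40, true), (7, 52, true), (6, 63, true), (5, 82, true), (4, 103, true), (3, 108, true), (2, 115, true), (1, 13, true), (8, 26, true), (7, 39, true), (6, 53, true), (5, 64, true), (4, 83, true), (3, 104, true), (2, 109, true), (1, 116, true), (0, 14, true), (5, 51, true), (4, 62, true), (3, 81, true), (2, 102, true), (1, 107, true), (0, 114, true), (8, 25, true), (7, 41, true), (6, 53, true), (5, 64, true), (4, 83, true), (3, 104, true), (2, 109, true), (1, 116, true), (0, 118, true), (8, 39, true), (7, 53, true), (6, 64, true), (5, 83, true), (4,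 104, true), (3, 109, true), (2, 116, true), (1, 118, true), (0, 14, true), (6, 51, true), (5, 62, true), (4, 81, true), (3, 102, true), (2, 107, true), (1, 114, true), (0, 12, true), (6, 38, true), (5, 53, true), (4, 64, true), (3, 83, true), (2, 104, true), (1, 109, true), (0, 116, true), (6, 52, true), (5, 63, true), (4, 82, true), (3, 103, true), (2, 108, true), (1, 115, true), (7, 50, true), (6, 61, true), (5, 80, true), (4, 101, true), (3, 106, true), (2, 11, true), (8, 24, true), (7, 37, true), (6, 49, true), (5, 63, true), (4, 82, true), (3, 103, true), (2, 108, true), (1, 13, true), (4, 60, true), (3, 81, true), (2, 102, true), (1, 107, true), (4, 79, true), (3, 104, true), (2, 109, true), (1, 118, true), (0, 14, true), (2, 100, true), (1, 105, true), (8, 23, true), (7, 36, true), (6, 48, true), (5, 62, true), (4, 81, true), (3, 102, true), (2, 107, true), (1, 111, true), (0, 12, true), (4, 59, true), (3, 82, true), (2, 103, true), (1, 108, true), (0, 112, true), (4, 81, true), (3, 102, true), (2, 107, true), (1, 111, true), (5, 78, true), (4, 99, true), (3, 9, true), (8, 21, true), (7, 36, true), (6, 48,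 true), (5, 62, true), (4, 81, true), (3, 102, true), (2, 111, true), (1, 12, true), (4, 59, true), (3, 82, true), (2, 103, true), (1, 112, true), (0, 13, true), (2, 81, true), (1, 102, true), (0, 111, true), (3, 78, true), (2, 99, true), (7, 34, true), (6, 49, true), (5, 63, true), (4, 82, true), (3, 103, true), (2, 108, true), (1, 112, true), (0, 117, true), (6, 60, true), (5, 81, true), (4, 102, true), (3, 107, true), (2, 111, true), (1, 12, true), (4, 79, true), (3, 104, true), (2, 109, true), (1, 113, true), (0, 119, true), (4, 100, true), (3, 105, true), (2, 10, true), (6, 46, true), (5, 57, true), (4, 80, true), (3, 101, true), (2, 106, true), (5, 76, true), (4, 102, true), (3, 107, true), (2, 114, true), (11, 19, true), (10, 32, true), (9, 44, true), (8, 55, true), (7, 5, true), (10, 18, true), (9, 31, true), (8, 43, true), (7, 61, true), (6, 95, true), (5, 101, true), (4, 106, true), (3, 11, true), (6, 57, true), (5, 95, true), (4, 101, true), (3, 106, true), (6, 7, true), (6, 54, true), (5, 101, true), (4, 106, true), (3, 11, true), (4, 8, true), (8, 15, true), (7, 1, true), (7, 0, true), (7, 0, false),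 (7, 1, false), (8, 15, false), (4, 6, false), (3, 10, false), (4, 105, false), (5, 87, false), (0, 119, false), (1, 118, false), (2, 113, false), (3, 109, false), (4, 91, false), (5, 66, false), (6, 56, false), (7, 29, false), (5, 5, false), (0, 14, false), (1, 119, false), (2, 118, false), (3, 113, false), (4, 86, false), (5, 78, false), (0, 119, false), (1, 118, false), (2, 113, false), (3, 91, false), (4, 83, false), (5, 65, false), (6, 55, false), (7, 32, false), (8, 16, false), (3, 9, false), (0, 14, false), (1, 119, false), (2, 118, false), (3, 113, false), (4, 109, false), (5, 86, false), (0, 119, false), (1, 118, false), (2, 113, false), (3, 109, false), (4, 91, false), (5, 65, false), (2, 105, false), (0, 14, false), (1, 119, false), (2, 118, false), (3, 109, false), (4, 66, false), (5, 30, false), (4, 6, false), (3, 10, false), (4, 105, false), (5, 87, false), (0, 119, false), (1, 118, false), (2, 113, false), (3, 109, false), (4, 91, false), (5, 66, false), (6, 33, false), (7, 17, false), (5, 5, false), (0, 14, false), (1, 119, false), (2, 118, false), (3, 113, false), (4, 86, false), (5, 78, false),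 (0, 119, false), (1, 118, false), (2, 113, false), (3, 91, false), (4, 83, false), (5, 65, false), (6, 32, false), (7, 19, false), (3, 8, false), (1, 111, false), (2, 102, false), (3, 85, false), (1, 12, false), (2, 111, false), (3, 102, false), (4, 89, false), (0, 117, false), (1, 112, false), (2, 103, false), (3, 90, false), (4, 77, false), (5, 68, false), (2, 9, false), (3, 99, false), (0, 14, false), (1, 118, false), (2, 113, false), (3, 109, false), (4, 104, false), (5, 86, false), (6, 78, false), (7, 69, false), (2, 105, false), (3, 100, false), (4, 87, false), (0, 118, false), (1, 109, false), (2, 104, false), (3, 91, false), (4, 79, false), (5, 70, false), (6, 35, false), (1, 10, false), (2, 105, false), (3, 100, false), (4, 87, false), (0, 14, false), (1, 118, false), (2, 113, false), (3, 109, false), (4, 104, false), (5, 91, false), (6, 79, false), (7, 70, false), (8, 37, false), (9, 22, false), (3, 99, false), (0, 118, false), (1, 113, false), (2, 104, false), (3, 86, false), (4, 78, false), (5, 69, false), (6, 36, false), (7, 23, false), (1, 11, false), (2, 110, false), (3, 101, false), (4, 88, false),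 (5, 80, false), (6, 71, false), (0, 13, false), (1, 117, false), (2, 115, false), (3, 112, false), (4, 103, false), (5, 90, false), (6, 82, false), (7, 73, false), (0, 14, false), (1, 119, false), (2, 118, false), (3, 116, false), (4, 113, false), (5, 104, false), (6, 91, false), (7, 83, false), (8, 74, false), (9, 38, false), (2, 114, false), (3, 111, false), (4, 102, false), (5, 89, false), (6, 81, false), (7, 72, false), (0, 119, false), (1, 116, false), (2, 113, false), (3, 104, false), (4, 91, false), (5, 83, false), (6, 74, false), (7, 39, false), (0, 14, false), (1, 119, false), (2, 116, false), (3, 113, false), (4, 104, false), (5, 91, false), (6, 83, false), (7, 74, false), (8, 41, false), (9, 25, false), (1, 115, false), (2, 112, false), (3, 103, false), (4, 90, false), (5, 82, false), (6, 73, false), (7, 40, false), (0, 116, false), (1, 113, false), (2, 104, false), (3, 91, false), (4, 83, false), (5, 74, false), (6, 41, false), (7, 27, false), (0, 14, false), (1, 116, false), (2, 113, false), (3, 104, false), (4, 91, false), (5, 83, false), (6, 74, false), (7, 41, false), (8, 28, false), (4, 7, false),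 (1, 13, false), (2, 115, false), (3, 112, false), (4, 103, false), (5, 97, false), (6, 84, false), (4, 9, false), (5, 99, false), (6, 93, false), (0, 119, false), (1, 116, false), (2, 113, false), (3, 109, false), (4, 104, false), (5, 98, false), (6, 86, false), (2, 105, false), (3, 100, false), (4, 94, false), (5, 87, false), (1, 106, false), (2, 101, false), (3, 95, false), (4, 88, false), (1, 12, false), (2, 107, false), (3, 102, false), (4, 96, false), (5, 89, false), (0, 117, false), (1, 108, false), (2, 103, false), (3, 97, false), (4, 90, false), (0, 14, false), (1, 118, false), (2, 109, false), (3, 104, false), (4, 98, false), (5, 91, false), (6, 1, false), (1, 13, false), (2, 117, false), (3, 108, false), (4, 103, false), (5, 84, false), (3, 10, false), (4, 105, false), (5, 100, false), (6, 87, false), (7, 34, false), (2, 111, false), (3, 107, false), (4, 85, false), (0, 119, false), (1, 113, false), (2, 86, false), (1, 87, false), (2, 35, false), (1, 10, false), (2, 87, false), (3, 37, false), (0, 14, false), (1, 119, false), (2, 113, false), (3, 91, false), (4, 41, false), (5, 0, false), (4, 5, false),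 (5, 32, false), (6, 19, false), (3, 7, false), (1, 112, false), (2, 97, false), (3, 84, false), (1, 12, false), (2, 111, false), (3, 96, false), (4, 89, false), (5, 76, false), (2, 94, false), (3, 87, false), (0, 118, false), (1, 98, false), (2, 91, false), (3, 79, false), (4, 34, false), (1, 9, false), (2, 93, false), (0, 14, false), (1, 118, false), (2, 109, false), (3, 98, false), (4, 86, false), (5, 78, false), (6, 36, false), (7, 21, false), (3, 8, false), (4, 92, false), (1, 107, false), (2, 102, false), (3, 96, false), (4, 85, false), (1, 12, false), (2, 107, false), (3, 102, false), (4, 96, false), (5, 89, false), (1, 13, false), (2, 117, false), (3, 108, false), (4, 103, false), (5, 97, false), (6, 90, false), (7, 77, false), (3, 99, false), (4, 93, false), (0, 119, false), (1, 118, false), (2, 104, false), (3, 98, false), (4, 86, false), (5, 78, false), (2, 10, false), (3, 100, false), (4, 94, false), (5, 87, false), (0, 14, false), (1, 119, false), (2, 118, false), (3, 113, false), (4, 104, false), (5, 98, false), (6, 91, false), (7, 79, false), (8, 35, false), (3, 100, false), (4, 94, false), (5, 87,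 false), (0, 119, false), (1, 118, false), (2, 104, false), (3, 98, false), (4, 91, false), (5, 79, false), (6, 37, false), (7, 22, false), (2, 11, false), (3, 101, false), (4, 95, false), (5, 88, false), (6, 80, false), (0, 117, false), (1, 115, false), (2, 103, false), (3, 97, false), (4, 90, false), (5, 82, false), (0, 14, false), (1, 118, false), (2, 116, false), (3, 104, false), (4, 98, false), (5, 91, false), (6, 83, false), (7, 38, false), (1, 114, false), (2, 102, false), (3, 96, false), (4, 89, false), (5, 81, false), (0, 116, false), (1, 104, false), (2, 98, false), (3, 91, false), (4, 83, false), (5, 39, false), (0, 14, false), (1, 116, false), (2, 104, false), (3, 98, false), (4, 91, false), (5, 83, false), (6, 41, false), (7, 25, false), (1, 13, false), (2, 115, false), (3, 103, false), (4, 97, false), (5, 90, false), (6, 82, false), (7, 40, false), (0, 119, false), (1, 116, false), (2, 104, false), (3, 98, false), (4, 91, false), (5, 83, false), (6, 41, false), (7, 27, false), (0, 14, false), (1, 119, false), (2, 116, false), (3, 104, false), (4, 98, false), (5, 91, false), (6, 83, false), (7, 41, false),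 (8, 28, false), (7, 4, false), (8, 31, false), (9, 18, false), (1, 115, false), (2, 103, false), (3, 84, false), (1, 12, false), (2, 114, false), (3, 102, false), (4, 89, false), (5, 76, false), (6, 67, false), (3, 10, false), (4, 100, false), (5, 87, false), (0, 118, false), (1, 116, false), (2, 113, false), (3, 104, false), (4, 91, false), (5, 79, false), (6, 70, false), (7, 34, false), (3, 9, false), (4, 99, false), (0, 14, false), (1, 118, false), (2, 116, false), (3, 113, false), (4, 109, false), (5, 104, false), (6, 86, false), (7, 78, false), (8, 69, false), (9, 36, false), (10, 21, false), (1, 114, false), (2, 111, false), (3, 107, false), (4, 85, false), (1, 12, false), (2, 114, false), (3, 111, false), (4, 107, false), (5, 89, false), (1, 13, false), (2, 117, false), (3, 115, false), (4, 112, false), (5, 108, false), (6, 90, false), (7, 77, false), (8, 68, false), (0, 119, false), (1, 118, false), (2, 116, false), (3, 113, false), (4, 86, false), (5, 78, false), (6, 69, false), (3, 87, false), (0, 14, false), (1, 119, false), (2, 118, false), (3, 116, false), (4, 91, false), (5, 79, false), (6, 70, false),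 (7, 35, false), (4, 10, false), (5, 87, false), (0, 119, false), (1, 118, false), (2, 116, false), (3, 113, false), (4, 91, false), (5, 79, false), (6, 70, false), (7, 37, false), (8, 22, false), (3, 87, false), (0, 14, false), (1, 119, false), (2, 118, false), (3, 116, false), (4, 91, false), (5, 79, false), (6, 70, false), (7, 37, false), (8, 24, false), (2, 114, false), (3, 89, false), (4, 81, false), (5, 72, false), (0, 119, false), (1, 116, false), (2, 91, false), (3, 83, false), (4, 74, false), (5, 39, false), (6, 26, false), (0, 115, false), (1, 90, false), (2, 82, false), (3, 73, false), (4, 40, false), (0, 14, false), (1, 116, false), (2, 91, false), (3, 83, false), (4, 74, false), (5, 41, false), (6, 27, false), (4, 31, false), (5, 18, false), (2, 8, false), (1, 12, false), (2, 114, false), (3, 102, false), (4, 85, false), (1, 114, false), (2, 102, false), (3, 89, false), (1, 13, false), (2, 115, false), (3, 103, false), (4, 90, false), (5, 77, false), (3, 9, false), (4, 99, false), (0, 119, false), (1, 116, false), (2, 109, false), (3, 104, false), (4, 86, false), (5, 78, false), (2, 10, false), (3, 105,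 false), (4, 100, false), (5, 87, false), (0, 14, false), (1, 119, false), (2, 116, false), (3, 113, false), (4, 109, false), (5, 104, false), (6, 91, false), (7, 79, false), (8, 35, false), (3, 105, false), (4, 100, false), (5, 87, false), (0, 119, false), (1, 116, false), (2, 109, false), (3, 104, false), (4, 91, false), (5, 79, false), (6, 37, false), (7, 22, false), (2, 99, false), (0, 14, false), (1, 119, false), (2, 116, false), (3, 104, false), (4, 86, false), (5, 78, false), (6, 36, false), (7, 23, false), (2, 12, false), (3, 114, false), (4, 102, false), (5, 89, false), (6, 81, false), (0, 119, false), (1, 118, false), (2, 116, false), (3, 104, false), (4, 91, false), (5, 83, false), (6, 39, false), (7, 26, false), (6, 4, false), (7, 31, false), (8, 18, false), (4, 7, false), (0, 117, false), (1, 115, false), (2, 103, false), (3, 97, false), (4, 84, false), (0, 114, false), (1, 102, false), (2, 96, false), (3, 89, false), (4, 76, false), (5, 67, false), (1, 10, false), (2, 100, false), (3, 94, false), (4, 87, false), (0, 14, false), (1, 116, false), (2, 113, false), (3, 104, false), (4, 98, false), (5, 91,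 false), (6, 79, false), (7, 70, false), (8, 34, false), (3, 9, false), (4, 99, false), (5, 93, false), (0, 116, false), (1, 113, false), (2, 109, false), (3, 104, false), (4, 98, false), (5, 86, false), (6, 78, false), (7, 69, false), (8, 36, false), (9, 21, false), (3, 92, false), (0, 12, false), (1, 114, false), (2, 111, false), (3, 107, false), (4, 96, false), (5, 85, false), (0, 114, false), (1, 111, false), (2, 107, false), (3, 96, false), (4, 89, false), (0, 13, false), (1, 115, false), (2, 112, false), (3, 108, false), (4, 97, false), (5, 90, false), (6, 77, false), (7, 68, false), (3, 93, false), (0, 14, false), (1, 119, false), (2, 116, false), (3, 113, false), (4, 98, false), (5, 86, false), (6, 78, false), (7, 69, false), (3, 94, false), (4, 87, false), (0, 119, false), (1, 116, false), (2, 98, false), (3, 91, false), (4, 79, false), (5, 70, false), (6, 35, false), (2, 10, false), (3, 94, false), (4, 87, false), (0, 14, false), (1, 119, false), (2, 116, false), (3, 113, false), (4, 98, false), (5, 91, false), (6, 79, false), (7, 70, false), (8, 37, false), (9, 22, false), (4, 9, false), (5, 93, false),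 (0, 119, false), (1, 116, false), (2, 113, false), (3, 109, false), (4, 98, false), (5, 86, false), (6, 78, false), (7, 69, false), (8, 36, false), (9, 23, false), (1, 12, false), (2, 114, false), (3, 111, false), (4, 107, false), (5, 96, false), (6, 89, false), (7, 81, false), (8, 72, false), (0, 14, false), (1, 119, false), (2, 118, false), (3, 116, false), (4, 113, false), (5, 109, false), (6, 98, false), (7, 91, false), (8, 83, false), (9, 74, false), (10, 39, false), (11, 26, false), (0, 119, false), (1, 118, false), (2, 116, false), (3, 113, false), (4, 109, false), (5, 98, false), (6, 91, false), (7, 83, false), (8, 74, false), (9, 41, false), (10, 28, false), (4, 93, false), (0, 14, false), (1, 119, false), (2, 118, false), (3, 116, false), (4, 113, false), (5, 98, false), (6, 86, false), (0, 119, false), (1, 118, false), (2, 116, false), (3, 113, false), (4, 98, false), (5, 91, false), (6, 65, false), (3, 94, false), (0, 14, false), (1, 119, false), (2, 118, false), (3, 116, false), (4, 98, false), (5, 66, false), (4, 9, false), (5, 93, false), (6, 69, false), (1, 117, false), (2, 115, false), (3, 108,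 false), (4, 97, false), (5, 73, false), (6, 0, false), (6, 1, false), (7, 15, false), (5, 31, false), (6, 18, false), (5, 5, false), (6, 32, false), (7, 19, false), (5, 6, false), (6, 75, false), (7, 33, false), (8, 20, false), (1, 13, false), (2, 117, false), (3, 115, false), (4, 108, false), (5, 84, false), (2, 114, false), (3, 107, false), (4, 89, false), (5, 76, false), (3, 10, false), (4, 105, false), (5, 87, false), (0, 119, false), (1, 116, false), (2, 113, false), (3, 109, false), (4, 91, false), (5, 79, false), (6, 34, false), (0, 14, false), (1, 119, false), (2, 116, false), (3, 113, false), (4, 86, false), (5, 78, false), (6, 36, false), (7, 21, false), (4, 9, false), (0, 119, false), (1, 116, false), (2, 113, false), (3, 109, false), (4, 86, false), (5, 78, false), (6, 36, false), (7, 23, false), (1, 110, false), (2, 106, false), (3, 88, false), (4, 80, false), (0, 112, false), (1, 108, false), (2, 90, false), (3, 82, false), (0, 14, false), (1, 113, false), (2, 109, false), (3, 91, false), (4, 83, false), (5, 38, false), (1, 12, false), (2, 111, false), (3, 107, false), (4, 89, false), (5, 81, false),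 (0, 118, false), (1, 113, false), (2, 109, false), (3, 91, false), (4, 83, false), (5, 39, false), (0, 14, false), (1, 118, false), (2, 113, false), (3, 109, false), (4, 91, false), (5, 83, false), (6, 41, false), (7, 25, false), (1, 111, false), (2, 107, false), (3, 89, false), (4, 81, false), (0, 113, false), (1, 109, false), (2, 91, false), (3, 83, false), (4, 39, false), (5, 26, false), (0, 14, false), (1, 113, false), (2, 86, false), (3, 78, false), (4, 36, false), (5, 23, false), (1, 87, false), (0, 91, false), (1, 79, false), (2, 37, false), (3, 24, false), (0, 12, false), (1, 89, false), (2, 81, false), (0, 14, false), (1, 118, false), (2, 91, false), (3, 83, false), (4, 39, false), (5, 26, false), (1, 13, false), (2, 117, false), (3, 90, false), (4, 82, false), (5, 40, false), (0, 119, false), (1, 118, false), (2, 91, false), (3, 83, false), (4, 41, false), (5, 27, false)]),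
    ([0, 3], [14, 13, 9, 6, 5, 4, 0], [(11, 28, true), (10, 53, true), (9, 83, true), (8, 91, true), (7, 98, true), (6, 104, true), (5, 109, true), (4, 113, true), (3, 116, true), (2, 118, true), (1, 119, true), (0, 14, true), (10, 23, true), (9, 48, true), (8, 81, true), (7, 89, true), (6, 96, true), (5, 102, true), (4, 107, true), (3, 111, true), (2, 114, true), (1, 12, true), (7, 78, true), (6, 86, true), (5, 98, true), (4, 104, true), (3, 109, true), (2, 113, true), (1, 116, true), (0, 119, true), (6, 93, true), (5, 99, true), (4, 9, true), (9, 21, true), (8, 48, true), (7, 81, true), (6, 89, true), (5, 96, true), (4, 102, true), (3, 111, true), (2, 114, true), (8, 78, true), (7, 86, true), (6, 98, true), (5, 104, true), (4, 113, true), (3, 116, true), (2, 118, true), (1, 119, true), (0, 14, true), (5, 93, true), (4, 99, true), (9, 46, true), (8, 76, true), (7, 89, true), (6, 96, true), (5, 102, true), (4, 107, true), (3, 111, true), (2, 114, true), (1, 12, true), (6, 84, true), (5, 97, true), (4, 103, true), (3, 108, true), (2, 112, true), (1, 115, true), (0, 13, true), (4, 7, true), (7, 15, true), (8, 0, true),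 (8, 0, false), (4, 75, false), (5, 29, false), (4, 32, false), (5, 16, false), (4, 5, false), (5, 32, false), (6, 19, false), (4, 6, false), (5, 75, false), (6, 33, false), (7, 20, false), (4, 7, false), (0, 13, false), (1, 115, false), (2, 112, false), (3, 108, false), (4, 103, false), (5, 97, false), (6, 84, false), (1, 12, false), (2, 114, false), (3, 111, false), (4, 107, false), (5, 102, false), (6, 96, false), (7, 89, false), (8, 76, false), (3, 105, false), (4, 100, false), (5, 94, false), (6, 87, false), (0, 14, false), (1, 119, false), (2, 118, false), (3, 116, false), (4, 109, false), (5, 104, false), (6, 98, false), (7, 91, false), (8, 79, false), (9, 34, false), (4, 99, false), (5, 93, false), (0, 119, false), (1, 118, false), (2, 116, false), (3, 104, false), (4, 98, false), (5, 86, false), (6, 78, false), (7, 36, false), (8, 21, false), (3, 92, false), (1, 114, false), (2, 96, false), (3, 85, false), (1, 12, false), (2, 114, false), (3, 96, false), (4, 89, false), (0, 117, false), (1, 115, false), (2, 97, false), (3, 90, false), (4, 77, false), (2, 9, false), (3, 93, false), (0, 14, false), (1, 118,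 false), (2, 116, false), (3, 109, false), (4, 98, false), (5, 86, false), (6, 78, false), (3, 10, false), (4, 105, false), (5, 94, false), (6, 87, false), (0, 118, false), (1, 116, false), (2, 113, false), (3, 109, false), (4, 98, false), (5, 91, false), (6, 79, false), (7, 35, false), (2, 105, false), (3, 94, false), (4, 87, false), (0, 14, false), (1, 118, false), (2, 116, false), (3, 109, false), (4, 98, false), (5, 91, false), (6, 79, false), (7, 37, false), (8, 22, false), (3, 93, false), (0, 118, false), (1, 116, false), (2, 98, false), (3, 86, false), (4, 78, false), (5, 36, false), (6, 23, false), (2, 10, false), (3, 94, false), (4, 87, false), (0, 14, false), (1, 118, false), (2, 116, false), (3, 113, false), (4, 98, false), (5, 91, false), (6, 79, false), (7, 37, false), (8, 24, false), (2, 110, false), (3, 95, false), (4, 88, false), (5, 80, false), (1, 13, false), (2, 117, false), (3, 112, false), (4, 97, false), (5, 90, false), (6, 82, false), (0, 119, false), (1, 118, false), (2, 113, false), (3, 98, false), (4, 91, false), (5, 83, false), (6, 38, false), (1, 111, false), (2, 96, false), (3, 89, false),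 (4, 81, false), (0, 14, false), (1, 119, false), (2, 113, false), (3, 98, false), (4, 91, false), (5, 83, false), (6, 39, false), (0, 119, false), (1, 113, false), (2, 98, false), (3, 91, false), (4, 83, false), (5, 41, false), (6, 25, false), (1, 12, false), (2, 111, false), (3, 96, false), (4, 89, false), (5, 81, false), (0, 14, false), (1, 119, false), (2, 118, false), (3, 113, false), (4, 98, false), (5, 91, false), (6, 83, false), (7, 39, false), (8, 26, false), (1, 117, false), (2, 112, false), (3, 97, false), (4, 90, false), (5, 82, false), (6, 40, false), (0, 118, false), (1, 113, false), (2, 98, false), (3, 91, false), (4, 83, false), (5, 41, false), (6, 27, false), (0, 14, false), (1, 118, false), (2, 113, false), (3, 98, false), (4, 91, false), (5, 83, false), (6, 41, false), (7, 28, false), (6, 4, false), (3, 9, false), (4, 93, false), (0, 118, false), (1, 113, false), (2, 109, false), (3, 98, false), (4, 86, false), (0, 14, false), (1, 118, false), (2, 113, false), (3, 109, false), (4, 98, false), (5, 91, false), (6, 65, false), (2, 105, false), (3, 94, false), (0, 118, false), (1, 109, false), (2,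 98, false), (3, 66, false), (2, 8, false), (3, 92, false), (4, 68, false), (1, 99, false), (2, 93, false), (3, 69, false), (1, 10, false), (2, 100, false), (3, 94, false), (4, 70, false), (0, 111, false), (1, 102, false), (2, 96, false), (3, 72, false), (0, 13, false), (1, 112, false), (2, 103, false), (3, 97, false), (4, 73, false), (0, 14, false), (1, 119, false), (2, 113, false), (3, 104, false), (4, 98, false), (5, 74, false), (6, 1, false), (5, 5, false), (3, 9, false), (4, 99, false), (5, 93, false), (6, 78, false), (0, 119, false), (1, 113, false), (2, 109, false), (3, 104, false), (4, 98, false), (5, 83, false), (6, 65, false), (7, 32, false), (5, 6, false), (6, 75, false), (1, 105, false), (2, 100, false), (3, 94, false), (4, 87, false), (0, 14, false), (1, 119, false), (2, 109, false), (3, 104, false), (4, 98, false), (5, 91, false), (6, 79, false), (0, 119, false), (1, 109, false), (2, 104, false), (3, 98, false), (4, 91, false), (5, 83, false), (6, 66, false), (7, 33, false), (0, 108, false), (1, 103, false), (2, 84, false), (0, 12, false), (1, 107, false), (2, 102, false), (3, 89, false), (4, 76, false),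 (5, 67, false), (1, 10, false), (2, 105, false), (3, 100, false), (4, 87, false), (0, 14, false), (1, 118, false), (2, 113, false), (3, 109, false), (4, 104, false), (5, 91, false), (6, 79, false), (7, 70, false), (8, 34, false), (2, 11, false), (3, 110, false), (4, 106, false), (5, 101, false), (6, 88, false), (7, 80, false), (8, 71, false), (1, 13, false), (2, 117, false), (3, 115, false), (4, 112, false), (5, 108, false), (6, 103, false), (7, 90, false), (8, 82, false), (9, 73, false), (0, 119, false), (1, 118, false), (2, 116, false), (3, 113, false), (4, 109, false), (5, 104, false), (6, 91, false), (7, 83, false), (8, 74, false), (9, 38, false), (1, 114, false), (2, 111, false), (3, 107, false), (4, 102, false), (5, 89, false), (6, 81, false), (7, 72, false), (0, 14, false), (1, 119, false), (2, 116, false), (3, 113, false), (4, 109, false), (5, 104, false), (6, 91, false), (7, 83, false), (8, 74, false), (9, 39, false), (1, 115, false), (2, 112, false), (3, 108, false), (4, 103, false), (5, 90, false), (6, 82, false), (7, 73, false), (8, 40, false), (0, 116, false), (1, 113, false), (2, 109, false), (3, 104,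 false), (4, 91, false), (5, 83, false), (6, 74, false), (7, 41, false), (6, 31, false), (4, 7, false), (0, 13, false), (1, 115, false), (2, 112, false), (3, 108, false), (4, 103, false), (5, 97, false), (6, 84, false), (1, 12, false), (2, 114, false), (3, 111, false), (4, 107, false), (5, 102, false), (6, 96, false), (7, 89, false), (8, 76, false), (3, 105, false), (4, 100, false), (5, 94, false), (6, 87, false), (0, 14, false), (1, 119, false), (2, 118, false), (3, 116, false), (4, 109, false), (5, 104, false), (6, 98, false), (7, 91, false), (8, 79, false), (9, 34, false), (4, 99, false), (5, 93, false), (0, 119, false), (1, 118, false), (2, 116, false), (3, 104, false), (4, 98, false), (5, 86, false), (6, 78, false), (7, 36, false), (1, 114, false), (2, 102, false), (3, 96, false), (4, 89, false), (5, 81, false), (0, 14, false), (1, 119, false), (2, 116, false), (3, 104, false), (4, 98, false), (5, 91, false), (6, 83, false), (7, 39, false), (7, 4, false), (8, 31, false), (1, 115, false), (2, 103, false), (3, 84, false), (1, 12, false), (2, 114, false), (3, 102, false), (4, 89, false), (5, 76, false), (6, 67,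 false), (3, 10, false), (4, 100, false), (5, 87, false), (0, 118, false), (1, 116, false), (2, 113, false), (3, 104, false), (4, 91, false), (5, 79, false), (6, 70, false), (7, 34, false), (3, 9, false), (4, 99, false), (0, 14, false), (1, 118, false), (2, 116, false), (3, 113, false), (4, 109, false), (5, 104, false), (6, 86, false), (7, 78, false), (8, 69, false), (9, 36, false), (3, 105, false), (4, 100, false), (5, 87, false), (0, 118, false), (1, 116, false), (2, 109, false), (3, 104, false), (4, 91, false), (5, 79, false), (6, 70, false), (7, 37, false), (0, 13, false), (1, 117, false), (2, 115, false), (3, 108, false), (4, 103, false), (5, 90, false), (6, 82, false), (7, 73, false), (8, 40, false), (0, 14, false), (1, 119, false), (2, 118, false), (3, 116, false), (4, 109, false), (5, 104, false), (6, 91, false), (7, 83, false), (8, 74, false), (9, 41, false), (10, 0, false), (6, 75, false), (4, 10, false), (5, 105, false), (6, 100, false), (0, 119, false), (1, 118, false), (2, 116, false), (3, 113, false), (4, 109, false), (5, 104, false), (6, 79, false), (0, 14, false), (1, 119, false), (2, 118, false),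 (3, 116, false), (4, 113, false), (5, 109, false), (6, 104, false), (7, 83, false), (8, 66, false), (9, 33, false), (10, 20, false), (2, 114, false), (3, 111, false), (4, 107, false), (5, 102, false), (6, 81, false), (7, 72, false), (0, 119, false), (1, 116, false), (2, 113, false), (3, 109, false), (4, 104, false), (5, 83, false), (6, 74, false), (7, 39, false), (8, 26, false)], [(9, 28, true), (8, 41, true), (7, 53, true), (6, 64, true), (5, 83, true), (4, 104, true), (3, 109, true), (2, 116, true), (1, 119, true), (0, 14, true), (8, 24, true), (7, 37, true), (6, 49, true), (5, 63, true), (4, 82, true), (3, 103, true), (2, 108, true), (1, 115, true), (0, 13, true), (4, 60, true), (3, 81, true), (2, 102, true), (1, 107, true), (0, 114, true), (4, 79, true), (3, 104, true), (2, 109, true), (1, 116, true), (0, 118, true), (4, 100, true), (3, 105, true), (10, 22, true), (9, 37, true), (8, 49, true), (7, 63, true), (6, 82, true), (5, 103, true), (4, 108, true), (3, 112, true), (2, 115, true), (1, 117, true), (8, 60, true), (7, 81, true), (6, 102, true), (5, 107, true), (4, 111, true), (3, 114, true), (2, 12, true),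 (6, 79, true), (5, 104, true), (4, 109, true), (3, 113, true), (2, 116, true), (1, 119, true), (0, 14, true), (4, 100, true), (3, 105, true), (2, 10, true), (7, 35, true), (6, 49, true), (5, 63, true), (4, 82, true), (3, 103, true), (2, 108, true), (1, 115, true), (0, 13, true), (4, 60, true), (3, 81, true), (2, 102, true), (1, 107, true), (0, 114, true), (4, 79, true), (3, 104, true), (2, 109, true), (1, 116, true), (0, 118, true), (4, 100, true), (3, 105, true), (8, 48, true), (7, 62, true), (6, 81, true), (5, 102, true), (4, 107, true), (3, 111, true), (2, 114, true), (1, 12, true), (6, 59, true), (5, 82, true), (4, 103, true), (3, 108, true), (2, 112, true), (1, 115, true), (6, 81, true), (5, 102, true), (4, 107, true), (3, 111, true), (2, 114, true), (7, 78, true), (6, 99, true), (5, 9, true), (8, 47, true), (7, 61, true), (6, 80, true), (5, 101, true), (4, 110, true), (3, 11, true), (6, 58, true), (5, 77, true), (4, 103, true), (3, 112, true), (2, 117, true), (1, 13, true), (3, 102, true), (2, 111, true), (1, 12, true), (2, 8, true), (6, 21, true), (5, 36, true), (4, 48, true), (3, 62, true), (2, 81, true),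 (1, 111, true), (4, 59, true), (3, 82, true), (2, 112, true), (1, 117, true), (4, 81, true), (3, 111, true), (2, 12, true), (3, 78, true), (7, 34, true), (6, 49, true), (5, 63, true), (4, 82, true), (3, 108, true), (2, 112, true), (1, 13, true), (4, 60, true), (3, 81, true), (2, 107, true), (1, 111, true), (4, 79, true), (3, 109, true), (2, 113, true), (1, 118, true), (0, 14, true), (2, 105, true), (1, 10, true), (4, 46, true), (3, 57, true), (2, 80, true), (1, 106, true), (3, 76, true), (2, 107, true), (1, 114, true), (0, 12, true), (7, 15, true), (6, 1, true), (6, 1, false), (3, 6, false), (4, 75, false), (5, 56, false), (6, 29, false), (3, 30, false), (3, 5, false), (4, 32, false), (2, 8, false), (3, 92, false), (0, 12, false), (1, 114, false), (2, 107, false), (3, 102, false), (4, 96, false), (0, 13, false), (1, 117, false), (2, 115, false), (3, 108, false), (4, 103, false), (5, 97, false), (6, 77, false), (3, 99, false), (4, 93, false), (5, 78, false), (3, 10, false), (4, 100, false), (5, 94, false), (0, 14, false), (1, 119, false), (2, 118, false), (3, 116, false), (4, 113, false), (5, 104, false), (6, 98,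 false), (7, 79, false), (8, 35, false), (5, 9, false), (6, 99, false), (7, 93, false), (8, 78, false), (9, 36, false), (3, 110, false), (4, 106, false), (5, 101, false), (6, 95, false), (7, 80, false), (1, 117, false), (2, 112, false), (3, 108, false), (4, 103, false), (5, 97, false), (6, 82, false), (0, 118, false), (1, 113, false), (2, 109, false), (3, 104, false), (4, 98, false), (5, 83, false), (6, 38, false), (0, 13, false), (1, 117, false), (2, 112, false), (3, 108, false), (4, 103, false), (5, 97, false), (6, 82, false), (7, 40, false), (0, 14, false), (1, 119, false), (2, 118, false), (3, 113, false), (4, 109, false), (5, 104, false), (6, 98, false), (7, 83, false), (8, 41, false), (8, 4, false), (4, 99, false), (5, 93, false), (0, 119, false), (1, 118, false), (2, 113, false), (3, 104, false), (4, 98, false), (5, 65, false), (4, 67, false), (3, 9, false), (4, 99, false), (5, 69, false), (0, 117, false), (1, 112, false), (2, 108, false), (3, 103, false), (4, 73, false), (0, 14, false), (1, 118, false), (2, 113, false), (3, 109, false), (4, 104, false), (5, 74, false), (6, 0, false), (5, 5, false), (3, 99,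 false), (4, 78, false), (0, 118, false), (1, 113, false), (2, 104, false), (3, 83, false), (4, 65, false), (5, 19, false), (3, 7, false), (0, 111, false), (1, 102, false), (2, 96, false), (3, 76, false), (4, 67, false), (1, 9, false), (2, 99, false), (3, 93, false), (4, 78, false), (5, 69, false), (6, 21, false), (2, 92, false), (0, 12, false), (1, 111, false), (2, 107, false), (3, 96, false), (0, 13, false), (1, 117, false), (2, 112, false), (3, 108, false), (4, 97, false), (5, 77, false), (6, 68, false), (2, 105, false), (3, 94, false), (0, 14, false), (1, 119, false), (2, 118, false), (3, 109, false), (4, 98, false), (5, 79, false), (6, 70, false), (7, 22, false), (3, 11, false), (4, 106, false), (5, 95, false), (6, 80, false), (7, 71, false), (2, 114, false), (3, 107, false), (4, 96, false), (5, 81, false), (6, 72, false), (0, 119, false), (1, 116, false), (2, 109, false), (3, 98, false), (4, 83, false), (5, 74, false), (6, 25, false), (0, 115, false), (1, 108, false), (2, 97, false), (3, 82, false), (4, 73, false), (0, 14, false), (1, 116, false), (2, 109, false), (3, 98, false), (4, 83, false), (5, 74, false),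 (6, 27, false), (0, 116, false), (1, 109, false), (2, 98, false), (3, 83, false), (4, 74, false), (5, 28, false), (4, 18, false), (0, 12, false), (1, 114, false), (2, 107, false), (3, 76, false), (2, 78, false), (3, 21, false), (2, 8, false), (0, 114, false), (1, 102, false), (0, 13, false), (1, 115, false), (2, 103, false), (3, 77, false), (2, 10, false), (3, 100, false), (0, 14, false), (1, 119, false), (2, 116, false), (3, 113, false), (4, 104, false), (5, 79, false), (6, 22, false), (3, 100, false), (0, 119, false), (1, 116, false), (2, 104, false), (3, 79, false), (4, 24, false), (1, 12, false), (2, 114, false), (3, 102, false), (4, 81, false), (5, 26, false), (0, 117, false), (1, 115, false), (2, 103, false), (3, 82, false), (0, 14, false), (1, 118, false), (2, 116, false), (3, 104, false), (4, 83, false), (5, 27, false), (5, 4, false), (6, 18, false), (4, 7, false), (1, 114, false), (2, 102, false), (3, 96, false), (4, 76, false), (5, 67, false), (2, 9, false), (3, 99, false), (4, 93, false), (5, 78, false), (6, 69, false), (7, 21, false), (3, 92, false), (1, 12, false), (2, 114, false), (3, 107, false),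 (4, 96, false), (1, 13, false), (2, 117, false), (3, 115, false), (4, 108, false), (5, 97, false), (6, 77, false), (7, 68, false), (4, 10, false), (5, 105, false), (6, 94, false), (0, 119, false), (1, 118, false), (2, 116, false), (3, 113, false), (4, 109, false), (5, 98, false), (6, 79, false), (7, 70, false), (8, 22, false), (4, 93, false), (5, 78, false), (6, 69, false), (7, 23, false), (1, 114, false), (2, 111, false), (3, 96, false), (4, 81, false), (5, 72, false), (6, 26, false), (0, 14, false), (1, 119, false), (2, 116, false), (3, 113, false), (4, 98, false), (5, 83, false), (6, 74, false), (7, 28, false), (7, 1, false), (4, 9, false), (5, 93, false), (0, 119, false), (1, 116, false), (2, 113, false), (3, 109, false), (4, 98, false), (5, 65, false), (6, 32, false), (5, 6, false), (2, 105, false), (3, 94, false), (4, 87, false), (0, 14, false), (1, 119, false), (2, 116, false), (3, 109, false), (4, 98, false), (5, 91, false), (6, 66, false), (7, 33, false), (2, 12, false), (3, 114, false), (4, 107, false), (5, 96, false), (6, 89, false), (7, 72, false), (0, 119, false), (1, 118, false), (2, 116, false), (3,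 109, false), (4, 98, false), (5, 91, false), (6, 74, false), (7, 39, false), (0, 117, false), (1, 115, false), (2, 108, false), (3, 97, false), (4, 90, false), (5, 73, false), (6, 40, false)]),
    ([0, 6], [14, 12, 11, 6, 5, 0], [(11, 26, true), (10, 51, true), (9, 81, true), (8, 89, true), (7, 96, true), (6, 102, true), (5, 107, true), (4, 111, true), (3, 114, true), (2, 12, true), (10, 23, true), (9, 48, true), (8, 81, true), (7, 89, true), (6, 96, true), (5, 102, true), (4, 107, true), (3, 111, true), (2, 114, true), (9, 78, true), (8, 86, true), (7, 98, true), (6, 104, true), (5, 109, true), (4, 113, true), (3, 116, true), (2, 118, true), (1, 119, true), (0, 14, true), (6, 93, true), (5, 99, true), (4, 9, true), (9, 21, true), (8, 48, true), (7, 81, true), (6, 89, true), (5, 96, true), (4, 102, true), (3, 111, true), (2, 114, true), (1, 12, true), (6, 78, true), (5, 86, true), (4, 98, true), (3, 104, true), (2, 113, true), (1, 116, true), (0, 119, true), (5, 93, true), (4, 99, true), (9, 46, true), (8, 76, true), (7, 89, true), (6, 96, true), (5, 102, true), (4, 107, true), (3, 111, true), (2, 114, true), (8,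 84, true), (7, 97, true), (6, 103, true), (5, 108, true), (4, 112, true), (3, 115, true), (2, 117, true), (1, 13, true), (6, 7, true), (9, 18, true), (8, 43, true), (7, 80, true), (6, 88, true), (5, 101, true), (4, 106, true), (3, 110, true), (2, 11, true), (6, 76, true), (5, 89, true), (4, 102, true), (3, 107, true), (2, 111, true), (1, 12, true), (4, 84, true), (3, 103, true), (2, 108, true), (1, 112, true), (3, 99, false), (4, 93, false), (0, 119, false), (1, 113, false), (2, 104, false), (3, 98, false), (4, 86, false), (0, 14, false), (1, 119, false), (2, 113, false), (3, 104, false), (4, 98, false), (5, 91, false), (6, 65, false), (2, 100, false), (3, 94, false), (0, 119, false), (1, 104, false), (2, 98, false), (3, 66, false), (2, 67, false), (1, 68, false), (1, 9, false), (2, 69, false), (1, 10, false), (2, 105, false), (3, 70, false), (1, 11, false), (2, 110, false), (3, 106, false), (4, 71, false), (1, 12, false), (2, 114, false), (3, 111, false), (4, 107, false), (5, 72, false), (0, 117, false), (1, 115, false), (2, 112, false), (3, 108, false), (4, 73, false), (0, 14, false), (1, 118, false), (2, 116,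 false), (3, 113, false), (4, 109, false), (5, 74, false), (6, 1, false), (5, 5, false), (4, 78, false), (0, 118, false), (1, 116, false), (2, 113, false), (3, 83, false), (4, 65, false), (5, 32, false), (3, 6, false), (4, 75, false), (2, 87, false), (0, 14, false), (1, 118, false), (2, 116, false), (3, 91, false), (4, 79, false), (0, 118, false), (1, 116, false), (2, 91, false), (3, 83, false), (4, 66, false), (5, 33, false), (2, 7, false), (0, 13, false), (1, 117, false), (2, 115, false), (3, 97, false), (4, 84, false), (1, 114, false), (2, 96, false), (3, 89, false), (4, 76, false), (5, 67, false), (2, 10, false), (3, 94, false), (4, 87, false), (0, 14, false), (1, 119, false), (2, 116, false), (3, 113, false), (4, 98, false), (5, 91, false), (6, 79, false), (7, 70, false), (8, 34, false), (2, 110, false), (3, 95, false), (4, 88, false), (5, 80, false), (6, 71, false), (1, 112, false), (2, 97, false), (3, 90, false), (4, 82, false), (5, 73, false), (0, 113, false), (1, 98, false), (2, 91, false), (3, 83, false), (4, 74, false), (5, 38, false), (0, 12, false), (1, 111, false), (2, 96, false), (3, 89, false), (4,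 81, false), (5, 72, false), (0, 14, false), (1, 118, false), (2, 113, false), (3, 98, false), (4, 91, false), (5, 83, false), (6, 74, false), (7, 39, false), (1, 13, false), (2, 117, false), (3, 112, false), (4, 97, false), (5, 90, false), (6, 82, false), (7, 73, false), (8, 40, false), (0, 119, false), (1, 118, false), (2, 113, false), (3, 98, false), (4, 91, false), (5, 83, false), (6, 74, false), (7, 41, false), (6, 31, false), (0, 117, false), (1, 112, false), (2, 84, false), (0, 111, false), (1, 89, false), (2, 76, false), (0, 87, false), (0, 14, false), (1, 91, false), (2, 79, false), (3, 34, false), (1, 9, false), (0, 109, false), (1, 86, false), (2, 78, false), (3, 36, false), (0, 12, false), (1, 107, false), (2, 89, false), (3, 81, false), (0, 14, false), (1, 118, false), (2, 109, false), (3, 91, false), (4, 83, false), (5, 39, false), (6, 0, false), (5, 4, false), (6, 31, false), (7, 18, false), (3, 75, false), (2, 10, false), (3, 105, false), (0, 118, false), (1, 113, false), (2, 109, false), (3, 79, false), (0, 14, false), (1, 118, false), (2, 113, false), (3, 109, false), (4, 83, false), (5, 66, false),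 (6, 33, false), (7, 20, false), (4, 8, false), (1, 111, false), (2, 107, false), (3, 102, false), (1, 13, false), (2, 112, false), (3, 108, false), (4, 103, false), (5, 77, false), (6, 68, false), (3, 99, false), (4, 78, false), (5, 69, false), (2, 100, false), (0, 119, false), (1, 104, false), (2, 79, false), (3, 70, false), (4, 35, false), (1, 10, false), (2, 100, false), (0, 14, false), (1, 119, false), (2, 113, false), (3, 104, false), (4, 79, false), (5, 70, false), (6, 37, false), (7, 22, false), (3, 9, false), (4, 99, false), (5, 78, false), (6, 69, false), (7, 36, false), (8, 23, false), (2, 105, false), (3, 100, false), (0, 119, false), (1, 109, false), (2, 104, false), (3, 79, false), (4, 70, false), (5, 37, false), (6, 24, false), (1, 11, false), (2, 106, false), (3, 101, false), (4, 80, false), (5, 71, false), (0, 115, false), (1, 108, false), (2, 103, false), (3, 82, false), (4, 73, false), (0, 14, false), (1, 116, false), (2, 109, false), (3, 104, false), (4, 83, false), (5, 74, false), (6, 38, false), (1, 12, false), (2, 114, false), (3, 107, false), (4, 102, false), (5, 81, false), (6, 72, false),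 (0, 118, false), (1, 116, false), (2, 109, false), (3, 104, false), (4, 83, false), (5, 74, false), (6, 39, false), (0, 14, false), (1, 118, false), (2, 116, false), (3, 109, false), (4, 104, false), (5, 83, false), (6, 74, false), (7, 41, false), (8, 25, false), (1, 13, false), (2, 117, false), (3, 115, false), (4, 108, false), (5, 103, false), (6, 82, false), (7, 73, false), (8, 40, false), (0, 119, false), (1, 118, false), (2, 116, false), (3, 109, false), (4, 104, false), (5, 83, false), (6, 74, false), (7, 41, false), (8, 27, false), (3, 10, false), (4, 105, false), (5, 100, false), (0, 14, false), (1, 119, false), (2, 118, false), (3, 116, false), (4, 113, false), (5, 109, false), (6, 104, false), (7, 79, false), (8, 70, false), (9, 37, false), (10, 24, false), (2, 114, false), (3, 111, false), (4, 107, false), (5, 102, false), (6, 81, false), (7, 72, false), (0, 119, false), (1, 116, false), (2, 113, false), (3, 109, false), (4, 104, false), (5, 83, false), (6, 74, false), (7, 39, false), (8, 26, false)], [(9, 27, true), (8, 41, true), (7, 53, true), (6, 64, true), (5, 83, true), (4, 104, true), (3, 109,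 true), (2, 116, true), (1, 119, true), (0, 14, true), (7, 40, true), (6, 52, true), (5, 63, true), (4, 82, true), (3, 103, true), (2, 108, true), (1, 115, true), (0, 13, true), (7, 26, true), (6, 39, true), (5, 53, true), (4, 64, true), (3, 83, true), (2, 104, true), (1, 109, true), (0, 116, true), (6, 51, true), (5, 62, true), (4, 81, true), (3, 102, true), (2, 107, true), (1, 114, true), (9, 24, true), (8, 37, true), (7, 49, true), (6, 63, true), (5, 82, true), (4, 103, true), (3, 108, true), (2, 115, true), (1, 117, true), (7, 60, true), (6, 81, true), (5, 102, true), (4, 107, true), (3, 114, true), (2, 12, true), (5, 79, true), (4, 104, true), (3, 109, true), (2, 116, true), (1, 119, true), (0, 14, true), (3, 100, true), (2, 105, true), (9, 22, true), (8, 37, true), (7, 49, true), (6, 63, true), (5, 82, true), (4, 103, true), (3, 108, true), (2, 112, true), (1, 115, true), (0, 13, true), (5, 60, true), (4, 81, true), (3, 102, true), (2, 107, true), (1, 111, true), (0, 114, true), (5, 79, true), (4, 104, true), (3, 109, true), (2, 113, true), (1, 116, true), (0, 118, true), (5, 100, true), (4, 105, true), (3,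 10, true), (8, 35, true), (7, 49, true), (6, 63, true), (5, 82, true), (4, 103, true), (3, 108, true), (2, 115, true), (1, 117, true), (7, 60, true), (6, 81, true), (5, 102, true), (4, 107, true), (3, 114, true), (2, 12, true), (5, 79, true), (4, 104, true), (3, 109, true), (2, 116, true), (1, 119, true), (0, 14, true), (3, 100, true), (2, 105, true), (7, 48, true), (6, 62, true), (5, 81, true), (4, 102, true), (3, 107, true), (2, 111, true), (1, 114, true), (7, 59, true), (6, 82, true), (5, 103, true), (4, 108, true), (3, 112, true), (2, 115, true), (1, 117, true), (0, 13, true), (5, 81, true), (4, 102, true), (3, 107, true), (2, 111, true), (1, 114, true), (0, 12, true), (4, 78, true), (3, 99, true), (2, 9, true), (5, 47, true), (4, 61, true), (3, 80, true), (2, 101, true), (1, 110, true), (0, 11, true), (3, 58, true), (2, 77, true), (1, 103, true), (0, 112, true), (2, 102, true), (1, 111, true), (3, 8, true), (7, 21, true), (6, 36, true), (5, 48, true), (4, 62, true), (3, 81, true), (2, 111, true), (1, 12, true), (3, 59, true), (2, 82, true), (1, 112, true), (0, 13, true), (1, 81, true), (0, 111, true), (2, 78,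 true), (6, 34, true), (5, 49, true), (4, 63, true), (3, 82, true), (2, 108, true), (1, 112, true), (0, 117, true), (5, 60, true), (4, 81, true), (3, 107, true), (2, 111, true), (1, 12, true), (3, 79, true), (2, 109, true), (1, 113, true), (0, 119, true), (3, 105, true), (2, 10, true), (5, 46, true), (4, 57, true), (3, 80, true), (2, 106, true), (4, 76, true), (3, 107, true), (2, 114, true), (10, 18, true), (9, 31, true), (8, 43, true), (7, 61, true), (6, 80, true), (5, 95, true), (4, 106, true), (3, 11, true), (6, 57, true), (5, 80, true), (4, 95, true), (3, 106, true), (6, 76, true), (5, 96, true), (4, 107, true), (3, 114, true), (2, 12, true), (4, 7, true), (5, 54, true), (4, 80, true), (3, 106, true), (2, 11, true), (3, 77, true), (2, 108, true), (1, 13, true), (1, 107, true), (2, 99, false), (0, 118, false), (1, 104, false), (2, 65, false), (1, 68, false), (1, 9, false), (2, 69, false), (1, 11, false), (2, 106, false), (3, 71, false), (0, 13, false), (1, 117, false), (2, 115, false), (3, 108, false), (4, 73, false), (0, 14, false), (1, 119, false), (2, 118, false), (3, 116, false), (4, 109, false), (5, 74, false),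 (6, 0, false), (5, 5, false), (4, 78, false), (0, 119, false), (1, 118, false), (2, 116, false), (3, 83, false), (4, 65, false), (5, 19, false), (3, 7, false), (1, 114, false), (2, 96, false), (3, 76, false), (4, 67, false), (2, 9, false), (3, 93, false), (4, 78, false), (5, 69, false), (6, 21, false), (3, 8, false), (4, 92, false), (1, 12, false), (2, 114, false), (3, 107, false), (4, 102, false), (5, 96, false), (0, 117, false), (1, 115, false), (2, 108, false), (3, 103, false), (4, 97, false), (5, 77, false), (6, 68, false), (2, 10, false), (3, 105, false), (4, 100, false), (5, 94, false), (0, 14, false), (1, 118, false), (2, 116, false), (3, 113, false), (4, 109, false), (5, 104, false), (6, 98, false), (7, 79, false), (8, 70, false), (9, 22, false), (2, 110, false), (3, 106, false), (4, 101, false), (5, 95, false), (6, 80, false), (7, 71, false), (1, 111, false), (2, 107, false), (3, 102, false), (4, 96, false), (5, 81, false), (6, 72, false), (0, 113, false), (1, 109, false), (2, 104, false), (3, 98, false), (4, 83, false), (5, 74, false), (6, 25, false), (0, 13, false), (1, 112, false), (2, 108, false), (3,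 103, false), (4, 97, false), (5, 82, false), (6, 73, false), (0, 14, false), (1, 119, false), (2, 113, false), (3, 109, false), (4, 104, false), (5, 98, false), (6, 83, false), (7, 74, false), (8, 27, false), (0, 119, false), (1, 113, false), (2, 109, false), (3, 104, false), (4, 98, false), (5, 83, false), (6, 74, false), (7, 28, false), (6, 18, false), (1, 12, false), (2, 111, false), (3, 107, false), (4, 102, false), (5, 76, false), (3, 99, false), (4, 78, false), (5, 21, false), (1, 111, false), (0, 112, false), (1, 77, false), (0, 14, false), (1, 79, false), (2, 22, false), (1, 10, false), (0, 113, false), (1, 79, false), (2, 24, false), (0, 12, false), (1, 111, false), (2, 81, false), (3, 26, false), (0, 13, false), (1, 117, false), (2, 112, false), (3, 82, false), (0, 14, false), (1, 119, false), (2, 118, false), (3, 113, false), (4, 83, false), (5, 27, false), (5, 1, false), (5, 4, false), (6, 31, false), (4, 9, false), (0, 119, false), (1, 118, false), (2, 113, false), (3, 109, false), (4, 65, false), (5, 32, false), (4, 6, false), (2, 105, false), (3, 87, false), (0, 14, false), (1, 119, false), (2, 118,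 false), (3, 109, false), (4, 91, false), (5, 66, false), (6, 33, false), (4, 7, false), (1, 117, false), (2, 108, false), (3, 97, false), (4, 84, false), (5, 67, false), (2, 10, false), (3, 105, false), (4, 94, false), (5, 87, false), (6, 70, false), (7, 34, false), (3, 93, false), (0, 118, false), (1, 113, false), (2, 98, false), (3, 86, false), (4, 69, false), (5, 36, false), (1, 11, false), (2, 110, false), (3, 95, false), (4, 88, false), (5, 71, false), (0, 13, false), (1, 117, false), (2, 115, false), (3, 112, false), (4, 97, false), (5, 90, false), (6, 73, false), (0, 14, false), (1, 119, false), (2, 118, false), (3, 116, false), (4, 113, false), (5, 98, false), (6, 91, false), (7, 74, false), (8, 38, false), (2, 114, false), (3, 111, false), (4, 96, false), (5, 89, false), (6, 72, false), (0, 119, false), (1, 116, false), (2, 113, false), (3, 98, false), (4, 91, false), (5, 74, false), (6, 39, false), (3, 9, false), (4, 93, false), (0, 14, false), (1, 119, false), (2, 116, false), (3, 113, false), (4, 109, false), (5, 98, false), (6, 86, false), (7, 69, false), (8, 36, false), (3, 105, false), (4, 94, false),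 (5, 87, false), (6, 70, false), (7, 37, false), (2, 12, false), (3, 114, false), (4, 107, false), (5, 96, false), (6, 89, false), (7, 72, false), (0, 119, false), (1, 118, false), (2, 116, false), (3, 109, false), (4, 98, false), (5, 91, false), (6, 74, false), (7, 39, false), (0, 117, false), (1, 115, false), (2, 108, false), (3, 97, false), (4, 90, false), (5, 73, false), (6, 40, false)]),
    ([0, 10], [14, 13, 12, 10, 9, 7, 6, 2, 0], [(11, 27, true), (10, 53, true), (9, 83, true), (8, 91, true), (7, 98, true), (6, 104, true), (5, 109, true), (4, 113, true), (3, 116, true), (2, 118, true), (1, 119, true), (0, 14, true), (9, 52, true), (8, 82, true), (7, 90, true), (6, 97, true), (5, 103, true), (4, 108, true), (3, 112, true), (2, 115, true), (1, 117, true), (0, 13, true), (9, 26, true), (8, 51, true), (7, 81, true), (6, 89, true), (5, 96, true), (4, 102, true), (3, 107, true), (2, 111, true), (1, 114, true), (0, 12, true), (8, 24, true), (7, 49, true), (6, 82, true), (5, 90, true), (4, 97, true), (3, 103, true), (2, 108, true), (1, 112, true), (0, 115, true), (7, 79, true), (6, 91, true), (5, 98, true), (4, 104,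 true), (3, 109, true), (2, 113, true), (1, 116, true), (0, 119, true), (7, 87, true), (6, 94, true), (5, 100, true), (4, 105, true), (3, 10, true), (9, 23, true), (8, 48, true), (7, 81, true), (6, 89, true), (5, 96, true), (4, 102, true), (3, 107, true), (2, 114, true), (8, 78, true), (7, 86, true), (6, 98, true), (5, 104, true), (4, 109, true), (3, 116, true), (2, 118, true), (1, 119, true), (0, 14, true), (5, 93, true), (4, 99, true), (3, 9, true), (8, 20, true), (7, 45, true), (6, 75, true), (5, 6, true), (7, 0, true), (7, 0, false), (5, 16, false), (5, 5, false), (6, 19, false), (5, 6, false), (6, 75, false), (7, 20, false), (0, 117, false), (1, 115, false), (2, 103, false), (3, 84, false), (0, 114, false), (1, 102, false), (2, 89, false), (3, 76, false), (1, 9, false), (2, 99, false), (0, 14, false), (1, 116, false), (2, 109, false), (3, 104, false), (4, 86, false), (5, 78, false), (6, 21, false), (1, 12, false), (2, 114, false), (3, 107, false), (4, 85, false), (1, 114, false), (2, 107, false), (3, 89, false), (1, 13, false), (2, 115, false), (3, 108, false), (4, 90, false), (5, 77, false), (3, 10, false),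 (4, 105, false), (5, 87, false), (0, 119, false), (1, 116, false), (2, 113, false), (3, 109, false), (4, 91, false), (5, 79, false), (6, 22, false), (0, 14, false), (1, 119, false), (2, 116, false), (3, 113, false), (4, 86, false), (5, 78, false), (6, 23, false), (3, 87, false), (0, 119, false), (1, 116, false), (2, 91, false), (3, 79, false), (4, 24, false), (1, 88, false), (2, 80, false), (1, 12, false), (2, 89, false), (3, 81, false), (0, 14, false), (1, 119, false), (2, 118, false), (3, 91, false), (4, 83, false), (5, 25, false), (2, 89, false), (3, 81, false), (4, 26, false), (1, 90, false), (2, 82, false), (0, 91, false), (1, 83, false), (2, 27, false), (0, 14, false), (1, 91, false), (2, 83, false), (3, 28, false), (3, 4, false), (1, 9, false), (0, 109, false), (1, 86, false), (0, 14, false), (1, 109, false), (2, 91, false), (3, 65, false), (1, 10, false), (2, 105, false), (0, 113, false), (1, 109, false), (2, 66, false), (2, 8, false), (3, 68, false), (0, 105, false), (1, 100, false), (2, 70, false), (0, 11, false), (1, 106, false), (2, 101, false), (3, 71, false), (0, 12, false), (1, 114, false), (2, 107,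 false), (3, 102, false), (4, 72, false), (0, 14, false), (1, 118, false), (2, 116, false), (3, 109, false), (4, 104, false), (5, 74, false), (5, 7, false), (3, 99, false), (4, 93, false), (1, 114, false), (2, 102, false), (3, 96, false), (4, 0, false), (4, 1, false), (5, 15, false), (4, 5, false), (5, 32, false), (6, 19, false), (2, 10, false), (3, 100, false), (4, 94, false), (0, 116, false), (1, 113, false), (2, 104, false), (3, 98, false), (4, 79, false), (5, 37, false), (6, 24, false), (0, 13, false), (1, 115, false), (2, 112, false), (3, 103, false), (4, 97, false), (5, 82, false), (6, 40, false), (0, 14, false), (1, 119, false), (2, 116, false), (3, 113, false), (4, 104, false), (5, 98, false), (6, 83, false), (7, 41, false), (8, 27, false), (0, 119, false), (1, 116, false), (2, 113, false), (3, 104, false), (4, 98, false), (5, 83, false), (6, 41, false), (7, 28, false), (6, 4, false), (7, 31, false), (8, 18, false), (1, 12, false), (2, 114, false), (3, 111, false), (4, 102, false), (5, 76, false), (6, 67, false), (3, 100, false), (0, 14, false), (1, 119, false), (2, 118, false), (3, 116, false), (4, 104,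 false), (5, 79, false), (6, 70, false), (7, 34, false), (4, 9, false), (5, 99, false), (6, 78, false), (7, 69, false), (8, 36, false), (9, 21, false), (4, 99, false), (5, 78, false), (6, 69, false), (7, 36, false), (8, 23, false), (4, 10, false), (5, 100, false), (0, 119, false), (1, 118, false), (2, 116, false), (3, 113, false), (4, 104, false), (5, 79, false), (6, 70, false), (7, 37, false), (8, 24, false), (0, 117, false), (1, 115, false), (2, 112, false), (3, 103, false), (4, 82, false), (5, 73, false), (6, 40, false), (0, 14, false), (1, 118, false), (2, 116, false), (3, 113, false), (4, 104, false), (5, 83, false), (6, 74, false), (7, 41, false), (8, 27, false), (0, 118, false), (1, 116, false), (2, 113, false), (3, 104, false), (4, 83, false), (5, 74, false), (6, 41, false), (7, 28, false), (4, 6, false), (5, 75, false), (2, 100, false), (3, 87, false), (0, 14, false), (1, 118, false), (2, 116, false), (3, 104, false), (4, 91, false), (5, 79, false), (0, 118, false), (1, 116, false), (2, 104, false), (3, 91, false), (4, 83, false), (5, 66, false), (6, 33, false), (2, 9, false), (3, 99, false), (0, 14, false),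 (1, 118, false), (2, 116, false), (3, 109, false), (4, 104, false), (5, 86, false), (6, 78, false), (7, 69, false), (8, 36, false), (3, 10, false), (4, 105, false), (5, 100, false), (6, 87, false), (0, 118, false), (1, 116, false), (2, 113, false), (3, 109, false), (4, 104, false), (5, 91, false), (6, 79, false), (7, 70, false), (8, 37, false), (0, 114, false), (1, 111, false), (2, 107, false), (3, 102, false), (4, 89, false), (5, 81, false), (6, 72, false), (0, 14, false), (1, 116, false), (2, 113, false), (3, 109, false), (4, 104, false), (5, 91, false), (6, 83, false), (7, 74, false), (8, 39, false), (1, 13, false), (2, 115, false), (3, 112, false), (4, 108, false), (5, 103, false), (6, 90, false), (7, 82, false), (8, 73, false), (9, 40, false), (3, 105, false), (4, 100, false), (5, 87, false), (0, 119, false), (1, 116, false), (2, 109, false), (3, 104, false), (4, 91, false), (5, 79, false), (6, 70, false), (7, 37, false), (1, 12, false), (2, 114, false), (3, 107, false), (4, 102, false), (5, 89, false), (6, 81, false), (7, 72, false), (0, 14, false), (1, 119, false), (2, 118, false), (3, 116, false), (4, 109,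 false), (5, 104, false), (6, 91, false), (7, 83, false), (8, 74, false), (9, 39, false), (10, 0, false), (6, 75, false), (4, 10, false), (5, 105, false), (6, 100, false), (0, 119, false), (1, 118, false), (2, 116, false), (3, 113, false), (4, 109, false), (5, 104, false), (6, 79, false), (0, 14, false), (1, 119, false), (2, 118, false), (3, 116, false), (4, 113, false), (5, 109, false), (6, 104, false), (7, 83, false), (8, 66, false), (9, 33, false), (10, 20, false), (2, 114, false), (3, 111, false), (4, 107, false), (5, 102, false), (6, 81, false), (7, 72, false), (0, 119, false), (1, 116, false), (2, 113, false), (3, 109, false), (4, 104, false), (5, 83, false), (6, 74, false), (7, 39, false), (8, 26, false)], [(9, 27, true), (8, 41, true), (7, 53, true), (6, 64, true), (5, 83, true), (4, 104, true), (3, 109, true), (2, 116, true), (1, 119, true), (0, 14, true), (7, 40, true), (6, 52, true), (5, 63, true), (4, 82, true), (3, 103, true), (2, 108, true), (1, 115, true), (0, 13, true), (7, 23, true), (6, 36, true), (5, 48, true), (4, 62, true), (3, 81, true), (2, 102, true), (1, 107, true), (0, 114, true), (5, 59,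 true), (4, 82, true), (3, 103, true), (2, 108, true), (1, 115, true), (0, 117, true), (5, 81, true), (4, 102, true), (3, 107, true), (2, 114, true), (1, 12, true), (4, 78, true), (3, 99, true), (2, 9, true), (7, 20, true), (6, 33, true), (5, 45, true), (4, 56, true), (3, 75, true), (8, 19, true), (7, 32, true), (6, 44, true), (5, 55, true), (4, 5, true), (7, 15, true), (6, 1, true), (6, 0, true), (6, 0, false), (6, 1, false), (7, 15, false), (3, 56, false), (4, 29, false), (3, 5, false), (4, 55, false), (5, 32, false), (6, 16, false), (3, 6, false), (4, 30, false), (3, 33, false), (4, 17, false), (3, 5, false), (4, 32, false), (5, 19, false), (1, 12, false), (2, 114, false), (0, 117, false), (1, 115, false), (2, 77, false), (2, 9, false), (3, 78, false), (2, 10, false), (3, 105, false), (0, 14, false), (1, 118, false), (2, 116, false), (3, 113, false), (4, 109, false), (5, 79, false), (6, 35, false), (3, 105, false), (0, 118, false), (1, 116, false), (2, 109, false), (3, 79, false), (4, 37, false), (5, 22, false), (2, 78, false), (3, 36, false), (4, 23, false), (1, 80, false), (0, 13, false), (1, 117, false), (2,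 82, false), (0, 14, false), (1, 119, false), (2, 118, false), (3, 83, false), (4, 38, false), (2, 81, false), (0, 119, false), (1, 83, false), (2, 39, false), (0, 14, false), (1, 119, false), (2, 83, false), (3, 41, false), (4, 25, false), (1, 82, false), (2, 40, false), (0, 83, false), (1, 41, false), (2, 27, false), (0, 14, false), (1, 83, false), (2, 41, false), (3, 28, false), (2, 4, false), (1, 9, false), (0, 109, false), (1, 65, false), (1, 7, false), (2, 67, false), (0, 93, false), (1, 69, false), (0, 10, false), (1, 94, false), (2, 70, false), (0, 11, false), (1, 110, false), (2, 95, false), (3, 71, false), (0, 12, false), (1, 114, false), (2, 111, false), (3, 96, false), (4, 72, false), (0, 13, false), (1, 117, false), (2, 115, false), (3, 112, false), (4, 97, false), (5, 73, false), (0, 14, false), (1, 119, false), (2, 118, false), (3, 116, false), (4, 113, false), (5, 98, false), (6, 74, false), (5, 8, false), (4, 100, false), (2, 114, false), (3, 102, false), (1, 115, false), (2, 103, false), (3, 1, false), (3, 6, false), (4, 33, false), (2, 9, false), (3, 99, false), (0, 116, false), (1, 109, false),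 (2, 104, false), (3, 86, false), (4, 36, false), (1, 10, false), (2, 105, false), (3, 100, false), (4, 87, false), (5, 37, false), (0, 12, false), (1, 114, false), (2, 111, false), (3, 107, false), (4, 102, false), (5, 89, false), (0, 14, false), (1, 118, false), (2, 116, false), (3, 113, false), (4, 109, false), (5, 104, false), (6, 91, false), (7, 39, false), (0, 118, false), (1, 116, false), (2, 113, false), (3, 109, false), (4, 104, false), (5, 91, false), (6, 41, false), (6, 4, false), (7, 31, false), (5, 7, false), (0, 13, false), (1, 117, false), (2, 115, false), (3, 112, false), (4, 108, false), (5, 103, false), (6, 97, false), (7, 84, false), (8, 67, false), (3, 105, false), (4, 100, false), (5, 94, false), (6, 87, false), (7, 70, false), (8, 34, false), (4, 92, false), (1, 114, false), (2, 107, false), (3, 96, false), (4, 85, false), (5, 68, false), (2, 93, false), (0, 14, false), (1, 119, false), (2, 116, false), (3, 98, false), (4, 86, false), (5, 69, false), (3, 10, false), (4, 94, false), (5, 87, false), (6, 70, false), (7, 35, false), (4, 9, false), (5, 93, false), (0, 119, false), (1, 116, false),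 (2, 113, false), (3, 109, false), (4, 98, false), (5, 86, false), (6, 69, false), (7, 36, false), (1, 12, false), (2, 114, false), (3, 111, false), (4, 107, false), (5, 96, false), (6, 89, false), (7, 72, false), (0, 14, false), (1, 119, false), (2, 118, false), (3, 116, false), (4, 113, false), (5, 109, false), (6, 98, false), (7, 91, false), (8, 74, false), (9, 39, false), (0, 119, false), (1, 118, false), (2, 116, false), (3, 113, false), (4, 109, false), (5, 98, false), (6, 91, false), (7, 74, false), (8, 41, false), (9, 0, false), (8, 15, false), (7, 5, false), (4, 93, false), (0, 14, false), (1, 119, false), (2, 118, false), (3, 116, false), (4, 113, false), (5, 98, false), (6, 86, false), (7, 78, false), (0, 119, false), (1, 118, false), (2, 116, false), (3, 113, false), (4, 98, false), (5, 91, false), (6, 83, false), (7, 65, false), (8, 19, false), (5, 75, false), (3, 94, false), (0, 14, false), (1, 119, false), (2, 118, false), (3, 116, false), (4, 98, false), (5, 79, false), (0, 119, false), (1, 118, false), (2, 116, false), (3, 98, false), (4, 83, false), (5, 66, false), (6, 20, false), (3, 9, false),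 (4, 93, false), (5, 78, false), (6, 69, false), (7, 23, false), (0, 117, false), (1, 115, false), (2, 108, false), (3, 97, false), (4, 82, false), (5, 73, false), (0, 14, false), (1, 118, false), (2, 116, false), (3, 109, false), (4, 98, false), (5, 83, false), (6, 74, false), (7, 27, false), (3, 93, false), (4, 78, false), (5, 69, false), (6, 23, false), (3, 10, false), (4, 94, false), (0, 118, false), (1, 116, false), (2, 113, false), (3, 98, false), (4, 79, false), (5, 70, false), (6, 24, false), (0, 114, false), (1, 111, false), (2, 96, false), (3, 81, false), (4, 72, false), (5, 26, false), (0, 13, false), (1, 115, false), (2, 112, false), (3, 97, false), (4, 82, false), (5, 73, false), (0, 14, false), (1, 119, false), (2, 116, false), (3, 113, false), (4, 98, false), (5, 83, false), (6, 74, false), (7, 27, false), (7, 1, false), (4, 9, false), (5, 93, false), (0, 119, false), (1, 116, false), (2, 113, false), (3, 109, false), (4, 98, false), (5, 65, false), (6, 32, false), (5, 6, false), (2, 105, false), (3, 94, false), (4, 87, false), (0, 14, false), (1, 119, false), (2, 116, false), (3, 109, false), (4,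 98, false), (5, 91, false), (6, 66, false), (7, 33, false), (2, 12, false), (3, 114, false), (4, 107, false), (5, 96, false), (6, 89, false), (7, 72, false), (0, 119, false), (1, 118, false), (2, 116, false), (3, 109, false), (4, 98, false), (5, 91, false), (6, 74, false), (7, 39, false), (0, 117, false), (1, 115, false), (2, 108, false), (3, 97, false), (4, 90, false), (5, 73, false), (6, 40, false)]),
    ([1, 2], [11, 10, 9, 8, 7, 4, 2, 1], [(5, 41, true), (4, 64, true), (3, 74, true), (2, 113, true), (1, 116, true), (0, 119, true), (6, 39, true), (5, 64, true), (4, 74, true), (3, 113, true), (2, 116, true), (1, 119, true), (0, 14, true), (4, 62, true), (3, 72, true), (2, 111, true), (1, 114, true), (6, 38, true), (5, 64, true), (4, 74, true), (3, 113, true), (2, 116, true), (1, 118, true), (0, 119, true), (6, 63, true), (5, 73, true), (4, 112, true), (3, 115, true), (2, 117, true), (1, 13, true), (5, 61, true), (4, 71, true), (3, 110, true), (2, 11, true), (5, 37, true), (4, 60, true), (3, 72, true), (2, 111, true), (1, 12, true), (2, 70, true), (1, 10, true), (3, 35, true), (2, 60, true), (1, 72, true), (2,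 70, true), (4, 59, true), (3, 73, true), (2, 112, true), (1, 117, true), (4, 72, true), (3, 111, true), (2, 12, true), (3, 69, true), (5, 58, true), (4, 68, true), (7, 33, true), (6, 56, true), (5, 66, true), (4, 104, true), (3, 109, true), (2, 113, true), (1, 119, true), (0, 14, true), (3, 100, true), (2, 105, true), (1, 10, true), (6, 32, true), (5, 55, true), (4, 65, true), (3, 91, true), (2, 104, true), (1, 109, true), (0, 119, true), (4, 86, true), (3, 104, true), (2, 109, true), (1, 119, true), (0, 14, true), (2, 99, true), (1, 9, true), (6, 31, true), (5, 54, true), (4, 71, true), (3, 80, true), (2, 88, true), (1, 101, true), (5, 68, true), (4, 77, true), (3, 90, true), (2, 103, true), (1, 115, true), (0, 13, true), (2, 89, true), (1, 102, true), (0, 114, true), (3, 85, true), (2, 102, true), (1, 114, true), (0, 12, true), (1, 8, true), (3, 4, true), (4, 15, false), (1, 75, false), (2, 17, false), (2, 4, false), (3, 18, false), (1, 10, false), (0, 14, false), (1, 116, false), (2, 113, false), (3, 79, false), (4, 70, false), (5, 24, false), (1, 110, false), (2, 80, false), (3, 71, false), (1, 12, false), (2,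 111, false), (3, 81, false), (4, 72, false), (0, 118, false), (1, 113, false), (2, 83, false), (3, 74, false), (4, 25, false), (0, 13, false), (1, 117, false), (2, 112, false), (3, 82, false), (4, 73, false), (0, 14, false), (1, 119, false), (2, 118, false), (3, 113, false), (4, 83, false), (5, 74, false), (6, 27, false), (4, 6, false), (4, 8, false), (2, 111, false), (3, 102, false), (4, 85, false), (2, 100, false), (3, 87, false), (2, 11, false), (3, 101, false), (4, 88, false), (2, 12, false), (3, 114, false), (4, 102, false), (5, 89, false), (0, 119, false), (1, 118, false), (2, 116, false), (3, 104, false), (4, 91, false), (5, 0, false), (5, 1, false), (6, 15, false), (5, 4, false), (6, 31, false), (7, 18, false), (5, 5, false), (3, 9, false), (4, 99, false), (0, 14, false), (1, 119, false), (2, 118, false), (3, 116, false), (4, 109, false), (5, 104, false), (6, 86, false), (7, 78, false), (0, 119, false), (1, 118, false), (2, 116, false), (3, 109, false), (4, 104, false), (5, 91, false), (6, 83, false), (7, 65, false), (8, 32, false), (9, 19, false), (5, 75, false), (3, 10, false), (4, 105, false), (5, 100,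 false), (0, 14, false), (1, 119, false), (2, 118, false), (3, 116, false), (4, 113, false), (5, 109, false), (6, 104, false), (7, 79, false), (0, 119, false), (1, 118, false), (2, 116, false), (3, 113, false), (4, 109, false), (5, 104, false), (6, 83, false), (7, 66, false), (8, 33, false), (9, 20, false), (1, 114, false), (2, 111, false), (3, 107, false), (0, 115, false), (1, 112, false), (2, 108, false), (3, 77, false), (4, 68, false), (2, 78, false), (3, 69, false), (0, 14, false), (1, 116, false), (2, 79, false), (3, 70, false), (4, 35, false), (2, 10, false), (0, 116, false), (1, 113, false), (2, 79, false), (3, 70, false), (4, 37, false), (5, 22, false), (2, 9, false), (3, 78, false), (4, 69, false), (5, 36, false), (6, 23, false), (1, 105, false), (0, 14, false), (1, 116, false), (2, 109, false), (3, 79, false), (4, 70, false), (5, 37, false), (6, 24, false), (1, 12, false), (2, 114, false), (3, 107, false), (4, 81, false), (5, 72, false), (0, 118, false), (1, 116, false), (2, 109, false), (3, 83, false), (4, 74, false), (5, 39, false), (6, 26, false), (0, 13, false), (1, 117, false), (2, 115, false), (3,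 108, false), (4, 82, false), (5, 73, false), (6, 40, false), (0, 14, false), (1, 119, false), (2, 118, false), (3, 116, false), (4, 109, false), (5, 83, false), (6, 74, false), (7, 41, false), (8, 27, false), (0, 119, false), (1, 118, false), (2, 116, false), (3, 109, false), (4, 83, false), (5, 74, false), (6, 41, false), (7, 28, false), (0, 14, false), (1, 119, false), (2, 118, false), (3, 116, false), (4, 65, false), (4, 10, false), (5, 70, false), (1, 117, false), (2, 115, false), (3, 112, false), (4, 73, false), (0, 118, false), (1, 116, false), (2, 113, false), (3, 74, false), (3, 7, false), (3, 8, false), (4, 92, false), (3, 9, false), (4, 99, false), (5, 93, false), (2, 105, false), (3, 100, false), (4, 94, false), (0, 13, false), (1, 117, false), (2, 115, false), (3, 108, false), (4, 103, false), (5, 97, false), (6, 4, false), (5, 67, false), (3, 99, false), (4, 69, false), (3, 10, false), (4, 100, false), (5, 70, false), (0, 117, false), (1, 115, false), (2, 112, false), (3, 103, false), (4, 73, false), (0, 14, false), (1, 118, false), (2, 116, false), (3, 113, false), (4, 104, false), (5, 74, false),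 (6, 0, false), (5, 6, false), (3, 100, false), (4, 87, false), (0, 118, false), (1, 116, false), (2, 104, false), (3, 91, false), (4, 66, false), (5, 20, false), (2, 9, false), (3, 99, false), (0, 14, false), (1, 118, false), (2, 116, false), (3, 109, false), (4, 104, false), (5, 86, false), (6, 69, false), (7, 23, false), (3, 10, false), (4, 105, false), (5, 100, false), (6, 87, false), (7, 70, false), (8, 24, false), (1, 114, false), (2, 111, false), (3, 107, false), (4, 102, false), (5, 89, false), (6, 72, false), (7, 26, false), (1, 13, false), (2, 115, false), (3, 112, false), (4, 108, false), (5, 103, false), (6, 90, false), (7, 73, false), (0, 119, false), (1, 116, false), (2, 113, false), (3, 109, false), (4, 104, false), (5, 91, false), (6, 74, false), (7, 27, false)], [(6, 28, true), (5, 53, true), (4, 74, true), (3, 109, true), (2, 113, true), (1, 116, true), (0, 118, true), (7, 27, true), (6, 53, true), (5, 74, true), (4, 109, true), (3, 113, true), (2, 116, true), (1, 118, true), (0, 14, true), (5, 52, true), (4, 73, true), (3, 108, true), (2, 112, true), (1, 115, true), (0, 117, true), (7, 26, true),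 (6, 51, true), (5, 72, true), (4, 107, true), (3, 111, true), (2, 114, true), (1, 12, true), (6, 25, true), (5, 53, true), (4, 74, true), (3, 109, true), (2, 113, true), (1, 116, true), (0, 119, true), (6, 51, true), (5, 72, true), (4, 107, true), (3, 111, true), (2, 114, true), (7, 50, true), (6, 71, true), (5, 106, true), (4, 110, true), (3, 11, true), (7, 24, true), (6, 49, true), (5, 73, true), (4, 108, true), (3, 112, true), (2, 117, true), (1, 13, true), (4, 70, true), (3, 105, true), (2, 10, true), (5, 23, true), (4, 48, true), (3, 72, true), (2, 107, true), (1, 12, true), (2, 69, true), (1, 9, true), (3, 21, true), (2, 48, true), (1, 72, true), (2, 69, true), (4, 46, true), (3, 67, true), (6, 19, true), (5, 44, true), (4, 65, true), (3, 98, true), (2, 109, true), (1, 118, true), (0, 14, true), (2, 93, true), (1, 9, true), (5, 18, true), (4, 43, true), (3, 71, true), (2, 80, true), (1, 95, true), (4, 67, true), (3, 76, true), (2, 96, true), (1, 114, true), (0, 12, true), (1, 7, true), (2, 4, true), (3, 15, true), (4, 0, true), (4, 0, false), (1, 6, false), (2, 75, false), (3, 29, false), (2, 32, false), (3,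 16, false), (2, 4, false), (3, 31, false), (4, 18, false), (1, 9, false), (0, 14, false), (1, 116, false), (2, 109, false), (3, 86, false), (4, 69, false), (5, 36, false), (6, 23, false), (2, 10, false), (3, 105, false), (4, 87, false), (5, 70, false), (6, 37, false), (7, 24, false), (1, 110, false), (2, 106, false), (3, 88, false), (4, 71, false), (1, 13, false), (2, 112, false), (3, 108, false), (4, 90, false), (5, 73, false), (0, 119, false), (1, 113, false), (2, 109, false), (3, 91, false), (4, 74, false), (5, 38, false), (1, 12, false), (2, 111, false), (3, 107, false), (4, 89, false), (5, 72, false), (0, 14, false), (1, 119, false), (2, 118, false), (3, 113, false), (4, 109, false), (5, 91, false), (6, 74, false), (7, 39, false), (0, 119, false), (1, 118, false), (2, 113, false), (3, 109, false), (4, 91, false), (5, 74, false), (6, 41, false), (7, 25, false), (1, 111, false), (2, 107, false), (3, 89, false), (4, 72, false), (0, 14, false), (1, 119, false), (2, 113, false), (3, 109, false), (4, 91, false), (5, 74, false), (6, 39, false), (7, 26, false), (5, 5, false), (4, 7, false), (1, 112, false), (2, 108,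 false), (3, 97, false), (4, 84, false), (1, 12, false), (2, 111, false), (3, 107, false), (4, 96, false), (5, 89, false), (6, 76, false), (3, 93, false), (0, 118, false), (1, 113, false), (2, 98, false), (3, 86, false), (4, 78, false), (1, 94, false), (2, 87, false), (0, 14, false), (1, 118, false), (2, 98, false), (3, 91, false), (4, 79, false), (2, 11, false), (3, 95, false), (4, 88, false), (5, 80, false), (1, 114, false), (2, 96, false), (3, 89, false), (4, 81, false), (1, 13, false), (2, 115, false), (3, 97, false), (4, 90, false), (5, 82, false), (0, 119, false), (1, 116, false), (2, 98, false), (3, 91, false), (4, 83, false), (5, 1, false), (5, 4, false), (6, 31, false), (2, 9, false), (3, 93, false), (0, 14, false), (1, 119, false), (2, 116, false), (3, 109, false), (4, 98, false), (5, 86, false), (0, 119, false), (1, 116, false), (2, 109, false), (3, 98, false), (4, 91, false), (5, 65, false), (6, 32, false), (0, 115, false), (1, 108, false), (2, 84, false), (3, 67, false), (1, 10, false), (2, 105, false), (3, 87, false), (4, 70, false), (5, 34, false), (0, 14, false), (1, 116, false), (2, 113, false),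 (3, 86, false), (4, 69, false), (5, 36, false), (1, 13, false), (2, 115, false), (3, 112, false), (4, 90, false), (5, 73, false), (6, 40, false), (0, 119, false), (1, 116, false), (2, 113, false), (3, 91, false), (4, 74, false), (5, 41, false), (0, 14, false), (1, 119, false), (2, 116, false), (3, 66, false), (3, 9, false), (4, 69, false), (3, 10, false), (4, 105, false), (5, 70, false), (2, 12, false), (3, 114, false), (4, 111, false), (5, 107, false), (6, 72, false), (0, 119, false), (1, 118, false), (2, 116, false), (3, 113, false), (4, 109, false), (5, 74, false), (5, 8, false), (4, 99, false), (1, 114, false), (2, 111, false), (3, 102, false), (4, 4, false), (4, 7, false), (5, 67, false), (3, 92, false), (4, 68, false), (3, 9, false), (4, 93, false), (5, 69, false), (1, 12, false), (2, 114, false), (3, 111, false), (4, 107, false), (5, 96, false), (6, 72, false), (0, 14, false), (1, 119, false), (2, 118, false), (3, 116, false), (4, 113, false), (5, 109, false), (6, 98, false), (7, 74, false), (8, 0, false), (8, 1, false), (9, 15, false), (7, 5, false), (5, 93, false), (6, 78, false), (0, 119, false), (1, 118,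 false), (2, 116, false), (3, 113, false), (4, 98, false), (5, 83, false), (6, 65, false), (7, 32, false), (8, 19, false), (5, 6, false), (6, 75, false), (3, 94, false), (4, 87, false), (0, 14, false), (1, 119, false), (2, 118, false), (3, 116, false), (4, 98, false), (5, 91, false), (6, 79, false), (0, 119, false), (1, 118, false), (2, 116, false), (3, 98, false), (4, 91, false), (5, 83, false), (6, 66, false), (7, 33, false), (8, 20, false), (3, 9, false), (4, 93, false), (0, 14, false), (1, 119, false), (2, 118, false), (3, 116, false), (4, 109, false), (5, 98, false), (6, 86, false), (7, 78, false), (8, 69, false), (9, 36, false), (10, 23, false), (1, 117, false), (2, 115, false), (3, 108, false), (4, 97, false), (5, 90, false), (6, 82, false), (7, 73, false), (8, 40, false), (0, 118, false), (1, 116, false), (2, 109, false), (3, 98, false), (4, 91, false), (5, 83, false), (6, 74, false), (7, 41, false), (8, 27, false)])]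

/-- A conjugation. -/
def twoUSixFus4 : Schur.Tails.Fus where
  xs := [[13, 12, 11, 10, 8, 7, 6, 4, 0], [14, 7, 5, 3, 2, 1, 0], [12, 9, 6, 5, 3, 2, 0], [14, 13, 9, 6, 5, 0], [14, 11, 9, 8, 7, 6, 3, 2, 0], [13, 12, 11, 7, 2, 0], [14, 12, 11, 1], [14, 12, 10, 9, 8, 7, 6, 5, 3, 2], [13, 10, 7, 6, 2], [14, 13, 12, 11, 9, 7, 5, 2], [13, 10, 6], [14, 13, 11, 7, 2], [13, 12, 9, 5], [13, 10, 9, 8, 7, 6, 5, 3, 2], [14, 12, 9, 8, 7, 5, 3, 2]]
  ys := [[12, 11, 9, 7, 5, 4, 1], [14, 8, 6, 5, 2, 0], [13, 10, 9, 6, 2, 1], [14, 13, 12, 10, 9, 6, 1], [14, 11, 10, 9, 7, 5, 2, 1], [12, 11, 8, 3, 1], [14, 13, 11, 1, 0], [14, 13, 10, 7, 6, 2], [13, 12, 9, 8, 5, 3], [14, 12, 11, 10, 9, 8, 6, 5, 3], [13, 12, 9, 5], [14, 13, 12, 11, 8, 3], [12, 10, 9, 6, 5], [13, 12, 10, 7, 6, 2], [14, 13, 10, 9, 7, 6, 5, 2]]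
  rels := [
    ([0, 0], [13, 12, 9, 8, 4, 3], [(8, 27, true), (7, 74, true), (6, 91, true), (5, 98, true), (4, 104, true), (3, 113, true), (2, 116, true), (1, 118, true), (0, 119, true), (8, 73, true), (7, 90, true), (6, 97, true), (5, 103, true), (4, 112, true), (3, 115, true), (2, 117, true), (1, 13, true), (8, 26, true), (7, 72, true), (6, 89, true), (5, 96, true), (4, 102, true), (3, 111, true), (2, 114, true), (1, 12, true), (7, 25, true), (6, 74, true), (5, 91, true), (4, 98, true), (3, 104, true), (2, 113, true), (1, 116, true), (0, 14, true), (5, 72, true), (4, 89, true), (3, 96, true), (2, 102, true), (1, 111, true), (0, 114, true), (6, 71, true), (5, 88, true), (4, 95, true), (3, 101, true), (2, 110, true), (1, 11, true), (6, 24, true), (5, 70, true), (4, 87, true), (3, 94, true), (2, 100, true), (1, 10, true), (5, 22, true), (4, 70, true), (3, 87, true), (2, 94, true), (1, 100, true), (5, 68, true), (4, 85, true), (3, 96, true), (2, 102, true), (1, 111, true), (0, 12, true), (2, 92, true), (1, 8, true), (4, 21, true), (3, 69, true), (2, 86, true), (1, 98, true), (0, 113, true), (2, 93, true), (5, 67,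 true), (4, 84, true), (3, 97, true), (2, 108, true), (1, 112, true), (4, 7, true), (6, 20, true), (5, 66, true), (4, 91, true), (3, 109, true), (2, 113, true), (1, 119, true), (0, 14, true), (3, 87, true), (2, 105, true), (1, 10, true), (2, 6, true), (3, 18, true), (2, 4, true), (2, 0, true), (2, 0, false), (2, 5, false), (3, 19, false), (2, 6, false), (3, 75, false), (4, 20, false), (0, 14, false), (1, 119, false), (2, 86, false), (3, 78, false), (4, 23, false), (1, 90, false), (2, 82, false), (0, 91, false), (1, 83, false), (2, 27, false), (0, 14, false), (1, 91, false), (2, 83, false), (3, 28, false), (3, 2, false), (3, 3, false), (4, 42, false), (1, 75, false), (2, 56, false), (3, 45, false), (1, 7, false), (1, 12, false), (2, 96, false), (3, 76, false), (2, 11, false), (3, 95, false), (4, 80, false), (5, 57, false), (6, 46, false), (3, 8, false), (4, 92, false), (1, 114, false), (2, 102, false), (3, 96, false), (1, 13, false), (2, 115, false), (3, 103, false), (4, 97, false), (5, 77, false), (6, 58, false), (2, 101, false), (3, 95, false), (4, 80, false), (5, 61, false), (6, 47, false), (2, 9, false), (3, 99,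 false), (4, 93, false), (5, 78, false), (2, 12, false), (3, 107, false), (4, 102, false), (5, 96, false), (6, 81, false), (1, 117, false), (2, 108, false), (3, 103, false), (4, 97, false), (5, 82, false), (6, 59, false), (1, 107, false), (2, 102, false), (3, 96, false), (4, 81, false), (5, 62, false), (6, 48, false), (1, 11, false), (2, 106, false), (3, 101, false), (4, 95, false), (5, 80, false), (6, 61, false), (7, 50, false), (0, 116, false), (1, 109, false), (2, 104, false), (3, 98, false), (4, 83, false), (5, 64, false), (6, 53, false), (4, 6, false), (5, 75, false), (6, 56, false), (0, 13, false), (1, 115, false), (2, 108, false), (3, 103, false), (4, 84, false), (1, 12, false), (2, 114, false), (3, 107, false), (4, 102, false), (5, 89, false), (6, 76, false), (2, 106, false), (3, 101, false), (4, 88, false), (5, 80, false), (6, 57, false), (2, 10, false), (3, 105, false), (4, 100, false), (5, 87, false), (0, 14, false), (1, 119, false), (2, 118, false), (3, 113, false), (4, 109, false), (5, 104, false), (6, 91, false), (7, 79, false), (2, 111, false), (3, 107, false), (4, 102, false), (5, 89, false), (6,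 81, false), (7, 60, false), (1, 112, false), (2, 108, false), (3, 103, false), (4, 90, false), (5, 82, false), (6, 63, false), (7, 2, false), (5, 55, false), (6, 44, false), (4, 7, false), (1, 13, false), (2, 112, false), (3, 108, false), (4, 103, false), (5, 97, false), (6, 84, false), (2, 11, false), (3, 110, false), (4, 106, false), (5, 101, false), (6, 95, false), (7, 88, false), (8, 57, false), (9, 46, false), (4, 99, false), (5, 93, false), (0, 119, false), (1, 116, false), (2, 113, false), (3, 104, false), (4, 98, false), (5, 86, false), (1, 12, false), (2, 114, false), (3, 111, false), (4, 102, false), (5, 96, false), (6, 89, false), (0, 117, false), (1, 115, false), (2, 112, false), (3, 103, false), (4, 97, false), (5, 90, false), (6, 59, false), (0, 114, false), (1, 111, false), (2, 102, false), (3, 96, false), (4, 89, false), (5, 62, false), (6, 48, false), (0, 110, false), (1, 101, false), (2, 95, false), (3, 88, false), (4, 61, false), (5, 50, false), (0, 12, false), (1, 111, false), (2, 102, false), (3, 96, false), (4, 89, false), (5, 62, false), (6, 51, false), (0, 13, false), (1, 117, false), (2,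 112, false), (3, 103, false), (4, 97, false), (5, 90, false), (6, 63, false), (7, 52, false), (0, 14, false), (1, 119, false), (2, 118, false), (3, 113, false), (4, 104, false), (5, 98, false), (6, 91, false), (7, 64, false), (8, 53, false), (7, 5, false), (8, 55, false), (9, 44, false), (4, 9, false), (5, 99, false), (6, 93, false), (0, 119, false), (1, 118, false), (2, 113, false), (3, 109, false), (4, 104, false), (5, 98, false), (6, 86, false), (7, 78, false), (1, 111, false), (2, 107, false), (3, 102, false), (4, 96, false), (5, 89, false), (6, 81, false), (0, 112, false), (1, 108, false), (2, 103, false), (3, 97, false), (4, 90, false), (5, 82, false), (6, 59, false), (0, 12, false), (1, 111, false), (2, 107, false), (3, 102, false), (4, 96, false), (5, 89, false), (6, 81, false), (7, 62, false), (8, 48, false), (0, 111, false), (1, 107, false), (2, 102, false), (3, 96, false), (4, 89, false), (5, 81, false), (6, 62, false), (7, 51, false), (0, 13, false), (1, 112, false), (2, 108, false), (3, 103, false), (4, 97, false), (5, 90, false), (6, 82, false), (7, 63, false), (8, 52, false)], [(6, 39, true), (5,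 74, true), (4, 83, true), (3, 98, true), (2, 109, true), (1, 116, true), (0, 118, true), (6, 72, true), (5, 81, true), (4, 96, true), (3, 107, true), (2, 114, true), (1, 12, true), (6, 38, true), (5, 74, true), (4, 83, true), (3, 98, true), (2, 109, true), (1, 116, true), (0, 14, true), (4, 73, true), (3, 82, true), (2, 97, true), (1, 108, true), (0, 115, true), (5, 71, true), (4, 80, true), (3, 95, true), (2, 106, true), (1, 11, true), (5, 36, true), (4, 69, true), (3, 78, true), (2, 93, true), (1, 9, true), (4, 34, true), (3, 70, true), (2, 79, true), (1, 98, true), (0, 119, true), (2, 94, true), (5, 67, true), (4, 76, true), (3, 96, true), (2, 111, true), (4, 7, true), (6, 32, true), (5, 65, true), (4, 83, true), (3, 113, true), (2, 118, true), (1, 119, true), (0, 14, true), (3, 78, true), (4, 5, true), (5, 31, true), (4, 4, true), (4, 1, true), (4, 1, false), (4, 6, false), (5, 33, false), (0, 14, false), (1, 119, false), (2, 118, false), (3, 113, false), (4, 86, false), (5, 36, false), (3, 87, false), (4, 37, false), (2, 89, false), (0, 119, false), (1, 91, false), (2, 39, false), (0, 90, false), (1, 40, false),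 (0, 14, false), (1, 91, false), (2, 41, false), (2, 2, false), (2, 5, false), (3, 44, false), (1, 7, false), (1, 13, false), (2, 97, false), (3, 84, false), (2, 12, false), (3, 96, false), (4, 89, false), (5, 76, false), (6, 46, false), (3, 9, false), (4, 93, false), (0, 119, false), (1, 118, false), (2, 109, false), (3, 98, false), (4, 86, false), (5, 78, false), (1, 107, false), (2, 96, false), (3, 89, false), (4, 81, false), (5, 48, false), (1, 10, false), (2, 105, false), (3, 94, false), (4, 87, false), (0, 14, false), (1, 119, false), (2, 113, false), (3, 109, false), (4, 98, false), (5, 91, false), (6, 79, false), (1, 112, false), (2, 108, false), (3, 97, false), (4, 90, false), (5, 82, false), (6, 49, false), (1, 11, false), (2, 110, false), (3, 106, false), (4, 95, false), (5, 88, false), (6, 80, false), (7, 50, false), (0, 116, false), (1, 113, false), (2, 109, false), (3, 98, false), (4, 91, false), (5, 83, false), (6, 53, false), (6, 3, false), (7, 42, false), (5, 55, false), (6, 44, false), (3, 8, false), (4, 92, false), (0, 12, false), (1, 114, false), (2, 111, false), (3, 107, false), (4, 102, false),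 (5, 96, false), (6, 85, false), (7, 58, false), (1, 110, false), (2, 106, false), (3, 101, false), (4, 95, false), (5, 88, false), (6, 61, false), (7, 47, false), (2, 99, false), (3, 93, false), (0, 14, false), (1, 118, false), (2, 113, false), (3, 104, false), (4, 98, false), (5, 86, false), (1, 111, false), (2, 102, false), (3, 96, false), (4, 89, false), (1, 13, false), (2, 112, false), (3, 103, false), (4, 97, false), (5, 90, false), (6, 59, false), (2, 12, false), (3, 111, false), (4, 102, false), (5, 96, false), (6, 89, false), (7, 62, false), (8, 48, false), (2, 111, false), (3, 102, false), (4, 96, false), (5, 89, false), (6, 62, false), (7, 51, false), (1, 112, false), (2, 103, false), (3, 97, false), (4, 90, false), (5, 63, false), (6, 52, false), (5, 42, false), (5, 5, false), (6, 44, false), (4, 75, false), (5, 45, false), (2, 92, false), (1, 12, false), (2, 111, false), (3, 96, false), (1, 13, false), (2, 117, false), (3, 112, false), (4, 97, false), (5, 77, false), (3, 11, false), (4, 110, false), (5, 95, false), (6, 80, false), (7, 47, false), (5, 9, false), (6, 93, false), (7, 78, false), (2, 114,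 false), (3, 111, false), (4, 107, false), (5, 96, false), (6, 81, false), (7, 48, false), (3, 105, false), (4, 94, false), (0, 119, false), (1, 116, false), (2, 109, false), (3, 98, false), (4, 79, false), (0, 115, false), (1, 108, false), (2, 97, false), (3, 82, false), (4, 49, false), (0, 106, false), (1, 95, false), (2, 80, false), (3, 50, false), (0, 12, false), (1, 107, false), (2, 96, false), (3, 81, false), (4, 51, false), (0, 14, false), (1, 118, false), (2, 109, false), (3, 98, false), (4, 83, false), (5, 53, false), (4, 44, false), (4, 6, false), (5, 45, false), (2, 93, false), (0, 118, false), (1, 98, false), (2, 86, false), (0, 96, false), (1, 89, false), (2, 48, false), (0, 10, false), (1, 94, false), (2, 87, false), (0, 13, false), (1, 112, false), (2, 97, false), (3, 90, false), (4, 49, false), (1, 12, false), (2, 111, false), (3, 96, false), (4, 89, false), (5, 51, false)]),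
    ([2, 2], [14, 11, 9, 8, 5, 4], [(6, 26, true), (5, 51, true), (4, 62, true), (3, 81, true), (2, 89, true), (1, 107, true), (0, 12, true), (5, 23, true), (4, 48, true), (3, 62, true), (2, 81, true), (1, 89, true), (0, 107, true), (4, 59, true), (3, 82, true), (2, 90, true), (1, 108, true), (0, 117, true), (4, 81, true), (3, 89, true), (2, 107, true), (1, 12, true), (3, 78, true), (2, 86, true), (1, 109, true), (0, 119, true), (2, 9, true), (6, 20, true), (5, 45, true), (4, 56, true), (3, 75, true), (2, 6, true), (5, 19, true), (4, 44, true), (3, 55, true), (2, 5, true), (4, 17, true), (3, 45, true), (2, 56, true), (4, 42, true), (3, 3, true), (4, 16, true), (3, 44, true), (4, 2, true), (4, 0, true), (4, 0, false), (4, 2, false), (3, 44, false), (4, 16, false), (3, 3, false), (4, 42, false), (2, 56, false), (3, 45, false), (4, 17, false), (2, 6, false), (3, 56, false), (4, 45, false), (5, 20, false), (2, 7, false), (1, 97, false), (2, 84, false), (1, 11, false), (2, 95, false), (3, 88, false), (4, 57, false), (5, 46, false), (2, 9, false), (3, 93, false), (0, 116, false), (1, 109, false), (2, 98, false), (3, 86,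 false), (0, 12, false), (1, 114, false), (2, 107, false), (3, 96, false), (4, 89, false), (0, 13, false), (1, 117, false), (2, 115, false), (3, 108, false), (4, 97, false), (5, 90, false), (6, 59, false), (1, 114, false), (2, 107, false), (3, 96, false), (4, 89, false), (5, 62, false), (6, 48, false), (7, 21, false), (3, 8, false), (4, 92, false), (1, 12, false), (2, 114, false), (3, 107, false), (4, 102, false), (5, 96, false), (6, 85, false), (7, 58, false), (2, 106, false), (3, 101, false), (4, 95, false), (5, 88, false), (6, 61, false), (7, 47, false), (2, 10, false), (3, 105, false), (4, 100, false), (5, 94, false), (6, 87, false), (1, 111, false), (2, 107, false), (3, 102, false), (4, 96, false), (5, 89, false), (6, 60, false), (0, 112, false), (1, 108, false), (2, 103, false), (3, 97, false), (4, 90, false), (5, 63, false), (6, 49, false), (7, 22, false), (1, 99, false), (2, 93, false), (0, 14, false), (1, 113, false), (2, 104, false), (3, 98, false), (4, 86, false), (1, 12, false), (2, 111, false), (3, 102, false), (4, 96, false), (5, 89, false), (1, 13, false), (2, 117, false), (3, 112, false), (4, 103,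 false), (5, 97, false), (6, 90, false), (7, 59, false), (2, 111, false), (3, 102, false), (4, 96, false), (5, 89, false), (6, 62, false), (7, 48, false), (8, 23, false), (2, 11, false), (3, 110, false), (4, 101, false), (5, 95, false), (6, 88, false), (7, 61, false), (8, 50, false), (2, 12, false), (3, 114, false), (4, 111, false), (5, 102, false), (6, 96, false), (7, 89, false), (8, 62, false), (9, 51, false), (0, 119, false), (1, 118, false), (2, 116, false), (3, 113, false), (4, 104, false), (5, 98, false), (6, 91, false), (7, 64, false), (8, 53, false), (9, 25, false), (0, 14, false), (1, 119, false), (2, 118, false), (3, 116, false), (4, 113, false), (5, 104, false), (6, 98, false), (7, 91, false), (8, 64, false), (9, 53, false), (10, 28, false), (1, 117, false), (2, 115, false), (3, 112, false), (4, 103, false), (5, 84, false), (2, 110, false), (3, 101, false), (4, 88, false), (5, 57, false), (2, 11, false), (3, 110, false), (4, 101, false), (5, 88, false), (6, 61, false), (1, 114, false), (2, 111, false), (3, 102, false), (4, 89, false), (5, 62, false), (1, 13, false), (2, 115, false), (3, 112, false), (4,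 103, false), (5, 90, false), (6, 63, false), (7, 2, false), (5, 56, false), (6, 45, false), (5, 7, false), (2, 110, false), (3, 101, false), (4, 95, false), (5, 57, false), (6, 46, false), (2, 100, false), (3, 94, false), (2, 12, false), (3, 102, false), (4, 96, false), (5, 60, false), (1, 117, false), (2, 103, false), (3, 97, false), (4, 63, false), (5, 49, false), (1, 13, false), (2, 117, false), (3, 103, false), (4, 97, false), (5, 63, false), (6, 52, false), (5, 5, false), (6, 55, false), (2, 102, false), (3, 76, false), (2, 11, false), (3, 101, false), (4, 80, false), (5, 57, false), (3, 9, false), (4, 99, false), (5, 78, false), (2, 12, false), (3, 114, false), (4, 107, false), (5, 102, false), (6, 81, false), (1, 117, false), (2, 115, false), (3, 108, false), (4, 103, false), (5, 82, false), (6, 59, false), (2, 106, false), (3, 101, false), (4, 80, false), (5, 61, false), (1, 107, false), (2, 102, false), (3, 81, false), (4, 62, false), (1, 13, false), (2, 108, false), (3, 103, false), (4, 82, false), (5, 63, false), (0, 119, false), (1, 109, false), (2, 104, false), (3, 83, false), (4, 64, false), (5, 2,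 false), (3, 7, false), (1, 12, false), (2, 107, false), (3, 102, false), (4, 96, false), (5, 76, false), (2, 11, false), (3, 106, false), (4, 101, false), (5, 95, false), (6, 80, false), (7, 57, false), (8, 46, false), (2, 106, false), (3, 101, false), (4, 95, false), (5, 80, false), (6, 61, false), (7, 50, false), (0, 117, false), (1, 108, false), (2, 103, false), (3, 97, false), (4, 82, false), (5, 63, false), (6, 52, false), (0, 14, false), (1, 118, false), (2, 109, false), (3, 104, false), (4, 98, false), (5, 83, false), (6, 64, false), (7, 53, false)], [(5, 40, true), (4, 52, true), (3, 90, true), (2, 108, true), (1, 112, true), (0, 13, true), (4, 37, true), (3, 49, true), (2, 90, true), (1, 108, true), (0, 112, true), (3, 87, true), (2, 105, true), (1, 10, true), (4, 36, true), (3, 48, true), (2, 89, true), (1, 107, true), (3, 86, true), (2, 109, true), (1, 118, true), (0, 119, true), (3, 9, true), (5, 33, true), (4, 45, true), (3, 6, true), (4, 29, true), (3, 45, true), (4, 2, true), (4, 1, true), (4, 1, false), (4, 2, false), (3, 45, false), (4, 29, false), (3, 5, false), (4, 44, false), (5, 32, false),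 (3, 7, false), (2, 96, false), (3, 76, false), (4, 46, false), (2, 10, false), (3, 94, false), (0, 119, false), (1, 113, false), (2, 98, false), (3, 79, false), (0, 112, false), (1, 97, false), (2, 82, false), (3, 49, false), (4, 34, false), (1, 9, false), (2, 93, false), (3, 78, false), (0, 12, false), (1, 111, false), (2, 107, false), (3, 96, false), (4, 81, false), (5, 48, false), (6, 36, false), (1, 105, false), (2, 94, false), (0, 14, false), (1, 118, false), (2, 109, false), (3, 98, false), (4, 79, false), (1, 13, false), (2, 117, false), (3, 108, false), (4, 97, false), (5, 82, false), (6, 49, false), (7, 37, false), (3, 11, false), (4, 106, false), (5, 95, false), (6, 80, false), (7, 50, false), (1, 117, false), (2, 115, false), (3, 108, false), (4, 97, false), (5, 82, false), (6, 52, false), (0, 118, false), (1, 116, false), (2, 109, false), (3, 98, false), (4, 83, false), (5, 53, false), (6, 38, false), (0, 14, false), (1, 118, false), (2, 116, false), (3, 109, false), (4, 98, false), (5, 83, false), (6, 53, false), (7, 41, false), (6, 3, false), (7, 42, false), (4, 8, false), (5, 92, false), (1, 114,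 false), (2, 107, false), (3, 102, false), (4, 96, false), (1, 13, false), (2, 115, false), (3, 108, false), (4, 103, false), (5, 97, false), (6, 77, false), (7, 58, false), (2, 106, false), (3, 101, false), (4, 95, false), (5, 80, false), (6, 61, false), (7, 47, false), (2, 11, false), (3, 106, false), (4, 101, false), (5, 95, false), (6, 80, false), (7, 61, false), (8, 50, false), (2, 12, false), (3, 114, false), (4, 107, false), (5, 102, false), (6, 96, false), (7, 81, false), (8, 62, false), (9, 51, false), (8, 42, false), (7, 44, false), (5, 92, false), (3, 106, false), (4, 95, false), (5, 47, false), (3, 93, false), (2, 96, false), (3, 48, false), (2, 12, false), (3, 96, false), (4, 51, false), (1, 117, false), (2, 97, false), (3, 52, false), (3, 3, false), (4, 42, false), (3, 5, false), (4, 55, false), (5, 44, false), (3, 6, false), (4, 75, false), (5, 56, false), (6, 45, false), (2, 8, false), (3, 92, false), (1, 102, false), (2, 96, false), (3, 85, false), (1, 12, false), (2, 102, false), (3, 96, false), (4, 89, false), (1, 13, false), (2, 117, false), (3, 103, false), (4, 97, false), (5, 90, false), (6,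 77, false), (7, 58, false), (3, 11, false), (4, 101, false), (5, 95, false), (6, 88, false), (7, 80, false), (8, 61, false), (9, 47, false), (4, 9, false), (5, 99, false), (6, 93, false), (0, 119, false), (1, 118, false), (2, 116, false), (3, 109, false), (4, 104, false), (5, 98, false), (6, 86, false), (7, 78, false), (1, 114, false), (2, 107, false), (3, 102, false), (4, 96, false), (5, 89, false), (6, 81, false), (0, 115, false), (1, 108, false), (2, 103, false), (3, 97, false), (4, 90, false), (5, 82, false), (6, 59, false), (0, 12, false), (1, 114, false), (2, 107, false), (3, 102, false), (4, 96, false), (5, 89, false), (6, 81, false), (7, 62, false), (8, 48, false), (2, 10, false), (3, 105, false), (4, 100, false), (5, 94, false), (6, 87, false), (0, 14, false), (1, 118, false), (2, 116, false), (3, 113, false), (4, 109, false), (5, 104, false), (6, 98, false), (7, 91, false), (8, 79, false), (1, 114, false), (2, 111, false), (3, 107, false), (4, 102, false), (5, 96, false), (6, 89, false), (7, 81, false), (8, 60, false), (1, 13, false), (2, 115, false), (3, 112, false), (4, 108, false), (5, 103, false),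 (6, 97, false), (7, 90, false), (8, 82, false), (9, 63, false), (10, 49, false), (2, 110, false), (3, 106, false), (4, 101, false), (5, 95, false), (6, 88, false), (7, 80, false), (8, 61, false), (9, 50, false), (2, 12, false), (3, 111, false), (4, 107, false), (5, 102, false), (6, 96, false), (7, 89, false), (8, 81, false), (9, 62, false), (10, 51, false), (0, 119, false), (1, 118, false), (2, 113, false), (3, 109, false), (4, 104, false), (5, 98, false), (6, 91, false), (7, 83, false), (8, 64, false), (9, 53, false), (8, 42, false), (4, 92, false), (1, 111, false), (2, 107, false), (3, 96, false), (4, 85, false), (1, 12, false), (2, 111, false), (3, 107, false), (4, 96, false), (5, 89, false), (0, 117, false), (1, 112, false), (2, 108, false), (3, 97, false), (4, 90, false), (5, 77, false), (1, 11, false), (2, 110, false), (3, 106, false), (4, 95, false), (5, 88, false), (6, 80, false), (7, 47, false), (1, 110, false), (2, 106, false), (3, 95, false), (4, 88, false), (5, 80, false), (6, 50, false), (0, 111, false), (1, 107, false), (2, 96, false), (3, 89, false), (4, 81, false), (5, 51, false), (0, 13, false),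 (1, 112, false), (2, 108, false), (3, 97, false), (4, 90, false), (5, 82, false), (6, 52, false), (0, 14, false), (1, 119, false), (2, 113, false), (3, 109, false), (4, 98, false), (5, 91, false), (6, 83, false), (7, 53, false)]),
    ([3, 3], [], [(5, 28, true), (4, 83, true), (3, 91, true), (2, 109, true), (1, 119, true), (0, 14, true), (4, 27, true), (3, 83, true), (2, 91, true), (1, 109, true), (0, 119, true), (4, 82, true), (3, 90, true), (2, 108, true), (1, 13, true), (4, 23, true), (3, 78, true), (2, 86, true), (1, 109, true), (0, 14, true), (0, 9, true), (2, 20, true), (1, 75, true), (0, 6, true), (1, 19, true), (0, 5, true), (0, 0, true)], [(6, 41, true), (5, 91, true), (4, 109, true), (3, 113, true), (2, 118, true), (1, 119, true), (0, 14, true), (5, 40, true), (4, 90, true), (3, 108, true), (2, 112, true), (1, 117, true), (0, 13, true), (4, 39, true), (3, 91, true), (2, 109, true), (1, 113, true), (0, 118, true), (4, 89, true), (3, 107, true), (2, 111, true), (1, 12, true), (4, 37, true), (3, 87, true), (2, 105, true), (1, 10, true), (3, 36, true), (2, 86, true), (1, 109, true), (0, 14, true), (0, 9,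 true), (1, 33, true), (0, 6, true), (0, 1, true)]),
    ([4, 4], [12, 10], [(8, 28, true), (7, 53, true), (6, 64, true), (5, 91, true), (4, 98, true), (3, 104, true), (2, 109, true), (1, 116, true), (0, 14, true), (7, 25, true), (6, 53, true), (5, 64, true), (4, 91, true), (3, 98, true), (2, 104, true), (1, 109, true), (0, 116, true), (7, 51, true), (6, 62, true), (5, 89, true), (4, 96, true), (3, 102, true), (2, 107, true), (1, 114, true), (8, 50, true), (7, 61, true), (6, 88, true), (5, 95, true), (4, 101, true), (3, 106, true), (2, 11, true), (8, 23, true), (7, 48, true), (6, 62, true), (5, 89, true), (4, 96, true), (3, 102, true), (2, 107, true), (1, 12, true), (5, 59, true), (4, 90, true), (3, 97, true), (2, 103, true), (1, 108, true), (5, 89, true), (4, 96, true), (3, 102, true), (2, 107, true), (6, 86, true), (5, 98, true), (4, 104, true), (3, 109, true), (2, 118, true), (1, 119, true), (0, 14, true), (4, 93, true), (3, 99, true), (2, 9, true), (7, 22, true), (6, 49, true), (5, 63, true), (4, 90, true), (3, 97, true), (2, 103, true), (1, 117, true), (0, 13, true), (4, 60, true), (3, 89, true), (2, 96, true),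 (1, 102, true), (0, 12, true), (2, 87, true), (1, 94, true), (0, 100, true), (5, 47, true), (4, 61, true), (3, 88, true), (2, 95, true), (1, 101, true), (0, 110, true), (5, 58, true), (4, 85, true), (3, 96, true), (2, 102, true), (1, 111, true), (0, 114, true), (4, 92, true), (3, 8, true), (7, 21, true), (6, 48, true), (5, 62, true), (4, 89, true), (3, 96, true), (2, 111, true), (1, 114, true), (0, 12, true), (4, 59, true), (3, 90, true), (2, 97, true), (1, 112, true), (0, 115, true), (4, 89, true), (3, 96, true), (2, 111, true), (1, 114, true), (5, 86, true), (4, 98, true), (3, 113, true), (2, 116, true), (1, 118, true), (0, 119, true), (5, 93, true), (9, 46, true), (8, 57, true), (7, 88, true), (6, 95, true), (5, 106, true), (4, 110, true), (3, 11, true), (6, 84, true), (5, 97, true), (4, 108, true), (3, 112, true), (2, 117, true), (1, 13, true), (4, 7, true), (7, 20, true), (6, 45, true), (5, 56, true), (4, 6, true), (6, 17, true), (5, 45, true), (4, 56, true), (6, 42, true), (5, 3, true), (6, 16, true), (5, 44, true), (6, 2, true), (6, 0, true), (4, 75, false), (2, 105, false), (0, 118, false), (1, 109, false),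 (2, 79, false), (0, 13, false), (1, 117, false), (2, 108, false), (3, 82, false)], [(7, 41, true), (6, 53, true), (5, 83, true), (4, 98, true), (3, 109, true), (2, 113, true), (1, 116, true), (0, 14, true), (6, 38, true), (5, 53, true), (4, 83, true), (3, 98, true), (2, 109, true), (1, 113, true), (0, 116, true), (6, 52, true), (5, 82, true), (4, 97, true), (3, 108, true), (2, 112, true), (1, 115, true), (7, 50, true), (6, 80, true), (5, 95, true), (4, 106, true), (3, 110, true), (2, 11, true), (7, 37, true), (6, 49, true), (5, 82, true), (4, 97, true), (3, 108, true), (2, 112, true), (1, 13, true), (4, 79, true), (3, 98, true), (2, 109, true), (1, 113, true), (0, 14, true), (2, 94, true), (1, 105, true), (0, 10, true), (4, 36, true), (3, 48, true), (2, 81, true), (1, 96, true), (0, 107, true), (3, 78, true), (2, 93, true), (1, 9, true), (4, 34, true), (3, 49, true), (2, 82, true), (1, 97, true), (0, 117, true), (3, 79, true), (2, 98, true), (1, 118, true), (0, 119, true), (3, 94, true), (6, 46, true), (5, 76, true), (4, 96, true), (3, 111, true), (2, 12, true), (3, 7, true), (5, 32, true), (4, 44, true), (3, 5,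 true), (4, 29, true), (3, 45, true), (4, 2, true), (4, 1, true), (4, 5, false), (3, 9, false), (0, 119, false), (1, 113, false), (2, 109, false), (3, 86, false), (4, 78, false), (1, 12, false), (2, 111, false), (3, 107, false), (4, 89, false), (5, 81, false), (0, 117, false), (1, 112, false), (2, 108, false), (3, 90, false), (4, 82, false)]),
    ([5, 5], [11, 9], [(5, 27, true), (4, 53, true), (3, 98, true), (2, 116, true), (1, 118, true), (0, 119, true), (5, 52, true), (4, 97, true), (3, 115, true), (2, 117, true), (1, 13, true), (5, 26, true), (4, 51, true), (3, 96, true), (2, 114, true), (1, 12, true), (4, 25, true), (3, 53, true), (2, 98, true), (1, 116, true), (0, 14, true), (2, 51, true), (1, 96, true), (0, 114, true), (3, 50, true), (2, 95, true), (1, 11, true), (3, 21, true), (2, 48, true), (1, 96, true), (0, 12, true), (0, 93, true), (2, 46, true), (1, 7, true), (2, 16, true), (1, 44, true), (2, 2, true), (2, 0, true), (2, 2, false), (1, 44, false), (1, 7, false), (2, 46, false), (0, 93, false), (0, 12, false), (1, 96, false), (2, 48, false), (1, 11, false), (2, 95, false), (3, 50, false), (0, 114, false),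 (1, 96, false), (2, 51, false), (0, 13, false), (1, 115, false), (2, 97, false), (3, 52, false), (0, 14, false), (1, 119, false), (2, 116, false), (3, 98, false), (4, 53, false)], [(4, 39, true), (3, 64, true), (2, 104, true), (1, 116, true), (0, 118, true), (4, 62, true), (3, 102, true), (2, 114, true), (1, 12, true), (4, 38, true), (3, 64, true), (2, 104, true), (1, 116, true), (0, 14, true), (2, 63, true), (1, 103, true), (0, 115, true), (3, 61, true), (2, 101, true), (1, 11, true), (3, 35, true), (2, 60, true), (1, 102, true), (2, 100, true), (4, 59, true), (3, 103, true), (2, 112, true), (1, 117, true), (0, 13, true), (2, 102, true), (1, 111, true), (0, 12, true), (1, 99, true), (3, 58, true), (2, 8, true), (3, 30, true), (2, 56, true), (3, 55, true), (4, 3, true), (4, 1, true), (4, 3, false), (3, 55, false), (2, 56, false), (2, 8, false), (3, 58, false), (1, 99, false), (0, 12, false), (1, 111, false), (2, 102, false), (0, 13, false), (1, 117, false), (2, 112, false), (3, 103, false), (4, 59, false), (2, 100, false), (1, 102, false), (2, 60, false), (1, 11, false), (2, 101, false), (3, 61, false), (1, 12,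 false), (2, 114, false), (3, 102, false), (4, 62, false), (0, 14, false), (1, 119, false), (2, 118, false), (3, 116, false), (4, 104, false), (5, 64, false)]),
    ([6, 6], [14, 13, 10], [(3, 41, true), (2, 116, true), (1, 118, true), (0, 14, true), (2, 39, true), (1, 116, true), (0, 118, true), (2, 114, true), (1, 12, true), (2, 38, true), (1, 116, true), (0, 14, true), (0, 115, true), (1, 11, true), (1, 1, true), (1, 6, false), (1, 10, false), (2, 87, false), (0, 112, false), (1, 90, false), (2, 2, false), (2, 3, false), (3, 42, false), (2, 5, false), (3, 55, false), (4, 44, false), (1, 75, false), (2, 56, false), (3, 45, false), (1, 7, false), (0, 12, false), (1, 111, false), (2, 96, false), (3, 76, false), (1, 11, false), (2, 110, false), (3, 95, false), (4, 80, false), (5, 57, false), (6, 46, false), (3, 8, false), (4, 92, false), (0, 114, false), (1, 111, false), (2, 102, false), (3, 96, false), (0, 13, false), (1, 115, false), (2, 112, false), (3, 103, false), (4, 97, false), (5, 77, false), (6, 58, false), (1, 110, false), (2, 101, false), (3, 95, false), (4, 80, false), (5, 61, false), (6, 47, false), (2,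 9, false), (3, 99, false), (4, 93, false), (5, 78, false), (1, 12, false), (2, 111, false), (3, 107, false), (4, 102, false), (5, 96, false), (6, 81, false), (0, 117, false), (1, 112, false), (2, 108, false), (3, 103, false), (4, 97, false), (5, 82, false), (6, 59, false), (0, 111, false), (1, 107, false), (2, 102, false), (3, 96, false), (4, 81, false), (5, 62, false), (6, 48, false), (0, 105, false), (1, 100, false), (2, 94, false), (0, 14, false), (1, 109, false), (2, 104, false), (3, 98, false), (4, 79, false), (1, 12, false), (2, 107, false), (3, 102, false), (4, 96, false), (5, 81, false), (6, 60, false), (1, 13, false), (2, 117, false), (3, 108, false), (4, 103, false), (5, 97, false), (6, 82, false), (7, 63, false), (8, 49, false), (1, 117, false), (2, 108, false), (3, 103, false), (4, 97, false), (5, 82, false), (6, 63, false), (7, 52, false)], [(4, 28, true), (3, 41, true), (2, 116, true), (1, 119, true), (0, 14, true), (3, 27, true), (2, 41, true), (1, 116, true), (0, 119, true), (3, 40, true), (2, 115, true), (1, 13, true), (3, 25, true), (2, 41, true), (1, 116, true), (0, 14, true), (1, 39, true), (0,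 116, true), (1, 114, true), (3, 38, true), (2, 116, true), (1, 118, true), (0, 14, true), (1, 115, true), (0, 117, true), (2, 11, true), (3, 15, true), (2, 1, true), (2, 0, true), (2, 5, false), (2, 9, false), (3, 78, false), (1, 107, false), (2, 81, false), (0, 108, false), (1, 82, false), (2, 2, false), (1, 6, false), (2, 75, false), (3, 45, false), (1, 7, false), (0, 13, false), (1, 108, false), (2, 97, false), (3, 84, false), (1, 12, false), (2, 107, false), (3, 96, false), (4, 89, false), (5, 76, false), (6, 46, false), (2, 10, false), (3, 105, false), (4, 94, false), (5, 87, false), (0, 14, false), (1, 119, false), (2, 118, false), (3, 113, false), (4, 109, false), (5, 98, false), (6, 91, false), (7, 79, false), (1, 117, false), (2, 112, false), (3, 108, false), (4, 97, false), (5, 90, false), (6, 82, false), (7, 49, false), (1, 111, false), (2, 107, false), (3, 96, false), (4, 89, false), (5, 81, false), (6, 51, false), (1, 13, false), (2, 112, false), (3, 108, false), (4, 97, false), (5, 90, false), (6, 82, false), (7, 52, false)]),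
    ([7, 7], [], [(9, 53, true), (8, 64, true), (7, 83, true), (6, 91, true), (5, 98, true), (4, 104, true), (3, 109, true), (2, 113, true), (1, 118, true), (0, 14, true), (8, 51, true), (7, 62, true), (6, 81, true), (5, 89, true), (4, 96, true), (3, 102, true), (2, 107, true), (1, 111, true), (0, 12, true), (7, 49, true), (6, 63, true), (5, 82, true), (4, 90, true), (3, 97, true), (2, 103, true), (1, 108, true), (0, 112, true), (7, 60, true), (6, 81, true), (5, 89, true), (4, 96, true), (3, 102, true), (2, 107, true), (1, 111, true), (7, 79, true), (6, 91, true), (5, 98, true), (4, 104, true), (3, 109, true), (2, 113, true), (1, 118, true), (0, 119, true), (7, 87, true), (6, 94, true), (5, 100, true), (4, 105, true), (3, 10, true), (9, 48, true), (8, 62, true), (7, 81, true), (6, 89, true), (5, 96, true), (4, 102, true), (3, 107, true), (2, 12, true), (7, 59, true), (6, 82, true), (5, 90, true), (4, 97, true), (3, 103, true), (2, 108, true), (1, 13, true), (5, 81, true), (4, 89, true), (3, 96, true), (2, 102, true), (1, 107, true), (6, 78, true), (5, 86, true), (4, 98, true), (3, 104, true), (2, 109, true), (1,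 118, true), (0, 14, true), (3, 93, true), (2, 99, true), (1, 9, true), (6, 47, true), (5, 61, true), (4, 80, true), (3, 88, true), (2, 95, true), (1, 101, true), (6, 58, true), (5, 77, true), (4, 90, true), (3, 97, true), (2, 103, true), (1, 115, true), (0, 117, true), (5, 89, true), (4, 96, true), (3, 102, true), (2, 114, true), (1, 12, true), (4, 85, true), (3, 96, true), (2, 102, true), (1, 114, true), (4, 92, true), (3, 8, true), (7, 46, true), (6, 57, true), (5, 80, true), (4, 88, true), (3, 95, true), (2, 11, true), (4, 76, true), (3, 89, true), (2, 96, true), (1, 12, true), (2, 84, true), (1, 97, true), (0, 13, true), (0, 7, true), (3, 45, true), (2, 56, true), (1, 75, true), (0, 6, true), (2, 44, true), (1, 55, true), (0, 5, true), (1, 42, true), (0, 3, true), (0, 2, true)], [(5, 53, true), (4, 91, true), (3, 98, true), (2, 113, true), (1, 119, true), (0, 14, true), (4, 52, true), (3, 90, true), (2, 97, true), (1, 112, true), (0, 13, true), (3, 49, true), (2, 90, true), (1, 97, true), (0, 112, true), (3, 87, true), (2, 94, true), (1, 10, true), (3, 46, true), (2, 84, true), (1, 97, true), (0, 13, true),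 (0, 7, true), (1, 45, true), (0, 6, true), (0, 2, true)]),
    ([8, 8], [], [(4, 52, true), (3, 90, true), (2, 97, true), (1, 112, true), (0, 13, true), (3, 49, true), (2, 90, true), (1, 97, true), (0, 112, true), (3, 87, true), (2, 94, true), (1, 10, true), (3, 46, true), (2, 84, true), (1, 97, true), (0, 13, true), (0, 7, true), (1, 45, true), (0, 6, true), (0, 2, true)], [(5, 63, true), (4, 82, true), (3, 103, true), (2, 108, true), (1, 117, true), (0, 13, true), (4, 62, true), (3, 81, true), (2, 102, true), (1, 107, true), (0, 12, true), (3, 59, true), (2, 82, true), (1, 103, true), (0, 108, true), (3, 81, true), (2, 102, true), (1, 107, true), (4, 78, true), (3, 99, true), (2, 9, true), (4, 58, true), (3, 77, true), (2, 103, true), (1, 117, true), (0, 13, true), (1, 102, true), (0, 12, true), (0, 8, true), (1, 55, true), (0, 5, true), (0, 3, true)]),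
    ([0, 1], [13, 12, 7, 4, 2, 1, 0], [(8, 28, true), (7, 74, true), (6, 91, true), (5, 98, true), (4, 104, true), (3, 113, true), (2, 116, true), (1, 118, true), (0, 119, true), (9, 21, true), (8, 69, true), (7, 86, true), (6, 98, true), (5, 104, true), (4, 113, true), (3, 116, true), (2, 118, true), (1, 119, true), (0, 14, true), (5, 93, true), (4, 99, true), (8, 67, true), (7, 84, true), (6, 97, true), (5, 103, true), (4, 108, true), (3, 112, true), (2, 115, true), (1, 117, true), (0, 13, true), (5, 7, true), (7, 19, true), (6, 65, true), (5, 91, true), (4, 104, true), (3, 109, true), (2, 113, true), (1, 116, true), (0, 118, true), (6, 86, true), (5, 104, true), (4, 109, true), (3, 113, true), (2, 116, true), (1, 118, true), (0, 14, true), (4, 99, true), (3, 9, true), (7, 17, true), (6, 66, true), (5, 83, true), (4, 91, true), (3, 104, true), (2, 113, true), (1, 116, true), (0, 118, true), (6, 79, true), (5, 91, true), (4, 104, true), (3, 113, true), (2, 116, true), (1, 118, true), (0, 14, true), (4, 87, true), (3, 100, true), (2, 10, true), (4, 75, true), (3, 6, true), (6, 16, true), (5, 55, true), (4, 65, true),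 (3, 83, true), (2, 104, true), (1, 116, true), (0, 118, true), (4, 78, true), (3, 99, true), (5, 5, true), (8, 15, true), (9, 0, true), (9, 0, false), (2, 106, false), (3, 54, false), (3, 7, false), (2, 11, false), (3, 106, false), (4, 95, false), (5, 57, false), (2, 106, false), (3, 95, false), (4, 61, false), (5, 43, false), (6, 31, false), (7, 18, false), (4, 6, false), (5, 56, false), (6, 45, false), (7, 33, false), (8, 20, false), (1, 13, false), (2, 117, false), (3, 108, false), (4, 84, false), (3, 11, false), (4, 106, false), (5, 88, false), (6, 57, false), (7, 46, false), (4, 10, false), (5, 105, false), (6, 87, false), (2, 114, false), (3, 111, false), (4, 107, false), (5, 89, false), (6, 60, false), (1, 115, false), (2, 112, false), (3, 108, false), (4, 90, false), (5, 63, false), (6, 49, false), (7, 34, false), (0, 116, false), (1, 113, false), (2, 86, false), (0, 12, false), (1, 114, false), (2, 111, false), (3, 89, false), (0, 13, false), (1, 117, false), (2, 115, false), (3, 112, false), (4, 90, false), (5, 59, false), (1, 114, false), (2, 111, false), (3, 89, false), (4, 62, false), (5, 48, false),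 (6, 36, false), (7, 21, false), (3, 8, false), (1, 12, false), (2, 114, false), (3, 111, false), (4, 102, false), (5, 85, false), (6, 58, false), (2, 110, false), (3, 101, false), (4, 88, false), (5, 61, false), (6, 47, false), (3, 9, false), (4, 99, false), (0, 14, false), (1, 119, false), (2, 118, false), (3, 113, false), (4, 109, false), (5, 104, false), (6, 86, false), (2, 111, false), (3, 107, false), (4, 102, false), (5, 89, false), (1, 112, false), (2, 108, false), (3, 103, false), (4, 90, false), (5, 59, false), (1, 12, false), (2, 111, false), (3, 107, false), (4, 102, false), (5, 89, false), (6, 62, false), (7, 48, false), (2, 105, false), (3, 100, false), (4, 87, false), (1, 107, false), (2, 102, false), (3, 89, false), (4, 60, false), (1, 13, false), (2, 108, false), (3, 103, false), (4, 90, false), (5, 63, false), (6, 49, false), (7, 35, false), (2, 10, false), (3, 105, false), (4, 100, false), (5, 87, false), (2, 12, false), (3, 111, false), (4, 107, false), (5, 102, false), (6, 89, false), (7, 60, false), (1, 117, false), (2, 112, false), (3, 108, false), (4, 103, false), (5, 90, false), (6, 63, false),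 (7, 49, false), (8, 37, false), (9, 22, false), (2, 105, false), (3, 100, false), (4, 87, false), (1, 107, false), (2, 102, false), (3, 89, false), (4, 60, false), (1, 13, false), (2, 108, false), (3, 103, false), (4, 90, false), (5, 63, false), (6, 49, false), (7, 37, false), (8, 24, false), (2, 11, false), (3, 106, false), (4, 101, false), (5, 88, false), (6, 61, false), (7, 50, false), (1, 115, false), (2, 108, false), (3, 103, false), (4, 90, false), (5, 63, false), (6, 52, false), (0, 116, false), (1, 109, false), (2, 104, false), (3, 91, false), (4, 64, false), (5, 53, false), (6, 38, false), (0, 12, false), (1, 114, false), (2, 107, false), (3, 102, false), (4, 89, false), (5, 62, false), (6, 51, false), (0, 14, false), (1, 118, false), (2, 116, false), (3, 109, false), (4, 104, false), (5, 91, false), (6, 64, false), (7, 53, false), (8, 39, false), (0, 118, false), (1, 116, false), (2, 109, false), (3, 104, false), (4, 91, false), (5, 64, false), (6, 53, false), (7, 41, false), (8, 25, false), (0, 114, false), (1, 107, false), (2, 102, false), (3, 89, false), (4, 62, false), (5, 51, false), (0, 14, false),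 (1, 116, false), (2, 109, false), (3, 104, false), (4, 91, false), (5, 64, false), (6, 53, false), (7, 39, false), (8, 26, false), (1, 13, false), (2, 115, false), (3, 108, false), (4, 103, false), (5, 90, false), (6, 63, false), (7, 52, false), (8, 40, false), (0, 119, false), (1, 116, false), (2, 109, false), (3, 104, false), (4, 91, false), (5, 64, false), (6, 53, false), (7, 41, false), (8, 27, false), (5, 5, false), (4, 7, false), (0, 115, false), (1, 108, false), (2, 103, false), (3, 97, false), (4, 84, false), (0, 12, false), (1, 114, false), (2, 107, false), (3, 102, false), (4, 96, false), (5, 89, false), (6, 76, false), (0, 14, false), (1, 118, false), (2, 116, false), (3, 109, false), (4, 104, false), (5, 98, false), (6, 91, false), (7, 83, false), (8, 0, false), (8, 2, false), (7, 44, false), (8, 16, false), (7, 3, false), (8, 42, false), (6, 56, false), (7, 45, false), (8, 17, false), (6, 5, false), (7, 55, false), (8, 44, false), (9, 19, false), (6, 6, false), (7, 75, false), (8, 56, false), (9, 45, false), (10, 20, false), (3, 99, false), (4, 93, false), (0, 118, false), (1, 116, false), (2, 104,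 false), (3, 98, false), (4, 86, false), (5, 78, false), (0, 114, false), (1, 102, false), (2, 96, false), (3, 89, false), (4, 81, false), (0, 13, false), (1, 115, false), (2, 103, false), (3, 97, false), (4, 90, false), (5, 82, false), (6, 59, false), (1, 12, false), (2, 114, false), (3, 102, false), (4, 96, false), (5, 89, false), (6, 81, false), (7, 62, false), (8, 48, false), (9, 23, false), (1, 114, false), (2, 102, false), (3, 96, false), (4, 89, false), (5, 81, false), (6, 62, false), (7, 51, false), (8, 26, false), (4, 75, false), (1, 12, false), (2, 114, false), (3, 102, false), (4, 76, false), (1, 114, false), (0, 115, false), (1, 77, false), (1, 9, false), (2, 78, false), (0, 106, false), (1, 80, false), (0, 14, false), (1, 109, false), (2, 83, false), (3, 2, false), (3, 3, false), (4, 42, false), (2, 55, false), (3, 44, false), (2, 6, false), (3, 56, false), (4, 45, false), (2, 7, false), (1, 13, false), (2, 108, false), (3, 97, false), (4, 84, false), (2, 11, false), (3, 106, false), (4, 95, false), (5, 88, false), (6, 57, false), (7, 46, false), (4, 8, false), (5, 92, false), (2, 12, false), (3, 114,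 false), (4, 107, false), (5, 102, false), (6, 96, false), (7, 85, false), (8, 58, false), (3, 106, false), (4, 101, false), (5, 95, false), (6, 88, false), (7, 61, false), (8, 47, false), (3, 99, false), (4, 93, false), (0, 119, false), (1, 118, false), (2, 104, false), (3, 98, false), (4, 86, false), (1, 102, false), (2, 96, false), (3, 89, false), (0, 103, false), (1, 97, false), (2, 90, false), (3, 59, false), (0, 12, false), (1, 102, false), (2, 96, false), (3, 89, false), (4, 62, false), (5, 48, false), (1, 10, false), (2, 100, false), (3, 94, false), (4, 87, false), (0, 111, false), (1, 102, false), (2, 96, false), (3, 89, false), (4, 60, false), (0, 13, false), (1, 112, false), (2, 103, false), (3, 97, false), (4, 90, false), (5, 63, false), (6, 49, false), (1, 12, false), (2, 111, false), (3, 102, false), (4, 96, false), (5, 89, false), (6, 62, false), (7, 51, false), (0, 14, false), (1, 119, false), (2, 118, false), (3, 113, false), (4, 104, false), (5, 98, false), (6, 91, false), (7, 64, false), (8, 53, false), (7, 5, false), (8, 55, false), (9, 44, false), (4, 9, false), (5, 99, false), (6, 93, false),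 (0, 119, false), (1, 118, false), (2, 113, false), (3, 109, false), (4, 104, false), (5, 98, false), (6, 86, false), (7, 78, false), (1, 111, false), (2, 107, false), (3, 102, false), (4, 96, false), (5, 89, false), (6, 81, false), (0, 112, false), (1, 108, false), (2, 103, false), (3, 97, false), (4, 90, false), (5, 82, false), (6, 59, false), (0, 12, false), (1, 111, false), (2, 107, false), (3, 102, false), (4, 96, false), (5, 89, false), (6, 81, false), (7, 62, false), (8, 48, false), (0, 111, false), (1, 107, false), (2, 102, false), (3, 96, false), (4, 89, false), (5, 81, false), (6, 62, false), (7, 51, false), (0, 13, false), (1, 112, false), (2, 108, false), (3, 103, false), (4, 97, false), (5, 90, false), (6, 82, false), (7, 63, false), (8, 52, false)], [(6, 41, true), (5, 74, true), (4, 83, true), (3, 98, true), (2, 109, true), (1, 116, true), (0, 118, true), (7, 35, true), (6, 70, true), (5, 79, true), (4, 98, true), (3, 109, true), (2, 116, true), (1, 118, true), (0, 14, true), (3, 94, true), (2, 105, true), (6, 69, true), (5, 78, true), (4, 93, true), (3, 9, true), (5, 68, true), (4, 77, true), (3,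 97, true), (2, 112, true), (1, 115, true), (0, 117, true), (4, 96, true), (3, 111, true), (2, 114, true), (1, 12, true), (3, 92, true), (7, 33, true), (6, 66, true), (5, 83, true), (4, 98, true), (3, 104, true), (2, 113, true), (1, 116, true), (0, 119, true), (6, 79, true), (5, 98, true), (4, 104, true), (3, 113, true), (2, 116, true), (1, 119, true), (0, 14, true), (4, 94, true), (3, 100, true), (2, 10, true), (4, 75, true), (7, 32, true), (6, 65, true), (5, 83, true), (4, 91, true), (3, 98, true), (2, 104, true), (1, 116, true), (0, 119, true), (6, 78, true), (5, 86, true), (4, 98, true), (3, 104, true), (2, 116, true), (1, 119, true), (0, 14, true), (3, 93, true), (2, 99, true), (6, 5, true), (7, 29, true), (6, 66, true), (5, 91, true), (4, 98, true), (3, 104, true), (2, 109, true), (1, 116, true), (0, 119, true), (6, 87, true), (5, 94, true), (4, 100, true), (3, 105, true), (7, 6, true), (9, 15, false), (2, 110, false), (3, 106, false), (4, 101, false), (5, 43, false), (6, 18, false), (5, 5, false), (6, 44, false), (7, 19, false), (5, 7, false), (2, 12, false), (3, 111, false), (4, 107, false), (5, 102, false),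 (6, 96, false), (7, 76, false), (8, 46, false), (4, 99, false), (5, 93, false), (6, 78, false), (2, 111, false), (3, 102, false), (4, 96, false), (5, 81, false), (6, 48, false), (7, 21, false), (3, 9, false), (4, 99, false), (5, 93, false), (6, 78, false), (2, 12, false), (3, 111, false), (4, 107, false), (5, 102, false), (6, 96, false), (7, 81, false), (8, 48, false), (9, 23, false), (3, 11, false), (4, 110, false), (5, 106, false), (6, 101, false), (7, 95, false), (8, 80, false), (9, 50, false), (2, 114, false), (3, 111, false), (4, 107, false), (5, 102, false), (6, 96, false), (7, 81, false), (8, 51, false), (0, 119, false), (1, 116, false), (2, 113, false), (3, 109, false), (4, 104, false), (5, 98, false), (6, 83, false), (7, 53, false), (8, 25, false), (1, 12, false), (2, 114, false), (3, 111, false), (4, 107, false), (5, 102, false), (6, 96, false), (7, 81, false), (8, 51, false), (9, 26, false), (7, 6, false), (5, 92, false), (1, 114, false), (2, 111, false), (3, 107, false), (4, 96, false), (5, 85, false), (0, 14, false), (1, 119, false), (2, 116, false), (3, 113, false), (4, 109, false), (5, 98, false),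 (6, 91, false), (7, 1, false), (7, 2, false), (6, 45, false), (7, 29, false), (6, 6, false), (7, 45, false), (8, 33, false), (4, 93, false), (0, 119, false), (1, 116, false), (2, 113, false), (3, 98, false), (4, 86, false), (1, 12, false), (2, 114, false), (3, 111, false), (4, 96, false), (5, 89, false), (6, 48, false), (7, 36, false), (3, 94, false), (4, 87, false), (0, 117, false), (1, 115, false), (2, 97, false), (3, 90, false), (4, 49, false), (5, 37, false), (0, 13, false), (1, 117, false), (2, 115, false), (3, 97, false), (4, 90, false), (5, 52, false), (6, 40, false), (5, 5, false), (0, 117, false), (1, 115, false), (2, 84, false), (0, 114, false), (1, 89, false), (2, 76, false), (1, 9, false), (0, 14, false), (1, 116, false), (2, 109, false), (3, 86, false), (4, 78, false), (2, 10, false), (3, 105, false), (4, 87, false), (0, 116, false), (1, 113, false), (2, 109, false), (3, 91, false), (4, 79, false), (0, 110, false), (1, 106, false), (2, 88, false), (3, 80, false), (0, 14, false), (1, 113, false), (2, 109, false), (3, 91, false), (4, 83, false), (5, 2, false), (3, 75, false), (4, 45, false), (3, 7, false),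 (1, 12, false), (2, 111, false), (3, 107, false), (4, 96, false), (5, 76, false), (6, 46, false), (2, 105, false), (3, 94, false), (0, 118, false), (1, 109, false), (2, 98, false), (3, 79, false), (0, 13, false), (1, 117, false), (2, 108, false), (3, 97, false), (4, 82, false), (5, 49, false), (0, 117, false), (1, 108, false), (2, 97, false), (3, 82, false), (4, 52, false), (0, 14, false), (1, 118, false), (2, 109, false), (3, 98, false), (4, 83, false), (5, 53, false), (4, 44, false), (4, 6, false), (5, 45, false), (2, 93, false), (0, 118, false), (1, 98, false), (2, 86, false), (0, 96, false), (1, 89, false), (2, 48, false), (0, 10, false), (1, 94, false), (2, 87, false), (0, 13, false), (1, 112, false), (2, 97, false), (3, 90, false), (4, 49, false), (1, 12, false), (2, 111, false), (3, 96, false), (4, 89, false), (5, 51, false)]),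
    ([0, 2], [13, 12, 10, 9, 8, 3, 0], [(8, 26, true), (7, 72, true), (6, 89, true), (5, 96, true), (4, 102, true), (3, 111, true), (2, 114, true), (1, 12, true), (7, 23, true), (6, 69, true), (5, 86, true), (4, 98, true), (3, 104, true), (2, 113, true), (1, 116, true), (0, 119, true), (5, 93, true), (4, 99, true), (9, 20, true), (8, 66, true), (7, 91, true), (6, 98, true), (5, 104, true), (4, 109, true), (3, 113, true), (2, 116, true), (1, 119, true), (0, 14, true), (6, 87, true), (5, 94, true), (4, 100, true), (3, 105, true), (2, 10, true), (5, 6, true), (6, 19, true), (5, 65, true), (4, 98, true), (3, 104, true), (2, 109, true), (1, 116, true), (0, 119, true), (5, 93, true), (4, 99, true), (3, 9, true), (7, 17, true), (6, 66, true), (5, 83, true), (4, 98, true), (3, 104, true), (2, 116, true), (1, 119, true), (0, 14, true), (4, 79, true), (3, 98, true), (2, 104, true), (1, 116, true), (0, 119, true), (4, 94, true), (3, 100, true), (6, 75, true), (10, 16, true), (9, 55, true), (8, 65, true), (7, 83, true), (6, 91, true), (5, 98, true), (4, 104, true), (3, 113, true), (2, 116, true), (1, 119, true), (0, 14, true),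 (6, 78, true), (5, 86, true), (4, 98, true), (3, 104, true), (2, 113, true), (1, 116, true), (0, 119, true), (5, 93, true), (4, 99, true), (8, 5, true), (11, 0, true), (11, 0, false), (5, 92, false), (2, 12, false), (3, 114, false), (4, 111, false), (5, 107, false), (6, 96, false), (7, 85, false), (3, 110, false), (4, 106, false), (5, 95, false), (6, 88, false), (7, 54, false), (1, 117, false), (2, 112, false), (3, 108, false), (4, 84, false), (2, 11, false), (3, 110, false), (4, 106, false), (5, 88, false), (6, 57, false), (2, 110, false), (3, 106, false), (4, 88, false), (5, 61, false), (6, 43, false), (7, 18, false), (4, 56, false), (5, 45, false), (6, 20, false), (4, 7, false), (2, 11, false), (3, 110, false), (4, 106, false), (5, 95, false), (6, 57, false), (7, 46, false), (4, 93, false), (1, 114, false), (2, 111, false), (3, 96, false), (1, 13, false), (2, 115, false), (3, 112, false), (4, 97, false), (5, 59, false), (2, 12, false), (3, 114, false), (4, 111, false), (5, 96, false), (6, 62, false), (7, 48, false), (8, 21, false), (5, 8, false), (6, 92, false), (7, 58, false), (3, 110, false), (4, 101, false),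 (5, 95, false), (6, 61, false), (7, 47, false), (3, 100, false), (4, 94, false), (2, 102, false), (3, 96, false), (4, 60, false), (1, 103, false), (2, 97, false), (3, 63, false), (4, 49, false), (5, 22, false), (1, 10, false), (2, 100, false), (3, 94, false), (1, 12, false), (2, 111, false), (3, 102, false), (4, 96, false), (5, 60, false), (1, 13, false), (2, 117, false), (3, 112, false), (4, 103, false), (5, 97, false), (6, 63, false), (7, 49, false), (8, 24, false), (3, 11, false), (4, 110, false), (5, 101, false), (6, 95, false), (7, 61, false), (8, 50, false), (2, 114, false), (3, 111, false), (4, 102, false), (5, 96, false), (6, 62, false), (7, 51, false), (0, 119, false), (1, 116, false), (2, 113, false), (3, 104, false), (4, 98, false), (5, 64, false), (6, 53, false), (7, 25, false), (1, 12, false), (2, 114, false), (3, 111, false), (4, 102, false), (5, 96, false), (6, 62, false), (7, 51, false), (8, 26, false), (0, 117, false), (1, 115, false), (2, 112, false), (3, 103, false), (4, 97, false), (5, 63, false), (6, 52, false), (0, 14, false), (1, 118, false), (2, 116, false), (3, 113, false), (4, 104, false),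 (5, 98, false), (6, 64, false), (7, 53, false), (8, 27, false), (6, 5, false), (7, 55, false), (8, 44, false), (6, 6, false), (7, 75, false), (8, 56, false), (9, 45, false), (4, 9, false), (5, 99, false), (6, 93, false), (0, 118, false), (1, 116, false), (2, 113, false), (3, 109, false), (4, 104, false), (5, 98, false), (6, 86, false), (7, 78, false), (0, 114, false), (1, 111, false), (2, 107, false), (3, 102, false), (4, 96, false), (5, 89, false), (6, 81, false), (0, 13, false), (1, 115, false), (2, 112, false), (3, 108, false), (4, 103, false), (5, 97, false), (6, 90, false), (7, 82, false), (8, 59, false), (1, 12, false), (2, 114, false), (3, 111, false), (4, 107, false), (5, 102, false), (6, 96, false), (7, 89, false), (8, 81, false), (9, 62, false), (10, 48, false), (0, 117, false), (1, 115, false), (2, 112, false), (3, 108, false), (4, 103, false), (5, 97, false), (6, 90, false), (7, 82, false), (8, 63, false), (9, 52, false), (0, 14, false), (1, 118, false), (2, 116, false), (3, 113, false), (4, 109, false), (5, 104, false), (6, 98, false), (7, 91, false), (8, 83, false), (9, 64, false), (10, 53, false),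 (7, 75, false), (8, 56, false), (1, 114, false), (2, 111, false), (3, 107, false), (4, 102, false), (5, 76, false), (1, 110, false), (2, 106, false), (3, 101, false), (4, 80, false), (5, 57, false), (1, 105, false), (2, 100, false), (0, 109, false), (1, 104, false), (2, 79, false), (0, 12, false), (1, 107, false), (2, 102, false), (3, 81, false), (4, 60, false), (0, 13, false), (1, 117, false), (2, 108, false), (3, 103, false), (4, 82, false), (5, 63, false), (6, 2, false), (4, 55, false), (5, 44, false), (4, 7, false), (2, 11, false), (3, 106, false), (4, 101, false), (5, 95, false), (6, 57, false), (7, 46, false), (3, 99, false), (4, 93, false), (1, 114, false), (2, 102, false), (3, 96, false), (0, 115, false), (1, 103, false), (2, 97, false), (3, 59, false), (0, 12, false), (1, 114, false), (2, 102, false), (3, 96, false), (4, 62, false), (5, 48, false), (1, 101, false), (2, 95, false), (3, 61, false), (4, 50, false), (0, 102, false), (1, 96, false), (2, 62, false), (3, 51, false), (0, 13, false), (1, 103, false), (2, 97, false), (3, 63, false), (4, 52, false), (0, 14, false), (1, 119, false), (2, 104, false),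 (3, 98, false), (4, 64, false), (5, 53, false), (4, 6, false), (5, 56, false), (6, 45, false), (2, 10, false), (3, 100, false), (4, 94, false), (5, 87, false), (2, 12, false), (3, 111, false), (4, 102, false), (5, 96, false), (6, 89, false), (7, 60, false), (1, 117, false), (2, 112, false), (3, 103, false), (4, 97, false), (5, 90, false), (6, 63, false), (7, 49, false), (1, 13, false), (2, 117, false), (3, 112, false), (4, 103, false), (5, 97, false), (6, 90, false), (7, 63, false), (8, 52, false), (7, 5, false), (8, 55, false), (9, 44, false), (4, 9, false), (5, 99, false), (6, 93, false), (0, 119, false), (1, 118, false), (2, 113, false), (3, 109, false), (4, 104, false), (5, 98, false), (6, 86, false), (7, 78, false), (1, 111, false), (2, 107, false), (3, 102, false), (4, 96, false), (5, 89, false), (6, 81, false), (0, 112, false), (1, 108, false), (2, 103, false), (3, 97, false), (4, 90, false), (5, 82, false), (6, 59, false), (0, 12, false), (1, 111, false), (2, 107, false), (3, 102, false), (4, 96, false), (5, 89, false), (6, 81, false), (7, 62, false), (8, 48, false), (0, 111, false), (1, 107, false), (2,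 102, false), (3, 96, false), (4, 89, false), (5, 81, false), (6, 62, false), (7, 51, false), (0, 13, false), (1, 112, false), (2, 108, false), (3, 103, false), (4, 97, false), (5, 90, false), (6, 82, false), (7, 63, false), (8, 52, false)], [(6, 40, true), (5, 73, true), (4, 82, true), (3, 97, true), (2, 108, true), (1, 115, true), (0, 117, true), (7, 37, true), (6, 70, true), (5, 79, true), (4, 98, true), (3, 109, true), (2, 116, true), (1, 118, true), (0, 119, true), (5, 94, true), (4, 105, true), (9, 36, true), (8, 69, true), (7, 78, true), (6, 93, true), (5, 9, true), (8, 33, true), (7, 66, true), (6, 83, true), (5, 98, true), (4, 113, true), (3, 116, true), (2, 118, true), (1, 119, true), (0, 14, true), (5, 79, true), (4, 98, true), (3, 113, true), (2, 116, true), (1, 118, true), (0, 119, true), (5, 94, true), (4, 10, true), (5, 75, true), (8, 29, true), (7, 66, true), (6, 83, true), (5, 91, true), (4, 98, true), (3, 116, true), (2, 118, true), (1, 119, true), (0, 14, true), (5, 79, true), (4, 91, true), (3, 98, true), (2, 116, true), (1, 118, true), (0, 119, true), (5, 87, true), (4, 94, true), (7, 75, true),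 (6, 6, true), (9, 1, true), (9, 1, false), (2, 114, false), (3, 111, false), (4, 76, false), (2, 110, false), (3, 80, false), (4, 43, false), (5, 31, false), (3, 44, false), (4, 32, false), (3, 7, false), (4, 46, false), (2, 94, false), (1, 97, false), (2, 49, false), (3, 34, false), (1, 9, false), (2, 93, false), (1, 12, false), (2, 107, false), (3, 96, false), (4, 48, false), (5, 36, false), (2, 11, false), (3, 106, false), (4, 95, false), (5, 50, false), (1, 13, false), (2, 117, false), (3, 115, false), (4, 108, false), (5, 97, false), (6, 52, false), (0, 119, false), (1, 118, false), (2, 116, false), (3, 109, false), (4, 98, false), (5, 53, false), (6, 38, false), (1, 114, false), (2, 107, false), (3, 96, false), (4, 51, false), (0, 14, false), (1, 119, false), (2, 116, false), (3, 109, false), (4, 98, false), (5, 53, false), (6, 39, false), (5, 6, false), (6, 45, false), (3, 93, false), (0, 119, false), (1, 116, false), (2, 98, false), (3, 86, false), (1, 12, false), (2, 114, false), (3, 96, false), (4, 89, false), (5, 48, false), (3, 10, false), (4, 94, false), (5, 87, false), (0, 117, false), (1, 115, false),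 (2, 112, false), (3, 97, false), (4, 90, false), (5, 49, false), (0, 114, false), (1, 111, false), (2, 96, false), (3, 89, false), (4, 51, false), (0, 13, false), (1, 115, false), (2, 112, false), (3, 97, false), (4, 90, false), (5, 52, false), (0, 14, false), (1, 119, false), (2, 116, false), (3, 113, false), (4, 98, false), (5, 91, false), (6, 53, false), (6, 3, false), (7, 42, false), (6, 5, false), (7, 55, false), (8, 44, false), (4, 8, false), (5, 92, false), (2, 12, false), (3, 114, false), (4, 111, false), (5, 102, false), (6, 96, false), (7, 85, false), (2, 114, false), (3, 111, false), (4, 102, false), (5, 96, false), (6, 89, false), (1, 115, false), (2, 112, false), (3, 103, false), (4, 97, false), (5, 90, false), (6, 77, false), (7, 58, false), (1, 110, false), (2, 101, false), (3, 95, false), (4, 88, false), (5, 80, false), (6, 61, false), (7, 47, false), (2, 9, false), (3, 99, false), (4, 93, false), (0, 113, false), (1, 109, false), (2, 104, false), (3, 98, false), (4, 86, false), (5, 78, false), (0, 12, false), (1, 111, false), (2, 107, false), (3, 102, false), (4, 96, false), (5, 89, false), (6,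 81, false), (0, 13, false), (1, 117, false), (2, 112, false), (3, 108, false), (4, 103, false), (5, 97, false), (6, 90, false), (7, 82, false), (8, 59, false), (1, 111, false), (2, 107, false), (3, 102, false), (4, 96, false), (5, 89, false), (6, 81, false), (7, 62, false), (8, 48, false), (1, 12, false), (2, 111, false), (3, 107, false), (4, 102, false), (5, 96, false), (6, 89, false), (7, 81, false), (8, 62, false), (9, 51, false), (0, 117, false), (1, 112, false), (2, 108, false), (3, 103, false), (4, 97, false), (5, 90, false), (6, 82, false), (7, 63, false), (8, 52, false), (7, 42, false), (6, 44, false), (5, 45, false), (3, 92, false), (1, 11, false), (2, 110, false), (3, 106, false), (4, 95, false), (5, 47, false), (3, 93, false), (0, 114, false), (1, 111, false), (2, 96, false), (3, 48, false), (1, 94, false), (0, 13, false), (1, 115, false), (2, 97, false), (3, 49, false), (1, 95, false), (2, 50, false), (1, 12, false), (2, 96, false), (3, 51, false), (0, 14, false), (1, 119, false), (2, 118, false), (3, 98, false), (4, 53, false), (4, 5, false), (5, 44, false), (3, 9, false), (4, 93, false), (5, 78, false),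 (2, 107, false), (3, 96, false), (4, 81, false), (5, 48, false), (2, 12, false), (3, 107, false), (4, 96, false), (5, 81, false), (6, 51, false), (1, 117, false), (2, 108, false), (3, 97, false), (4, 82, false), (5, 52, false), (4, 44, false), (4, 6, false), (5, 45, false), (2, 93, false), (0, 118, false), (1, 98, false), (2, 86, false), (0, 96, false), (1, 89, false), (2, 48, false), (0, 10, false), (1, 94, false), (2, 87, false), (0, 13, false), (1, 112, false), (2, 97, false), (3, 90, false), (4, 49, false), (1, 12, false), (2, 111, false), (3, 96, false), (4, 89, false), (5, 51, false)]),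
    ([0, 3], [13, 12, 11, 9, 7, 3, 0], [(8, 28, true), (7, 74, true), (6, 91, true), (5, 98, true), (4, 104, true), (3, 113, true), (2, 116, true), (1, 118, true), (0, 119, true), (9, 27, true), (8, 74, true), (7, 91, true), (6, 98, true), (5, 104, true), (4, 113, true), (3, 116, true), (2, 118, true), (1, 119, true), (0, 14, true), (7, 73, true), (6, 90, true), (5, 97, true), (4, 103, true), (3, 112, true), (2, 115, true), (1, 117, true), (0, 13, true), (7, 23, true), (6, 69, true), (5, 86, true), (4, 98, true), (3, 104, true), (2, 113, true), (1, 116, true), (0, 118, true), (5, 93, true), (4, 99, true), (9, 20, true), (8, 66, true), (7, 91, true), (6, 98, true), (5, 104, true), (4, 109, true), (3, 113, true), (2, 116, true), (1, 118, true), (0, 14, true), (6, 87, true), (5, 94, true), (4, 100, true), (3, 105, true), (2, 10, true), (5, 6, true), (6, 19, true), (5, 65, true), (4, 98, true), (3, 104, true), (2, 109, true), (1, 116, true), (0, 118, true), (5, 93, true), (4, 99, true), (3, 9, true), (7, 0, true), (7, 0, false), (6, 18, false), (5, 6, false), (6, 75, false), (7, 20, false), (1, 13, false), (2, 117,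 false), (3, 115, false), (4, 103, false), (5, 84, false), (2, 114, false), (3, 102, false), (4, 89, false), (5, 76, false), (3, 9, false), (4, 99, false), (0, 119, false), (1, 116, false), (2, 109, false), (3, 104, false), (4, 86, false), (5, 78, false), (6, 21, false), (1, 12, false), (2, 114, false), (3, 107, false), (4, 85, false), (1, 114, false), (2, 107, false), (3, 89, false), (0, 115, false), (1, 108, false), (2, 90, false), (3, 77, false), (1, 10, false), (2, 105, false), (3, 87, false), (0, 14, false), (1, 116, false), (2, 113, false), (3, 109, false), (4, 91, false), (5, 79, false), (6, 22, false), (2, 105, false), (3, 87, false), (0, 116, false), (1, 109, false), (2, 91, false), (3, 79, false), (4, 24, false), (0, 106, false), (1, 88, false), (2, 80, false), (0, 12, false), (1, 107, false), (2, 89, false), (3, 81, false), (0, 14, false), (1, 118, false), (2, 109, false), (3, 91, false), (4, 83, false), (5, 25, false), (1, 107, false), (2, 89, false), (3, 81, false), (4, 26, false), (1, 13, false), (2, 108, false), (3, 90, false), (4, 82, false), (0, 119, false), (1, 109, false), (2, 91, false), (3, 83,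 false), (4, 27, false), (0, 14, false), (1, 2, false), (1, 3, false), (2, 42, false), (1, 5, false), (2, 55, false), (3, 44, false), (1, 6, false), (2, 75, false), (3, 56, false), (4, 45, false), (1, 7, false), (1, 13, false), (2, 97, false), (3, 84, false), (2, 12, false), (3, 96, false), (4, 89, false), (5, 76, false), (3, 11, false), (4, 95, false), (5, 88, false), (6, 80, false), (7, 57, false), (8, 46, false), (4, 8, false), (5, 92, false), (2, 114, false), (3, 102, false), (4, 96, false), (5, 85, false), (2, 12, false), (3, 114, false), (4, 102, false), (5, 96, false), (6, 89, false), (1, 117, false), (2, 115, false), (3, 103, false), (4, 97, false), (5, 90, false), (6, 77, false), (7, 58, false), (2, 101, false), (3, 95, false), (4, 88, false), (5, 80, false), (6, 61, false), (7, 47, false), (2, 9, false), (3, 99, false), (4, 93, false), (0, 118, false), (1, 109, false), (2, 104, false), (3, 98, false), (4, 86, false), (5, 78, false), (0, 107, false), (1, 102, false), (2, 96, false), (3, 89, false), (4, 81, false), (0, 13, false), (1, 108, false), (2, 103, false), (3, 97, false), (4, 90, false), (5, 82, false),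 (6, 59, false), (1, 12, false), (2, 107, false), (3, 102, false), (4, 96, false), (5, 89, false), (6, 81, false), (7, 62, false), (8, 48, false), (2, 10, false), (3, 105, false), (4, 100, false), (5, 94, false), (6, 87, false), (0, 14, false), (1, 119, false), (2, 118, false), (3, 113, false), (4, 109, false), (5, 104, false), (6, 98, false), (7, 91, false), (8, 79, false), (2, 111, false), (3, 107, false), (4, 102, false), (5, 96, false), (6, 89, false), (7, 81, false), (8, 60, false), (1, 112, false), (2, 108, false), (3, 103, false), (4, 97, false), (5, 90, false), (6, 82, false), (7, 63, false), (8, 49, false), (1, 12, false), (2, 111, false), (3, 107, false), (4, 102, false), (5, 96, false), (6, 89, false), (7, 81, false), (8, 62, false), (9, 51, false), (0, 118, false), (1, 113, false), (2, 109, false), (3, 104, false), (4, 98, false), (5, 91, false), (6, 83, false), (7, 64, false), (8, 53, false), (6, 55, false), (0, 13, false), (1, 117, false), (2, 112, false), (3, 108, false), (4, 103, false), (5, 84, false), (2, 11, false), (3, 110, false), (4, 106, false), (5, 101, false), (6, 88, false), (7, 57, false),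 (4, 99, false), (0, 14, false), (1, 119, false), (2, 118, false), (3, 116, false), (4, 113, false), (5, 104, false), (6, 86, false), (2, 114, false), (3, 111, false), (4, 102, false), (5, 89, false), (1, 115, false), (2, 112, false), (3, 103, false), (4, 90, false), (5, 59, false), (1, 110, false), (2, 101, false), (3, 88, false), (4, 61, false), (1, 12, false), (2, 111, false), (3, 102, false), (4, 89, false), (5, 62, false), (1, 13, false), (2, 117, false), (3, 112, false), (4, 103, false), (5, 90, false), (6, 63, false), (0, 119, false), (1, 118, false), (2, 113, false), (3, 104, false), (4, 91, false), (5, 64, false), (6, 2, false), (4, 7, false), (0, 117, false), (1, 112, false), (2, 103, false), (3, 97, false), (4, 84, false), (1, 11, false), (2, 110, false), (3, 101, false), (4, 95, false), (5, 88, false), (6, 57, false), (7, 46, false), (1, 110, false), (2, 101, false), (3, 95, false), (4, 88, false), (5, 61, false), (6, 50, false), (0, 13, false), (1, 117, false), (2, 112, false), (3, 103, false), (4, 97, false), (5, 90, false), (6, 63, false), (7, 52, false), (0, 14, false), (1, 119, false), (2, 118, false),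 (3, 113, false), (4, 104, false), (5, 98, false), (6, 91, false), (7, 64, false), (8, 53, false), (7, 5, false), (8, 55, false), (9, 44, false), (4, 9, false), (5, 99, false), (6, 93, false), (0, 119, false), (1, 118, false), (2, 113, false), (3, 109, false), (4, 104, false), (5, 98, false), (6, 86, false), (7, 78, false), (1, 111, false), (2, 107, false), (3, 102, false), (4, 96, false), (5, 89, false), (6, 81, false), (0, 112, false), (1, 108, false), (2, 103, false), (3, 97, false), (4, 90, false), (5, 82, false), (6, 59, false), (0, 12, false), (1, 111, false), (2, 107, false), (3, 102, false), (4, 96, false), (5, 89, false), (6, 81, false), (7, 62, false), (8, 48, false), (0, 111, false), (1, 107, false), (2, 102, false), (3, 96, false), (4, 89, false), (5, 81, false), (6, 62, false), (7, 51, false), (0, 13, false), (1, 112, false), (2, 108, false), (3, 103, false), (4, 97, false), (5, 90, false), (6, 82, false), (7, 63, false), (8, 52, false)], [(6, 41, true), (5, 74, true), (4, 83, true), (3, 98, true), (2, 109, true), (1, 116, true), (0, 118, true), (7, 40, true), (6, 73, true), (5, 82, true), (4, 97, true),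 (3, 108, true), (2, 115, true), (1, 117, true), (8, 39, true), (7, 74, true), (6, 83, true), (5, 98, true), (4, 109, true), (3, 116, true), (2, 118, true), (1, 119, true), (0, 14, true), (6, 72, true), (5, 81, true), (4, 96, true), (3, 107, true), (2, 114, true), (1, 12, true), (6, 37, true), (5, 70, true), (4, 79, true), (3, 98, true), (2, 109, true), (1, 116, true), (0, 119, true), (4, 94, true), (3, 105, true), (8, 36, true), (7, 69, true), (6, 78, true), (5, 93, true), (4, 9, true), (7, 33, true), (6, 66, true), (5, 83, true), (4, 98, true), (3, 113, true), (2, 116, true), (1, 119, true), (0, 14, true), (4, 79, true), (3, 98, true), (2, 113, true), (1, 116, true), (0, 119, true), (4, 94, true), (3, 10, true), (4, 75, true), (7, 1, true), (7, 1, false), (6, 31, false), (5, 32, false), (1, 115, false), (2, 84, false), (2, 10, false), (3, 87, false), (4, 34, false), (3, 9, false), (0, 116, false), (1, 113, false), (2, 109, false), (3, 86, false), (4, 36, false), (0, 110, false), (1, 106, false), (2, 88, false), (0, 13, false), (1, 112, false), (2, 108, false), (3, 90, false), (0, 14, false), (1, 119, false), (2,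 113, false), (3, 109, false), (4, 91, false), (5, 38, false), (2, 12, false), (3, 111, false), (4, 107, false), (5, 89, false), (0, 119, false), (1, 118, false), (2, 113, false), (3, 109, false), (4, 91, false), (5, 39, false), (0, 14, false), (1, 2, false), (1, 6, false), (2, 45, false), (1, 7, false), (1, 13, false), (2, 97, false), (3, 84, false), (4, 46, false), (2, 10, false), (3, 94, false), (4, 87, false), (1, 112, false), (2, 97, false), (3, 90, false), (4, 49, false), (1, 13, false), (2, 112, false), (3, 97, false), (4, 90, false), (5, 52, false), (0, 119, false), (1, 113, false), (2, 98, false), (3, 91, false), (4, 53, false), (4, 3, false), (5, 42, false), (4, 5, false), (5, 55, false), (6, 44, false), (3, 75, false), (4, 56, false), (5, 45, false), (2, 8, false), (3, 92, false), (1, 12, false), (2, 111, false), (3, 102, false), (4, 96, false), (0, 117, false), (1, 112, false), (2, 103, false), (3, 97, false), (4, 77, false), (5, 58, false), (1, 11, false), (2, 110, false), (3, 101, false), (4, 95, false), (5, 80, false), (6, 61, false), (7, 47, false), (3, 9, false), (4, 99, false), (5, 93, false), (6,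 78, false), (0, 114, false), (1, 111, false), (2, 107, false), (3, 102, false), (4, 96, false), (5, 81, false), (0, 13, false), (1, 115, false), (2, 112, false), (3, 108, false), (4, 103, false), (5, 97, false), (6, 82, false), (7, 59, false), (1, 12, false), (2, 114, false), (3, 111, false), (4, 107, false), (5, 102, false), (6, 96, false), (7, 81, false), (8, 62, false), (9, 48, false), (3, 105, false), (4, 100, false), (5, 94, false), (0, 14, false), (1, 119, false), (2, 118, false), (3, 116, false), (4, 109, false), (5, 104, false), (6, 98, false), (7, 79, false), (2, 114, false), (3, 107, false), (4, 102, false), (5, 96, false), (6, 81, false), (7, 60, false), (1, 115, false), (2, 108, false), (3, 103, false), (4, 97, false), (5, 82, false), (6, 63, false), (7, 49, false), (1, 106, false), (2, 101, false), (3, 95, false), (4, 80, false), (5, 61, false), (6, 50, false), (1, 12, false), (2, 107, false), (3, 102, false), (4, 96, false), (5, 81, false), (6, 62, false), (7, 51, false), (0, 118, false), (1, 109, false), (2, 104, false), (3, 98, false), (4, 83, false), (5, 64, false), (6, 53, false), (5, 42, false),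 (2, 92, false), (0, 107, false), (1, 96, false), (0, 13, false), (1, 108, false), (2, 97, false), (3, 77, false), (1, 11, false), (2, 106, false), (3, 95, false), (4, 80, false), (5, 47, false), (1, 106, false), (2, 95, false), (3, 80, false), (4, 50, false), (1, 12, false), (2, 107, false), (3, 96, false), (4, 81, false), (5, 51, false), (0, 117, false), (1, 108, false), (2, 97, false), (3, 82, false), (4, 52, false), (0, 14, false), (1, 118, false), (2, 109, false), (3, 98, false), (4, 83, false), (5, 53, false), (4, 44, false), (4, 6, false), (5, 45, false), (2, 93, false), (0, 118, false), (1, 98, false), (2, 86, false), (0, 96, false), (1, 89, false), (2, 48, false), (0, 10, false), (1, 94, false), (2, 87, false), (0, 13, false), (1, 112, false), (2, 97, false), (3, 90, false), (4, 49, false), (1, 12, false), (2, 111, false), (3, 96, false), (4, 89, false), (5, 51, false)]),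
    ([0, 4], [13, 12, 11, 10, 9, 8, 5, 4, 2, 0], [(8, 28, true), (7, 74, true), (6, 91, true), (5, 98, true), (4, 104, true), (3, 113, true), (2, 116, true), (1, 118, true), (0, 119, true), (9, 25, true), (8, 74, true), (7, 91, true), (6, 98, true), (5, 104, true), (4, 113, true), (3, 116, true), (2, 118, true), (1, 119, true), (0, 14, true), (7, 72, true), (6, 89, true), (5, 96, true), (4, 102, true), (3, 111, true), (2, 114, true), (1, 12, true), (6, 71, true), (5, 88, true), (4, 95, true), (3, 101, true), (2, 110, true), (1, 11, true), (6, 23, true), (5, 69, true), (4, 86, true), (3, 98, true), (2, 104, true), (1, 113, true), (0, 119, true), (4, 93, true), (3, 99, true), (8, 22, true), (7, 70, true), (6, 87, true), (5, 94, true), (4, 100, true), (3, 105, true), (2, 10, true), (6, 68, true), (5, 85, true), (4, 96, true), (3, 102, true), (2, 107, true), (5, 92, true), (4, 8, true), (7, 21, true), (6, 69, true), (5, 86, true), (4, 98, true), (3, 109, true), (2, 118, true), (1, 119, true), (0, 14, true), (3, 93, true), (2, 9, true), (4, 67, true), (3, 84, true), (2, 97, true), (1, 117, true), (0, 13, true), (1, 7,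 true), (3, 20, true), (2, 66, true), (1, 91, true), (0, 118, true), (2, 87, true), (3, 6, true), (4, 17, true), (3, 66, true), (2, 113, true), (1, 118, true), (0, 14, true), (1, 10, true), (4, 16, true), (3, 55, true), (2, 65, true), (1, 91, true), (0, 118, true), (2, 86, true), (1, 118, true), (0, 14, true), (7, 0, true), (7, 0, false), (2, 8, false), (0, 107, false), (1, 102, false), (2, 85, false), (0, 12, false), (1, 107, false), (2, 102, false), (3, 89, false), (0, 13, false), (1, 117, false), (2, 108, false), (3, 103, false), (4, 90, false), (5, 77, false), (2, 11, false), (3, 106, false), (4, 101, false), (5, 88, false), (6, 80, false), (7, 54, false), (5, 7, false), (0, 117, false), (1, 115, false), (2, 108, false), (3, 103, false), (4, 97, false), (5, 84, false), (0, 114, false), (1, 107, false), (2, 102, false), (3, 96, false), (4, 89, false), (5, 76, false), (0, 106, false), (1, 101, false), (2, 95, false), (3, 88, false), (4, 80, false), (5, 57, false), (0, 11, false), (1, 106, false), (2, 101, false), (3, 95, false), (4, 88, false), (5, 80, false), (6, 61, false), (7, 43, false), (8, 18, false), (4,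 75, false), (5, 56, false), (6, 45, false), (7, 20, false), (0, 12, false), (1, 114, false), (2, 107, false), (3, 102, false), (4, 76, false), (1, 106, false), (2, 101, false), (3, 80, false), (4, 57, false), (5, 46, false), (1, 99, false), (2, 78, false), (0, 102, false), (1, 81, false), (0, 13, false), (1, 103, false), (2, 82, false), (3, 59, false), (1, 12, false), (2, 102, false), (3, 81, false), (4, 62, false), (5, 48, false), (6, 21, false), (0, 77, false), (1, 58, false), (0, 11, false), (1, 80, false), (2, 61, false), (3, 47, false), (1, 10, false), (0, 14, false), (1, 116, false), (2, 113, false), (3, 79, false), (1, 12, false), (2, 114, false), (3, 111, false), (4, 81, false), (5, 60, false), (1, 13, false), (2, 117, false), (3, 115, false), (4, 112, false), (5, 82, false), (6, 63, false), (7, 49, false), (8, 22, false), (0, 119, false), (1, 118, false), (2, 116, false), (3, 79, false), (1, 114, false), (2, 81, false), (3, 60, false), (0, 115, false), (1, 82, false), (2, 63, false), (3, 49, false), (4, 24, false), (0, 80, false), (1, 61, false), (2, 50, false), (0, 12, false), (1, 81, false), (2, 62, false),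 (3, 51, false), (0, 14, false), (1, 118, false), (2, 83, false), (3, 64, false), (4, 53, false), (5, 25, false), (1, 81, false), (2, 62, false), (3, 51, false), (4, 26, false), (1, 13, false), (2, 82, false), (3, 63, false), (4, 52, false), (0, 119, false), (1, 83, false), (2, 64, false), (3, 53, false), (4, 27, false), (1, 6, false), (1, 9, false), (0, 14, false), (1, 119, false), (2, 109, false), (3, 86, false), (2, 12, false), (3, 107, false), (4, 89, false), (5, 0, false), (5, 2, false), (5, 5, false), (6, 44, false), (7, 16, false), (6, 3, false), (7, 42, false), (4, 75, false), (5, 56, false), (6, 45, false), (7, 17, false), (4, 6, false), (5, 75, false), (6, 56, false), (7, 45, false), (8, 20, false), (4, 7, false), (1, 117, false), (2, 108, false), (3, 97, false), (4, 84, false), (1, 107, false), (2, 96, false), (3, 89, false), (4, 76, false), (1, 11, false), (2, 106, false), (3, 95, false), (4, 88, false), (5, 80, false), (6, 57, false), (7, 46, false), (2, 93, false), (0, 116, false), (1, 98, false), (2, 86, false), (3, 78, false), (0, 12, false), (1, 114, false), (2, 96, false), (3, 89, false), (4, 81,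 false), (0, 13, false), (1, 117, false), (2, 115, false), (3, 97, false), (4, 90, false), (5, 82, false), (6, 59, false), (1, 114, false), (2, 96, false), (3, 89, false), (4, 81, false), (5, 62, false), (6, 48, false), (7, 21, false), (2, 8, false), (3, 92, false), (1, 12, false), (2, 114, false), (3, 102, false), (4, 96, false), (5, 85, false), (1, 114, false), (2, 102, false), (3, 96, false), (4, 89, false), (0, 115, false), (1, 103, false), (2, 97, false), (3, 90, false), (4, 77, false), (5, 58, false), (0, 101, false), (1, 95, false), (2, 88, false), (3, 80, false), (4, 61, false), (5, 47, false), (0, 10, false), (1, 100, false), (2, 94, false), (3, 87, false), (0, 14, false), (1, 113, false), (2, 104, false), (3, 98, false), (4, 91, false), (5, 79, false), (1, 12, false), (2, 111, false), (3, 102, false), (4, 96, false), (5, 89, false), (6, 81, false), (7, 60, false), (1, 13, false), (2, 117, false), (3, 112, false), (4, 103, false), (5, 97, false), (6, 90, false), (7, 82, false), (8, 63, false), (9, 49, false), (10, 22, false), (4, 9, false), (5, 99, false), (6, 93, false), (0, 119, false), (1, 118, false),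 (2, 113, false), (3, 109, false), (4, 104, false), (5, 98, false), (6, 86, false), (7, 78, false), (1, 111, false), (2, 107, false), (3, 102, false), (4, 96, false), (5, 89, false), (6, 81, false), (0, 112, false), (1, 108, false), (2, 103, false), (3, 97, false), (4, 90, false), (5, 82, false), (6, 59, false), (0, 12, false), (1, 111, false), (2, 107, false), (3, 102, false), (4, 96, false), (5, 89, false), (6, 81, false), (7, 62, false), (8, 48, false), (9, 23, false), (1, 11, false), (2, 110, false), (3, 106, false), (4, 101, false), (5, 95, false), (6, 88, false), (7, 80, false), (8, 61, false), (9, 50, false), (0, 114, false), (1, 111, false), (2, 107, false), (3, 102, false), (4, 96, false), (5, 89, false), (6, 81, false), (7, 62, false), (8, 51, false), (0, 14, false), (1, 116, false), (2, 113, false), (3, 109, false), (4, 104, false), (5, 98, false), (6, 91, false), (7, 83, false), (8, 64, false), (9, 53, false), (10, 25, false), (0, 116, false), (1, 113, false), (2, 109, false), (3, 104, false), (4, 98, false), (5, 91, false), (6, 83, false), (7, 64, false), (8, 53, false), (9, 28, false), (0, 13, false),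 (1, 115, false), (2, 112, false), (3, 108, false), (4, 103, false), (5, 84, false), (1, 12, false), (2, 114, false), (3, 111, false), (4, 107, false), (5, 102, false), (6, 89, false), (7, 76, false), (2, 110, false), (3, 106, false), (4, 101, false), (5, 88, false), (6, 80, false), (7, 57, false), (2, 11, false), (3, 110, false), (4, 106, false), (5, 101, false), (6, 88, false), (7, 80, false), (8, 61, false), (1, 114, false), (2, 111, false), (3, 107, false), (4, 102, false), (5, 89, false), (6, 81, false), (7, 62, false), (0, 115, false), (1, 112, false), (2, 108, false), (3, 103, false), (4, 90, false), (5, 82, false), (6, 63, false), (7, 2, false), (4, 75, false), (5, 56, false), (6, 45, false), (4, 7, false), (0, 12, false), (1, 114, false), (2, 111, false), (3, 107, false), (4, 102, false), (5, 96, false), (6, 76, false), (1, 110, false), (2, 106, false), (3, 101, false), (4, 95, false), (5, 80, false), (6, 57, false), (7, 46, false), (1, 105, false), (2, 100, false), (3, 94, false), (0, 14, false), (1, 118, false), (2, 109, false), (3, 104, false), (4, 98, false), (5, 79, false), (1, 107, false), (2, 102,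 false), (3, 96, false), (4, 81, false), (5, 60, false), (1, 13, false), (2, 108, false), (3, 103, false), (4, 97, false), (5, 82, false), (6, 63, false), (7, 49, false), (1, 108, false), (2, 103, false), (3, 97, false), (4, 82, false), (5, 63, false), (6, 52, false), (4, 55, false), (1, 11, false), (2, 106, false), (3, 101, false), (4, 57, false), (2, 99, false), (1, 12, false), (2, 114, false), (3, 102, false), (1, 13, false), (2, 117, false), (3, 115, false), (4, 103, false), (5, 59, false), (3, 101, false), (4, 61, false), (2, 102, false), (3, 62, false), (1, 103, false), (2, 63, false), (0, 104, false), (1, 64, false), (1, 6, false), (2, 56, false), (0, 10, false), (1, 100, false), (2, 87, false), (0, 12, false), (1, 111, false), (2, 102, false), (3, 89, false), (4, 60, false), (0, 13, false), (1, 117, false), (2, 112, false), (3, 103, false), (4, 90, false), (5, 63, false), (6, 2, false), (4, 7, false), (0, 117, false), (1, 112, false), (2, 103, false), (3, 97, false), (4, 84, false), (1, 11, false), (2, 110, false), (3, 101, false), (4, 95, false), (5, 88, false), (6, 57, false), (7, 46, false), (1, 110, false),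 (2, 101, false), (3, 95, false), (4, 88, false), (5, 61, false), (6, 50, false), (0, 13, false), (1, 117, false), (2, 112, false), (3, 103, false), (4, 97, false), (5, 90, false), (6, 63, false), (7, 52, false), (0, 14, false), (1, 119, false), (2, 118, false), (3, 113, false), (4, 104, false), (5, 98, false), (6, 91, false), (7, 64, false), (8, 53, false), (7, 5, false), (8, 55, false), (9, 44, false), (4, 9, false), (5, 99, false), (6, 93, false), (0, 119, false), (1, 118, false), (2, 113, false), (3, 109, false), (4, 104, false), (5, 98, false), (6, 86, false), (7, 78, false), (1, 111, false), (2, 107, false), (3, 102, false), (4, 96, false), (5, 89, false), (6, 81, false), (0, 112, false), (1, 108, false), (2, 103, false), (3, 97, false), (4, 90, false), (5, 82, false), (6, 59, false), (0, 12, false), (1, 111, false), (2, 107, false), (3, 102, false), (4, 96, false), (5, 89, false), (6, 81, false), (7, 62, false), (8, 48, false), (0, 111, false), (1, 107, false), (2, 102, false), (3, 96, false), (4, 89, false), (5, 81, false), (6, 62, false), (7, 51, false), (0, 13, false), (1, 112, false), (2, 108, false),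 (3, 103, false), (4, 97, false), (5, 90, false), (6, 82, false), (7, 63, false), (8, 52, false)], [(6, 41, true), (5, 74, true), (4, 83, true), (3, 98, true), (2, 109, true), (1, 116, true), (0, 118, true), (7, 38, true), (6, 74, true), (5, 83, true), (4, 98, true), (3, 109, true), (2, 116, true), (1, 118, true), (0, 14, true), (5, 73, true), (4, 82, true), (3, 97, true), (2, 108, true), (1, 115, true), (0, 117, true), (6, 71, true), (5, 80, true), (4, 95, true), (3, 106, true), (2, 11, true), (6, 37, true), (5, 70, true), (4, 79, true), (3, 98, true), (2, 109, true), (1, 118, true), (0, 119, true), (4, 94, true), (3, 105, true), (8, 36, true), (7, 69, true), (6, 78, true), (5, 93, true), (4, 9, true), (7, 34, true), (6, 70, true), (5, 79, true), (4, 98, true), (3, 113, true), (2, 118, true), (1, 119, true), (0, 14, true), (3, 94, true), (2, 10, true), (4, 67, true), (3, 76, true), (2, 96, true), (1, 12, true), (1, 7, true), (3, 32, true), (2, 65, true), (1, 83, true), (0, 119, true), (2, 78, true), (3, 5, true), (4, 29, true), (3, 66, true), (2, 109, true), (1, 119, true), (0, 14, true), (1, 105, true), (6, 1,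 true), (6, 1, false), (3, 7, false), (0, 112, false), (1, 108, false), (2, 97, false), (3, 84, false), (0, 11, false), (1, 110, false), (2, 106, false), (3, 95, false), (4, 88, false), (5, 43, false), (6, 31, false), (5, 5, false), (6, 44, false), (7, 32, false), (0, 13, false), (1, 115, false), (2, 112, false), (3, 108, false), (4, 84, false), (1, 12, false), (2, 114, false), (3, 111, false), (4, 107, false), (5, 89, false), (6, 76, false), (7, 46, false), (3, 105, false), (4, 87, false), (0, 14, false), (1, 119, false), (2, 118, false), (3, 116, false), (4, 109, false), (5, 91, false), (6, 79, false), (1, 117, false), (2, 115, false), (3, 108, false), (4, 90, false), (5, 82, false), (6, 49, false), (7, 34, false), (0, 118, false), (1, 116, false), (2, 86, false), (3, 78, false), (0, 114, false), (1, 89, false), (2, 81, false), (3, 48, false), (4, 36, false), (0, 88, false), (1, 80, false), (2, 50, false), (0, 13, false), (1, 90, false), (2, 82, false), (3, 52, false), (0, 14, false), (1, 119, false), (2, 91, false), (3, 83, false), (4, 53, false), (5, 38, false), (2, 12, false), (3, 89, false), (4, 81, false),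 (5, 51, false), (0, 119, false), (1, 118, false), (2, 91, false), (3, 83, false), (4, 53, false), (5, 39, false), (2, 75, false), (2, 9, false), (3, 78, false), (2, 10, false), (3, 105, false), (0, 14, false), (1, 119, false), (2, 118, false), (3, 113, false), (4, 109, false), (5, 79, false), (1, 117, false), (2, 112, false), (3, 108, false), (4, 82, false), (5, 1, false), (5, 2, false), (4, 6, false), (5, 75, false), (6, 45, false), (7, 29, false), (5, 44, false), (6, 32, false), (4, 7, false), (1, 13, false), (2, 117, false), (3, 112, false), (4, 108, false), (5, 97, false), (6, 84, false), (7, 46, false), (3, 105, false), (4, 94, false), (5, 87, false), (1, 117, false), (2, 108, false), (3, 97, false), (4, 90, false), (5, 49, false), (6, 34, false), (2, 93, false), (0, 118, false), (1, 98, false), (2, 86, false), (0, 96, false), (1, 89, false), (2, 48, false), (3, 36, false), (0, 10, false), (1, 94, false), (2, 87, false), (0, 13, false), (1, 112, false), (2, 97, false), (3, 90, false), (4, 49, false), (5, 37, false), (1, 11, false), (2, 110, false), (3, 95, false), (4, 88, false), (5, 50, false), (0, 115, false),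 (1, 112, false), (2, 97, false), (3, 90, false), (4, 52, false), (0, 14, false), (1, 116, false), (2, 113, false), (3, 98, false), (4, 91, false), (5, 53, false), (6, 38, false), (0, 116, false), (1, 113, false), (2, 98, false), (3, 91, false), (4, 53, false), (5, 41, false), (4, 3, false), (5, 42, false), (2, 8, false), (3, 92, false), (0, 12, false), (1, 114, false), (2, 111, false), (3, 102, false), (4, 96, false), (5, 85, false), (6, 58, false), (1, 110, false), (2, 101, false), (3, 95, false), (4, 88, false), (5, 61, false), (6, 47, false), (1, 11, false), (2, 110, false), (3, 101, false), (4, 95, false), (5, 88, false), (6, 61, false), (7, 50, false), (0, 114, false), (1, 111, false), (2, 102, false), (3, 96, false), (4, 89, false), (5, 62, false), (6, 51, false), (5, 42, false), (5, 5, false), (6, 44, false), (2, 92, false), (0, 12, false), (1, 114, false), (2, 111, false), (3, 96, false), (4, 85, false), (0, 114, false), (1, 111, false), (2, 96, false), (3, 89, false), (0, 13, false), (1, 115, false), (2, 112, false), (3, 97, false), (4, 90, false), (5, 77, false), (1, 110, false), (2, 95, false), (3, 88,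 false), (4, 80, false), (5, 47, false), (2, 9, false), (3, 93, false), (0, 14, false), (1, 119, false), (2, 113, false), (3, 109, false), (4, 98, false), (5, 86, false), (6, 78, false), (2, 12, false), (3, 111, false), (4, 107, false), (5, 96, false), (6, 89, false), (7, 81, false), (8, 48, false), (2, 111, false), (3, 107, false), (4, 96, false), (5, 89, false), (6, 81, false), (7, 51, false), (1, 112, false), (2, 108, false), (3, 97, false), (4, 90, false), (5, 82, false), (6, 52, false), (6, 3, false), (7, 42, false), (5, 55, false), (6, 44, false), (4, 56, false), (5, 45, false), (3, 8, false), (4, 92, false), (5, 58, false), (1, 11, false), (2, 110, false), (3, 106, false), (4, 101, false), (5, 95, false), (6, 61, false), (7, 47, false), (3, 99, false), (4, 93, false), (1, 12, false), (2, 114, false), (3, 111, false), (4, 102, false), (5, 96, false), (1, 13, false), (2, 117, false), (3, 115, false), (4, 112, false), (5, 103, false), (6, 97, false), (7, 59, false), (2, 114, false), (3, 111, false), (4, 102, false), (5, 96, false), (6, 62, false), (7, 48, false), (3, 100, false), (4, 94, false), (2, 12, false),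 (3, 114, false), (4, 102, false), (5, 96, false), (6, 60, false), (1, 117, false), (2, 115, false), (3, 103, false), (4, 97, false), (5, 63, false), (6, 49, false), (2, 101, false), (3, 95, false), (4, 61, false), (5, 50, false), (1, 102, false), (2, 96, false), (3, 62, false), (4, 51, false), (0, 104, false), (1, 98, false), (2, 64, false), (3, 53, false), (2, 5, false), (3, 55, false), (4, 44, false), (0, 9, false), (1, 99, false), (2, 93, false), (3, 78, false), (0, 12, false), (1, 107, false), (2, 102, false), (3, 96, false), (4, 81, false), (0, 13, false), (1, 117, false), (2, 108, false), (3, 103, false), (4, 97, false), (5, 82, false), (6, 59, false), (1, 107, false), (2, 102, false), (3, 96, false), (4, 81, false), (5, 62, false), (6, 48, false), (1, 12, false), (2, 107, false), (3, 102, false), (4, 96, false), (5, 81, false), (6, 62, false), (7, 51, false), (0, 117, false), (1, 108, false), (2, 103, false), (3, 97, false), (4, 82, false), (5, 63, false), (6, 52, false), (5, 42, false), (2, 92, false), (0, 107, false), (1, 96, false), (0, 13, false), (1, 108, false), (2, 97, false), (3, 77, false), (1, 11,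 false), (2, 106, false), (3, 95, false), (4, 80, false), (5, 47, false), (1, 106, false), (2, 95, false), (3, 80, false), (4, 50, false), (1, 12, false), (2, 107, false), (3, 96, false), (4, 81, false), (5, 51, false), (0, 117, false), (1, 108, false), (2, 97, false), (3, 82, false), (4, 52, false), (0, 14, false), (1, 118, false), (2, 109, false), (3, 98, false), (4, 83, false), (5, 53, false), (4, 44, false), (4, 6, false), (5, 45, false), (2, 93, false), (0, 118, false), (1, 98, false), (2, 86, false), (0, 96, false), (1, 89, false), (2, 48, false), (0, 10, false), (1, 94, false), (2, 87, false), (0, 13, false), (1, 112, false), (2, 97, false), (3, 90, false), (4, 49, false), (1, 12, false), (2, 111, false), (3, 96, false), (4, 89, false), (5, 51, false)]),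
    ([0, 6], [14, 10, 9, 8, 6, 4, 3, 0], [(8, 28, true), (7, 74, true), (6, 91, true), (5, 98, true), (4, 104, true), (3, 113, true), (2, 116, true), (1, 118, true), (0, 119, true), (9, 26, true), (8, 72, true), (7, 89, true), (6, 96, true), (5, 102, true), (4, 111, true), (3, 114, true), (2, 12, true), (8, 25, true), (7, 74, true), (6, 91, true), (5, 98, true), (4, 104, true), (3, 113, true), (2, 116, true), (1, 119, true), (0, 14, true), (6, 72, true), (5, 89, true), (4, 96, true), (3, 102, true), (2, 111, true), (1, 114, true), (7, 71, true), (6, 88, true), (5, 95, true), (4, 101, true), (3, 110, true), (2, 11, true), (7, 15, true), (6, 31, false), (5, 33, false), (2, 100, false), (3, 34, false), (2, 9, false), (2, 10, false), (3, 105, false), (4, 35, false), (2, 105, false), (3, 37, false), (2, 11, false), (3, 106, false), (0, 117, false), (1, 115, false), (2, 108, false), (0, 14, false), (1, 118, false), (2, 116, false), (3, 109, false), (4, 38, false), (1, 114, false), (2, 107, false), (0, 116, false), (1, 109, false), (2, 39, false), (0, 13, false), (1, 115, false), (2, 108, false), (3, 40, false), (4, 0,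 false), (3, 5, false), (4, 32, false), (5, 19, false), (3, 6, false), (4, 75, false), (5, 33, false), (6, 20, false), (0, 14, false), (1, 119, false), (2, 116, false), (3, 86, false), (4, 78, false), (5, 36, false), (6, 23, false), (1, 115, false), (2, 90, false), (3, 82, false), (4, 40, false), (0, 116, false), (1, 91, false), (2, 83, false), (3, 41, false), (4, 27, false), (0, 14, false), (1, 116, false), (2, 91, false), (3, 83, false), (4, 41, false), (5, 28, false), (4, 2, false), (2, 75, false), (3, 45, false), (4, 29, false), (3, 3, false), (4, 42, false), (2, 55, false), (3, 44, false), (2, 6, false), (3, 56, false), (4, 45, false), (5, 30, false), (2, 56, false), (3, 45, false), (4, 33, false), (2, 7, false), (1, 95, false), (2, 57, false), (3, 46, false), (1, 10, false), (2, 94, false), (1, 12, false), (2, 111, false), (3, 96, false), (4, 60, false), (1, 13, false), (2, 117, false), (3, 112, false), (4, 97, false), (5, 63, false), (6, 49, false), (7, 34, false), (4, 8, false), (5, 92, false), (6, 58, false), (3, 11, false), (4, 110, false), (5, 101, false), (6, 95, false), (7, 61, false), (8, 47, false),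 (5, 9, false), (6, 99, false), (7, 93, false), (2, 114, false), (3, 111, false), (4, 107, false), (5, 102, false), (6, 96, false), (1, 115, false), (2, 112, false), (3, 108, false), (4, 103, false), (5, 97, false), (6, 59, false), (1, 12, false), (2, 114, false), (3, 111, false), (4, 107, false), (5, 102, false), (6, 96, false), (7, 62, false), (8, 48, false), (3, 105, false), (4, 100, false), (5, 94, false), (1, 114, false), (2, 107, false), (3, 102, false), (4, 96, false), (5, 60, false), (1, 13, false), (2, 115, false), (3, 108, false), (4, 103, false), (5, 97, false), (6, 63, false), (7, 49, false), (8, 35, false), (3, 99, false), (4, 93, false), (2, 12, false), (3, 114, false), (4, 102, false), (5, 96, false), (1, 117, false), (2, 115, false), (3, 103, false), (4, 97, false), (5, 59, false), (1, 114, false), (2, 102, false), (3, 96, false), (4, 62, false), (5, 48, false), (6, 36, false), (1, 101, false), (2, 95, false), (3, 61, false), (4, 50, false), (1, 13, false), (2, 103, false), (3, 97, false), (4, 63, false), (5, 52, false), (0, 119, false), (1, 104, false), (2, 98, false), (3, 64, false), (4, 53, false),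 (5, 38, false), (0, 14, false), (1, 119, false), (2, 104, false), (3, 98, false), (4, 64, false), (5, 53, false), (6, 41, false), (2, 11, false), (3, 101, false), (4, 95, false), (5, 61, false), (6, 50, false), (2, 12, false), (3, 114, false), (4, 102, false), (5, 96, false), (6, 62, false), (7, 51, false), (0, 119, false), (1, 118, false), (2, 116, false), (3, 104, false), (4, 98, false), (5, 64, false), (6, 53, false), (5, 6, false), (6, 56, false), (0, 117, false), (1, 115, false), (2, 103, false), (3, 84, false), (1, 101, false), (2, 88, false), (3, 57, false), (1, 10, false), (2, 100, false), (3, 87, false), (0, 111, false), (1, 102, false), (2, 89, false), (3, 60, false), (0, 13, false), (1, 112, false), (2, 103, false), (3, 90, false), (4, 63, false), (5, 2, false), (4, 5, false), (5, 55, false), (6, 44, false), (3, 7, false), (0, 112, false), (1, 103, false), (2, 97, false), (3, 84, false), (0, 12, false), (1, 111, false), (2, 102, false), (3, 96, false), (4, 89, false), (5, 76, false), (1, 11, false), (2, 110, false), (3, 101, false), (4, 95, false), (5, 88, false), (6, 80, false), (7, 57, false), (8, 46,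 false), (3, 9, false), (4, 99, false), (5, 93, false), (0, 14, false), (1, 118, false), (2, 116, false), (3, 113, false), (4, 109, false), (5, 104, false), (6, 98, false), (7, 86, false), (8, 78, false), (1, 114, false), (2, 111, false), (3, 107, false), (4, 102, false), (5, 96, false), (6, 89, false), (7, 81, false), (1, 13, false), (2, 115, false), (3, 112, false), (4, 108, false), (5, 103, false), (6, 97, false), (7, 90, false), (8, 82, false), (9, 59, false), (2, 12, false), (3, 114, false), (4, 111, false), (5, 107, false), (6, 102, false), (7, 96, false), (8, 89, false), (9, 81, false), (10, 62, false), (11, 48, false), (3, 110, false), (4, 106, false), (5, 101, false), (6, 95, false), (7, 88, false), (8, 80, false), (9, 61, false), (10, 50, false), (2, 111, false), (3, 107, false), (4, 102, false), (5, 96, false), (6, 89, false), (7, 81, false), (8, 62, false), (9, 51, false), (1, 112, false), (2, 108, false), (3, 103, false), (4, 97, false), (5, 90, false), (6, 82, false), (7, 63, false), (8, 52, false), (0, 113, false), (1, 109, false), (2, 104, false), (3, 98, false), (4, 91, false), (5, 83, false), (6,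 64, false), (7, 53, false), (4, 75, false), (5, 56, false), (6, 45, false), (0, 105, false), (1, 100, false), (2, 94, false), (0, 14, false), (1, 109, false), (2, 104, false), (3, 98, false), (4, 79, false), (1, 12, false), (2, 107, false), (3, 102, false), (4, 96, false), (5, 81, false), (6, 60, false), (1, 13, false), (2, 117, false), (3, 108, false), (4, 103, false), (5, 97, false), (6, 82, false), (7, 63, false), (8, 49, false), (1, 117, false), (2, 108, false), (3, 103, false), (4, 97, false), (5, 82, false), (6, 63, false), (7, 52, false)], [(6, 41, true), (5, 74, true), (4, 83, true), (3, 98, true), (2, 109, true), (1, 116, true), (0, 118, true), (7, 40, true), (6, 73, true), (5, 82, true), (4, 97, true), (3, 108, true), (2, 115, true), (1, 117, true), (8, 38, true), (7, 74, true), (6, 83, true), (5, 98, true), (4, 109, true), (3, 116, true), (2, 118, true), (1, 119, true), (0, 14, true), (6, 73, true), (5, 82, true), (4, 97, true), (3, 108, true), (2, 115, true), (1, 117, true), (0, 13, true), (5, 71, true), (4, 80, true), (3, 95, true), (2, 106, true), (1, 11, true), (5, 1, true), (5, 1, false), (6, 15,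 false), (4, 31, false), (5, 18, false), (3, 32, false), (4, 19, false), (1, 10, false), (2, 105, false), (3, 34, false), (2, 36, false), (3, 21, false), (2, 9, false), (3, 36, false), (4, 23, false), (1, 11, false), (2, 110, false), (3, 106, false), (0, 13, false), (1, 117, false), (2, 115, false), (3, 112, false), (4, 108, false), (0, 14, false), (1, 119, false), (2, 118, false), (3, 116, false), (4, 113, false), (5, 109, false), (6, 38, false), (2, 114, false), (3, 111, false), (4, 107, false), (0, 119, false), (1, 116, false), (2, 113, false), (3, 109, false), (4, 39, false), (0, 14, false), (1, 119, false), (2, 116, false), (3, 113, false), (4, 109, false), (5, 41, false), (6, 25, false), (2, 12, false), (3, 114, false), (4, 111, false), (5, 107, false), (0, 119, false), (1, 118, false), (2, 116, false), (3, 113, false), (4, 109, false), (5, 39, false), (6, 26, false), (5, 15, false), (5, 6, false), (6, 20, false), (0, 14, false), (1, 119, false), (2, 118, false), (3, 116, false), (4, 113, false), (5, 86, false), (6, 23, false), (4, 87, false), (5, 24, false), (2, 114, false), (3, 89, false), (4, 26, false),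 (1, 115, false), (2, 90, false), (0, 116, false), (1, 91, false), (2, 27, false), (0, 14, false), (1, 116, false), (2, 91, false), (3, 28, false), (3, 1, false), (4, 15, false), (3, 2, false), (2, 45, false), (3, 29, false), (2, 5, false), (3, 44, false), (4, 32, false), (5, 16, false), (2, 44, false), (3, 32, false), (4, 19, false), (2, 7, false), (3, 46, false), (2, 10, false), (3, 94, false), (1, 13, false), (2, 115, false), (3, 112, false), (4, 97, false), (5, 49, false), (6, 34, false), (4, 9, false), (5, 93, false), (2, 12, false), (3, 114, false), (4, 111, false), (5, 107, false), (6, 96, false), (7, 48, false), (8, 36, false), (9, 21, false), (5, 93, false), (2, 114, false), (3, 111, false), (4, 96, false), (5, 48, false), (6, 36, false), (7, 23, false), (3, 94, false), (1, 115, false), (2, 97, false), (3, 49, false), (4, 37, false), (5, 24, false), (1, 95, false), (2, 50, false), (1, 13, false), (2, 97, false), (3, 52, false), (0, 119, false), (1, 98, false), (2, 53, false), (3, 38, false), (1, 12, false), (2, 96, false), (3, 51, false), (0, 14, false), (1, 119, false), (2, 118, false), (3, 98, false),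 (4, 53, false), (5, 39, false), (0, 119, false), (1, 118, false), (2, 98, false), (3, 53, false), (4, 41, false), (5, 25, false), (0, 14, false), (1, 119, false), (2, 118, false), (3, 98, false), (4, 53, false), (5, 41, false), (6, 28, false), (3, 11, false), (4, 95, false), (5, 50, false), (1, 117, false), (2, 115, false), (3, 97, false), (4, 52, false), (0, 118, false), (1, 116, false), (2, 98, false), (3, 53, false), (3, 3, false), (4, 42, false), (3, 5, false), (4, 55, false), (5, 44, false), (2, 8, false), (3, 92, false), (0, 114, false), (1, 102, false), (2, 96, false), (0, 13, false), (1, 115, false), (2, 103, false), (3, 97, false), (4, 77, false), (5, 58, false), (1, 101, false), (2, 95, false), (3, 80, false), (4, 61, false), (5, 47, false), (1, 9, false), (2, 99, false), (3, 93, false), (4, 78, false), (1, 12, false), (2, 107, false), (3, 102, false), (4, 96, false), (5, 81, false), (0, 117, false), (1, 108, false), (2, 103, false), (3, 97, false), (4, 82, false), (5, 59, false), (0, 107, false), (1, 102, false), (2, 96, false), (3, 81, false), (4, 62, false), (5, 48, false), (0, 12, false), (1, 107,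 false), (2, 102, false), (3, 96, false), (4, 81, false), (5, 62, false), (6, 51, false), (0, 13, false), (1, 117, false), (2, 108, false), (3, 103, false), (4, 97, false), (5, 82, false), (6, 63, false), (7, 52, false), (6, 42, false), (5, 44, false), (5, 6, false), (6, 45, false), (3, 92, false), (1, 107, false), (2, 96, false), (3, 85, false), (1, 11, false), (2, 106, false), (3, 95, false), (4, 88, false), (5, 47, false), (2, 93, false), (0, 14, false), (1, 119, false), (2, 116, false), (3, 98, false), (4, 86, false), (2, 12, false), (3, 114, false), (4, 96, false), (5, 89, false), (6, 48, false), (4, 10, false), (5, 94, false), (6, 87, false), (1, 117, false), (2, 115, false), (3, 112, false), (4, 97, false), (5, 90, false), (6, 49, false), (2, 110, false), (3, 95, false), (4, 88, false), (5, 50, false), (1, 111, false), (2, 96, false), (3, 89, false), (4, 51, false), (0, 113, false), (1, 98, false), (2, 91, false), (3, 53, false), (3, 5, false), (4, 44, false), (1, 9, false), (2, 93, false), (0, 14, false), (1, 113, false), (2, 109, false), (3, 98, false), (4, 86, false), (5, 78, false), (1, 12, false), (2,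 111, false), (3, 107, false), (4, 96, false), (5, 89, false), (6, 81, false), (7, 48, false), (1, 111, false), (2, 107, false), (3, 96, false), (4, 89, false), (5, 81, false), (6, 51, false), (1, 13, false), (2, 112, false), (3, 108, false), (4, 97, false), (5, 90, false), (6, 82, false), (7, 52, false)])]

/-- A conjugation. -/
def twoUSixFus5 : Schur.Tails.Fus where
  xs := [[14, 9, 8, 7, 1, 0], [14, 13, 12, 11, 9, 8, 7, 6, 5, 0], [13, 10, 7, 2], [13, 11, 9, 8, 7, 6, 5, 4, 2], [14, 12, 11, 10, 8, 7, 5, 4, 3, 2], [14, 13, 12, 9, 8, 7, 5, 2], [14, 11, 9, 8], [14, 4], [12, 9], [14, 12, 11, 10, 4], [14, 13, 12, 9, 8, 7, 4], [14, 13, 10, 8, 7, 4], [12, 11, 10, 8, 7], [14, 13, 11, 10, 9, 8, 7], [14, 12, 10, 8]]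
  ys := [[14, 10, 8, 1], [14, 13, 11, 10, 8, 5, 1, 0], [12, 10, 9, 8, 7, 3, 2], [12, 11, 10, 8, 5, 4, 3, 2], [14, 13, 12, 11, 10, 9, 8, 6, 4, 3], [14, 13, 10, 8, 6, 3, 2], [14, 11, 10, 7], [14, 4], [13, 12, 10], [14, 13, 12, 11, 10, 9, 4], [14, 13, 10, 8, 4], [14, 12, 10, 9, 8, 4], [13, 12, 11, 10, 9, 8], [14, 12, 11, 9, 8], [14, 13, 12, 10, 9, 7]]
  rels := [
    ([1, 1], [14, 13, 11, 8, 7, 6], [(9, 28, true), (8, 83, true), (7, 91, true), (6, 98, true), (5, 104, true), (4, 109, true), (3, 116, true), (2, 118, true), (1, 119, true), (0, 14, true), (8, 27, true), (7, 83, true), (6, 91, true), (5, 98, true), (4, 104, true), (3, 109, true), (2, 116, true), (1, 118, true), (0, 119, true), (8, 82, true), (7, 90, true), (6, 97, true), (5, 103, true), (4, 108, true), (3, 115, true), (2, 117, true), (1, 13, true), (8, 26, true), (7, 81, true), (6, 89, true), (5, 96, true), (4, 102, true), (3, 107, true), (2, 114, true), (1, 12, true), (7, 25, true), (6, 83, true), (5, 91, true), (4, 98, true), (3, 104, true), (2, 109, true), (1, 116, true), (0, 14, true), (5, 81, true), (4, 89, true), (3, 96, true), (2, 102, true), (1,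 107, true), (0, 114, true), (6, 80, true), (5, 88, true), (4, 95, true), (3, 101, true), (2, 106, true), (1, 11, true), (6, 23, true), (5, 78, true), (4, 86, true), (3, 98, true), (2, 104, true), (1, 109, true), (0, 118, true), (4, 93, true), (3, 99, true), (2, 9, true), (6, 22, true), (5, 79, true), (4, 91, true), (3, 98, true), (2, 104, true), (1, 118, true), (0, 14, true), (3, 87, true), (2, 94, true), (1, 100, true), (5, 77, true), (4, 90, true), (3, 97, true), (2, 103, true), (1, 112, true), (0, 117, true), (5, 89, true), (4, 96, true), (3, 102, true), (2, 111, true), (1, 12, true), (4, 85, true), (3, 96, true), (2, 102, true), (1, 111, true), (4, 92, true), (3, 8, true), (6, 21, true), (5, 78, true), (4, 86, true), (3, 98, true), (2, 113, true), (1, 118, true), (0, 119, true), (4, 93, true), (7, 76, true), (6, 89, true), (5, 96, true), (4, 107, true), (3, 111, true), (2, 12, true), (5, 84, true), (4, 97, true), (3, 108, true), (2, 112, true), (1, 13, true), (3, 7, true), (5, 20, true), (4, 75, true), (3, 6, true), (4, 19, true), (3, 5, true), (3, 0, true), (3, 8, false), (2, 99, false), (1, 11, false), (2,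 110, false), (3, 101, false), (0, 116, false), (1, 113, false), (2, 104, false), (3, 4, false), (0, 14, false), (1, 116, false), (2, 113, false), (3, 104, false), (4, 74, false), (3, 9, false), (4, 99, false), (5, 69, false), (1, 12, false), (2, 114, false), (3, 111, false), (4, 107, false), (5, 102, false), (6, 72, false), (6, 7, false), (5, 92, false), (3, 105, false), (4, 94, false), (1, 13, false), (2, 117, false), (3, 115, false), (4, 108, false), (5, 97, false), (0, 119, false), (1, 118, false), (2, 116, false), (3, 109, false), (4, 98, false), (4, 8, false), (3, 99, false), (3, 10, false), (4, 100, false), (2, 110, false), (3, 101, false), (0, 117, false), (1, 112, false), (2, 103, false), (0, 14, false), (1, 118, false), (2, 113, false), (3, 104, false)], [(7, 28, true), (6, 41, true), (5, 83, true), (4, 104, true), (3, 113, true), (2, 116, true), (1, 119, true), (0, 14, true), (6, 27, true), (5, 41, true), (4, 83, true), (3, 104, true), (2, 113, true), (1, 116, true), (0, 119, true), (6, 40, true), (5, 82, true), (4, 103, true), (3, 112, true), (2, 115, true), (1, 13, true), (6, 25, true), (5, 41, true),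 (4, 83, true), (3, 104, true), (2, 113, true), (1, 116, true), (0, 14, true), (4, 39, true), (3, 83, true), (2, 104, true), (1, 113, true), (0, 116, true), (4, 81, true), (3, 102, true), (2, 111, true), (1, 114, true), (6, 38, true), (5, 83, true), (4, 104, true), (3, 113, true), (2, 116, true), (1, 118, true), (0, 14, true), (4, 82, true), (3, 103, true), (2, 112, true), (1, 115, true), (0, 117, true), (5, 80, true), (4, 101, true), (3, 110, true), (2, 11, true), (6, 24, true), (5, 37, true), (4, 79, true), (3, 104, true), (2, 113, true), (1, 118, true), (0, 119, true), (4, 100, true), (3, 10, true), (6, 22, true), (5, 37, true), (4, 79, true), (3, 104, true), (2, 118, true), (1, 119, true), (0, 14, true), (2, 100, true), (5, 35, true), (4, 79, true), (3, 104, true), (2, 113, true), (1, 118, true), (0, 119, true), (4, 100, true), (3, 10, true), (4, 78, true), (3, 99, true), (5, 77, true), (4, 103, true), (3, 108, true), (2, 117, true), (1, 13, true), (3, 102, true), (2, 107, true), (1, 12, true), (2, 8, true), (4, 19, true), (3, 32, true), (2, 5, true), (3, 15, true), (2, 1, true), (2, 0, true), (2, 7, false),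 (1, 10, false), (2, 105, false), (3, 94, false), (1, 11, false), (2, 110, false), (3, 106, false), (4, 95, false), (0, 116, false), (1, 113, false), (2, 109, false), (3, 98, false), (4, 4, false), (0, 14, false), (1, 116, false), (2, 113, false), (3, 109, false), (4, 98, false), (5, 74, false), (2, 105, false), (3, 94, false), (4, 70, false), (1, 12, false), (2, 114, false), (3, 107, false), (4, 96, false), (5, 72, false), (1, 13, false), (2, 117, false), (3, 115, false), (4, 108, false), (5, 97, false), (6, 73, false), (5, 8, false), (6, 92, false), (4, 99, false), (5, 93, false), (4, 10, false), (5, 100, false), (6, 94, false), (2, 114, false), (3, 111, false), (4, 102, false), (5, 96, false), (0, 119, false), (1, 116, false), (2, 113, false), (3, 104, false), (4, 98, false), (3, 92, false), (3, 9, false), (4, 93, false), (1, 110, false), (2, 106, false), (3, 95, false), (1, 12, false), (2, 111, false), (3, 107, false), (4, 96, false), (0, 14, false), (1, 119, false), (2, 118, false), (3, 113, false), (4, 109, false), (5, 98, false)]),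
    ([2, 2], [12, 10, 9, 8], [(3, 52, true), (2, 97, true), (1, 112, true), (0, 13, true), (2, 49, true), (1, 97, true), (0, 112, true), (2, 94, true), (1, 10, true), (2, 46, true), (1, 7, true), (1, 2, true), (1, 9, false), (1, 12, false), (2, 107, false), (3, 4, false), (2, 10, false), (3, 105, false), (4, 70, false), (2, 11, false), (3, 110, false), (4, 106, false), (5, 71, false), (1, 114, false), (2, 111, false), (3, 107, false), (4, 72, false), (0, 14, false), (1, 119, false), (2, 116, false), (3, 113, false), (4, 109, false), (5, 74, false), (5, 7, false), (5, 8, false), (6, 92, false), (4, 99, false), (5, 93, false), (2, 12, false), (3, 114, false), (4, 111, false), (5, 102, false), (6, 96, false), (1, 117, false), (2, 115, false), (3, 112, false), (4, 103, false), (5, 97, false), (0, 118, false), (1, 116, false), (2, 113, false), (3, 104, false), (4, 98, false)], [(6, 51, true), (5, 62, true), (4, 96, true), (3, 102, true), (2, 107, true), (1, 111, true), (0, 12, true), (5, 49, true), (4, 63, true), (3, 97, true), (2, 103, true), (1, 108, true), (0, 112, true), (5, 60, true), (4, 96, true), (3, 102, true),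 (2, 107, true), (1, 111, true), (5, 94, true), (4, 100, true), (3, 105, true), (2, 10, true), (6, 48, true), (5, 62, true), (4, 96, true), (3, 102, true), (2, 107, true), (1, 12, true), (4, 59, true), (3, 97, true), (2, 103, true), (1, 108, true), (0, 13, true), (2, 96, true), (1, 102, true), (0, 107, true), (3, 93, true), (2, 99, true), (1, 9, true), (4, 47, true), (3, 61, true), (2, 95, true), (1, 101, true), (4, 58, true), (3, 92, true), (2, 8, true), (4, 46, true), (3, 57, true), (2, 95, true), (1, 11, true), (1, 7, true), (2, 42, true), (1, 3, true), (1, 2, true), (1, 10, false), (0, 111, false), (0, 13, false), (1, 112, false), (2, 4, false), (2, 9, false), (3, 69, false), (1, 105, false), (2, 70, false), (1, 11, false), (2, 106, false), (3, 71, false), (1, 12, false), (2, 114, false), (3, 107, false), (4, 72, false), (0, 117, false), (1, 115, false), (2, 108, false), (3, 73, false), (0, 14, false), (1, 118, false), (2, 116, false), (3, 109, false), (4, 74, false), (4, 8, false), (3, 10, false), (4, 105, false), (5, 100, false), (1, 13, false), (2, 117, false), (3, 115, false), (4, 112, false), (5, 108, false),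 (6, 103, false), (0, 119, false), (1, 118, false), (2, 116, false), (3, 113, false), (4, 109, false), (5, 104, false)]),
    ([3, 3], [14, 13, 12, 10, 8, 7], [(8, 52, true), (7, 73, true), (6, 82, true), (5, 90, true), (4, 97, true), (3, 103, true), (2, 108, true), (1, 115, true), (0, 13, true), (7, 50, true), (6, 71, true), (5, 80, true), (4, 88, true), (3, 95, true), (2, 101, true), (1, 106, true), (0, 11, true), (6, 48, true), (5, 72, true), (4, 81, true), (3, 89, true), (2, 96, true), (1, 102, true), (0, 107, true), (6, 69, true), (5, 78, true), (4, 86, true), (3, 98, true), (2, 104, true), (1, 109, true), (0, 118, true), (4, 93, true), (3, 99, true), (2, 9, true), (7, 47, true), (6, 71, true), (5, 80, true), (4, 88, true), (3, 95, true), (2, 101, true), (7, 68, true), (6, 77, true), (5, 90, true), (4, 97, true), (3, 103, true), (2, 115, true), (1, 117, true), (6, 89, true), (5, 96, true), (4, 102, true), (3, 114, true), (2, 12, true), (5, 85, true), (4, 96, true), (3, 102, true), (2, 114, true), (5, 92, true), (4, 8, true), (8, 46, true), (7, 67, true), (6, 76, true), (5, 89, true), (4, 96, true), (3, 114,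 true), (2, 12, true), (4, 84, true), (3, 97, true), (2, 115, true), (1, 13, true), (2, 7, true), (5, 45, true), (4, 66, true), (3, 83, true), (2, 91, true), (1, 116, true), (0, 14, true), (2, 79, true), (1, 91, true), (0, 116, true), (2, 87, true), (4, 75, true), (3, 6, true), (5, 44, true), (4, 65, true), (3, 83, true), (2, 113, true), (1, 116, true), (0, 14, true), (2, 78, true), (3, 5, true), (4, 43, true), (3, 71, true), (2, 106, true), (1, 110, true), (0, 11, true), (2, 67, true), (3, 4, true), (3, 2, true), (3, 4, false), (0, 14, false), (1, 113, false), (2, 109, false), (3, 98, false), (4, 74, false), (2, 93, false), (3, 69, false), (1, 12, false), (2, 111, false), (3, 96, false), (4, 72, false), (3, 8, false), (3, 9, false), (4, 99, false), (1, 111, false), (2, 107, false), (3, 102, false), (1, 13, false), (2, 112, false), (3, 108, false), (4, 103, false), (0, 119, false), (1, 113, false), (2, 109, false), (3, 104, false), (4, 7, false), (3, 92, false), (1, 105, false), (2, 94, false), (1, 11, false), (2, 106, false), (3, 95, false), (1, 12, false), (2, 114, false), (3, 107, false), (4, 96, false), (4, 8,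 false), (3, 99, false), (3, 10, false), (4, 100, false), (2, 110, false), (3, 101, false), (0, 117, false), (1, 112, false), (2, 103, false), (0, 14, false), (1, 118, false), (2, 113, false), (3, 104, false)], [(7, 51, true), (6, 62, true), (5, 72, true), (4, 81, true), (3, 102, true), (2, 111, true), (1, 114, true), (0, 12, true), (6, 50, true), (5, 61, true), (4, 71, true), (3, 80, true), (2, 101, true), (1, 110, true), (0, 11, true), (5, 49, true), (4, 63, true), (3, 73, true), (2, 82, true), (1, 103, true), (0, 112, true), (5, 60, true), (4, 72, true), (3, 81, true), (2, 102, true), (1, 111, true), (5, 70, true), (4, 79, true), (3, 104, true), (2, 113, true), (1, 118, true), (0, 119, true), (4, 100, true), (3, 10, true), (7, 47, true), (6, 61, true), (5, 71, true), (4, 80, true), (3, 101, true), (7, 58, true), (6, 68, true), (5, 77, true), (4, 103, true), (3, 115, true), (2, 117, true), (1, 13, true), (3, 102, true), (2, 114, true), (1, 12, true), (2, 8, true), (5, 44, true), (4, 55, true), (3, 65, true), (2, 83, true), (1, 116, true), (0, 14, true), (1, 78, true), (2, 5, true), (4, 43, true), (3, 61, true),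 (2, 71, true), (1, 106, true), (0, 11, true), (2, 57, true), (1, 71, true), (0, 106, true), (2, 67, true), (4, 54, true), (3, 71, true), (2, 95, true), (1, 106, true), (0, 11, true), (2, 68, true), (1, 92, true), (3, 4, true), (4, 42, true), (3, 3, true), (3, 2, true), (3, 4, false), (0, 14, false), (1, 109, false), (2, 104, false), (3, 98, false), (4, 74, false), (1, 10, false), (2, 105, false), (3, 100, false), (4, 94, false), (5, 70, false), (1, 12, false), (2, 111, false), (3, 107, false), (4, 102, false), (5, 96, false), (6, 72, false), (1, 13, false), (2, 117, false), (3, 112, false), (4, 108, false), (5, 103, false), (6, 97, false), (7, 73, false), (5, 92, false), (3, 105, false), (4, 94, false), (1, 117, false), (2, 108, false), (3, 97, false), (0, 118, false), (1, 109, false), (2, 98, false), (2, 8, false), (3, 92, false), (1, 99, false), (2, 93, false), (1, 10, false), (2, 100, false), (3, 94, false), (1, 11, false), (2, 110, false), (3, 101, false), (4, 95, false), (0, 114, false), (1, 111, false), (2, 102, false), (3, 96, false), (0, 13, false), (1, 115, false), (2, 112, false), (3, 103, false), (4,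 97, false), (3, 92, false), (3, 9, false), (4, 93, false), (1, 110, false), (2, 106, false), (3, 95, false), (1, 12, false), (2, 111, false), (3, 107, false), (4, 96, false), (0, 14, false), (1, 119, false), (2, 118, false), (3, 113, false), (4, 109, false), (5, 98, false)]),
    ([5, 5], [12, 11, 7], [(7, 53, true), (6, 83, true), (5, 98, true), (4, 104, true), (3, 109, true), (2, 118, true), (1, 119, true), (0, 14, true), (6, 52, true), (5, 82, true), (4, 97, true), (3, 103, true), (2, 108, true), (1, 117, true), (0, 13, true), (5, 51, true), (4, 81, true), (3, 96, true), (2, 102, true), (1, 107, true), (0, 12, true), (4, 48, true), (3, 81, true), (2, 96, true), (1, 102, true), (0, 107, true), (4, 78, true), (3, 93, true), (2, 99, true), (1, 9, true), (4, 47, true), (3, 80, true), (2, 95, true), (1, 101, true), (4, 77, true), (3, 97, true), (2, 103, true), (1, 115, true), (0, 117, true), (4, 96, true), (3, 102, true), (2, 114, true), (1, 12, true), (3, 92, true), (2, 8, true), (4, 46, true), (3, 76, true), (2, 96, true), (1, 114, true), (3, 7, true), (4, 44, true), (3, 5, true), (3, 2, true), (3, 4, false), (0,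 14, false), (1, 119, false), (2, 118, false), (3, 116, false), (4, 74, false), (4, 7, false), (4, 8, false), (5, 92, false), (4, 10, false), (5, 100, false), (6, 94, false), (1, 117, false), (2, 115, false), (3, 112, false), (4, 103, false), (5, 97, false), (0, 118, false), (1, 116, false), (2, 113, false), (3, 104, false), (4, 98, false)], [(6, 53, true), (5, 64, true), (4, 91, true), (3, 104, true), (2, 113, true), (1, 119, true), (0, 14, true), (5, 52, true), (4, 63, true), (3, 90, true), (2, 103, true), (1, 112, true), (0, 13, true), (4, 49, true), (3, 63, true), (2, 90, true), (1, 103, true), (0, 112, true), (4, 60, true), (3, 89, true), (2, 102, true), (1, 111, true), (4, 87, true), (3, 100, true), (2, 10, true), (5, 47, true), (4, 61, true), (3, 88, true), (2, 101, true), (5, 58, true), (4, 85, true), (3, 102, true), (2, 114, true), (1, 12, true), (2, 8, true), (4, 45, true), (3, 56, true), (2, 6, true), (3, 42, true), (2, 3, true), (2, 2, true), (2, 4, false), (0, 14, false), (1, 119, false), (2, 116, false), (3, 74, false), (3, 8, false), (3, 9, false), (4, 99, false), (3, 10, false), (4, 105, false), (5,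 100, false), (2, 12, false), (3, 114, false), (4, 111, false), (5, 107, false), (6, 102, false), (0, 119, false), (1, 118, false), (2, 116, false), (3, 113, false), (4, 109, false), (5, 104, false)]),
    ([7, 7], [], [(1, 74, true), (0, 14, true), (0, 4, true)], [(1, 74, true), (0, 14, true), (0, 4, true)]),
    ([0, 1], [14, 12, 10, 8, 7, 6, 1, 0], [(5, 28, true), (4, 41, true), (3, 98, true), (2, 104, true), (1, 109, true), (0, 14, true), (4, 27, true), (3, 41, true), (2, 98, true), (1, 104, true), (0, 109, true), (4, 40, true), (3, 97, true), (2, 103, true), (1, 108, true), (6, 26, true), (5, 39, true), (4, 98, true), (3, 104, true), (2, 109, true), (1, 119, true), (0, 14, true), (3, 96, true), (2, 102, true), (1, 107, true), (6, 25, true), (5, 41, true), (4, 98, true), (3, 104, true), (2, 109, true), (1, 118, true), (0, 119, true), (6, 39, true), (5, 98, true), (4, 104, true), (3, 109, true), (2, 118, true), (1, 119, true), (0, 14, true), (4, 96, true), (3, 102, true), (2, 107, true), (1, 12, true), (4, 38, true), (3, 98, true), (2, 104, true), (1, 109, true), (0, 119, true), (4, 97, true), (3, 103, true),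 (2, 108, true), (1, 13, true), (3, 95, true), (2, 101, true), (1, 106, true), (6, 23, true), (5, 36, true), (4, 93, true), (3, 99, true), (2, 9, true), (5, 22, true), (4, 37, true), (3, 94, true), (2, 100, true), (5, 35, true), (4, 94, true), (3, 100, true), (2, 10, true), (3, 93, true), (2, 99, true), (4, 92, true), (3, 8, true), (5, 21, true), (4, 36, true), (3, 93, true), (2, 9, true), (3, 34, true), (2, 94, true), (3, 7, true), (4, 20, true), (3, 33, true), (5, 19, true), (4, 32, true), (6, 0, true), (6, 0, false), (5, 15, false), (3, 7, false), (1, 13, false), (2, 115, false), (3, 112, false), (4, 97, false), (5, 84, false), (2, 12, false), (3, 114, false), (4, 111, false), (5, 96, false), (6, 89, false), (7, 76, false), (5, 9, false), (6, 93, false), (0, 119, false), (1, 118, false), (2, 116, false), (3, 113, false), (4, 109, false), (5, 98, false), (6, 86, false), (7, 78, false), (8, 21, false), (5, 8, false), (6, 92, false), (1, 114, false), (2, 111, false), (3, 107, false), (4, 102, false), (5, 96, false), (6, 85, false), (1, 12, false), (2, 114, false), (3, 111, false), (4, 107, false), (5, 102, false),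 (6, 96, false), (7, 89, false), (0, 117, false), (1, 115, false), (2, 112, false), (3, 108, false), (4, 103, false), (5, 97, false), (6, 90, false), (7, 77, false), (2, 105, false), (3, 100, false), (4, 94, false), (5, 87, false), (0, 14, false), (1, 118, false), (2, 116, false), (3, 109, false), (4, 104, false), (5, 98, false), (6, 91, false), (7, 79, false), (8, 22, false), (3, 99, false), (4, 93, false), (0, 118, false), (1, 116, false), (2, 104, false), (3, 98, false), (4, 86, false), (5, 78, false), (6, 23, false), (0, 14, false), (1, 118, false), (2, 116, false), (3, 104, false), (4, 98, false), (5, 91, false), (6, 83, false), (7, 28, false), (3, 9, false), (2, 106, false), (1, 107, false), (1, 13, false), (2, 108, false), (0, 119, false), (1, 109, false), (2, 8, false), (1, 99, false), (1, 11, false), (2, 101, false), (0, 14, false), (1, 119, false), (2, 116, false), (3, 104, false), (4, 4, false), (0, 119, false), (1, 116, false), (2, 104, false), (3, 74, false), (2, 9, false), (3, 99, false), (4, 69, false), (1, 12, false), (2, 114, false), (3, 107, false), (4, 102, false), (5, 72, false), (5, 7, false),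 (4, 92, false), (3, 93, false), (1, 114, false), (2, 96, false), (0, 115, false), (1, 97, false), (0, 14, false), (1, 116, false), (2, 98, false), (2, 8, false), (2, 10, false), (3, 100, false), (1, 110, false), (2, 101, false), (1, 12, false), (2, 111, false), (3, 102, false)], [(3, 41, true), (2, 104, true), (1, 113, true), (0, 14, true), (2, 40, true), (1, 103, true), (0, 112, true), (3, 38, true), (2, 104, true), (1, 113, true), (0, 119, true), (3, 103, true), (2, 112, true), (1, 13, true), (2, 101, true), (1, 110, true), (4, 37, true), (3, 100, true), (2, 10, true), (3, 35, true), (2, 100, true), (3, 99, true), (4, 8, true), (4, 32, true), (5, 1, true), (5, 1, false), (6, 15, false), (4, 8, false), (1, 12, false), (2, 114, false), (3, 111, false), (4, 107, false), (5, 102, false), (1, 13, false), (2, 117, false), (3, 115, false), (4, 112, false), (5, 108, false), (6, 103, false), (7, 77, false), (5, 99, false), (6, 78, false), (4, 100, false), (0, 119, false), (1, 118, false), (2, 116, false), (3, 104, false), (4, 79, false), (5, 35, false), (3, 10, false), (4, 100, false), (0, 14, false), (1, 119, false),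 (2, 118, false), (3, 116, false), (4, 113, false), (5, 104, false), (6, 79, false), (7, 37, false), (8, 22, false), (4, 100, false), (0, 119, false), (1, 118, false), (2, 116, false), (3, 104, false), (4, 79, false), (5, 37, false), (6, 24, false), (0, 14, false), (1, 119, false), (2, 118, false), (3, 116, false), (4, 104, false), (5, 83, false), (6, 41, false), (7, 28, false), (4, 10, false), (3, 110, false), (1, 117, false), (2, 112, false), (0, 118, false), (1, 113, false), (2, 7, false), (1, 94, false), (1, 11, false), (2, 95, false), (0, 14, false), (1, 118, false), (2, 116, false), (3, 98, false), (4, 4, false), (0, 118, false), (1, 116, false), (2, 98, false), (3, 74, false), (2, 10, false), (3, 94, false), (4, 70, false), (0, 114, false), (1, 111, false), (2, 96, false), (3, 72, false), (0, 13, false), (1, 115, false), (2, 112, false), (3, 97, false), (4, 73, false), (3, 8, false), (4, 92, false), (2, 100, false), (3, 94, false), (0, 115, false), (1, 103, false), (2, 97, false), (0, 14, false), (1, 116, false), (2, 104, false), (3, 98, false), (2, 92, false), (2, 9, false), (3, 93, false), (2, 10, false),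 (3, 105, false), (4, 94, false), (1, 110, false), (2, 106, false), (3, 95, false), (1, 12, false), (2, 111, false), (3, 107, false), (4, 96, false), (1, 13, false), (2, 117, false), (3, 112, false), (4, 108, false), (5, 97, false)]),
    ([0, 2], [14, 13, 10, 9, 8, 7, 3, 0], [(5, 27, true), (4, 41, true), (3, 98, true), (2, 104, true), (1, 109, true), (0, 14, true), (3, 40, true), (2, 97, true), (1, 103, true), (0, 108, true), (5, 24, true), (4, 37, true), (3, 94, true), (2, 100, true), (1, 105, true), (6, 21, true), (5, 36, true), (4, 93, true), (3, 99, true), (2, 9, true), (4, 34, true), (3, 94, true), (2, 100, true), (1, 10, true), (2, 7, true), (3, 16, true), (2, 32, true), (3, 29, true), (2, 75, true), (2, 7, false), (0, 103, false), (1, 97, false), (2, 84, false), (0, 12, false), (1, 102, false), (2, 96, false), (3, 89, false), (4, 76, false), (5, 46, false), (1, 92, false), (0, 96, false), (1, 85, false), (0, 12, false), (1, 96, false), (2, 89, false), (0, 13, false), (1, 117, false), (2, 97, false), (3, 90, false), (4, 77, false), (2, 11, false), (3, 95, false), (4, 88, false), (5, 80, false), (6, 47, false),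 (3, 9, false), (4, 93, false), (0, 14, false), (1, 119, false), (2, 118, false), (3, 116, false), (4, 109, false), (5, 98, false), (6, 86, false), (7, 78, false), (2, 114, false), (3, 107, false), (4, 96, false), (5, 89, false), (6, 81, false), (7, 48, false), (0, 119, false), (1, 116, false), (2, 109, false), (3, 98, false), (4, 91, false), (5, 83, false), (6, 53, false), (6, 4, false), (2, 93, false), (0, 14, false), (1, 119, false), (2, 116, false), (3, 98, false), (4, 86, false), (0, 119, false), (1, 116, false), (2, 98, false), (3, 91, false), (4, 65, false), (2, 10, false), (3, 94, false), (0, 14, false), (1, 119, false), (2, 116, false), (3, 113, false), (4, 98, false), (5, 66, false), (4, 67, false), (4, 8, false), (5, 68, false), (4, 9, false), (5, 99, false), (6, 69, false), (2, 110, false), (3, 106, false), (4, 101, false), (5, 71, false), (1, 112, false), (2, 108, false), (3, 103, false), (4, 73, false), (0, 113, false), (1, 109, false), (2, 104, false), (1, 99, false), (0, 12, false), (1, 111, false), (2, 102, false), (3, 4, false), (1, 100, false), (2, 70, false), (1, 11, false), (2, 101, false), (3,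 71, false), (0, 114, false), (1, 102, false), (2, 72, false), (0, 14, false), (1, 116, false), (2, 104, false), (3, 74, false), (3, 7, false), (2, 92, false), (2, 9, false), (3, 93, false), (1, 12, false), (2, 114, false), (3, 107, false), (4, 96, false), (1, 13, false), (2, 117, false), (3, 115, false), (4, 108, false), (5, 97, false), (0, 119, false), (1, 118, false), (2, 116, false), (3, 109, false), (4, 98, false), (4, 8, false), (3, 99, false), (3, 10, false), (4, 100, false), (2, 110, false), (3, 101, false), (0, 117, false), (1, 112, false), (2, 103, false), (0, 14, false), (1, 118, false), (2, 113, false), (3, 104, false)], [(3, 39, true), (2, 104, true), (1, 113, true), (0, 14, true), (1, 102, true), (0, 111, true), (3, 37, true), (2, 100, true), (1, 10, true), (2, 36, true), (1, 99, true), (3, 35, true), (2, 100, true), (1, 105, true), (3, 99, true), (2, 9, true), (2, 8, true), (2, 34, true), (1, 10, true), (2, 30, true), (5, 29, true), (4, 56, true), (3, 75, true), (2, 6, true), (1, 8, false), (2, 92, false), (0, 102, false), (1, 96, false), (0, 13, false), (1, 103, false), (2, 97, false), (3, 77, false),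 (4, 58, false), (1, 11, false), (2, 101, false), (3, 95, false), (4, 80, false), (5, 61, false), (6, 47, false), (2, 10, false), (3, 100, false), (4, 94, false), (0, 14, false), (1, 119, false), (2, 116, false), (3, 113, false), (4, 104, false), (5, 98, false), (6, 79, false), (2, 12, false), (3, 114, false), (4, 111, false), (5, 102, false), (6, 96, false), (7, 81, false), (8, 60, false), (1, 117, false), (2, 115, false), (3, 112, false), (4, 103, false), (5, 97, false), (6, 82, false), (7, 63, false), (8, 49, false), (0, 118, false), (1, 116, false), (2, 113, false), (3, 104, false), (4, 98, false), (5, 83, false), (6, 64, false), (7, 53, false), (6, 4, false), (3, 9, false), (4, 99, false), (5, 93, false), (0, 14, false), (1, 118, false), (2, 116, false), (3, 113, false), (4, 109, false), (5, 104, false), (6, 98, false), (7, 65, false), (5, 92, false), (6, 68, false), (3, 105, false), (4, 94, false), (5, 70, false), (2, 106, false), (3, 95, false), (4, 71, false), (1, 107, false), (2, 96, false), (3, 72, false), (0, 109, false), (1, 98, false), (0, 10, false), (1, 105, false), (2, 94, false), (0, 12, false),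 (1, 111, false), (2, 107, false), (3, 96, false), (0, 13, false), (1, 117, false), (2, 112, false), (3, 108, false), (4, 97, false), (5, 4, false), (3, 93, false), (4, 69, false), (2, 94, false), (3, 70, false), (2, 11, false), (3, 95, false), (4, 71, false), (1, 114, false), (2, 96, false), (3, 72, false), (0, 115, false), (1, 97, false), (2, 73, false), (0, 14, false), (1, 116, false), (2, 98, false), (3, 74, false), (2, 8, false), (3, 92, false), (2, 10, false), (3, 100, false), (4, 94, false), (1, 13, false), (2, 115, false), (3, 112, false), (4, 103, false), (5, 97, false), (0, 119, false), (1, 116, false), (2, 113, false), (3, 104, false), (4, 98, false), (3, 92, false), (3, 9, false), (4, 93, false), (1, 110, false), (2, 106, false), (3, 95, false), (1, 12, false), (2, 111, false), (3, 107, false), (4, 96, false), (0, 14, false), (1, 119, false), (2, 118, false), (3, 113, false), (4, 109, false), (5, 98, false)]),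
    ([0, 4], [14, 12, 11, 10, 9, 6, 5, 4, 3, 0], [(5, 28, true), (4, 41, true), (3, 98, true), (2, 104, true), (1, 109, true), (0, 14, true), (4, 26, true), (3, 39, true), (2, 98, true), (1, 104, true), (0, 109, true), (3, 96, true), (2, 102, true), (1, 107, true), (6, 25, true), (5, 41, true), (4, 98, true), (3, 104, true), (2, 109, true), (1, 118, true), (0, 14, true), (4, 39, true), (3, 98, true), (2, 104, true), (1, 109, true), (0, 118, true), (4, 96, true), (3, 102, true), (2, 107, true), (1, 12, true), (4, 38, true), (3, 98, true), (2, 104, true), (1, 109, true), (0, 14, true), (2, 97, true), (1, 103, true), (0, 108, true), (3, 95, true), (2, 101, true), (1, 106, true), (6, 24, true), (5, 37, true), (4, 94, true), (3, 100, true), (2, 105, true), (7, 22, true), (6, 37, true), (5, 94, true), (4, 100, true), (3, 105, true), (2, 10, true), (5, 35, true), (4, 94, true), (3, 100, true), (2, 105, true), (5, 93, true), (4, 99, true), (3, 9, true), (4, 92, true), (3, 8, true), (5, 21, true), (4, 36, true), (3, 93, true), (5, 34, true), (4, 94, true), (3, 105, true), (2, 10, true), (3, 7, true), (4, 19, true), (3, 32,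 true), (5, 18, true), (4, 31, true), (6, 17, true), (5, 33, true), (4, 66, true), (3, 83, true), (2, 109, true), (1, 116, true), (0, 119, true), (4, 79, true), (3, 109, true), (2, 116, true), (1, 119, true), (0, 14, true), (2, 105, true), (4, 75, true), (7, 30, true), (6, 66, true), (5, 83, true), (4, 91, true), (3, 109, true), (2, 113, true), (1, 116, true), (0, 119, true), (6, 79, true), (5, 91, true), (4, 109, true), (3, 113, true), (2, 116, true), (1, 119, true), (0, 14, true), (4, 87, true), (3, 105, true), (2, 10, true), (4, 75, true), (3, 6, true), (4, 65, true), (3, 83, true), (2, 109, true), (1, 116, true), (0, 119, true), (4, 78, true), (3, 9, true), (3, 5, true), (6, 16, true), (5, 32, true), (4, 55, true), (3, 65, true), (2, 116, true), (1, 119, true), (0, 14, true), (6, 29, true), (5, 56, true), (4, 66, true), (3, 83, true), (2, 109, true), (1, 116, true), (0, 119, true), (4, 79, true), (3, 109, true), (2, 116, true), (1, 119, true), (0, 14, true), (2, 105, true), (4, 75, true), (4, 7, false), (0, 115, false), (1, 112, false), (2, 108, false), (3, 97, false), (4, 84, false), (0, 12, false), (1, 114,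 false), (2, 111, false), (3, 107, false), (4, 96, false), (5, 89, false), (6, 76, false), (7, 67, false), (1, 110, false), (2, 106, false), (3, 95, false), (4, 88, false), (5, 80, false), (6, 71, false), (7, 57, false), (8, 46, false), (3, 8, false), (4, 92, false), (0, 111, false), (1, 107, false), (2, 102, false), (3, 96, false), (4, 85, false), (0, 12, false), (1, 111, false), (2, 107, false), (3, 102, false), (4, 96, false), (5, 89, false), (0, 13, false), (1, 117, false), (2, 112, false), (3, 108, false), (4, 103, false), (5, 97, false), (6, 90, false), (7, 77, false), (8, 68, false), (9, 58, false), (2, 11, false), (3, 110, false), (4, 106, false), (5, 101, false), (6, 95, false), (7, 88, false), (8, 80, false), (9, 71, false), (10, 61, false), (11, 47, false), (4, 99, false), (5, 93, false), (0, 14, false), (1, 119, false), (2, 118, false), (3, 116, false), (4, 113, false), (5, 104, false), (6, 98, false), (7, 86, false), (8, 78, false), (9, 69, false), (2, 114, false), (3, 111, false), (4, 102, false), (5, 96, false), (6, 89, false), (7, 81, false), (8, 72, false), (1, 115, false), (2, 112, false), (3, 103,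 false), (4, 97, false), (5, 90, false), (6, 82, false), (7, 73, false), (8, 59, false), (1, 12, false), (2, 114, false), (3, 111, false), (4, 102, false), (5, 96, false), (6, 89, false), (7, 81, false), (8, 72, false), (9, 62, false), (10, 48, false), (0, 118, false), (1, 116, false), (2, 113, false), (3, 104, false), (4, 98, false), (5, 91, false), (6, 83, false), (7, 74, false), (8, 64, false), (9, 53, false), (3, 92, false), (0, 114, false), (1, 111, false), (2, 96, false), (3, 85, false), (0, 12, false), (1, 114, false), (2, 111, false), (3, 96, false), (4, 89, false), (0, 13, false), (1, 117, false), (2, 115, false), (3, 112, false), (4, 97, false), (5, 90, false), (6, 77, false), (2, 110, false), (3, 95, false), (4, 88, false), (5, 80, false), (6, 54, false), (5, 55, false), (4, 56, false), (2, 11, false), (3, 110, false), (4, 57, false), (4, 8, false), (5, 58, false), (4, 9, false), (5, 99, false), (1, 114, false), (2, 111, false), (3, 107, false), (4, 102, false), (0, 115, false), (1, 112, false), (2, 108, false), (3, 103, false), (4, 59, false), (0, 110, false), (1, 106, false), (2, 101, false), (3, 61,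 false), (0, 13, false), (1, 112, false), (2, 108, false), (3, 103, false), (4, 63, false), (5, 2, false), (4, 42, false), (4, 4, false), (4, 7, false), (5, 67, false), (1, 11, false), (2, 110, false), (3, 106, false), (4, 101, false), (5, 95, false), (6, 71, false), (7, 43, false), (6, 5, false), (3, 99, false), (4, 93, false), (5, 78, false), (0, 14, false), (1, 119, false), (2, 116, false), (3, 113, false), (4, 104, false), (5, 98, false), (6, 83, false), (7, 65, false), (8, 44, false), (2, 12, false), (3, 114, false), (4, 111, false), (5, 102, false), (6, 76, false), (7, 67, false), (8, 46, false), (2, 114, false), (3, 111, false), (1, 115, false), (2, 112, false), (3, 77, false), (4, 68, false), (1, 110, false), (2, 80, false), (3, 71, false), (4, 47, false), (0, 79, false), (1, 70, false), (0, 13, false), (1, 82, false), (2, 73, false), (3, 49, false), (1, 11, false), (2, 80, false), (3, 71, false), (4, 50, false), (1, 12, false), (2, 114, false), (3, 81, false), (4, 72, false), (5, 51, false), (0, 14, false), (1, 119, false), (2, 118, false), (3, 116, false), (4, 83, false), (5, 74, false), (6, 53, false),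 (4, 9, false), (0, 119, false), (1, 118, false), (2, 116, false), (3, 109, false), (4, 65, false), (4, 7, false), (5, 67, false), (4, 8, false), (5, 92, false), (6, 68, false), (3, 99, false), (4, 93, false), (5, 69, false), (1, 114, false), (2, 102, false), (3, 96, false), (4, 72, false), (0, 115, false), (1, 103, false), (2, 97, false), (3, 73, false), (0, 14, false), (1, 116, false), (2, 104, false), (3, 98, false), (4, 74, false), (2, 92, false), (3, 68, false), (2, 9, false), (3, 93, false), (4, 69, false), (1, 106, false), (2, 95, false), (3, 71, false), (0, 109, false), (1, 98, false), (2, 74, false), (0, 10, false), (1, 105, false), (2, 94, false), (0, 11, false), (1, 110, false), (2, 106, false), (3, 95, false), (0, 12, false), (1, 114, false), (2, 111, false), (3, 107, false), (4, 96, false), (0, 14, false), (1, 118, false), (2, 116, false), (3, 113, false), (4, 109, false), (5, 98, false), (6, 4, false), (5, 67, false), (5, 8, false), (6, 68, false), (4, 99, false), (5, 69, false), (1, 114, false), (2, 111, false), (3, 102, false), (4, 72, false), (1, 13, false), (2, 115, false), (3, 112, false), (4,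 103, false), (5, 73, false), (0, 119, false), (1, 116, false), (2, 113, false), (3, 104, false), (4, 74, false), (4, 7, false), (3, 92, false), (2, 94, false), (0, 115, false), (1, 97, false), (0, 14, false), (1, 116, false), (2, 98, false), (2, 8, false), (2, 10, false), (3, 100, false), (1, 110, false), (2, 101, false), (1, 12, false), (2, 111, false), (3, 102, false)], [(3, 41, true), (2, 104, true), (1, 113, true), (0, 14, true), (2, 40, true), (1, 103, true), (0, 112, true), (3, 39, true), (2, 104, true), (1, 113, true), (0, 119, true), (3, 102, true), (2, 111, true), (5, 38, true), (4, 104, true), (3, 113, true), (2, 118, true), (1, 119, true), (0, 14, true), (3, 103, true), (2, 112, true), (1, 117, true), (0, 13, true), (2, 101, true), (1, 110, true), (4, 37, true), (3, 100, true), (2, 10, true), (3, 36, true), (2, 99, true), (4, 35, true), (3, 100, true), (2, 105, true), (4, 99, true), (3, 9, true), (3, 8, true), (3, 33, true), (4, 31, true), (5, 30, true), (4, 66, true), (3, 91, true), (2, 113, true), (1, 116, true), (0, 118, true), (4, 87, true), (3, 10, true), (3, 6, true), (3, 65, true), (2, 116, true),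 (1, 118, true), (0, 14, true), (3, 8, false), (0, 114, false), (1, 107, false), (2, 102, false), (0, 13, false), (1, 115, false), (2, 108, false), (3, 103, false), (4, 77, false), (5, 68, false), (6, 58, false), (2, 10, false), (3, 105, false), (4, 100, false), (0, 14, false), (1, 119, false), (2, 116, false), (3, 113, false), (4, 109, false), (5, 104, false), (6, 79, false), (7, 70, false), (2, 12, false), (3, 114, false), (4, 111, false), (5, 107, false), (6, 102, false), (7, 81, false), (8, 72, false), (9, 60, false), (0, 119, false), (1, 118, false), (2, 116, false), (3, 113, false), (4, 109, false), (5, 104, false), (6, 83, false), (7, 74, false), (8, 64, false), (9, 2, false), (8, 42, false), (6, 7, false), (1, 114, false), (2, 111, false), (3, 107, false), (4, 102, false), (5, 96, false), (6, 76, false), (1, 110, false), (2, 106, false), (3, 101, false), (4, 95, false), (5, 80, false), (6, 43, false), (5, 44, false), (3, 92, false), (1, 11, false), (2, 110, false), (3, 106, false), (4, 95, false), (5, 47, false), (2, 105, false), (3, 94, false), (0, 115, false), (1, 108, false), (2, 97, false), (3, 49, false),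 (0, 106, false), (1, 95, false), (2, 50, false), (0, 12, false), (1, 107, false), (2, 96, false), (3, 51, false), (3, 3, false), (4, 42, false), (3, 4, false), (2, 8, false), (3, 92, false), (4, 68, false), (1, 11, false), (2, 106, false), (3, 101, false), (4, 95, false), (5, 71, false), (6, 54, false), (4, 67, false), (1, 106, false), (2, 101, false), (3, 71, false), (4, 57, false), (1, 11, false), (2, 106, false), (3, 101, false), (4, 71, false), (5, 61, false), (6, 43, false), (4, 6, false), (2, 10, false), (3, 105, false), (4, 100, false), (5, 87, false), (0, 14, false), (1, 118, false), (2, 116, false), (3, 113, false), (4, 109, false), (5, 104, false), (6, 91, false), (7, 66, false), (8, 56, false), (9, 45, false), (1, 114, false), (2, 111, false), (3, 107, false), (4, 85, false), (5, 68, false), (6, 58, false), (1, 110, false), (2, 106, false), (3, 88, false), (4, 71, false), (5, 61, false), (6, 47, false), (0, 113, false), (1, 86, false), (2, 69, false), (0, 12, false), (1, 111, false), (2, 89, false), (3, 72, false), (0, 13, false), (1, 117, false), (2, 112, false), (3, 90, false), (4, 73, false), (5, 59,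 false), (1, 111, false), (2, 89, false), (3, 72, false), (4, 62, false), (5, 48, false), (1, 87, false), (2, 70, false), (1, 12, false), (2, 89, false), (3, 72, false), (4, 60, false), (0, 117, false), (1, 90, false), (2, 73, false), (3, 63, false), (4, 49, false), (1, 11, false), (2, 88, false), (3, 71, false), (4, 61, false), (5, 50, false), (0, 114, false), (1, 89, false), (2, 72, false), (3, 62, false), (4, 51, false), (0, 13, false), (1, 115, false), (2, 90, false), (3, 73, false), (4, 63, false), (5, 52, false), (0, 14, false), (1, 119, false), (2, 116, false), (3, 91, false), (4, 74, false), (5, 64, false), (6, 53, false), (3, 10, false), (0, 119, false), (1, 116, false), (2, 113, false), (3, 66, false), (3, 8, false), (4, 68, false), (2, 100, false), (3, 70, false), (0, 115, false), (1, 103, false), (2, 73, false), (0, 14, false), (1, 116, false), (2, 104, false), (3, 74, false), (3, 7, false), (4, 67, false), (2, 10, false), (3, 100, false), (4, 94, false), (5, 70, false), (1, 110, false), (2, 101, false), (3, 95, false), (4, 71, false), (0, 113, false), (1, 104, false), (2, 98, false), (3, 74, false),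 (1, 9, false), (2, 99, false), (3, 93, false), (0, 105, false), (1, 100, false), (2, 94, false), (0, 11, false), (1, 106, false), (2, 101, false), (3, 95, false), (0, 12, false), (1, 114, false), (2, 107, false), (3, 102, false), (4, 96, false), (0, 13, false), (1, 117, false), (2, 115, false), (3, 108, false), (4, 103, false), (5, 97, false), (0, 14, false), (1, 119, false), (2, 118, false), (3, 116, false), (4, 109, false), (5, 104, false), (6, 98, false), (7, 4, false), (5, 92, false), (6, 68, false), (4, 10, false), (5, 105, false), (6, 94, false), (7, 70, false), (1, 117, false), (2, 115, false), (3, 112, false), (4, 108, false), (5, 97, false), (6, 73, false), (0, 118, false), (1, 116, false), (2, 113, false), (3, 109, false), (4, 98, false), (5, 74, false), (4, 8, false), (5, 92, false), (3, 99, false), (4, 93, false), (2, 100, false), (3, 94, false), (0, 114, false), (1, 102, false), (2, 96, false), (0, 14, false), (1, 116, false), (2, 104, false), (3, 98, false), (2, 92, false), (2, 9, false), (3, 93, false), (2, 10, false), (3, 105, false), (4, 94, false), (1, 110, false), (2, 106, false), (3, 95, false),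 (1, 12, false), (2, 111, false), (3, 107, false), (4, 96, false), (1, 13, false), (2, 117, false), (3, 112, false), (4, 108, false), (5, 97, false)]),
    ([0, 5], [13, 12, 11, 5, 3, 2, 0], [(5, 28, true), (4, 41, true), (3, 98, true), (2, 104, true), (1, 109, true), (0, 14, true), (4, 27, true), (3, 41, true), (2, 98, true), (1, 104, true), (0, 109, true), (4, 40, true), (3, 97, true), (2, 103, true), (1, 108, true), (6, 26, true), (5, 39, true), (4, 98, true), (3, 104, true), (2, 109, true), (1, 119, true), (0, 14, true), (3, 96, true), (2, 102, true), (1, 107, true), (6, 23, true), (5, 36, true), (4, 93, true), (3, 99, true), (2, 9, true), (5, 22, true), (4, 37, true), (3, 94, true), (2, 100, true), (5, 35, true), (4, 94, true), (3, 100, true), (2, 10, true), (3, 93, true), (2, 99, true), (4, 92, true), (3, 8, true), (5, 21, true), (4, 36, true), (3, 93, true), (2, 9, true), (3, 34, true), (2, 94, true), (3, 7, true), (4, 19, true), (3, 32, true), (5, 16, true), (4, 32, true), (3, 5, true), (3, 29, true), (3, 7, false), (0, 117, false), (1, 112, false), (2, 97, false), (3, 84, false), (4, 46, false), (2, 8, false),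 (3, 92, false), (0, 111, false), (1, 102, false), (2, 96, false), (3, 85, false), (0, 11, false), (1, 110, false), (2, 101, false), (3, 95, false), (4, 88, false), (5, 47, false), (2, 9, false), (3, 99, false), (4, 93, false), (0, 14, false), (1, 116, false), (2, 113, false), (3, 109, false), (4, 104, false), (5, 98, false), (6, 86, false), (1, 12, false), (2, 114, false), (3, 111, false), (4, 107, false), (5, 102, false), (6, 96, false), (7, 89, false), (8, 48, false), (0, 118, false), (1, 116, false), (2, 113, false), (3, 109, false), (4, 104, false), (5, 98, false), (6, 91, false), (7, 53, false), (0, 13, false), (1, 117, false), (2, 115, false), (3, 112, false), (4, 108, false), (5, 103, false), (6, 84, false), (3, 105, false), (4, 100, false), (5, 87, false), (0, 117, false), (1, 115, false), (2, 108, false), (3, 103, false), (4, 90, false), (5, 2, false), (5, 4, false), (4, 7, false), (0, 13, false), (1, 117, false), (2, 115, false), (3, 108, false), (4, 103, false), (5, 97, false), (6, 84, false), (7, 67, false), (2, 106, false), (3, 101, false), (4, 95, false), (5, 88, false), (6, 71, false), (7, 43, false),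 (6, 5, false), (2, 99, false), (3, 93, false), (0, 14, false), (1, 119, false), (2, 118, false), (3, 104, false), (4, 98, false), (5, 86, false), (6, 78, false), (0, 119, false), (1, 118, false), (2, 104, false), (3, 98, false), (4, 91, false), (5, 83, false), (6, 65, false), (7, 44, false), (4, 75, false), (2, 10, false), (3, 100, false), (4, 94, false), (0, 14, false), (1, 119, false), (2, 118, false), (3, 113, false), (4, 104, false), (5, 98, false), (6, 79, false), (0, 119, false), (1, 118, false), (2, 113, false), (3, 104, false), (4, 98, false), (5, 83, false), (6, 66, false), (7, 45, false), (1, 111, false), (2, 102, false), (3, 76, false), (4, 67, false), (5, 46, false), (1, 12, false), (2, 111, false), (0, 117, false), (1, 112, false), (2, 77, false), (3, 68, false), (1, 11, false), (2, 110, false), (3, 80, false), (4, 71, false), (5, 47, false), (3, 9, false), (4, 78, false), (5, 69, false), (0, 114, false), (1, 111, false), (2, 107, false), (3, 81, false), (4, 72, false), (5, 48, false), (0, 110, false), (1, 106, false), (2, 80, false), (3, 71, false), (4, 50, false), (0, 13, false), (1, 112, false),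 (2, 108, false), (3, 82, false), (4, 73, false), (5, 52, false), (0, 14, false), (1, 119, false), (2, 113, false), (3, 65, false), (3, 7, false), (4, 67, false), (3, 8, false), (4, 92, false), (5, 68, false), (3, 9, false), (4, 99, false), (5, 93, false), (6, 69, false), (2, 12, false), (3, 111, false), (4, 107, false), (5, 102, false), (6, 96, false), (7, 72, false), (1, 117, false), (2, 112, false), (3, 108, false), (4, 103, false), (5, 97, false), (6, 73, false), (0, 118, false), (1, 113, false), (2, 109, false), (3, 104, false), (4, 98, false), (5, 74, false), (1, 105, false), (0, 13, false), (1, 117, false), (2, 108, false), (0, 14, false), (1, 119, false), (2, 118, false), (3, 109, false), (4, 7, false), (4, 8, false), (5, 92, false), (3, 10, false), (4, 105, false), (5, 100, false), (6, 94, false), (3, 11, false), (4, 110, false), (5, 106, false), (6, 101, false), (7, 95, false), (2, 114, false), (3, 111, false), (4, 107, false), (5, 102, false), (6, 96, false)], [(3, 41, true), (2, 104, true), (1, 113, true), (0, 14, true), (2, 40, true), (1, 103, true), (0, 112, true), (3, 37, true), (2, 100, true), (1,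 10, true), (2, 35, true), (1, 100, true), (2, 99, true), (3, 8, true), (3, 33, true), (4, 30, true), (3, 6, true), (5, 29, true), (4, 56, true), (3, 75, true), (3, 8, false), (1, 12, false), (2, 111, false), (3, 107, false), (4, 102, false), (5, 85, false), (1, 111, false), (2, 107, false), (3, 102, false), (4, 89, false), (0, 112, false), (1, 108, false), (2, 103, false), (3, 90, false), (4, 77, false), (5, 58, false), (0, 11, false), (1, 110, false), (2, 106, false), (3, 101, false), (4, 88, false), (5, 80, false), (6, 61, false), (7, 47, false), (1, 105, false), (2, 100, false), (3, 87, false), (0, 14, false), (1, 116, false), (2, 109, false), (3, 104, false), (4, 91, false), (5, 79, false), (1, 12, false), (2, 114, false), (3, 107, false), (4, 102, false), (5, 89, false), (6, 81, false), (7, 60, false), (1, 13, false), (2, 117, false), (3, 115, false), (4, 108, false), (5, 103, false), (6, 90, false), (7, 82, false), (8, 63, false), (9, 49, false), (0, 119, false), (1, 118, false), (2, 116, false), (3, 109, false), (4, 104, false), (5, 91, false), (6, 83, false), (7, 64, false), (8, 53, false), (5, 7, false),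 (0, 117, false), (1, 115, false), (2, 108, false), (3, 103, false), (4, 97, false), (5, 84, false), (0, 114, false), (1, 107, false), (2, 102, false), (3, 96, false), (4, 89, false), (5, 76, false), (2, 92, false), (0, 12, false), (1, 114, false), (2, 107, false), (3, 96, false), (4, 85, false), (0, 114, false), (1, 107, false), (2, 96, false), (3, 89, false), (0, 13, false), (1, 115, false), (2, 108, false), (3, 97, false), (4, 90, false), (5, 77, false), (2, 93, false), (0, 14, false), (1, 119, false), (2, 116, false), (3, 98, false), (4, 86, false), (5, 78, false), (3, 10, false), (4, 94, false), (5, 87, false), (0, 119, false), (1, 116, false), (2, 113, false), (3, 98, false), (4, 91, false), (5, 79, false), (1, 12, false), (2, 114, false), (3, 111, false), (4, 96, false), (5, 89, false), (6, 81, false), (7, 2, false), (7, 3, false), (8, 42, false), (7, 4, false), (4, 8, false), (5, 92, false), (1, 114, false), (2, 111, false), (3, 102, false), (4, 96, false), (5, 85, false), (1, 12, false), (2, 114, false), (3, 111, false), (4, 102, false), (5, 96, false), (6, 89, false), (0, 117, false), (1, 115, false), (2,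 112, false), (3, 103, false), (4, 97, false), (5, 90, false), (6, 77, false), (7, 68, false), (1, 110, false), (2, 101, false), (3, 95, false), (4, 88, false), (5, 80, false), (6, 71, false), (7, 54, false), (0, 13, false), (1, 117, false), (2, 112, false), (3, 103, false), (4, 84, false), (1, 111, false), (2, 102, false), (3, 89, false), (4, 76, false), (5, 67, false), (1, 11, false), (2, 110, false), (3, 101, false), (4, 88, false), (5, 80, false), (6, 71, false), (7, 57, false), (1, 110, false), (2, 101, false), (3, 88, false), (4, 80, false), (5, 71, false), (6, 61, false), (7, 43, false), (2, 9, false), (3, 99, false), (0, 14, false), (1, 119, false), (2, 113, false), (3, 109, false), (4, 104, false), (5, 86, false), (0, 119, false), (1, 113, false), (2, 109, false), (3, 104, false), (4, 91, false), (5, 65, false), (6, 55, false), (7, 44, false), (1, 12, false), (2, 111, false), (3, 107, false), (4, 85, false), (5, 68, false), (6, 58, false), (2, 11, false), (3, 110, false), (4, 106, false), (5, 88, false), (6, 71, false), (7, 61, false), (8, 47, false), (3, 105, false), (4, 87, false), (5, 70, false), (1,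 114, false), (2, 107, false), (3, 89, false), (4, 72, false), (5, 60, false), (0, 115, false), (1, 108, false), (2, 90, false), (3, 73, false), (4, 63, false), (5, 49, false), (0, 106, false), (1, 88, false), (2, 71, false), (3, 61, false), (4, 50, false), (0, 12, false), (1, 107, false), (2, 89, false), (3, 72, false), (4, 62, false), (5, 51, false), (1, 10, false), (2, 105, false), (0, 14, false), (1, 118, false), (2, 113, false), (3, 109, false), (4, 66, false), (4, 8, false), (5, 68, false), (2, 105, false), (3, 100, false), (4, 70, false), (1, 13, false), (2, 117, false), (3, 108, false), (4, 103, false), (5, 73, false), (0, 119, false), (1, 118, false), (2, 109, false), (3, 104, false), (4, 74, false), (2, 10, false), (1, 111, false), (0, 14, false), (1, 119, false), (2, 113, false), (3, 8, false), (3, 9, false), (4, 99, false), (2, 105, false), (3, 100, false), (2, 11, false), (3, 106, false), (4, 101, false), (2, 12, false), (3, 114, false), (4, 107, false), (5, 102, false), (1, 117, false), (2, 115, false), (3, 108, false), (4, 103, false)]),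
    ([0, 6], [13, 12, 6, 0], [(5, 28, true), (4, 41, true), (3, 98, true), (2, 104, true), (1, 109, true), (0, 14, true), (4, 25, true), (3, 41, true), (2, 98, true), (1, 104, true), (0, 109, true), (4, 39, true), (3, 98, true), (2, 104, true), (1, 109, true), (0, 14, true), (2, 96, true), (1, 102, true), (0, 107, true), (4, 38, true), (3, 98, true), (2, 104, true), (1, 109, true), (0, 118, true), (4, 97, true), (3, 103, true), (2, 108, true), (1, 117, true), (5, 95, true), (4, 101, true), (3, 106, true), (8, 23, true), (7, 36, true), (6, 93, true), (5, 99, true), (4, 9, true), (7, 22, true), (6, 37, true), (5, 94, true), (4, 100, true), (7, 35, true), (6, 94, true), (5, 100, true), (4, 10, true), (5, 93, true), (4, 99, true), (6, 92, true), (5, 8, true), (5, 8, false), (4, 99, false), (0, 119, false), (1, 118, false), (2, 116, false), (3, 104, false), (3, 9, false), (2, 106, false), (0, 14, false), (1, 119, false), (2, 118, false), (3, 109, false), (4, 7, false), (4, 8, false), (5, 92, false), (3, 10, false), (4, 105, false), (5, 100, false), (6, 94, false), (3, 11, false), (4, 110, false), (5, 106, false), (6,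 101, false), (7, 95, false), (2, 114, false), (3, 111, false), (4, 107, false), (5, 102, false), (6, 96, false)], [(3, 41, true), (2, 104, true), (1, 113, true), (0, 14, true), (2, 38, true), (1, 104, true), (0, 113, true), (2, 103, true), (1, 112, true), (3, 101, true), (2, 110, true), (5, 37, true), (4, 100, true), (3, 10, true), (4, 34, true), (3, 100, true), (4, 92, false), (3, 94, false), (0, 119, false), (1, 116, false), (2, 98, false), (2, 10, false), (1, 110, false), (0, 14, false), (1, 119, false), (2, 113, false), (3, 8, false), (3, 9, false), (4, 99, false), (2, 105, false), (3, 100, false), (2, 11, false), (3, 106, false), (4, 101, false), (2, 12, false), (3, 114, false), (4, 107, false), (5, 102, false), (1, 117, false), (2, 115, false), (3, 108, false), (4, 103, false)]),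
    ([0, 8], [13, 10, 9, 8, 0], [(5, 26, true), (4, 39, true), (3, 98, true), (2, 104, true), (1, 109, true), (0, 14, true), (2, 96, true), (1, 102, true), (0, 107, true), (5, 23, true), (4, 36, true), (3, 93, true), (2, 99, true), (1, 9, true), (1, 9, false), (0, 14, false), (1, 118, false), (2, 109, false), (1, 4, false), (1, 10, false), (2, 70, false), (1, 11, false), (2, 110, false), (3, 71, false), (1, 12, false), (2, 114, false), (3, 111, false), (4, 72, false), (0, 118, false), (1, 116, false), (2, 113, false), (3, 74, false), (3, 7, false), (3, 8, false), (4, 92, false), (3, 9, false), (4, 99, false), (5, 93, false), (0, 114, false), (1, 111, false), (2, 107, false), (3, 102, false), (4, 96, false), (0, 13, false), (1, 115, false), (2, 112, false), (3, 108, false), (4, 103, false), (5, 97, false), (0, 14, false), (1, 119, false), (2, 116, false), (3, 113, false), (4, 109, false), (5, 104, false), (6, 98, false)], [(3, 40, true), (2, 103, true), (1, 112, true), (4, 39, true), (3, 104, true), (2, 113, true), (1, 119, true), (0, 14, true), (2, 102, true), (1, 111, true), (4, 37, true), (3, 100, true), (2, 10,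 true), (2, 10, false), (0, 14, false), (1, 119, false), (2, 118, false), (3, 113, false), (1, 4, false), (1, 9, false), (2, 69, false), (1, 10, false), (2, 105, false), (3, 70, false), (1, 11, false), (2, 110, false), (3, 106, false), (4, 71, false), (1, 12, false), (2, 114, false), (3, 111, false), (4, 107, false), (5, 72, false), (1, 13, false), (2, 117, false), (3, 115, false), (4, 112, false), (5, 108, false), (6, 73, false), (0, 119, false), (1, 118, false), (2, 116, false), (3, 113, false), (4, 109, false), (5, 74, false), (5, 8, false), (3, 105, false), (4, 100, false), (0, 117, false), (1, 115, false), (2, 108, false), (3, 103, false), (0, 14, false), (1, 118, false), (2, 116, false), (3, 109, false), (4, 104, false)]),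
    ([1, 2], [13, 11, 9, 6, 5, 1], [(9, 27, true), (8, 83, true), (7, 91, true), (6, 98, true), (5, 104, true), (4, 109, true), (3, 116, true), (2, 118, true), (1, 119, true), (0, 14, true), (7, 82, true), (6, 90, true), (5, 97, true), (4, 103, true), (3, 108, true), (2, 115, true), (1, 117, true), (0, 13, true), (7, 24, true), (6, 79, true), (5, 91, true), (4, 98, true), (3, 104, true), (2, 109, true), (1, 116, true), (0, 118, true), (6, 87, true), (5, 94, true), (4, 100, true), (3, 105, true), (9, 21, true), (8, 78, true), (7, 86, true), (6, 98, true), (5, 104, true), (4, 109, true), (3, 113, true), (2, 116, true), (1, 118, true), (0, 14, true), (5, 93, true), (4, 99, true), (3, 9, true), (6, 76, true), (5, 89, true), (4, 96, true), (3, 102, true), (2, 111, true), (1, 114, true), (0, 12, true), (4, 84, true), (3, 97, true), (2, 103, true), (1, 112, true), (0, 115, true), (4, 7, true), (6, 16, true), (5, 5, true), (5, 5, false), (6, 44, false), (4, 75, false), (5, 45, false), (4, 7, false), (1, 12, false), (2, 114, false), (3, 111, false), (4, 102, false), (5, 96, false), (6, 76, false), (7, 46, false), (4, 92,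 false), (1, 114, false), (2, 111, false), (3, 96, false), (0, 115, false), (1, 112, false), (2, 97, false), (3, 77, false), (0, 110, false), (1, 95, false), (2, 80, false), (3, 47, false), (1, 9, false), (2, 93, false), (3, 78, false), (0, 12, false), (1, 111, false), (2, 107, false), (3, 96, false), (4, 81, false), (5, 48, false), (1, 11, false), (2, 110, false), (3, 106, false), (4, 95, false), (5, 80, false), (6, 50, false), (0, 114, false), (1, 111, false), (2, 107, false), (3, 96, false), (4, 81, false), (5, 51, false), (0, 13, false), (1, 115, false), (2, 112, false), (3, 108, false), (4, 97, false), (5, 82, false), (6, 52, false), (0, 14, false), (1, 119, false), (2, 116, false), (3, 113, false), (4, 109, false), (5, 98, false), (6, 83, false), (7, 53, false), (5, 8, false), (4, 99, false), (2, 12, false), (3, 114, false), (4, 111, false), (5, 102, false), (1, 117, false), (2, 115, false), (3, 112, false), (4, 103, false), (0, 118, false), (1, 116, false), (2, 113, false), (3, 104, false), (3, 9, false), (1, 110, false), (2, 106, false), (0, 14, false), (1, 118, false), (2, 113, false), (3, 109, false), (4,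 4, false), (2, 105, false), (3, 70, false), (2, 11, false), (3, 106, false), (4, 71, false), (1, 114, false), (2, 107, false), (3, 72, false), (0, 116, false), (1, 109, false), (2, 74, false), (2, 7, false), (2, 8, false), (3, 92, false), (1, 10, false), (2, 105, false), (3, 100, false), (4, 94, false), (0, 13, false), (1, 115, false), (2, 112, false), (3, 108, false), (4, 103, false), (5, 97, false), (0, 14, false), (1, 119, false), (2, 116, false), (3, 113, false), (4, 109, false), (5, 104, false), (6, 98, false)], [(7, 26, true), (6, 39, true), (5, 83, true), (4, 104, true), (3, 113, true), (2, 116, true), (1, 119, true), (0, 14, true), (4, 81, true), (3, 102, true), (2, 111, true), (1, 114, true), (7, 24, true), (6, 37, true), (5, 79, true), (4, 104, true), (3, 113, true), (2, 116, true), (1, 118, true), (0, 119, true), (5, 100, true), (4, 10, true), (7, 23, true), (6, 36, true), (5, 78, true), (4, 99, true), (8, 22, true), (7, 37, true), (6, 79, true), (5, 104, true), (4, 109, true), (3, 116, true), (2, 118, true), (1, 119, true), (0, 14, true), (4, 100, true), (3, 105, true), (7, 35, true), (6, 79, true),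 (5, 104, true), (4, 109, true), (3, 113, true), (2, 116, true), (1, 118, true), (0, 119, true), (6, 100, true), (5, 105, true), (4, 10, true), (6, 78, true), (5, 99, true), (4, 9, true), (5, 77, true), (4, 103, true), (3, 115, true), (2, 117, true), (1, 13, true), (3, 102, true), (2, 114, true), (1, 12, true), (2, 8, true), (4, 21, true), (3, 36, true), (2, 78, true), (4, 34, true), (3, 79, true), (2, 109, true), (1, 116, true), (0, 14, true), (1, 105, true), (3, 76, true), (2, 107, true), (1, 111, true), (0, 114, true), (7, 17, true), (6, 33, true), (5, 75, true), (7, 30, true), (6, 75, true), (5, 6, true), (5, 5, true), (7, 16, true), (6, 32, true), (5, 55, true), (7, 29, true), (6, 56, true), (5, 75, true), (6, 55, false), (7, 44, false), (4, 8, false), (5, 92, false), (0, 114, false), (1, 111, false), (2, 107, false), (3, 102, false), (4, 96, false), (5, 85, false), (6, 58, false), (0, 110, false), (1, 106, false), (2, 101, false), (3, 95, false), (4, 88, false), (5, 61, false), (6, 47, false), (0, 105, false), (1, 100, false), (2, 94, false), (3, 87, false), (0, 12, false), (1, 107, false), (2, 102, false),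 (3, 96, false), (4, 89, false), (5, 60, false), (0, 13, false), (1, 117, false), (2, 108, false), (3, 103, false), (4, 97, false), (5, 90, false), (6, 63, false), (7, 49, false), (2, 11, false), (3, 106, false), (4, 101, false), (5, 95, false), (6, 88, false), (7, 61, false), (8, 50, false), (0, 117, false), (1, 115, false), (2, 108, false), (3, 103, false), (4, 97, false), (5, 90, false), (6, 63, false), (7, 52, false), (0, 14, false), (1, 118, false), (2, 116, false), (3, 109, false), (4, 104, false), (5, 98, false), (6, 91, false), (7, 64, false), (8, 53, false), (4, 92, false), (3, 10, false), (4, 105, false), (5, 94, false), (1, 13, false), (2, 117, false), (3, 115, false), (4, 112, false), (5, 108, false), (6, 97, false), (0, 119, false), (1, 118, false), (2, 116, false), (3, 113, false), (4, 109, false), (5, 98, false), (3, 105, false), (2, 106, false), (0, 14, false), (1, 119, false), (2, 118, false), (3, 109, false), (4, 4, false), (3, 69, false), (3, 10, false), (4, 70, false), (3, 11, false), (4, 110, false), (5, 71, false), (2, 114, false), (3, 111, false), (4, 72, false), (1, 115, false), (2, 112, false),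 (3, 73, false), (0, 116, false), (1, 113, false), (2, 74, false), (2, 8, false), (2, 9, false), (3, 99, false), (1, 105, false), (2, 100, false), (0, 12, false), (1, 114, false), (2, 107, false), (3, 102, false), (0, 14, false), (1, 118, false), (2, 116, false), (3, 109, false), (4, 104, false)])]

/-- The relations. -/
def twoUSixRels : List (List ℕ × List ℕ) := [
    ([0, 0], []),
    ([1, 1], []),
    ([2, 2], []),
    ([3, 3], []),
    ([4, 4], []),
    ([5, 5], []),
    ([6, 6], []),
    ([7, 7], []),
    ([8, 8], []),
    ([9, 9], []),
    ([10, 10], []),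
    ([11, 11], []),
    ([12, 12], []),
    ([13, 13], []),
    ([14, 14], []),
    ([0, 1], [1, 0]),
    ([0, 2], [5, 2, 0]),
    ([0, 3], [6, 3, 0]),
    ([0, 4], [4, 0]),
    ([0, 5], [5, 0]),
    ([0, 6], [6, 0]),
    ([0, 7], [9, 7, 0]),
    ([0, 8], [10, 8, 0]),
    ([0, 9], [9, 0]),
    ([0, 10], [10, 0]),
    ([0, 11], [14, 12, 11, 0]),
    ([0, 12], [12, 0]),
    ([0, 13], [14, 13, 0]),
    ([0, 14], [14, 0]),
    ([1, 2], [6, 2, 1]),
    ([1, 3], [6, 5, 3, 1]),
    ([1, 4], [4, 1]),
    ([1, 5], [5, 1]),
    ([1, 6], [6, 1]),
    ([1, 7], [10, 7, 1]),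
    ([1, 8], [10, 9, 8, 1]),
    ([1, 9], [9, 1]),
    ([1, 10], [10, 1]),
    ([1, 11], [14, 13, 11, 1]),
    ([1, 12], [14, 12, 1]),
    ([1, 13], [13, 1]),
    ([1, 14], [14, 1]),
    ([2, 3], [3, 2]),
    ([2, 4], [11, 7, 4, 2]),
    ([2, 5], [5, 2]),
    ([2, 6], [6, 2]),
    ([2, 7], [7, 2]),
    ([2, 8], [11, 8, 2]),
    ([2, 9], [12, 9, 2]),
    ([2, 10], [13, 10, 2]),
    ([2, 11], [11, 2]),
    ([2, 12], [12, 2]),
    ([2, 13], [13, 2]),
    ([2, 14], [14, 2]),
    ([3, 4], [11, 8, 4, 3]),
    ([3, 5], [5, 3]),
    ([3, 6], [6, 3]),
    ([3, 7], [11, 7, 3]),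
    ([3, 8], [8, 3]),
    ([3, 9], [13, 12, 9, 3]),
    ([3, 10], [12, 10, 3]),
    ([3, 11], [11, 3]),
    ([3, 12], [12, 3]),
    ([3, 13], [13, 3]),
    ([3, 14], [14, 3]),
    ([4, 5], [14, 9, 5, 4]),
    ([4, 6], [14, 10, 6, 4]),
    ([4, 7], [7, 4]),
    ([4, 8], [8, 4]),
    ([4, 9], [9, 4]),
    ([4, 10], [10, 4]),
    ([4, 11], [11, 4]),
    ([4, 12], [12, 4]),
    ([4, 13], [13, 4]),
    ([4, 14], [14, 4]),
    ([5, 6], [6, 5]),
    ([5, 7], [12, 7, 5]),
    ([5, 8], [13, 12, 8, 5]),
    ([5, 9], [9, 5]),
    ([5, 10], [14, 10, 5]),
    ([5, 11], [11, 5]),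
    ([5, 12], [12, 5]),
    ([5, 13], [13, 5]),
    ([5, 14], [14, 5]),
    ([6, 7], [13, 7, 6]),
    ([6, 8], [12, 8, 6]),
    ([6, 9], [14, 9, 6]),
    ([6, 10], [10, 6]),
    ([6, 11], [11, 6]),
    ([6, 12], [12, 6]),
    ([6, 13], [13, 6]),
    ([6, 14], [14, 6]),
    ([7, 8], [8, 7]),
    ([7, 9], [9, 7]),
    ([7, 10], [10, 7]),
    ([7, 11], [11, 7]),
    ([7, 12], [12, 7]),
    ([7, 13], [13, 7]),
    ([7, 14], [14, 7]),
    ([8, 9], [9, 8]),
    ([8, 10], [10, 8]),
    ([8, 11], [11, 8]),
    ([8, 12], [12, 8]),
    ([8, 13], [13, 8]),
    ([8, 14], [14, 8]),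
    ([9, 10], [10, 9]),
    ([9, 11], [11, 9]),
    ([9, 12], [12, 9]),
    ([9, 13], [13, 9]),
    ([9, 14], [14, 9]),
    ([10, 11], [11, 10]),
    ([10, 12], [12, 10]),
    ([10, 13], [13, 10]),
    ([10, 14], [14, 10]),
    ([11, 12], [12, 11]),
    ([11, 13], [13, 11]),
    ([11, 14], [14, 11]),
    ([12, 13], [13, 12]),
    ([12, 14], [14, 12]),
    ([13, 14], [14, 13])]

/-- The certificate with the first class. -/
def twoUSixCert : Schur.Tails.Cert where
  p := 2
  q := 4
  n := 15
  rels := twoUSixRels
  overlaps := twoUSixOverlaps0
  fus := [twoUSixFus0, twoUSixFus1, twoUSixFus2, twoUSixFus3, twoUSixFus4, twoUSixFus5]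
  mu := [[0, 0, 0, 0, 0, 0, 0, 0, 0, 0, 0, 0, 0, 0, 0, 0, 1, 0, 0, 0, 0, 3, 2, 0, 0, 0, 0, 1, 0, 0, 0, 0, 0, 0, 0, 0, 0, 0, 3, 0, 0, 0, 0, 3, 0, 0, 0, 1, 0, 0, 0, 0, 0, 0, 0, 0, 0, 0, 0, 0, 0, 0, 0, 0, 0, 0, 0, 0, 0, 0, 0, 0, 0, 0, 0, 0, 0, 0, 0, 0, 0, 0, 0, 0, 0, 0, 0, 0, 0, 0, 0, 0, 0, 0, 0, 0, 0, 0, 0, 0, 0, 0, 0, 0, 0, 0, 0, 0, 0, 0, 0, 0, 0, 0, 0, 0, 0, 0, 0, 0, 0, 0, 0, 0, 0, 0, 0, 0, 0, 0, 0, 0, 0, 3, 1, 0, 1], [0, 0, 0, 0, 0, 0, 0, 0, 0, 0, 0, 0, 0, 0, 0, 0, 0, 1, 0, 0, 0, 2, 3, 0, 0, 0, 0, 0, 0, 0, 0, 0, 0, 0, 0, 0, 0, 0, 0, 0, 0, 0, 0, 3, 0, 0, 0, 1, 0, 0, 0, 0, 0, 0, 0, 0, 0, 0, 0, 0, 0, 0, 0, 0, 0, 0, 0, 0, 0, 0, 0, 0, 0, 0, 0, 0, 0, 0, 0, 0, 0, 0, 0, 0, 0, 0, 0, 0, 0, 0, 0, 0, 0, 0, 0, 0, 0, 0, 0, 0, 0, 0, 0, 0, 0, 0, 0, 0, 0, 0, 0, 0, 0, 0, 0, 0, 0, 0, 0, 0, 0, 0, 0, 0, 0, 0, 0, 0, 0, 0, 0, 0, 0, 0, 1], [0, 0, 0, 0, 0, 0, 0, 0, 0, 0, 0, 0, 0, 0, 0, 0, 1, 0, 0, 0, 0, 0, 0, 0, 0, 0, 0, 0, 0, 0, 0, 0, 0, 0, 0, 0, 0, 0, 0, 0, 0, 0, 0, 0, 0, 0, 0, 0, 0, 0, 0, 0, 0, 0, 0, 0, 0, 0, 0, 0, 0, 0, 0, 0, 0, 0, 0, 0, 0, 0, 0, 0, 0, 0, 0, 0, 0, 0, 0, 0, 0, 0, 0, 0, 0, 0, 0, 0, 0, 0, 0, 0, 0, 0, 0, 0, 0, 0, 0, 0,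 0, 0, 0, 0, 0, 0, 0, 0, 0, 0, 0, 0, 0, 0, 0, 0, 0, 0, 0, 0, 0, 0, 1], [0, 0, 0, 0, 0, 0, 0, 0, 0, 0, 0, 0, 0, 0, 0, 0, 2, 1, 0, 0, 0, 3, 1, 0, 0, 1, 0, 3, 0, 0, 0, 0, 0, 0, 0, 0, 0, 0, 0, 0, 0, 0, 0, 3, 0, 0, 0, 0, 0, 0, 0, 0, 0, 0, 1, 0, 0, 0, 0, 0, 0, 0, 0, 0, 0, 0, 0, 0, 0, 0, 0, 0, 0, 0, 0, 0, 0, 0, 0, 0, 0, 0, 0, 0, 0, 0, 0, 0, 0, 0, 0, 0, 0, 0, 0, 0, 0, 0, 0, 0, 0, 0, 0, 0, 0, 0, 0, 0, 0, 0, 0, 0, 0, 0, 0, 0, 0, 0, 0, 0, 0, 3, 1], [0, 0, 0, 0, 0, 0, 0, 0, 0, 0, 0, 0, 0, 0, 0, 0, 0, 0, 0, 0, 0, 0, 0, 0, 0, 0, 0, 0, 0, 0, 0, 0, 0, 0, 0, 0, 0, 0, 1, 0, 0, 0, 0, 1, 0, 0, 0, 0, 0, 0, 0, 0, 0, 0, 0, 0, 0, 0, 0, 0, 0, 0, 0, 0, 0, 0, 0, 0, 0, 0, 0, 0, 0, 0, 0, 0, 0, 0, 0, 0, 0, 0, 0, 0, 0, 0, 0, 0, 0, 0, 0, 0, 0, 0, 0, 0, 0, 0, 0, 0, 0, 0, 0, 0, 0, 0, 0, 0, 0, 0, 0, 0, 0, 0, 0, 0, 0, 0, 0, 0, 0, 0, 0, 0, 0, 0, 0, 0, 0, 0, 0, 0, 0, 0, 0, 0, 1], [0, 0, 0, 0, 0, 0, 0, 0, 0, 0, 0, 0, 0, 0, 0, 0, 1], [0, 0, 0, 0, 0, 0, 0, 0, 0, 0, 0, 0, 0, 0, 0, 0, 0, 1], [0, 0, 0, 0, 0, 0, 0, 0, 0, 0, 0, 0, 0, 0, 0, 0, 0, 0, 0, 0, 0, 0, 0, 0, 0, 0, 0, 0, 0, 0, 0, 0, 0, 0, 0, 0, 0, 0, 0, 0, 0, 0, 0, 1, 0, 0, 0, 3], [0, 0, 0, 0, 0, 0, 0,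 0, 0, 0, 0, 0, 0, 0, 0, 0, 0, 0, 0, 0, 0, 0, 0, 0, 0, 0, 0, 0, 0, 0, 0, 0, 0, 0, 0, 0, 0, 0, 0, 0, 0, 0, 0, 0, 0, 0, 0, 3, 0, 0, 0, 0, 0, 0, 1], [0, 0, 0, 0, 0, 0, 0, 0, 0, 0, 0, 0, 0, 0, 0, 0, 0, 0, 0, 0, 0, 1], [0, 0, 0, 0, 0, 0, 0, 0, 0, 0, 0, 0, 0, 0, 0, 0, 0, 0, 0, 0, 0, 0, 1], [0, 0, 0, 0, 0, 0, 0, 0, 0, 0, 0, 0, 0, 0, 0, 0, 0, 0, 0, 0, 0, 0, 0, 0, 0, 0, 0, 0, 0, 0, 0, 0, 0, 0, 0, 0, 0, 0, 0, 0, 0, 0, 0, 0, 0, 0, 0, 1], [0, 0, 0, 0, 0, 0, 0, 0, 0, 0, 0, 0, 0, 0, 0, 0, 0, 0, 0, 0, 0, 0, 0, 0, 0, 1, 0, 3], [0, 0, 0, 0, 0, 0, 0, 0, 0, 0, 0, 0, 0, 0, 0, 0, 0, 0, 0, 0, 0, 0, 0, 0, 0, 0, 0, 3, 0, 0, 0, 0, 0, 0, 0, 0, 0, 0, 1], [0, 0, 0, 0, 0, 0, 0, 0, 0, 0, 0, 0, 0, 0, 0, 0, 0, 0, 0, 0, 0, 0, 0, 0, 0, 0, 0, 1]]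
  combos := [
    ([(1, 3), (2, 2), (3, 1), (4, 1), (5, 3), (7, 3), (8, 1), (9, 2), (11, 3), (12, 3), (13, 3), (14, 1), (15, 2), (16, 1), (17, 1), (18, 3), (21, 3), (22, 1), (23, 1), (24, 2), (26, 1), (27, 1), (28, 1), (29, 3), (30, 2), (33, 1), (34, 2), (36, 1), (38, 1), (39, 3), (40, 1), (41, 2), (43, 2), (44, 2), (45, 3), (46, 3), (47, 2), (50, 1), (51, 1), (52, 2), (53, 2), (55, 1), (57, 2), (58, 3), (60, 2), (61, 1), (62, 2), (63, 2), (64, 3), (66, 1), (67, 2), (68, 2), (70, 2), (71, 2), (75, 1), (76, 2), (79, 2), (80, 1), (81, 3), (82, 2), (83, 2), (84, 2), (85, 3), (87, 2), (88, 3), (89, 2), (90, 1), (91, 3), (92, 3), (95, 3), (97, 1), (98, 1), (99, 3), (100, 3), (102, 2), (103, 2), (104, 2), (105, 2), (106, 2), (107, 1), (108, 1), (109, 3), (110, 1), (111, 1), (113, 3), (114, 1), (115, 3), (116, 1), (117, 1), (118, 3), (119, 2), (120, 2), (121, 3), (122, 3), (123, 3), (124, 2), (125, 3), (126, 3), (127, 3), (129, 2), (130, 2), (131, 2), (134, 3), (135, 3), (137, 3), (138, 3), (139, 2), (140, 2), (141, 2), (143, 2), (145, 2), (146, 2), (147, 2), (149, 2), (151, 3), (152, 2), (154, 2), (158, 2), (161, 2),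 (162, 2), (163, 2), (166, 1), (167, 2), (168, 3), (169, 2), (171, 2), (173, 2), (175, 2), (176, 2), (177, 2), (178, 2), (180, 2), (181, 2), (184, 2), (186, 2), (189, 2), (193, 2), (197, 2), (199, 2)], 2),
    ([(0, 2), (4, 2), (6, 1), (8, 1), (10, 2), (11, 2), (12, 1), (13, 3), (14, 2), (17, 3), (18, 1), (19, 1), (21, 2), (23, 3), (24, 3), (25, 3), (26, 3), (28, 2), (29, 2), (30, 3), (31, 2), (32, 3), (33, 2), (34, 1), (35, 1), (36, 3), (37, 1), (38, 2), (39, 3), (40, 2), (42, 3), (44, 2), (45, 1), (46, 2), (49, 2), (50, 3), (51, 3), (52, 2), (53, 1), (54, 1), (55, 2), (58, 2), (59, 1), (60, 3), (61, 1), (62, 3), (63, 1), (64, 3), (65, 3), (66, 2), (67, 1), (68, 2), (69, 3), (70, 3), (71, 3), (72, 1), (73, 3), (74, 3), (75, 2), (76, 2), (77, 1), (78, 3), (79, 3), (80, 3), (81, 2), (82, 2), (83, 2), (85, 3), (87, 3), (88, 3), (89, 2), (91, 3), (92, 1), (95, 2), (96, 1), (97, 1), (98, 3), (99, 2), (102, 2), (103, 2), (110, 2), (113, 2), (114, 2), (115, 2), (116, 2), (117, 2), (118, 2), (119, 2), (120, 2), (122, 2), (123, 1), (124, 2), (125, 2), (126, 3), (127, 3), (128, 2), (129, 2), (130, 2), (131, 2), (134, 1),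 (138, 1), (139, 3), (140, 2), (142, 2), (143, 2), (146, 1), (147, 2), (149, 2), (150, 2), (151, 2), (153, 2), (156, 2), (157, 2), (158, 2), (159, 2), (160, 2), (161, 2), (162, 2), (164, 2), (168, 2), (169, 2), (170, 2), (172, 2), (173, 2), (174, 2), (177, 2), (178, 2), (179, 2), (180, 2), (183, 2), (184, 2), (185, 2), (187, 2), (189, 2), (193, 2), (197, 2), (199, 2)], 2),
    ([(0, 1), (1, 3), (2, 3), (4, 2), (5, 3), (6, 2), (7, 2), (10, 3), (11, 2), (12, 1), (13, 3), (14, 1), (15, 1), (16, 1), (17, 2), (19, 2), (20, 3), (21, 3), (22, 2), (23, 3), (24, 1), (25, 1), (26, 3), (28, 3), (31, 1), (32, 2), (33, 1), (34, 1), (35, 3), (36, 2), (37, 3), (38, 3), (39, 1), (40, 3), (41, 2), (47, 2), (48, 2), (49, 2), (51, 3), (52, 2), (54, 3), (56, 2), (57, 2), (60, 1), (61, 1), (62, 2), (63, 1), (64, 1), (66, 3), (67, 1), (69, 3), (72, 2), (73, 3), (74, 1), (75, 3), (76, 2), (78, 1), (79, 3), (81, 3), (84, 2), (85, 2), (86, 2), (87, 2), (89, 2), (90, 1), (91, 3), (92, 1), (93, 1), (94, 2), (95, 1), (96, 1), (98, 2), (99, 1), (100, 3), (101, 1), (102, 2), (103, 2), (106, 2), (107, 2), (109, 3), (111, 2), (114, 1), (115, 3),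 (116, 3), (117, 3), (118, 1), (119, 2), (121, 1), (123, 2), (125, 2), (127, 3), (128, 3), (129, 1), (130, 3), (131, 1), (138, 2), (139, 2), (141, 2), (142, 2), (144, 2), (145, 2), (148, 2), (150, 2), (151, 3), (152, 2), (154, 2), (162, 2), (164, 2), (165, 2), (166, 3), (168, 1), (170, 2), (171, 2), (172, 2), (173, 2)], 0),
    ([(0, 1), (1, 3), (2, 1), (4, 2), (5, 2), (7, 2), (8, 2), (9, 1), (10, 1), (11, 3), (12, 3), (13, 3), (16, 1), (17, 3), (18, 2), (19, 1), (20, 1), (21, 3), (22, 2), (25, 2), (26, 2), (27, 3), (28, 1), (29, 2), (30, 2), (31, 1), (32, 3), (33, 2), (34, 2), (37, 2), (39, 1), (40, 1), (42, 2), (44, 2), (45, 3), (46, 3), (49, 1), (51, 3), (52, 1), (53, 1), (54, 1), (56, 2), (57, 2), (58, 1), (59, 2), (60, 2), (62, 1), (63, 2), (64, 1), (65, 2), (67, 1), (68, 3), (69, 3), (70, 3), (71, 3), (72, 2), (74, 2), (75, 1), (76, 2), (77, 2), (78, 3), (80, 2), (81, 3), (85, 2), (86, 2), (87, 1), (89, 2), (90, 3), (92, 1), (93, 1), (94, 2), (95, 2), (98, 3), (100, 2), (101, 1), (104, 2), (105, 2), (107, 1), (108, 2), (109, 1), (110, 1), (111, 1), (113, 3), (118, 2), (120, 2), (121, 2), (123, 2), (126, 2),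 (127, 2), (128, 2), (129, 2), (130, 2), (131, 2), (137, 2), (138, 2), (140, 2), (143, 2), (144, 2), (148, 2), (150, 2), (152, 2), (154, 2), (155, 2), (156, 2), (157, 2), (159, 2), (160, 2), (161, 2), (163, 2), (164, 2), (165, 2), (166, 2), (167, 2), (168, 2), (170, 2), (172, 2), (175, 2), (176, 2), (179, 2), (181, 2), (182, 2), (183, 2), (185, 2), (186, 2), (187, 2), (190, 2), (191, 2), (192, 2), (193, 2), (196, 2), (197, 2), (198, 2), (199, 2)], 2),
    ([(1, 3), (2, 2), (5, 2), (6, 3), (7, 2), (10, 1), (11, 3), (12, 1), (13, 3), (14, 3), (18, 2), (19, 2), (20, 2), (22, 1), (24, 3), (25, 2), (26, 1), (27, 1), (28, 1), (29, 3), (31, 2), (32, 1), (33, 2), (34, 2), (35, 3), (36, 3), (37, 1), (38, 2), (39, 3), (40, 3), (41, 1), (42, 2), (43, 2), (45, 1), (46, 3), (47, 2), (48, 3), (50, 3), (51, 3), (52, 3), (53, 2), (54, 1), (55, 1), (56, 1), (57, 1), (59, 1), (61, 2), (65, 3), (66, 3), (67, 2), (68, 1), (70, 2), (73, 3), (75, 3), (76, 3), (77, 1), (78, 3), (80, 1), (81, 1), (82, 2), (83, 2), (84, 2), (85, 1), (87, 3), (88, 1), (90, 3), (91, 2), (93, 2), (94, 2), (95, 1), (96, 3), (97, 3), (99, 1), (100, 3), (101,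 2), (103, 2), (104, 2), (105, 1), (107, 2), (108, 3), (109, 2), (110, 2), (112, 1), (113, 2), (114, 1), (115, 1), (116, 1), (117, 3), (119, 1), (120, 1), (122, 2), (125, 3), (126, 2), (127, 2), (133, 3), (135, 1), (136, 2), (137, 3), (138, 2), (139, 3), (140, 2), (142, 2), (146, 3), (148, 2), (151, 2), (152, 2), (154, 2), (155, 2), (158, 2), (163, 2), (164, 2), (166, 1), (167, 2), (168, 1), (170, 2), (171, 2), (172, 2), (174, 2), (175, 2), (176, 2), (179, 2), (181, 2), (183, 2), (185, 2), (186, 2), (187, 2)], 0),
    ([(0, 3), (1, 1), (2, 2), (3, 3), (5, 3), (7, 2), (8, 2), (10, 3), (12, 3), (13, 3), (15, 3), (16, 3), (17, 2), (19, 2), (24, 1), (25, 2), (27, 2), (28, 3), (31, 3), (33, 1), (35, 3), (36, 2), (38, 2), (39, 3), (42, 2), (43, 2), (45, 3), (47, 2), (48, 2), (49, 1), (50, 2), (51, 3), (52, 3), (54, 1), (55, 2), (59, 2), (60, 1), (62, 1), (63, 2), (64, 3), (65, 2), (66, 2), (67, 2), (68, 2), (70, 2), (71, 3), (72, 1), (75, 3), (76, 3), (77, 2), (78, 2), (81, 3), (82, 2), (83, 2), (87, 3), (88, 2), (89, 2), (90, 3), (92, 3), (98, 2), (99, 2), (100, 2), (102, 2), (108, 2), (114, 2), (115, 2), (116, 2), (117,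 2), (121, 2), (126, 2), (127, 2), (129, 2), (130, 2), (131, 2), (133, 2), (134, 2), (136, 2), (138, 2), (139, 2), (140, 2), (141, 2), (142, 2), (144, 2), (145, 2), (146, 2), (147, 2), (151, 1), (153, 2), (169, 2), (177, 2), (178, 2), (179, 2), (180, 2), (182, 2), (183, 2), (184, 2), (185, 2), (187, 2), (189, 2), (190, 2), (191, 2), (192, 2), (196, 2), (198, 2)], 0),
    ([(0, 3), (1, 1), (2, 1), (3, 2), (9, 1), (10, 2), (11, 2), (12, 2), (15, 2), (16, 2), (17, 2), (22, 2), (24, 2), (27, 3), (28, 3), (30, 2), (31, 2), (34, 2), (36, 2), (37, 2), (41, 2), (44, 2), (45, 2), (47, 2), (51, 2), (52, 2), (53, 2), (57, 2), (58, 2), (59, 2), (60, 2), (61, 2), (63, 2), (66, 2), (68, 2), (72, 2), (73, 2), (75, 2), (78, 2), (80, 2), (81, 3), (86, 2), (87, 1), (89, 2), (90, 1), (92, 1), (93, 3), (96, 2), (97, 2), (99, 2), (101, 3), (105, 2), (107, 2), (109, 2), (110, 2), (113, 2), (118, 2), (119, 2), (120, 2), (121, 2), (123, 2), (128, 2), (133, 2), (134, 2), (136, 2), (137, 2), (139, 2), (147, 2), (148, 2), (151, 2), (152, 2), (153, 2), (154, 2), (157, 2), (158, 2), (159, 2), (160, 2), (161, 2), (163, 2), (164, 2), (165, 2),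 (166, 2), (167, 2), (168, 2), (169, 2), (170, 2), (172, 2), (175, 2), (176, 2), (177, 2), (178, 2), (180, 2), (181, 2), (184, 2), (186, 2), (189, 2), (193, 2), (197, 2), (199, 2)], 2),
    ([(2, 3), (3, 3), (4, 3), (5, 2), (6, 3), (8, 2), (10, 1), (11, 2), (12, 1), (13, 2), (14, 2), (15, 3), (17, 1), (19, 2), (20, 3), (22, 3), (23, 1), (25, 3), (26, 2), (28, 1), (29, 2), (30, 2), (31, 3), (32, 2), (33, 2), (34, 2), (35, 3), (36, 2), (37, 1), (38, 2), (39, 3), (40, 3), (41, 3), (42, 3), (43, 3), (44, 2), (45, 2), (46, 2), (48, 2), (50, 2), (51, 3), (53, 1), (54, 2), (57, 2), (58, 2), (60, 3), (61, 2), (62, 2), (63, 1), (64, 3), (65, 3), (67, 1), (71, 2), (73, 2), (74, 1), (75, 1), (77, 1), (79, 3), (80, 2), (81, 2), (84, 2), (85, 2), (86, 2), (87, 1), (88, 1), (90, 2), (91, 3), (93, 3), (95, 2), (96, 1), (99, 2), (100, 3), (101, 3), (102, 2), (103, 3), (104, 2), (105, 1), (106, 2), (108, 2), (110, 2), (111, 2), (112, 1), (113, 2), (114, 1), (115, 1), (116, 1), (117, 1), (118, 3), (120, 2), (121, 3), (125, 2), (127, 3), (128, 1), (129, 1), (130, 3), (131, 1), (133, 2), (134, 2), (136, 2), (137, 2), (138, 2), (142,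 2), (144, 2), (147, 2), (148, 2), (149, 2), (151, 2), (155, 2), (156, 2), (161, 2), (162, 2), (163, 2), (166, 1), (167, 2), (168, 3), (169, 2), (171, 2), (173, 2), (175, 2), (176, 2), (177, 2), (178, 2), (180, 2), (181, 2), (184, 2), (186, 2), (189, 2), (193, 2), (197, 2), (199, 2)], 2),
    ([(0, 2), (1, 2), (2, 3), (3, 1), (4, 1), (6, 3), (7, 3), (8, 2), (9, 1), (10, 3), (11, 3), (12, 2), (15, 2), (16, 1), (17, 3), (18, 2), (19, 1), (21, 1), (22, 2), (23, 1), (24, 3), (26, 1), (28, 3), (29, 2), (30, 3), (32, 1), (33, 1), (34, 1), (35, 1), (36, 1), (37, 3), (40, 2), (42, 2), (44, 3), (45, 3), (46, 3), (47, 2), (49, 1), (51, 2), (52, 3), (53, 2), (54, 3), (55, 2), (56, 2), (57, 2), (58, 3), (60, 1), (61, 2), (62, 1), (63, 3), (64, 2), (65, 1), (66, 2), (67, 2), (68, 3), (69, 3), (70, 3), (71, 3), (73, 1), (74, 1), (75, 3), (76, 1), (77, 3), (78, 1), (79, 2), (80, 3), (81, 2), (83, 2), (85, 2), (86, 1), (87, 3), (88, 1), (90, 2), (92, 2), (93, 3), (94, 2), (96, 2), (97, 1), (99, 2), (100, 1), (101, 3), (102, 2), (103, 1), (104, 2), (107, 1), (109, 3), (110, 3), (111, 1), (112, 2), (113, 1), (114, 3), (115, 1), (116,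 3), (117, 1), (119, 3), (120, 1), (121, 2)], 0),
    ([(5, 3), (27, 1), (87, 3)], 0),
    ([(5, 3), (28, 1), (88, 3)], 0),
    ([(67, 1), (98, 3)], 0),
    ([(4, 2), (5, 2), (6, 2), (11, 3), (12, 1), (13, 3), (14, 2), (15, 1), (19, 3), (21, 1), (22, 3), (24, 1), (25, 1), (26, 2), (33, 3), (34, 1), (35, 3), (36, 3), (37, 3), (38, 1), (40, 1), (41, 3), (43, 1), (44, 1), (45, 3), (49, 2), (51, 1), (54, 3), (55, 3), (59, 2), (61, 1), (64, 2), (70, 2), (72, 1), (78, 2), (79, 3)], 0),
    ([(4, 1), (5, 3), (6, 3), (10, 2), (12, 3), (13, 3), (14, 3), (15, 1), (16, 2), (20, 1), (21, 3), (22, 1), (23, 2), (24, 2), (25, 3), (31, 1), (32, 2), (33, 1), (35, 3), (39, 1), (40, 3), (44, 3), (45, 3), (46, 2), (49, 2), (50, 3), (51, 3), (52, 2), (53, 2), (54, 3), (55, 2), (57, 3), (59, 3), (60, 1), (62, 2), (64, 2), (69, 2), (70, 1), (71, 1), (72, 1), (75, 3), (76, 3), (78, 3)], 0),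
    ([(10, 2), (12, 3), (13, 1), (14, 3), (15, 2), (16, 2), (17, 3), (20, 3), (21, 3), (23, 1), (24, 2), (26, 1), (31, 2), (32, 1), (33, 2), (35, 2), (37, 1), (38, 3), (39, 1), (40, 2), (41, 1), (43, 3), (44, 1), (45, 3), (46, 1), (51, 2), (53, 3), (54, 2), (58, 1), (60, 1), (61, 2), (64, 3), (69, 3), (71, 2), (75, 2), (76, 3), (77, 1), (78, 2), (79, 1)], 0),
    ([(0, 1), (1, 3), (3, 2), (4, 2), (5, 1), (9, 2), (11, 3), (13, 1), (15, 3), (16, 3), (17, 1), (19, 2), (20, 2), (21, 1), (22, 2), (23, 3), (24, 3), (25, 3), (29, 3), (31, 1), (32, 2), (33, 3), (34, 2), (35, 2), (36, 1), (37, 2), (40, 1), (41, 1), (43, 2), (44, 1), (46, 1), (47, 2), (48, 1), (49, 2), (50, 1), (51, 2), (52, 3), (53, 1), (54, 1), (55, 1), (56, 3), (57, 1), (58, 3), (59, 1), (60, 1), (61, 2), (62, 1), (63, 1), (64, 1), (65, 1), (66, 2), (67, 2), (68, 2), (69, 3), (70, 1), (71, 3), (74, 2), (75, 2), (76, 3), (77, 2), (79, 1), (81, 1), (84, 2), (85, 3), (86, 2), (87, 3), (88, 1), (90, 1), (91, 3), (93, 2), (97, 3), (101, 2), (105, 2), (109, 2), (110, 2), (112, 2), (113, 2), (114, 2), (115, 2), (116, 2), (117, 2), (118, 2), (121, 2), (122, 2),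 (123, 2), (126, 2), (127, 2), (129, 3), (130, 1), (131, 3), (132, 1), (133, 1), (135, 2), (136, 3), (137, 1), (138, 3), (140, 2), (142, 2), (146, 3), (148, 2), (149, 2), (151, 2), (152, 2), (154, 2), (155, 2), (158, 2), (162, 2), (163, 2), (165, 2), (166, 2), (167, 2), (173, 2), (174, 2), (175, 2), (176, 2), (179, 2), (181, 2), (183, 2), (185, 2), (186, 2), (187, 2)], 0),
    ([], 0),
    ([], 0),
    ([(0, 1), (3, 3), (4, 3), (5, 1), (6, 1), (7, 2), (9, 3), (11, 1), (12, 1), (13, 3), (15, 1), (16, 1), (17, 1), (18, 2), (21, 3), (23, 3), (24, 2), (26, 1), (27, 2), (28, 1), (29, 2), (30, 3), (32, 2), (33, 2), (35, 1), (36, 2), (37, 1), (40, 1), (41, 3), (42, 3), (43, 2), (45, 2), (48, 2), (49, 1), (50, 2), (53, 3), (54, 2), (56, 3), (57, 2), (58, 2), (59, 1), (60, 1), (61, 2), (62, 2), (63, 3), (65, 3), (66, 2), (68, 2), (69, 1), (70, 1), (73, 3), (74, 2), (75, 1), (76, 1), (77, 3), (78, 1), (80, 3), (81, 2), (82, 2), (87, 2), (88, 3), (90, 2), (91, 3), (93, 2), (95, 2), (96, 1), (100, 3), (101, 2), (103, 2), (105, 2), (107, 2), (108, 2), (109, 2), (111, 2), (112, 2), (114, 2), (115, 2), (116, 2), (117, 2), (118,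 2), (121, 2), (123, 2), (124, 2), (126, 3), (128, 2), (129, 2), (130, 2), (131, 2), (133, 3), (134, 3), (135, 2), (136, 3), (138, 1), (139, 3), (140, 3), (143, 2), (146, 2), (150, 2), (151, 2), (155, 2), (156, 2), (158, 2), (162, 2), (164, 2), (165, 2), (166, 3), (168, 1), (170, 2), (171, 2), (172, 2), (173, 2)], 0),
    ([(0, 3), (1, 3), (3, 1), (4, 2), (5, 1), (8, 2), (10, 1), (11, 2), (12, 3), (13, 3), (14, 2), (15, 3), (16, 1), (20, 2), (21, 2), (23, 2), (24, 3), (26, 2), (27, 2), (28, 1), (31, 3), (32, 2), (33, 1), (34, 2), (35, 1), (36, 2), (37, 2), (39, 3), (41, 2), (42, 2), (43, 2), (45, 3), (47, 2), (48, 2), (49, 3), (51, 3), (52, 1), (54, 1), (55, 2), (57, 2), (60, 1), (61, 2), (62, 3), (64, 3), (65, 2), (67, 2), (68, 2), (69, 2), (70, 2), (71, 3), (72, 3), (74, 2), (75, 3), (76, 3), (77, 2), (79, 2), (80, 2), (81, 2), (84, 2), (85, 2), (87, 3), (89, 2), (90, 1), (92, 1), (95, 2), (97, 2), (100, 2), (102, 2), (103, 2), (107, 2), (108, 2), (111, 2), (114, 2), (115, 2), (116, 2), (117, 2), (118, 2), (119, 2), (120, 2), (126, 2), (127, 2), (128, 2), (129, 2), (130, 2), (131, 2), (133, 2), (134, 2), (136,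 2), (138, 2), (139, 2), (140, 2), (141, 2), (142, 2), (143, 2), (144, 2), (145, 2), (147, 2), (150, 2), (151, 3), (153, 2), (155, 2), (156, 2), (158, 2), (169, 2), (177, 2), (178, 2), (179, 2), (180, 2), (182, 2), (183, 2), (184, 2), (185, 2), (187, 2), (189, 2), (190, 2), (191, 2), (192, 2), (196, 2), (198, 2)], 0),
    ([(0, 1), (1, 3), (2, 1), (5, 2), (9, 3), (10, 2), (11, 2), (15, 2), (16, 2), (20, 2), (22, 2), (27, 3), (28, 1), (29, 2), (32, 2), (33, 2), (35, 2), (38, 2), (40, 2), (44, 2), (46, 2), (47, 2), (51, 2), (53, 2), (54, 2), (57, 2), (59, 2), (60, 2), (62, 2), (66, 2), (68, 2), (69, 2), (70, 2), (71, 2), (72, 2), (74, 2), (76, 2), (81, 1), (83, 3), (85, 2), (86, 2), (87, 3), (89, 2), (90, 3), (92, 3), (93, 3), (98, 2), (99, 2), (100, 2), (101, 3), (102, 2), (105, 2), (107, 2), (110, 2), (113, 2), (118, 2), (123, 2), (128, 2), (133, 2), (134, 2), (136, 2), (137, 2), (139, 2), (147, 2), (148, 2), (151, 2), (152, 2), (153, 2), (154, 2), (157, 2), (158, 2), (159, 2), (160, 2), (161, 2), (163, 2), (164, 2), (165, 2), (166, 2), (167, 2), (168, 2), (169, 2), (170, 2), (172, 2), (175, 2), (176, 2), (177, 2),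 (178, 2), (180, 2), (181, 2), (184, 2), (186, 2), (189, 2), (193, 2), (197, 2), (199, 2)], 2),
    ([], 0),
    ([], 0),
    ([(5, 1), (27, 3)], 0),
    ([(5, 1), (28, 3)], 0),
    ([], 0),
    ([(13, 1), (16, 3), (17, 1), (21, 3), (22, 3), (26, 3), (36, 1), (51, 1), (54, 1), (55, 1), (61, 3)], 0),
    ([], 0),
    ([(5, 3)], 0),
    ([(0, 3), (1, 1), (2, 3), (3, 2), (4, 1), (5, 2), (6, 1), (9, 3), (10, 3), (11, 3), (13, 2), (14, 2), (15, 3), (16, 2), (17, 1), (18, 3), (19, 2), (20, 2), (21, 3), (22, 2), (23, 1), (24, 3), (25, 2), (27, 2), (28, 2), (29, 3), (30, 3), (31, 3), (32, 3), (33, 1), (35, 2), (36, 2), (37, 3), (38, 1), (39, 2), (41, 2), (43, 1), (44, 2), (45, 3), (46, 2), (47, 2), (48, 1), (49, 2), (50, 2), (51, 2), (52, 1), (53, 2), (57, 2), (58, 2), (59, 1), (60, 1), (61, 1), (62, 1), (63, 2), (65, 2), (66, 2), (67, 1), (68, 1), (69, 1), (71, 3), (72, 1), (73, 1), (74, 1), (75, 1), (76, 2), (77, 1), (78, 2), (81, 1), (82, 2), (83, 3), (84, 3), (85, 3), (86, 1), (87, 3), (88, 2), (90, 2), (91, 2), (92, 3), (93, 2), (94, 2), (95, 3), (98, 2), (99, 1), (100, 2), (101, 2), (103, 1), (105, 1), (106, 2), (107,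 3), (108, 1), (110, 3), (111, 1), (112, 3), (113, 1), (115, 2), (116, 2), (118, 3), (119, 3), (120, 3), (121, 1), (122, 2), (123, 2), (125, 2), (126, 2), (128, 2), (133, 2), (134, 2), (135, 2), (136, 2), (142, 2), (143, 2), (144, 3), (148, 3), (149, 2), (150, 3), (151, 1), (152, 1), (153, 3), (154, 3), (155, 2), (156, 1), (157, 2), (158, 2), (160, 3), (161, 2), (162, 2), (164, 2), (169, 2), (170, 2), (172, 2), (173, 2), (174, 2), (175, 2), (176, 2), (177, 2), (178, 2), (180, 2), (184, 2), (186, 2), (188, 2), (189, 3), (190, 2), (193, 3), (194, 2), (195, 2), (196, 2), (197, 1), (199, 1)], 3),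
    ([(0, 2), (1, 2), (5, 2), (6, 2), (7, 1), (8, 3), (9, 1), (10, 2), (11, 1), (12, 1), (13, 3), (14, 1), (15, 2), (16, 2), (19, 1), (20, 3), (22, 1), (24, 3), (25, 2), (26, 3), (28, 1), (30, 3), (31, 1), (32, 1), (33, 2), (34, 1), (35, 1), (36, 1), (39, 3), (40, 3), (41, 1), (42, 2), (43, 2), (45, 3), (46, 2), (47, 2), (48, 3), (50, 1), (51, 2), (52, 1), (53, 2), (54, 2), (55, 3), (56, 2), (57, 2), (58, 3), (59, 3), (60, 2), (61, 3), (62, 2), (63, 2), (64, 3), (65, 1), (66, 1), (67, 2), (69, 2), (70, 1), (71, 1), (74, 2), (75, 1), (76, 1), (77, 3), (78, 2), (79, 1), (80, 2), (81, 2), (82, 1), (83, 2), (84, 2), (86, 2), (88, 1), (89, 2), (90, 1), (91, 3), (92, 1), (93, 2), (95, 1), (96, 1), (97, 2), (98, 3), (99, 3), (100, 2), (101, 2), (102, 2), (103, 3), (104, 2), (105, 1), (106, 2), (108, 2), (112, 3), (114, 3), (115, 3), (116, 3), (117, 3), (118, 3), (119, 2), (121, 3), (123, 2), (127, 1), (128, 3), (129, 1), (130, 3), (131, 1), (133, 2), (135, 2), (137, 2), (138, 2), (140, 2), (142, 2), (143, 1), (144, 2), (145, 2), (146, 2), (147, 2), (148, 1), (149, 2), (151, 2), (152, 2), (154, 2), (155, 3), (156, 3), (157,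 3), (158, 2), (159, 1), (160, 1), (161, 2), (163, 2), (164, 2), (165, 2), (166, 2), (167, 2), (169, 2), (170, 2), (172, 2), (182, 2), (188, 2), (190, 1), (191, 1), (193, 1), (194, 2), (195, 2), (196, 3), (197, 3), (198, 1), (199, 3)], 1),
    ([(1, 1), (4, 2), (6, 3), (7, 3), (9, 1), (10, 1), (11, 1), (13, 3), (15, 2), (16, 3), (17, 1), (18, 2), (19, 2), (20, 3), (21, 2), (22, 1), (23, 3), (24, 1), (26, 1), (28, 2), (29, 1), (31, 1), (32, 2), (33, 3), (35, 3), (37, 3), (38, 3), (39, 2), (41, 1), (42, 1), (43, 3), (44, 1), (45, 2), (46, 1), (47, 2), (48, 2), (51, 2), (52, 2), (53, 2), (54, 2), (55, 3), (56, 1), (57, 2), (58, 3), (59, 3), (61, 1), (63, 1), (64, 3), (65, 3), (66, 2), (67, 3), (68, 1), (69, 2), (70, 2), (72, 1), (73, 2), (75, 3), (76, 1), (78, 1), (80, 3), (81, 1), (82, 2), (83, 2), (84, 2), (85, 3), (86, 3), (88, 3), (90, 3), (91, 2), (93, 1), (94, 2), (95, 2), (97, 2), (98, 2), (99, 2), (100, 3), (101, 1), (103, 2), (105, 3), (106, 2), (107, 1), (109, 1), (110, 3), (111, 1), (112, 3), (113, 1), (115, 2), (117, 2), (118, 3), (119, 3), (120, 3), (121, 1), (122, 2), (124, 2), (126, 3), (127, 3), (128,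 3), (129, 3), (130, 1), (131, 3), (133, 1), (134, 1), (136, 1), (137, 2), (138, 1), (139, 1), (142, 2), (146, 3), (148, 2), (151, 2), (152, 2), (154, 2), (155, 2), (158, 2), (163, 2), (164, 2), (166, 1), (167, 2), (168, 1), (170, 2), (171, 2), (172, 2), (174, 2), (175, 2), (176, 2), (179, 2), (181, 2), (183, 2), (185, 2), (186, 2), (187, 2)], 0),
    ([(0, 2), (1, 3), (2, 1), (5, 2), (9, 2), (10, 2), (11, 2), (15, 2), (16, 2), (20, 2), (22, 2), (27, 3), (28, 1), (29, 2), (32, 2), (33, 2), (35, 2), (38, 2), (40, 2), (44, 2), (46, 2), (47, 2), (51, 2), (53, 2), (54, 2), (57, 2), (59, 2), (60, 2), (62, 2), (66, 2), (68, 2), (69, 2), (70, 2), (71, 2), (72, 2), (74, 2), (76, 2), (81, 1), (83, 3), (85, 2), (86, 2), (87, 3), (89, 2), (90, 3), (92, 3), (93, 3), (98, 2), (99, 2), (100, 2), (101, 3), (102, 2), (105, 2), (107, 2), (110, 2), (113, 2), (118, 2), (123, 2), (128, 2), (133, 2), (134, 2), (136, 2), (137, 2), (139, 2), (147, 2), (148, 2), (151, 2), (152, 2), (153, 2), (154, 2), (157, 2), (158, 2), (159, 2), (160, 2), (161, 2), (163, 2), (164, 2), (165, 2), (166, 2), (167, 2), (168, 2), (169, 2), (170, 2), (172, 2),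 (175, 2), (176, 2), (177, 2), (178, 2), (180, 2), (181, 2), (184, 2), (186, 2), (189, 2), (193, 2), (197, 2), (199, 2)], 2),
    ([(1, 3), (2, 1), (3, 1), (4, 2), (5, 3), (8, 2), (10, 3), (12, 3), (13, 3), (14, 2), (15, 1), (16, 3), (21, 2), (22, 2), (23, 2), (24, 3), (26, 2), (27, 1), (28, 2), (29, 2), (31, 3), (33, 3), (34, 2), (35, 3), (36, 2), (37, 2), (38, 2), (39, 3), (40, 2), (41, 2), (42, 2), (43, 2), (44, 2), (45, 3), (46, 2), (48, 2), (49, 3), (51, 1), (52, 1), (53, 2), (54, 3), (55, 2), (59, 2), (60, 3), (61, 2), (62, 1), (64, 3), (65, 2), (66, 2), (67, 2), (71, 1), (72, 1), (75, 3), (76, 1), (77, 2), (79, 2), (80, 2), (81, 3), (83, 3), (84, 2), (86, 2), (87, 2), (93, 3), (95, 2), (97, 2), (98, 2), (99, 2), (101, 3), (103, 2), (105, 2), (108, 2), (110, 2), (111, 2), (113, 2), (114, 2), (115, 2), (116, 2), (117, 2), (119, 2), (120, 2), (123, 2), (126, 2), (127, 2), (129, 2), (130, 2), (131, 2), (137, 2), (138, 2), (140, 2), (141, 2), (142, 2), (143, 2), (144, 2), (145, 2), (148, 2), (150, 2), (151, 1), (152, 2), (154, 2), (155, 2), (156, 2), (157, 2), (159, 2), (160, 2), (161, 2), (163, 2), (164, 2), (165,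 2), (166, 2), (167, 2), (168, 2), (170, 2), (172, 2), (175, 2), (176, 2), (179, 2), (181, 2), (182, 2), (183, 2), (185, 2), (186, 2), (187, 2), (190, 2), (191, 2), (192, 2), (193, 2), (196, 2), (197, 2), (198, 2), (199, 2)], 2),
    ([(0, 2), (1, 2), (2, 1), (3, 2), (4, 1), (5, 2), (6, 3), (7, 1), (9, 1), (10, 3), (11, 1), (12, 1), (13, 1), (14, 3), (15, 1), (16, 1), (17, 1), (18, 1), (19, 1), (20, 3), (22, 1), (23, 2), (25, 1), (26, 1), (27, 2), (28, 1), (30, 3), (34, 1), (35, 1), (36, 3), (37, 1), (38, 3), (39, 1), (40, 1), (42, 2), (43, 2), (44, 2), (45, 1), (48, 3), (49, 2), (51, 1), (52, 3), (53, 1), (54, 1), (57, 2), (58, 3), (59, 3), (61, 3), (62, 3), (63, 2), (64, 1), (67, 3), (68, 3), (69, 2), (70, 1), (71, 1), (73, 2), (74, 2), (75, 3), (76, 3), (77, 3), (78, 2), (79, 1), (80, 3), (81, 2), (82, 3), (83, 3), (84, 1), (86, 2), (87, 1), (88, 1), (90, 3), (92, 3), (95, 1), (96, 3), (97, 2), (98, 1), (99, 1), (100, 1), (102, 2), (103, 1), (105, 3), (107, 3), (108, 1), (109, 3), (110, 3), (111, 3), (112, 3), (113, 1), (114, 2), (116, 2), (117, 2), (118, 2), (120, 2), (123, 2), (125, 2), (127, 2), (134, 2), (135,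 2), (136, 2), (141, 2), (144, 3), (145, 1), (146, 3), (148, 1), (152, 2), (153, 1), (154, 2), (155, 1), (156, 1), (157, 2), (158, 2), (160, 2), (162, 2), (164, 2), (165, 2), (166, 1), (167, 2), (168, 1), (170, 2), (171, 2), (172, 2), (173, 2), (177, 2), (181, 2), (182, 2), (188, 2), (189, 1), (191, 2), (192, 2), (193, 3), (194, 2), (195, 2), (197, 1), (198, 2), (199, 1)], 3),
    ([(0, 2), (2, 2), (3, 3), (4, 1), (5, 1), (7, 2), (8, 3), (9, 2), (12, 2), (14, 2), (16, 2), (17, 1), (18, 2), (19, 3), (20, 2), (21, 2), (22, 3), (23, 2), (24, 1), (25, 1), (27, 2), (28, 3), (29, 2), (30, 3), (31, 3), (32, 2), (33, 3), (34, 1), (35, 1), (37, 3), (38, 2), (40, 2), (42, 3), (43, 2), (44, 1), (45, 3), (46, 1), (47, 3), (48, 1), (50, 1), (51, 2), (52, 1), (53, 3), (54, 3), (55, 2), (56, 2), (58, 3), (59, 3), (60, 1), (61, 2), (62, 2), (63, 1), (64, 1), (65, 3), (66, 3), (67, 2), (69, 2), (70, 3), (71, 2), (72, 1), (73, 1), (75, 1), (77, 3), (78, 3), (79, 1), (80, 1), (81, 3), (83, 2), (86, 1), (88, 2), (89, 2), (90, 1), (91, 3), (95, 3), (96, 3), (97, 3), (99, 3), (100, 2), (103, 3), (104, 2), (105, 1), (106, 2), (110, 2),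 (112, 3), (113, 2), (114, 1), (115, 1), (116, 1), (117, 1), (118, 1), (120, 2), (121, 3), (123, 2), (127, 1), (128, 1), (129, 1), (130, 3), (131, 1), (133, 2), (135, 2), (137, 2), (138, 2), (140, 2), (143, 3), (144, 2), (145, 1), (147, 1), (148, 1), (149, 2), (150, 3), (151, 1), (152, 2), (153, 2), (154, 2), (158, 3), (159, 2), (161, 2), (163, 2), (164, 2), (165, 2), (166, 2), (167, 2), (169, 2), (170, 2), (172, 2), (182, 2), (188, 2), (190, 1), (191, 1), (193, 1), (194, 2), (195, 2), (196, 3), (197, 3), (198, 1), (199, 3)], 1),
    ([(2, 1), (5, 1), (28, 3), (38, 3)], 0),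
    ([(3, 1), (5, 2), (27, 3), (28, 3), (38, 1)], 0),
    ([], 0),
    ([(21, 3), (22, 3), (24, 2), (33, 1), (34, 1), (35, 1), (45, 3), (52, 1), (62, 3)], 0),
    ([(13, 1), (16, 3), (17, 1), (21, 3), (24, 3), (26, 3), (36, 1), (51, 1), (52, 3), (54, 1), (55, 2), (61, 3)], 0),
    ([(6, 1)], 0),
    ([(0, 2), (1, 2), (2, 3), (3, 1), (5, 2), (6, 2), (9, 1), (10, 3), (13, 1), (14, 2), (15, 2), (16, 3), (18, 2), (19, 2), (20, 3), (21, 2), (22, 2), (27, 3), (28, 3), (29, 2), (31, 3), (33, 1), (35, 1), (36, 1), (37, 1), (40, 1), (41, 2), (42, 3), (43, 3), (44, 2), (45, 2), (47, 2), (50, 2), (51, 3), (52, 2), (54, 1), (55, 1), (57, 2), (59, 3), (60, 1), (61, 1), (62, 2), (63, 1), (64, 3), (65, 1), (68, 3), (70, 1), (71, 2), (72, 2), (74, 1), (75, 1), (77, 2), (78, 2), (79, 3), (85, 2), (87, 2), (88, 3), (90, 2), (91, 3), (92, 2), (93, 1), (95, 2), (96, 3), (97, 2), (98, 2), (100, 3), (101, 1), (103, 3), (104, 2), (106, 2), (107, 3), (110, 1), (111, 1), (113, 3), (114, 3), (115, 1), (116, 1), (117, 1), (118, 3), (119, 2), (120, 2), (121, 1), (123, 2), (125, 2), (127, 3), (128, 1), (129, 1), (130, 3), (131, 1), (138, 2),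 (139, 2), (143, 2), (146, 2), (150, 2), (151, 2), (155, 2), (156, 2), (158, 2), (162, 2), (164, 2), (165, 2), (166, 3), (168, 1), (170, 2), (171, 2), (172, 2), (173, 2)], 0),
    ([], 0),
    ([(0, 3), (1, 3), (3, 1), (4, 2), (5, 1), (8, 2), (10, 1), (11, 2), (12, 3), (13, 3), (14, 2), (15, 3), (16, 1), (20, 2), (21, 2), (23, 2), (24, 3), (26, 2), (27, 2), (28, 1), (31, 3), (32, 2), (33, 1), (34, 2), (35, 1), (36, 2), (37, 2), (39, 3), (41, 2), (42, 2), (43, 2), (45, 3), (47, 2), (48, 2), (49, 3), (51, 3), (52, 1), (54, 1), (55, 2), (57, 2), (60, 1), (61, 2), (62, 3), (64, 3), (65, 2), (67, 2), (68, 2), (69, 2), (70, 2), (71, 3), (72, 3), (74, 2), (75, 3), (76, 3), (77, 2), (79, 2), (80, 2), (81, 3), (82, 1), (84, 2), (85, 2), (87, 3), (89, 2), (90, 1), (92, 1), (95, 2), (97, 2), (100, 2), (102, 2), (103, 2), (107, 2), (108, 2), (111, 2), (114, 2), (115, 2), (116, 2), (117, 2), (118, 2), (119, 2), (120, 2), (126, 2), (127, 2), (128, 2), (129, 2), (130, 2), (131, 2), (133, 2), (134, 2), (136, 2), (138, 2), (139, 2), (140, 2), (141, 2), (142, 2), (143, 2), (144, 2), (145, 2), (147, 2), (150, 2), (151, 3), (153, 2),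 (155, 2), (156, 2), (158, 2), (169, 2), (177, 2), (178, 2), (179, 2), (180, 2), (182, 2), (183, 2), (184, 2), (185, 2), (187, 2), (189, 2), (190, 2), (191, 2), (192, 2), (196, 2), (198, 2)], 0),
    ([(2, 3), (3, 3), (5, 1), (7, 2), (8, 2), (10, 1), (11, 2), (12, 3), (13, 3), (15, 1), (16, 1), (17, 2), (19, 2), (20, 2), (22, 2), (24, 1), (25, 2), (27, 1), (29, 2), (31, 3), (32, 2), (33, 3), (35, 1), (36, 2), (39, 3), (40, 2), (42, 2), (43, 2), (44, 2), (45, 3), (46, 2), (47, 1), (48, 2), (49, 1), (50, 2), (51, 1), (52, 3), (53, 2), (54, 3), (55, 2), (57, 2), (60, 3), (62, 3), (63, 2), (64, 3), (65, 2), (67, 2), (69, 2), (71, 1), (72, 3), (74, 2), (75, 3), (76, 1), (77, 2), (78, 2), (82, 1), (83, 2), (84, 1), (85, 2), (86, 2), (87, 2), (88, 2), (90, 2), (92, 2), (93, 3), (101, 3), (105, 2), (107, 2), (108, 2), (110, 2), (113, 2), (114, 2), (115, 2), (116, 2), (117, 2), (118, 2), (121, 2), (123, 2), (126, 2), (127, 2), (128, 2), (129, 2), (130, 2), (131, 2), (137, 2), (138, 2), (140, 2), (141, 2), (142, 2), (144, 2), (145, 2), (146, 2), (148, 2), (151, 3), (152, 2), (154, 2), (157, 2), (158, 2), (159, 2), (160, 2),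 (161, 2), (163, 2), (164, 2), (165, 2), (166, 2), (167, 2), (168, 2), (170, 2), (172, 2), (175, 2), (176, 2), (179, 2), (181, 2), (182, 2), (183, 2), (185, 2), (186, 2), (187, 2), (190, 2), (191, 2), (192, 2), (193, 2), (196, 2), (197, 2), (198, 2), (199, 2)], 2),
    ([(2, 3), (3, 3), (4, 1), (5, 2), (6, 1), (7, 2), (8, 2), (9, 2), (10, 3), (11, 2), (12, 3), (13, 2), (14, 2), (15, 3), (17, 1), (19, 2), (20, 3), (21, 2), (22, 1), (23, 1), (25, 3), (26, 2), (28, 3), (29, 2), (30, 2), (31, 1), (32, 2), (33, 2), (35, 1), (36, 2), (37, 1), (39, 1), (40, 3), (41, 1), (42, 1), (43, 1), (44, 2), (46, 2), (48, 2), (49, 2), (50, 2), (51, 1), (52, 2), (53, 3), (55, 2), (57, 2), (58, 2), (59, 2), (60, 1), (63, 1), (64, 1), (65, 1), (66, 2), (67, 3), (68, 2), (70, 2), (72, 2), (73, 1), (74, 1), (75, 3), (76, 2), (77, 3), (78, 2), (79, 3), (80, 2), (81, 2), (84, 2), (85, 2), (86, 2), (87, 1), (88, 3), (90, 2), (91, 3), (93, 3), (95, 3), (96, 1), (98, 1), (100, 3), (101, 3), (102, 2), (103, 1), (104, 2), (105, 3), (106, 2), (107, 2), (108, 2), (109, 2), (110, 2), (112, 3), (113, 2), (114, 1), (115, 1), (116, 1), (117, 1), (118,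 3), (120, 2), (121, 3), (125, 2), (127, 3), (128, 1), (129, 1), (130, 3), (131, 1), (133, 2), (134, 2), (136, 2), (137, 2), (138, 2), (142, 2), (144, 2), (147, 2), (148, 2), (149, 2), (151, 2), (155, 2), (156, 2), (161, 2), (162, 2), (163, 2), (166, 1), (167, 2), (168, 3), (169, 2), (171, 2), (173, 2), (175, 2), (176, 2), (177, 2), (178, 2), (180, 2), (181, 2), (184, 2), (186, 2), (189, 2), (193, 2), (197, 2), (199, 2)], 2),
    ([], 0),
    ([(0, 2), (1, 2), (2, 1), (3, 2), (4, 1), (5, 2), (6, 3), (7, 1), (9, 1), (10, 3), (11, 2), (13, 1), (14, 1), (15, 1), (16, 2), (19, 2), (21, 1), (22, 1), (23, 2), (24, 1), (26, 3), (27, 2), (28, 1), (30, 3), (32, 1), (33, 1), (34, 1), (35, 3), (36, 2), (37, 2), (38, 3), (40, 3), (41, 3), (42, 2), (44, 1), (45, 1), (46, 2), (49, 3), (51, 1), (52, 3), (53, 1), (54, 3), (57, 1), (58, 3), (59, 1), (60, 3), (61, 3), (62, 3), (63, 3), (67, 3), (68, 3), (69, 2), (70, 3), (72, 2), (73, 2), (74, 2), (75, 3), (78, 2), (79, 2), (80, 3), (81, 2), (82, 3), (83, 3), (84, 1), (86, 2), (87, 1), (88, 1), (90, 3), (92, 3), (95, 1), (96, 3), (97, 2), (98, 1), (99, 1), (100, 1), (102, 2), (103,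 1), (105, 3), (107, 3), (108, 1), (109, 3), (110, 3), (111, 3), (112, 3), (113, 1), (114, 2), (116, 2), (117, 2), (118, 2), (120, 2), (123, 2), (125, 2), (127, 2), (134, 2), (135, 2), (136, 2), (141, 2), (144, 3), (145, 1), (146, 3), (148, 1), (152, 2), (153, 1), (154, 2), (155, 1), (156, 1), (157, 2), (158, 2), (160, 2), (162, 2), (164, 2), (165, 2), (166, 1), (167, 2), (168, 1), (170, 2), (171, 2), (172, 2), (173, 2), (177, 2), (181, 2), (182, 2), (188, 2), (189, 1), (191, 2), (192, 2), (193, 3), (194, 2), (195, 2), (197, 1), (198, 2), (199, 1)], 3),
    ([(0, 2), (2, 3), (3, 1), (4, 1), (7, 1), (9, 1), (10, 2), (11, 3), (12, 2), (13, 1), (14, 3), (15, 3), (16, 2), (17, 2), (18, 3), (19, 3), (20, 1), (21, 2), (23, 1), (24, 2), (25, 1), (26, 1), (28, 2), (30, 2), (31, 1), (32, 1), (33, 1), (34, 3), (35, 3), (36, 3), (37, 2), (38, 1), (39, 2), (40, 2), (42, 3), (44, 3), (45, 1), (47, 3), (48, 3), (49, 3), (50, 2), (51, 1), (53, 1), (54, 3), (55, 3), (56, 1), (57, 2), (58, 2), (59, 1), (60, 2), (62, 3), (63, 2), (64, 1), (65, 1), (66, 1), (67, 3), (68, 1), (69, 3), (70, 1), (71, 1), (72, 2), (73, 1), (75, 2), (77,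 3), (78, 3), (79, 1), (81, 1), (82, 3), (83, 3), (84, 3), (86, 1), (87, 1), (88, 3), (89, 2), (91, 3), (92, 3), (95, 2), (96, 2), (97, 3), (98, 3), (99, 2), (100, 1), (103, 2), (104, 2), (105, 2), (106, 2), (107, 3), (108, 1), (109, 1), (110, 1), (111, 3), (113, 3), (114, 1), (115, 3), (116, 1), (117, 1), (118, 1), (119, 2), (120, 2), (121, 3), (125, 2), (126, 2), (127, 1), (128, 3), (129, 3), (130, 1), (131, 3), (137, 2), (139, 2), (140, 2), (141, 2), (143, 1), (144, 1), (146, 3), (147, 3), (149, 2), (150, 1), (151, 3), (153, 3), (155, 1), (156, 1), (157, 2), (158, 3), (159, 2), (160, 2), (161, 2), (162, 2), (163, 2), (166, 1), (167, 2), (168, 3), (171, 2), (173, 2), (175, 2), (176, 2), (179, 2), (181, 2), (182, 2), (183, 2), (185, 2), (186, 2), (187, 2), (189, 1), (190, 3), (191, 1), (193, 2), (196, 1), (197, 2), (198, 1), (199, 2)], 2),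
    ([(67, 3)], 0),
    ([(4, 1), (5, 3), (6, 3), (13, 1), (16, 3), (17, 1), (21, 2), (22, 1), (23, 1), (24, 2), (25, 3), (26, 3), (33, 2), (34, 2), (35, 2), (36, 1), (45, 3), (52, 2), (53, 3), (54, 2), (55, 2), (61, 3), (62, 2), (69, 3)], 0),
    ([(4, 1), (5, 3), (6, 3), (13, 1), (14, 1), (15, 3), (21, 2), (22, 1), (24, 3), (25, 1), (26, 1), (33, 2), (34, 2), (35, 2), (36, 1), (45, 3), (52, 2), (53, 1), (54, 2), (55, 3), (59, 3), (61, 3), (62, 2), (70, 1)], 0),
    ([(24, 3), (26, 3), (54, 1)], 0),
    ([], 0),
    ([(2, 3), (3, 3), (5, 1), (7, 1), (8, 2), (9, 1), (10, 1), (11, 2), (12, 3), (13, 3), (15, 1), (16, 1), (17, 2), (19, 2), (20, 2), (22, 2), (24, 1), (25, 2), (27, 1), (29, 2), (31, 3), (32, 2), (33, 3), (35, 1), (36, 2), (39, 3), (40, 2), (42, 2), (43, 2), (44, 2), (45, 3), (46, 2), (47, 1), (48, 2), (49, 1), (50, 2), (51, 1), (52, 3), (53, 2), (54, 3), (55, 2), (57, 2), (60, 3), (62, 3), (63, 2), (64, 3), (65, 2), (67, 2), (69, 2), (71, 1), (72, 3), (74, 2), (75, 3), (76, 1), (77, 2), (78, 2), (82, 1), (83, 2), (84, 1), (85, 2), (86, 2), (87, 2), (88, 2), (90, 2), (92, 2), (93, 3), (101, 3), (105,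 2), (107, 2), (108, 2), (110, 2), (113, 2), (114, 2), (115, 2), (116, 2), (117, 2), (118, 2), (121, 2), (123, 2), (126, 2), (127, 2), (128, 2), (129, 2), (130, 2), (131, 2), (137, 2), (138, 2), (140, 2), (141, 2), (142, 2), (144, 2), (145, 2), (146, 2), (148, 2), (151, 3), (152, 2), (154, 2), (157, 2), (158, 2), (159, 2), (160, 2), (161, 2), (163, 2), (164, 2), (165, 2), (166, 2), (167, 2), (168, 2), (170, 2), (172, 2), (175, 2), (176, 2), (179, 2), (181, 2), (182, 2), (183, 2), (185, 2), (186, 2), (187, 2), (190, 2), (191, 2), (192, 2), (193, 2), (196, 2), (197, 2), (198, 2), (199, 2)], 2),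
    ([(0, 1), (1, 3), (2, 1), (5, 2), (9, 3), (10, 2), (11, 2), (15, 2), (16, 2), (20, 2), (22, 2), (27, 3), (28, 1), (29, 2), (32, 2), (33, 2), (35, 2), (38, 2), (40, 2), (44, 2), (46, 2), (47, 2), (51, 2), (53, 2), (54, 2), (57, 2), (59, 2), (60, 2), (62, 2), (66, 2), (68, 2), (69, 2), (70, 2), (71, 2), (72, 2), (74, 2), (76, 2), (81, 1), (84, 1), (85, 2), (86, 2), (87, 3), (89, 2), (90, 3), (92, 3), (93, 3), (98, 2), (99, 2), (100, 2), (101, 3), (102, 2), (105, 2), (107, 2), (110, 2), (113, 2), (118, 2), (123, 2), (128, 2), (133, 2), (134, 2), (136, 2), (137, 2), (139, 2), (147, 2), (148, 2), (151, 2), (152, 2), (153, 2), (154, 2), (157, 2), (158, 2), (159, 2), (160, 2), (161, 2), (163, 2), (164, 2), (165, 2), (166, 2), (167, 2), (168, 2), (169, 2), (170, 2), (172, 2), (175, 2), (176, 2), (177, 2), (178, 2), (180, 2), (181, 2), (184, 2), (186, 2), (189, 2), (193, 2), (197, 2), (199, 2)], 2),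
    ([(1, 2), (2, 2), (5, 1), (6, 2), (7, 3), (8, 2), (9, 1), (12, 2), (13, 1), (14, 3), (16, 1), (17, 2), (19, 2), (20, 2), (21, 2), (22, 1), (23, 2), (24, 2), (26, 3), (27, 1), (28, 2), (30, 2), (32, 2), (33, 3), (34, 1), (35, 2), (36, 1), (37, 2), (39, 2), (40, 3), (41, 3), (42, 2), (43, 1), (45, 3), (46, 1), (49, 1), (51, 3), (53, 1), (54, 1), (57, 2), (58, 1), (59, 2), (60, 1), (61, 3), (63, 1), (64, 2), (65, 1), (66, 1), (70, 3), (72, 1), (73, 1), (75, 2), (76, 2), (77, 2), (78, 3), (79, 1), (81, 2), (82, 2), (83, 2), (84, 2), (85, 3), (87, 1), (88, 2), (90, 2), (91, 3), (92, 2), (94, 2), (95, 2), (96, 1), (97, 1), (98, 1), (99, 2), (100, 3), (102, 2), (103, 3), (104, 2), (105, 2), (107, 3), (108, 2), (109, 1), (110, 1), (111, 1), (112, 2), (113, 3), (114, 3), (115, 1), (116, 3), (117, 1), (119, 3), (120, 1), (121, 2), (123, 2), (125, 2), (126, 2), (127, 1), (128, 3), (129, 3), (130, 1), (131, 3), (133, 2), (134, 2), (136, 2), (140, 2), (143, 2), (144, 2), (147, 2), (150, 2), (151, 2), (153, 2), (155, 2), (156, 2), (158, 2), (162, 2), (164, 2), (165, 2), (166, 3), (168, 1), (169, 2), (170, 2), (171, 2), (172,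 2), (173, 2), (177, 2), (178, 2), (179, 2), (180, 2), (182, 2), (183, 2), (184, 2), (185, 2), (187, 2), (189, 2), (190, 2), (191, 2), (192, 2), (196, 2), (198, 2)], 0),
    ([(0, 2), (1, 2), (2, 3), (3, 1), (4, 3), (5, 2), (6, 1), (7, 1), (8, 2), (9, 3), (10, 3), (11, 1), (12, 2), (14, 2), (16, 1), (17, 3), (18, 2), (19, 3), (20, 2), (21, 1), (22, 2), (23, 3), (24, 1), (26, 3), (27, 2), (28, 1), (30, 3), (32, 3), (33, 1), (34, 1), (35, 3), (36, 1), (37, 3), (38, 2), (40, 2), (42, 2), (44, 1), (45, 1), (46, 1), (47, 2), (49, 3), (51, 2), (52, 3), (53, 2), (54, 3), (55, 2), (56, 2), (57, 2), (58, 3), (59, 2), (60, 3), (62, 1), (63, 3), (64, 2), (65, 3), (66, 2), (67, 3), (68, 2), (69, 3), (70, 1), (71, 1), (73, 1), (74, 1), (75, 1), (76, 1), (77, 3), (78, 1), (79, 2), (81, 2), (83, 2), (86, 3), (87, 1), (88, 3), (90, 2), (92, 2), (93, 3), (94, 2), (97, 1), (98, 3), (99, 1), (100, 1), (101, 3), (103, 3), (104, 2), (107, 3), (109, 3), (110, 3), (111, 3), (112, 2), (113, 1), (114, 1), (115, 3), (116, 1), (117, 3), (119, 3), (120, 1)], 0),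
    ([(0, 2), (2, 3), (3, 1), (4, 1), (7, 1), (9, 1), (10, 3), (11, 3), (13, 2), (15, 3), (16, 1), (17, 2), (18, 3), (20, 1), (21, 1), (22, 2), (24, 1), (25, 2), (26, 3), (28, 2), (30, 2), (31, 2), (32, 3), (33, 3), (34, 1), (37, 2), (38, 1), (39, 1), (40, 1), (41, 2), (42, 3), (44, 3), (45, 2), (46, 2), (47, 3), (48, 3), (49, 3), (50, 2), (52, 1), (53, 2), (56, 1), (57, 2), (58, 2), (59, 1), (60, 3), (61, 2), (62, 2), (63, 2), (64, 1), (65, 1), (66, 1), (67, 3), (68, 1), (70, 1), (71, 2), (72, 3), (73, 1), (75, 1), (76, 3), (77, 1), (79, 1), (81, 1), (82, 3), (83, 3), (84, 3), (86, 1), (87, 1), (88, 3), (89, 2), (91, 3), (92, 3), (95, 2), (96, 2), (97, 3), (98, 3), (99, 2), (100, 1), (103, 2), (104, 2), (105, 2), (106, 2), (107, 3), (108, 1), (109, 1), (110, 1), (111, 3), (113, 3), (114, 1), (115, 3), (116, 1), (117, 1), (118, 1), (119, 2), (120, 2), (121, 3), (125, 2), (126, 2), (127, 1), (128, 3), (129, 3), (130, 1), (131, 3), (137, 2), (139, 2), (140, 2), (141, 2), (143, 1), (144, 1), (146, 3), (147, 3), (149, 2), (150, 1), (151, 3), (153, 3), (155, 1), (156, 1), (157, 2), (158, 3), (159, 2), (160, 2), (161,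 2), (162, 2), (163, 2), (166, 1), (167, 2), (168, 3), (171, 2), (173, 2), (175, 2), (176, 2), (179, 2), (181, 2), (182, 2), (183, 2), (185, 2), (186, 2), (187, 2), (189, 1), (190, 3), (191, 1), (193, 2), (196, 1), (197, 2), (198, 1), (199, 2)], 2),
    ([(2, 2), (3, 3), (4, 1), (5, 3), (8, 2), (10, 3), (11, 3), (12, 2), (13, 3), (14, 2), (16, 1), (17, 1), (18, 1), (19, 3), (20, 2), (22, 1), (23, 1), (25, 3), (26, 2), (27, 2), (28, 1), (29, 2), (30, 1), (31, 1), (32, 1), (33, 3), (35, 2), (36, 1), (39, 1), (40, 2), (41, 3), (42, 1), (44, 2), (45, 2), (46, 3), (47, 1), (48, 1), (49, 3), (50, 1), (51, 2), (52, 2), (54, 2), (55, 1), (56, 1), (57, 3), (58, 3), (59, 2), (60, 2), (61, 3), (62, 1), (63, 1), (65, 3), (66, 3), (68, 2), (69, 1), (71, 1), (72, 3), (73, 3), (75, 3), (76, 3), (77, 2), (78, 3), (79, 1), (80, 3), (81, 3), (84, 2), (85, 2), (86, 1), (89, 2), (90, 1), (91, 3), (95, 3), (96, 3), (97, 1), (99, 1), (100, 2), (102, 2), (103, 1), (104, 2), (105, 1), (106, 2), (107, 2), (108, 2), (109, 2), (110, 2), (111, 2), (112, 3), (113, 2), (114, 1), (115, 1), (116, 1), (117, 1), (118, 3), (120, 2), (121, 3), (123,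 2), (126, 2), (127, 3), (128, 3), (129, 3), (130, 1), (131, 3), (134, 2), (135, 2), (136, 2), (137, 2), (139, 2), (143, 3), (145, 1), (146, 2), (147, 3), (148, 1), (149, 2), (150, 3), (151, 1), (152, 2), (154, 2), (158, 3), (159, 2), (161, 2), (163, 2), (164, 2), (165, 2), (166, 2), (167, 2), (170, 2), (172, 2), (177, 2), (178, 2), (179, 2), (180, 2), (183, 2), (184, 2), (185, 2), (187, 2), (188, 2), (189, 2), (190, 3), (191, 3), (192, 2), (193, 1), (194, 2), (195, 2), (196, 1), (197, 3), (198, 3), (199, 3)], 1),
    ([(68, 1)], 0),
    ([(4, 1), (5, 3), (6, 3), (13, 1), (14, 1), (15, 3), (21, 2), (22, 1), (23, 1), (24, 1), (26, 1), (33, 2), (34, 2), (35, 2), (36, 1), (45, 3), (52, 2), (54, 3), (55, 1), (59, 3), (61, 3), (62, 2), (70, 1)], 0),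
    ([(4, 2), (5, 2), (6, 2), (13, 2), (16, 2), (17, 2), (22, 2), (23, 1), (24, 2), (25, 3), (26, 2), (36, 2), (45, 2), (53, 3), (54, 3), (55, 2), (61, 2), (69, 3), (70, 1)], 0),
    ([(25, 1), (26, 3), (55, 3)], 0),
    ([(0, 2), (2, 1), (4, 3), (5, 3), (6, 3), (7, 3), (8, 3), (9, 3), (11, 3), (12, 3), (13, 1), (14, 1), (15, 1), (16, 2), (17, 2), (18, 2), (19, 1), (20, 1), (21, 1), (22, 3), (24, 1), (25, 2), (26, 3), (27, 3), (28, 1), (30, 3), (31, 1), (32, 3), (33, 1), (34, 1), (35, 1), (36, 1), (38, 3), (39, 2), (40, 2), (41, 1), (42, 2), (44, 3), (45, 2), (46, 2), (47, 2), (48, 2), (49, 1), (51, 3), (52, 2), (53, 3), (54, 2), (57, 1), (59, 1), (60, 2), (62, 2), (63, 3), (64, 1), (65, 2), (66, 2), (67, 3), (68, 3), (70, 1), (71, 2), (72, 3), (74, 2), (76, 3), (77, 1), (79, 2), (80, 3), (81, 2), (82, 3), (83, 1), (84, 3), (85, 2), (87, 2), (88, 1), (90, 3), (92, 3), (95, 1), (96, 1), (97, 2), (98, 1), (99, 1), (100, 3), (102, 2), (103, 3), (105, 1), (107, 3), (108, 3), (109, 3), (110, 1), (111, 3), (112, 1), (113, 3), (115, 2), (118, 2), (119, 2), (125, 2), (127, 2), (128, 2), (133, 2), (135, 2), (137, 2), (139,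 2), (141, 2), (142, 2), (144, 1), (145, 1), (146, 3), (147, 2), (148, 3), (149, 2), (151, 2), (152, 2), (153, 1), (154, 2), (155, 3), (156, 3), (157, 2), (158, 2), (160, 2), (161, 2), (162, 2), (163, 2), (166, 3), (168, 3), (169, 2), (171, 2), (173, 2), (175, 2), (176, 2), (178, 2), (180, 2), (182, 2), (184, 2), (186, 2), (188, 2), (189, 3), (191, 2), (192, 2), (193, 1), (194, 2), (195, 2), (197, 3), (198, 2), (199, 3)], 1),
    ([(0, 2), (1, 2), (2, 2), (3, 1), (4, 3), (5, 2), (8, 2), (10, 1), (11, 2), (12, 3), (13, 3), (14, 3), (15, 2), (16, 3), (17, 2), (18, 2), (21, 1), (22, 2), (24, 1), (25, 2), (28, 2), (29, 2), (30, 3), (32, 3), (35, 1), (36, 1), (37, 2), (38, 3), (39, 1), (40, 2), (41, 1), (42, 3), (43, 1), (44, 1), (45, 1), (46, 2), (47, 1), (48, 3), (50, 1), (51, 2), (52, 3), (53, 1), (54, 2), (55, 1), (56, 3), (57, 3), (59, 2), (60, 1), (62, 2), (63, 2), (65, 1), (66, 1), (67, 2), (70, 2), (71, 3), (72, 1), (73, 3), (75, 2), (76, 2), (77, 1), (79, 3), (80, 1), (81, 3), (84, 2), (85, 2), (86, 3), (88, 3), (89, 2), (90, 1), (91, 3), (95, 3), (96, 1), (97, 3), (99, 3), (103, 1), (104, 2), (105, 3), (106,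 2), (108, 2), (112, 1), (114, 3), (115, 3), (116, 3), (117, 3), (118, 1), (119, 2), (121, 3), (127, 1), (128, 3), (129, 1), (130, 3), (131, 1), (134, 2), (135, 2), (136, 2), (138, 2), (139, 2), (140, 2), (142, 2), (143, 3), (145, 1), (147, 3), (148, 3), (150, 3), (151, 3), (152, 2), (153, 2), (154, 2), (155, 2), (156, 2), (158, 3), (159, 2), (168, 2), (175, 2), (176, 2), (177, 2), (178, 2), (180, 2), (181, 2), (182, 2), (184, 2), (186, 2), (188, 2), (189, 2), (190, 1), (191, 1), (193, 3), (194, 2), (195, 2), (196, 3), (197, 1), (198, 1), (199, 1)], 3),
    ([(1, 2), (2, 3), (3, 1), (4, 1), (5, 3), (6, 3), (7, 3), (9, 1), (10, 3), (11, 2), (12, 3), (13, 1), (14, 3), (15, 3), (16, 3), (17, 1), (20, 3), (23, 3), (25, 3), (26, 3), (27, 1), (28, 1), (30, 2), (31, 3), (32, 2), (33, 1), (34, 1), (35, 1), (36, 3), (37, 1), (38, 2), (39, 3), (40, 2), (42, 3), (44, 2), (45, 3), (46, 3), (48, 2), (49, 1), (50, 2), (51, 2), (53, 2), (54, 1), (55, 2), (58, 3), (61, 3), (62, 2), (63, 2), (64, 3), (66, 2), (67, 1), (68, 1), (69, 2), (70, 1), (71, 2), (72, 1), (73, 2), (74, 2), (75, 3), (76, 2), (77, 1), (78, 1), (79, 2), (82,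 2), (83, 2), (85, 1), (86, 2), (88, 1), (92, 2), (93, 1), (94, 2), (95, 2), (96, 3), (97, 1), (98, 2), (99, 2), (100, 2), (101, 1), (102, 2), (103, 2), (105, 1), (106, 2), (107, 3), (109, 3), (110, 1), (111, 3), (112, 1), (113, 3), (114, 2), (116, 2), (118, 3), (119, 3), (120, 3), (121, 3), (123, 2), (126, 2), (127, 2), (128, 2), (129, 2), (130, 2), (131, 2), (137, 2), (138, 2), (140, 2), (142, 2), (143, 2), (148, 2), (149, 2), (150, 2), (153, 2), (158, 2), (161, 2), (163, 2), (164, 2), (165, 2), (166, 2), (167, 2), (168, 2), (170, 2), (172, 2), (175, 2), (176, 2), (179, 2), (181, 2), (182, 2), (183, 2), (185, 2), (186, 2), (187, 2), (190, 2), (191, 2), (192, 2), (193, 2), (196, 2), (197, 2), (198, 2), (199, 2)], 2),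
    ([(0, 2), (2, 3), (3, 3), (4, 3), (5, 1), (6, 3), (10, 1), (11, 1), (12, 2), (13, 3), (14, 1), (16, 2), (17, 3), (18, 2), (19, 1), (20, 2), (21, 3), (22, 1), (23, 3), (24, 1), (25, 2), (27, 1), (28, 3), (30, 1), (31, 2), (32, 3), (33, 2), (34, 2), (35, 3), (37, 3), (39, 2), (40, 3), (41, 3), (43, 3), (44, 1), (45, 2), (46, 2), (47, 2), (51, 3), (52, 1), (53, 1), (56, 2), (58, 2), (60, 2), (61, 3), (62, 3), (65, 2), (68, 2), (69, 3), (70, 2), (71, 1), (72, 1), (73, 2), (74, 2), (75, 1), (76, 1), (77, 3), (79, 3), (82, 2), (84, 2), (85, 1), (86, 3), (87, 2), (88, 1), (91, 3), (93, 1), (96, 1), (98, 2), (99, 2), (100, 1), (101, 1), (102, 2), (105, 2), (107, 2), (108, 2), (118, 2), (123, 2), (125, 2), (126, 2), (127, 1), (128, 3), (129, 3), (130, 1), (131, 3), (133, 2), (134, 2), (136, 2), (140, 2), (143, 2), (144, 2), (147, 2), (150, 2), (151, 2), (153, 2), (155, 2), (156, 2), (158, 2), (162, 2), (164, 2), (165, 2), (166, 3), (168, 1), (169, 2), (170, 2), (171, 2), (172, 2), (173, 2), (177, 2), (178, 2), (179, 2), (180, 2), (182, 2), (183, 2), (184, 2), (185, 2), (187, 2), (189, 2), (190, 2), (191, 2), (192, 2),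 (196, 2), (198, 2)], 0),
    ([(29, 1)], 0),
    ([(30, 1)], 0),
    ([(1, 2), (2, 2), (5, 1), (6, 2), (7, 3), (8, 2), (9, 1), (12, 2), (13, 1), (14, 3), (16, 1), (17, 2), (19, 2), (20, 2), (21, 2), (22, 1), (23, 2), (24, 2), (26, 3), (27, 1), (28, 2), (30, 2), (32, 2), (33, 3), (34, 1), (35, 2), (36, 1), (37, 2), (39, 2), (40, 3), (41, 3), (42, 2), (43, 1), (45, 3), (46, 1), (49, 1), (51, 3), (53, 1), (54, 1), (57, 2), (58, 1), (59, 2), (60, 1), (61, 3), (63, 1), (64, 2), (65, 1), (67, 1), (68, 1), (70, 3), (72, 1), (73, 1), (74, 1), (75, 2), (76, 2), (77, 2), (78, 3), (79, 1), (81, 2), (82, 2), (83, 2), (84, 2), (85, 3), (87, 1), (88, 2), (90, 2), (91, 3), (92, 2), (94, 2), (95, 2), (96, 1), (97, 1), (98, 1), (99, 2), (100, 3), (102, 2), (103, 3), (104, 2), (105, 2), (107, 3), (108, 2), (109, 1), (110, 1), (111, 1), (112, 2), (113, 3), (114, 3), (115, 1), (116, 3), (117, 1), (119, 3), (120, 1), (121, 2), (123, 2), (125, 2), (126, 2), (127, 1), (128, 3), (129, 3), (130, 1), (131, 3), (133, 2), (134, 2), (136, 2), (140, 2), (143, 2), (144, 2), (147, 2), (150, 2), (151, 2), (153, 2), (155, 2), (156, 2), (158, 2),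 (162, 2), (164, 2), (165, 2), (166, 3), (168, 1), (169, 2), (170, 2), (171, 2), (172, 2), (173, 2), (177, 2), (178, 2), (179, 2), (180, 2), (182, 2), (183, 2), (184, 2), (185, 2), (187, 2), (189, 2), (190, 2), (191, 2), (192, 2), (196, 2), (198, 2)], 0),
    ([(31, 1), (32, 3)], 0),
    ([(32, 3), (60, 1)], 0),
    ([(32, 1)], 0),
    ([(9, 1)], 0),
    ([(0, 2), (2, 1), (4, 3), (5, 2), (6, 3), (7, 3), (9, 3), (10, 2), (11, 3), (12, 3), (13, 3), (14, 3), (15, 3), (16, 3), (17, 3), (18, 2), (19, 1), (21, 1), (22, 3), (23, 2), (24, 2), (25, 1), (26, 2), (28, 1), (30, 3), (31, 2), (32, 1), (33, 1), (35, 2), (36, 2), (37, 1), (38, 2), (41, 2), (42, 2), (43, 3), (45, 2), (47, 2), (48, 2), (49, 1), (51, 1), (52, 1), (53, 1), (54, 3), (55, 2), (57, 1), (58, 1), (59, 1), (60, 3), (61, 1), (62, 3), (63, 3), (65, 2), (66, 2), (67, 3), (68, 3), (69, 2), (70, 1), (72, 3), (74, 2), (75, 3), (76, 2), (78, 2), (79, 3), (80, 3), (81, 2), (82, 3), (83, 1), (84, 3), (85, 2), (87, 1), (88, 1), (90, 3), (92, 3), (95, 1), (96, 1), (97, 2), (98, 1), (99, 1), (100, 3), (102, 2), (103, 3), (105, 1), (107, 3), (108, 3), (109, 3), (110,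 1), (111, 3), (112, 1), (113, 3), (115, 2), (118, 2), (119, 2), (125, 2), (127, 2), (128, 2), (133, 2), (135, 2), (137, 2), (139, 2), (141, 2), (142, 2), (144, 1), (145, 1), (146, 3), (147, 2), (148, 3), (149, 2), (151, 2), (152, 2), (153, 1), (154, 2), (155, 3), (156, 3), (157, 2), (158, 2), (160, 2), (161, 2), (162, 2), (163, 2), (166, 3), (168, 3), (169, 2), (171, 2), (173, 2), (175, 2), (176, 2), (178, 2), (180, 2), (182, 2), (184, 2), (186, 2), (188, 2), (189, 3), (191, 2), (192, 2), (193, 1), (194, 2), (195, 2), (197, 3), (198, 2), (199, 3)], 1),
    ([(2, 3), (3, 1), (4, 3), (6, 2), (7, 3), (9, 3), (10, 3), (11, 2), (13, 2), (14, 2), (15, 2), (16, 1), (17, 1), (18, 3), (19, 1), (20, 2), (21, 3), (23, 3), (24, 2), (26, 3), (31, 3), (33, 1), (35, 3), (36, 3), (37, 2), (38, 3), (39, 1), (40, 3), (41, 2), (42, 1), (43, 2), (44, 1), (45, 1), (46, 1), (47, 1), (48, 3), (49, 3), (50, 1), (51, 1), (52, 1), (53, 3), (55, 2), (56, 3), (57, 3), (58, 2), (59, 2), (60, 3), (61, 3), (62, 2), (63, 2), (65, 1), (66, 1), (67, 1), (68, 3), (69, 3), (71, 1), (72, 1), (73, 3), (76, 3), (78, 3), (79, 3), (80, 2), (81, 1), (82,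 3), (83, 1), (84, 1), (85, 2), (86, 1), (87, 1), (88, 1), (89, 2), (91, 3), (92, 3), (95, 2), (96, 2), (97, 1), (98, 3), (100, 1), (102, 2), (104, 2), (105, 2), (106, 2), (107, 1), (108, 3), (109, 3), (110, 1), (111, 1), (113, 3), (114, 1), (115, 3), (116, 1), (117, 1), (118, 3), (119, 2), (120, 2), (121, 3), (125, 2), (127, 3), (128, 1), (129, 1), (130, 3), (131, 1), (133, 2), (134, 2), (136, 2), (137, 2), (138, 2), (141, 2), (143, 1), (144, 3), (146, 1), (147, 1), (149, 2), (150, 1), (151, 3), (153, 1), (155, 1), (156, 1), (157, 2), (158, 3), (159, 2), (160, 2), (161, 2), (162, 2), (163, 2), (166, 1), (167, 2), (168, 3), (169, 2), (171, 2), (173, 2), (175, 2), (176, 2), (177, 2), (178, 2), (180, 2), (181, 2), (184, 2), (186, 2), (189, 3), (190, 1), (191, 3), (192, 2), (193, 2), (196, 3), (197, 2), (198, 3), (199, 2)], 2),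
    ([(12, 1), (13, 1), (15, 3), (16, 3), (17, 1), (21, 3), (22, 3), (26, 3), (36, 1), (51, 1), (54, 1), (55, 1), (61, 3)], 0),
    ([(21, 3), (24, 1), (33, 1), (34, 1), (35, 1), (36, 3), (45, 3), (52, 1), (61, 1), (62, 3)], 0),
    ([(4, 3), (5, 1), (6, 1), (13, 3), (14, 1), (15, 3), (16, 1), (17, 2), (21, 2), (22, 3), (23, 3), (24, 3), (25, 1), (26, 2), (33, 2), (34, 2), (35, 2), (36, 3), (45, 1), (52, 2), (53, 1), (54, 1), (55, 2), (61, 1), (62, 2), (69, 1)], 0),
    ([(15, 1)], 0),
    ([(16, 1), (17, 3), (24, 1), (26, 1), (54, 3)], 0),
    ([(17, 1)], 0),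
    ([(2, 3), (3, 1), (4, 2), (5, 1), (6, 3), (7, 3), (9, 3), (10, 2), (11, 1), (12, 1), (13, 2), (17, 2), (18, 3), (19, 1), (20, 2), (22, 3), (23, 3), (24, 3), (25, 2), (26, 3), (31, 2), (32, 3), (33, 3), (34, 1), (35, 3), (36, 3), (37, 2), (38, 3), (39, 1), (40, 1), (42, 1), (43, 2), (45, 3), (47, 1), (48, 3), (49, 2), (50, 1), (52, 3), (53, 3), (56, 3), (57, 3), (58, 2), (60, 1), (61, 1), (63, 2), (64, 1), (65, 1), (66, 1), (67, 1), (68, 3), (69, 3), (70, 2), (72, 3), (73, 3), (75, 1), (76, 1), (77, 3), (79, 3), (80, 2), (81, 1), (82, 3), (83, 1), (84, 1), (85, 2), (86, 1), (87, 1), (88, 1), (89, 2), (91, 3), (92, 3), (95, 2), (96, 2), (97, 1), (98, 3), (100, 1), (102, 2), (104, 2), (105, 2), (106, 2), (107, 1), (108, 3), (109, 3), (110, 1), (111, 1), (113, 3), (114, 1), (115, 3), (116, 1), (117, 1), (118, 3), (119, 2), (120, 2), (121, 3), (125, 2), (127, 3), (128, 1), (129, 1), (130, 3), (131, 1), (133, 2), (134, 2), (136, 2), (137, 2), (138, 2), (141, 2), (143, 1), (144, 3), (146, 1), (147, 1), (149, 2), (150, 1), (151, 3), (153, 1), (155, 1), (156, 1), (157, 2), (158, 3), (159, 2), (160, 2), (161, 2), (162,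 2), (163, 2), (166, 1), (167, 2), (168, 3), (169, 2), (171, 2), (173, 2), (175, 2), (176, 2), (177, 2), (178, 2), (180, 2), (181, 2), (184, 2), (186, 2), (189, 3), (190, 1), (191, 3), (192, 2), (193, 2), (196, 3), (197, 2), (198, 3), (199, 2)], 2),
    ([(0, 2), (1, 2), (2, 2), (3, 1), (4, 3), (5, 1), (8, 2), (10, 3), (11, 2), (12, 3), (13, 1), (15, 1), (16, 2), (18, 3), (20, 3), (21, 2), (22, 3), (23, 1), (24, 2), (26, 1), (28, 3), (29, 2), (30, 3), (31, 1), (32, 3), (34, 1), (35, 3), (36, 2), (37, 3), (38, 1), (39, 3), (40, 3), (41, 2), (42, 3), (43, 1), (44, 1), (45, 1), (46, 1), (47, 1), (48, 3), (49, 3), (50, 1), (51, 2), (52, 2), (55, 1), (56, 3), (57, 3), (58, 1), (61, 3), (62, 3), (63, 1), (65, 1), (66, 1), (67, 2), (69, 3), (71, 1), (73, 3), (75, 1), (76, 3), (78, 3), (80, 1), (81, 3), (84, 2), (85, 2), (86, 3), (88, 2), (89, 2), (90, 1), (91, 3), (95, 3), (96, 1), (97, 3), (99, 3), (103, 1), (104, 2), (105, 3), (106, 2), (108, 2), (112, 1), (114, 3), (115, 3), (116, 3), (117, 3), (118, 1), (119, 2), (121, 3), (127, 1), (128, 3), (129, 1), (130, 3), (131, 1), (134, 2), (135, 2), (136, 2), (138, 2), (139,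 2), (140, 2), (142, 2), (143, 3), (145, 1), (147, 3), (148, 3), (150, 3), (151, 3), (152, 2), (153, 2), (154, 2), (155, 2), (156, 2), (158, 3), (159, 2), (168, 2), (175, 2), (176, 2), (177, 2), (178, 2), (180, 2), (181, 2), (182, 2), (184, 2), (186, 2), (188, 2), (189, 2), (190, 1), (191, 1), (193, 3), (194, 2), (195, 2), (196, 3), (197, 1), (198, 1), (199, 1)], 3),
    ([(21, 3), (22, 3), (24, 1), (33, 1), (34, 1), (35, 1), (51, 1), (52, 1), (62, 3)], 0),
    ([(13, 1), (16, 3), (17, 1), (21, 3), (24, 3), (26, 3), (36, 1), (51, 1), (54, 1), (55, 1), (61, 3)], 0),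
    ([(4, 3), (5, 1), (6, 1), (13, 3), (14, 3), (15, 1), (21, 2), (22, 3), (24, 2), (25, 3), (26, 3), (33, 2), (34, 2), (35, 2), (36, 3), (45, 1), (52, 2), (54, 1), (59, 1), (61, 1), (62, 2), (70, 3)], 0),
    ([(24, 1)], 0),
    ([(55, 1)], 0),
    ([(26, 1)], 0),
    ([(1, 2), (2, 2), (5, 1), (6, 2), (7, 3), (8, 2), (9, 1), (10, 2), (12, 2), (13, 3), (14, 3), (16, 1), (17, 2), (19, 2), (20, 2), (21, 2), (22, 3), (24, 2), (25, 2), (26, 1), (27, 1), (28, 2), (29, 2), (32, 2), (33, 3), (34, 3), (35, 2), (36, 1), (37, 2), (39, 2), (40, 3), (41, 1), (42, 2), (43, 3), (45, 3), (46, 3), (49, 1), (51, 1), (53, 3), (54, 3), (55, 2), (57, 2), (58, 1), (59, 2), (60, 3), (61, 1), (63, 3), (64, 2), (65, 3), (66, 2), (67, 1), (68, 3), (69, 2), (70, 3), (71, 2), (72, 1), (75, 2), (76, 2), (78, 1), (79, 1), (80, 1), (81, 2), (82, 2), (83, 2), (84, 2), (85, 3), (87, 1), (88, 2), (90, 2), (91, 3), (92, 2), (94, 2), (96, 3), (97, 1), (98, 1), (100, 1), (103, 1), (104, 2), (105, 2), (107, 3), (108, 2), (109, 3), (110, 1), (111, 1), (112, 2), (113, 3), (114, 3), (115, 1), (116, 3), (117, 1), (118, 2), (119, 3), (120, 1), (121, 2),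 (123, 2), (125, 2), (126, 2), (127, 1), (128, 3), (129, 3), (130, 1), (131, 3), (133, 2), (134, 2), (136, 2), (140, 2), (143, 2), (144, 2), (147, 2), (150, 2), (151, 2), (153, 2), (155, 2), (156, 2), (158, 2), (162, 2), (164, 2), (165, 2), (166, 3), (168, 1), (169, 2), (170, 2), (171, 2), (172, 2), (173, 2), (177, 2), (178, 2), (179, 2), (180, 2), (182, 2), (183, 2), (184, 2), (185, 2), (187, 2), (189, 2), (190, 2), (191, 2), (192, 2), (196, 2), (198, 2)], 0),
    ([(10, 3), (12, 2), (13, 2), (14, 3), (16, 2), (17, 3), (22, 3), (23, 1), (25, 3), (26, 2), (31, 2), (32, 2), (33, 2), (34, 3), (35, 3), (36, 2), (39, 1), (41, 3), (45, 2), (46, 1), (51, 1), (52, 3), (53, 3), (54, 3), (55, 3), (61, 2), (62, 1), (69, 3), (71, 3), (75, 2), (77, 1)], 0),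
    ([(13, 1), (14, 1), (15, 3), (24, 2), (25, 1), (26, 2), (32, 2), (34, 3), (36, 1), (44, 3), (45, 1), (46, 1), (49, 3), (54, 2), (55, 1), (59, 3), (60, 2), (64, 1), (70, 1), (72, 3), (76, 2), (78, 1)], 0),
    ([(73, 3)], 0),
    ([(10, 1), (12, 3), (13, 2), (14, 1), (15, 3), (16, 2), (17, 1), (21, 1), (22, 2), (23, 3), (24, 3), (25, 1), (26, 2), (31, 1), (32, 3), (35, 1), (36, 2), (40, 3), (41, 1), (45, 2), (46, 3), (51, 2), (53, 1), (54, 1), (55, 1), (61, 2), (69, 1), (71, 1), (75, 3), (77, 2)], 0),
    ([(13, 2), (14, 3), (15, 1), (16, 1), (17, 3), (21, 1), (22, 1), (24, 3), (25, 3), (26, 3), (32, 3), (35, 1), (36, 2), (40, 3), (41, 1), (45, 2), (46, 3), (49, 1), (51, 2), (54, 1), (55, 2), (59, 1), (60, 1), (61, 2), (70, 3), (72, 1), (76, 3), (78, 2)], 0),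
    ([(21, 3), (22, 3), (24, 1), (33, 1), (34, 1), (40, 1), (41, 3), (51, 1), (52, 1), (62, 3)], 0),
    ([(13, 1), (14, 1), (15, 3), (24, 2), (25, 1), (26, 2), (32, 2), (34, 3), (36, 1), (37, 3), (38, 1), (44, 3), (45, 1), (46, 1), (49, 3), (54, 2), (55, 1), (59, 3), (60, 2), (64, 1), (70, 1), (72, 3), (76, 2), (78, 1)], 0),
    ([(10, 3), (12, 2), (13, 3), (15, 3), (16, 2), (17, 3), (22, 3), (23, 1), (24, 2), (31, 2), (33, 2), (34, 2), (35, 3), (36, 3), (38, 3), (39, 1), (41, 3), (44, 3), (45, 3), (46, 2), (49, 3), (51, 1), (52, 3), (53, 3), (54, 1), (59, 3), (60, 2), (61, 2), (62, 1), (63, 3), (64, 1), (69, 3), (70, 1), (71, 3), (72, 3), (75, 2), (76, 2), (77, 1), (78, 1)], 0),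
    ([(80, 3)], 0),
    ([(14, 3), (15, 1), (16, 3), (17, 1), (22, 1), (24, 3), (25, 3), (26, 1), (32, 3), (33, 3), (34, 1), (35, 3), (36, 3), (42, 1), (43, 3), (44, 1), (46, 3), (49, 1), (51, 1), (52, 3), (54, 3), (59, 1), (60, 1), (61, 2), (62, 1), (64, 3), (70, 3), (72, 1), (76, 3), (78, 2)], 0),
    ([(10, 1), (12, 2), (13, 1), (15, 1), (16, 2), (17, 1), (21, 3), (23, 3), (24, 3), (31, 1), (32, 2), (33, 3), (34, 3), (35, 1), (36, 1), (39, 3), (43, 3), (44, 1), (45, 1), (46, 2), (49, 1), (52, 2), (53, 1), (54, 3), (59, 1), (60, 1), (61, 2), (62, 2), (64, 3), (65, 1), (69, 1), (70, 3), (71, 1), (72, 1), (75, 3), (76, 3), (77, 2), (78, 2)], 0),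
    ([(13, 3), (16, 1), (17, 3), (24, 2), (26, 1), (33, 1), (35, 1), (36, 3), (43, 1), (44, 3), (45, 3), (51, 3), (52, 1), (54, 3), (55, 3), (61, 2), (62, 3)], 0),
    ([(38, 1)], 0),
    ([(10, 3), (12, 2), (13, 2), (14, 3), (16, 2), (17, 3), (22, 3), (23, 1), (25, 3), (26, 2), (31, 3), (32, 1), (33, 2), (34, 3), (35, 3), (36, 2), (39, 1), (41, 3), (45, 2), (46, 1), (51, 1), (52, 3), (53, 3), (54, 3), (55, 3), (61, 2), (62, 1), (69, 3), (71, 3), (75, 1), (77, 2)], 0),
    ([(12, 3), (15, 1), (33, 1)], 0),
    ([(21, 1), (22, 1), (24, 3), (33, 3), (34, 3), (51, 3), (52, 3), (62, 1)], 0),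
    ([(41, 1)], 0),
    ([(13, 1), (14, 1), (15, 3), (24, 2), (25, 1), (26, 2), (32, 1), (34, 3), (36, 1), (44, 3), (45, 1), (46, 1), (49, 3), (54, 2), (55, 1), (59, 3), (60, 3), (64, 1), (70, 1), (72, 3), (76, 1), (78, 2)], 0),
    ([(22, 3), (24, 1), (36, 1)], 0),
    ([(13, 1), (16, 3), (17, 1), (24, 2), (26, 3), (33, 3), (35, 3), (36, 1), (45, 1), (51, 1), (52, 3), (54, 1), (55, 1), (61, 2), (62, 1)], 0),
    ([(44, 1)], 0),
    ([(10, 3), (12, 1), (13, 2), (14, 3), (15, 1), (16, 2), (17, 3), (21, 3), (22, 2), (23, 1), (24, 1), (25, 3), (26, 2), (31, 3), (32, 1), (35, 3), (36, 2), (40, 1), (41, 3), (45, 2), (46, 1), (51, 2), (53, 3), (54, 3), (55, 3), (61, 2), (69, 3), (71, 3), (75, 1), (77, 3)], 0),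
    ([(13, 2), (14, 1), (15, 3), (16, 3), (17, 1), (21, 3), (22, 3), (24, 1), (25, 1), (26, 1), (32, 1), (35, 3), (36, 2), (40, 1), (41, 3), (45, 2), (46, 1), (49, 3), (51, 2), (54, 3), (55, 2), (59, 3), (60, 3), (61, 2), (70, 1), (72, 3), (76, 1), (78, 3)], 0),
    ([(4, 3), (5, 1), (6, 1), (21, 3), (22, 3), (24, 2), (33, 1), (34, 1), (35, 1), (45, 3), (46, 1), (52, 1), (62, 3)], 0),
    ([(4, 1), (5, 3), (6, 3), (13, 1), (16, 3), (17, 1), (21, 2), (22, 1), (26, 3), (33, 2), (34, 2), (35, 2), (36, 1), (45, 3), (52, 2), (54, 1), (61, 3), (62, 2)], 0),
    ([(45, 3)], 0),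
    ([(13, 1), (16, 3), (17, 1), (21, 1), (24, 2), (26, 3), (33, 3), (34, 3), (35, 3), (36, 1), (45, 1), (52, 3), (54, 1), (61, 3), (62, 1)], 0)]
  tau := [0, 0, 0, 0, 0, 0, 0, 0, 0, 0, 0, 0, 0, 0, 0, 0, 0, 0, 0, 0, 0, 0, 0, 0, 0, 0, 0, 0, 0, 0, 0, 0, 0, 0, 0, 0, 0, 0, 0, 0, 0, 0, 0, 0, 0, 0, 0, 0, 0, 0, 0, 0, 0, 0, 0, 0, 0, 0, 0, 0, 0, 0, 0, 0, 0, 0, 0, 0, 0, 0, 0, 0, 0, 0, 0, 0, 0, 0, 0, 0, 0, 0, 0, 0, 0, 0, 3, 0, 0, 0, 0, 0, 0, 0, 0, 0, 0, 0, 0, 0, 0, 0, 0, 0, 0, 0, 0, 0, 0, 0, 0, 0, 0, 0, 0, 0, 0, 0, 0, 0, 0, 0, 0, 0, 0, 0, 0, 0, 0, 0, 0, 0, 0, 0, 0, 0, 0, 0, 0, 0, 0, 0, 0, 0, 0, 0, 0, 0, 3, 3, 3, 0, 0, 0, 0, 0, 3, 3, 0, 0, 0, 0, 0, 0, 0, 0, 0, 0, 0, 0, 0, 0, 0, 0, 0, 0, 0, 0, 0, 0, 0, 0, 0, 0, 0, 0, 0, 0, 0, 0, 0, 0, 1, 2, 0, 3, 0, 1, 0, 0, 0, 3, 1, 2, 3]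
  tauCombo := [(0, 3), (1, 1), (2, 3), (4, 1), (5, 2), (6, 1), (9, 1), (11, 2), (13, 2), (14, 2), (20, 2), (22, 3), (23, 2), (26, 3), (27, 3), (28, 2), (29, 2), (32, 3), (34, 1), (35, 2), (36, 2), (37, 2), (38, 2), (39, 2), (43, 2), (44, 3), (46, 3), (47, 2), (49, 1), (51, 2), (53, 2), (54, 3), (55, 3), (59, 2), (60, 1), (61, 3), (62, 2), (64, 1), (65, 2), (72, 1), (73, 2), (74, 2), (76, 3), (78, 2), (80, 2), (81, 3), (82, 2), (83, 2), (85, 2), (87, 3), (88, 3), (90, 1), (92, 3), (93, 1), (97, 2), (98, 2), (99, 2), (100, 2), (101, 1), (102, 2), (107, 2), (108, 2), (110, 2), (112, 2), (113, 2), (118, 2), (123, 2), (128, 2), (133, 2), (134, 2), (136, 2), (137, 2), (139, 2), (143, 2), (144, 2), (146, 1), (147, 2), (148, 2), (150, 2), (152, 2), (154, 2), (155, 2), (161, 2), (163, 2), (164, 2), (165, 2), (166, 2), (167, 2), (168, 2), (169, 2), (170, 2), (172, 2), (175, 2), (176, 2), (177, 2), (178, 2), (180, 2), (181, 2), (184, 2), (186, 2), (189, 2), (193, 2), (197, 2), (199, 2)]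

/-- The certificate. -/
def twoUSixPair : Schur.Tails.PairCert where
  base := twoUSixCert
  tauTwo := [0, 0, 0, 0, 0, 0, 0, 0, 0, 0, 0, 0, 0, 0, 0, 0, 0, 0, 0, 0, 0, 0, 0, 0, 0, 0, 0, 0, 0, 0, 0, 0, 0, 0, 0, 0, 0, 0, 0, 0, 0, 0, 0, 0, 0, 0, 0, 0, 0, 0, 0, 0, 0, 0, 0, 0, 0, 0, 0, 0, 0, 0, 0, 0, 0, 0, 0, 0, 0, 0, 0, 0, 0, 0, 0, 0, 0, 0, 0, 0, 0, 0, 0, 0, 0, 0, 0, 0, 0, 0, 0, 0, 0, 0, 0, 0, 0, 0, 0, 0, 0, 0, 0, 0, 0, 0, 0, 0, 0, 0, 0, 0, 0, 0, 0, 0, 0, 0, 0, 0, 0, 0, 0, 0, 0, 0, 0, 0, 0, 0, 0, 0, 0, 0, 0, 0, 0, 0, 0, 0, 0, 0, 0, 0, 0, 0, 0, 0, 3, 1, 0, 0, 3, 0, 0, 0, 0, 1, 0, 0, 0, 0, 0, 0, 0, 0, 0, 0, 0, 0, 0, 0, 0, 0, 0, 0, 0, 0, 0, 0, 0, 0, 0, 0, 0, 0, 0, 0, 0, 0, 0, 0, 3, 3, 0, 2, 0, 0, 2, 0, 3, 2, 0, 1, 3]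
  comboTwo := [(0, 1), (1, 3), (3, 3), (4, 1), (5, 3), (6, 3), (8, 2), (9, 1), (12, 2), (13, 2), (14, 2), (15, 2), (17, 2), (19, 2), (20, 2), (21, 2), (22, 1), (24, 2), (25, 2), (26, 3), (27, 3), (28, 1), (30, 2), (31, 2), (32, 1), (34, 1), (38, 1), (42, 2), (43, 2), (44, 1), (46, 3), (47, 2), (48, 2), (49, 3), (52, 2), (53, 2), (54, 3), (55, 1), (57, 2), (60, 1), (61, 1), (62, 2), (64, 3), (65, 2), (66, 2), (68, 2), (71, 2), (72, 3), (73, 2), (74, 2), (75, 2), (76, 3), (80, 2), (81, 3), (82, 2), (83, 2), (88, 2), (90, 1), (92, 3), (93, 2), (99, 2), (101, 2), (102, 2), (103, 2), (105, 2), (107, 2), (108, 2), (111, 2), (112, 2), (119, 2), (120, 2), (121, 2), (126, 2), (127, 2), (128, 2), (129, 2), (130, 2), (131, 2), (133, 2), (134, 2), (136, 2), (138, 2), (139, 2), (140, 2), (142, 2), (143, 2), (144, 2), (146, 3), (147, 2), (149, 2), (150, 2), (151, 2), (152, 2), (153, 2), (154, 2), (156, 2), (169, 2), (177, 2), (178, 2), (179, 2), (180, 2), (182, 2), (183, 2), (184, 2), (185, 2), (187, 2), (189, 2), (190, 2), (191, 2), (192, 2), (196, 2), (198, 2)]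
  multTwo := [0, 0, 0, 2, 0, 2, 0, 0, 0, 0, 0, 0, 0, 0, 0, 0, 0, 0, 0, 2, 0, 0, 0, 0, 0, 0, 0, 0, 0, 0, 3, 0, 0, 2, 2, 3, 0, 0, 0, 0, 0, 0, 0, 0, 2, 2, 0, 0, 2, 3, 0, 0, 0, 0, 0, 2, 0, 2, 0, 3, 1, 0, 0, 0, 0, 2, 3, 2, 2, 0, 0, 2, 0, 0, 0, 0, 2, 1, 0, 0, 0, 0, 0, 0, 1, 3, 0, 0, 0, 0, 0, 0, 2, 0, 0, 0, 0, 0, 0, 0, 0, 0, 0, 0, 0, 0, 0, 0, 0, 0, 0, 0, 0, 0, 0, 0, 0, 0, 0, 0]

/-- The generators. -/
def twoUSixGens : List ℕ := [1366212129383409273041, 1218638031506280302787, 14164436589356343937, 9547666429099729281, 34629255297, 886047480230956912777, 590890286098208411781, 34836407169, 14164436589423379329, 47523975309, 886047480235251744909, 34395407361, 54511290579, 1366212129385556754579, 1344290976]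

/-- Involutions whose products are the conjugating elements. -/
def twoUSixHs : List (List ℕ) := [[17718853698], [34498158849], [74309428479819905], [1217485113417497853954, 17718853698], [590872552869722062980, 8866762884], [9512182989639909633, 34498158849]]

/-- The chain of the generators. -/
def twoUSixLevels : List Golay.Bsgs.Lvl := [
  ⟨18, [1366212129383409273041, 1218638031506280302787], [34630287489, 1366212129383409273041, 1218638031506280302787, 147574097917161521299], [(0, 0), (1, 0), (1, 1)], [[[1, 0, 0, 0, 0], [0, 0, 0, 0, 0], [3, 0, 0, 0, 0], [2, 0, 0, 0, 0]], [[2, 0, 0, 0, 0], [3, 0, 0, 0, 0], [0, 0, 0, 0, 0], [1, 0, 0, 0, 0]], [[0, 1, 0, 0, 0], [1, 6, 0, 0, 0], [2, 7, 0, 0, 0], [3, 13, 0, 0, 0]], [[0, 2, 0, 0, 0], [1, 9, 0, 0, 0], [2, 14, 0, 0, 0], [3, 8, 0, 0, 0]], [[0, 3, 0, 0, 0], [1, 3, 0, 0, 0], [2, 3, 0, 0, 0], [3, 3, 0, 0, 0]], [[0, 4, 0, 0, 0], [1, 4, 0, 0, 0], [2, 4, 0, 0, 0], [3, 4, 0, 0, 0]], [[0, 0, 1, 0, 0], [1, 0, 1, 0, 0], [2, 0, 1, 0, 0], [3, 0, 1, 0, 0]], [[0, 0, 2, 0, 0], [1, 0, 11, 0, 0], [2, 0, 12, 0, 0], [3, 0, 24, 0, 0]], [[0, 0, 3, 0, 0], [1, 0, 14, 0, 0], [2, 0, 25, 0,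 0], [3, 0, 13, 0, 0]], [[0, 0, 4, 0, 0], [1, 0, 4, 0, 0], [2, 0, 4, 0, 0], [3, 0, 4, 0, 0]], [[0, 0, 5, 0, 0], [1, 0, 5, 0, 0], [2, 0, 5, 0, 0], [3, 0, 5, 0, 0]], [[0, 0, 0, 1, 0], [1, 0, 0, 4, 1], [2, 0, 0, 5, 1], [3, 0, 0, 7, 1]], [[0, 0, 0, 2, 0], [1, 0, 0, 2, 0], [2, 0, 0, 2, 1], [3, 0, 0, 2, 1]], [[0, 0, 0, 3, 0], [1, 0, 0, 3, 1], [2, 0, 0, 3, 0], [3, 0, 0, 3, 1]], [[0, 0, 0, 0, 1], [1, 0, 0, 0, 1], [2, 0, 0, 0, 1], [3, 0, 0, 0, 1]]]⟩,
  ⟨12, [14164436589356343937, 9547666429099729281, 886047480230956912777, 590890286098208411781], [34630287489, 14164436589356343937, 9547666429099729281, 886047480230956912777, 590890286098208411781, 4616770195030557569, 900211916785682969225, 605054722652934468229, 895595146625426354569, 600437952492677853573, 295157194175986024589, 890664250391357182857, 595507056258608681861, 309321630730712081037, 304704860570455466381, 299773964336386294669], [(0, 0), (1, 0), (2, 0), (3, 0), (1, 1), (2, 1), (3, 1), (2, 2), (3, 2), (3, 3), (2, 5), (3, 5), (3, 6), (3, 8), (3, 11)], [[[1, 0, 0, 0], [0, 0, 0, 0], [5, 0, 0, 0], [6, 0, 0, 0], [7, 0, 0, 0], [2, 0, 0, 0], [3, 0, 0, 0], [4, 0, 0,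 0], [11, 0, 0, 0], [12, 0, 0, 0], [13, 0, 0, 0], [8, 0, 0, 0], [9, 0, 0, 0], [10, 0, 0, 0], [15, 0, 0, 0], [14, 0, 0, 0]], [[2, 0, 0, 0], [5, 0, 0, 0], [0, 0, 0, 0], [8, 0, 0, 0], [9, 0, 0, 0], [1, 0, 0, 0], [11, 0, 0, 0], [12, 0, 0, 0], [3, 0, 0, 0], [4, 0, 0, 0], [14, 0, 0, 0], [6, 0, 0, 0], [7, 0, 0, 0], [15, 0, 0, 0], [10, 0, 0, 0], [13, 0, 0, 0]], [[3, 0, 0, 0], [6, 0, 0, 0], [8, 0, 0, 0], [0, 0, 0, 0], [10, 0, 0, 0], [11, 0, 0, 0], [1, 0, 0, 0], [13, 0, 0, 0], [2, 0, 0, 0], [14, 0, 0, 0], [4, 0, 0, 0], [5, 0, 0, 0], [15, 0, 0, 0], [7, 0, 0, 0], [9, 0, 0, 0], [12, 0, 0, 0]], [[4, 0, 0, 0], [7, 0, 0, 0], [9, 0, 0, 0], [10, 0, 0, 0], [0, 0, 0, 0], [12, 0, 0, 0], [13, 0, 0, 0], [1, 0, 0, 0], [14, 0, 0, 0], [2, 0, 0, 0], [3, 0, 0, 0], [15, 0, 0, 0], [5, 0, 0, 0], [6, 0, 0, 0], [8, 0, 0, 0], [11, 0, 0, 0]], [[0, 1, 0, 0], [1, 6, 1, 0], [2, 7, 1, 0], [3, 8, 0, 1], [4, 9, 0, 1], [5, 16, 1, 0], [6, 17, 4, 1], [7, 18, 5, 1], [8, 19, 7, 1], [9, 20, 4, 1], [10, 21, 0, 1], [11, 26, 5, 1], [12, 27, 7, 1], [13, 28, 7, 1], [14, 29, 5, 1], [15, 31, 4, 1]], [[0, 2, 0, 0], [1, 2, 0, 0], [2, 2, 1, 0], [3, 2, 2, 0], [4, 2, 3,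 0], [5, 2, 1, 0], [6, 2, 2, 0], [7, 2, 3, 0], [8, 2, 4, 0], [9, 2, 5, 0], [10, 2, 6, 0], [11, 2, 4, 0], [12, 2, 5, 0], [13, 2, 6, 0], [14, 2, 7, 0], [15, 2, 7, 0]], [[0, 3, 0, 0], [1, 3, 1, 0], [2, 3, 0, 0], [3, 3, 6, 0], [4, 3, 2, 0], [5, 3, 1, 0], [6, 3, 7, 0], [7, 3, 4, 0], [8, 3, 6, 0], [9, 3, 2, 0], [10, 3, 3, 0], [11, 3, 7, 0], [12, 3, 4, 0], [13, 3, 5, 0], [14, 3, 3, 0], [15, 3, 5, 0]], [[0, 4, 0, 0], [1, 4, 2, 0], [2, 4, 6, 0], [3, 4, 0, 0], [4, 4, 0, 1], [5, 4, 3, 0], [6, 4, 2, 0], [7, 4, 2, 1], [8, 4, 6, 0], [9, 4, 6, 1], [10, 4, 0, 1], [11, 4, 3, 0], [12, 4, 3, 1], [13, 4, 2, 1], [14, 4, 6, 1], [15, 4, 3, 1]], [[0, 5, 0, 0], [1, 5, 3, 0], [2, 5, 2, 0], [3, 5, 0, 1], [4, 5, 0, 0], [5, 5, 6, 0], [6, 5, 3, 1], [7, 5, 3, 0], [8, 5, 2, 1], [9, 5, 2, 0], [10, 5, 0, 1], [11, 5, 6, 1], [12, 5, 6, 0], [13, 5, 3, 1], [14, 5, 2, 1], [15, 5, 6, 1]], [[0, 0, 1, 0], [1, 0, 1, 0], [2, 0, 1, 0], [3, 0, 1, 0], [4, 0, 1, 0], [5, 0, 1, 0], [6, 0, 1, 0], [7, 0, 1, 0], [8, 0, 1, 0], [9, 0, 1, 0], [10, 0, 1, 0], [11, 0, 1, 0], [12, 0, 1, 0], [13, 0, 1, 0], [14, 0, 1, 0], [15, 0, 1, 0]], [[0, 0, 2, 0], [1, 0, 2, 0], [2, 0,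 2, 0], [3, 0, 2, 0], [4, 0, 2, 0], [5, 0, 2, 0], [6, 0, 2, 0], [7, 0, 2, 0], [8, 0, 2, 0], [9, 0, 2, 0], [10, 0, 2, 0], [11, 0, 2, 0], [12, 0, 2, 0], [13, 0, 2, 0], [14, 0, 2, 0], [15, 0, 2, 0]], [[0, 0, 3, 0], [1, 0, 3, 0], [2, 0, 3, 0], [3, 0, 3, 0], [4, 0, 3, 0], [5, 0, 3, 0], [6, 0, 3, 0], [7, 0, 3, 0], [8, 0, 3, 0], [9, 0, 3, 0], [10, 0, 3, 0], [11, 0, 3, 0], [12, 0, 3, 0], [13, 0, 3, 0], [14, 0, 3, 0], [15, 0, 3, 0]], [[0, 0, 0, 1], [1, 0, 0, 1], [2, 0, 0, 1], [3, 0, 0, 1], [4, 0, 0, 1], [5, 0, 0, 1], [6, 0, 0, 1], [7, 0, 0, 1], [8, 0, 0, 1], [9, 0, 0, 1], [10, 0, 0, 1], [11, 0, 0, 1], [12, 0, 0, 1], [13, 0, 0, 1], [14, 0, 0, 1], [15, 0, 0, 1]]]⟩,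
  ⟨824633720840, [34629255297, 34836407169, 14164436589423379329, 47523975309, 886047480235251744909], [34630287489, 34629255297, 34836407169, 14164436589423379329, 47523975309, 886047480235251744909, 34835374977, 14164436589422347137, 47522943117, 886047480235250712717, 14164436589226844289, 47730094989, 886047480235457864589, 14164436602317067149, 900211916790044836749, 886047480222375628929, 14164436589225812097, 47729062797, 886047480235456832397, 14164436602316034957, 900211916790043804557, 886047480222374596737, 14164436602120532109, 900211916789848301709, 886047480222581748609, 900211916777168720769, 14164436602119499917, 900211916789847269517, 886047480222580716417, 900211916777167688577, 900211916776972185729, 900211916776971153537], [(0, 0), (1, 0), (2, 0), (3, 0), (4, 0), (1, 1), (2, 1), (3, 1), (4, 1), (2, 2), (3, 2), (4, 2), (3, 3), (4, 3), (4, 4), (2, 6), (3, 6), (4, 6), (3, 7), (4, 7), (4, 8), (3, 10), (4, 10), (4, 11), (4, 13), (3, 16), (4, 16), (4, 17), (4, 19), (4, 22), (4, 26)], [[[1, 0, 0], [0, 0, 0], [6, 0, 0], [7, 0, 0], [8, 0, 0], [9, 0, 0], [2, 0, 0], [3, 0, 0], [4, 0, 0], [5, 0, 0], [16,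 0, 0], [17, 0, 0], [18, 0, 0], [19, 0, 0], [20, 0, 0], [21, 0, 0], [10, 0, 0], [11, 0, 0], [12, 0, 0], [13, 0, 0], [14, 0, 0], [15, 0, 0], [26, 0, 0], [27, 0, 0], [28, 0, 0], [29, 0, 0], [22, 0, 0], [23, 0, 0], [24, 0, 0], [25, 0, 0], [31, 0, 0], [30, 0, 0]], [[2, 0, 0], [6, 0, 0], [0, 0, 0], [10, 0, 0], [11, 0, 0], [12, 0, 0], [1, 0, 0], [16, 0, 0], [17, 0, 0], [18, 0, 0], [3, 0, 0], [4, 0, 0], [5, 0, 0], [22, 0, 0], [23, 0, 0], [24, 0, 0], [7, 0, 0], [8, 0, 0], [9, 0, 0], [26, 0, 0], [27, 0, 0], [28, 0, 0], [13, 0, 0], [14, 0, 0], [15, 0, 0], [30, 0, 0], [19, 0, 0], [20, 0, 0], [21, 0, 0], [31, 0, 0], [25, 0, 0], [29, 0, 0]], [[3, 0, 0], [7, 0, 0], [10, 0, 0], [0, 0, 0], [13, 0, 0], [14, 0, 0], [16, 0, 0], [1, 0, 0], [19, 0, 0], [20, 0, 0], [2, 0, 0], [22, 0, 0], [23, 0, 0], [4, 0, 0], [5, 0, 0], [25, 0, 0], [6, 0, 0], [26, 0, 0], [27, 0, 0], [8, 0, 0], [9, 0, 0], [29, 0, 0], [11, 0, 0], [12, 0, 0], [30, 0, 0], [15, 0, 0], [17, 0, 0], [18, 0, 0], [31, 0, 0], [21, 0, 0], [24, 0, 0], [28, 0, 0]], [[4, 0, 0], [8, 0, 0], [11, 0, 0], [13, 0, 0], [0, 0, 0], [15, 0, 0], [17, 0, 0], [19, 0, 0], [1, 0, 0], [21, 0, 0],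 [22, 0, 0], [2, 0, 0], [24, 0, 0], [3, 0, 0], [25, 0, 0], [5, 0, 0], [26, 0, 0], [6, 0, 0], [28, 0, 0], [7, 0, 0], [29, 0, 0], [9, 0, 0], [10, 0, 0], [30, 0, 0], [12, 0, 0], [14, 0, 0], [16, 0, 0], [31, 0, 0], [18, 0, 0], [20, 0, 0], [23, 0, 0], [27, 0, 0]], [[5, 0, 0], [9, 0, 0], [12, 0, 0], [14, 0, 0], [15, 0, 0], [0, 0, 0], [18, 0, 0], [20, 0, 0], [21, 0, 0], [1, 0, 0], [23, 0, 0], [24, 0, 0], [2, 0, 0], [25, 0, 0], [3, 0, 0], [4, 0, 0], [27, 0, 0], [28, 0, 0], [6, 0, 0], [29, 0, 0], [7, 0, 0], [8, 0, 0], [30, 0, 0], [10, 0, 0], [11, 0, 0], [13, 0, 0], [31, 0, 0], [16, 0, 0], [17, 0, 0], [19, 0, 0], [22, 0, 0], [26, 0, 0]], [[0, 1, 0], [1, 1, 0], [2, 1, 0], [3, 1, 0], [4, 1, 0], [5, 1, 0], [6, 1, 0], [7, 1, 0], [8, 1, 0], [9, 1, 0], [10, 1, 0], [11, 1, 0], [12, 1, 0], [13, 1, 0], [14, 1, 0], [15, 1, 0], [16, 1, 0], [17, 1, 0], [18, 1, 0], [19, 1, 0], [20, 1, 0], [21, 1, 0], [22, 1, 0], [23, 1, 0], [24, 1, 0], [25, 1, 0], [26, 1, 0], [27, 1, 0], [28, 1, 0], [29, 1, 0], [30, 1, 0], [31, 1, 0]], [[0, 2, 0], [1, 2, 0], [2, 2, 0], [3, 2, 0], [4, 2, 0], [5, 2, 0], [6, 2, 0], [7, 2, 0], [8, 2, 0], [9, 2, 0], [10, 2,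 0], [11, 2, 0], [12, 2, 0], [13, 2, 0], [14, 2, 0], [15, 2, 0], [16, 2, 0], [17, 2, 0], [18, 2, 0], [19, 2, 0], [20, 2, 0], [21, 2, 0], [22, 2, 0], [23, 2, 0], [24, 2, 0], [25, 2, 0], [26, 2, 0], [27, 2, 0], [28, 2, 0], [29, 2, 0], [30, 2, 0], [31, 2, 0]], [[0, 3, 0], [1, 3, 0], [2, 3, 0], [3, 3, 0], [4, 3, 0], [5, 3, 0], [6, 3, 0], [7, 3, 0], [8, 3, 0], [9, 3, 0], [10, 3, 0], [11, 3, 0], [12, 3, 0], [13, 3, 0], [14, 3, 0], [15, 3, 0], [16, 3, 0], [17, 3, 0], [18, 3, 0], [19, 3, 0], [20, 3, 0], [21, 3, 0], [22, 3, 0], [23, 3, 0], [24, 3, 0], [25, 3, 0], [26, 3, 0], [27, 3, 0], [28, 3, 0], [29, 3, 0], [30, 3, 0], [31, 3, 0]], [[0, 0, 1], [1, 0, 1], [2, 0, 1], [3, 0, 1], [4, 0, 1], [5, 0, 1], [6, 0, 1], [7, 0, 1], [8, 0, 1], [9, 0, 1], [10, 0, 1], [11, 0, 1], [12, 0, 1], [13, 0, 1], [14, 0, 1], [15, 0, 1], [16, 0, 1], [17, 0, 1], [18, 0, 1], [19, 0, 1], [20, 0, 1], [21, 0, 1], [22, 0, 1], [23, 0, 1], [24, 0, 1], [25, 0, 1], [26, 0, 1], [27, 0, 1], [28, 0, 1], [29, 0, 1], [30, 0, 1], [31, 0, 1]]]⟩,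
  ⟨1236950581264, [34395407361, 54511290579, 1366212129385556754579], [34630287489, 34395407361, 54511290579, 1366212129385556754579, 54276410451, 1366212129385321874451, 1366212129366783051969, 1366212129366548171841], [(0, 0), (1, 0), (2, 0), (1, 1), (2, 1), (2, 2), (2, 4)], [[[1, 0], [0, 0], [4, 0], [5, 0], [2, 0], [3, 0], [7, 0], [6, 0]], [[2, 0], [4, 0], [0, 0], [6, 0], [1, 0], [7, 0], [3, 0], [5, 0]], [[3, 0], [5, 0], [6, 0], [0, 0], [7, 0], [1, 0], [2, 0], [4, 0]], [[0, 1], [1, 1], [2, 1], [3, 1], [4, 1], [5, 1], [6, 1], [7, 1]]]⟩,
  ⟨2267742732320, [1344290976], [34630287489, 1344290976], [(0, 0)], [[[1], [0]]]⟩]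

end CfsgLib.TailsData
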