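import Cfsg.Agent.Lib.Tails.USixData
import Cfsg.Agent.Lib.Tails.USixEqsData

/-!
# Evaluation of equations of the certificate for the special unitary group of degree six over four elements
-/

set_option autoImplicit false
set_option maxRecDepth 100000
set_option Elab.async false

namespace CfsgLib.Schur.Tails.USix

open CfsgLib.TailsData

theorem eqs_fus2 : (twoUSixFus2.rels.map (fusEq 4 twoUSixRels twoUSixFus2 146) ==
    twoUSixEqsFus2.map some) = true := by decide +kernel

end CfsgLib.Schur.Tails.USix
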