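import Cfsg.Agent.Lib.Tails.USixData
import Cfsg.Agent.Lib.Tails.USixEqsData

/-!
# Evaluation of equations of the certificate for the special unitary group of degree six over four elements
-/

set_option autoImplicit false
set_option maxRecDepth 100000
set_option Elab.async false

namespace CfsgLib.Schur.Tails.USix

open CfsgLib.TailsData

theorem eqs_fus3a : ((twoUSixFus3.rels.take 7).map (fusEq 4 twoUSixRels twoUSixFus3 160) ==
    (twoUSixEqsFus3.take 7).map some) = true := by decide +kernel

theorem eqs_fus3b : ((twoUSixFus3.rels.drop 7).map (fusEq 4 twoUSixRels twoUSixFus3 160) ==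
    (twoUSixEqsFus3.drop 7).map some) = true := by decide +kernel

theorem eqs_fus3 : (twoUSixFus3.rels.map (fusEq 4 twoUSixRels twoUSixFus3 160) ==
    twoUSixEqsFus3.map some) = true := by
  rw [beq_iff_eq, ← List.take_append_drop 7 twoUSixFus3.rels, ← List.take_append_drop 7 twoUSixEqsFus3,
    List.map_append, List.map_append, eq_of_beq eqs_fus3a, eq_of_beq eqs_fus3b]

end CfsgLib.Schur.Tails.USix
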