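import Cfsg.Agent.Lib.Tails.SixFour
import Cfsg.Agent.Lib.Tails.Coded
import Cfsg.Agent.Lib.Tails.USixData
import Cfsg.Agent.Lib.Tails.USixEqsA
import Cfsg.Agent.Lib.Tails.USixEqsB
import Cfsg.Agent.Lib.Tails.USixEqsC
import Cfsg.Agent.Lib.Tails.USixEqsD

/-!
# Checks of the certificate for the special unitary group of degree six over four elements
-/

set_option autoImplicit false
set_option maxRecDepth 100000

namespace CfsgLib.Schur.Tails.USix

open CfsgLib.J3 CfsgLib.Golay CfsgLib.TailsData SixFour

/-- Multiply the listed codes. -/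
noncomputable def prodC : List ℕ → ℕ
  | [] => oneC
  | a :: l => mulC a (prodC l)

/-- The value of a word in the generators. -/
noncomputable def evC : List ℕ → ℕ
  | [] => oneC
  | i :: w => mulC (twoUSixGens.getD i oneC) (evC w)

/-- The product of one representative per level. -/
noncomputable def prodS : List Bsgs.Lvl → List ℕ → ℕ
  | l :: ls, i :: is => mulC (l.reps.getD i oneC) (prodS ls is)
  | _, _ => oneC

/-- The relations, the involutions and the conjugations. -/
noncomputable def dataB : Bool :=
  (twoUSixGens.all fun g => okS g && (mulC g g == oneC)) &&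
    (twoUSixHs.all fun h => h.all fun g => okS g && (mulC g g == oneC)) &&
    decide (twoUSixGens.length = twoUSixCert.n) &&
    decide (twoUSixHs.length = twoUSixCert.fus.length) &&
    (twoUSixCert.rels.all fun r => evC r.1 == evC r.2) &&
    ((List.range twoUSixCert.fus.length).all fun i =>
      let f := twoUSixCert.fus.getD i ⟨[], [], []⟩
      let h := prodC (twoUSixHs.getD i [])
      (List.range f.xs.length).all fun k =>
        mulC h (evC (f.xs.getD k [])) == mulC (evC (f.ys.getD k [])) h) &&
    ((Bsgs.allGens twoUSixLevels).all fun g => twoUSixGens.contains g)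

/-- The check of a certificate with the equations given. -/
def restB (d : PairCert) (vs : List (List ℕ)) : Bool :=
  let c := d.base
  (c.q == c.p || c.q == c.p * c.p) && c.shapeB &&
    sameB c.q (smulV c.q c.p c.tau) (combV c.q vs c.tauCombo) &&
    sameB c.q (smulV c.q c.p d.tauTwo) (combV c.q vs d.comboTwo) &&
    (c.combos.length == c.rels.length) &&
    (List.range c.rels.length).all fun r =>
      let e := c.combos.getD r ([], 0)
      sameB c.q (subV c.q (addV c.q (unitV r) (c.muV (c.rels.getD r ([], [])).1))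
        (c.muV (c.rels.getD r ([], [])).2))
        (addV c.q (combV c.q vs e.1)
          (addV c.q (smulV c.q e.2 c.tau) (smulV c.q (d.multTwo.getD r 0) d.tauTwo)))

theorem fus_sizes : twoUSixFus0.xs.length = 13 ∧ twoUSixFus1.xs.length = 13 ∧ twoUSixFus2.xs.length = 14 ∧
    twoUSixFus3.xs.length = 15 ∧ twoUSixFus4.xs.length = 15 ∧ twoUSixRels.length = 120 := by decide +kernel

theorem two_eqs : (twoUSixPair.base.eqs == twoUSixEqs.map some) = true := by
  obtain ⟨l0, l1, l2, l3, l4, lr⟩ := fus_sizes
  rw [beq_iff_eq]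
  show twoUSixOverlaps0.map (ovlEq 4 twoUSixRels) ++ fusEqs 4 twoUSixRels twoUSixRels.length
    [twoUSixFus0, twoUSixFus1, twoUSixFus2, twoUSixFus3, twoUSixFus4, twoUSixFus5] = _
  simp only [twoUSixEqs, List.map_append, fusEqs, lr, l0, l1, l2, l3, l4, Nat.reduceAdd, List.append_nil,
    List.append_assoc]
  rw [eq_of_beq eqs_overlaps, eq_of_beq eqs_fus0, eq_of_beq eqs_fus1, eq_of_beq eqs_fus2,
    eq_of_beq eqs_fus3, eq_of_beq eqs_fus4, eq_of_beq eqs_fus5]

theorem two_rest : restB twoUSixPair twoUSixEqs = true := by decide +kernel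

theorem checkB_of_eqs {d : PairCert} {vs : List (List ℕ)} (he : d.base.eqs = vs.map some)
    (hr : restB d vs = true) : d.checkB = true := by
  have hvs : (vs.map some).map (fun e => e.getD []) = vs := by
    rw [List.map_map]
    exact List.map_id vs
  simp only [restB, Bool.and_eq_true] at hr
  obtain ⟨⟨⟨⟨⟨h1, h2⟩, h3⟩, h4⟩, h5⟩, h6⟩ := hr
  simp only [PairCert.checkB, he, hvs, Bool.and_eq_true]
  refine ⟨⟨⟨⟨⟨⟨h1, ?_⟩, h2⟩, h3⟩, h4⟩, h5⟩, h6⟩
  simp

theorem two_cert : twoUSixPair.checkB = true := checkB_of_eqs (beq_iff_eq.1 two_eqs) two_rest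

theorem two_data : dataB = true := by decide +kernel

/-- The check of a chain with the operations written out. -/
noncomputable def chkS : List ℕ → List Bsgs.Lvl → Bool
  | _, [] => true
  | fixed, l :: ls =>
    let gs := l.gens ++ Bsgs.allGens ls
    SixFour.ptOk l.base &&
    decide (l.reps.head? = some oneC) &&
    l.reps.all okS &&
    decide (l.reps.map (fun r => mulC r l.base)).Nodup &&
    l.gens.all (fun s => okS s && fixed.all fun f => mulC s f == f) &&
    decide (l.parent.length + 1 = l.reps.length) &&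
    (List.range l.parent.length).all (fun k =>
      let c := l.parent.getD k (0, 0)
      decide (c.1 < gs.length ∧ c.2 ≤ k) &&
        (l.reps.getD (k + 1) oneC == mulC (gs.getD c.1 oneC) (l.reps.getD c.2 oneC))) &&
    (List.range gs.length).all (fun g => (List.range l.reps.length).all fun i =>
      mulC (gs.getD g oneC) (l.reps.getD i oneC) ==
        prodS (l :: ls) ((l.sift.getD g []).getD i [])) &&
    chkS (fixed ++ [l.base]) ls

theorem prodS_eq {G α : Type*} [Group G] [MulAction G α] (O : Bsgs.Ops G α) (e1 : O.one = oneC)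
    (e2 : O.mul = mulC) : ∀ ls is, Bsgs.prodReps O ls is = prodS ls is
  | [], is => by simp [Bsgs.prodReps, prodS, e1]
  | l :: ls, [] => by simp [Bsgs.prodReps, prodS, e1]
  | l :: ls, i :: is => by simp [Bsgs.prodReps, prodS, e1, e2, prodS_eq O e1 e2 ls is]

theorem check_eq {G α : Type*} [Group G] [MulAction G α] (O : Bsgs.Ops G α) :
    ∀ ls fixed, O.one = oneC → O.mul = mulC → O.ok = okS → O.ptOk = SixFour.ptOk → O.img = mulC →
      Bsgs.check O fixed ls = chkS fixed ls
  | [], fixed, _, _, _, _, _ => rfl
  | l :: ls, fixed, e1, e2, e3, e4, e5 => by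
    simp only [Bsgs.check, chkS, check_eq O ls _ e1 e2 e3 e4 e5, prodS_eq O e1 e2, e1, e2, e3, e4, e5]

theorem chain_data : chkS [] twoUSixLevels = true := by decide +kernel

theorem two_chain {F : Type*} [Field F] (K : Fld F) :
    Bsgs.check (SixFour.ops K) [] twoUSixLevels = true := by
  have h : ∀ (O : Bsgs.Ops (Cfsg.GU 6 F 2) (Fin 6 → F)), O.one = oneC → O.mul = mulC → O.ok = okS →
      O.ptOk = SixFour.ptOk → O.img = mulC →
      Bsgs.check O [] twoUSixLevels = true := by
    intro O e1 e2 e3 e4 e5
    rw [check_eq O twoUSixLevels [] e1 e2 e3 e4 e5]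
    exact chain_data
  exact h (SixFour.ops K) rfl rfl rfl rfl rfl

theorem two_sizes : (twoUSixCert.p = 2 ∧ twoUSixCert.q = 4 ∧ twoUSixCert.n = 15) ∧
    (twoUSixLevels.map fun l => l.reps.length).prod = 2 ^ 15 := by
  decide +kernel

end CfsgLib.Schur.Tails.USix
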