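import Mathlib.Init

/-!
Generated data: two commuting elements whose lifts to the double cover behave differently after a diagonal automorphism.
-/

set_option autoImplicit false

namespace CfsgLib.TailsData

/-- The codes of the matrices of the nine generators. -/
def uSixNine : List Nat := [34630287489, 1820210959759506950657, 1171219336804794524, 1308877016637678268206, 2037922728042753395046, 368944757703440476228, 1749412781115449884182, 281784484888708, 224819907820821433458]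

/-- The code of the diagonal matrix. -/
def uSixDiag : Nat := 103349764224

/-- The code of its inverse. -/
def uSixDiagInv : Nat := 103349764225

/-- The first scalar. -/
def uSixScalX : Fin 4 := 1

/-- The second scalar. -/
def uSixScalY : Fin 4 := 1

/-- The codes of the three scalar matrices. -/
def uSixScal : List Nat := [0, 34630287489, 2379775235461327355904, 2379775235495957643393]

/-- A word. -/
def uSixX : List Nat := [8, 4, 5, 2, 3, 4, 8, 6, 7, 6, 8, 4, 3, 2, 5, 4, 8, 7, 6, 2, 3, 4, 8, 6, 5, 3, 4, 2, 3, 1, 2, 6, 7, 6, 2, 1, 3, 2, 4, 3, 5, 6, 8, 4, 3, 2, 6, 7, 6, 7, 8, 5, 4, 3, 2, 6, 7, 6, 2, 3, 4, 5, 8, 7, 6, 4, 5, 3, 4, 8, 5, 4, 2, 3, 1, 2, 6, 7, 6, 2, 1, 3, 2, 4, 5, 8, 4, 3, 5, 4]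

/-- A word. -/
def uSixY : List Nat := [8, 4, 2, 3, 1, 2, 6, 7, 6, 2, 1, 3, 2, 4, 8, 8, 4, 5, 2, 3, 4, 8, 6, 7, 6, 8, 4, 3, 2, 5, 4, 8, 3, 4, 5, 2, 3, 4, 8, 7, 8, 4, 3, 2, 5, 4, 3, 6, 7, 8, 5, 4, 3, 2, 6, 7, 6, 2, 3, 4, 5, 8, 7, 6]

/-- A word over the image of the first. -/
def uSixVX : List Nat := [8, 4, 5, 2, 3, 4, 8, 6, 7, 6, 8, 4, 3, 2, 5, 4, 8, 7, 6, 2, 3, 4, 8, 6, 5, 3, 4, 2, 3, 1, 2, 6, 7, 6, 2, 1, 3, 2, 4, 3, 5, 6, 8, 4, 3, 2, 6, 7, 7, 8, 3, 1, 2, 6, 4, 5, 3, 4, 2, 3, 1, 2, 6, 7, 6, 2, 1, 3, 2, 4, 3, 5, 4, 6, 2, 1, 3, 8, 7, 4, 8, 3, 4, 2, 3, 1, 2, 6, 7, 6, 2, 1, 3, 2, 4, 3, 8, 4]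

/-- A word over the image of the second. -/
def uSixVY : List Nat := [8, 4, 2, 3, 1, 2, 6, 7, 6, 2, 1, 3, 2, 4, 8, 8, 4, 5, 2, 3, 4, 8, 6, 7, 6, 8, 4, 3, 2, 5, 4, 8, 5, 2, 3, 4, 8, 6, 7, 6, 8, 4, 3, 2, 5, 7, 8, 3, 1, 2, 6, 4, 5, 3, 4, 2, 3, 1, 2, 6, 7, 6, 2, 1, 3, 2, 4, 3, 5, 4, 6, 2, 1, 3, 8, 7]

end CfsgLib.TailsData
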