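import Cfsg.Agent.Lib.Fi22P.U6
import Cfsg.Agent.Lib.Tails.SixFour
import Cfsg.Agent.Lib.Tails.Combine
import Cfsg.Agent.Lib.Tails.USixCoverData

/-!
# A cover of the unitary group of degree six over four elements with a four-group as kernel

The double cover inside the Fischer group and its transform under a diagonal automorphism differ, as two
elements commute in one and their images do not in the other.
-/

set_option autoImplicit false
set_option maxRecDepth 100000

namespace CfsgLib.Schur.Tails.USix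

open CfsgLib.PresCert CfsgLib.Fi22P CfsgLib.J3 CfsgLib.TailsData Matrix
open CfsgLib.He (cv fieldK cv_zero cv_one)

/-- The field with four elements. -/
abbrev F0 : Type := GaloisField 2 2

theorem card_F0 [Fintype F0] : Fintype.card F0 = 4 := by
  rw [Fintype.card_eq_nat_card, GaloisField.card 2 2 two_ne_zero]; norm_num

/-- The special unitary group. -/
abbrev S0 : Type := ↥(Cfsg.SU 6 F0 2)

/-- The projective group. -/
abbrev P0 : Type := Cfsg.PSU 6 F0 2

theorem su_perfect0 : commutator S0 = ⊤ := by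
  haveI : Fintype F0 := Fintype.ofFinite _
  have hF2 : Fintype.card F0 = 2 ^ 2 := by rw [card_F0]; norm_num
  refine eq_top_iff.2 ?_
  rw [← CfsgLib.Classical.Unitary.su_closure_transvections hF2 (by norm_num) (by norm_num),
    Subgroup.closure_le, commutator_eq_closure]
  rintro A ⟨v, t, hv, hA⟩
  exact Subgroup.subset_closure (CfsgLib.Classical.Unitary.su_transvection_mem_commutatorSet
    hF2 (by norm_num) A v t hv hA)

theorem psu_perfect0 : commutator P0 = ⊤ := by
  rw [_root_.commutator_def, ← Subgroup.map_top_of_surjective (QuotientGroup.mk' _)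
    (QuotientGroup.mk'_surjective (Subgroup.center S0)), ← Subgroup.map_commutator,
    ← _root_.commutator_def, su_perfect0]

/-- The element of a word. -/
noncomputable def el (w : List ℕ) : subH := ⟨act fiGen (expand w), expand_mem w⟩

theorem el_cons {k : ℕ} (hk : k < 9) (w : List ℕ) : el (k :: w) = el w * hGen k := by
  refine Subtype.ext ?_
  show act fiGen (expand (k :: w)) = act fiGen (expand w) * (hGen k).1
  rw [expand, List.flatMap_cons, act_append, hGen_val hk]
  rfl

theorem el_nil : el [] = 1 := Subtype.ext (act_nil fiGen)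

theorem el_append (u v : List ℕ) : el (u ++ v) = el v * el u := by
  refine Subtype.ext ?_
  show act fiGen (expand (u ++ v)) = act fiGen (expand v) * act fiGen (expand u)
  rw [expand, List.flatMap_append, act_append]
  rfl

/-- The code of the matrix of a word. -/
noncomputable def mW : List ℕ → ℕ
  | [] => SixFour.oneC
  | k :: w => SixFour.mulC (mW w) (uSixNine.getD k 0)

theorem nine_codes : ∀ g < 9, ∀ i j : Fin 6,
    ((SixFour.pl0 (uSixNine.getD g 0)).testBit (6 * j.val + i.val) = ((ent g i j).val % 2 == 1)) ∧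
    ((SixFour.pl1 (uSixNine.getD g 0)).testBit (6 * j.val + i.val) = ((ent g i j).val / 2 == 1)) := by
  decide +kernel

theorem scal_codes : ∀ s : Fin 4, s ≠ 0 → ∀ i j : Fin 6,
    ((SixFour.pl0 (uSixScal.getD s.val 0)).testBit (6 * j.val + i.val) =
      (decide (i = j) && (s.val % 2 == 1))) ∧
    ((SixFour.pl1 (uSixScal.getD s.val 0)).testBit (6 * j.val + i.val) =
      (decide (i = j) && (s.val / 2 == 1))) := by
  decide +kernel

theorem words_ok : ([uSixX, uSixY, uSixVX, uSixVY].all fun w => w.all fun g => Nat.blt g 9) = true ∧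
    mW uSixVX = SixFour.mulC (uSixScal.getD uSixScalX.val 0)
      (SixFour.mulC (SixFour.mulC uSixDiag (mW uSixX)) uSixDiagInv) ∧
    mW uSixVY = SixFour.mulC (uSixScal.getD uSixScalY.val 0)
      (SixFour.mulC (SixFour.mulC uSixDiag (mW uSixY)) uSixDiagInv) ∧
    uSixScalX ≠ 0 ∧ uSixScalY ≠ 0 ∧ SixFour.okS uSixDiag = true ∧ SixFour.okS uSixDiagInv = true ∧
    SixFour.mulC uSixDiag uSixDiagInv = SixFour.oneC ∧
    SixFour.mulC uSixDiagInv uSixDiag = SixFour.oneC := by
  decide +kernel

theorem words_commute : sameBase (expand (uSixVX ++ uSixVY)) (expand (uSixVY ++ uSixVX)) = true ∧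
    sameBase (expand (uSixX ++ uSixY)) (expand (uSixY ++ uSixX)) = false ∧
    ((expand (uSixX ++ uSixY)).all fun g => Nat.blt g 9) = true ∧
    ((expand (uSixY ++ uSixX)).all fun g => Nat.blt g 9) = true := by
  decide +kernel

theorem el_ne : el uSixX * el uSixY ≠ el uSixY * el uSixX := by
  intro h
  rw [← el_append, ← el_append] at h
  obtain ⟨-, h2, h3, h4⟩ := words_commute
  have e := congrArg Subtype.val h
  refine absurd ?_ (Bool.eq_false_iff.1 h2)
  simp only [sameBase, Bool.and_eq_true, List.all_eq_true, Nat.beq_eq]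
  refine ⟨⟨fun b hb => ?_, List.all_eq_true.1 h3⟩, List.all_eq_true.1 h4⟩
  have hb' : b < tab.n := by
    have : ∀ b ∈ baseL, b < tab.n := by decide +kernel
    exact this b hb
  have e' := congrArg (fun m => ((phi m ⟨b, hb'⟩ : Fin tab.n) : ℕ)) e
  simp only [el] at e'
  rw [realised.act_apply fun g hg => ?_, realised.act_apply fun g hg => ?_] at e'
  · exact e'.symm
  all_goals
    first
      | exact Nat.le_of_ble_eq_true (List.all_eq_true.1 h3 g hg)
      | exact Nat.le_of_ble_eq_true (List.all_eq_true.1 h4 g hg)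

theorem el_eq : el uSixVX * el uSixVY = el uSixVY * el uSixVX := by
  rw [← el_append, ← el_append]
  exact Subtype.ext (eq_of_base words_commute.1).symm

theorem mat_nine {g : ℕ} (hg : g < 9) :
    SixFour.mat fieldK (uSixNine.getD g 0) = Fi22P.mat fieldK g := by
  funext i j
  rw [SixFour.mat, (nine_codes g hg i j).1, (nine_codes g hg i j).2]
  rfl

theorem mat_scal {s : Fin 4} (hs : s ≠ 0) :
    SixFour.mat fieldK (uSixScal.getD s.val 0) = cv fieldK s • 1 := by
  funext i j
  rw [SixFour.mat, (scal_codes s hs i j).1, (scal_codes s hs i j).2, Matrix.smul_apply, Matrix.one_apply]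
  by_cases e : i = j <;> simp [e, cv, val2]

/-- The double cover of the projective group. -/
noncomputable def cov (h : Nat.card F0 = 4) : subH →* P0 :=
  haveI : Fintype F0 := Fintype.ofFinite _
  (rangeIso fieldK (Nat.card_eq_fintype_card.symm.trans h)).toMonoidHom.comp tau.rangeRestrict

theorem card_F0' : Nat.card F0 = 4 := by
  rw [GaloisField.card 2 2 two_ne_zero]; norm_num

theorem rangeIso_eq [Fintype F0] (hF : Fintype.card F0 = 4) (x : tau.range) (A : S0)
    (h : (x : Equiv.Perm Pt) = sigma fieldK A) :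
    rangeIso fieldK hF x = QuotientGroup.mk A := by
  rw [← MulEquiv.eq_symm_apply]
  exact Subtype.ext (h.trans rfl)

theorem cov_word : ∀ w : List ℕ, (∀ g ∈ w, g < 9) → ∃ A : S0,
    toM A = SixFour.mat fieldK (mW w) ∧ cov card_F0' (el w) = (QuotientGroup.mk A : P0)
  | [], _ => ⟨1, by rw [toM, OneMemClass.coe_one, map_one, mW, SixFour.mat_oneC],
      by rw [el_nil, map_one]; rfl⟩
  | k :: w, hw => by
    haveI : Fintype F0 := Fintype.ofFinite _
    obtain ⟨A, hA, he⟩ := cov_word w fun g hg => hw g (List.mem_cons_of_mem _ hg)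
    have hk := hw k List.mem_cons_self
    obtain ⟨B, hB⟩ := mat_mem fieldK hk
    refine ⟨A * B, ?_, ?_⟩
    · rw [toM, Subgroup.coe_mul, map_mul, mW, SixFour.mat_mulC, mat_nine hk, ← hA, ← hB]
    · rw [el_cons hk, map_mul, he, QuotientGroup.mk_mul]
      congr 1
      exact rangeIso_eq card_F0 _ B (tau_gen fieldK hk hB)

/-- Conjugation by an isometry. -/
noncomputable def conjS {d e : ℕ} (hd : SixFour.okS d = true) (he : SixFour.okS e = true)
    (h1 : SixFour.mulC d e = SixFour.oneC) (h2 : SixFour.mulC e d = SixFour.oneC) : S0 →* S0 where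
  toFun A := ⟨⟨SixFour.mat fieldK d * toM A * SixFour.mat fieldK e, by
      rw [Matrix.det_mul, Matrix.det_mul, mul_right_comm, ← Matrix.det_mul, ← SixFour.mat_mulC, h1,
        SixFour.mat_oneC, Matrix.det_one, one_mul]
      exact A.1.2⟩, fun u v => by
    show Cfsg.hermForm 6 F0 2 ((SixFour.mat fieldK d * toM A * SixFour.mat fieldK e) *ᵥ u)
      ((SixFour.mat fieldK d * toM A * SixFour.mat fieldK e) *ᵥ v) = _
    simp only [← Matrix.mulVec_mulVec]
    rw [SixFour.isometry_of_ok fieldK hd, A.2, SixFour.isometry_of_ok fieldK he]⟩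
  map_one' := Subtype.ext (Subtype.ext (by
    show SixFour.mat fieldK d * toM 1 * SixFour.mat fieldK e = 1
    rw [toM, OneMemClass.coe_one, map_one, mul_one, ← SixFour.mat_mulC, h1, SixFour.mat_oneC]))
  map_mul' A B := Subtype.ext (Subtype.ext (by
    show SixFour.mat fieldK d * toM (A * B) * SixFour.mat fieldK e =
      (SixFour.mat fieldK d * toM A * SixFour.mat fieldK e) *
        (SixFour.mat fieldK d * toM B * SixFour.mat fieldK e)
    have h : SixFour.mat fieldK e * SixFour.mat fieldK d = 1 := by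
      rw [← SixFour.mat_mulC, h2, SixFour.mat_oneC]
    rw [toM, toM, toM, Subgroup.coe_mul, map_mul]
    simp only [mul_assoc]
    rw [← mul_assoc (SixFour.mat fieldK e) (SixFour.mat fieldK d), h, one_mul]))

theorem conjS_toM {d e : ℕ} (hd : SixFour.okS d = true) (he : SixFour.okS e = true)
    (h1 : SixFour.mulC d e = SixFour.oneC) (h2 : SixFour.mulC e d = SixFour.oneC) (A : S0) :
    toM (conjS hd he h1 h2 A) = SixFour.mat fieldK d * toM A * SixFour.mat fieldK e := rfl

/-- The diagonal automorphism. -/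
noncomputable def diagS : S0 ≃* S0 :=
  MonoidHom.toMulEquiv
    (conjS words_ok.2.2.2.2.2.1 words_ok.2.2.2.2.2.2.1 words_ok.2.2.2.2.2.2.2.1
      words_ok.2.2.2.2.2.2.2.2)
    (conjS words_ok.2.2.2.2.2.2.1 words_ok.2.2.2.2.2.1 words_ok.2.2.2.2.2.2.2.2
      words_ok.2.2.2.2.2.2.2.1)
    (MonoidHom.ext fun A => Subtype.ext (Subtype.ext (by
      show SixFour.mat fieldK uSixDiagInv * (SixFour.mat fieldK uSixDiag * toM A *
        SixFour.mat fieldK uSixDiagInv) * SixFour.mat fieldK uSixDiag = toM A
      have h : SixFour.mat fieldK uSixDiagInv * SixFour.mat fieldK uSixDiag = 1 := by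
        rw [← SixFour.mat_mulC, words_ok.2.2.2.2.2.2.2.2, SixFour.mat_oneC]
      simp only [mul_assoc]
      rw [h, mul_one, ← mul_assoc, h, one_mul])))
    (MonoidHom.ext fun A => Subtype.ext (Subtype.ext (by
      show SixFour.mat fieldK uSixDiag * (SixFour.mat fieldK uSixDiagInv * toM A *
        SixFour.mat fieldK uSixDiag) * SixFour.mat fieldK uSixDiagInv = toM A
      have h : SixFour.mat fieldK uSixDiag * SixFour.mat fieldK uSixDiagInv = 1 := by
        rw [← SixFour.mat_mulC, words_ok.2.2.2.2.2.2.2.1, SixFour.mat_oneC]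
      simp only [mul_assoc]
      rw [h, mul_one, ← mul_assoc, h, one_mul])))

theorem diagS_center : (Subgroup.center S0).map diagS.toMonoidHom = Subgroup.center S0 := by
  ext z
  rw [Subgroup.mem_map_equiv, Subgroup.mem_center_iff, Subgroup.mem_center_iff]
  refine ⟨fun hz g => diagS.symm.injective ?_, fun hz g => diagS.injective ?_⟩
  · rw [map_mul, map_mul, hz]
  · rw [map_mul, map_mul, diagS.apply_symm_apply, hz]

/-- The diagonal automorphism of the projective group. -/
noncomputable def diagP : P0 ≃* P0 := QuotientGroup.congr _ _ diagS diagS_center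

theorem diag_word {w v : List ℕ} (hw : ∀ g ∈ w, g < 9) (hv : ∀ g ∈ v, g < 9) {s : Fin 4} (hs : s ≠ 0)
    (h : mW v = SixFour.mulC (uSixScal.getD s.val 0)
      (SixFour.mulC (SixFour.mulC uSixDiag (mW w)) uSixDiagInv)) :
    diagP (cov card_F0' (el w)) = cov card_F0' (el v) := by
  obtain ⟨A, hA, eA⟩ := cov_word w hw
  obtain ⟨B, hB, eB⟩ := cov_word v hv
  obtain ⟨C, hC⟩ := scalar_mem fieldK hs
  rw [eA, eB]
  show QuotientGroup.mk (diagS A) = _
  have e : B = C * diagS A := Subtype.ext (Subtype.ext (by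
    show toM B = toM (C * diagS A)
    rw [toM, toM, Subgroup.coe_mul, map_mul]
    show toM B = toM C * toM (diagS A)
    rw [hB, hC, h, SixFour.mat_mulC, mat_scal hs, SixFour.mat_mulC, SixFour.mat_mulC, ← hA]
    rfl))
  have hc : C ∈ Subgroup.center S0 := Subgroup.mem_center_iff.2 fun X => Subtype.ext (Subtype.ext (by
    show toM (X * C) = toM (C * X)
    rw [toM, toM, Subgroup.coe_mul, Subgroup.coe_mul, map_mul, map_mul]
    show toM X * toM C = toM C * toM X
    rw [hC, Matrix.mul_smul, Matrix.smul_mul, mul_one, one_mul]))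
  rw [e, QuotientGroup.mk_mul, (QuotientGroup.eq_one_iff C).2 hc, one_mul]

theorem cov_ker : (cov card_F0').ker = Subgroup.center subH := by
  haveI : Fintype F0 := Fintype.ofFinite _
  rw [center_subH fieldK card_F0]
  ext x
  simp [cov, MonoidHom.mem_ker, ← Subtype.val_inj]

theorem cov_surj : Function.Surjective (cov card_F0') := by
  rw [cov, MonoidHom.coe_comp]
  exact (MulEquiv.surjective _).comp tau.rangeRestrict_surjective

theorem cov_stem : Cfsg.IsStemExtension (cov card_F0') := by
  haveI : Fintype F0 := Fintype.ofFinite _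
  haveI := fi_le.1
  refine ⟨cov_surj, cov_ker.le, ?_⟩
  by_contra hle
  refine no_complement fieldK card_F0 (commutator subH)
    (Subgroup.isComplement'_of_disjoint_and_mul_eq_univ ?_ ?_)
  · rw [Subgroup.disjoint_def]
    intro z hz hz'
    by_contra hne
    refine hle fun y hy => ?_
    rw [cov_ker] at hy
    have h2 : Nat.card (Subgroup.center subH) = 2 := by rw [center_subH fieldK card_F0, card_ker_tau]
    have hu : ∀ a b : Subgroup.center subH, a ≠ 1 → b ≠ 1 → a = b := by
      intro a b ha hb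
      obtain ⟨c, d, -, e⟩ := Nat.card_eq_two_iff.1 h2
      have e' : ∀ t, t = c ∨ t = d := fun t => by
        have : t ∈ ({c, d} : Set _) := e ▸ Set.mem_univ t
        simpa using this
      rcases e' 1 with h | h <;> rcases e' a with h' | h' <;> rcases e' b with h'' | h'' <;>
        subst_vars <;> first | rfl | exact absurd rfl ha | exact absurd rfl hb
    by_cases hy1 : y = 1
    · rw [hy1]; exact one_mem _
    · have := hu ⟨y, hy⟩ ⟨z, hz⟩ (fun e => hy1 (congrArg Subtype.val e))
        (fun e => hne (congrArg Subtype.val e))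
      rw [show y = z from congrArg Subtype.val this]
      exact hz'
  · refine Set.eq_univ_of_forall fun x => ?_
    obtain ⟨y, hy, e⟩ := (commutator_mul_ker psu_perfect0 cov_surj).ge (Subgroup.mem_top (cov card_F0' x))
    refine ⟨x * y⁻¹, ?_, y, hy, by simp⟩
    show x * y⁻¹ ∈ Subgroup.center subH
    rw [← cov_ker, MonoidHom.mem_ker, map_mul, map_inv, e, mul_inv_cancel]

/-- A cover with kernel of order four. -/
theorem exists_four : ∃ (Γ : Type) (_ : Group Γ) (_ : Finite Γ) (σ : Γ →* P0),
    Cfsg.IsStemExtension σ ∧ Nat.card σ.ker = 4 := by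
  haveI := fi_le.1
  haveI : Fintype F0 := Fintype.ofFinite _
  set s₁ := cov card_F0' with hs₁
  let s₂ : subH →* P0 := diagP.toMonoidHom.comp s₁
  have hk2 : s₂.ker = s₁.ker := by ext; simp [s₂, MonoidHom.mem_ker]
  let T : Subgroup (subH × subH) :=
    MonoidHom.eqLocus (s₁.comp (MonoidHom.fst _ _)) (s₂.comp (MonoidHom.snd _ _))
  let π : ↥T →* P0 := (s₁.comp (MonoidHom.fst _ _)).comp T.subtype
  have hπ : Function.Surjective π := fun g => by
    obtain ⟨a, ha⟩ := cov_surj g
    obtain ⟨b, hb⟩ := cov_surj (diagP.symm g)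
    refine ⟨⟨(a, b), ?_⟩, ha⟩
    show s₁ a = diagP (s₁ b)
    rw [hs₁, ha, hb, MulEquiv.apply_symm_apply]
  have hcomp : ∀ x : ↥T, π x = 1 → x.1.1 ∈ Subgroup.center subH ∧ x.1.2 ∈ Subgroup.center subH := by
    intro x hx
    have e1 : s₁ x.1.1 = 1 := hx
    have e2 : s₂ x.1.2 = 1 := x.2.symm.trans e1
    exact ⟨cov_ker.le e1, cov_ker.le (hk2.le e2)⟩
  have hc : π.ker ≤ Subgroup.center ↥T := fun x hx => Subgroup.mem_center_iff.2 fun y =>
    Subtype.ext (Prod.ext (Subgroup.mem_center_iff.1 (hcomp x hx).1 _)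
      (Subgroup.mem_center_iff.1 (hcomp x hx).2 _))
  have hperf := derived_perfect psu_perfect0 hπ hc
  let τ : ↥(commutator ↥T) →* P0 := π.comp (commutator ↥T).subtype
  have hτ : Function.Surjective τ := fun g => by
    obtain ⟨y, hy, e⟩ := (commutator_mul_ker psu_perfect0 hπ).ge (Subgroup.mem_top g)
    exact ⟨⟨y, hy⟩, e⟩
  refine ⟨↥(commutator ↥T), inferInstance, inferInstance, τ, ⟨hτ, fun x hx => Subgroup.mem_center_iff.2
    fun y => Subtype.ext (Subgroup.mem_center_iff.1 (hc (show π x.1 = 1 from hx)) y.1),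
    hperf.ge.trans' le_top⟩, ?_⟩
  let j : τ.ker →* Subgroup.center subH × Subgroup.center subH :=
    { toFun := fun x => (⟨x.1.1.1.1, (hcomp x.1.1 x.2).1⟩, ⟨x.1.1.1.2, (hcomp x.1.1 x.2).2⟩)
      map_one' := rfl
      map_mul' := fun _ _ => rfl }
  have hj : Function.Injective j := fun a b e => by
    have e1 := congrArg (fun p => (p.1.1, p.2.1)) e
    exact Subtype.ext (Subtype.ext (Subtype.ext e1))
  have hd : Nat.card τ.ker ∣ 2 ^ 2 := by
    refine (Subgroup.card_dvd_of_injective j hj).trans ?_
    rw [Nat.card_prod, center_subH fieldK card_F0, card_ker_tau]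
    norm_num
  obtain ⟨k, hk, hk'⟩ := (Nat.dvd_prime_pow Nat.prime_two).1 hd
  suffices h : 2 < Nat.card τ.ker by
    interval_cases k <;> omega
  by_contra hle
  let f₁ : ↥(commutator ↥T) →* subH := ((MonoidHom.fst _ _).comp T.subtype).comp (commutator ↥T).subtype
  let f₂ : ↥(commutator ↥T) →* subH := ((MonoidHom.snd _ _).comp T.subtype).comp (commutator ↥T).subtype
  have surj : ∀ (s : subH →* P0), Cfsg.IsStemExtension s → ∀ f : ↥T →* subH, Function.Surjective f →
      Function.Surjective (f.comp (commutator ↥T).subtype) := by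
    intro s hs f hf x
    have h : (commutator ↥T).map f = ⊤ := by
      rw [_root_.commutator_def, Subgroup.map_commutator, Subgroup.map_top_of_surjective f hf,
        ← _root_.commutator_def, stem_perfect psu_perfect0 hs]
    obtain ⟨y, hy, e⟩ := h.ge (Subgroup.mem_top x)
    exact ⟨⟨y, hy⟩, e⟩
  have g1 : Function.Surjective f₁ := surj s₁ cov_stem _ fun a => by
    obtain ⟨b, hb⟩ := cov_surj (diagP.symm (s₁ a))
    refine ⟨⟨(a, b), ?_⟩, rfl⟩
    show s₁ a = diagP (s₁ b)
    rw [hs₁, hb, MulEquiv.apply_symm_apply]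
  have g2 : Function.Surjective f₂ := surj s₁ cov_stem _ fun b => by
    obtain ⟨a, ha⟩ := cov_surj (diagP (s₁ b))
    exact ⟨⟨(a, b), ha⟩, rfl⟩
  have hcard : Nat.card ↥(commutator ↥T) ≤ Nat.card subH := by
    have h1 := τ.ker.card_mul_index
    have h2 := s₁.ker.card_mul_index
    rw [Subgroup.index_ker, MonoidHom.range_eq_top.2 hτ, Subgroup.card_top] at h1
    rw [Subgroup.index_ker, MonoidHom.range_eq_top.2 cov_surj, Subgroup.card_top, hs₁, cov_ker,
      center_subH fieldK card_F0, card_ker_tau] at h2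
    rw [← h1, ← h2]
    exact Nat.mul_le_mul_right _ (not_lt.1 hle)
  have hb : ∀ f : ↥(commutator ↥T) →* subH, Function.Surjective f → Function.Bijective f :=
    fun f hf => hf.bijective_of_nat_card_le hcard
  let φ : subH →* subH := f₁.comp (MulEquiv.ofBijective f₂ (hb f₂ g2)).symm.toMonoidHom
  have hφi : Function.Injective φ := (hb f₁ g1).1.comp (MulEquiv.injective _)
  have hφ : ∀ h, s₁ (φ h) = diagP (s₁ h) := fun h => by
    set p := (MulEquiv.ofBijective f₂ (hb f₂ g2)).symm h with hp
    have e : f₂ p = h := (MulEquiv.ofBijective f₂ (hb f₂ g2)).apply_symm_apply h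
    have := p.1.2
    show s₁ (f₁ p) = _
    rw [← e]
    exact this
  obtain ⟨hw, hx, hy, hcx, hcy, -⟩ := words_ok
  simp only [List.all_cons, List.all_nil, Bool.and_true, Bool.and_eq_true, List.all_eq_true,
    Nat.blt_eq] at hw
  obtain ⟨w1, w2, w3, w4⟩ := hw
  have lift : ∀ w v, (∀ g ∈ w, g < 9) → (∀ g ∈ v, g < 9) →
      diagP (s₁ (el w)) = s₁ (el v) → ∃ z ∈ Subgroup.center subH, φ (el w) = el v * z := by
    intro w v _ _ e
    refine ⟨(el v)⁻¹ * φ (el w), ?_, (mul_inv_cancel_left _ _).symm⟩
    rw [← cov_ker, MonoidHom.mem_ker, map_mul, map_inv, ← hs₁, hφ, e, inv_mul_cancel]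
  obtain ⟨z, hz, ez⟩ := lift _ _ w1 w3 (diag_word w1 w3 hcx hx)
  obtain ⟨z', hz', ez'⟩ := lift _ _ w2 w4 (diag_word w2 w4 hcy hy)
  refine el_ne (hφi ?_)
  rw [map_mul, map_mul, ez, ez']
  have c1 := Subgroup.mem_center_iff.1 hz
  have c2 := Subgroup.mem_center_iff.1 hz'
  calc el uSixVX * z * (el uSixVY * z') = el uSixVX * el uSixVY * (z * z') := by
        rw [mul_assoc, ← mul_assoc z, ← c1 (el uSixVY)]; simp only [mul_assoc]
    _ = el uSixVY * el uSixVX * (z' * z) := by rw [el_eq, c2 z]
    _ = el uSixVY * z' * (el uSixVX * z) := by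
        rw [mul_assoc (el uSixVY) z', ← mul_assoc z', ← c2 (el uSixVX)]; simp only [mul_assoc]

end CfsgLib.Schur.Tails.USix
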