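import Cfsg.Agent.Lib.Tails.USixBound
import Cfsg.Agent.Lib.Tails.USixCover

/-!
# The multiplier of the projective special unitary group of degree six over four elements
-/

set_option autoImplicit false

namespace CfsgLib.Schur.Tails.USix

open CfsgLib.J3 Subgroup
open CfsgLib.He (fieldK)

/-- The abelian group of order twelve. -/
abbrev A12 : Type := Multiplicative (ZMod 3 × ZMod 2 × ZMod 2)

theorem card_center0 : Nat.card (center S0) = 3 := by
  haveI : Fintype F0 := Fintype.ofFinite _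
  exact (CfsgLib.Fi22P.card_su_six card_F0).2

theorem psu_bound {Γ : Type} [Group Γ] [Finite Γ] (σ : Γ →* P0) (hσ : Cfsg.IsStemExtension σ) :
    ∃ π : A12 →* σ.ker, Function.Surjective π := by
  classical
  haveI : Fintype F0 := Fintype.ofFinite _
  let q : S0 →* P0 := QuotientGroup.mk' _
  let P : Subgroup (S0 × Γ) :=
    MonoidHom.eqLocus (q.comp (MonoidHom.fst _ _)) (σ.comp (MonoidHom.snd _ _))
  let π1 : ↥P →* S0 := (MonoidHom.fst _ _).comp P.subtype
  let π2 : ↥P →* Γ := (MonoidHom.snd _ _).comp P.subtype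
  have h1 : Function.Surjective π1 := fun g => by
    obtain ⟨a, ha⟩ := hσ.1 (q g)
    exact ⟨⟨(g, a), ha.symm⟩, rfl⟩
  have h2 : Function.Surjective π2 := fun a => by
    obtain ⟨g, hg⟩ := QuotientGroup.mk'_surjective _ (σ a)
    exact ⟨⟨(g, a), hg⟩, rfl⟩
  have hc : π1.ker ≤ center ↥P := fun x hx => by
    have e1 : x.1.1 = 1 := hx
    have e2 : σ x.1.2 = 1 := by
      have h : q x.1.1 = σ x.1.2 := x.2
      rw [← h, e1, map_one]
    refine mem_center_iff.2 fun r => Subtype.ext (Prod.ext ?_ ?_)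
    · show r.1.1 * x.1.1 = x.1.1 * r.1.1
      rw [e1, mul_one, one_mul]
    · exact mem_center_iff.1 (hσ.2.1 e2) r.1.2
  have hperf := derived_perfect su_perfect0 h1 hc
  let D := commutator ↥P
  let τ : ↥D →* S0 := π1.comp D.subtype
  have hτs : Function.Surjective τ := fun g => by
    obtain ⟨y, hy, e⟩ := (commutator_mul_ker su_perfect0 h1).ge (mem_top g)
    exact ⟨⟨y, hy⟩, e⟩
  have hτc : τ.ker ≤ center ↥D := fun x hx => mem_center_iff.2 fun y =>
    Subtype.ext (mem_center_iff.1 (hc (show π1 x.1 = 1 from hx)) y.1)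
  have hτ : Cfsg.IsStemExtension τ := ⟨hτs, hτc, hperf.ge.trans' le_top⟩
  let s : ↥D →* Γ := π2.comp D.subtype
  have hs : Function.Surjective s := fun x => by
    have h : D.map π2 = ⊤ := by
      rw [show D = commutator ↥P from rfl, _root_.commutator_def, map_commutator,
        Subgroup.map_top_of_surjective π2 h2, ← _root_.commutator_def, stem_perfect psu_perfect0 hσ]
    obtain ⟨y, hy, e⟩ := h.ge (mem_top x)
    exact ⟨⟨y, hy⟩, e⟩
  have hcomm : ∀ x : ↥D, σ (s x) = q (τ x) := fun x => x.1.2.symm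
  have hcent : ∀ x : ↥D, σ (s x) = 1 → x ∈ center ↥D := fun x hx =>
    central_of_map_central hperf hτc (by
      rw [← QuotientGroup.eq_one_iff]; exact (hcomm x).symm.trans hx)
  obtain ⟨π, hπ⟩ := bound fieldK card_F0 τ hτ
  have : Fact (Nat.Prime 3) := ⟨Nat.prime_three⟩
  haveI : IsCyclic (center S0) := isCyclic_of_prime_card card_center0
  obtain ⟨γ, hγ⟩ := IsCyclic.exists_generator (α := center S0)
  obtain ⟨x, hx⟩ := hτs γ.1
  have hγ3 : γ.1 ^ 3 = 1 := by
    rw [← Subgroup.coe_pow, ← card_center0, pow_card_eq_one', Subgroup.coe_one]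
  have hsq : ∀ y : ↥D, τ y = 1 → y ^ 2 = 1 := by
    intro y hy
    obtain ⟨w, hw⟩ := hπ ⟨y, hy⟩
    have e : (π w) ^ 2 = 1 := by
      rw [← map_pow, (by decide : ∀ u : Multiplicative (ZMod 2 × ZMod 2), u ^ 2 = 1) w, map_one]
    rw [hw] at e
    exact congrArg Subtype.val e
  set c := x ^ 4 with hcdef
  have hc3 : c ^ 3 = 1 := by
    rw [hcdef, ← pow_mul, show 4 * 3 = 3 * 2 * 2 from rfl, pow_mul, pow_mul,
      hsq _ (by rw [map_pow, map_pow, hx, hγ3, one_pow])]
  have hcγ : τ c = γ.1 := by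
    rw [hcdef, map_pow, hx, show (4 : ℕ) = 3 + 1 from rfl, pow_succ, hγ3, one_mul]
  have hmemK : ∀ y : ↥D, τ y ∈ center S0 → s y ∈ σ.ker := fun y hy => by
    rw [MonoidHom.mem_ker, hcomm]
    exact (QuotientGroup.eq_one_iff _).2 hy
  have hcc : c ∈ center ↥D := hcent c (hmemK c (hcγ ▸ γ.2))
  let ψ : A12 →* ↥D := MonoidHom.mk'
    (fun z => c ^ z.toAdd.1.val * (π (Multiplicative.ofAdd z.toAdd.2) : ↥D)) fun u v => by
      have hm : c ^ (u.toAdd.1 + v.toAdd.1).val = c ^ u.toAdd.1.val * c ^ v.toAdd.1.val := by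
        rw [← pow_add, ZMod.val_add, ← pow_eq_pow_mod _ hc3]
      simp only [toAdd_mul, Prod.fst_add, Prod.snd_add, ofAdd_add, map_mul, Subgroup.coe_mul]
      rw [hm, mul_assoc, mul_assoc, ← mul_assoc (c ^ v.toAdd.1.val),
        ← mem_center_iff.1 (pow_mem hcc v.toAdd.1.val) (π (Multiplicative.ofAdd u.toAdd.2) : ↥D),
        mul_assoc]
  have hψ : ∀ z, s (ψ z) ∈ σ.ker := fun z => hmemK _ (by
    show τ (c ^ z.toAdd.1.val * (π (Multiplicative.ofAdd z.toAdd.2) : ↥D)) ∈ _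
    rw [map_mul, map_pow, hcγ, MonoidHom.mem_ker.1 (π _).2, mul_one]
    exact pow_mem γ.2 _)
  refine ⟨(s.comp ψ).codRestrict σ.ker hψ, fun y => ?_⟩
  obtain ⟨d, hd⟩ := hs y.1
  have hdc : τ d ∈ center S0 := by
    rw [← QuotientGroup.eq_one_iff]
    exact (hcomm d).symm.trans (by rw [hd]; exact y.2)
  obtain ⟨n, hn⟩ := (mem_powers_iff_mem_zpowers).2 (hγ ⟨τ d, hdc⟩)
  have hn' : γ.1 ^ n = τ d := by rw [← Subgroup.coe_pow]; exact congrArg Subtype.val hn
  have hk : (c ^ n)⁻¹ * d ∈ τ.ker := by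
    rw [MonoidHom.mem_ker, map_mul, map_inv, map_pow, hcγ, hn', inv_mul_cancel]
  obtain ⟨w, hw⟩ := hπ ⟨_, hk⟩
  refine ⟨Multiplicative.ofAdd ((n : ZMod 3), w.toAdd), Subtype.ext ?_⟩
  show s (c ^ ((n : ZMod 3)).val * (π w : ↥D)) = y.1
  rw [hw, ← hd, ZMod.val_natCast, ← pow_eq_pow_mod _ hc3, mul_inv_cancel_left]

theorem psu_cover : ∃ (Γ : Type) (_ : Group Γ) (_ : Finite Γ) (σ : Γ →* P0),
    Cfsg.IsStemExtension σ ∧ Nonempty (σ.ker ≃* A12) := by
  classical
  haveI : Fintype F0 := Fintype.ofFinite _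
  have hq : Cfsg.IsStemExtension (QuotientGroup.mk' (center S0)) :=
    ⟨QuotientGroup.mk'_surjective _, (QuotientGroup.ker_mk' _).le, le_top.trans su_perfect0.ge⟩
  obtain ⟨E, _, _, σ, hσ, h4⟩ := exists_four
  obtain ⟨P, _, _, τ, f₁, f₂, hτ, s1, s2, e1, e2, -⟩ := exists_join psu_perfect0 hq hσ
  obtain ⟨π, hπ⟩ := psu_bound τ hτ
  have hA : Nat.card A12 = 12 := by
    rw [Nat.card_eq_fintype_card]; rfl
  have hle : Nat.card τ.ker ≤ 12 := hA ▸ Nat.card_le_card_of_surjective π hπ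
  have hd : 12 ∣ Nat.card τ.ker := by
    have d1 := dvd_of_onto s1 hq.1 e1
    have d2 := dvd_of_onto s2 hσ.1 e2
    rw [h4] at d2
    rw [QuotientGroup.ker_mk', card_center0] at d1
    exact (Nat.Coprime.mul_dvd_of_dvd_of_dvd (by norm_num : Nat.Coprime 3 4) d1 d2)
  have h12 : Nat.card τ.ker = 12 := le_antisymm hle (Nat.le_of_dvd Nat.card_pos hd)
  exact ⟨P, inferInstance, inferInstance, τ, hτ,
    ⟨(MulEquiv.ofBijective π (hπ.bijective_of_nat_card_le (by rw [hA, h12]))).symm⟩⟩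

/-- Stem extensions restrict along an isomorphism of the source. -/
theorem stem_precomp {E E' : Type*} [Group E] [Group E'] {G : Type*} [Group G] (e : E' ≃* E)
    {σ : E →* G} (h : Cfsg.IsStemExtension σ) :
    Cfsg.IsStemExtension (σ.comp e.toMonoidHom) ∧
      Nonempty ((σ.comp e.toMonoidHom).ker ≃* σ.ker) := by
  have hk : (σ.comp e.toMonoidHom).ker = σ.ker.comap e.toMonoidHom := by
    rw [MonoidHom.comap_ker]
  refine ⟨⟨h.1.comp e.surjective, fun x hx => Subgroup.mem_center_iff.2 fun y => e.injective ?_, fun x hx => ?_⟩,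
    ⟨(MulEquiv.subgroupCongr hk).trans (MulEquiv.ofBijective (e.toMonoidHom.subgroupComap σ.ker)
      ⟨fun a b h => Subtype.ext (e.injective (congrArg Subtype.val h)),
        fun z => ⟨⟨e.symm z.1, by simp [z.2]⟩, Subtype.ext (e.apply_symm_apply z.1)⟩⟩)⟩⟩
  · rw [map_mul, map_mul]
    exact Subgroup.mem_center_iff.1 (h.2.1 hx) _
  · have hc : e x ∈ (commutator E').map e.toMonoidHom := by
      rw [_root_.commutator_def, Subgroup.map_commutator, Subgroup.map_top_of_surjective _ e.surjective,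
        ← _root_.commutator_def]
      exact h.2.2 hx
    obtain ⟨y, hy, hye⟩ := hc
    exact e.injective hye ▸ hy

/-- A field with four elements carries the coordinates. -/
theorem exists_coord {F : Type*} [Field F] [Fintype F] (hF : Fintype.card F = 4) : Nonempty (Fld F) := by
  classical
  obtain ⟨w, hw⟩ : ∃ w : F, w ∉ ({1, 0} : Finset (F)) := by
    by_contra h
    have h1 := Finset.card_le_card (s := (Finset.univ : Finset (F)))
      (t := {1, 0}) fun x _ => not_not.1 fun hx => h ⟨x, hx⟩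
    rw [Finset.card_univ, hF] at h1
    have h2 := Finset.card_le_two (a := (1 : F)) (b := 0)
    omega
  simp only [Finset.mem_insert, Finset.mem_singleton, not_or] at hw
  have h3 : w ^ 3 = 1 := by
    have := FiniteField.pow_card_sub_one_eq_one w hw.2
    rwa [hF] at this
  have h : (w - 1) * (w ^ 2 + w + 1) = 0 := by linear_combination h3
  exact ⟨(CfsgLib.J3.exists_fld hF w ((mul_eq_zero.1 h).resolve_left (sub_ne_zero.2 hw.1))).choose⟩


universe u

theorem multiplier {F : Type u} [Field F] [Fintype F] (hF : Fintype.card F = 4) :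
    Cfsg.HasSchurMultiplier (Cfsg.PSU 6 F 2) A12 := by
  haveI : Fintype F0 := Fintype.ofFinite _
  obtain ⟨K⟩ := exists_coord hF
  let e : P0 ≃* Cfsg.PSU 6 F 2 :=
    (CfsgLib.Fi22P.rangeIso fieldK card_F0).symm.trans (CfsgLib.Fi22P.rangeIso K hF)
  obtain ⟨Γ, _, _, σ, hσ, ⟨f⟩⟩ := psu_cover
  refine ⟨⟨ULift.{u} Γ, inferInstance, inferInstance,
    e.toMonoidHom.comp (σ.comp MulEquiv.ulift.toMonoidHom), ?_⟩, fun E _ _ τ hτ => ?_⟩
  · obtain ⟨h1, ⟨g⟩⟩ := stem_precomp (MulEquiv.ulift : ULift.{u} Γ ≃* Γ) hσ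
    have hk : (e.toMonoidHom.comp (σ.comp MulEquiv.ulift.toMonoidHom)).ker =
        (σ.comp (MulEquiv.ulift : ULift.{u} Γ ≃* Γ).toMonoidHom).ker := by
      ext x; simp [MonoidHom.mem_ker]
    exact ⟨⟨e.surjective.comp h1.1, hk ▸ h1.2.1, hk ▸ h1.2.2⟩,
      ⟨(MulEquiv.subgroupCongr hk).trans (g.trans f)⟩⟩
  · have : Small.{0} E := Countable.toSmall E
    have hk : (e.symm.toMonoidHom.comp τ).ker = τ.ker := by
      ext x; simp [MonoidHom.mem_ker]
    have hτ' : Cfsg.IsStemExtension (e.symm.toMonoidHom.comp τ) :=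
      ⟨e.symm.surjective.comp hτ.1, hk ▸ hτ.2.1, hk ▸ hτ.2.2⟩
    have : Finite (Shrink.{0} E) := Finite.of_equiv _ (equivShrink E)
    obtain ⟨h1, ⟨g⟩⟩ := stem_precomp (Shrink.mulEquiv : Shrink.{0} E ≃* E) hτ'
    obtain ⟨π, hπ⟩ := psu_bound _ h1
    let g' := g.trans (MulEquiv.subgroupCongr hk)
    exact ⟨g'.toMonoidHom.comp π, g'.surjective.comp hπ⟩

end CfsgLib.Schur.Tails.USix
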