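import Mathlib

/-!
# Vectors of exponents modulo `q` and rewriting of words up to central tails

For certified bounds on the kernels of stem extensions: a word in lifted generators is rewritten by
relations that hold up to central elements, and the central elements are recorded as exponent vectors.
-/

set_option autoImplicit false

namespace CfsgLib.Schur.Tails

open scoped IsMulCommutative

/-- Sum of exponent vectors modulo `q`. -/
def addV (q : ℕ) : List ℕ → List ℕ → List ℕ
  | [], w => w
  | v, [] => v
  | a :: v, b :: w => (a + b) % q :: addV q v w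

/-- A multiple of an exponent vector modulo `q`. -/
def smulV (q c : ℕ) (v : List ℕ) : List ℕ := v.map fun a => c * a % q

/-- A unit vector. -/
def unitV : ℕ → List ℕ
  | 0 => [1]
  | i + 1 => 0 :: unitV i

/-- The vector is zero modulo `q`. -/
def zeroB (q : ℕ) (v : List ℕ) : Bool := v.all fun a => a % q == 0

/-- The vectors agree modulo `q`. -/
def sameB (q : ℕ) (v w : List ℕ) : Bool := zeroB q (addV q v (smulV q (q - 1) w))

/-- The difference of vectors. -/
def subV (q : ℕ) (v w : List ℕ) : List ℕ := addV q v (smulV q (q - 1) w)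

/-- The sum of the vectors attached to the letters of a word. -/
def wordV (q : ℕ) (f : ℕ → List ℕ) : List ℕ → List ℕ
  | [] => []
  | i :: w => addV q (f i) (wordV q f w)

/-- A combination of given vectors. -/
def combV (q : ℕ) (eqs : List (List ℕ)) : List (ℕ × ℕ) → List ℕ
  | [] => []
  | (k, c) :: cs => addV q (smulV q c (eqs.getD k [])) (combV q eqs cs)

section Ev

variable {Z : Type*} [CommGroup Z]

/-- The value of an exponent vector. -/
def evV : (ℕ → Z) → List ℕ → Z
  | _, [] => 1
  | t, a :: v => t 0 ^ a * evV (fun i => t (i + 1)) v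

variable {q : ℕ}

theorem pow_mod_eq {z : Z} (hz : z ^ q = 1) (a : ℕ) : z ^ (a % q) = z ^ a := by
  conv_rhs => rw [← Nat.mod_add_div a q, pow_add, pow_mul, hz, one_pow, mul_one]

theorem evV_addV : ∀ {t : ℕ → Z}, (∀ i, t i ^ q = 1) → ∀ v w,
    evV t (addV q v w) = evV t v * evV t w
  | t, _, [], w => by simp [addV, evV]
  | t, _, a :: v, [] => by simp [addV, evV]
  | t, ht, a :: v, b :: w => by
    simp only [addV, evV]
    rw [pow_mod_eq (ht 0), evV_addV (fun i => ht (i + 1)) v w, pow_add, mul_mul_mul_comm]

theorem evV_smulV : ∀ {t : ℕ → Z}, (∀ i, t i ^ q = 1) → ∀ c v,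
    evV t (smulV q c v) = evV t v ^ c
  | t, _, c, [] => by simp [smulV, evV]
  | t, ht, c, a :: v => by
    show evV t ((c * a % q) :: smulV q c v) = _
    simp only [evV]
    rw [pow_mod_eq (ht 0), evV_smulV (fun i => ht (i + 1)) c v, mul_pow, ← pow_mul, mul_comm a c]

theorem evV_unitV : ∀ (t : ℕ → Z) (i : ℕ), evV t (unitV i) = t i
  | t, 0 => by simp [unitV, evV]
  | t, i + 1 => by simp [unitV, evV, evV_unitV]

theorem evV_zeroB : ∀ {t : ℕ → Z}, (∀ i, t i ^ q = 1) → ∀ {v}, zeroB q v = true → evV t v = 1
  | t, _, [], _ => rfl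
  | t, ht, a :: v, h => by
    simp only [zeroB, List.all_cons, Bool.and_eq_true, beq_iff_eq] at h
    simp only [evV]
    rw [evV_zeroB (fun i => ht (i + 1)) h.2, mul_one, ← pow_mod_eq (ht 0) a, h.1, pow_zero]

theorem evV_pow_q : ∀ {t : ℕ → Z}, (∀ i, t i ^ q = 1) → ∀ v, evV t v ^ q = 1
  | t, _, [] => one_pow _
  | t, ht, a :: v => by
    rw [evV, mul_pow, evV_pow_q (fun i => ht (i + 1)) v, mul_one, ← pow_mul, mul_comm, pow_mul, ht 0,
      one_pow]

theorem evV_subV {t : ℕ → Z} (ht : ∀ i, t i ^ q = 1) (hq : 1 ≤ q) (v w : List ℕ) :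
    evV t (subV q v w) = evV t v * (evV t w)⁻¹ := by
  rw [subV, evV_addV ht, evV_smulV ht]
  congr 1
  refine eq_inv_of_mul_eq_one_left ?_
  rw [← pow_succ, Nat.sub_add_cancel hq, evV_pow_q ht]

theorem evV_sameB {t : ℕ → Z} (ht : ∀ i, t i ^ q = 1) (hq : 1 ≤ q) {v w : List ℕ}
    (h : sameB q v w = true) : evV t v = evV t w := by
  have e := evV_zeroB ht h
  rw [show addV q v (smulV q (q - 1) w) = subV q v w from rfl, evV_subV ht hq, mul_inv_eq_one] at e
  exact e

theorem evV_wordV {t : ℕ → Z} (ht : ∀ i, t i ^ q = 1) (f : ℕ → List ℕ) :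
    ∀ w, evV t (wordV q f w) = (w.map fun i => evV t (f i)).prod
  | [] => rfl
  | i :: w => by rw [wordV, evV_addV ht, evV_wordV ht f w, List.map_cons, List.prod_cons]

theorem evV_combV {t : ℕ → Z} (ht : ∀ i, t i ^ q = 1) {eqs : List (List ℕ)}
    (h : ∀ e ∈ eqs, evV t e = 1) : ∀ cs, evV t (combV q eqs cs) = 1
  | [] => rfl
  | (k, c) :: cs => by
    rw [combV, evV_addV ht, evV_smulV ht, evV_combV ht h cs, mul_one]
    rcases Nat.lt_or_ge k eqs.length with hk | hk
    · rw [List.getD_eq_getElem _ _ hk, h _ (List.getElem_mem hk), one_pow]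
    · rw [List.getD_eq_default _ _ hk]
      exact one_pow _

end Ev

/-- A rewriting step: the position, the index of the relation and the direction. -/
abbrev Step := ℕ × ℕ × Bool

/-- Perform a step. -/
def stepW (q : ℕ) (rels : List (List ℕ × List ℕ)) (st : Step) (x : List ℕ × List ℕ) :
    Option (List ℕ × List ℕ) :=
  if st.2.1 < rels.length then
    let rel := rels.getD st.2.1 ([], [])
    let old := if st.2.2 then rel.1 else rel.2
    let new := if st.2.2 then rel.2 else rel.1
    if (x.1.drop st.1).take old.length = old then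
      some (x.1.take st.1 ++ new ++ (x.1.drop st.1).drop old.length,
        addV q x.2 (if st.2.2 then unitV st.2.1 else smulV q (q - 1) (unitV st.2.1)))
    else none
  else none

/-- Perform a list of steps. -/
def runW (q : ℕ) (rels : List (List ℕ × List ℕ)) :
    List Step → List ℕ × List ℕ → Option (List ℕ × List ℕ)
  | [], x => some x
  | st :: sts, x =>
    match stepW q rels st x with
    | none => none
    | some y => runW q rels sts y

/-- The value of a word. -/
def evW {M : Type*} [Monoid M] (s : ℕ → M) (w : List ℕ) : M := (w.map s).prod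

theorem evW_append {M : Type*} [Monoid M] (s : ℕ → M) (v w : List ℕ) :
    evW s (v ++ w) = evW s v * evW s w := by simp [evW]

theorem map_evW {M N : Type*} [Monoid M] [Monoid N] (f : M →* N) (s : ℕ → M) (w : List ℕ) :
    f (evW s w) = evW (fun i => f (s i)) w := by
  simp [evW, map_list_prod, List.map_map, Function.comp_def]

variable {E : Type*} [Group E]

/-- The value of a state of the rewriting. -/
def evX (s : ℕ → E) (t : ℕ → Subgroup.center E) (x : List ℕ × List ℕ) : E :=
  evW s x.1 * (evV t x.2 : Subgroup.center E)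

theorem subst_spec {q : ℕ} {s : ℕ → E} {t : ℕ → Subgroup.center E} (ht : ∀ i, t i ^ q = 1)
    (old new tail : List ℕ) (key : evW s old = evW s new * ((evV t tail : Subgroup.center E) : E))
    (x : List ℕ × List ℕ) (pos : ℕ) (h : (x.1.drop pos).take old.length = old) :
    evX s t x = evX s t (x.1.take pos ++ new ++ (x.1.drop pos).drop old.length, addV q x.2 tail) := by
  have hx : x.1 = x.1.take pos ++ old ++ (x.1.drop pos).drop old.length := by
    conv_lhs => rw [← List.take_append_drop pos x.1, ← List.take_append_drop old.length (x.1.drop pos)]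
    rw [h, List.append_assoc]
  show evW s x.1 * _ = _
  conv_lhs => rw [hx]
  simp only [evX, evW_append, key, evV_addV ht, Subgroup.coe_mul]
  have hc : ∀ (z : Subgroup.center E) (g : E), (z : E) * g = g * z := fun z g =>
    (Subgroup.mem_center_iff.1 z.2 g).symm
  simp only [mul_assoc]
  congr 2
  rw [← mul_assoc ((evV t tail : Subgroup.center E) : E), hc (evV t tail), mul_assoc,
    hc (evV t tail)]

theorem stepW_spec {q : ℕ} (hq : 1 ≤ q) {rels : List (List ℕ × List ℕ)} {s : ℕ → E}
    {t : ℕ → Subgroup.center E} (ht : ∀ i, t i ^ q = 1)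
    (hrel : ∀ r < rels.length,
      evW s (rels.getD r ([], [])).1 = evW s (rels.getD r ([], [])).2 * (t r : E))
    {st : Step} {x y : List ℕ × List ℕ} (h : stepW q rels st x = some y) :
    evX s t x = evX s t y := by
  obtain ⟨pos, r, fwd⟩ := st
  have hfw : evW s (rels.getD r ([], [])).1 =
      evW s (rels.getD r ([], [])).2 * ((evV t (unitV r) : Subgroup.center E) : E) ∨
      ¬ r < rels.length := by
    by_cases h1 : r < rels.length
    · left; rw [evV_unitV]; exact hrel r h1
    · exact Or.inr h1
  unfold stepW at h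
  by_cases h1 : r < rels.length
  · have hfw := hfw.resolve_right (not_not.2 h1)
    rw [if_pos h1] at h
    cases fwd
    · simp only [Bool.false_eq_true, ↓reduceIte] at h
      split at h
      · rename_i h2
        rw [Option.some.injEq] at h
        subst h
        refine subst_spec ht _ _ _ ?_ x pos h2
        rw [hfw, mul_assoc, ← Subgroup.coe_mul, evV_smulV ht, ← pow_succ',
          Nat.sub_add_cancel hq, evV_pow_q ht, Subgroup.coe_one, mul_one]
      · exact absurd h (by simp)
    · simp only [↓reduceIte] at h
      split at h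
      · rename_i h2
        rw [Option.some.injEq] at h
        subst h
        exact subst_spec ht _ _ _ hfw x pos h2
      · exact absurd h (by simp)
  · rw [if_neg h1] at h
    exact absurd h (by simp)

theorem runW_spec {q : ℕ} (hq : 1 ≤ q) {rels : List (List ℕ × List ℕ)} {s : ℕ → E}
    {t : ℕ → Subgroup.center E} (ht : ∀ i, t i ^ q = 1)
    (hrel : ∀ r < rels.length,
      evW s (rels.getD r ([], [])).1 = evW s (rels.getD r ([], [])).2 * (t r : E)) :
    ∀ {sts : List Step} {x y : List ℕ × List ℕ}, runW q rels sts x = some y → evX s t x = evX s t y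
  | [], x, y, h => by
    rw [runW, Option.some.injEq] at h
    rw [h]
  | st :: sts, x, y, h => by
    rw [runW] at h
    cases hst : stepW q rels st x with
    | none => rw [hst] at h; exact absurd h (by simp)
    | some z =>
      rw [hst] at h
      exact (stepW_spec hq ht hrel hst).trans (runW_spec hq ht hrel h)

end CfsgLib.Schur.Tails
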