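import Cfsg.Agent.Lib.Tails.Coded
import Cfsg.Agent.Lib.PresCert.Table

/-!
# Certificates for groups acting on a table, with elements given by words

Two words give the same element when they agree on a base.
-/

set_option autoImplicit false

namespace CfsgLib.Schur.Tails.Words

open CfsgLib.PresCert

/-- The letters of a word in the listed words. -/
def catW (gens : List (List ℕ)) : List ℕ → List ℕ
  | [] => []
  | i :: w => catW gens w ++ gens.getD i []

/-- A lower bound by orbits: words in the listed words fixing the earlier points move the next one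
to different places. -/
def orbB (T : Tab) (gens : List (List ℕ)) : List ℕ → List (ℕ × List (List ℕ)) → Bool
  | _, [] => true
  | fixed, (b, reps) :: ls =>
    Nat.blt b T.n && reps.all (fun r => fixed.all fun f => Nat.beq (T.walk f (catW gens r)) f) &&
      decide (reps.map fun r => T.walk b (catW gens r)).Nodup && orbB T gens (fixed ++ [b]) ls

/-- Two words agree on the base. -/
def sameT (T : Tab) (base : List ℕ) (u v : List ℕ) : Bool :=
  base.all fun b => T.walk b u == T.walk b v

/-- The relations and the conjugations of a certificate. -/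
def relsT (T : Tab) (base : List ℕ) (gens : List (List ℕ)) (c : Cert) (hs : List (List ℕ)) : Bool :=
  (gens.all fun w => w.all fun g => Nat.blt g T.ng) && (hs.all fun w => w.all fun g => Nat.blt g T.ng) &&
    (base.all fun b => Nat.blt b T.n) && decide (gens.length = c.n) &&
    decide (hs.length = c.fus.length) &&
    (c.rels.all fun r => sameT T base (catW gens r.1) (catW gens r.2)) &&
    (List.range c.fus.length).all fun i =>
      let f := c.fus.getD i ⟨[], [], []⟩
      (List.range f.xs.length).all fun k =>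
        sameT T base (catW gens (f.xs.getD k []) ++ hs.getD i [])
          (hs.getD i [] ++ catW gens (f.ys.getD k []))

variable {M : Type*} [Group M] {gen : ℕ → M} {T : Tab} {φ : M →* Equiv.Perm (Fin T.n)}

theorem catW_spec {gens : List (List ℕ)} (hg : ∀ w ∈ gens, ∀ g ∈ w, g < T.ng) :
    ∀ w, (∀ g ∈ catW gens w, g < T.ng) ∧
      act gen (catW gens w) = evW (fun i => act gen (gens.getD i [])) w
  | [] => ⟨fun g h => absurd h List.not_mem_nil, by simp [catW, act_nil, evW]⟩
  | i :: w => by
    obtain ⟨h1, h2⟩ := catW_spec hg w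
    refine ⟨fun g h => ?_, by rw [catW, act_append, h2]; simp [evW]⟩
    rw [catW, List.mem_append] at h
    rcases h with h | h
    · exact h1 g h
    · by_cases hi : i < gens.length
      · rw [List.getD_eq_getElem _ _ hi] at h
        exact hg _ (List.getElem_mem hi) g h
      · rw [List.getD_eq_default _ _ (by omega)] at h
        exact absurd h List.not_mem_nil

theorem eq_of_same (R : PresCert.Realised gen T φ) {base : List ℕ} (hb : fixSub φ base = ⊥)
    {u v : List ℕ} (hu : ∀ g ∈ u, g < T.ng) (hv : ∀ g ∈ v, g < T.ng)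
    (h : sameT T base u v = true) : act gen u = act gen v := by
  simp only [sameT, List.all_eq_true, beq_iff_eq] at h
  refine inv_mul_eq_one.1 (Subgroup.mem_bot.1 (hb.le ?_))
  intro i hi
  have e : φ (act gen u) i = φ (act gen v) i := Fin.ext (by
    rw [R.act_apply hu, R.act_apply hv, h _ hi])
  rw [map_mul, map_inv, Equiv.Perm.mul_apply, ← e]
  exact Equiv.symm_apply_apply _ _

theorem evW_mem {K : Subgroup M} {g : ℕ → M} (hg : ∀ i, g i ∈ K) : ∀ w, evW g w ∈ K
  | [] => by simp [evW]
  | i :: w => by
    rw [evW, List.map_cons, List.prod_cons]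
    exact mul_mem (hg i) (evW_mem hg w)

theorem le_card_of_orbB [Finite M] (R : PresCert.Realised gen T φ) {gens : List (List ℕ)}
    (hg : ∀ w ∈ gens, ∀ g ∈ w, g < T.ng) {K : Subgroup M} (hK : ∀ w ∈ gens, act gen w ∈ K) :
    ∀ {fixed : List ℕ} {ls : List (ℕ × List (List ℕ))}, orbB T gens fixed ls = true →
      (ls.map fun l => l.2.length).prod ≤ Nat.card ↥(K ⊓ fixSub φ fixed : Subgroup M)
  | fixed, [], _ => by
    rw [List.map_nil, List.prod_nil]
    exact Nat.card_pos
  | fixed, (b, reps) :: ls, h => by
    simp only [orbB, Bool.and_eq_true, Nat.blt_eq, List.all_eq_true, Nat.beq_eq,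
      decide_eq_true_eq] at h
    obtain ⟨⟨⟨hb, hfix⟩, hnd⟩, hrec⟩ := h
    have ih := le_card_of_orbB R hg hK hrec
    have hgK : ∀ i, act gen (gens.getD i []) ∈ K := fun i => by
      by_cases hi : i < gens.length
      · rw [List.getD_eq_getElem _ _ hi]; exact hK _ (List.getElem_mem hi)
      · rw [List.getD_eq_default _ _ (by omega), act_nil]; exact one_mem K
    have hrep : ∀ r ∈ reps, act gen (catW gens r) ∈ K ⊓ fixSub φ fixed := fun r hr => by
      refine ⟨by rw [(catW_spec hg r).2]; exact evW_mem hgK r, fun i hi => Fin.ext ?_⟩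
      rw [R.act_apply (catW_spec (gen := gen) hg r).1, hfix r hr _ hi]
    have hsub : ∀ x ∈ K ⊓ fixSub φ (fixed ++ [b]), x ∈ K ⊓ fixSub φ fixed := fun x hx =>
      ⟨hx.1, fun i hi => hx.2 i (List.mem_append_left _ hi)⟩
    rw [List.map_cons, List.prod_cons]
    refine le_trans (Nat.mul_le_mul_left _ ih) ?_
    rw [← Nat.card_fin reps.length, ← Nat.card_prod]
    refine Nat.card_le_card_of_injective (fun x : Fin reps.length × ↥(K ⊓ fixSub φ (fixed ++ [b])) =>
      (⟨act gen (catW gens reps[x.1]) * x.2.1, mul_mem (hrep _ (List.getElem_mem _)) (hsub _ x.2.2)⟩ :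
        ↥(K ⊓ fixSub φ fixed : Subgroup M))) ?_
    rintro ⟨i, u⟩ ⟨j, v⟩ e
    have e' : act gen (catW gens reps[i]) * u.1 = act gen (catW gens reps[j]) * v.1 :=
      congrArg Subtype.val e
    have e2 := congrArg (fun m => (φ m ⟨b, hb⟩).val) e'
    simp only [map_mul, Equiv.Perm.mul_apply,
      u.2.2 ⟨b, hb⟩ (List.mem_append_right _ List.mem_cons_self),
      v.2.2 ⟨b, hb⟩ (List.mem_append_right _ List.mem_cons_self)] at e2
    rw [R.act_apply (catW_spec (gen := gen) hg _).1, R.act_apply (catW_spec (gen := gen) hg _).1] at e2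
    have hij : i = j := Fin.ext (by
      have := hnd.getElem_inj_iff (i := i.val) (j := j.val) (hi := by simp) (hj := by simp)
      exact this.1 (by simpa using e2))
    subst hij
    exact Prod.ext rfl (Subtype.ext (mul_left_cancel e'))

theorem realised [Finite M] (R : PresCert.Realised gen T φ) {base : List ℕ}
    (hb : fixSub φ base = ⊥) {c : Cert} (hc : c.checkB = true) {gens hs : List (List ℕ)}
    {ls : List (ℕ × List (List ℕ))} (h : relsT T base gens c hs = true)
    (hm : orbB T gens [] ls = true) (hsize : c.p ^ c.n ≤ (ls.map fun l => l.2.length).prod)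
    (hdiv : ¬ c.p ^ (c.n + 1) ∣ Nat.card M) : c.Realised M := by
  refine ⟨hc, ?_⟩
  simp only [relsT, Bool.and_eq_true, List.all_eq_true, decide_eq_true_eq, List.mem_range,
    Nat.blt_eq] at h
  obtain ⟨⟨⟨⟨⟨⟨hg, hh⟩, hblt⟩, hlen⟩, hhlen⟩, hrel⟩, hfus⟩ := h
  let g : ℕ → M := fun i => act gen (gens.getD i [])
  have hev : ∀ w, act gen (catW gens w) = evW g w := fun w => (catW_spec hg w).2
  have hlt : ∀ w, ∀ a ∈ catW gens w, a < T.ng := fun w => (catW_spec (gen := gen) hg w).1
  refine ⟨g, fun r hr => ?_, fun f hf => ?_, ?_, hdiv⟩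
  · rw [← hev, ← hev]
    exact eq_of_same R hb (hlt _) (hlt _) (hrel r hr)
  · obtain ⟨i, hi, rfl⟩ := List.getElem_of_mem hf
    have hi' : i < hs.length := by omega
    refine ⟨act gen hs[i], fun k hk => ?_⟩
    have h1 := hfus i hi
    simp only [List.getD_eq_getElem _ _ hi, List.getD_eq_getElem _ _ hi'] at h1
    rw [← hev, ← hev, ← act_append, ← act_append]
    have hhi := hh _ (List.getElem_mem hi')
    refine eq_of_same R hb ?_ ?_ (h1 k hk) <;> intro a ha <;>
      rcases List.mem_append.1 ha with ha | ha
    exacts [hlt _ a ha, hhi a ha, hhi a ha, hlt _ a ha]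
  · refine hsize.trans (le_trans (le_card_of_orbB R hg (K := Subgroup.closure (g '' {k | k < c.n}))
      (fun w hw => ?_) hm) (Subgroup.card_le_of_le inf_le_left))
    obtain ⟨i, hi, rfl⟩ := List.getElem_of_mem hw
    refine Subgroup.subset_closure ⟨i, show i < c.n by omega, ?_⟩
    show act gen (gens.getD i []) = _
    rw [List.getD_eq_getElem _ _ hi]

end CfsgLib.Schur.Tails.Words
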